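/-
S5630 project (Aschbacher, linear case), module M8.3, piece M83-D (helper16's sub-farm):
Skolem-Noether for matrix algebras, and "permuting the tensor positions => perm * pure tensor".  (helper8)
-/
import Cfsg.Agent.Lib.H21.AschM83C

set_option autoImplicit false

namespace Cfsg.Agent.Lib.H8.Asch

open Cfsg Cfsg.Geo Cfsg.Agent.Lib.Lead.Asch Cfsg.Agent.Lib.H16.Asch Cfsg.Agent.Lib.H21.Asch
open scoped MatrixGroups Matrix Kronecker

variable {F : Type*} [Field F]

theorem algHom_matrix_inner {m : ℕ} (β : Matrix (Fin m) (Fin m) F →ₐ[F] Matrix (Fin m) (Fin m) F) :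
    ∃ a : GL (Fin m) F, ∀ b, β b =
      (a : Matrix (Fin m) (Fin m) F) * b * ((a⁻¹ : GL (Fin m) F) : Matrix (Fin m) (Fin m) F) := by
  rcases Nat.eq_zero_or_pos m with hm | hm
  · subst hm
    exact ⟨1, fun b => Subsingleton.elim _ _⟩
  haveI : Nonempty (Fin m) := ⟨⟨0, hm⟩⟩
  have hinj : Function.Injective β :=
    RingHom.injective (β : Matrix (Fin m) (Fin m) F →+* Matrix (Fin m) (Fin m) F)
  have hsurj : Function.Surjective β :=
    (LinearMap.injective_iff_surjective (f := β.toLinearMap)).mp hinj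
  let β' : Matrix (Fin m) (Fin m) F ≃ₐ[F] Matrix (Fin m) (Fin m) F :=
    AlgEquiv.ofBijective β ⟨hinj, hsurj⟩
  let f : Module.End F (Fin m → F) ≃ₐ[F] Module.End F (Fin m → F) :=
    (Matrix.toLinAlgEquiv' (R := F) (n := Fin m)).symm.trans (β'.trans Matrix.toLinAlgEquiv')
  obtain ⟨T, hT⟩ := f.eq_linearEquivConjAlgEquiv
  have hTT : (LinearMap.toMatrix' (T : (Fin m → F) →ₗ[F] (Fin m → F))) *
      (LinearMap.toMatrix' (T.symm : (Fin m → F) →ₗ[F] (Fin m → F))) = 1 := by
    rw [← LinearMap.toMatrix'_comp]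
    simp
  have hTT' : (LinearMap.toMatrix' (T.symm : (Fin m → F) →ₗ[F] (Fin m → F))) *
      (LinearMap.toMatrix' (T : (Fin m → F) →ₗ[F] (Fin m → F))) = 1 := by
    rw [← LinearMap.toMatrix'_comp]
    simp
  refine ⟨⟨_, _, hTT, hTT'⟩, fun b => ?_⟩
  have h1 := congrArg (fun g => g (Matrix.toLin' b)) hT
  simp only [f, AlgEquiv.trans_apply, LinearEquiv.conjAlgEquiv_apply] at h1
  have h2 : β b = LinearMap.toMatrix' (Matrix.toLin' (β b)) := by simp
  have h3 : (Matrix.toLinAlgEquiv' (R := F) (n := Fin m)).symm (Matrix.toLin' b) = b := by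
    rw [AlgEquiv.symm_apply_eq]
    rfl
  rw [h3] at h1
  have h4 : Matrix.toLin' (β b) = (T : (Fin m → F) →ₗ[F] (Fin m → F)) ∘ₗ Matrix.toLin' b ∘ₗ
      (T.symm : (Fin m → F) →ₗ[F] (Fin m → F)) := h1
  rw [h2, h4, LinearMap.toMatrix'_comp, LinearMap.toMatrix'_comp, LinearMap.toMatrix'_toLin',
    ← mul_assoc]
  rfl

/-- A matrix commuting with all position embeddings commutes with all pure tensors. -/
theorem commute_pureT_of_commute_posEmb {m t : ℕ}
    (c : Matrix (Fin t → Fin m) (Fin t → Fin m) F)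
    (hc : ∀ i (a : Matrix (Fin m) (Fin m) F), c * posEmb i a = posEmb i a * c)
    (gs : Fin t → Matrix (Fin m) (Fin m) F) : c * pureT gs = pureT gs * c := by
  classical
  have key : ∀ s : Finset (Fin t),
      c * pureT (fun i => if i ∈ s then gs i else 1) =
        pureT (fun i => if i ∈ s then gs i else 1) * c := by
    intro s
    induction s using Finset.induction_on with
    | empty =>
      simp only [Finset.notMem_empty, if_false]
      rw [pureT_one, mul_one, one_mul]
    | insert j s hj ih =>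
      have h1 : (fun i => if i ∈ insert j s then gs i else (1 : Matrix (Fin m) (Fin m) F)) =
          fun i => (if i ∈ s then gs i else 1) *
            (Function.update (fun _ => (1 : Matrix (Fin m) (Fin m) F)) j (gs j)) i := by
        funext i
        by_cases hij : i = j
        · subst hij
          simp [hj]
        · simp [hij]
      rw [h1, pureT_mul]
      have h2 : pureT (Function.update (fun _ => (1 : Matrix (Fin m) (Fin m) F)) j (gs j)) =
          posEmb j (gs j) := rfl
      rw [h2, ← mul_assoc, ih, mul_assoc, hc, ← mul_assoc]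
  have := key Finset.univ
  simpa using this

theorem perm_pure_of_permutes {m t : ℕ} (hm : 0 < m) (ht : 0 < t) (g : GL (Fin t → Fin m) F)
    (π : Equiv.Perm (Fin t))
    (h : ∀ i (a : Matrix (Fin m) (Fin m) F), ∃ a' : Matrix (Fin m) (Fin m) F,
      (g : Matrix (Fin t → Fin m) (Fin t → Fin m) F) * posEmb i a =
        posEmb (π i) a' * (g : Matrix (Fin t → Fin m) (Fin t → Fin m) F)) :
    ∃ gs : Fin t → GL (Fin m) F,
      (g : Matrix (Fin t → Fin m) (Fin t → Fin m) F) =
        permMat π * pureT (fun i => ((gs i : GL (Fin m) F) : Matrix (Fin m) (Fin m) F)) := by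
  classical
  haveI : Nonempty (Fin m) := ⟨⟨0, hm⟩⟩
  -- notation
  obtain ⟨G, hG⟩ : ∃ G : Matrix (Fin t → Fin m) (Fin t → Fin m) F,
      G = (g : Matrix (Fin t → Fin m) (Fin t → Fin m) F) := ⟨_, rfl⟩
  obtain ⟨Gi, hGi⟩ : ∃ Gi : Matrix (Fin t → Fin m) (Fin t → Fin m) F,
      Gi = ((g⁻¹ : GL (Fin t → Fin m) F) : Matrix (Fin t → Fin m) (Fin t → Fin m) F) := ⟨_, rfl⟩
  rw [← hG] at h ⊢
  have hGGi : G * Gi = 1 := by rw [hG, hGi, ← Units.val_mul, mul_inv_cancel, Units.val_one]
  have hGiG : Gi * G = 1 := by rw [hG, hGi, ← Units.val_mul, inv_mul_cancel, Units.val_one]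
  obtain ⟨p, hp⟩ : ∃ p : Matrix (Fin t → Fin m) (Fin t → Fin m) F, p = permMat π := ⟨_, rfl⟩
  obtain ⟨p', hp'⟩ : ∃ p' : Matrix (Fin t → Fin m) (Fin t → Fin m) F, p' = permMat π⁻¹ :=
    ⟨_, rfl⟩
  have hpp : p * p' = 1 := by
    rw [hp, hp', ← permMat_mul, mul_inv_cancel, permMat_one]
  have hpp' : p' * p = 1 := by
    rw [hp, hp', ← permMat_mul, inv_mul_cancel, permMat_one]
  have hp'pos : ∀ i (a : Matrix (Fin m) (Fin m) F), p' * posEmb (π i) a = posEmb i a * p' := by
    intro i a
    rw [hp', permMat_mul_posEmb, Equiv.Perm.inv_def, Equiv.symm_apply_apply]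
  -- `g1 = permMat π⁻¹ * g` normalises every position
  obtain ⟨g1, hg1⟩ : ∃ g1 : Matrix (Fin t → Fin m) (Fin t → Fin m) F, g1 = p' * G := ⟨_, rfl⟩
  obtain ⟨g1i, hg1i⟩ : ∃ g1i : Matrix (Fin t → Fin m) (Fin t → Fin m) F, g1i = Gi * p :=
    ⟨_, rfl⟩
  have h11 : g1 * g1i = 1 := by
    rw [hg1, hg1i]
    calc p' * G * (Gi * p) = p' * (G * Gi) * p := by simp only [mul_assoc]
      _ = 1 := by rw [hGGi, mul_one, hpp']
  have h11' : g1i * g1 = 1 := by
    rw [hg1, hg1i]
    calc Gi * p * (p' * G) = Gi * (p * p') * G := by simp only [mul_assoc]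
      _ = 1 := by rw [hpp, mul_one, hGiG]
  have hnorm : ∀ i (a : Matrix (Fin m) (Fin m) F), ∃ a' : Matrix (Fin m) (Fin m) F,
      g1 * posEmb i a * g1i = posEmb i a' := by
    intro i a
    obtain ⟨a', ha'⟩ := h i a
    refine ⟨a', ?_⟩
    calc g1 * posEmb i a * g1i = p' * (G * posEmb i a) * g1i := by
          rw [hg1]; simp only [mul_assoc]
      _ = (p' * posEmb (π i) a') * G * g1i := by rw [ha']; simp only [mul_assoc]
      _ = posEmb i a' * (g1 * g1i) := by rw [hp'pos, hg1]; simp only [mul_assoc]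
      _ = posEmb i a' := by rw [h11, mul_one]
  choose β hβ using hnorm
  have hinj : ∀ i, Function.Injective (posEmb (R := F) (m := m) (t := t) i) :=
    fun i => posEmb_injective hm i
  -- `β i` is an algebra endomorphism
  have hβ1 : ∀ i, β i 1 = 1 := by
    intro i
    apply hinj i
    rw [← hβ, posEmb_one, mul_one, h11]
  have hβmul : ∀ i a b, β i (a * b) = β i a * β i b := by
    intro i a b
    apply hinj i
    rw [← hβ, posEmb_mul, posEmb_mul, ← hβ, ← hβ]
    calc g1 * (posEmb i a * posEmb i b) * g1i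
        = g1 * posEmb i a * 1 * posEmb i b * g1i := by rw [mul_one]; simp only [mul_assoc]
      _ = g1 * posEmb i a * g1i * (g1 * posEmb i b * g1i) := by
          rw [← h11']; simp only [mul_assoc]
  have hβadd : ∀ i a b, β i (a + b) = β i a + β i b := by
    intro i a b
    apply hinj i
    rw [← hβ, posEmb_add, posEmb_add, ← hβ, ← hβ, mul_add, add_mul]
  have hβsmul : ∀ i (c : F) a, β i (c • a) = c • β i a := by
    intro i c a
    apply hinj i
    rw [← hβ, posEmb_smul, posEmb_smul, ← hβ, Matrix.mul_smul, Matrix.smul_mul]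
  have hβ0 : ∀ i, β i 0 = 0 := by
    intro i
    have := hβsmul i 0 0
    simpa using this
  let B : Fin t → (Matrix (Fin m) (Fin m) F →ₐ[F] Matrix (Fin m) (Fin m) F) := fun i =>
    { toFun := β i
      map_one' := hβ1 i
      map_mul' := hβmul i
      map_zero' := hβ0 i
      map_add' := hβadd i
      commutes' := by
        intro c
        rw [Algebra.algebraMap_eq_smul_one, hβsmul, hβ1] }
  have hB : ∀ i, ∃ a : GL (Fin m) F, ∀ b, β i b =
      (a : Matrix (Fin m) (Fin m) F) * b * ((a⁻¹ : GL (Fin m) F) : Matrix (Fin m) (Fin m) F) :=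
    fun i => algHom_matrix_inner (B i)
  choose a ha using hB
  -- the pure tensor `g0`
  obtain ⟨g0, hg0⟩ : ∃ g0 : Matrix (Fin t → Fin m) (Fin t → Fin m) F,
      g0 = pureT (fun i => ((a i : GL (Fin m) F) : Matrix (Fin m) (Fin m) F)) := ⟨_, rfl⟩
  obtain ⟨g0i, hg0i⟩ : ∃ g0i : Matrix (Fin t → Fin m) (Fin t → Fin m) F,
      g0i = pureT (fun i => (((a i)⁻¹ : GL (Fin m) F) : Matrix (Fin m) (Fin m) F)) := ⟨_, rfl⟩
  have h00 : g0 * g0i = 1 := by
    rw [hg0, hg0i, ← pureT_mul]
    have : (fun i => ((a i : GL (Fin m) F) : Matrix (Fin m) (Fin m) F) *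
        (((a i)⁻¹ : GL (Fin m) F) : Matrix (Fin m) (Fin m) F)) = fun _ => 1 := by
      funext i
      rw [← Units.val_mul, mul_inv_cancel, Units.val_one]
    rw [this, pureT_one]
  have h00' : g0i * g0 = 1 := by
    rw [hg0, hg0i, ← pureT_mul]
    have : (fun i => (((a i)⁻¹ : GL (Fin m) F) : Matrix (Fin m) (Fin m) F) *
        ((a i : GL (Fin m) F) : Matrix (Fin m) (Fin m) F)) = fun _ => 1 := by
      funext i
      rw [← Units.val_mul, inv_mul_cancel, Units.val_one]
    rw [this, pureT_one]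
  have hconj0 : ∀ i b, g0 * posEmb i b * g0i = g1 * posEmb i b * g1i := by
    intro i b
    rw [hβ, ha, hg0, hg0i]
    apply pureT_mul_posEmb
    intro j
    rw [← Units.val_mul, mul_inv_cancel, Units.val_one]
  -- `c = g0⁻¹ g1` commutes with every position embedding
  obtain ⟨c, hc⟩ : ∃ c : Matrix (Fin t → Fin m) (Fin t → Fin m) F, c = g0i * g1 := ⟨_, rfl⟩
  have hccomm : ∀ i b, c * posEmb i b = posEmb i b * c := by
    intro i b
    have h1 : g1 * posEmb i b = g0 * posEmb i b * g0i * g1 := by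
      rw [hconj0]
      calc g1 * posEmb i b = g1 * posEmb i b * (g1i * g1) := by rw [h11', mul_one]
        _ = g1 * posEmb i b * g1i * g1 := by simp only [mul_assoc]
    calc c * posEmb i b = g0i * (g1 * posEmb i b) := by rw [hc]; simp only [mul_assoc]
      _ = (g0i * g0) * posEmb i b * (g0i * g1) := by rw [h1]; simp only [mul_assoc]
      _ = posEmb i b * c := by rw [h00', one_mul, hc]
  have hcs : ∀ x y : Fin t → Fin m, Commute (Matrix.single x y (1 : F)) c := by
    intro x y
    rw [single_eq_pureT]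
    exact (commute_pureT_of_commute_posEmb c hccomm _).symm
  obtain ⟨r, hr⟩ := Matrix.mem_range_scalar_of_commute_single (fun x y _ => hcs x y)
  have hg1eq : g1 = r • g0 := by
    have : g1 = g0 * c := by
      calc g1 = (g0 * g0i) * g1 := by rw [h00, one_mul]
        _ = g0 * c := by rw [hc]; simp only [mul_assoc]
    rw [this, ← hr, Matrix.scalar_apply, ← Matrix.smul_one_eq_diagonal, Matrix.mul_smul, mul_one]
  have hr0 : r ≠ 0 := by
    rintro rfl
    rw [zero_smul] at hg1eq
    have : (1 : Matrix (Fin t → Fin m) (Fin t → Fin m) F) = 0 := by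
      rw [← h11, hg1eq, zero_mul]
    exact one_ne_zero this
  -- absorb the scalar in position 0
  let i0 : Fin t := ⟨0, ht⟩
  let su : GL (Fin m) F :=
    ⟨r • 1, r⁻¹ • 1, by rw [Matrix.smul_mul, Matrix.mul_smul, mul_one, smul_smul,
      mul_inv_cancel₀ hr0, one_smul], by rw [Matrix.smul_mul, Matrix.mul_smul, mul_one, smul_smul,
      inv_mul_cancel₀ hr0, one_smul]⟩
  refine ⟨fun i => if i = i0 then a i0 * su else a i, ?_⟩
  have h5 : (fun i => (((if i = i0 then a i0 * su else a i : GL (Fin m) F)) :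
      Matrix (Fin m) (Fin m) F)) =
      Function.update (fun i => ((a i : GL (Fin m) F) : Matrix (Fin m) (Fin m) F)) i0
        (r • ((a i0 : GL (Fin m) F) : Matrix (Fin m) (Fin m) F)) := by
    funext i
    by_cases hi : i = i0
    · subst hi
      simp only [if_true, Function.update_self, Units.val_mul, su, Matrix.mul_smul, mul_one]
    · simp only [hi, if_false, Function.update_of_ne hi]
  rw [h5, pureT_update_smul, Function.update_eq_self, ← hg0, ← hg1eq, hg1, ← hp, ← mul_assoc, hpp,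
    one_mul]

end Cfsg.Agent.Lib.H8.Asch
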