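/-
S5630 project (Aschbacher, linear case), module M2 (Clifford), part a: the enveloping algebra of a
subgroup `N ≤ GL_n(F)` and `F^n` as a module over it.  (helper8)
-/
import Cfsg.Agent.Lib.Lead.AschDefs

set_option autoImplicit false

namespace Cfsg.Agent.Lib.H8.Asch

open Cfsg Cfsg.Geo Cfsg.Agent.Lib.Lead.Asch
open scoped MatrixGroups Matrix Kronecker

variable {F : Type*} [Field F] {n : ℕ}

/-- The `F`-algebra of endomorphisms of `F^n` generated by a subgroup `N` of `GL_n(F)`.  `F^n` is a
module over it (instance `Subalgebra.moduleLeft`), `a • v = a v`. -/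
noncomputable def nAlg (N : Subgroup (GL (Fin n) F)) : Subalgebra F (Module.End F (Fin n → F)) :=
  Algebra.adjoin F ((fun g : GL (Fin n) F => Matrix.toLin' (g : Matrix (Fin n) (Fin n) F)) ''
    (N : Set (GL (Fin n) F)))

variable (N : Subgroup (GL (Fin n) F))

/-- (Helps instance search: `Ring (Module.End ..)` is not found when nested.) -/
noncomputable instance nAlgRing : Ring (nAlg N) := inferInstance

theorem toLin'_mem_nAlg {x : GL (Fin n) F} (hx : x ∈ N) :
    Matrix.toLin' (x : Matrix (Fin n) (Fin n) F) ∈ nAlg N :=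
  Algebra.subset_adjoin ⟨x, hx, rfl⟩

theorem nAlg_smul_def (a : nAlg N) (v : Fin n → F) :
    a • v = (a : Module.End F (Fin n → F)) v := rfl

instance nAlg_finite : Module.Finite (nAlg N) (Fin n → F) :=
  Module.Finite.of_restrictScalars_finite F _ _

instance nAlg_artinian : IsArtinian (nAlg N) (Fin n → F) := isArtinian_of_tower F inferInstance

instance nAlg_noetherian : IsNoetherian (nAlg N) (Fin n → F) :=
  isNoetherian_of_tower F inferInstance

/-- An `N`-invariant `F`-subspace is stable under the whole algebra. -/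
theorem nAlg_apply_mem {W : Submodule F (Fin n → F)}
    (hW : ∀ x ∈ N, W.map (Matrix.toLin' (x : Matrix (Fin n) (Fin n) F)) ≤ W)
    {a : Module.End F (Fin n → F)} (ha : a ∈ nAlg N) {v : Fin n → F} (hv : v ∈ W) : a v ∈ W := by
  induction ha using Algebra.adjoin_induction generalizing v with
  | mem a ha =>
    obtain ⟨x, hx, rfl⟩ := ha
    exact hW x hx (Submodule.mem_map_of_mem hv)
  | algebraMap r =>
    rw [Module.algebraMap_end_apply]
    exact W.smul_mem r hv
  | add a b _ _ iha ihb =>
    rw [LinearMap.add_apply]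
    exact W.add_mem (iha hv) (ihb hv)
  | mul a b _ _ iha ihb =>
    rw [Module.End.mul_apply]
    exact iha (ihb hv)

/-- An `N`-invariant `F`-subspace as a submodule over the algebra. -/
def subOf (W : Submodule F (Fin n → F))
    (hW : ∀ x ∈ N, W.map (Matrix.toLin' (x : Matrix (Fin n) (Fin n) F)) ≤ W) :
    Submodule (nAlg N) (Fin n → F) where
  carrier := W
  add_mem' := W.add_mem
  zero_mem' := W.zero_mem
  smul_mem' := fun a _ hv => nAlg_apply_mem N hW a.2 hv

@[simp] theorem mem_subOf {W : Submodule F (Fin n → F)}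
    {hW : ∀ x ∈ N, W.map (Matrix.toLin' (x : Matrix (Fin n) (Fin n) F)) ≤ W} {v : Fin n → F} :
    v ∈ subOf N W hW ↔ v ∈ W := Iff.rfl

@[simp] theorem restrictScalars_subOf {W : Submodule F (Fin n → F)}
    {hW : ∀ x ∈ N, W.map (Matrix.toLin' (x : Matrix (Fin n) (Fin n) F)) ≤ W} :
    (subOf N W hW).restrictScalars F = W := rfl

/-- A submodule over the algebra is `N`-invariant. -/
theorem map_restrictScalars_le (m : Submodule (nAlg N) (Fin n → F)) {x : GL (Fin n) F}
    (hx : x ∈ N) :
    (m.restrictScalars F).map (Matrix.toLin' (x : Matrix (Fin n) (Fin n) F)) ≤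
      m.restrictScalars F := by
  rintro _ ⟨v, hv, rfl⟩
  exact m.smul_mem ⟨_, toLin'_mem_nAlg N hx⟩ hv

/-- `toLin'` of an invertible matrix as a linear equivalence. -/
noncomputable def glEquiv (g : GL (Fin n) F) : (Fin n → F) ≃ₗ[F] (Fin n → F) :=
  LinearEquiv.ofLinearMap (Matrix.toLin' (g : Matrix (Fin n) (Fin n) F))
    (Matrix.toLin' ((g⁻¹ : GL (Fin n) F) : Matrix (Fin n) (Fin n) F))
    (by rw [← Matrix.toLin'_mul, ← Units.val_mul, mul_inv_cancel, Units.val_one, Matrix.toLin'_one])
    (by rw [← Matrix.toLin'_mul, ← Units.val_mul, inv_mul_cancel, Units.val_one, Matrix.toLin'_one])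

@[simp] theorem glEquiv_apply (g : GL (Fin n) F) (v : Fin n → F) :
    glEquiv g v = (g : Matrix (Fin n) (Fin n) F) *ᵥ v := by
  simp [glEquiv]

theorem glEquiv_symm_apply (g : GL (Fin n) F) (v : Fin n → F) :
    (glEquiv g).symm v = ((g⁻¹ : GL (Fin n) F) : Matrix (Fin n) (Fin n) F) *ᵥ v := by
  simp [glEquiv]

theorem glEquiv_mul (g h : GL (Fin n) F) (v : Fin n → F) :
    glEquiv (g * h) v = glEquiv g (glEquiv h v) := by
  simp [Matrix.mulVec_mulVec]

theorem glEquiv_inv_apply_apply (g : GL (Fin n) F) (v : Fin n → F) :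
    glEquiv g⁻¹ (glEquiv g v) = v := by
  rw [← glEquiv_mul, inv_mul_cancel]; simp

theorem glEquiv_apply_inv_apply (g : GL (Fin n) F) (v : Fin n → F) :
    glEquiv g (glEquiv g⁻¹ v) = v := by
  rw [← glEquiv_mul, mul_inv_cancel]; simp

/-- `g` normalises `N` (in the form needed below): `g⁻¹ x g ∈ N` for `x ∈ N`. -/
def Normalises (g : GL (Fin n) F) : Prop := ∀ x ∈ N, g⁻¹ * x * g ∈ N

theorem normalises_of_mem {H : Subgroup (GL (Fin n) F)} (hnorm : NormalizedBy H N)
    {g : GL (Fin n) F} (hg : g ∈ H) : Normalises N g := fun x hx => by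
  have := hnorm g⁻¹ (H.inv_mem hg) x hx
  rwa [inv_inv] at this

theorem normalises_inv_of_mem {H : Subgroup (GL (Fin n) F)} (hnorm : NormalizedBy H N)
    {g : GL (Fin n) F} (hg : g ∈ H) : Normalises N g⁻¹ :=
  normalises_of_mem N hnorm (H.inv_mem hg)

/-- Conjugation by a normalising element preserves the algebra. -/
theorem conj_mem_nAlg {g : GL (Fin n) F} (hg : Normalises N g)
    {a : Module.End F (Fin n → F)} (ha : a ∈ nAlg N) :
    ((glEquiv g).symm : (Fin n → F) →ₗ[F] (Fin n → F)) * a *
      ((glEquiv g) : (Fin n → F) →ₗ[F] (Fin n → F)) ∈ nAlg N := by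
  induction ha using Algebra.adjoin_induction with
  | mem a ha =>
    obtain ⟨x, hx, rfl⟩ := ha
    have h1 : ((glEquiv g).symm : (Fin n → F) →ₗ[F] (Fin n → F)) *
        Matrix.toLin' (x : Matrix (Fin n) (Fin n) F) *
        ((glEquiv g) : (Fin n → F) →ₗ[F] (Fin n → F)) =
        Matrix.toLin' ((g⁻¹ * x * g : GL (Fin n) F) : Matrix (Fin n) (Fin n) F) := by
      apply LinearMap.ext
      intro v
      simp [glEquiv_symm_apply, Matrix.mulVec_mulVec, mul_assoc]
    rw [h1]
    exact toLin'_mem_nAlg N (hg x hx)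
  | algebraMap r =>
    have h1 : ((glEquiv g).symm : (Fin n → F) →ₗ[F] (Fin n → F)) *
        algebraMap F (Module.End F (Fin n → F)) r *
        ((glEquiv g) : (Fin n → F) →ₗ[F] (Fin n → F)) =
        algebraMap F (Module.End F (Fin n → F)) r := by
      apply LinearMap.ext
      intro v
      simp only [Module.End.mul_apply, LinearEquiv.coe_coe, Module.algebraMap_end_apply,
        map_smul, LinearEquiv.symm_apply_apply]
    rw [h1]
    exact (nAlg N).algebraMap_mem r
  | add a b _ _ iha ihb =>
    rw [mul_add, add_mul]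
    exact (nAlg N).add_mem iha ihb
  | mul a b _ _ iha ihb =>
    have h1 : ((glEquiv g).symm : (Fin n → F) →ₗ[F] (Fin n → F)) * (a * b) *
        ((glEquiv g) : (Fin n → F) →ₗ[F] (Fin n → F)) =
        (((glEquiv g).symm : (Fin n → F) →ₗ[F] (Fin n → F)) * a *
          ((glEquiv g) : (Fin n → F) →ₗ[F] (Fin n → F))) *
        (((glEquiv g).symm : (Fin n → F) →ₗ[F] (Fin n → F)) * b *
          ((glEquiv g) : (Fin n → F) →ₗ[F] (Fin n → F))) := by
      apply LinearMap.ext
      intro v
      simp
    rw [h1]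
    exact (nAlg N).mul_mem iha ihb

/-- The twist of an algebra element by a normalising `g`: `g⁻¹ a g`. -/
noncomputable def twist {g : GL (Fin n) F} (hg : Normalises N g) (a : nAlg N) : nAlg N :=
  ⟨_, conj_mem_nAlg N hg a.2⟩

theorem twist_smul {g : GL (Fin n) F} (hg : Normalises N g) (a : nAlg N) (v : Fin n → F) :
    a • glEquiv g v = glEquiv g (twist N hg a • v) := by
  simp only [nAlg_smul_def, twist, Module.End.mul_apply, LinearEquiv.coe_coe,
    LinearEquiv.apply_symm_apply]

/-- The image `g m` of a submodule under a normalising element, again a submodule. -/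
noncomputable def conjSub {g : GL (Fin n) F} (hg : Normalises N g)
    (m : Submodule (nAlg N) (Fin n → F)) : Submodule (nAlg N) (Fin n → F) where
  carrier := (m.restrictScalars F).map ((glEquiv g) : (Fin n → F) →ₗ[F] (Fin n → F))
  add_mem' := Submodule.add_mem _
  zero_mem' := Submodule.zero_mem _
  smul_mem' := by
    rintro a _ ⟨v, hv, rfl⟩
    refine ⟨twist N hg a • v, m.smul_mem _ hv, ?_⟩
    rw [LinearEquiv.coe_coe, twist_smul]

theorem mem_conjSub {g : GL (Fin n) F} (hg : Normalises N g)
    {m : Submodule (nAlg N) (Fin n → F)} {w : Fin n → F} :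
    w ∈ conjSub N hg m ↔ ∃ v ∈ m, glEquiv g v = w := Iff.rfl

theorem mem_conjSub' {g : GL (Fin n) F} (hg : Normalises N g)
    {m : Submodule (nAlg N) (Fin n → F)} {w : Fin n → F} :
    w ∈ conjSub N hg m ↔ glEquiv g⁻¹ w ∈ m := by
  rw [mem_conjSub]
  constructor
  · rintro ⟨v, hv, rfl⟩
    rwa [glEquiv_inv_apply_apply]
  · intro h
    exact ⟨_, h, glEquiv_apply_inv_apply g w⟩

theorem restrictScalars_conjSub {g : GL (Fin n) F} (hg : Normalises N g)
    (m : Submodule (nAlg N) (Fin n → F)) :
    (conjSub N hg m).restrictScalars F =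
      (m.restrictScalars F).map (Matrix.toLin' (g : Matrix (Fin n) (Fin n) F)) := by
  ext w
  simp only [Submodule.restrictScalars_mem, mem_conjSub, Submodule.mem_map, glEquiv_apply,
    Matrix.toLin'_apply]

theorem conjSub_mono {g : GL (Fin n) F} (hg : Normalises N g)
    {m m' : Submodule (nAlg N) (Fin n → F)} (h : m ≤ m') : conjSub N hg m ≤ conjSub N hg m' := by
  rintro _ ⟨v, hv, rfl⟩
  exact ⟨v, h hv, rfl⟩

theorem conjSub_conjSub_inv {g : GL (Fin n) F} (hg : Normalises N g) (hg' : Normalises N g⁻¹)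
    (m : Submodule (nAlg N) (Fin n → F)) : conjSub N hg (conjSub N hg' m) = m := by
  ext w
  rw [mem_conjSub', mem_conjSub', inv_inv, glEquiv_apply_inv_apply]

theorem conjSub_inv_conjSub {g : GL (Fin n) F} (hg : Normalises N g) (hg' : Normalises N g⁻¹)
    (m : Submodule (nAlg N) (Fin n → F)) : conjSub N hg' (conjSub N hg m) = m := by
  ext w
  rw [mem_conjSub', mem_conjSub', inv_inv, glEquiv_inv_apply_apply]

theorem conjSub_mul {g h : GL (Fin n) F} (hg : Normalises N g) (hh : Normalises N h)
    (hgh : Normalises N (g * h)) (m : Submodule (nAlg N) (Fin n → F)) :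
    conjSub N hgh m = conjSub N hg (conjSub N hh m) := by
  ext w
  rw [mem_conjSub', mem_conjSub', mem_conjSub', mul_inv_rev, glEquiv_mul]

/-- The order automorphism of the lattice of submodules induced by a normalising element. -/
noncomputable def conjIso {g : GL (Fin n) F} (hg : Normalises N g) (hg' : Normalises N g⁻¹) :
    Submodule (nAlg N) (Fin n → F) ≃o Submodule (nAlg N) (Fin n → F) where
  toFun := conjSub N hg
  invFun := conjSub N hg'
  left_inv := conjSub_inv_conjSub N hg hg'
  right_inv := conjSub_conjSub_inv N hg hg'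
  map_rel_iff' := by
    intro a b
    constructor
    · intro h
      have := conjSub_mono N hg' h
      simpa [conjSub_inv_conjSub N hg hg'] using this
    · exact conjSub_mono N hg

@[simp] theorem conjIso_apply {g : GL (Fin n) F} (hg : Normalises N g) (hg' : Normalises N g⁻¹)
    (m : Submodule (nAlg N) (Fin n → F)) : conjIso N hg hg' m = conjSub N hg m := rfl

/-- The image of a simple submodule is simple. -/
theorem isSimpleModule_conjSub {g : GL (Fin n) F} (hg : Normalises N g) (hg' : Normalises N g⁻¹)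
    (m : Submodule (nAlg N) (Fin n → F)) [hm : IsSimpleModule (nAlg N) m] :
    IsSimpleModule (nAlg N) (conjSub N hg m) := by
  rw [isSimpleModule_iff_isAtom] at hm ⊢
  exact (OrderIso.isAtom_iff (conjIso N hg hg') m).mpr hm

end Cfsg.Agent.Lib.H8.Asch
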