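/-
S5630 project (Aschbacher, linear case), modules M5a, M5b: the degenerate cases `d ≤ 1`, `k ≤ 1` of a
homogeneous restriction.  Also a general transfer lemma for (absolute) irreducibility along a linear
equivalence.  (helper8)
-/
import Cfsg.Agent.Lib.H8.AschM2a

set_option autoImplicit false

namespace Cfsg.Agent.Lib.H8.Asch

open Cfsg Cfsg.Geo Cfsg.Agent.Lib.Lead.Asch
open scoped MatrixGroups Matrix Kronecker

variable {F : Type*} [Field F]

/-- Transfer of irreducibility along a linear equivalence `φ` intertwining the two sets of matrices. -/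
theorem actsIrreducibly_transfer {ι κ : Type} [Fintype ι] [DecidableEq ι] [Fintype κ]
    [DecidableEq κ] (φ : (ι → F) ≃ₗ[F] (κ → F)) (S : Set (Matrix ι ι F)) (S' : Set (Matrix κ κ F))
    (h' : ∀ s' ∈ S', ∃ s ∈ S, ∀ v, φ (s *ᵥ v) = s' *ᵥ φ v)
    (hirr : ActsIrreducibly S') : ActsIrreducibly S := by
  intro W hW
  have h1 : ∀ s' ∈ S', (W.map (φ : (ι → F) →ₗ[F] (κ → F))).map (Matrix.toLin' s') ≤
      W.map (φ : (ι → F) →ₗ[F] (κ → F)) := by
    rintro s' hs' _ ⟨_, ⟨w, hw, rfl⟩, rfl⟩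
    obtain ⟨s, hs, hss⟩ := h' s' hs'
    refine ⟨s *ᵥ w, ?_, ?_⟩
    · have := hW s hs (Submodule.mem_map_of_mem hw)
      rwa [Matrix.toLin'_apply] at this
    · rw [LinearEquiv.coe_coe, hss w, Matrix.toLin'_apply]
  rcases hirr _ h1 with h | h
  · left
    rwa [Submodule.map_eq_bot_iff] at h
  · right
    have : W.map (φ : (ι → F) →ₗ[F] (κ → F)) = (⊤ : Submodule F (ι → F)).map
        (φ : (ι → F) →ₗ[F] (κ → F)) := by
      rw [h, Submodule.map_top, LinearEquiv.range]
    exact Submodule.map_injective_of_injective φ.injective this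

/-- Transfer of absolute irreducibility along a linear equivalence `φ` intertwining the two sets of
matrices. -/
theorem actsAbsolutelyIrreducibly_transfer {ι κ : Type} [Fintype ι] [DecidableEq ι] [Fintype κ]
    [DecidableEq κ] (φ : (ι → F) ≃ₗ[F] (κ → F)) (S : Set (Matrix ι ι F)) (S' : Set (Matrix κ κ F))
    (h' : ∀ s' ∈ S', ∃ s ∈ S, ∀ v, φ (s *ᵥ v) = s' *ᵥ φ v)
    (habs : ActsAbsolutelyIrreducibly S') : ActsAbsolutelyIrreducibly S := by
  refine ⟨actsIrreducibly_transfer φ S S' h' habs.1, fun M hM => ?_⟩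
  set M' : Matrix κ κ F := LinearMap.toMatrix'
    ((φ : (ι → F) →ₗ[F] (κ → F)) ∘ₗ Matrix.toLin' M ∘ₗ (φ.symm : (κ → F) →ₗ[F] (ι → F))) with hM'
  have hM'v : ∀ u, M' *ᵥ u = φ (M *ᵥ φ.symm u) := by
    intro u
    rw [hM', ← Matrix.toLin'_apply, Matrix.toLin'_toMatrix']
    simp
  have hcomm : ∀ s' ∈ S', M' * s' = s' * M' := by
    intro s' hs'
    obtain ⟨s, hs, hss⟩ := h' s' hs'
    apply Matrix.toLin'.injective
    apply LinearMap.ext
    intro u
    rw [Matrix.toLin'_mul, Matrix.toLin'_mul, LinearMap.comp_apply, LinearMap.comp_apply,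
      Matrix.toLin'_apply, Matrix.toLin'_apply, Matrix.toLin'_apply, Matrix.toLin'_apply,
      hM'v, hM'v]
    have h2 : s' *ᵥ u = φ (s *ᵥ φ.symm u) := by
      rw [hss, LinearEquiv.apply_symm_apply]
    rw [h2, LinearEquiv.symm_apply_apply, ← hss, Matrix.mulVec_mulVec, Matrix.mulVec_mulVec,
      hM s hs]
  obtain ⟨c, hc⟩ := habs.2 M' hcomm
  refine ⟨c, ?_⟩
  apply Matrix.toLin'.injective
  apply LinearMap.ext
  intro v
  have h3 := hM'v (φ v)
  rw [hc, LinearEquiv.symm_apply_apply, Matrix.smul_mulVec, Matrix.one_mulVec, ← map_smul] at h3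
  have h4 := φ.injective h3
  rw [Matrix.toLin'_apply, Matrix.toLin'_apply, Matrix.smul_mulVec, Matrix.one_mulVec, ← h4]

variable {n : ℕ}

/-- **M5a**. -/
theorem le_scalars_of_homog_d_le_one (N : Subgroup (GL (Fin n) F)) (D : HomogData N)
    (hd : D.d ≤ 1) : N ≤ scalars (Fin n) F := by
  revert hd
  obtain ⟨d, k, e, P, ρ, -, heq⟩ := D
  intro hd
  simp only at hd
  intro x hx
  rw [mem_scalars_iff]
  -- the unit
  have hdet : IsUnit ((ρ ⟨x, hx⟩ : GL (Fin d) F) : Matrix (Fin d) (Fin d) F).det :=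
    (Matrix.isUnit_iff_isUnit_det _).mp (Units.isUnit _)
  have hsub : Subsingleton (Fin d) := by
    constructor
    intro a b
    apply Fin.ext
    have := a.2
    have := b.2
    omega
  have hρ : ((ρ ⟨x, hx⟩ : GL (Fin d) F) : Matrix (Fin d) (Fin d) F) =
      ((ρ ⟨x, hx⟩ : GL (Fin d) F) : Matrix (Fin d) (Fin d) F).det •
        (1 : Matrix (Fin d) (Fin d) F) := by
    ext a b
    have hab : a = b := Subsingleton.elim a b
    subst hab
    rw [Matrix.smul_apply, Matrix.one_apply_eq, smul_eq_mul, mul_one]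
    rcases Nat.lt_or_ge 0 d with h0 | h0
    · haveI : Unique (Fin d) := ⟨⟨a⟩, fun b => Subsingleton.elim _ _⟩
      rw [Matrix.det_unique]
      have : a = default := Subsingleton.elim _ _
      rw [this]
    · exact absurd a.2 (by omega)
  refine ⟨hdet.unit, ?_⟩
  have h1 := heq ⟨x, hx⟩
  rw [hρ, Matrix.smul_kronecker, Matrix.one_kronecker_one] at h1
  have h2 : Matrix.reindex e.symm e.symm
      (((ρ ⟨x, hx⟩ : GL (Fin d) F) : Matrix (Fin d) (Fin d) F).det •
        (1 : Matrix (Fin d × Fin k) (Fin d × Fin k) F)) =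
      ((ρ ⟨x, hx⟩ : GL (Fin d) F) : Matrix (Fin d) (Fin d) F).det •
        (1 : Matrix (Fin n) (Fin n) F) := by
    ext a b
    simp [Matrix.one_apply]
  rw [h2] at h1
  have h3 : (x : Matrix (Fin n) (Fin n) F) =
      ((P⁻¹ : GL (Fin n) F) : Matrix (Fin n) (Fin n) F) *
        ((P * x * P⁻¹ : GL (Fin n) F) : Matrix (Fin n) (Fin n) F) *
        (P : Matrix (Fin n) (Fin n) F) := by
    rw [← Units.val_mul, ← Units.val_mul]
    congr 1
    group
  rw [h3]
  rw [h1, Matrix.mul_smul, Matrix.mul_one, Matrix.smul_mul, ← Units.val_mul, inv_mul_cancel,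
    Units.val_one]
  rfl

/-- **M5b**. -/
theorem absIrr_of_homog_k_le_one (hn : 0 < n) (N : Subgroup (GL (Fin n) F)) (D : HomogData N)
    (habs : ActsAbsolutelyIrreducibly (repSet D.ρ)) (hk : D.k ≤ 1) :
    ActsAbsolutelyIrreducibly (matrixSet N) := by
  revert habs hk
  obtain ⟨d, k, e, P, ρ, -, heq⟩ := D
  intro habs hk
  simp only at hk habs
  have hk1 : k = 1 := by
    rcases Nat.eq_zero_or_pos k with h0 | h0
    · exfalso
      subst h0
      exact (e ⟨0, hn⟩).2.elim0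
    · omega
  subst hk1
  -- the re-indexing `Fin n ≃ Fin d`
  let e' : Fin n ≃ Fin d := e.trans (Equiv.prodUnique (Fin d) (Fin 1))
  have he' : ∀ l, e' l = (e l).1 := fun l => rfl
  have he'2 : ∀ l l', (e l).2 = (e l').2 := fun l l' => Subsingleton.elim _ _
  let φ : (Fin n → F) ≃ₗ[F] (Fin d → F) :=
    (glEquiv P).trans (LinearEquiv.funCongrLeft F F e'.symm)
  have hφ : ∀ v i, φ v i = ((P : Matrix (Fin n) (Fin n) F) *ᵥ v) (e'.symm i) := by
    intro v i
    simp [φ, LinearEquiv.funCongrLeft_apply, LinearMap.funLeft_apply]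
  refine actsAbsolutelyIrreducibly_transfer φ _ _ ?_ habs
  rintro _ ⟨y, rfl⟩
  refine ⟨_, ⟨(y : GL (Fin n) F), y.2, rfl⟩, fun v => ?_⟩
  funext i
  rw [hφ]
  have h1 : (P : Matrix (Fin n) (Fin n) F) *ᵥ (((y : GL (Fin n) F) : Matrix (Fin n) (Fin n) F) *ᵥ v)
      = ((P * (y : GL (Fin n) F) * P⁻¹ : GL (Fin n) F) : Matrix (Fin n) (Fin n) F) *ᵥ
        ((P : Matrix (Fin n) (Fin n) F) *ᵥ v) := by
    rw [Matrix.mulVec_mulVec, Matrix.mulVec_mulVec, ← Units.val_mul, ← Units.val_mul]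
    congr 2
    group
  rw [h1, heq y]
  simp only [Matrix.mulVec, dotProduct, Matrix.reindex_apply, Matrix.submatrix_apply,
    Equiv.symm_symm, Matrix.kroneckerMap_apply]
  rw [← Equiv.sum_comp e'.symm]
  apply Finset.sum_congr rfl
  intro j _
  have h2 : (e (e'.symm i)).1 = i := by rw [← he', Equiv.apply_symm_apply]
  have h3 : (e (e'.symm j)).1 = j := by rw [← he', Equiv.apply_symm_apply]
  rw [h2, h3, he'2 (e'.symm i) (e'.symm j), Matrix.one_apply_eq, mul_one, hφ]
  rfl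

end Cfsg.Agent.Lib.H8.Asch
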