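import Mathlib
import Cfsg.Prelude.Def_Characters

set_option autoImplicit false

namespace Cfsg.Agent.Lib.H8

open scoped ComplexConjugate
open Finset

/-! ### Sums over a group factoring through a quotient -/

/-- The fibres of the quotient map have the cardinality of the subgroup. -/
theorem card_fiber_mk {G : Type*} [Group G] (A : Subgroup G) (j : G ⧸ A) :
    Nat.card {x : G // (QuotientGroup.mk x : G ⧸ A) = j} = Nat.card A := by
  obtain ⟨x₀, rfl⟩ := QuotientGroup.mk_surjective j
  refine Nat.card_congr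
    { toFun := fun x => ⟨x₀⁻¹ * x.1, QuotientGroup.eq.mp x.2.symm⟩
      invFun := fun a => ⟨x₀ * a.1, by
        rw [eq_comm, QuotientGroup.eq]; simp⟩
      left_inv := fun x => by simp
      right_inv := fun a => by simp }

theorem sum_comp_mk {G : Type*} [Group G] [Fintype G] (A : Subgroup G) [Fintype (G ⧸ A)]
    (F : G ⧸ A → ℂ) :
    ∑ x : G, F (QuotientGroup.mk x) = (Nat.card A : ℂ) * ∑ q : G ⧸ A, F q := by
  classical
  rw [← Fintype.sum_fiberwise' (fun x : G => (QuotientGroup.mk x : G ⧸ A)) F, Finset.mul_sum]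
  apply Finset.sum_congr rfl
  intro j _
  rw [Finset.sum_const, Finset.card_univ, Fintype.card_eq_nat_card, card_fiber_mk, nsmul_eq_mul]

/-! ### Extension by zero and induced functions -/

theorem extendByZero_of_mem {G : Type*} [Group G] (H : Subgroup G) (θ : H → ℂ) {g : G} (hg : g ∈ H) :
    Cfsg.extendByZero H θ g = θ ⟨g, hg⟩ := by
  unfold Cfsg.extendByZero
  exact Subtype.val_injective.extend_apply θ 0 ⟨g, hg⟩

theorem extendByZero_coe {G : Type*} [Group G] (H : Subgroup G) (θ : H → ℂ) (h : H) :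
    Cfsg.extendByZero H θ (h : G) = θ h := by
  unfold Cfsg.extendByZero
  exact Subtype.val_injective.extend_apply θ 0 h

theorem extendByZero_of_not_mem {G : Type*} [Group G] (H : Subgroup G) (θ : H → ℂ) {g : G} (hg : g ∉ H) :
    Cfsg.extendByZero H θ g = 0 := by
  unfold Cfsg.extendByZero
  apply Function.extend_apply'
  rintro ⟨h, rfl⟩
  exact hg h.2

/-- Sum over the group against an extension by zero is a sum over the subgroup. -/
theorem sum_extendByZero_mul {G : Type*} [Group G] [Fintype G] (H : Subgroup G) [Fintype H]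
    (θ : H → ℂ) (f : G → ℂ) :
    ∑ g : G, Cfsg.extendByZero H θ g * f g = ∑ h : H, θ h * f h := by
  symm
  apply Fintype.sum_of_injective (Subtype.val : H → G) Subtype.val_injective
  · intro g hg
    have : g ∉ H := fun h => hg ⟨⟨g, h⟩, rfl⟩
    rw [extendByZero_of_not_mem H θ this, zero_mul]
  · intro h
    rw [extendByZero_coe]

theorem indFun_apply {G : Type*} [Group G] [Fintype G] (H : Subgroup G) (θ : H → ℂ) (g : G) :
    Cfsg.indFun H θ g = (Nat.card H : ℂ)⁻¹ * ∑ x : G, Cfsg.extendByZero H θ (x⁻¹ * g * x) := rfl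

theorem isClassFunction_indFun {G : Type*} [Group G] [Fintype G] (H : Subgroup G) (θ : H → ℂ) :
    Cfsg.IsClassFunction G (Cfsg.indFun H θ) := by
  intro g y
  rw [indFun_apply, indFun_apply]
  congr 1
  apply Fintype.sum_equiv (Equiv.mulLeft y⁻¹)
  intro x
  simp only [Equiv.coe_mulLeft]
  congr 1
  group

theorem classInner_def {G : Type*} [Group G] [Fintype G] (φ ψ : G → ℂ) :
    Cfsg.classInner φ ψ = (Nat.card G : ℂ)⁻¹ * ∑ g : G, φ g * conj (ψ g) := rfl

/-- Frobenius reciprocity for the induced function and a class function of `G`. -/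
theorem frobenius_reciprocity {G : Type*} [Group G] [Fintype G] (H : Subgroup G) [Fintype H]
    (θ : H → ℂ) (χ : G → ℂ) (hχ : Cfsg.IsClassFunction G χ) :
    Cfsg.classInner (Cfsg.indFun H θ) χ = Cfsg.classInner θ (fun h : H => χ h) := by
  rw [classInner_def, classInner_def]
  have hG : (Nat.card G : ℂ) ≠ 0 := Nat.cast_ne_zero.mpr Nat.card_pos.ne'
  have key : ∀ x : G, ∑ g : G, Cfsg.extendByZero H θ (x⁻¹ * g * x) * conj (χ g)
      = ∑ h : H, θ h * conj (χ h) := by
    intro x
    rw [← sum_extendByZero_mul H θ (fun g => conj (χ g))]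
    apply Fintype.sum_equiv (MulAut.conj x⁻¹).toEquiv
    intro g
    simp only [MulEquiv.toEquiv_eq_coe, MulEquiv.coe_toEquiv, MulAut.conj_apply, inv_inv]
    have := hχ g x⁻¹
    rw [inv_inv] at this
    rw [this]
  calc (Nat.card G : ℂ)⁻¹ * ∑ g : G, Cfsg.indFun H θ g * conj (χ g)
      = (Nat.card G : ℂ)⁻¹ * ∑ g : G, (Nat.card H : ℂ)⁻¹ *
          ∑ x : G, Cfsg.extendByZero H θ (x⁻¹ * g * x) * conj (χ g) := by
        congr 1
        apply Finset.sum_congr rfl
        intro g _
        rw [indFun_apply, mul_assoc, Finset.sum_mul]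
    _ = (Nat.card G : ℂ)⁻¹ * ((Nat.card H : ℂ)⁻¹ *
          ∑ x : G, ∑ g : G, Cfsg.extendByZero H θ (x⁻¹ * g * x) * conj (χ g)) := by
        rw [← Finset.mul_sum, Finset.sum_comm]
    _ = (Nat.card G : ℂ)⁻¹ * ((Nat.card H : ℂ)⁻¹ *
          ∑ _x : G, ∑ h : H, θ h * conj (χ h)) := by
        congr 2
        apply Finset.sum_congr rfl
        intro x _
        exact key x
    _ = (Nat.card H : ℂ)⁻¹ * ∑ h : H, θ h * conj (χ h) := by
        rw [Finset.sum_const, Finset.card_univ, nsmul_eq_mul, Fintype.card_eq_nat_card]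
        field_simp

end Cfsg.Agent.Lib.H8
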