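import Mathlib
import Cfsg.Prelude.Def_Characters
import Cfsg.Agent.Lib.H8.ClassFun
import Cfsg.Agent.Lib.L0.CharOps
import Cfsg.Agent.Lib.L0.CharInner

set_option autoImplicit false

namespace Cfsg.Agent.Lib.H8

open scoped ComplexConjugate
open Finset

theorem fun_subtype_congr {G : Type*} [Group G] (H : Subgroup G) (θ : H → ℂ) {a b : G} (ha : a ∈ H)
    (hb : b ∈ H) (hab : a = b) : θ ⟨a, ha⟩ = θ ⟨b, hb⟩ := by
  subst hab; rfl

/-- The conjugate of an irreducible character of a normal subgroup is an irreducible character. -/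
theorem isIrrCharacter_conjNormal {G : Type*} [Group G] (H : Subgroup G) [hN : H.Normal]
    (θ : H → ℂ) (hθ : Cfsg.IsIrrCharacter H θ) (g : G) :
    Cfsg.IsIrrCharacter H (fun h : H => θ ⟨g * h * g⁻¹, hN.conj_mem h h.2 g⟩) := by
  have h1 := Cfsg.Agent.Lib.L0.isIrrCharacter_comp_of_surjective
    ((MulAut.conjNormal g : MulAut H).toMonoidHom) (MulAut.conjNormal g : MulAut H).surjective hθ
  convert h1 using 1
  funext h
  simp only [Function.comp_apply, MulEquiv.coe_toMonoidHom]
  exact congrArg θ (Subtype.ext (MulAut.conjNormal_apply g h).symm)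

/-- The conjugate of a character of a normal subgroup is a character. -/
theorem isCharacter_conjNormal {G : Type*} [Group G] (H : Subgroup G) [hN : H.Normal]
    (θ : H → ℂ) (hθ : Cfsg.IsCharacter H θ) (g : G) :
    Cfsg.IsCharacter H (fun h : H => θ ⟨g * h * g⁻¹, hN.conj_mem h h.2 g⟩) := by
  have h1 := Cfsg.Agent.Lib.L0.isCharacter_comp
    ((MulAut.conjNormal g : MulAut H).toMonoidHom) hθ
  convert h1 using 1
  funext h
  simp only [Function.comp_apply, MulEquiv.coe_toMonoidHom]
  exact congrArg θ (Subtype.ext (MulAut.conjNormal_apply g h).symm)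

/-- Restriction to a normal subgroup `H` of the function induced from `H`. -/
theorem indFun_coe_of_normal {G : Type*} [Group G] [Fintype G] (H : Subgroup G) [hN : H.Normal]
    (θ : H → ℂ) (h : H) :
    Cfsg.indFun H θ (h : G)
      = (Nat.card H : ℂ)⁻¹ * ∑ x : G, θ ⟨x * h * x⁻¹, hN.conj_mem h h.2 x⟩ := by
  rw [indFun_apply]
  congr 1
  rw [← Equiv.sum_comp (Equiv.inv G) (fun x => θ ⟨x * h * x⁻¹, hN.conj_mem h h.2 x⟩)]
  apply Finset.sum_congr rfl
  intro x _
  have hm : x⁻¹ * (h : G) * x ∈ H := by simpa using hN.conj_mem h h.2 x⁻¹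
  rw [extendByZero_of_mem H θ hm]
  simp only [Equiv.inv_apply]
  exact fun_subtype_congr H θ _ _ (by group)

/-- The induced function vanishes off a normal subgroup. -/
theorem indFun_of_not_mem_normal {G : Type*} [Group G] [Fintype G] (H : Subgroup G) [hN : H.Normal]
    (θ : H → ℂ) {g : G} (hg : g ∉ H) : Cfsg.indFun H θ g = 0 := by
  rw [indFun_apply]
  rw [Finset.sum_eq_zero, mul_zero]
  intro x _
  apply extendByZero_of_not_mem
  intro hx
  apply hg
  have := hN.conj_mem _ hx x
  simpa [mul_assoc] using this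

theorem extendByZero_conjNormal {G : Type*} [Group G] (H : Subgroup G) [hN : H.Normal]
    (θ : H → ℂ) (g z : G) :
    Cfsg.extendByZero H (fun h : H => θ ⟨g * h * g⁻¹, hN.conj_mem h h.2 g⟩) z
      = Cfsg.extendByZero H θ (g * z * g⁻¹) := by
  by_cases hz : z ∈ H
  · rw [extendByZero_of_mem H _ hz, extendByZero_of_mem H θ (hN.conj_mem z hz g)]
  · rw [extendByZero_of_not_mem H _ hz, extendByZero_of_not_mem H θ]
    intro hx
    apply hz
    have := hN.conj_mem _ hx g⁻¹
    simpa [mul_assoc] using this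

/-- Conjugate functions on a normal subgroup induce the same function. -/
theorem indFun_conjNormal {G : Type*} [Group G] [Fintype G] (H : Subgroup G) [hN : H.Normal]
    (θ : H → ℂ) (g : G) :
    Cfsg.indFun H (fun h : H => θ ⟨g * h * g⁻¹, hN.conj_mem h h.2 g⟩) = Cfsg.indFun H θ := by
  funext y
  rw [indFun_apply, indFun_apply]
  congr 1
  apply Fintype.sum_equiv (Equiv.mulRight g⁻¹)
  intro x
  rw [extendByZero_conjNormal]
  simp only [Equiv.coe_mulRight]
  congr 1
  group

end Cfsg.Agent.Lib.H8
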