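import Mathlib
import Cfsg.Prelude.Def_Characters
import Cfsg.Agent.Lib.L0.CharOps
import Cfsg.Agent.Lib.L0.CharInner
import Cfsg.Agent.Lib.H24.CharOrth

set_option autoImplicit false

/-! # Generalized characters: integer multiplicities, small norms -/

namespace Cfsg.Agent.Lib.H8

open scoped ComplexConjugate
open Cfsg.Agent.Lib.L0 Cfsg.Agent.Lib.H24

section IntSums

/-- A sum of integer squares equal to one has exactly one nonzero term, equal to `±1`. -/
theorem int_sq_sum_eq_one {ι : Type*} [DecidableEq ι] (s : Finset ι) (f : ι → ℤ)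
    (h : ∑ i ∈ s, f i ^ 2 = 1) :
    ∃ i₀ ∈ s, (f i₀ = 1 ∨ f i₀ = -1) ∧ ∀ j ∈ s, j ≠ i₀ → f j = 0 := by
  have hex : ∃ i₀ ∈ s, f i₀ ≠ 0 := by
    by_contra hno
    push Not at hno
    rw [Finset.sum_eq_zero (fun i hi => by rw [hno i hi]; ring)] at h
    exact zero_ne_one h
  obtain ⟨i₀, hi₀, hne⟩ := hex
  rw [← Finset.add_sum_erase s _ hi₀] at h
  have hpos : 1 ≤ f i₀ ^ 2 := by
    have : 0 < f i₀ ^ 2 := by positivity
    linarith
  have hnn : 0 ≤ ∑ i ∈ s.erase i₀, f i ^ 2 := Finset.sum_nonneg (fun i _ => sq_nonneg _)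
  have h1 : f i₀ ^ 2 = 1 := by linarith
  have h0 : ∑ i ∈ s.erase i₀, f i ^ 2 = 0 := by linarith
  refine ⟨i₀, hi₀, ?_, ?_⟩
  · have : (f i₀ - 1) * (f i₀ + 1) = 0 := by ring_nf; linarith
    rcases mul_eq_zero.mp this with h | h
    · left; linarith
    · right; linarith
  · intro j hj hji
    have := (Finset.sum_eq_zero_iff_of_nonneg (fun i _ => sq_nonneg (f i))).mp h0 j
      (Finset.mem_erase.mpr ⟨hji, hj⟩)
    exact pow_eq_zero_iff (two_ne_zero) |>.mp this

/-- A sum of integer squares equal to two has exactly two nonzero terms, each `±1`. -/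
theorem int_sq_sum_eq_two {ι : Type*} [DecidableEq ι] (s : Finset ι) (f : ι → ℤ)
    (h : ∑ i ∈ s, f i ^ 2 = 2) :
    ∃ i₀ ∈ s, ∃ i₁ ∈ s, i₀ ≠ i₁ ∧ (f i₀ = 1 ∨ f i₀ = -1) ∧ (f i₁ = 1 ∨ f i₁ = -1) ∧
      ∀ j ∈ s, j ≠ i₀ → j ≠ i₁ → f j = 0 := by
  have hex : ∃ i₀ ∈ s, f i₀ ≠ 0 := by
    by_contra hno
    push Not at hno
    rw [Finset.sum_eq_zero (fun i hi => by rw [hno i hi]; ring)] at h
    norm_num at h
  obtain ⟨i₀, hi₀, hne⟩ := hex
  rw [← Finset.add_sum_erase s _ hi₀] at h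
  have hnn : 0 ≤ ∑ i ∈ s.erase i₀, f i ^ 2 := Finset.sum_nonneg (fun i _ => sq_nonneg _)
  have hle : f i₀ ^ 2 ≤ 2 := by linarith
  have h1 : f i₀ = 1 ∨ f i₀ = -1 := by
    have hb1 : f i₀ ≤ 1 := by nlinarith
    have hb2 : -1 ≤ f i₀ := by nlinarith
    omega
  have hsq : f i₀ ^ 2 = 1 := by rcases h1 with h | h <;> rw [h] <;> norm_num
  have hrest : ∑ i ∈ s.erase i₀, f i ^ 2 = 1 := by linarith
  obtain ⟨i₁, hi₁, h2, hz⟩ := int_sq_sum_eq_one (s.erase i₀) f hrest
  refine ⟨i₀, hi₀, i₁, Finset.mem_of_mem_erase hi₁, (Finset.ne_of_mem_erase hi₁).symm, h1, h2, ?_⟩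
  intro j hj hj0 hj1
  exact hz j (Finset.mem_erase.mpr ⟨hj0, hj⟩) hj1

end IntSums

variable {G : Type*} [Group G]

theorem isGeneralizedCharacter_of_isCharacter {χ : G → ℂ} (h : Cfsg.IsCharacter G χ) :
    Cfsg.IsGeneralizedCharacter G χ := ⟨χ, 0, h, isCharacter_zero, by simp⟩

theorem isGeneralizedCharacter_zero : Cfsg.IsGeneralizedCharacter G (0 : G → ℂ) :=
  isGeneralizedCharacter_of_isCharacter isCharacter_zero

theorem isGeneralizedCharacter_add {θ φ : G → ℂ} (hθ : Cfsg.IsGeneralizedCharacter G θ)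
    (hφ : Cfsg.IsGeneralizedCharacter G φ) : Cfsg.IsGeneralizedCharacter G (θ + φ) := by
  obtain ⟨a, b, ha, hb, rfl⟩ := hθ
  obtain ⟨c, d, hc, hd, rfl⟩ := hφ
  exact ⟨a + c, b + d, isCharacter_add ha hc, isCharacter_add hb hd, by abel⟩

theorem isGeneralizedCharacter_neg {θ : G → ℂ} (hθ : Cfsg.IsGeneralizedCharacter G θ) :
    Cfsg.IsGeneralizedCharacter G (-θ) := by
  obtain ⟨a, b, ha, hb, rfl⟩ := hθ
  exact ⟨b, a, hb, ha, by abel⟩

theorem isGeneralizedCharacter_sub {θ φ : G → ℂ} (hθ : Cfsg.IsGeneralizedCharacter G θ)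
    (hφ : Cfsg.IsGeneralizedCharacter G φ) : Cfsg.IsGeneralizedCharacter G (θ - φ) := by
  rw [sub_eq_add_neg]
  exact isGeneralizedCharacter_add hθ (isGeneralizedCharacter_neg hφ)

theorem isGeneralizedCharacter_nsmul {θ : G → ℂ} (hθ : Cfsg.IsGeneralizedCharacter G θ) (n : ℕ) :
    Cfsg.IsGeneralizedCharacter G (n • θ) := by
  induction n with
  | zero => simpa using isGeneralizedCharacter_zero
  | succ k ih => rw [succ_nsmul]; exact isGeneralizedCharacter_add ih hθ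

theorem isGeneralizedCharacter_zsmul {θ : G → ℂ} (hθ : Cfsg.IsGeneralizedCharacter G θ) (n : ℤ) :
    Cfsg.IsGeneralizedCharacter G (n • θ) := by
  rcases Int.eq_nat_or_neg n with ⟨k, rfl | rfl⟩
  · rw [natCast_zsmul]; exact isGeneralizedCharacter_nsmul hθ k
  · rw [neg_zsmul, natCast_zsmul]
    exact isGeneralizedCharacter_neg (isGeneralizedCharacter_nsmul hθ k)

theorem isGeneralizedCharacter_sum {ι : Type*} (s : Finset ι) (f : ι → G → ℂ)
    (h : ∀ i ∈ s, Cfsg.IsGeneralizedCharacter G (f i)) :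
    Cfsg.IsGeneralizedCharacter G (∑ i ∈ s, f i) := by
  classical
  induction s using Finset.induction_on with
  | empty => simpa using isGeneralizedCharacter_zero
  | insert a s ha ih =>
    rw [Finset.sum_insert ha]
    exact isGeneralizedCharacter_add (h a (by simp)) (ih fun i hi => h i (by simp [hi]))

theorem isClassFunction_of_isGeneralizedCharacter {θ : G → ℂ}
    (hθ : Cfsg.IsGeneralizedCharacter G θ) : Cfsg.IsClassFunction G θ := by
  obtain ⟨a, b, ha, hb, rfl⟩ := hθ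
  intro g h
  simp only [Pi.sub_apply]
  rw [isClassFunction_of_isCharacter ha g h, isClassFunction_of_isCharacter hb g h]

variable [Fintype G]

/-- Multiplicities of irreducible characters in a generalized character are integers. -/
theorem genChar_classInner_irr_int {θ ξ : G → ℂ} (hθ : Cfsg.IsGeneralizedCharacter G θ)
    (hξ : Cfsg.IsIrrCharacter G ξ) : ∃ c : ℤ, Cfsg.classInner θ ξ = c := by
  obtain ⟨a, b, ha, hb, rfl⟩ := hθ
  obtain ⟨n, hn⟩ := classInner_char_irr_nat ha hξ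
  obtain ⟨m, hm⟩ := classInner_char_irr_nat hb hξ
  exact ⟨(n : ℤ) - m, by rw [classInner_sub_left, hn, hm]; push_cast; ring⟩

/-- Inner products of generalized characters are integers. -/
theorem genChar_classInner_int {θ φ : G → ℂ} (hθ : Cfsg.IsGeneralizedCharacter G θ)
    (hφ : Cfsg.IsGeneralizedCharacter G φ) : ∃ c : ℤ, Cfsg.classInner θ φ = c := by
  obtain ⟨a, b, ha, hb, rfl⟩ := hθ
  obtain ⟨c, d, hc, hd, rfl⟩ := hφ
  obtain ⟨n1, h1⟩ := classInner_char_char_nat ha hc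
  obtain ⟨n2, h2⟩ := classInner_char_char_nat ha hd
  obtain ⟨n3, h3⟩ := classInner_char_char_nat hb hc
  obtain ⟨n4, h4⟩ := classInner_char_char_nat hb hd
  refine ⟨(n1 : ℤ) - n2 - n3 + n4, ?_⟩
  rw [classInner_sub_left, classInner_sub_right, classInner_sub_right, h1, h2, h3, h4]
  push_cast; ring

/-- Expansion of a generalized character with integer coefficients. -/
theorem genChar_expansion [Fintype (Cfsg.IrrCharacter G)] {θ : G → ℂ}
    (hθ : Cfsg.IsGeneralizedCharacter G θ) (c : Cfsg.IrrCharacter G → ℤ)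
    (hc : ∀ ξ : Cfsg.IrrCharacter G, Cfsg.classInner θ (ξ : G → ℂ) = c ξ) :
    θ = ∑ ξ : Cfsg.IrrCharacter G, (c ξ : ℂ) • (ξ : G → ℂ) := by
  have := classFunction_expansion θ (isClassFunction_of_isGeneralizedCharacter hθ)
  simp only [hc] at this
  exact this

theorem genChar_norm [Fintype (Cfsg.IrrCharacter G)] {θ : G → ℂ}
    (hθ : Cfsg.IsGeneralizedCharacter G θ) (c : Cfsg.IrrCharacter G → ℤ)
    (hc : ∀ ξ : Cfsg.IrrCharacter G, Cfsg.classInner θ (ξ : G → ℂ) = c ξ) :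
    Cfsg.classInner θ θ = ((∑ ξ : Cfsg.IrrCharacter G, c ξ ^ 2 : ℤ) : ℂ) := by
  conv_lhs => rw [genChar_expansion hθ c hc]
  rw [classInner_sum_left]
  push_cast
  apply Finset.sum_congr rfl
  intro ξ _
  rw [classInner_smul_left]
  have h2 : Cfsg.classInner (ξ : G → ℂ)
      (∑ η : Cfsg.IrrCharacter G, (c η : ℂ) • (η : G → ℂ)) = (c ξ : ℂ) := by
    rw [← genChar_expansion hθ c hc, ← classInner_conj_symm, hc, map_intCast]
  rw [h2]; ring

/-- A generalized character of norm one is an irreducible character up to sign. -/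
theorem genChar_norm_one {θ : G → ℂ} (hθ : Cfsg.IsGeneralizedCharacter G θ)
    (h1 : Cfsg.classInner θ θ = 1) :
    Cfsg.IsIrrCharacter G θ ∨ Cfsg.IsIrrCharacter G (-θ) := by
  classical
  haveI : Fintype (Cfsg.IrrCharacter G) := Fintype.ofFinite _
  have hc : ∀ ξ : Cfsg.IrrCharacter G, ∃ c : ℤ, Cfsg.classInner θ (ξ : G → ℂ) = c :=
    fun ξ => genChar_classInner_irr_int hθ ξ.2
  choose c hc using hc
  have hn := genChar_norm hθ c hc
  rw [h1] at hn
  have hn' : ∑ ξ : Cfsg.IrrCharacter G, c ξ ^ 2 = 1 := by exact_mod_cast hn.symm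
  obtain ⟨ξ₀, -, hval, hz⟩ := int_sq_sum_eq_one Finset.univ c hn'
  have hexp := genChar_expansion hθ c hc
  rw [Finset.sum_eq_single ξ₀ (fun ξ _ hne => by rw [hz ξ (Finset.mem_univ _) hne]; simp)
    (fun h => absurd (Finset.mem_univ _) h)] at hexp
  rcases hval with h | h
  · left
    rw [hexp, h]; simpa using ξ₀.2
  · right
    rw [hexp, h]; simpa using ξ₀.2

/-- A generalized character of norm two is a sum of two orthogonal signed irreducible
characters. -/
theorem genChar_norm_two {θ : G → ℂ} (hθ : Cfsg.IsGeneralizedCharacter G θ)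
    (h2 : Cfsg.classInner θ θ = 2) :
    ∃ α β : G → ℂ, (Cfsg.IsIrrCharacter G α ∨ Cfsg.IsIrrCharacter G (-α)) ∧
      (Cfsg.IsIrrCharacter G β ∨ Cfsg.IsIrrCharacter G (-β)) ∧
      Cfsg.classInner α β = 0 ∧ θ = α + β := by
  classical
  haveI : Fintype (Cfsg.IrrCharacter G) := Fintype.ofFinite _
  have hc : ∀ ξ : Cfsg.IrrCharacter G, ∃ c : ℤ, Cfsg.classInner θ (ξ : G → ℂ) = c :=
    fun ξ => genChar_classInner_irr_int hθ ξ.2
  choose c hc using hc
  have hn := genChar_norm hθ c hc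
  rw [h2] at hn
  have hn' : ∑ ξ : Cfsg.IrrCharacter G, c ξ ^ 2 = 2 := by exact_mod_cast hn.symm
  obtain ⟨ξ₀, -, ξ₁, -, hne, hv0, hv1, hz⟩ := int_sq_sum_eq_two Finset.univ c hn'
  have hexp := genChar_expansion hθ c hc
  rw [← Finset.add_sum_erase _ _ (Finset.mem_univ ξ₀),
    ← Finset.add_sum_erase _ _ (Finset.mem_erase.mpr ⟨hne.symm, Finset.mem_univ ξ₁⟩),
    Finset.sum_eq_zero (fun ξ hξ => by
      have h1 := Finset.ne_of_mem_erase hξ
      have h0 := Finset.ne_of_mem_erase (Finset.mem_of_mem_erase hξ)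
      rw [hz ξ (Finset.mem_univ _) h0 h1]; simp), add_zero] at hexp
  have hsign : ∀ (ξ : Cfsg.IrrCharacter G) (k : ℤ), (k = 1 ∨ k = -1) →
      (Cfsg.IsIrrCharacter G ((k : ℂ) • (ξ : G → ℂ)) ∨
        Cfsg.IsIrrCharacter G (-((k : ℂ) • (ξ : G → ℂ)))) := by
    intro ξ k hk
    rcases hk with rfl | rfl
    · left; simpa using ξ.2
    · right; simpa using ξ.2
  refine ⟨(c ξ₀ : ℂ) • (ξ₀ : G → ℂ), (c ξ₁ : ℂ) • (ξ₁ : G → ℂ), hsign ξ₀ _ hv0, hsign ξ₁ _ hv1,
    ?_, hexp⟩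
  rw [classInner_smul_left, classInner_smul_right, irr_classInner_ne ξ₀.2 ξ₁.2
    (fun h => hne (Subtype.ext h))]
  ring

end Cfsg.Agent.Lib.H8
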