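import Mathlib
import Cfsg.Prelude.Def_OddOrderChar
import Cfsg.Agent.Lib.L0.CharInner
import Cfsg.Agent.Lib.H8.GenChar

/-!
# Toolkit for coherence (`zspan`, `zspanOn`, `IsLinearIsometryOn`, `IsCoherent`)

* closure properties of `zspan S` / `zspanOn S A`, coefficient representation over a `Finset`;
* consequences of `IsLinearIsometryOn E τ` on a ℤ-closed set `E` (`map_zero`, `map_neg`, `map_sub`,
  `map_sum`);
* `extendIso T Y`: the map `f ↦ ∑ ξ ∈ T, (⟨f,ξ⟩/⟨ξ,ξ⟩) • Y ξ`, a linear isometry on `zspan T` as soon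
  as `T` is orthogonal with nonzero norms and `Y` preserves inner products on `T`
  (`isLinearIsometryOn_extendIso`); it agrees with `τ` on the degree-zero part if it does so on the
  elements `d ψ • ξ - d ξ • ψ` (`extendIso_eq_of_base`);
* Bessel's inequality for class functions (`bessel_real`, `bessel_int`).
-/

set_option autoImplicit false

namespace Cfsg.Agent.Lib.H8

open Cfsg Cfsg.Agent.Lib.L0

section ZSpan
variable {X : Type*}

theorem subset_zspan (S : Set (X → ℂ)) : S ⊆ zspan S := Submodule.subset_span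

theorem zero_mem_zspan (S : Set (X → ℂ)) : (0 : X → ℂ) ∈ zspan S :=
  (Submodule.span ℤ S).zero_mem

theorem add_mem_zspan {S : Set (X → ℂ)} {α β : X → ℂ} (hα : α ∈ zspan S) (hβ : β ∈ zspan S) :
    α + β ∈ zspan S := (Submodule.span ℤ S).add_mem hα hβ

theorem neg_mem_zspan {S : Set (X → ℂ)} {α : X → ℂ} (hα : α ∈ zspan S) : -α ∈ zspan S :=
  (Submodule.span ℤ S).neg_mem hα

theorem sub_mem_zspan {S : Set (X → ℂ)} {α β : X → ℂ} (hα : α ∈ zspan S) (hβ : β ∈ zspan S) :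
    α - β ∈ zspan S := (Submodule.span ℤ S).sub_mem hα hβ

theorem zsmul_mem_zspan {S : Set (X → ℂ)} {α : X → ℂ} (hα : α ∈ zspan S) (n : ℤ) :
    n • α ∈ zspan S := (Submodule.span ℤ S).smul_mem n hα

theorem sum_mem_zspan {S : Set (X → ℂ)} {ι : Type*} (s : Finset ι) (f : ι → X → ℂ)
    (hf : ∀ i ∈ s, f i ∈ zspan S) : ∑ i ∈ s, f i ∈ zspan S :=
  (Submodule.span ℤ S).sum_mem hf

theorem zspan_mono {S T : Set (X → ℂ)} (h : S ⊆ T) : zspan S ⊆ zspan T := Submodule.span_mono h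

theorem zspanOn_subset_zspan (S : Set (X → ℂ)) (A : Set X) : zspanOn S A ⊆ zspan S :=
  fun _ h => h.1

theorem zspanOn_mono {S T : Set (X → ℂ)} (h : S ⊆ T) (A : Set X) : zspanOn S A ⊆ zspanOn T A :=
  fun _ hα => ⟨zspan_mono h hα.1, hα.2⟩

theorem zero_mem_zspanOn (S : Set (X → ℂ)) (A : Set X) : (0 : X → ℂ) ∈ zspanOn S A :=
  ⟨zero_mem_zspan S, fun _ _ => rfl⟩

theorem add_mem_zspanOn {S : Set (X → ℂ)} {A : Set X} {α β : X → ℂ} (hα : α ∈ zspanOn S A)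
    (hβ : β ∈ zspanOn S A) : α + β ∈ zspanOn S A :=
  ⟨add_mem_zspan hα.1 hβ.1, fun x hx => by rw [Pi.add_apply, hα.2 x hx, hβ.2 x hx, add_zero]⟩

theorem neg_mem_zspanOn {S : Set (X → ℂ)} {A : Set X} {α : X → ℂ} (hα : α ∈ zspanOn S A) :
    -α ∈ zspanOn S A :=
  ⟨neg_mem_zspan hα.1, fun x hx => by rw [Pi.neg_apply, hα.2 x hx, neg_zero]⟩

theorem sub_mem_zspanOn {S : Set (X → ℂ)} {A : Set X} {α β : X → ℂ} (hα : α ∈ zspanOn S A)
    (hβ : β ∈ zspanOn S A) : α - β ∈ zspanOn S A :=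
  ⟨sub_mem_zspan hα.1 hβ.1, fun x hx => by rw [Pi.sub_apply, hα.2 x hx, hβ.2 x hx, sub_zero]⟩

theorem zsmul_mem_zspanOn {S : Set (X → ℂ)} {A : Set X} {α : X → ℂ} (hα : α ∈ zspanOn S A)
    (n : ℤ) : n • α ∈ zspanOn S A :=
  ⟨zsmul_mem_zspan hα.1 n, fun x hx => by rw [Pi.smul_apply, hα.2 x hx, smul_zero]⟩

theorem sum_mem_zspanOn {S : Set (X → ℂ)} {A : Set X} {ι : Type*} (s : Finset ι)
    (f : ι → X → ℂ) (hf : ∀ i ∈ s, f i ∈ zspanOn S A) : ∑ i ∈ s, f i ∈ zspanOn S A := by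
  classical
  induction s using Finset.induction_on with
  | empty => simpa using zero_mem_zspanOn S A
  | insert a s ha ih =>
    rw [Finset.sum_insert ha]
    exact add_mem_zspanOn (hf a (Finset.mem_insert_self a s))
      (ih (fun i hi => hf i (Finset.mem_insert_of_mem hi)))

theorem mem_zspanOn_compl_one [One X] {S : Set (X → ℂ)} {α : X → ℂ} :
    α ∈ zspanOn S ({1}ᶜ : Set X) ↔ α ∈ zspan S ∧ α 1 = 0 := by
  constructor
  · rintro ⟨h1, h2⟩
    exact ⟨h1, h2 1 (by simp)⟩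
  · rintro ⟨h1, h2⟩
    refine ⟨h1, fun x hx => ?_⟩
    have : x = 1 := by simpa using hx
    rw [this, h2]

/-- Coefficient representation of the integer span of a finite set. -/
theorem mem_zspan_finset {T : Finset (X → ℂ)} {α : X → ℂ} :
    α ∈ zspan (↑T : Set (X → ℂ)) ↔ ∃ c : (X → ℂ) → ℤ, α = ∑ ξ ∈ T, c ξ • ξ := by
  constructor
  · intro h
    obtain ⟨f, -, hf⟩ := Submodule.mem_span_finset.mp h
    exact ⟨f, hf.symm⟩
  · rintro ⟨c, rfl⟩
    exact sum_mem_zspan T _ (fun ξ hξ => zsmul_mem_zspan (subset_zspan _ hξ) (c ξ))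

/-- Sets closed under `0`, `+` and integer multiples. -/
def IsZClosed (E : Set (X → ℂ)) : Prop :=
  (0 : X → ℂ) ∈ E ∧ (∀ a ∈ E, ∀ b ∈ E, a + b ∈ E) ∧ (∀ a ∈ E, ∀ n : ℤ, n • a ∈ E)

theorem isZClosed_zspan (S : Set (X → ℂ)) : IsZClosed (zspan S) :=
  ⟨zero_mem_zspan S, fun _ ha _ hb => add_mem_zspan ha hb, fun _ ha n => zsmul_mem_zspan ha n⟩

theorem isZClosed_zspanOn (S : Set (X → ℂ)) (A : Set X) : IsZClosed (zspanOn S A) :=
  ⟨zero_mem_zspanOn S A, fun _ ha _ hb => add_mem_zspanOn ha hb,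
    fun _ ha n => zsmul_mem_zspanOn ha n⟩

theorem IsZClosed.neg_mem {E : Set (X → ℂ)} (hE : IsZClosed E) {a : X → ℂ} (ha : a ∈ E) :
    -a ∈ E := by
  have := hE.2.2 a ha (-1)
  simpa using this

theorem IsZClosed.sub_mem {E : Set (X → ℂ)} (hE : IsZClosed E) {a b : X → ℂ} (ha : a ∈ E)
    (hb : b ∈ E) : a - b ∈ E := by
  rw [sub_eq_add_neg]
  exact hE.2.1 a ha _ (hE.neg_mem hb)

theorem IsZClosed.sum_mem {E : Set (X → ℂ)} (hE : IsZClosed E) {ι : Type*} (s : Finset ι)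
    (f : ι → X → ℂ) (hf : ∀ i ∈ s, f i ∈ E) : ∑ i ∈ s, f i ∈ E := by
  classical
  induction s using Finset.induction_on with
  | empty => simpa using hE.1
  | insert a s ha ih =>
    rw [Finset.sum_insert ha]
    exact hE.2.1 _ (hf a (Finset.mem_insert_self a s)) _
      (ih (fun i hi => hf i (Finset.mem_insert_of_mem hi)))

end ZSpan

section Inner
variable {G : Type*} [Group G] [Fintype G]

theorem classInner_zsmul_left (n : ℤ) (φ ψ : G → ℂ) :
    Cfsg.classInner (n • φ) ψ = (n : ℂ) * Cfsg.classInner φ ψ := by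
  rw [← Int.cast_smul_eq_zsmul ℂ n φ, classInner_smul_left]

theorem classInner_zsmul_right (n : ℤ) (φ ψ : G → ℂ) :
    Cfsg.classInner φ (n • ψ) = (n : ℂ) * Cfsg.classInner φ ψ := by
  rw [← Int.cast_smul_eq_zsmul ℂ n ψ, classInner_smul_right, map_intCast]

theorem classInner_self_nonneg (φ : G → ℂ) :
    ∃ r : ℝ, 0 ≤ r ∧ Cfsg.classInner φ φ = (r : ℂ) := by
  refine ⟨(Nat.card G : ℝ)⁻¹ * ∑ g : G, ‖φ g‖ ^ 2, ?_, classInner_self_eq φ⟩
  apply mul_nonneg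
  · rw [inv_nonneg]; exact Nat.cast_nonneg _
  · exact Finset.sum_nonneg (fun g _ => sq_nonneg _)

/-- Bessel's inequality for an orthogonal family with positive real norms. -/
theorem bessel_real {ι : Type*} [DecidableEq ι] (T : Finset ι) (Y : ι → G → ℂ) (n : ι → ℝ)
    (hn : ∀ i ∈ T, 0 < n i)
    (horth : ∀ i ∈ T, ∀ j ∈ T, Cfsg.classInner (Y i) (Y j) = if i = j then (n i : ℂ) else 0)
    (X : G → ℂ) (y : ι → ℝ) (hy : ∀ i ∈ T, Cfsg.classInner X (Y i) = (y i : ℂ))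
    (m : ℝ) (hm : Cfsg.classInner X X = (m : ℂ)) :
    ∑ i ∈ T, y i ^ 2 / n i ≤ m ∧
      (∑ i ∈ T, y i ^ 2 / n i = m → X = ∑ i ∈ T, ((y i / n i : ℝ) : ℂ) • Y i) := by
  set Z : G → ℂ := X - ∑ i ∈ T, ((y i / n i : ℝ) : ℂ) • Y i with hZ
  have hYX : ∀ i ∈ T, Cfsg.classInner (Y i) X = (y i : ℂ) := by
    intro i hi
    rw [← classInner_conj_symm, hy i hi, Complex.conj_ofReal]
  have h1 : Cfsg.classInner X (∑ i ∈ T, ((y i / n i : ℝ) : ℂ) • Y i) =
      ((∑ i ∈ T, y i ^ 2 / n i : ℝ) : ℂ) := by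
    rw [classInner_sum_right]
    push_cast
    apply Finset.sum_congr rfl
    intro i hi
    rw [classInner_smul_right, hy i hi]
    have : (starRingEnd ℂ) ((y i : ℂ) / (n i : ℂ)) = (y i : ℂ) / (n i : ℂ) := by
      rw [map_div₀, Complex.conj_ofReal, Complex.conj_ofReal]
    rw [this]; ring
  have h2 : Cfsg.classInner (∑ i ∈ T, ((y i / n i : ℝ) : ℂ) • Y i) X =
      ((∑ i ∈ T, y i ^ 2 / n i : ℝ) : ℂ) := by
    rw [classInner_sum_left]
    push_cast
    apply Finset.sum_congr rfl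
    intro i hi
    rw [classInner_smul_left, hYX i hi]
    ring
  have h3 : Cfsg.classInner (∑ i ∈ T, ((y i / n i : ℝ) : ℂ) • Y i)
      (∑ i ∈ T, ((y i / n i : ℝ) : ℂ) • Y i) = ((∑ i ∈ T, y i ^ 2 / n i : ℝ) : ℂ) := by
    rw [classInner_sum_left]
    push_cast
    apply Finset.sum_congr rfl
    intro i hi
    rw [classInner_smul_left, classInner_sum_right, Finset.sum_eq_single i]
    · rw [classInner_smul_right, horth i hi i hi, if_pos rfl]
      have : (starRingEnd ℂ) ((y i : ℂ) / (n i : ℂ)) = (y i : ℂ) / (n i : ℂ) := by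
        rw [map_div₀, Complex.conj_ofReal, Complex.conj_ofReal]
      rw [this]
      have hne : (n i : ℂ) ≠ 0 := by exact_mod_cast (hn i hi).ne'
      field_simp
    · intro j hj hji
      rw [classInner_smul_right, horth i hi j hj, if_neg (Ne.symm hji), mul_zero]
    · intro h; exact absurd hi h
  have hZZ : Cfsg.classInner Z Z = ((m - ∑ i ∈ T, y i ^ 2 / n i : ℝ) : ℂ) := by
    rw [hZ, classInner_sub_left, classInner_sub_right, classInner_sub_right, hm, h1, h2, h3]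
    push_cast; ring
  obtain ⟨r, hr0, hr⟩ := classInner_self_nonneg Z
  have hreq : r = m - ∑ i ∈ T, y i ^ 2 / n i := by
    have := hr.symm.trans hZZ
    exact_mod_cast this
  constructor
  · linarith
  · intro heq
    have hz : Cfsg.classInner Z Z = 0 := by
      rw [hZZ, heq]; simp
    have := classInner_self_eq_zero hz
    rw [hZ, sub_eq_zero] at this
    exact this

/-- Bessel's inequality, orthonormal family, integer data. -/
theorem bessel_int {ι : Type*} [DecidableEq ι] (T : Finset ι) (Y : ι → G → ℂ)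
    (horth : ∀ i ∈ T, ∀ j ∈ T, Cfsg.classInner (Y i) (Y j) = if i = j then 1 else 0)
    (X : G → ℂ) (y : ι → ℤ) (hy : ∀ i ∈ T, Cfsg.classInner X (Y i) = (y i : ℂ))
    (m : ℤ) (hm : Cfsg.classInner X X = (m : ℂ)) :
    ∑ i ∈ T, y i ^ 2 ≤ m ∧ (∑ i ∈ T, y i ^ 2 = m → X = ∑ i ∈ T, y i • Y i) := by
  have h := bessel_real T Y (fun _ => 1) (fun _ _ => one_pos)
    (fun i hi j hj => by rw [horth i hi j hj]; split_ifs <;> simp) X (fun i => (y i : ℝ))
    (fun i hi => (hy i hi).trans (Complex.ofReal_intCast (y i)).symm) (m : ℝ)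
    (hm.trans (Complex.ofReal_intCast m).symm)
  simp only [div_one] at h
  constructor
  · have := h.1
    exact_mod_cast this
  · intro heq
    have h2 := h.2 (by exact_mod_cast heq)
    rw [h2]
    apply Finset.sum_congr rfl
    intro i _
    rw [← Int.cast_smul_eq_zsmul ℂ (y i) (Y i)]
    simp

end Inner

section Iso
variable {L : Type*} [Group L] [Fintype L] {G : Type*} [Group G] [Fintype G]
variable {E : Set (L → ℂ)} {τ : (L → ℂ) → (G → ℂ)}

theorem lio_add (h : Cfsg.IsLinearIsometryOn E τ) {α β : L → ℂ} (hα : α ∈ E)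
    (hβ : β ∈ E) : τ (α + β) = τ α + τ β := h.1 α hα β hβ

theorem lio_zsmul (h : Cfsg.IsLinearIsometryOn E τ) {α : L → ℂ} (hα : α ∈ E)
    (n : ℤ) : τ (n • α) = n • τ α := h.2.1 α hα n

theorem lio_inner (h : Cfsg.IsLinearIsometryOn E τ) {α β : L → ℂ} (hα : α ∈ E)
    (hβ : β ∈ E) : Cfsg.classInner (τ α) (τ β) = Cfsg.classInner α β := h.2.2.1 α hα β hβ

theorem lio_genChar (h : Cfsg.IsLinearIsometryOn E τ) {α : L → ℂ} (hα : α ∈ E) :
    Cfsg.IsGeneralizedCharacter G (τ α) := h.2.2.2 α hα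

theorem lio_zero (h : Cfsg.IsLinearIsometryOn E τ) (hE : IsZClosed E) :
    τ 0 = 0 := by
  have := h.2.1 0 hE.1 0
  simpa using this

theorem lio_neg (h : Cfsg.IsLinearIsometryOn E τ) {α : L → ℂ} (hα : α ∈ E) :
    τ (-α) = -τ α := by
  have := h.2.1 α hα (-1)
  simpa using this

theorem lio_sub (h : Cfsg.IsLinearIsometryOn E τ) (hE : IsZClosed E)
    {α β : L → ℂ} (hα : α ∈ E) (hβ : β ∈ E) : τ (α - β) = τ α - τ β := by
  rw [sub_eq_add_neg, h.1 α hα (-β) (hE.neg_mem hβ), lio_neg h hβ, ← sub_eq_add_neg]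

theorem lio_sum (h : Cfsg.IsLinearIsometryOn E τ) (hE : IsZClosed E)
    {ι : Type*} (s : Finset ι) (f : ι → L → ℂ) (hf : ∀ i ∈ s, f i ∈ E) :
    τ (∑ i ∈ s, f i) = ∑ i ∈ s, τ (f i) := by
  classical
  induction s using Finset.induction_on with
  | empty => simpa using lio_zero h hE
  | insert a s ha ih =>
    rw [Finset.sum_insert ha, Finset.sum_insert ha,
      h.1 _ (hf a (Finset.mem_insert_self a s)) _
        (hE.sum_mem s f (fun i hi => hf i (Finset.mem_insert_of_mem hi))),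
      ih (fun i hi => hf i (Finset.mem_insert_of_mem hi))]

theorem lio_mono (h : Cfsg.IsLinearIsometryOn E τ) {E' : Set (L → ℂ)}
    (hE : E' ⊆ E) : Cfsg.IsLinearIsometryOn E' τ :=
  ⟨fun α hα β hβ => h.1 α (hE hα) β (hE hβ), fun α hα n => h.2.1 α (hE hα) n,
    fun α hα β hβ => h.2.2.1 α (hE hα) β (hE hβ), fun α hα => h.2.2.2 α (hE hα)⟩

/-- The linear extension of `ξ ↦ Y ξ` (`ξ ∈ T`) by orthogonal projection coefficients. -/
noncomputable def extendIso (T : Finset (L → ℂ)) (Y : (L → ℂ) → (G → ℂ)) :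
    (L → ℂ) → (G → ℂ) :=
  fun f => ∑ ξ ∈ T, (Cfsg.classInner f ξ / Cfsg.classInner ξ ξ) • Y ξ

theorem extendIso_add (T : Finset (L → ℂ)) (Y : (L → ℂ) → (G → ℂ)) (f g : L → ℂ) :
    extendIso T Y (f + g) = extendIso T Y f + extendIso T Y g := by
  unfold extendIso
  rw [← Finset.sum_add_distrib]
  apply Finset.sum_congr rfl
  intro ξ _
  rw [classInner_add_left, add_div, add_smul]

theorem extendIso_zsmul (T : Finset (L → ℂ)) (Y : (L → ℂ) → (G → ℂ)) (n : ℤ) (f : L → ℂ) :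
    extendIso T Y (n • f) = n • extendIso T Y f := by
  unfold extendIso
  rw [Finset.smul_sum]
  apply Finset.sum_congr rfl
  intro ξ _
  rw [classInner_zsmul_left, mul_div_assoc, ← smul_smul, Int.cast_smul_eq_zsmul]

section Orth
variable (T : Finset (L → ℂ)) (hne : ∀ ξ ∈ T, Cfsg.classInner ξ ξ ≠ 0)
  (horth : ∀ ξ ∈ T, ∀ η ∈ T, ξ ≠ η → Cfsg.classInner ξ η = 0)

include horth in
theorem classInner_sum_zsmul (c : (L → ℂ) → ℤ) {η : L → ℂ} (hη : η ∈ T) :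
    Cfsg.classInner (∑ ξ ∈ T, c ξ • ξ) η = (c η : ℂ) * Cfsg.classInner η η := by
  classical
  rw [classInner_sum_left, Finset.sum_eq_single η]
  · rw [classInner_zsmul_left]
  · intro ξ hξ hξη
    rw [classInner_zsmul_left, horth ξ hξ η hη hξη, mul_zero]
  · intro h; exact absurd hη h

include hne horth in
theorem extendIso_sum (Y : (L → ℂ) → (G → ℂ)) (c : (L → ℂ) → ℤ) :
    extendIso T Y (∑ ξ ∈ T, c ξ • ξ) = ∑ ξ ∈ T, c ξ • Y ξ := by
  unfold extendIso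
  apply Finset.sum_congr rfl
  intro η hη
  rw [classInner_sum_zsmul T horth c hη, mul_div_assoc, div_self (hne η hη), mul_one,
    Int.cast_smul_eq_zsmul]

include hne horth in
theorem extendIso_apply_mem (Y : (L → ℂ) → (G → ℂ)) {η : L → ℂ} (hη : η ∈ T) :
    extendIso T Y η = Y η := by
  classical
  have h := extendIso_sum T hne horth Y (fun ξ => if ξ = η then 1 else 0)
  simp only [ite_smul, one_smul, zero_smul, Finset.sum_ite_eq', hη, if_true] at h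
  exact h

include hne horth in
/-- `extendIso T Y` is a linear isometry on `zspan T`. -/
theorem isLinearIsometryOn_extendIso (Y : (L → ℂ) → (G → ℂ))
    (hY : ∀ ξ ∈ T, ∀ η ∈ T, Cfsg.classInner (Y ξ) (Y η) = Cfsg.classInner ξ η)
    (hYg : ∀ ξ ∈ T, Cfsg.IsGeneralizedCharacter G (Y ξ)) :
    Cfsg.IsLinearIsometryOn (zspan (↑T : Set (L → ℂ))) (extendIso T Y) := by
  classical
  refine ⟨fun α _ β _ => extendIso_add T Y α β, fun α _ n => extendIso_zsmul T Y n α, ?_, ?_⟩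
  · intro α hα β hβ
    obtain ⟨c, rfl⟩ := mem_zspan_finset.mp hα
    obtain ⟨e, rfl⟩ := mem_zspan_finset.mp hβ
    rw [extendIso_sum T hne horth, extendIso_sum T hne horth]
    rw [classInner_sum_left, classInner_sum_left]
    apply Finset.sum_congr rfl
    intro ξ hξ
    rw [classInner_sum_right, classInner_sum_right]
    apply Finset.sum_congr rfl
    intro η hη
    rw [classInner_zsmul_left, classInner_zsmul_right, classInner_zsmul_left,
      classInner_zsmul_right, hY ξ hξ η hη]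
  · intro α hα
    obtain ⟨c, rfl⟩ := mem_zspan_finset.mp hα
    rw [extendIso_sum T hne horth]
    exact isGeneralizedCharacter_sum T _ (fun ξ hξ => isGeneralizedCharacter_zsmul (hYg ξ hξ) _)

include hne horth in
/-- Agreement of `extendIso T Y` with `τ` on the degree-zero sublattice, checked on the elements
`d ψ • ξ - d ξ • ψ`. -/
theorem extendIso_eq_of_base (Y : (L → ℂ) → (G → ℂ))
    (hτ : Cfsg.IsLinearIsometryOn (zspanOn (↑T : Set (L → ℂ)) ({1}ᶜ : Set L)) τ)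
    (d : (L → ℂ) → ℕ) (hd : ∀ ξ ∈ T, ξ 1 = (d ξ : ℂ)) {ψ : L → ℂ} (hψ : ψ ∈ T) (hdψ : d ψ ≠ 0)
    (hbase : ∀ ξ ∈ T, τ ((d ψ : ℤ) • ξ - (d ξ : ℤ) • ψ) = (d ψ : ℤ) • Y ξ - (d ξ : ℤ) • Y ψ) :
    ∀ f ∈ zspanOn (↑T : Set (L → ℂ)) ({1}ᶜ : Set L), extendIso T Y f = τ f := by
  classical
  intro f hf
  have hE := isZClosed_zspanOn (↑T : Set (L → ℂ)) ({1}ᶜ : Set L)
  obtain ⟨hfz, hf1⟩ := mem_zspanOn_compl_one.mp hf
  obtain ⟨c, hc⟩ := mem_zspan_finset.mp hfz
  -- the degree condition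
  have hdeg : ∑ ξ ∈ T, (c ξ : ℂ) * (d ξ : ℂ) = 0 := by
    rw [← hf1, hc, Finset.sum_apply]
    apply Finset.sum_congr rfl
    intro ξ hξ
    rw [Pi.smul_apply, hd ξ hξ, zsmul_eq_mul]
  have hdegZ : ∑ ξ ∈ T, c ξ * (d ξ : ℤ) = 0 := by
    have : ((∑ ξ ∈ T, c ξ * (d ξ : ℤ) : ℤ) : ℂ) = 0 := by
      push_cast; exact hdeg
    exact_mod_cast this
  have hg : ∀ ξ ∈ T, (d ψ : ℤ) • ξ - (d ξ : ℤ) • ψ ∈ zspanOn (↑T : Set (L → ℂ)) ({1}ᶜ : Set L) := by
    intro ξ hξ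
    rw [mem_zspanOn_compl_one]
    refine ⟨sub_mem_zspan (zsmul_mem_zspan (subset_zspan _ hξ) _)
      (zsmul_mem_zspan (subset_zspan _ hψ) _), ?_⟩
    rw [Pi.sub_apply, Pi.smul_apply, Pi.smul_apply, hd ξ hξ, hd ψ hψ, zsmul_eq_mul, zsmul_eq_mul]
    push_cast; ring
  have hdf : (d ψ : ℤ) • f = ∑ ξ ∈ T, c ξ • ((d ψ : ℤ) • ξ - (d ξ : ℤ) • ψ) := by
    have h1 : ∑ ξ ∈ T, c ξ • ((d ψ : ℤ) • ξ - (d ξ : ℤ) • ψ) =
        (d ψ : ℤ) • ∑ ξ ∈ T, c ξ • ξ - (∑ ξ ∈ T, c ξ * (d ξ : ℤ)) • ψ := by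
      rw [Finset.smul_sum, Finset.sum_smul, ← Finset.sum_sub_distrib]
      apply Finset.sum_congr rfl
      intro ξ _
      rw [smul_sub, smul_smul, smul_smul, smul_smul, mul_comm]
    rw [h1, hdegZ, zero_smul, sub_zero, hc]
  have h1 : (d ψ : ℤ) • τ f = (d ψ : ℤ) • extendIso T Y f := by
    rw [← lio_zsmul hτ hf, hdf, lio_sum hτ hE T _ (fun ξ hξ => zsmul_mem_zspanOn (hg ξ hξ) _)]
    have h2 : ∀ ξ ∈ T, τ (c ξ • ((d ψ : ℤ) • ξ - (d ξ : ℤ) • ψ)) =
        c ξ • ((d ψ : ℤ) • Y ξ - (d ξ : ℤ) • Y ψ) := by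
      intro ξ hξ
      rw [lio_zsmul hτ (hg ξ hξ), hbase ξ hξ]
    rw [Finset.sum_congr rfl h2]
    have h3 : ∑ ξ ∈ T, c ξ • ((d ψ : ℤ) • Y ξ - (d ξ : ℤ) • Y ψ) =
        (d ψ : ℤ) • ∑ ξ ∈ T, c ξ • Y ξ - (∑ ξ ∈ T, c ξ * (d ξ : ℤ)) • Y ψ := by
      rw [Finset.smul_sum, Finset.sum_smul, ← Finset.sum_sub_distrib]
      apply Finset.sum_congr rfl
      intro ξ _
      rw [smul_sub, smul_smul, smul_smul, smul_smul, mul_comm]
    rw [h3, hdegZ, zero_smul, sub_zero, hc, extendIso_sum T hne horth]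
  have hdψ' : (d ψ : ℤ) ≠ 0 := by exact_mod_cast hdψ
  funext g
  have h2 := congrFun h1 g
  rw [Pi.smul_apply, Pi.smul_apply, zsmul_eq_mul, zsmul_eq_mul] at h2
  have hdψ'' : ((d ψ : ℤ) : ℂ) ≠ 0 := by exact_mod_cast hdψ'
  exact (mul_left_cancel₀ hdψ'' h2).symm

end Orth

end Iso

end Cfsg.Agent.Lib.H8
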