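import Mathlib

/-!
# S2154 (Borel–Tits) piece GRD2 (helper8): midpoint, `Z ∩ U = 1`, conjugation, rows

The four definitions `UW / U0W / PW / TrW` are restated verbatim from `tools/blueprints/S2154_sigs.lean`.
-/

set_option autoImplicit false
set_option linter.unusedSectionVars false

namespace Cfsg.Agent.Lib.H8.BT

variable {ι : Type*} [Fintype ι] [DecidableEq ι] {F : Type*} [Field F]

/-- unipotent of step `≥ 1` for the grading `ω` -/
def UW (ω : ι → ℝ) : Set (Matrix ι ι F) :=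
  {M | (∀ a, M a a = 1) ∧ ∀ a b, a ≠ b → M a b ≠ 0 → ω b + 1 ≤ ω a}
/-- unipotent of step `> 0` for the grading `ω` -/
def U0W (ω : ι → ℝ) : Set (Matrix ι ι F) :=
  {M | (∀ a, M a a = 1) ∧ ∀ a b, a ≠ b → M a b ≠ 0 → ω b < ω a}
/-- preserving the filtration of `ω` -/
def PW (ω : ι → ℝ) : Set (Matrix ι ι F) := {M | ∀ a b, M a b ≠ 0 → ω b ≤ ω a}
/-- carrying the grading `ω` to the grading `ω'` -/
def TrW (ω ω' : ι → ℝ) : Set (Matrix ι ι F) := {M | ∀ a b, M a b ≠ 0 → ω' a = ω b}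

theorem UW_mid (ω₁ ω₂ : ι → ℝ) (M : Matrix ι ι F) (h1 : M ∈ UW ω₁) (h2 : M ∈ UW ω₂) :
    M ∈ UW (fun a => (ω₁ a + ω₂ a) / 2) := by
  refine ⟨h1.1, fun a b hab hM => ?_⟩
  have e1 := h1.2 a b hab hM
  have e2 := h2.2 a b hab hM
  show (ω₁ b + ω₂ b) / 2 + 1 ≤ (ω₁ a + ω₂ a) / 2
  linarith

/-- a matrix with unit diagonal and vanishing off-diagonal entries is `1`. -/
theorem eq_one_of_entries (M : Matrix ι ι F) (hd : ∀ a, M a a = 1) (ho : ∀ a b, a ≠ b → M a b = 0) :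
    M = 1 := by
  ext a b
  by_cases hab : a = b
  · subst hab; rw [hd, Matrix.one_apply_eq]
  · rw [ho a b hab, Matrix.one_apply_ne hab]

theorem eq_one_of_TrW_U0W (ω : ι → ℝ) (M : Matrix ι ι F) (h1 : M ∈ TrW ω ω) (h2 : M ∈ U0W ω) : M = 1 := by
  apply eq_one_of_entries M h2.1
  intro a b hab
  by_contra hM
  have e1 : ω a = ω b := h1 a b hM
  have e2 : ω b < ω a := h2.2 a b hab hM
  linarith

/-- `UW ω₀ = {1}` for the zero grading -/
theorem eq_one_of_UW_zero (M : Matrix ι ι F) (h : M ∈ UW (fun _ : ι => (0 : ℝ))) : M = 1 := by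
  apply eq_one_of_entries M h.1
  intro a b hab
  by_contra hM
  have e : (0 : ℝ) + 1 ≤ 0 := h.2 a b hab hM
  linarith

/-- the key expansion: an entry of `n * M * n'` that differs from the entry of `1` comes from an
off-diagonal entry of `M`. -/
theorem conj_entry (n n' M : Matrix ι ι F) (h1 : n * n' = 1) (hd : ∀ a, M a a = 1) (a b : ι)
    (hne : (n * M * n') a b ≠ (1 : Matrix ι ι F) a b) :
    ∃ c d, c ≠ d ∧ n a c ≠ 0 ∧ M c d ≠ 0 ∧ n' d b ≠ 0 := by
  have hdec : n * M * n' = 1 + n * (M - 1) * n' := by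
    rw [Matrix.mul_sub, Matrix.sub_mul, Matrix.mul_one, h1]
    abel
  rw [hdec, Matrix.add_apply] at hne
  have hne' : (n * (M - 1) * n') a b ≠ 0 := by
    intro h0
    rw [h0, add_zero] at hne
    exact hne rfl
  rw [Matrix.mul_apply] at hne'
  obtain ⟨d, -, hd1⟩ := Finset.exists_ne_zero_of_sum_ne_zero hne'
  have hd2 : (n * (M - 1)) a d ≠ 0 := left_ne_zero_of_mul hd1
  have hd3 : n' d b ≠ 0 := right_ne_zero_of_mul hd1
  rw [Matrix.mul_apply] at hd2
  obtain ⟨c, -, hc1⟩ := Finset.exists_ne_zero_of_sum_ne_zero hd2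
  have hc2 : n a c ≠ 0 := left_ne_zero_of_mul hc1
  have hc3 : (M - 1) c d ≠ 0 := right_ne_zero_of_mul hc1
  have hcd : c ≠ d := by
    intro h
    subst h
    rw [Matrix.sub_apply, hd, Matrix.one_apply_eq, sub_self] at hc3
    exact hc3 rfl
  refine ⟨c, d, hcd, hc2, ?_, hd3⟩
  rw [Matrix.sub_apply, Matrix.one_apply_ne hcd, sub_zero] at hc3
  exact hc3

theorem conj_UW_of_TrW (ω ω' : ι → ℝ) (n n' M : Matrix ι ι F) (h1 : n * n' = 1) (hn : n ∈ TrW ω ω')
    (hn' : n' ∈ TrW ω' ω) (hM : M ∈ UW ω) : n * M * n' ∈ UW ω' := by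
  refine ⟨fun a => ?_, fun a b hab hne => ?_⟩
  · by_contra hne
    rw [← Matrix.one_apply_eq (α := F) a] at hne
    obtain ⟨c, d, hcd, hc, hm, hd⟩ := conj_entry n n' M h1 hM.1 a a hne
    have e1 : ω' a = ω c := hn a c hc
    have e2 : ω d = ω' a := hn' d a hd
    have e3 : ω d + 1 ≤ ω c := hM.2 c d hcd hm
    linarith
  · have hne' : (n * M * n') a b ≠ (1 : Matrix ι ι F) a b := by
      rw [Matrix.one_apply_ne hab]; exact hne
    obtain ⟨c, d, hcd, hc, hm, hd⟩ := conj_entry n n' M h1 hM.1 a b hne'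
    have e1 : ω' a = ω c := hn a c hc
    have e2 : ω d = ω' b := hn' d b hd
    have e3 : ω d + 1 ≤ ω c := hM.2 c d hcd hm
    linarith

theorem conj_UW_of_PW (ω : ι → ℝ) (h h' M : Matrix ι ι F) (h1 : h * h' = 1) (hh : h ∈ PW ω) (hh' : h' ∈ PW ω)
    (hM : M ∈ UW ω) : h * M * h' ∈ UW ω := by
  refine ⟨fun a => ?_, fun a b hab hne => ?_⟩
  · by_contra hne
    rw [← Matrix.one_apply_eq (α := F) a] at hne
    obtain ⟨c, d, hcd, hc, hm, hd⟩ := conj_entry h h' M h1 hM.1 a a hne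
    have e1 : ω c ≤ ω a := hh a c hc
    have e2 : ω a ≤ ω d := hh' d a hd
    have e3 : ω d + 1 ≤ ω c := hM.2 c d hcd hm
    linarith
  · have hne' : (h * M * h') a b ≠ (1 : Matrix ι ι F) a b := by
      rw [Matrix.one_apply_ne hab]; exact hne
    obtain ⟨c, d, hcd, hc, hm, hd⟩ := conj_entry h h' M h1 hM.1 a b hne'
    have e1 : ω c ≤ ω a := hh a c hc
    have e2 : ω b ≤ ω d := hh' d b hd
    have e3 : ω d + 1 ≤ ω c := hM.2 c d hcd hm
    linarith

theorem conj_U0W_of_PW (ω : ι → ℝ) (h h' M : Matrix ι ι F) (h1 : h * h' = 1) (hh : h ∈ PW ω) (hh' : h' ∈ PW ω)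
    (hM : M ∈ U0W ω) : h * M * h' ∈ U0W ω := by
  refine ⟨fun a => ?_, fun a b hab hne => ?_⟩
  · by_contra hne
    rw [← Matrix.one_apply_eq (α := F) a] at hne
    obtain ⟨c, d, hcd, hc, hm, hd⟩ := conj_entry h h' M h1 hM.1 a a hne
    have e1 : ω c ≤ ω a := hh a c hc
    have e2 : ω a ≤ ω d := hh' d a hd
    have e3 : ω d < ω c := hM.2 c d hcd hm
    linarith
  · have hne' : (h * M * h') a b ≠ (1 : Matrix ι ι F) a b := by
      rw [Matrix.one_apply_ne hab]; exact hne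
    obtain ⟨c, d, hcd, hc, hm, hd⟩ := conj_entry h h' M h1 hM.1 a b hne'
    have e1 : ω c ≤ ω a := hh a c hc
    have e2 : ω b ≤ ω d := hh' d b hd
    have e3 : ω d < ω c := hM.2 c d hcd hm
    show ω b < ω a
    linarith

theorem exists_row_ne_zero (g : GL ι F) (a : ι) : ∃ b, (g : Matrix ι ι F) a b ≠ 0 := by
  by_contra hcon
  push Not at hcon
  have h1 : (g : Matrix ι ι F) * ((g⁻¹ : GL ι F) : Matrix ι ι F) = 1 := by
    rw [← Matrix.GeneralLinearGroup.coe_mul, mul_inv_cancel, Matrix.GeneralLinearGroup.coe_one]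
  have h2 := congrFun (congrFun h1 a) a
  rw [Matrix.mul_apply, Matrix.one_apply_eq] at h2
  rw [Finset.sum_eq_zero (fun b _ => by rw [hcon b, zero_mul])] at h2
  exact zero_ne_one h2

theorem le_of_TrW_PW (ω ω' : ι → ℝ) (g : GL ι F) (h1 : (g : Matrix ι ι F) ∈ TrW ω ω')
    (h2 : (g : Matrix ι ι F) ∈ PW ω) (a : ι) : ω' a ≤ ω a := by
  obtain ⟨b, hb⟩ := exists_row_ne_zero g a
  have e1 : ω' a = ω b := h1 a b hb
  have e2 : ω b ≤ ω a := h2 a b hb
  linarith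

end Cfsg.Agent.Lib.H8.BT
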