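import Mathlib

/-!
# S2154 (Borel–Tits) piece OPT (helper8): a continuous coercive function attains its minimum
on a nonempty closed set
-/

set_option autoImplicit false

namespace Cfsg.Agent.Lib.H8.BT

theorem exists_min (l : ℕ) (Q : (Fin l → ℝ) → ℝ) (hQc : Continuous Q) (hQ : ∀ x j, (x j) ^ 2 ≤ Q x)
    (S : Set (Fin l → ℝ)) (hS : IsClosed S) (hne : S.Nonempty) : ∃ x ∈ S, ∀ y ∈ S, Q x ≤ Q y := by
  obtain ⟨x₀, hx₀⟩ := hne
  set r := Real.sqrt (Q x₀) with hr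
  set B : Set (Fin l → ℝ) := Set.pi Set.univ (fun _ => Set.Icc (-r) r) with hBdef
  have hB : IsCompact B := isCompact_univ_pi (fun _ => isCompact_Icc)
  have hK : IsCompact (S ∩ B) := hB.inter_left hS
  have hx₀K : x₀ ∈ S ∩ B := ⟨hx₀, fun j _ => abs_le.mp (Real.abs_le_sqrt (hQ x₀ j))⟩
  obtain ⟨x, hxK, hmin⟩ := hK.exists_isMinOn ⟨x₀, hx₀K⟩ hQc.continuousOn
  refine ⟨x, hxK.1, fun y hy => ?_⟩
  by_cases hyB : y ∈ B
  · exact hmin ⟨hy, hyB⟩
  · have h1 : Q x ≤ Q x₀ := hmin hx₀K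
    have h2 : ∃ j, Q x₀ < (y j) ^ 2 := by
      by_contra hcon
      push Not at hcon
      exact hyB (fun j _ => abs_le.mp (Real.abs_le_sqrt (hcon j)))
    obtain ⟨j, hj⟩ := h2
    linarith [hQ y j]

end Cfsg.Agent.Lib.H8.BT
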