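import Mathlib.GroupTheory.PGroup
import Mathlib.GroupTheory.Sylow
import Mathlib.GroupTheory.Subgroup.Centralizer
import Mathlib.GroupTheory.GroupAction.ConjAct
import Mathlib.Order.Preorder.Finite

set_option autoImplicit false

namespace Cfsg.Agent.Lib.H8

/-- A nontrivial normal subgroup of a finite `p`-group contains a nontrivial central element. -/
theorem exists_central_mem_of_normal {p : ℕ} [Fact p.Prime] {G : Type*} [Group G] [Finite G]
    (hG : IsPGroup p G) (N : Subgroup G) [N.Normal] (hN : N ≠ ⊥) :
    ∃ z ∈ N, z ∈ Subgroup.center G ∧ z ≠ 1 := by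
  have hNp : IsPGroup p N := hG.to_subgroup N
  have hnt : Nontrivial N := (Subgroup.nontrivial_iff_ne_bot N).mpr hN
  have dvd : p ∣ Nat.card N := by
    obtain ⟨n, hn0, hn⟩ := hNp.nontrivial_iff_card.mp hnt
    exact hn.symm ▸ dvd_pow_self _ (ne_of_gt hn0)
  have h1 : (1 : N) ∈ MulAction.fixedPoints (ConjAct G) N := by
    intro g
    exact smul_one g
  obtain ⟨b, hb, hb1⟩ :=
    (hG.of_equiv ConjAct.toConjAct).exists_fixed_point_of_prime_dvd_card_of_fixed_point N dvd h1
  refine ⟨(b : G), b.2, ?_, ?_⟩
  · rw [Subgroup.mem_center_iff]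
    intro g
    have := hb (ConjAct.toConjAct g)
    have h2 := congrArg (fun z : N => (z : G)) this
    simp only [ConjAct.Subgroup.val_conj_smul, ConjAct.smul_def, ConjAct.ofConjAct_toConjAct] at h2
    calc g * (b : G) = (g * b * g⁻¹) * g := by group
      _ = b * g := by rw [h2]
  · intro h
    apply hb1
    exact Subtype.ext (by simpa using h.symm)

/-- In a finite `p`-group every normal abelian subgroup is contained in a normal abelian subgroup
which is its own centralizer. -/
theorem exists_normal_selfCentralizing {p : ℕ} [Fact p.Prime] {R : Type*} [Group R] [Finite R]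
    (hR : IsPGroup p R) (E : Subgroup R) [E.Normal] [IsMulCommutative E] :
    ∃ A : Subgroup R, E ≤ A ∧ A.Normal ∧ IsMulCommutative A ∧
      Subgroup.centralizer (A : Set R) = A := by
  classical
  let S : Set (Subgroup R) := {A | E ≤ A ∧ A.Normal ∧ IsMulCommutative A}
  have hSfin : S.Finite := Set.toFinite S
  have hSne : S.Nonempty := ⟨E, le_rfl, inferInstance, inferInstance⟩
  obtain ⟨A, hAmax⟩ := hSfin.exists_maximal hSne
  obtain ⟨⟨hEA, hAn, hAc⟩, hmax⟩ := hAmax
  refine ⟨A, hEA, hAn, hAc, ?_⟩
  apply le_antisymm _ (Subgroup.le_centralizer A)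
  by_contra hCA
  -- the centralizer is normal, its image in the quotient is a nontrivial normal subgroup
  have hCn : (Subgroup.centralizer (A : Set R)).Normal := Subgroup.normal_centralizer
  let Q := R ⧸ A
  let Cbar : Subgroup Q := (Subgroup.centralizer (A : Set R)).map (QuotientGroup.mk' A)
  have hCbarN : Cbar.Normal := hCn.map (QuotientGroup.mk' A) (QuotientGroup.mk'_surjective A)
  have hCbar : Cbar ≠ ⊥ := by
    intro h
    apply hCA
    intro c hc
    have : QuotientGroup.mk' A c ∈ Cbar := ⟨c, hc, rfl⟩
    rw [h, Subgroup.mem_bot] at this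
    exact (QuotientGroup.eq_one_iff c).mp this
  have hQ : IsPGroup p Q := hR.to_quotient A
  obtain ⟨z, hzC, hzZ, hz1⟩ := exists_central_mem_of_normal hQ Cbar hCbar
  obtain ⟨x, hxC, rfl⟩ := hzC
  have hxA : x ∉ A := fun h => hz1 ((QuotientGroup.eq_one_iff x).mpr h)
  have hxcomm : ∀ a ∈ A, a * x = x * a := by
    intro a ha
    have hxC' : x ∈ Subgroup.centralizer (A : Set R) := hxC
    rw [Subgroup.mem_centralizer_iff] at hxC'
    exact hxC' a ha
  -- the bigger subgroup
  let B : Subgroup R := Subgroup.closure ((A : Set R) ∪ {x})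
  have hAB : A ≤ B := fun a ha => Subgroup.subset_closure (Or.inl ha)
  have hxB : x ∈ B := Subgroup.subset_closure (Or.inr rfl)
  have hBc : IsMulCommutative B := by
    apply Subgroup.isMulCommutative_closure
    rintro u (hu | hu) v (hv | hv)
    · exact setLike_mul_comm hu hv
    · rw [Set.mem_singleton_iff.mp hv]; exact hxcomm u hu
    · rw [Set.mem_singleton_iff.mp hu]; exact (hxcomm v hv).symm
    · rw [Set.mem_singleton_iff.mp hu, Set.mem_singleton_iff.mp hv]
  have hBn : B.Normal := by
    constructor
    intro n hn g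
    induction hn using Subgroup.closure_induction with
    | mem y hy =>
      rcases hy with hy | hy
      · exact hAB (hAn.conj_mem y hy g)
      · rw [Set.mem_singleton_iff.mp hy]
        -- g x g⁻¹ = x * (x⁻¹ g x g⁻¹), the second factor lies in A
        have hcen : QuotientGroup.mk' A (g * x * g⁻¹) = QuotientGroup.mk' A x := by
          rw [map_mul, map_mul, map_inv]
          rw [Subgroup.mem_center_iff] at hzZ
          rw [hzZ (QuotientGroup.mk' A g)]
          group
        have hmem : x⁻¹ * (g * x * g⁻¹) ∈ A := by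
          rw [← QuotientGroup.eq_one_iff, ← QuotientGroup.mk'_apply, map_mul, map_inv, hcen]
          group
        have : g * x * g⁻¹ = x * (x⁻¹ * (g * x * g⁻¹)) := by group
        rw [this]
        exact B.mul_mem hxB (hAB hmem)
    | one => simp
    | mul y z _ _ hy hz =>
      have : g * (y * z) * g⁻¹ = (g * y * g⁻¹) * (g * z * g⁻¹) := by group
      rw [this]; exact B.mul_mem hy hz
    | inv y _ hy =>
      have : g * y⁻¹ * g⁻¹ = (g * y * g⁻¹)⁻¹ := by group
      rw [this]; exact B.inv_mem hy
  have hBS : B ∈ S := ⟨hEA.trans hAB, hBn, hBc⟩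
  exact hxA (hmax hBS hAB hxB)

end Cfsg.Agent.Lib.H8
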