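import Mathlib

set_option autoImplicit false

namespace Cfsg.Agent.Lib.H8

/-- In a nilpotent group, elements of coprime orders commute. -/
theorem commute_of_coprime_orderOf (N : Type*) [Group N] [Group.IsNilpotent N] :
    ∀ x t : N, (orderOf x).Coprime (orderOf t) → Commute x t := by
  apply Group.nilpotent_center_quotient_ind
    (P := fun G _ _ => ∀ x t : G, (orderOf x).Coprime (orderOf t) → Commute x t) N
  · intro G _ _ x t _
    exact Subsingleton.elim _ _
  · intro G _ _ ih x t hcop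
    have hx : orderOf (QuotientGroup.mk x : G ⧸ Subgroup.center G) ∣ orderOf x :=
      orderOf_dvd_of_pow_eq_one (by rw [← QuotientGroup.mk_pow, pow_orderOf_eq_one]; rfl)
    have ht : orderOf (QuotientGroup.mk t : G ⧸ Subgroup.center G) ∣ orderOf t :=
      orderOf_dvd_of_pow_eq_one (by rw [← QuotientGroup.mk_pow, pow_orderOf_eq_one]; rfl)
    have hc := ih (QuotientGroup.mk x) (QuotientGroup.mk t)
      (Nat.Coprime.coprime_dvd_left hx (Nat.Coprime.coprime_dvd_right ht hcop))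
    obtain ⟨c, hcdef⟩ : ∃ c, c = x * t * x⁻¹ * t⁻¹ := ⟨_, rfl⟩
    have hcZ : c ∈ Subgroup.center G := by
      rw [← QuotientGroup.eq_one_iff, hcdef]
      simp only [QuotientGroup.mk_mul, QuotientGroup.mk_inv]
      have := hc.eq
      rw [this]
      group
    have hcc : ∀ y : G, c * y = y * c := fun y => (Subgroup.mem_center_iff.mp hcZ y).symm
    have h1 : c ^ orderOf t = 1 := by
      have e : x * t * x⁻¹ = c * t := by rw [hcdef]; group
      have e2 : (x * t * x⁻¹) ^ orderOf t = 1 := by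
        rw [conj_pow, pow_orderOf_eq_one]; group
      rw [e, (show Commute c t from hcc t).mul_pow, pow_orderOf_eq_one, mul_one] at e2
      exact e2
    have h2 : c ^ orderOf x = 1 := by
      have e : t * x⁻¹ * t⁻¹ = x⁻¹ * c := by rw [hcdef]; group
      have e2 : (t * x⁻¹ * t⁻¹) ^ orderOf x = 1 := by
        rw [conj_pow, inv_pow, pow_orderOf_eq_one]; group
      rw [e, (show Commute x⁻¹ c from (hcc x⁻¹).symm).mul_pow, inv_pow, pow_orderOf_eq_one,
        inv_one, one_mul] at e2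
      exact e2
    have h3 : orderOf c = 1 :=
      Nat.eq_one_of_dvd_coprimes hcop (orderOf_dvd_of_pow_eq_one h2) (orderOf_dvd_of_pow_eq_one h1)
    have h4 : c = 1 := orderOf_eq_one_iff.mp h3
    rw [hcdef] at h4
    show x * t = t * x
    calc x * t = (x * t * x⁻¹ * t⁻¹) * (t * x) := by group
      _ = t * x := by rw [h4, one_mul]

/-- In a nilpotent subgroup, elements of coprime orders commute. -/
theorem mul_comm_of_coprime_of_mem_nilpotent {G : Type*} [Group G] (N : Subgroup G)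
    (hN : Group.IsNilpotent N) {x t : G} (hx : x ∈ N) (ht : t ∈ N)
    (h : (orderOf x).Coprime (orderOf t)) : x * t = t * x := by
  have := commute_of_coprime_orderOf N ⟨x, hx⟩ ⟨t, ht⟩
    (by rw [Subgroup.orderOf_mk, Subgroup.orderOf_mk]; exact h)
  exact congrArg Subtype.val this.eq

/-- Decomposition of an element of finite order into its `p`-part and `p'`-part. -/
theorem exists_p_decomp {G : Type*} [Group G] (x : G) (hx : orderOf x ≠ 0) (p : ℕ) (hp : p.Prime) :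
    ∃ c₁ c₂ : G, c₁ ∈ Subgroup.zpowers x ∧ c₂ ∈ Subgroup.zpowers x ∧ x = c₁ * c₂ ∧
      (∃ k : ℕ, c₁ ^ (p ^ k) = 1) ∧ (orderOf c₂).Coprime p := by
  obtain ⟨e, n', hn', hn⟩ := Nat.exists_eq_pow_mul_and_not_dvd hx p hp.ne_one
  have hcop : Nat.Coprime (p ^ e) n' :=
    Nat.Coprime.pow_left e ((Nat.Prime.coprime_iff_not_dvd hp).mpr hn')
  have hbez := Nat.gcd_eq_gcd_ab (p ^ e) n'
  rw [hcop.gcd_eq_one] at hbez
  have hxn : x ^ (p ^ e * n') = 1 := by rw [← hn]; exact pow_orderOf_eq_one x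
  refine ⟨(x ^ n') ^ (Nat.gcdB (p ^ e) n'), (x ^ (p ^ e)) ^ (Nat.gcdA (p ^ e) n'), ?_, ?_, ?_, ?_, ?_⟩
  · exact Subgroup.zpow_mem _ (Subgroup.pow_mem _ (Subgroup.mem_zpowers x) _) _
  · exact Subgroup.zpow_mem _ (Subgroup.pow_mem _ (Subgroup.mem_zpowers x) _) _
  · have h1 : x = x ^ (((p ^ e : ℕ) : ℤ) * Nat.gcdA (p ^ e) n' + (n' : ℤ) * Nat.gcdB (p ^ e) n') := by
      rw [← hbez]; simp
    rw [zpow_add, zpow_mul, zpow_mul, zpow_natCast, zpow_natCast] at h1
    have hc : Commute ((x ^ n') ^ (Nat.gcdB (p ^ e) n')) ((x ^ (p ^ e)) ^ (Nat.gcdA (p ^ e) n')) :=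
      ((Commute.refl x).pow_pow _ _).zpow_zpow _ _
    calc x = (x ^ p ^ e) ^ Nat.gcdA (p ^ e) n' * (x ^ n') ^ Nat.gcdB (p ^ e) n' := h1
      _ = _ := hc.eq.symm
  · refine ⟨e, ?_⟩
    rw [← zpow_natCast, ← zpow_mul, mul_comm, zpow_mul, zpow_natCast, ← pow_mul, mul_comm, hxn,
      one_zpow]
  · have h2 : ((x ^ (p ^ e)) ^ (Nat.gcdA (p ^ e) n')) ^ n' = 1 := by
      rw [← zpow_natCast, ← zpow_mul, mul_comm, zpow_mul, zpow_natCast, ← pow_mul, hxn, one_zpow]
    exact Nat.Coprime.coprime_dvd_left (orderOf_dvd_of_pow_eq_one h2)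
      ((Nat.Prime.coprime_iff_not_dvd hp).mpr hn').symm

/-- The Sylow `p`-subgroup of a finite nilpotent subgroup. -/
theorem sylow_of_nilpotent {G : Type*} [Group G] [Finite G] (H : Subgroup G)
    (hH : Group.IsNilpotent H) (p : ℕ) [Fact p.Prime] :
    ∃ P : Subgroup G, P ≤ H ∧ IsPGroup p P ∧ Nat.card P = p ^ (Nat.card H).factorization p ∧
      ∀ x ∈ H, (∃ k : ℕ, x ^ (p ^ k) = 1) → x ∈ P := by
  haveI := hH
  obtain ⟨P₀⟩ : Nonempty (Sylow p H) := inferInstance
  have hnorm : (P₀ : Subgroup H).Normal :=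
    Sylow.normal_of_normalizerCondition Group.normalizerCondition_of_isNilpotent P₀
  refine ⟨(P₀ : Subgroup H).map H.subtype, Subgroup.map_subtype_le _, P₀.isPGroup'.map _, ?_, ?_⟩
  · rw [Subgroup.card_subtype, Sylow.card_eq_multiplicity]
  · rintro x hx ⟨k, hk⟩
    have hpg : IsPGroup p (Subgroup.zpowers (⟨x, hx⟩ : H)) := by
      rintro ⟨g, hg⟩
      obtain ⟨i, rfl⟩ := Subgroup.mem_zpowers_iff.mp hg
      refine ⟨k, ?_⟩
      apply Subtype.ext
      apply Subtype.ext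
      simp only [Subgroup.coe_pow, Subgroup.coe_zpow, Subgroup.coe_one]
      rw [← zpow_natCast, ← zpow_mul, mul_comm, zpow_mul, zpow_natCast, hk, one_zpow]
    obtain ⟨Q, hQ⟩ := hpg.exists_le_sylow
    haveI := Sylow.unique_of_normal P₀ hnorm
    have hQP : Q = P₀ := Subsingleton.elim _ _
    rw [hQP] at hQ
    exact ⟨⟨x, hx⟩, hQ (Subgroup.mem_zpowers _), rfl⟩

/-- An element of the centre of the Sylow `p`-subgroup of a nilpotent subgroup is central. -/
theorem central_of_sylow_central {G : Type*} [Group G] [Finite G] (H : Subgroup G)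
    (hH : Group.IsNilpotent H) (p : ℕ) [Fact p.Prime] (P : Subgroup G) (hPH : P ≤ H)
    (hP : IsPGroup p P) (hPall : ∀ x ∈ H, (∃ k : ℕ, x ^ (p ^ k) = 1) → x ∈ P)
    {y : G} (hy : y ∈ P) (hyc : ∀ u ∈ P, y * u = u * y) : ∀ h ∈ H, y * h = h * y := by
  intro h hh
  obtain ⟨c₁, c₂, hc₁, hc₂, hdec, hc₁p, hc₂p⟩ :=
    exists_p_decomp h (orderOf_pos h).ne' p (Fact.out : p.Prime)
  have hzH : Subgroup.zpowers h ≤ H := by
    rw [Subgroup.zpowers_le]; exact hh
  have h1 : y * c₁ = c₁ * y := hyc c₁ (hPall c₁ (hzH hc₁) hc₁p)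
  have h2 : y * c₂ = c₂ * y := by
    apply mul_comm_of_coprime_of_mem_nilpotent H hH (hPH hy) (hzH hc₂)
    obtain ⟨k, hk⟩ := (IsPGroup.iff_orderOf.mp hP) ⟨y, hy⟩
    rw [Subgroup.orderOf_mk] at hk
    rw [hk]
    exact Nat.Coprime.pow_left k hc₂p.symm
  rw [hdec, ← mul_assoc, h1, mul_assoc, h2, mul_assoc]

end Cfsg.Agent.Lib.H8
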