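import Mathlib

set_option autoImplicit false

/-!
# Counting the conjugates of a trivial-intersection subgroup
-/

namespace Cfsg.Agent.Lib.H8

/-- The set of all conjugates of the non-identity elements of `A`. -/
def conjSet {K : Type*} [Group K] (A : Subgroup K) : Set K :=
  {g | ∃ k x : K, x ∈ A ∧ x ≠ 1 ∧ g = k * x * k⁻¹}

theorem mem_conjSet {K : Type*} [Group K] {A : Subgroup K} {g : K} :
    g ∈ conjSet A ↔ ∃ k x : K, x ∈ A ∧ x ≠ 1 ∧ g = k * x * k⁻¹ := Iff.rfl

theorem one_notMem_conjSet {K : Type*} [Group K] (A : Subgroup K) : (1 : K) ∉ conjSet A := by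
  rintro ⟨k, x, -, hx1, h⟩
  apply hx1
  have : x = k⁻¹ * (k * x * k⁻¹) * k := by group
  rw [this, ← h]; group

theorem conj_mem_conjSet {K : Type*} [Group K] {A : Subgroup K} {g : K} (hg : g ∈ conjSet A)
    (c : K) : c * g * c⁻¹ ∈ conjSet A := by
  obtain ⟨k, x, hx, hx1, rfl⟩ := hg
  exact ⟨c * k, x, hx, hx1, by group⟩

/-- If `A` is a TI-subgroup with "normalizer" `N` (i.e. `N` normalizes `A` and any element
conjugating a non-identity element of `A` into `A` lies in `N`), then the non-identity elements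
of `A` have exactly `|K : N| (|A| - 1)` conjugates. -/
theorem ncard_conjSet {K : Type*} [Group K] [Finite K] (A N : Subgroup K)
    (hN : ∀ k ∈ N, ∀ x ∈ A, k * x * k⁻¹ ∈ A)
    (hTI : ∀ k x : K, x ∈ A → x ≠ 1 → k * x * k⁻¹ ∈ A → k ∈ N) :
    (conjSet A).ncard = N.index * (Nat.card A - 1) := by
  classical
  let f : (K ⧸ N) × A → K := fun z => z.1.out * (z.2 : K) * z.1.out⁻¹
  let S : Set ((K ⧸ N) × A) := Set.univ ×ˢ {x : A | x ≠ 1}
  have hinj : Set.InjOn f S := by
    rintro ⟨q, x⟩ hz ⟨q', x'⟩ hw h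
    simp only [S, Set.mem_prod, Set.mem_univ, true_and, Set.mem_setOf_eq] at hz hw
    simp only [f] at h
    have hx1 : (x : K) ≠ 1 := fun h1 => hz (Subtype.ext h1)
    have h1 : (q'.out⁻¹ * q.out) * (x : K) * (q'.out⁻¹ * q.out)⁻¹ = (x' : K) := by
      have : (x' : K) = q'.out⁻¹ * (q'.out * (x' : K) * q'.out⁻¹) * q'.out := by group
      rw [this, ← h]; group
    have hk : q'.out⁻¹ * q.out ∈ N := hTI _ _ x.2 hx1 (h1 ▸ x'.2)
    have hq : q = q' := by
      rw [← QuotientGroup.out_eq' q, ← QuotientGroup.out_eq' q']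
      exact (QuotientGroup.eq.mpr hk).symm
    subst hq
    have hx : (x : K) = (x' : K) := by
      have h2 : q.out * (x : K) * q.out⁻¹ = q.out * (x' : K) * q.out⁻¹ := h
      exact mul_left_cancel (mul_right_cancel h2)
    rw [Prod.mk.injEq]
    exact ⟨rfl, Subtype.ext hx⟩
  have himg : f '' S = conjSet A := by
    ext g
    constructor
    · rintro ⟨⟨q, x⟩, hz, rfl⟩
      simp only [S, Set.mem_prod, Set.mem_univ, true_and, Set.mem_setOf_eq] at hz
      exact ⟨q.out, x, x.2, fun h1 => hz (Subtype.ext h1), rfl⟩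
    · rintro ⟨k, x, hx, hx1, rfl⟩
      obtain ⟨n, hn⟩ := QuotientGroup.mk_out_eq_mul N k
      have hxn : (n : K)⁻¹ * x * ((n : K)⁻¹)⁻¹ ∈ A := hN _ (N.inv_mem n.2) x hx
      refine ⟨⟨(k : K ⧸ N), ⟨_, hxn⟩⟩, ?_, ?_⟩
      · simp only [S, Set.mem_prod, Set.mem_univ, true_and, Set.mem_setOf_eq]
        intro h1
        have h2 : (n : K)⁻¹ * x * ((n : K)⁻¹)⁻¹ = 1 := congrArg Subtype.val h1
        apply hx1
        have : x = (n : K) * ((n : K)⁻¹ * x * ((n : K)⁻¹)⁻¹) * (n : K)⁻¹ := by group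
        rw [this, h2]; group
      · simp only [f]
        rw [hn]
        group
  rw [← himg, hinj.ncard_image, Set.ncard_prod, Set.ncard_univ, ← Subgroup.index_eq_card]
  congr 1
  have : {x : A | x ≠ 1} = (Set.univ : Set A) \ {1} := by
    ext x; simp
  rw [this, Set.ncard_diff_singleton_of_mem (Set.mem_univ _), Set.ncard_univ]

end Cfsg.Agent.Lib.H8
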