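import Mathlib
import Cfsg.Agent.Lib.H8.TICount

set_option autoImplicit false

/-!
# Finite groups of odd order that look like subgroups of `SL₂` in characteristic `p`

`IsSL2Like K p` collects the properties of a finite odd-order subgroup of `SL₂(F)`, `char F = p`,
that make the classical counting argument work; the conclusion is that the elements of order
dividing `p` commute pairwise (the Sylow `p`-subgroup is normal and abelian).
-/

namespace Cfsg.Agent.Lib.H8

/-- Abstract properties of an odd-order subgroup of `SL₂` in characteristic `p`. -/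
structure IsSL2Like (K : Type*) [Group K] (p : ℕ) : Prop where
  ca : ∀ g : K, g ≠ 1 → ∀ x y : K, Commute x g → Commute y g → Commute x y
  ptype : ∀ g h : K, g ≠ 1 → h ≠ 1 → Commute g h → g ^ p = 1 → h ^ p = 1
  selfnorm : ∀ g n : K, g ^ p ≠ 1 → Commute (n * g * n⁻¹) g → Commute n g
  borel : ∀ u s x : K, u ≠ 1 → u ^ p = 1 → s ^ p ≠ 1 → Commute (s * u * s⁻¹) u → Commute x s →
    Commute (x * u * x⁻¹) u

section
variable {K : Type*} [Group K]

theorem commute_conj' {a b : K} (h : Commute a b) (k : K) :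
    Commute (k * a * k⁻¹) (k * b * k⁻¹) := by
  show k * a * k⁻¹ * (k * b * k⁻¹) = k * b * k⁻¹ * (k * a * k⁻¹)
  have h' : a * b = b * a := h
  calc k * a * k⁻¹ * (k * b * k⁻¹) = k * (a * b) * k⁻¹ := by group
    _ = k * (b * a) * k⁻¹ := by rw [h']
    _ = _ := by group

theorem commute_of_conj' {a b k : K} (h : Commute (k * a * k⁻¹) (k * b * k⁻¹)) : Commute a b := by
  have := commute_conj' h k⁻¹
  have e1 : k⁻¹ * (k * a * k⁻¹) * k⁻¹⁻¹ = a := by group
  have e2 : k⁻¹ * (k * b * k⁻¹) * k⁻¹⁻¹ = b := by group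
  rwa [e1, e2] at this

theorem conj_ne_one' {x : K} (hx : x ≠ 1) (k : K) : k * x * k⁻¹ ≠ 1 := by
  intro h
  apply hx
  have : x = k⁻¹ * (k * x * k⁻¹) * k := by group
  rw [this, h]; group

theorem mem_cent_iff {g x : K} : x ∈ Subgroup.centralizer ({g} : Set K) ↔ Commute x g :=
  Subgroup.mem_centralizer_singleton_iff

end

theorem arith_big {k i a : ℕ} (h : i * a = k) (ha : 3 ≤ a) : 2 * k ≤ 3 * (i * (a - 1)) := by
  obtain ⟨a', rfl⟩ : ∃ a', a = a' + 1 := ⟨a - 1, by omega⟩
  have ha' : 2 ≤ a' := by omega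
  simp only [Nat.add_sub_cancel]
  nlinarith

theorem arith_sub {k i a : ℕ} (h : i * a = k) (ha : 1 ≤ a) : i * (a - 1) + i = k := by
  obtain ⟨a', rfl⟩ : ∃ a', a = a' + 1 := ⟨a - 1, by omega⟩
  simp only [Nat.add_sub_cancel]
  rw [← h]; ring

theorem three_le_of_odd {a : ℕ} (h : Odd a) (h1 : a ≠ 1) : 3 ≤ a := by
  obtain ⟨m, rfl⟩ := h
  omega

theorem commute_of_isSL2Like {K : Type*} [Group K] [Finite K] {p : ℕ} [hp : Fact p.Prime]
    (hodd : Odd (Nat.card K)) (h : IsSL2Like K p) :
    ∀ g h' : K, g ^ p = 1 → h' ^ p = 1 → Commute g h' := by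
  classical
  by_cases hex : ∃ u : K, u ≠ 1 ∧ u ^ p = 1
  swap
  · intro g h' hg _
    have : g = 1 := by
      by_contra hg1
      exact hex ⟨g, hg1, hg⟩
    rw [this]; exact Commute.one_left _
  obtain ⟨u, hu1, hup⟩ := hex
  have hkpos : 0 < Nat.card K := Nat.card_pos
  -- transitivity of commuting
  have catrans : ∀ g h' : K, g ≠ 1 → Commute g h' → ∀ x, Commute x g → Commute x h' :=
    fun g h' hg hc x hx => h.ca g hg x h' hx hc.symm
  have TIgen : ∀ g : K, g ≠ 1 → ∀ k x : K, Commute x g → x ≠ 1 → Commute (k * x * k⁻¹) g →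
      ∀ y, Commute y g → Commute (k * y * k⁻¹) g := by
    intro g hg k x hx hx1 hkx y hy
    have hyx : Commute y x := catrans g x hg hx.symm y hy
    have h1 : Commute (k * y * k⁻¹) (k * x * k⁻¹) := commute_conj' hyx k
    exact catrans (k * x * k⁻¹) g (conj_ne_one' hx1 k) hkx _ h1
  -- the subgroup P
  obtain ⟨P, hPdef⟩ : ∃ P : Subgroup K, P = Subgroup.centralizer ({u} : Set K) := ⟨_, rfl⟩
  have memP : ∀ x, x ∈ P ↔ Commute x u := fun x => by rw [hPdef]; exact mem_cent_iff
  have huP : u ∈ P := (memP u).mpr (Commute.refl u)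
  have hPp : ∀ x ∈ P, x ^ p = 1 := by
    intro x hx
    by_cases hx1 : x = 1
    · rw [hx1, one_pow]
    · exact h.ptype u x hu1 hx1 ((memP x).mp hx).symm hup
  have hPcomm : ∀ x ∈ P, ∀ y ∈ P, Commute x y := fun x hx y hy =>
    h.ca u hu1 x y ((memP x).mp hx) ((memP y).mp hy)
  have hPpg : IsPGroup p P := fun x => ⟨1, by
    rw [pow_one]
    exact Subtype.ext (by simpa using hPp x x.2)⟩
  obtain ⟨Q, hPQ⟩ := hPpg.exists_le_sylow
  have hQP : (Q : Subgroup K) ≤ P := by
    haveI : Nontrivial (Q : Subgroup K) :=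
      ⟨⟨⟨u, hPQ huP⟩, 1, fun h1 => hu1 (congrArg Subtype.val h1)⟩⟩
    haveI := Q.isPGroup'.center_nontrivial
    obtain ⟨z, hz1⟩ := exists_ne (1 : Subgroup.center (Q : Subgroup K))
    have hzc : ∀ x : (Q : Subgroup K), Commute (x : K) ((z : (Q : Subgroup K)) : K) := by
      intro x
      have := Subgroup.mem_center_iff.mp z.2 x
      show (x : K) * _ = _ * (x : K)
      exact congrArg Subtype.val this
    have hzK1 : ((z : (Q : Subgroup K)) : K) ≠ 1 := fun h1 => hz1 (Subtype.ext (Subtype.ext h1))
    have hzu : Commute ((z : (Q : Subgroup K)) : K) u := (hzc ⟨u, hPQ huP⟩).symm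
    intro x hx
    rw [memP]
    exact catrans _ u hzK1 hzu x (hzc ⟨x, hx⟩)
  have hQeq : (Q : Subgroup K) = P := le_antisymm hQP hPQ
  have claimA : ∀ g : K, g ^ p = 1 → ∃ k : K, k * g * k⁻¹ ∈ P := by
    intro g hg
    have hzp : IsPGroup p (Subgroup.zpowers g) := by
      rintro ⟨x, hx⟩
      obtain ⟨i, rfl⟩ := Subgroup.mem_zpowers_iff.mp hx
      refine ⟨1, Subtype.ext ?_⟩
      simp only [pow_one, Subgroup.coe_pow, Subgroup.coe_one]
      rw [← zpow_natCast, ← zpow_mul, mul_comm, zpow_mul, zpow_natCast, hg, one_zpow]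
    obtain ⟨Q', hQ'⟩ := hzp.exists_le_sylow
    obtain ⟨k, hk⟩ := MulAction.exists_smul_eq K Q' Q
    refine ⟨k, ?_⟩
    rw [← hQeq, ← hk, Sylow.coe_subgroup_smul]
    have := Subgroup.smul_mem_pointwise_smul g (MulAut.conj k) (Q' : Subgroup K)
      (hQ' (Subgroup.mem_zpowers g))
    rwa [MulAut.smul_def, MulAut.conj_apply] at this
  -- the normalizer
  obtain ⟨N, hNdef⟩ : ∃ N : Subgroup K, N = Subgroup.normalizer (P : Set K) := ⟨_, rfl⟩
  have hN : ∀ k ∈ N, ∀ x ∈ P, k * x * k⁻¹ ∈ P := by
    intro k hk x hx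
    rw [hNdef] at hk
    exact (Subgroup.mem_normalizer_iff.mp hk x).mp hx
  have hTI : ∀ k x : K, x ∈ P → x ≠ 1 → k * x * k⁻¹ ∈ P → k ∈ N := by
    intro k x hx hx1 hkx
    rw [hNdef, Subgroup.mem_normalizer_iff]
    intro y
    constructor
    · intro hy
      rw [memP] at hx hkx hy ⊢
      exact TIgen u hu1 k x hx hx1 hkx y hy
    · intro hy
      rw [memP] at hx hkx hy ⊢
      have e1 : k⁻¹ * (k * x * k⁻¹) * k⁻¹⁻¹ = x := by group
      have := TIgen u hu1 k⁻¹ (k * x * k⁻¹) hkx (conj_ne_one' hx1 k) (by rw [e1]; exact hx)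
        (k * y * k⁻¹) hy
      have e2 : k⁻¹ * (k * y * k⁻¹) * k⁻¹⁻¹ = y := by group
      rwa [e2] at this
  have hPN : P ≤ N := by
    intro k hk
    exact hTI k u huP hu1 (by
      have : k * u * k⁻¹ = u := by
        have hc : k * u = u * k := (memP k).mp hk
        rw [hc]; group
      rw [this]; exact huP)
  -- the set T0
  have hT0 : {g : K | g ≠ 1 ∧ g ^ p = 1} = conjSet P := by
    ext g
    constructor
    · rintro ⟨hg1, hgp⟩
      obtain ⟨k, hk⟩ := claimA g hgp
      exact ⟨k⁻¹, k * g * k⁻¹, hk, conj_ne_one' hg1 k, by group⟩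
    · rintro ⟨k, x, hx, hx1, rfl⟩
      exact ⟨conj_ne_one' hx1 k, by rw [conj_pow, hPp x hx]; group⟩
  have hT0card : (conjSet P).ncard = N.index * (Nat.card P - 1) := ncard_conjSet P N hN hTI
  -- semisimple part
  have hA1 : ∀ s : K, s ^ p ≠ 1 → s ≠ 1 := by
    intro s hs h1; apply hs; rw [h1, one_pow]
  have hAnp : ∀ s : K, s ^ p ≠ 1 → ∀ y, Commute y s → y ≠ 1 → y ^ p ≠ 1 := by
    intro s hs y hy hy1 hyp
    exact hs (h.ptype y s hy1 (hA1 s hs) hy hyp)
  have hAcard : ∀ s : K, s ^ p ≠ 1 →
      (conjSet (Subgroup.centralizer ({s} : Set K))).ncard =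
        (Subgroup.centralizer ({s} : Set K)).index *
          (Nat.card (Subgroup.centralizer ({s} : Set K)) - 1) := by
    intro s hs
    apply ncard_conjSet
    · intro k hk x hx
      exact Subgroup.mul_mem _ (Subgroup.mul_mem _ hk hx) (Subgroup.inv_mem _ hk)
    · intro k x hx hx1 hkx
      rw [mem_cent_iff] at hx hkx ⊢
      have := TIgen s (hA1 s hs) k x hx hx1 hkx s (Commute.refl s)
      exact h.selfnorm s k hs this
  have hAthree : ∀ s : K, s ^ p ≠ 1 → 3 ≤ Nat.card (Subgroup.centralizer ({s} : Set K)) := by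
    intro s hs
    apply three_le_of_odd
    · exact Odd.of_dvd_nat hodd (Subgroup.card_subgroup_dvd_card _)
    · intro h1
      have := Subgroup.card_eq_one.mp h1
      have hs' : s ∈ Subgroup.centralizer ({s} : Set K) := mem_cent_iff.mpr (Commute.refl s)
      rw [this, Subgroup.mem_bot] at hs'
      exact hA1 s hs hs'
  have hAbig : ∀ s : K, s ^ p ≠ 1 →
      2 * Nat.card K ≤ 3 * (conjSet (Subgroup.centralizer ({s} : Set K))).ncard := by
    intro s hs
    rw [hAcard s hs]
    apply arith_big _ (hAthree s hs)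
    rw [mul_comm]; exact Subgroup.card_mul_index _
  have hcover : ∀ s s' : K, s ^ p ≠ 1 → s' ^ p ≠ 1 →
      s' ∈ conjSet (Subgroup.centralizer ({s} : Set K)) := by
    intro s s' hs hs'
    by_contra hns'
    have hdisj : Disjoint (conjSet (Subgroup.centralizer ({s} : Set K)))
        (conjSet (Subgroup.centralizer ({s'} : Set K))) := by
      rw [Set.disjoint_left]
      rintro x ⟨g, y, hy, hy1, hxy⟩ ⟨g', y', hy', hy1', hxy'⟩
      apply hns'
      rw [mem_cent_iff] at hy hy'
      -- g' s' g'⁻¹ commutes with x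
      have h1 : Commute (g' * s' * g'⁻¹) (g' * y' * g'⁻¹) := commute_conj' hy'.symm g'
      rw [← hxy', hxy] at h1
      have e : g' * s' * g'⁻¹ = g * (g⁻¹ * (g' * s' * g'⁻¹) * g) * g⁻¹ := by group
      rw [e] at h1
      have h2 : Commute (g⁻¹ * (g' * s' * g'⁻¹) * g) y := commute_of_conj' h1
      have h3 : Commute (g⁻¹ * (g' * s' * g'⁻¹) * g) s := catrans y s hy1 hy _ h2
      refine ⟨g'⁻¹ * g, g⁻¹ * (g' * s' * g'⁻¹) * g, mem_cent_iff.mpr h3, ?_, by group⟩
      have e2 : g⁻¹ * (g' * s' * g'⁻¹) * g = (g⁻¹ * g') * s' * (g⁻¹ * g')⁻¹ := by group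
      rw [e2]
      exact conj_ne_one' (hA1 s' hs') _
    have hun := Set.ncard_union_eq hdisj
    have hle : ((conjSet (Subgroup.centralizer ({s} : Set K))) ∪
        (conjSet (Subgroup.centralizer ({s'} : Set K)))).ncard ≤ Nat.card K := Set.ncard_le_card _
    have b1 := hAbig s hs
    have b2 := hAbig s' hs'
    omega
  have hSeq : ∀ s : K, s ^ p ≠ 1 →
      {g : K | g ^ p ≠ 1} = conjSet (Subgroup.centralizer ({s} : Set K)) := by
    intro s hs
    ext g
    constructor
    · intro hg
      exact hcover s g hs hg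
    · rintro ⟨k, y, hy, hy1, rfl⟩
      rw [mem_cent_iff] at hy
      have := hAnp s hs y hy hy1
      show (k * y * k⁻¹) ^ p ≠ 1
      rw [conj_pow]
      exact conj_ne_one' this k
  -- partition count
  have hcount : ({g : K | g ^ p ≠ 1}).ncard + (conjSet P).ncard + 1 = Nat.card K := by
    have h1 := Set.ncard_add_ncard_compl {g : K | g ^ p ≠ 1}
    have h2 : ({g : K | g ^ p ≠ 1})ᶜ = insert 1 (conjSet P) := by
      rw [← hT0]
      ext g
      simp only [Set.mem_compl_iff, Set.mem_setOf_eq, not_not, Set.mem_insert_iff]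
      constructor
      · intro hg
        by_cases hg1 : g = 1
        · left; exact hg1
        · right; exact ⟨hg1, hg⟩
      · rintro (rfl | ⟨-, hg⟩)
        · exact one_pow _
        · exact hg
    rw [h2, Set.ncard_insert_of_notMem (one_notMem_conjSet P)] at h1
    omega
  -- arithmetic data
  have hNidx : Nat.card N * N.index = Nat.card K := Subgroup.card_mul_index N
  have hPthree : 3 ≤ Nat.card P := by
    apply three_le_of_odd
    · exact Odd.of_dvd_nat hodd (Subgroup.card_subgroup_dvd_card _)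
    · intro h1
      have := Subgroup.card_eq_one.mp h1
      rw [this, Subgroup.mem_bot] at huP
      exact hu1 huP
  -- N = ⊤
  have hNtop : N = ⊤ := by
    by_contra hNtop
    have hidx2 : 2 ≤ N.index := by
      have h0 : N.index ≠ 0 := Subgroup.index_ne_zero_of_finite
      have h1 : N.index ≠ 1 := fun h => hNtop (Subgroup.index_eq_one.mp h)
      omega
    by_cases hNP : N ≤ P
    · have hNPeq : N = P := le_antisymm hNP hPN
      have hPidx : N.index * Nat.card P = Nat.card K := by
        rw [← hNidx, hNPeq, mul_comm]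
      have e0 := arith_sub hPidx (by omega)
      by_cases hS : ∃ s : K, s ^ p ≠ 1
      · obtain ⟨s, hs⟩ := hS
        rw [hSeq s hs, hAcard s hs, hT0card] at hcount
        have hsidx : (Subgroup.centralizer ({s} : Set K)).index *
            Nat.card (Subgroup.centralizer ({s} : Set K)) = Nat.card K := by
          rw [mul_comm]; exact Subgroup.card_mul_index _
        have e1 := arith_sub hsidx (by have := hAthree s hs; omega)
        have b1 : 3 * (Subgroup.centralizer ({s} : Set K)).index ≤ Nat.card K := by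
          rw [← hsidx]
          have := hAthree s hs
          nlinarith
        have b2 : 3 * N.index ≤ Nat.card K := by
          rw [← hPidx]
          nlinarith
        omega
      · have hSempty : {g : K | g ^ p ≠ 1} = ∅ := by
          ext g
          simp only [Set.mem_setOf_eq, Set.mem_empty_iff_false, iff_false, not_not]
          by_contra hg
          exact hS ⟨g, hg⟩
        rw [hSempty, Set.ncard_empty, hT0card] at hcount
        omega
    · obtain ⟨s, hsN, hsP⟩ := SetLike.not_le_iff_exists.mp hNP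
      have hs : s ^ p ≠ 1 := by
        intro hsp
        apply hsP
        have hzp : IsPGroup p (Subgroup.zpowers s) := by
          rintro ⟨x, hx⟩
          obtain ⟨i, rfl⟩ := Subgroup.mem_zpowers_iff.mp hx
          refine ⟨1, Subtype.ext ?_⟩
          simp only [pow_one, Subgroup.coe_pow, Subgroup.coe_one]
          rw [← zpow_natCast, ← zpow_mul, mul_comm, zpow_mul, zpow_natCast, hsp, one_zpow]
        have h1 := hzp.inf_normalizer_sylow Q
        have h2 : s ∈ Subgroup.zpowers s ⊓ Subgroup.normalizer (Q : Set K) := by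
          refine ⟨Subgroup.mem_zpowers s, ?_⟩
          have h3 : s ∈ Subgroup.normalizer ((Q : Subgroup K) : Set K) := by
            rw [hQeq, ← hNdef]
            exact hsN
          exact h3
        rw [h1] at h2
        rw [← hQeq]
        exact h2.2
      -- A ≤ N
      have hAN : Subgroup.centralizer ({s} : Set K) ≤ N := by
        intro x hx
        rw [mem_cent_iff] at hx
        have h1 : Commute (s * u * s⁻¹) u := (memP _).mp (hN s hsN u huP)
        have h2 := h.borel u s x hu1 hup hs h1 hx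
        exact hTI x u huP hu1 ((memP _).mpr h2)
      have hAP : ∀ y : K, y ∈ Subgroup.centralizer ({s} : Set K) → y ∈ P → y = 1 := by
        intro y hy hyP
        by_contra hy1
        exact hAnp s hs y (mem_cent_iff.mp hy) hy1 (hPp y hyP)
      have hprod : Nat.card (Subgroup.centralizer ({s} : Set K)) * Nat.card P ≤ Nat.card N := by
        rw [← Nat.card_prod]
        let f : (Subgroup.centralizer ({s} : Set K)) × P → N :=
          fun z => ⟨(z.1 : K) * (z.2 : K), N.mul_mem (hAN z.1.2) (hPN z.2.2)⟩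
        apply Nat.card_le_card_of_injective f
        rintro ⟨a, b⟩ ⟨a', b'⟩ hab
        have hab' : (a : K) * (b : K) = (a' : K) * (b' : K) := congrArg Subtype.val hab
        have h1 : (a' : K)⁻¹ * (a : K) = (b' : K) * (b : K)⁻¹ := by
          have : (a : K) = (a' : K) * (b' : K) * (b : K)⁻¹ := by rw [← hab']; group
          rw [this]; group
        have h2 : (a' : K)⁻¹ * (a : K) = 1 := by
          apply hAP
          · exact Subgroup.mul_mem _ (Subgroup.inv_mem _ a'.2) a.2
          · rw [h1]; exact P.mul_mem b'.2 (P.inv_mem b.2)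
        have ha : (a : K) = (a' : K) := by
          have : (a : K) = (a' : K) * ((a' : K)⁻¹ * (a : K)) := by group
          rw [this, h2, mul_one]
        have hb : (b : K) = (b' : K) := by
          rw [ha] at hab'
          exact mul_left_cancel hab'
        rw [Prod.mk.injEq]
        exact ⟨Subtype.ext ha, Subtype.ext hb⟩
      rw [hSeq s hs, hAcard s hs, hT0card] at hcount
      have hsidx : (Subgroup.centralizer ({s} : Set K)).index *
          Nat.card (Subgroup.centralizer ({s} : Set K)) = Nat.card K := by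
        rw [mul_comm]; exact Subgroup.card_mul_index _
      have e1 := arith_sub hsidx (by have := hAthree s hs; omega)
      have hle : Nat.card P * N.index ≤ (Subgroup.centralizer ({s} : Set K)).index := by
        have ha0 : 0 < Nat.card (Subgroup.centralizer ({s} : Set K)) := by
          have := hAthree s hs; omega
        apply Nat.le_of_mul_le_mul_left _ ha0
        calc Nat.card (Subgroup.centralizer ({s} : Set K)) * (Nat.card P * N.index)
            = (Nat.card (Subgroup.centralizer ({s} : Set K)) * Nat.card P) * N.index := by ring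
          _ ≤ Nat.card N * N.index := Nat.mul_le_mul_right _ hprod
          _ = Nat.card K := hNidx
          _ = _ := by rw [← hsidx]; ring
      have e2 : N.index * (Nat.card P - 1) + N.index = Nat.card P * N.index := by
        obtain ⟨a', ha'⟩ : ∃ a', Nat.card P = a' + 1 := ⟨Nat.card P - 1, by omega⟩
        rw [ha']
        simp only [Nat.add_sub_cancel]
        ring
      omega
  -- conclusion
  intro g h' hg hh
  by_cases hg1 : g = 1
  · rw [hg1]; exact Commute.one_left _
  by_cases hh1 : h' = 1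
  · rw [hh1]; exact Commute.one_right _
  have inP : ∀ x : K, x ^ p = 1 → x ∈ P := by
    intro x hx
    obtain ⟨k, hk⟩ := claimA x hx
    have hkN : k⁻¹ ∈ N := by rw [hNtop]; exact Subgroup.mem_top _
    have := hN k⁻¹ hkN _ hk
    have e : k⁻¹ * (k * x * k⁻¹) * k⁻¹⁻¹ = x := by group
    rwa [e] at this
  exact hPcomm g (inP g hg) h' (inP h' hh)

end Cfsg.Agent.Lib.H8
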