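import Mathlib
import Cfsg.Agent.Lib.H12.SL2Reg
import Cfsg.Agent.Lib.H12.SL2OddUnip
import Cfsg.Agent.Lib.H8.OddCA

set_option autoImplicit false

/-!
# Odd-order subgroups of `SL₂(F)` in odd characteristic `p`

Such a subgroup satisfies `IsSL2Like`, hence its elements of order dividing `p` commute.
-/

namespace Cfsg.Agent.Lib.H8.SL2Odd

open Matrix Cfsg.Agent.Lib.H12 Cfsg.Agent.Lib.H8

variable {F : Type*} [Field F]

local notation "SL2" => Matrix.SpecialLinearGroup (Fin 2) F
local notation "M2" => Matrix (Fin 2) (Fin 2) F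

theorem eq_one_of_odd_of_sq {G : Type*} [Group G] {g : G} (hodd : Odd (orderOf g))
    (h : g * g = 1) : g = 1 := by
  have h2 : orderOf g ∣ 2 := orderOf_dvd_of_pow_eq_one (by rw [pow_two]; exact h)
  have h1 : orderOf g = 1 := by
    rcases (Nat.dvd_prime Nat.prime_two).mp h2 with h1 | h2'
    · exact h1
    · rw [h2'] at hodd; exact absurd hodd (by decide)
  exact orderOf_eq_one_iff.mp h1

theorem nonScalar_of_ne_one {g : SL2} (hg : g ≠ 1) (hodd : Odd (orderOf g)) :
    NonScalar (g : M2) := by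
  rintro ⟨h01, h10, h00⟩
  apply hg
  apply eq_one_of_odd_of_sq hodd
  apply Subtype.ext
  have hdet := g.det_coe
  rw [Matrix.det_fin_two, h01, h00] at hdet
  rw [Matrix.SpecialLinearGroup.coe_mul, Matrix.SpecialLinearGroup.coe_one]
  ext i j
  fin_cases i <;> fin_cases j <;>
    simp [Matrix.mul_apply, Fin.sum_univ_two, h01, h10, h00]
  · linear_combination hdet
  · linear_combination hdet

theorem pow_char_eq_one_iff_trace (p : ℕ) [Fact p.Prime] [CharP F p] (h2 : (2 : F) ≠ 0) (g : SL2) :
    g ^ p = 1 ↔ (g : M2).trace = 2 := by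
  constructor
  · intro hgp
    by_cases hg1 : g = 1
    · rw [hg1, Matrix.SpecialLinearGroup.coe_one, Matrix.trace_fin_two]
      simp only [Matrix.one_apply_eq]
      norm_num
    · have ho : orderOf g = p := orderOf_eq_prime hgp hg1
      exact ((sl2_orderOf_eq_char_iff p g).mp ho).2
  · intro ht
    by_cases hs : NonScalar (g : M2)
    · have ho := (sl2_orderOf_eq_char_iff p g).mpr ⟨hs, ht⟩
      rw [← ho]; exact pow_orderOf_eq_one g
    · have hs' : (g : M2) 0 1 = 0 ∧ (g : M2) 1 0 = 0 ∧ (g : M2) 0 0 = (g : M2) 1 1 :=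
        not_not.mp hs
      obtain ⟨h01, h10, h00⟩ := hs'
      rw [Matrix.trace_fin_two, h00] at ht
      have h11 : (g : M2) 1 1 = 1 := by
        have : 2 * ((g : M2) 1 1 - 1) = 0 := by linear_combination ht
        exact sub_eq_zero.mp ((mul_eq_zero.mp this).resolve_left h2)
      have : g = 1 := by
        apply Subtype.ext
        ext i j
        fin_cases i <;> fin_cases j <;> simp [h01, h10, h00, h11]
      rw [this, one_pow]

theorem trace_ne_neg_two (p : ℕ) [Fact p.Prime] [CharP F p] (h2 : (2 : F) ≠ 0) {g : SL2}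
    (hodd : Odd (orderOf g)) : (g : M2).trace ≠ -2 := by
  intro ht
  have hsq : ((g * g : SL2) : M2).trace = 2 := by
    rw [Matrix.SpecialLinearGroup.coe_mul, m2_cayley _ g.det_coe, Matrix.trace_sub,
      Matrix.trace_smul, ht, Matrix.trace_fin_two (1 : M2)]
    simp only [Matrix.one_apply_eq, smul_eq_mul]
    ring
  have h1 : (g * g) ^ p = 1 := (pow_char_eq_one_iff_trace p h2 _).mpr hsq
  have h3 : g ^ (2 * p) = 1 := by rw [pow_mul, pow_two]; exact h1
  have hd : orderOf g ∣ 2 * p := orderOf_dvd_of_pow_eq_one h3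
  have hcop : (orderOf g).Coprime 2 := (Nat.coprime_two_left.mpr hodd).symm
  have hd' : orderOf g ∣ p := hcop.dvd_of_dvd_mul_left hd
  have hgp : g ^ p = 1 := orderOf_dvd_iff_pow_eq_one.mp hd'
  have ht2 := (pow_char_eq_one_iff_trace p h2 g).mp hgp
  rw [ht] at ht2
  have : (2 : F) * 2 = 0 := by linear_combination (-1 : F) * ht2
  rcases mul_eq_zero.mp this with h | h <;> exact h2 h

theorem ptype (p : ℕ) [Fact p.Prime] [CharP F p] (h2 : (2 : F) ≠ 0) {g h : SL2} (hg1 : g ≠ 1)
    (hgodd : Odd (orderOf g)) (hhodd : Odd (orderOf h)) (hc : Commute g h) (hgp : g ^ p = 1) :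
    h ^ p = 1 := by
  have hgt := (pow_char_eq_one_iff_trace p h2 g).mp hgp
  have hns := nonScalar_of_ne_one hg1 hgodd
  have hmem : h ∈ Subgroup.centralizer ({g} : Set SL2) :=
    Subgroup.mem_centralizer_singleton_iff.mpr hc.symm.eq
  obtain ⟨α, β, hh⟩ := (mem_centralizer_iff_span hns h).mp hmem
  have hT : (h : M2).trace = 2 * α + β * 2 := by rw [hh, trace_span, hgt]
  have hD : α ^ 2 + α * β * 2 + β ^ 2 = 1 := by
    have := det_span (g : M2) g.det_coe α β
    rw [hgt, ← hh, h.det_coe] at this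
    exact this.symm
  have hsq : ((h : M2).trace - 2) * ((h : M2).trace + 2) = 0 := by
    rw [hT]; linear_combination 4 * hD
  rcases mul_eq_zero.mp hsq with h' | h'
  · exact (pow_char_eq_one_iff_trace p h2 h).mpr (sub_eq_zero.mp h')
  · exact absurd (eq_neg_of_add_eq_zero_left h') (trace_ne_neg_two p h2 hhodd)

theorem conj_cases' (h2 : (2 : F) ≠ 0) {d : SL2} (ht : (d : M2).trace ^ 2 ≠ 4) {g : SL2}
    (hy : g * d * g⁻¹ ∈ Subgroup.centralizer ({d} : Set SL2)) :
    g * d * g⁻¹ = d ∨ g * d * g⁻¹ = d⁻¹ := by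
  have hd : NonScalar (d : M2) := nonScalar_of_trace_sq_ne d ht
  obtain ⟨α, β, hy'⟩ := (mem_centralizer_iff_span hd _).mp hy
  have hT : 2 * α + β * (d : M2).trace = (d : M2).trace := by
    rw [← trace_span, ← hy', sl2_trace_conj]
  have hD : α ^ 2 + α * β * (d : M2).trace + β ^ 2 = 1 := by
    rw [← det_span _ d.det_coe, ← hy']
    exact (g * d * g⁻¹).det_coe
  have hβ : (1 - β ^ 2) * ((d : M2).trace ^ 2 - 4) = 0 := by
    linear_combination (-(2 * α + β * (d : M2).trace + (d : M2).trace)) * hT + 4 * hD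
  have hβ' : (β - 1) * (β + 1) = 0 := by
    rcases mul_eq_zero.mp hβ with h | h
    · linear_combination (-1 : F) * h
    · exact absurd (sub_eq_zero.mp h) ht
  rcases mul_eq_zero.mp hβ' with h | h
  · left
    have hβ1 : β = 1 := sub_eq_zero.mp h
    have hα : α = 0 := by
      rw [hβ1] at hT
      have : 2 * α = 0 := by linear_combination hT
      exact (mul_eq_zero.mp this).resolve_left h2
    apply Subtype.ext
    rw [hy', hα, hβ1]
    simp
  · right
    have hβ1 : β = -1 := eq_neg_of_add_eq_zero_left h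
    have hα : α = (d : M2).trace := by
      rw [hβ1] at hT
      have : 2 * (α - (d : M2).trace) = 0 := by linear_combination hT
      exact sub_eq_zero.mp ((mul_eq_zero.mp this).resolve_left h2)
    apply Subtype.ext
    rw [hy', hα, hβ1, sl2_inv_val]
    module

theorem selfnorm (p : ℕ) [Fact p.Prime] [CharP F p] (h2 : (2 : F) ≠ 0) {g n : SL2}
    (hgodd : Odd (orderOf g)) (hnodd : Odd (orderOf n)) (hgp : g ^ p ≠ 1)
    (hc : Commute (n * g * n⁻¹) g) : Commute n g := by
  have ht2 : (g : M2).trace ≠ 2 := fun h => hgp ((pow_char_eq_one_iff_trace p h2 g).mpr h)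
  have htm2 := trace_ne_neg_two p h2 hgodd
  have ht : (g : M2).trace ^ 2 ≠ 4 := by
    intro h
    have : ((g : M2).trace - 2) * ((g : M2).trace + 2) = 0 := by linear_combination h
    rcases mul_eq_zero.mp this with h' | h'
    · exact ht2 (sub_eq_zero.mp h')
    · exact htm2 (eq_neg_of_add_eq_zero_left h')
  have hy : n * g * n⁻¹ ∈ Subgroup.centralizer ({g} : Set SL2) :=
    Subgroup.mem_centralizer_singleton_iff.mpr hc.eq
  rcases conj_cases' h2 ht hy with h' | h'
  · show n * g = g * n
    calc n * g = (n * g * n⁻¹) * n := by group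
      _ = g * n := by rw [h']
  · exfalso
    have e : n * g = g⁻¹ * n := by
      calc n * g = (n * g * n⁻¹) * n := by group
        _ = g⁻¹ * n := by rw [h']
    have e'' : n * g⁻¹ * n⁻¹ = g := by
      calc n * g⁻¹ * n⁻¹ = (n * g * n⁻¹)⁻¹ := by group
        _ = g := by rw [h', inv_inv]
    have e' : n * g⁻¹ = g * n := by
      calc n * g⁻¹ = (n * g⁻¹ * n⁻¹) * n := by group
        _ = g * n := by rw [e'']
    have h3 : Commute (n * n) g := by
      show n * n * g = g * (n * n)
      calc n * n * g = n * (n * g) := by group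
        _ = n * (g⁻¹ * n) := by rw [e]
        _ = (n * g⁻¹) * n := by group
        _ = g * n * n := by rw [e']
        _ = g * (n * n) := by group
    obtain ⟨j, hj⟩ := hnodd
    have hn : n = (n * n) ^ (j + 1) := by
      rw [← pow_two, ← pow_mul]
      have : 2 * (j + 1) = orderOf n + 1 := by omega
      rw [this, pow_succ, pow_orderOf_eq_one, one_mul]
    have h4 : Commute n g := by rw [hn]; exact h3.pow_left _
    have h5 : n * g * n⁻¹ = g := by
      have : n * g = g * n := h4
      rw [this]; group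
    rw [h5] at h'
    have h6 : g * g = 1 := by
      nth_rewrite 2 [h']
      exact mul_inv_cancel g
    have := eq_one_of_odd_of_sq hgodd h6
    exact hgp (by rw [this, one_pow])

/-- `(U - 1)² = 0` for `U` of determinant one and trace two. -/
theorem sub_one_sq_of_trace_two (U : M2) (hdet : U.det = 1) (htr : U.trace = 2) :
    (U - 1) * (U - 1) = 0 := by
  have h := m2_cayley U hdet
  rw [htr] at h
  have : (U - 1) * (U - 1) = U * U - (2 : F) • U + 1 := by
    simp only [sub_mul, mul_sub, mul_one, one_mul, two_smul]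
    abel
  rw [this, h]
  abel

theorem borel_alg (N S X Xi : M2) (β γ δ γ' δ' : F) (hNN : N * N = 0)
    (hSN : S * N = β • (N * S)) (hX : X = γ • (1 : M2) + δ • S) (hXi : Xi = γ' • (1 : M2) + δ' • S)
    (hXXi : X * Xi = 1) :
    (X * (1 + N) * Xi) * (1 + N) = (1 + N) * (X * (1 + N) * Xi) := by
  have hXN : X * N = N * (γ • (1 : M2) + (δ * β) • S) := by
    rw [hX, add_mul, mul_add, smul_mul_assoc, smul_mul_assoc, one_mul, hSN, mul_smul_comm,
      mul_smul_comm, mul_one, smul_smul]
  have hXiN : Xi * N = N * (γ' • (1 : M2) + (δ' * β) • S) := by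
    rw [hXi, add_mul, mul_add, smul_mul_assoc, smul_mul_assoc, one_mul, hSN, mul_smul_comm,
      mul_smul_comm, mul_one, smul_smul]
  have hW : X * (1 + N) * Xi = 1 + X * N * Xi := by
    rw [mul_add, mul_one, add_mul, hXXi]
  have hWN : X * N * Xi * N = 0 := by
    rw [Matrix.mul_assoc (X * N) Xi N, hXiN, ← Matrix.mul_assoc (X * N) N, Matrix.mul_assoc X N N,
      hNN, Matrix.mul_zero, Matrix.zero_mul]
  have hNW : N * (X * N * Xi) = 0 := by
    rw [← Matrix.mul_assoc, ← Matrix.mul_assoc, Matrix.mul_assoc N X N, hXN,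
      ← Matrix.mul_assoc N N, hNN, Matrix.zero_mul, Matrix.zero_mul]
  rw [hW]
  simp only [mul_add, add_mul, mul_one, one_mul, hWN, hNW]
  abel

theorem borel (p : ℕ) [Fact p.Prime] [CharP F p] (h2 : (2 : F) ≠ 0) {u s x : SL2} (hu1 : u ≠ 1)
    (huodd : Odd (orderOf u)) (hup : u ^ p = 1) (hs1 : s ≠ 1) (hsodd : Odd (orderOf s))
    (hc : Commute (s * u * s⁻¹) u) (hx : Commute x s) : Commute (x * u * x⁻¹) u := by
  have hut := (pow_char_eq_one_iff_trace p h2 u).mp hup
  have hnsu := nonScalar_of_ne_one hu1 huodd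
  have hnss := nonScalar_of_ne_one hs1 hsodd
  have hy : s * u * s⁻¹ ∈ Subgroup.centralizer ({u} : Set SL2) :=
    Subgroup.mem_centralizer_singleton_iff.mpr hc.eq
  obtain ⟨α, β, hsu⟩ := (mem_centralizer_iff_span hnsu _).mp hy
  have hαβ : α + β = 1 := by
    have hT : 2 * α + β * (u : M2).trace = (u : M2).trace := by
      rw [← trace_span, ← hsu, sl2_trace_conj]
    rw [hut] at hT
    have : 2 * (α + β - 1) = 0 := by linear_combination hT
    exact sub_eq_zero.mp ((mul_eq_zero.mp this).resolve_left h2)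
  have hxs : x ∈ Subgroup.centralizer ({s} : Set SL2) :=
    Subgroup.mem_centralizer_singleton_iff.mpr hx.eq
  have hxis : x⁻¹ ∈ Subgroup.centralizer ({s} : Set SL2) := Subgroup.inv_mem _ hxs
  obtain ⟨γ, δ, hX⟩ := (mem_centralizer_iff_span hnss x).mp hxs
  obtain ⟨γ', δ', hXi⟩ := (mem_centralizer_iff_span hnss x⁻¹).mp hxis
  have hNN := sub_one_sq_of_trace_two (u : M2) u.det_coe hut
  -- S * U = (α + β U) * S
  have hSU : (s : M2) * (u : M2) = (α • (1 : M2) + β • (u : M2)) * (s : M2) := by
    have e : s * u = (s * u * s⁻¹) * s := by group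
    rw [← hsu, ← Matrix.SpecialLinearGroup.coe_mul, ← Matrix.SpecialLinearGroup.coe_mul, ← e]
  have hSN : (s : M2) * ((u : M2) - 1) = β • (((u : M2) - 1) * (s : M2)) := by
    have hα : α = 1 - β := by linear_combination hαβ
    rw [mul_sub, hSU, hα, mul_one, add_mul, smul_mul_assoc, smul_mul_assoc, one_mul, sub_mul,
      one_mul, smul_sub, sub_smul, one_smul]
    abel
  have hXXi : (x : M2) * ((x⁻¹ : SL2) : M2) = 1 := sl2_mul_inv_val x
  have key := borel_alg ((u : M2) - 1) (s : M2) (x : M2) ((x⁻¹ : SL2) : M2) β γ δ γ' δ' hNN hSN hX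
    hXi hXXi
  rw [add_sub_cancel] at key
  show x * u * x⁻¹ * u = u * (x * u * x⁻¹)
  apply Subtype.ext
  simp only [Matrix.SpecialLinearGroup.coe_mul]
  exact key

/-- An odd-order finite subgroup of `SL₂(F)`, `char F = p` odd, is `IsSL2Like`. -/
theorem isSL2Like_of_odd (p : ℕ) [Fact p.Prime] [CharP F p] (h2 : (2 : F) ≠ 0)
    (K : Subgroup SL2) [Finite K] (hodd : Odd (Nat.card K)) : IsSL2Like K p := by
  have hoddel : ∀ g : K, Odd (orderOf (g : SL2)) := by
    intro g
    rw [Subgroup.orderOf_coe]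
    exact Odd.of_dvd_nat hodd (orderOf_dvd_natCard g)
  have coe_ne : ∀ g : K, g ≠ 1 → (g : SL2) ≠ 1 := fun g hg h => hg (Subtype.ext h)
  have comm_iff : ∀ a b : K, Commute a b ↔ Commute (a : SL2) (b : SL2) := by
    intro a b
    constructor
    · intro h; exact congrArg Subtype.val h.eq
    · intro h; exact Subtype.ext h.eq
  have pow_iff : ∀ a : K, a ^ p = 1 ↔ (a : SL2) ^ p = 1 := by
    intro a
    rw [← Subgroup.coe_pow, ← Subgroup.coe_one K, Subtype.ext_iff]
  constructor
  · intro g hg x y hx hy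
    rw [comm_iff] at hx hy ⊢
    have hns := nonScalar_of_ne_one (coe_ne g hg) (hoddel g)
    exact centralizer_comm hns (Subgroup.mem_centralizer_singleton_iff.mpr hx.eq)
      (Subgroup.mem_centralizer_singleton_iff.mpr hy.eq)
  · intro g h hg hh hc hgp
    rw [comm_iff] at hc
    rw [pow_iff] at hgp ⊢
    exact ptype p h2 (coe_ne g hg) (hoddel g) (hoddel h) hc hgp
  · intro g n hgp hc
    rw [comm_iff] at hc ⊢
    rw [Ne, pow_iff] at hgp
    exact selfnorm p h2 (hoddel g) (hoddel n) hgp hc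
  · intro u s x hu1 hup hsp hc hx
    rw [comm_iff] at hc hx ⊢
    rw [pow_iff] at hup
    have hs1 : s ≠ 1 := by
      intro h; apply hsp; rw [h, one_pow]
    exact borel p h2 (coe_ne u hu1) (hoddel u) hup (coe_ne s hs1) (hoddel s) hc hx

/-- In an odd-order finite subgroup of `SL₂(F)`, `char F = p`, the elements of order dividing `p`
commute pairwise. -/
theorem commute_of_pow_char (p : ℕ) [Fact p.Prime] [CharP F p] (h2 : (2 : F) ≠ 0)
    (K : Subgroup SL2) [Finite K] (hodd : Odd (Nat.card K)) {g h : SL2} (hg : g ∈ K) (hh : h ∈ K)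
    (hgp : g ^ p = 1) (hhp : h ^ p = 1) : Commute g h := by
  have hlike := isSL2Like_of_odd p h2 K hodd
  have := commute_of_isSL2Like hodd hlike ⟨g, hg⟩ ⟨h, hh⟩ (Subtype.ext hgp) (Subtype.ext hhp)
  exact congrArg Subtype.val this.eq

/-- A nonzero `2 × 2` matrix has a kernel of dimension at most one. -/
theorem mem_span_of_ker {M : M2} (hM : M ≠ 0) {v y : Fin 2 → F} (hv : v ≠ 0)
    (hMv : M.mulVec v = 0) (hMy : M.mulVec y = 0) : y ∈ Submodule.span F {v} := by
  have e0 := congrFun hMv 0
  have e1 := congrFun hMv 1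
  have f0 := congrFun hMy 0
  have f1 := congrFun hMy 1
  simp only [Matrix.mulVec, dotProduct, Fin.sum_univ_two, Pi.zero_apply] at e0 e1 f0 f1
  have hD : v 0 * y 1 - v 1 * y 0 = 0 := by
    by_contra hD
    apply hM
    ext i j
    fin_cases i <;> fin_cases j
    · have : M 0 0 * (v 0 * y 1 - v 1 * y 0) = 0 := by linear_combination y 1 * e0 - v 1 * f0
      exact (mul_eq_zero.mp this).resolve_right hD
    · have : M 0 1 * (v 0 * y 1 - v 1 * y 0) = 0 := by linear_combination v 0 * f0 - y 0 * e0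
      exact (mul_eq_zero.mp this).resolve_right hD
    · have : M 1 0 * (v 0 * y 1 - v 1 * y 0) = 0 := by linear_combination y 1 * e1 - v 1 * f1
      exact (mul_eq_zero.mp this).resolve_right hD
    · have : M 1 1 * (v 0 * y 1 - v 1 * y 0) = 0 := by linear_combination v 0 * f1 - y 0 * e1
      exact (mul_eq_zero.mp this).resolve_right hD
  rw [Submodule.mem_span_singleton]
  by_cases h0 : v 0 = 0
  · have h1 : v 1 ≠ 0 := by
      intro h1; apply hv; ext i; fin_cases i
      · exact h0
      · exact h1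
    refine ⟨y 1 / v 1, ?_⟩
    ext i; fin_cases i
    · simp only [Fin.zero_eta, Pi.smul_apply, smul_eq_mul, h0, mul_zero]
      rw [h0] at hD
      have : v 1 * y 0 = 0 := by linear_combination (-1 : F) * hD
      exact ((mul_eq_zero.mp this).resolve_left h1).symm
    · simp only [Fin.mk_one, Pi.smul_apply, smul_eq_mul]
      field_simp
  · refine ⟨y 0 / v 0, ?_⟩
    ext i; fin_cases i
    · simp only [Fin.zero_eta, Pi.smul_apply, smul_eq_mul]
      field_simp
    · simp only [Fin.mk_one, Pi.smul_apply, smul_eq_mul]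
      field_simp
      linear_combination (-1 : F) * hD

end Cfsg.Agent.Lib.H8.SL2Odd
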