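import Mathlib
import Cfsg.Prelude
import Cfsg.Agent.Lib.H23.CharGalois
import Cfsg.Agent.Lib.L0.CharBasic
import Cfsg.Agent.Lib.L0.CharOps

/-!
# Galois conjugates of characters (helper8)

* `exists_ringEquiv_extending`: an automorphism of a field `F` extends, along any embedding
  `F →+* K` into an algebraically closed field, to an automorphism of `K`.
-/

set_option autoImplicit false

namespace Cfsg.Agent.Lib.H8

/-- An automorphism `σ` of a field `F` extends along an embedding `ι : F →+* K` into an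
algebraically closed field `K` to an automorphism of `K`. -/
theorem exists_ringEquiv_extending {F K : Type*} [Field F] [Field K] [IsAlgClosed K]
    (ι : F →+* K) (σ : F ≃+* F) : ∃ τ : K ≃+* K, ∀ x : F, τ (ι x) = ι (σ x) := by
  letI : Algebra F K := ι.toAlgebra
  obtain ⟨s, hs⟩ := exists_isTranscendenceBasis F K
  haveI := IsAlgClosed.isAlgClosure_of_transcendence_basis _ hs
  let e : Algebra.adjoin F (Set.range ((↑) : s → K)) ≃+* Algebra.adjoin F (Set.range ((↑) : s → K)) :=
    hs.1.aevalEquiv.symm.toRingEquiv.trans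
      ((MvPolynomial.mapEquiv s σ).trans hs.1.aevalEquiv.toRingEquiv)
  refine ⟨IsAlgClosure.equivOfEquiv K K e, fun x => ?_⟩
  have h1 : ι x = algebraMap (Algebra.adjoin F (Set.range ((↑) : s → K))) K
      (algebraMap F (Algebra.adjoin F (Set.range ((↑) : s → K))) x) := rfl
  rw [h1, IsAlgClosure.equivOfEquiv_algebraMap]
  have h2 : e (algebraMap F (Algebra.adjoin F (Set.range ((↑) : s → K))) x)
      = algebraMap F (Algebra.adjoin F (Set.range ((↑) : s → K))) (σ x) := by
    simp only [e, RingEquiv.trans_apply, AlgEquiv.coe_ringEquiv,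
      AlgEquiv.commutes, MvPolynomial.algebraMap_eq, MvPolynomial.mapEquiv_apply,
      MvPolynomial.map_C]
    rw [← MvPolynomial.algebraMap_eq, AlgEquiv.commutes]
    rfl
  rw [h2]
  rfl


/-- Apply a ring endomorphism of `ℂ` entrywise to a matrix representation. -/
noncomputable def mapRep {G : Type*} [Group G] {n : ℕ} (τ : ℂ →+* ℂ)
    (ρ : Representation ℂ G (Fin n → ℂ)) : Representation ℂ G (Fin n → ℂ) where
  toFun g := Matrix.toLin' ((LinearMap.toMatrix' (ρ g)).map τ)
  map_one' := by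
    rw [map_one, LinearMap.toMatrix'_one, Matrix.map_one _ (map_zero τ) (map_one τ),
      Matrix.toLin'_one]
    rfl
  map_mul' g h := by
    rw [map_mul, LinearMap.toMatrix'_mul, Matrix.map_mul, Matrix.toLin'_mul]
    rfl

theorem mapRep_character {G : Type*} [Group G] {n : ℕ} (τ : ℂ →+* ℂ)
    (ρ : Representation ℂ G (Fin n → ℂ)) (g : G) :
    (mapRep τ ρ).character g = τ (ρ.character g) := by
  unfold Representation.character
  show LinearMap.trace ℂ _ (Matrix.toLin' ((LinearMap.toMatrix' (ρ g)).map τ)) = _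
  rw [Matrix.trace_toLin'_eq, ← AddMonoidHom.map_trace,
    ← Matrix.trace_toLin'_eq (LinearMap.toMatrix' (ρ g)), Matrix.toLin'_toMatrix']

/-- **Galois conjugation**: for `m` coprime to `|G|` and a character `χ`, the function
`g ↦ χ (g ^ m)` is again a character. -/
theorem isCharacter_galoisConj {G : Type*} [Group G] [Finite G] {χ : G → ℂ}
    (hχ : Cfsg.IsCharacter G χ) (m : ℕ) (hm : m.Coprime (Nat.card G)) :
    Cfsg.IsCharacter G (fun g => χ (g ^ m)) := by
  obtain ⟨n, ρ, rfl⟩ := hχ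
  haveI : NeZero (Nat.card G) := ⟨Nat.card_pos.ne'⟩
  obtain ⟨N, hN⟩ : ∃ N : ℕ, N = Nat.card G := ⟨_, rfl⟩
  haveI : NeZero N := by rw [hN]; infer_instance
  rw [← hN] at hm
  set u : (ZMod N)ˣ := ZMod.unitOfCoprime m hm with hu
  set σ : Gal(CyclotomicField N ℚ/ℚ) := (Cfsg.Agent.Lib.H23.cycGalEquiv N).symm u with hσ
  have hpow : Cfsg.Agent.Lib.H23.cycPow N σ = (m : ZMod N) := by
    unfold Cfsg.Agent.Lib.H23.cycPow
    rw [hσ, MulEquiv.apply_symm_apply, hu, ZMod.coe_unitOfCoprime]
  obtain ⟨τ, hτ⟩ := exists_ringEquiv_extending (Cfsg.Agent.Lib.H23.cycEmb N).toRingHom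
    σ.toRingEquiv
  refine ⟨n, mapRep τ.toRingHom ρ, ?_⟩
  funext g
  rw [mapRep_character]
  have hg : g ^ N = 1 := by rw [hN]; exact pow_card_eq_one'
  obtain ⟨x, hx⟩ := Cfsg.Agent.Lib.H23.exists_cyc_char N ρ g hg
  have h1 := hx 1
  have hone : Cfsg.Agent.Lib.H23.cycPow N (1 : Gal(CyclotomicField N ℚ/ℚ)) = 1 := by
    unfold Cfsg.Agent.Lib.H23.cycPow
    rw [map_one, Units.val_one]
  rw [hone, Cfsg.Agent.Lib.H23.pow_val_one_eq N g hg] at h1
  have h2 := hx σ
  rw [hpow, ZMod.val_natCast] at h2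
  have h3 : g ^ (m % N) = g ^ m := by rw [hN]; exact pow_mod_natCard g m
  rw [h3] at h2
  rw [← h2, ← h1]
  exact hτ x


/-- The norm of a function is invariant under `g ↦ g ^ m` for `m` coprime to `|G|`. -/
theorem classInner_comp_pow {G : Type*} [Group G] [Fintype G] (φ ψ : G → ℂ) (m : ℕ)
    (hm : m.Coprime (Nat.card G)) :
    Cfsg.classInner (fun g => φ (g ^ m)) (fun g => ψ (g ^ m)) = Cfsg.classInner φ ψ := by
  unfold Cfsg.classInner
  congr 1
  exact Equiv.sum_comp (powCoprime hm.symm) (fun g => φ g * (starRingEnd ℂ) (ψ g))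

/-- **Galois conjugation** preserves irreducibility. -/
theorem isIrrCharacter_galoisConj {G : Type*} [Group G] [Finite G] {χ : G → ℂ}
    (hχ : Cfsg.IsIrrCharacter G χ) (m : ℕ) (hm : m.Coprime (Nat.card G)) :
    Cfsg.IsIrrCharacter G (fun g => χ (g ^ m)) := by
  haveI : Fintype G := Fintype.ofFinite G
  apply Cfsg.Agent.Lib.L0.isIrrCharacter_of_classInner_self_eq_one
    (isCharacter_galoisConj (Cfsg.Agent.Lib.L0.isCharacter_of_irr hχ) m hm)
  rw [classInner_comp_pow χ χ m hm]
  exact Cfsg.Agent.Lib.L0.irr_classInner_self hχ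

end Cfsg.Agent.Lib.H8
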