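import Mathlib
import Cfsg.Prelude
import Cfsg.Agent.Lib.H8.GaloisConj
import Cfsg.Agent.Lib.L0.CharInd
import Cfsg.Agent.Lib.H23.Rational

/-!
# Galois conjugation of class functions (helper8)

For `k` coprime to `|G|`:
* `mem_of_pow_mem_of_coprime`: `y ^ k ∈ H → y ∈ H`;
* `indFun_comp_pow`: `Ind α (g ^ k) = Ind (α ∘ (· ^ k)) g`;
* `signedIrr_galoisConj`: `g ↦ χ (g ^ k)` is an irreducible character up to sign if `χ` is;
* `exists_coprime_lift`: lifting a residue coprime to `M ∣ N` to a residue coprime to `N`;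
* `exists_int_of_forall_pow_eq`: a signed irreducible character value fixed by all Galois
  conjugations is an integer.
-/

set_option autoImplicit false

namespace Cfsg.Agent.Lib.H8

open Cfsg.Agent.Lib.L0

theorem mem_of_pow_mem_of_coprime {G : Type*} [Group G] {H : Subgroup G} {y : G} {k : ℕ}
    (hk : k.Coprime (orderOf y)) (h : y ^ k ∈ H) : y ∈ H := by
  obtain ⟨m, hm⟩ := exists_pow_eq_self_of_coprime hk
  rw [← hm]
  exact H.pow_mem h m

theorem coprime_orderOf_of_coprime_card {G : Type*} [Group G] [Finite G] {k : ℕ}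
    (hk : k.Coprime (Nat.card G)) (y : G) : k.Coprime (orderOf y) :=
  Nat.Coprime.coprime_dvd_right (orderOf_dvd_natCard y) hk

theorem extendByZero_comp_pow {G : Type*} [Group G] [Finite G] (H : Subgroup G) (α : H → ℂ)
    {k : ℕ} (hk : k.Coprime (Nat.card G)) (y : G) :
    Cfsg.extendByZero H α (y ^ k) = Cfsg.extendByZero H (fun h : H => α (h ^ k)) y := by
  by_cases hy : y ∈ H
  · rw [extendByZero_apply_of_mem H _ hy, extendByZero_apply_of_mem H α (H.pow_mem hy k)]
    rfl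
  · rw [extendByZero_apply_not_mem H _ hy, extendByZero_apply_not_mem H α]
    intro h
    exact hy (mem_of_pow_mem_of_coprime (coprime_orderOf_of_coprime_card hk y) h)

theorem indFun_comp_pow {G : Type*} [Group G] [Fintype G] (H : Subgroup G) (α : H → ℂ)
    {k : ℕ} (hk : k.Coprime (Nat.card G)) (g : G) :
    Cfsg.indFun H α (g ^ k) = Cfsg.indFun H (fun h : H => α (h ^ k)) g := by
  rw [indFun_apply, indFun_apply]
  congr 1
  refine Finset.sum_congr rfl fun x _ => ?_
  rw [← extendByZero_comp_pow H α hk]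
  congr 1
  have := conj_pow (i := k) (a := x⁻¹) (b := g)
  rw [inv_inv] at this
  exact this.symm

theorem signedIrr_galoisConj {G : Type*} [Group G] [Finite G] {χ : G → ℂ}
    (hχ : Cfsg.IsIrrCharacter G χ ∨ Cfsg.IsIrrCharacter G (-χ)) {k : ℕ}
    (hk : k.Coprime (Nat.card G)) :
    Cfsg.IsIrrCharacter G (fun g => χ (g ^ k)) ∨ Cfsg.IsIrrCharacter G (-fun g => χ (g ^ k)) := by
  rcases hχ with h | h
  · exact Or.inl (isIrrCharacter_galoisConj h k hk)
  · exact Or.inr (isIrrCharacter_galoisConj h k hk)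

/-- Lift a residue class coprime to `M` to one coprime to a multiple `N` of `M`. -/
theorem exists_coprime_lift {M N : ℕ} (hN : N ≠ 0) (hMN : M ∣ N) {k₀ : ℕ} (hk₀ : k₀.Coprime M) :
    ∃ k : ℕ, k.Coprime N ∧ k ≡ k₀ [MOD M] := by
  haveI : NeZero N := ⟨hN⟩
  obtain ⟨u, hu⟩ := ZMod.unitsMap_surjective hMN (ZMod.unitOfCoprime k₀ hk₀)
  refine ⟨(u : ZMod N).val, ZMod.val_coe_unit_coprime u, ?_⟩
  rw [← ZMod.natCast_eq_natCast_iff]
  have h1 := congrArg (fun v : (ZMod M)ˣ => (v : ZMod M)) hu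
  simp only [ZMod.unitsMap, Units.coe_map, MonoidHom.coe_coe, ZMod.castHom_apply,
    ZMod.coe_unitOfCoprime] at h1
  rw [← h1, ZMod.natCast_val]

/-- A value of an irreducible character up to sign that is fixed by all Galois conjugations is
an integer. -/
theorem exists_int_of_forall_pow_eq {G : Type*} [Group G] [Finite G] {χ : G → ℂ}
    (hχ : Cfsg.IsIrrCharacter G χ ∨ Cfsg.IsIrrCharacter G (-χ)) (g : G)
    (h : ∀ m : ℕ, m.Coprime (Nat.card G) → χ (g ^ m) = χ g) : ∃ n : ℤ, χ g = n := by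
  have key : ∀ ψ : G → ℂ, Cfsg.IsIrrCharacter G ψ → (∀ m : ℕ, m.Coprime (Nat.card G) →
      ψ (g ^ m) = ψ g) → ∃ n : ℤ, ψ g = n := by
    intro ψ hψ hm
    obtain ⟨d, ρ, -, rfl⟩ := hψ
    obtain ⟨q, hq⟩ := Cfsg.Agent.Lib.H23.char_rational_of_forall_char_pow_eq ρ g hm
    have hint : IsIntegral ℤ (ρ.character g) := isIntegral_char ρ g
    rw [hq] at hint
    have hint' : IsIntegral ℤ q :=
      (isIntegral_algebraMap_iff (algebraMap ℚ ℂ).injective).mp hint
    obtain ⟨n, hn⟩ := IsIntegrallyClosed.isIntegral_iff.mp hint'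
    refine ⟨n, ?_⟩
    rw [hq, ← hn]
    simp
  rcases hχ with h1 | h1
  · exact key χ h1 h
  · obtain ⟨n, hn⟩ := key (-χ) h1 (fun m hm => by
      simp only [Pi.neg_apply]; rw [h m hm])
    refine ⟨-n, ?_⟩
    simp only [Pi.neg_apply] at hn
    push_cast
    rw [← hn, neg_neg]

end Cfsg.Agent.Lib.H8
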