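import Mathlib
import Cfsg.Prelude.Def_OddOrderLocal
import Cfsg.Prelude.Def_Characters
import Cfsg.Agent.Lib.H8.ClassFun

set_option autoImplicit false

/-! # Self-normalizing cyclic subgroups `W = W₁ × W₂` (`Cfsg.IsSelfNormalizingCyclic`) -/

namespace Cfsg.Agent.Lib.H8

variable {G : Type*} [Group G] {W₁ W₂ : Subgroup G}

/-- The normalizer of a singleton is the centralizer. -/
theorem normalizer_singleton (w : G) :
    Subgroup.normalizer ({w} : Set G) = Subgroup.centralizer ({w} : Set G) := by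
  ext g
  rw [Subgroup.mem_set_normalizer_iff, Subgroup.mem_centralizer_iff]
  constructor
  · intro h y hy
    rw [Set.mem_singleton_iff] at hy
    subst hy
    have := (h y).mp rfl
    rw [Set.mem_singleton_iff] at this
    calc y * g = (g * y * g⁻¹) * g := by rw [this]
      _ = g * y := by group
  · intro h y
    have hw := h w rfl
    simp only [Set.mem_singleton_iff]
    constructor
    · rintro rfl
      calc g * y * g⁻¹ = (y * g) * g⁻¹ := by rw [hw]
        _ = y := by group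
    · intro hy
      have : y = g⁻¹ * w * g := by rw [← hy]; group
      rw [this, mul_assoc, hw]; group

/-- Elements of `W` outside `W₁ ∪ W₂` have centralizer `W`. -/
theorem centralizer_eq_of_selfNormalizingCyclic (hW : Cfsg.IsSelfNormalizingCyclic W₁ W₂) {w : G}
    (hw : w ∈ W₁ ⊔ W₂) (h1 : w ∉ W₁) (h2 : w ∉ W₂) :
    Subgroup.centralizer ({w} : Set G) = W₁ ⊔ W₂ := by
  rw [← normalizer_singleton]
  apply hW.2.2.2.2.2
  · intro y hy
    rw [Set.mem_singleton_iff] at hy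
    subst hy
    refine ⟨hw, ?_⟩
    rintro (h | h)
    · exact h1 h
    · exact h2 h
  · exact Set.singleton_nonempty w

/-- The number of linear characters of a finite cyclic group. -/
theorem card_monoidHom_units_of_isCyclic (W : Type*) [Group W] [Finite W] [IsCyclic W] :
    Nat.card (W →* ℂˣ) = Nat.card W := by
  letI : CommGroup W := IsCyclic.commGroup
  haveI : NeZero ((Monoid.exponent W : ℕ) : ℂ) :=
    ⟨Nat.cast_ne_zero.mpr Monoid.exponent_ne_zero_of_finite⟩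
  exact CommGroup.card_monoidHom_of_hasEnoughRootsOfUnity W ℂ


/-- Two homomorphisms on `W₁ ⊔ W₂` agreeing on `W₁` and on `W₂` are equal. -/
theorem monoidHom_ext_sup {M : Type*} [Monoid M] (W₁ W₂ : Subgroup G)
    (f g : ↥(W₁ ⊔ W₂) →* M)
    (h1 : ∀ w : ↥(W₁ ⊔ W₂), (w : G) ∈ W₁ → f w = g w)
    (h2 : ∀ w : ↥(W₁ ⊔ W₂), (w : G) ∈ W₂ → f w = g w) : f = g := by
  have : (⊤ : Subgroup ↥(W₁ ⊔ W₂)) ≤ f.eqLocus g := by
    rw [← Subgroup.subgroupOf_self (W₁ ⊔ W₂), Subgroup.subgroupOf_sup le_sup_left le_sup_right,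
      sup_le_iff]
    constructor
    · intro w hw; exact h1 w (Subgroup.mem_subgroupOf.mp hw)
    · intro w hw; exact h2 w (Subgroup.mem_subgroupOf.mp hw)
  ext w; exact this (Subgroup.mem_top w)

/-- In a finite cyclic group, a subgroup `K` contains every element killed by `|K|`. -/
theorem mem_of_pow_card_eq_one_of_isCyclic {W : Type*} [Group W] [Finite W] [IsCyclic W]
    (K : Subgroup W) {b : W} (hb : b ^ Nat.card K = 1) : b ∈ K := by
  classical
  haveI : Fintype W := Fintype.ofFinite W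
  have hn : 0 < Nat.card K := Nat.card_pos
  have hle := IsCyclic.card_pow_eq_one_le (α := W) hn
  have hTS : (Finset.univ.filter (fun a : W => a ∈ K))
      ⊆ (Finset.univ.filter (fun a : W => a ^ Nat.card K = 1)) := by
    intro a ha
    simp only [Finset.mem_filter, Finset.mem_univ, true_and] at ha ⊢
    have := pow_card_eq_one' (G := K) (x := ⟨a, ha⟩)
    exact congrArg Subtype.val this
  have hT : (Finset.univ.filter (fun a : W => a ∈ K)).card = Nat.card K := by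
    rw [Nat.card_eq_fintype_card, Fintype.card_subtype]
  have heq := Finset.eq_of_subset_of_card_le hTS (by rw [hT]; exact hle)
  have hbS : b ∈ Finset.univ.filter (fun a : W => a ^ Nat.card K = 1) :=
    Finset.mem_filter.mpr ⟨Finset.mem_univ _, hb⟩
  rw [← heq] at hbS
  simpa using hbS

/-- Subgroup version inside an ambient group. -/
theorem mem_of_pow_card_eq_one_of_le_isCyclic [Finite G] {K W : Subgroup G} [IsCyclic W]
    (hK : K ≤ W) {b : G} (hbW : b ∈ W) (hb : b ^ Nat.card K = 1) : b ∈ K := by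
  have hc : Nat.card (K.subgroupOf W) = Nat.card K :=
    Nat.card_congr (Subgroup.subgroupOfEquivOfLe hK).toEquiv
  have : (⟨b, hbW⟩ : W) ∈ K.subgroupOf W := by
    apply mem_of_pow_card_eq_one_of_isCyclic
    rw [hc]
    apply Subtype.ext
    rw [Subgroup.coe_pow]
    exact hb
  exact Subgroup.mem_subgroupOf.mp this

/-- An element normalizing a finite cyclic subgroup normalizes each of its subgroups. -/
theorem conj_mem_of_le_isCyclic [Finite G] {K W : Subgroup G} [IsCyclic W] (hK : K ≤ W) {x : G}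
    (hx : ∀ y ∈ W, x * y * x⁻¹ ∈ W) {y : G} (hy : y ∈ K) : x * y * x⁻¹ ∈ K := by
  apply mem_of_pow_card_eq_one_of_le_isCyclic hK (hx y (hK hy))
  rw [conj_pow]
  have := pow_card_eq_one' (G := K) (x := ⟨y, hy⟩)
  have h1 : y ^ Nat.card K = 1 := congrArg Subtype.val this
  rw [h1]; group

/-- The TI property: a conjugate of an element of `W ∖ (W₁ ∪ W₂)` lying again in
`W ∖ (W₁ ∪ W₂)` is a conjugate under `W`. -/
theorem mem_of_conj_mem_of_selfNormalizingCyclic [Finite G]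
    (hW : Cfsg.IsSelfNormalizingCyclic W₁ W₂) {w x : G}
    (hw : w ∈ W₁ ⊔ W₂) (h1 : w ∉ W₁) (h2 : w ∉ W₂)
    (hw' : x⁻¹ * w * x ∈ W₁ ⊔ W₂) (h1' : x⁻¹ * w * x ∉ W₁) (h2' : x⁻¹ * w * x ∉ W₂) :
    x ∈ W₁ ⊔ W₂ := by
  haveI : IsCyclic ↥(W₁ ⊔ W₂) := hW.2.2.2.2.1
  have hC := centralizer_eq_of_selfNormalizingCyclic hW hw h1 h2
  have hC' := centralizer_eq_of_selfNormalizingCyclic hW hw' h1' h2'
  -- `x` and `x⁻¹` normalize `W`
  have hx : ∀ y ∈ W₁ ⊔ W₂, x * y * x⁻¹ ∈ W₁ ⊔ W₂ := by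
    intro y hy
    rw [← hC'] at hy
    rw [← hC]
    rw [Subgroup.mem_centralizer_iff] at hy ⊢
    intro z hz
    rw [Set.mem_singleton_iff] at hz
    subst hz
    have := hy _ rfl
    calc z * (x * y * x⁻¹) = x * ((x⁻¹ * z * x) * y) * x⁻¹ := by group
      _ = x * (y * (x⁻¹ * z * x)) * x⁻¹ := by rw [this]
      _ = x * y * x⁻¹ * z := by group
  have hx' : ∀ y ∈ W₁ ⊔ W₂, x⁻¹ * y * x⁻¹⁻¹ ∈ W₁ ⊔ W₂ := by
    intro y hy
    rw [← hC] at hy
    rw [← hC']
    rw [Subgroup.mem_centralizer_iff] at hy ⊢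
    intro z hz
    rw [Set.mem_singleton_iff] at hz
    subst hz
    have := hy _ rfl
    calc x⁻¹ * w * x * (x⁻¹ * y * x⁻¹⁻¹) = x⁻¹ * (w * y) * x := by group
      _ = x⁻¹ * (y * w) * x := by rw [this]
      _ = x⁻¹ * y * x⁻¹⁻¹ * (x⁻¹ * w * x) := by group
  -- hence normalize `W₁` and `W₂`
  have hK : ∀ K : Subgroup G, K ≤ W₁ ⊔ W₂ → ∀ y, y ∈ K ↔ x * y * x⁻¹ ∈ K := by
    intro K hK y
    constructor
    · intro hy
      exact conj_mem_of_le_isCyclic hK hx hy
    · intro hy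
      have := conj_mem_of_le_isCyclic hK hx' hy
      have e : x⁻¹ * (x * y * x⁻¹) * x⁻¹⁻¹ = y := by group
      rwa [e] at this
  -- so `x` normalizes `V`
  have hV := hW.2.2.2.2.2 ((↑(W₁ ⊔ W₂) : Set G) \ (↑W₁ ∪ ↑W₂)) subset_rfl
    ⟨w, hw, by rintro (h | h); exacts [h1 h, h2 h]⟩
  rw [← hV, Subgroup.mem_set_normalizer_iff]
  intro y
  simp only [Set.mem_sdiff, SetLike.mem_coe, Set.mem_union, not_or]
  rw [← hK _ le_rfl y, ← hK _ le_sup_left y, ← hK _ le_sup_right y]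

/-- Under the TI property, induction from `W` does not change the values on `W ∖ (W₁ ∪ W₂)` of a
function vanishing on `W₁ ∪ W₂`. -/
theorem indFun_eq_of_selfNormalizingCyclic [Fintype G]
    (hW : Cfsg.IsSelfNormalizingCyclic W₁ W₂) (θ : ↥(W₁ ⊔ W₂) → ℂ)
    (hθ : ∀ w : ↥(W₁ ⊔ W₂), ((w : G) ∈ W₁ ∨ (w : G) ∈ W₂) → θ w = 0)
    (w : ↥(W₁ ⊔ W₂)) (h1 : (w : G) ∉ W₁) (h2 : (w : G) ∉ W₂) :
    Cfsg.indFun (W₁ ⊔ W₂) θ (w : G) = θ w := by
  classical
  haveI : IsCyclic ↥(W₁ ⊔ W₂) := hW.2.2.2.2.1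
  rw [indFun_apply]
  have hterm : ∀ x : G, Cfsg.extendByZero (W₁ ⊔ W₂) θ (x⁻¹ * (w : G) * x)
      = if x ∈ W₁ ⊔ W₂ then θ w else 0 := by
    intro x
    split_ifs with hx
    · have hcomm : x⁻¹ * (w : G) * x = w := by
        have := (IsCyclic.commGroup (α := ↥(W₁ ⊔ W₂))).mul_comm ⟨x, hx⟩⁻¹ w
        have h3 := congrArg Subtype.val this
        simp only [Subgroup.coe_mul, Subgroup.coe_inv] at h3
        rw [h3]; group
      rw [hcomm, extendByZero_coe]
    · by_cases hm : x⁻¹ * (w : G) * x ∈ W₁ ⊔ W₂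
      · rw [extendByZero_of_mem _ θ hm]
        by_cases hm1 : x⁻¹ * (w : G) * x ∈ W₁
        · exact hθ _ (Or.inl hm1)
        by_cases hm2 : x⁻¹ * (w : G) * x ∈ W₂
        · exact hθ _ (Or.inr hm2)
        exact absurd (mem_of_conj_mem_of_selfNormalizingCyclic hW w.2 h1 h2 hm hm1 hm2) hx
      · exact extendByZero_of_not_mem _ θ hm
  simp only [hterm]
  rw [Finset.sum_ite, Finset.sum_const_zero, add_zero, Finset.sum_const, nsmul_eq_mul]
  have hcard : (Finset.univ.filter (fun x : G => x ∈ W₁ ⊔ W₂)).card = Nat.card ↥(W₁ ⊔ W₂) := by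
    rw [Nat.card_eq_fintype_card, Fintype.card_subtype]
  rw [hcard]
  have hne : (Nat.card ↥(W₁ ⊔ W₂) : ℂ) ≠ 0 := Nat.cast_ne_zero.mpr Nat.card_pos.ne'
  field_simp

end Cfsg.Agent.Lib.H8
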