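import Mathlib
import Cfsg.Prelude

/-!
# Linear characters of an abelian quotient (helper8)

`exists_linear_chars`: for a finite group `T` with a normal subgroup `N` such that `T ⧸ N` is
abelian, there is a finite set `Λ` of homomorphisms `T →* ℂˣ`, trivial on `N`, with
`|Λ| = |T : N|` and `∑_{f ∈ Λ} f t = |T : N|` if `t ∈ N` and `0` otherwise.
-/

set_option autoImplicit false

namespace Cfsg.Agent.Lib.H8

theorem exists_linear_chars {T : Type*} [Group T] [Finite T] (N : Subgroup T) [hN : N.Normal]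
    (hab : ∀ x y : T, x * y * x⁻¹ * y⁻¹ ∈ N) :
    ∃ Λ : Finset (T →* ℂˣ), (∀ f ∈ Λ, ∀ n ∈ N, f n = 1) ∧ Λ.card = N.index ∧
      (∀ t ∈ N, ∑ f ∈ Λ, ((f t : ℂˣ) : ℂ) = (N.index : ℂ)) ∧
      (∀ t ∉ N, ∑ f ∈ Λ, ((f t : ℂˣ) : ℂ) = 0) := by
  classical
  have hc : ∀ a b : T ⧸ N, a * b = b * a := by
    intro a b
    induction a using QuotientGroup.induction_on with
    | H x =>
    induction b using QuotientGroup.induction_on with
    | H y =>
    rw [← QuotientGroup.mk_mul, ← QuotientGroup.mk_mul, QuotientGroup.eq]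
    have := hab y⁻¹ x⁻¹
    have e : (x * y)⁻¹ * (y * x) = y⁻¹ * x⁻¹ * y⁻¹⁻¹ * x⁻¹⁻¹ := by group
    rw [e]; exact this
  letI : CommGroup (T ⧸ N) := { (inferInstance : Group (T ⧸ N)) with mul_comm := hc }
  haveI : Fintype (T ⧸ N) := Fintype.ofFinite _
  let F : AddChar (Additive (T ⧸ N)) ℂ → (T →* ℂˣ) := fun ψ =>
    MonoidHom.toHomUnits
      { toFun := fun t => ψ (Additive.ofMul (t : T ⧸ N))
        map_one' := by
          have : Additive.ofMul ((1 : T) : T ⧸ N) = 0 := rfl
          rw [this, AddChar.map_zero_eq_one]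
        map_mul' := by
          intro x y
          have : Additive.ofMul ((x * y : T) : T ⧸ N) =
            Additive.ofMul (x : T ⧸ N) + Additive.ofMul (y : T ⧸ N) := rfl
          rw [this, AddChar.map_add_eq_mul] }
  have hFapp : ∀ ψ t, ((F ψ t : ℂˣ) : ℂ) = ψ (Additive.ofMul (t : T ⧸ N)) := fun ψ t => rfl
  have hFinj : Function.Injective F := by
    intro ψ ψ' h
    apply DFunLike.ext
    intro a
    obtain ⟨t, ht⟩ := QuotientGroup.mk_surjective (Additive.toMul a)
    have ha : a = Additive.ofMul (t : T ⧸ N) := by rw [ht]; rfl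
    have := congrArg (fun f : T →* ℂˣ => ((f t : ℂˣ) : ℂ)) h
    rw [ha]
    exact this
  have hcardA : Fintype.card (Additive (T ⧸ N)) = N.index := by
    rw [Subgroup.index_eq_card, ← Nat.card_eq_fintype_card]
    exact Nat.card_congr Additive.toMul
  have hiff : ∀ t : T, Additive.ofMul (t : T ⧸ N) = 0 ↔ t ∈ N := by
    intro t
    rw [← QuotientGroup.eq_one_iff t]
    rfl
  refine ⟨Finset.univ.image F, ?_, ?_, ?_, ?_⟩
  · intro f hf n hn
    obtain ⟨ψ, -, rfl⟩ := Finset.mem_image.mp hf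
    apply Units.ext
    rw [hFapp]
    have : ((n : T) : T ⧸ N) = 1 := (QuotientGroup.eq_one_iff n).mpr hn
    rw [this]
    have : Additive.ofMul (1 : T ⧸ N) = 0 := rfl
    rw [this, AddChar.map_zero_eq_one]
    rfl
  · rw [Finset.card_image_of_injective _ hFinj, Finset.card_univ, AddChar.card_eq, hcardA]
  · intro t ht
    rw [Finset.sum_image (fun a _ b _ h => hFinj h)]
    simp only [hFapp]
    rw [AddChar.sum_apply_eq_ite, if_pos ((hiff t).mpr ht), hcardA]
  · intro t ht
    rw [Finset.sum_image (fun a _ b _ h => hFinj h)]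
    simp only [hFapp]
    rw [AddChar.sum_apply_eq_ite, if_neg (fun h => ht ((hiff t).mp h))]

end Cfsg.Agent.Lib.H8
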