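import Mathlib
import Cfsg.Prelude
import Cfsg.Agent.Lib.H8.CyclicTI
import Cfsg.Agent.Lib.H8.LinearDual

/-!
# Linear characters of a cyclic `W = W₁ × W₂` (helper8)

* `coprime_card_of_selfNormalizingCyclic`: `|W₁|` and `|W₂|` are coprime;
* `exists_decomp_hom`: every `ω : W →* ℂˣ` is `φ * ψ` with `φ` trivial on `W₂`, `ψ` trivial on `W₁`;
* `exists_nontrivial_hom_trivial_on`: a nontrivial hom trivial on a proper normal subgroup with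
  abelian quotient;
* `exists_ne_one_trivial_right/left`: nontrivial characters trivial on `W₂` (resp. `W₁`).
-/

set_option autoImplicit false

namespace Cfsg.Agent.Lib.H8

theorem exists_nontrivial_hom_trivial_on {T : Type*} [Group T] [Finite T] (N : Subgroup T)
    [hN : N.Normal] (hab : ∀ x y : T, x * y * x⁻¹ * y⁻¹ ∈ N) (hNT : N ≠ ⊤) :
    ∃ f : T →* ℂˣ, f ≠ 1 ∧ ∀ n ∈ N, f n = 1 := by
  obtain ⟨Λ, hΛ1, hΛcard, -, -⟩ := exists_linear_chars N hab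
  by_contra hcon
  push Not at hcon
  have hall : ∀ f ∈ Λ, f = 1 := by
    intro f hf
    by_contra hf1
    obtain ⟨n, hn, hfn⟩ := hcon f hf1
    exact hfn (hΛ1 f hf n hn)
  have hle : Λ.card ≤ 1 := Finset.card_le_one.mpr fun a ha b hb => by rw [hall a ha, hall b hb]
  rw [hΛcard] at hle
  have h0 : N.index ≠ 0 := Subgroup.index_ne_zero_of_finite
  have h1 : N.index ≠ 1 := fun h => hNT (Subgroup.index_eq_one.mp h)
  omega

section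

variable {G : Type*} [Group G] [Finite G] {W₁ W₂ : Subgroup G}

theorem coprime_card_of_selfNormalizingCyclic (hW : Cfsg.IsSelfNormalizingCyclic W₁ W₂) :
    (Nat.card W₁).Coprime (Nat.card W₂) := by
  obtain ⟨-, -, hinf, -, hcyc, -⟩ := hW
  haveI := hcyc
  by_contra hnc
  obtain ⟨p, hp, hp1, hp2⟩ := Nat.Prime.not_coprime_iff_dvd.mp hnc
  haveI := Fact.mk hp
  obtain ⟨x, hx⟩ := exists_prime_orderOf_dvd_card' (G := W₁) p hp1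
  obtain ⟨y, hy⟩ := exists_prime_orderOf_dvd_card' (G := W₂) p hp2
  have hK : Subgroup.zpowers (y : G) ≤ W₁ ⊔ W₂ :=
    Subgroup.zpowers_le.mpr (le_sup_right (a := W₁) y.2)
  have hcardK : Nat.card (Subgroup.zpowers (y : G)) = p := by
    rw [Nat.card_zpowers, Subgroup.orderOf_coe, hy]
  have hxp : (x : G) ^ p = 1 := by
    rw [← Subgroup.coe_pow, ← hx, pow_orderOf_eq_one]; rfl
  have hxK : (x : G) ∈ Subgroup.zpowers (y : G) := by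
    apply mem_of_pow_card_eq_one_of_le_isCyclic hK (le_sup_left (b := W₂) x.2)
    rw [hcardK]; exact hxp
  have hxW₂ : (x : G) ∈ W₂ := (Subgroup.zpowers_le.mpr y.2) hxK
  have hmem : (x : G) ∈ W₁ ⊓ W₂ := ⟨x.2, hxW₂⟩
  rw [hinf, Subgroup.mem_bot] at hmem
  have hx1 : x = 1 := Subtype.ext hmem
  rw [hx1, orderOf_one] at hx
  exact hp.one_lt.ne hx

theorem hom_pow_apply_coe (ω : ↥(W₁ ⊔ W₂) →* ℂˣ) (k : ℕ) (w : ↥(W₁ ⊔ W₂)) :
    (((ω ^ k) w : ℂˣ) : ℂ) = ((ω w : ℂˣ) : ℂ) ^ k := by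
  rw [MonoidHom.pow_apply, Units.val_pow_eq_pow_val]

theorem exists_decomp_hom (hW : Cfsg.IsSelfNormalizingCyclic W₁ W₂) (ω : ↥(W₁ ⊔ W₂) →* ℂˣ) :
    ∃ φ ψ : ↥(W₁ ⊔ W₂) →* ℂˣ, (∀ w : ↥(W₁ ⊔ W₂), (w : G) ∈ W₂ → φ w = 1) ∧
      (∀ w : ↥(W₁ ⊔ W₂), (w : G) ∈ W₁ → ψ w = 1) ∧ ω = φ * ψ := by
  have hcop := coprime_card_of_selfNormalizingCyclic hW
  obtain ⟨a, ha1, ha2⟩ := Nat.chineseRemainder hcop 1 0
  obtain ⟨b, hb1, hb2⟩ := Nat.chineseRemainder hcop 0 1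
  have hpow : ∀ (V : Subgroup G) (w : ↥(W₁ ⊔ W₂)), (w : G) ∈ V → w ^ Nat.card V = 1 := by
    intro V w hw
    apply Subtype.ext
    rw [Subgroup.coe_pow, Subgroup.coe_one]
    have := pow_card_eq_one' (G := V) (x := ⟨w, hw⟩)
    have h2 := congrArg Subtype.val this
    rwa [Subgroup.coe_pow, Subgroup.coe_one] at h2
  have hzero : ∀ (V : Subgroup G) (c : ℕ), c ≡ 0 [MOD Nat.card V] → ∀ w : ↥(W₁ ⊔ W₂),
      (w : G) ∈ V → (ω ^ c) w = 1 := by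
    intro V c hc w hw
    obtain ⟨t, rfl⟩ := (Nat.modEq_zero_iff_dvd).mp hc
    rw [MonoidHom.pow_apply, ← map_pow, pow_mul, hpow V w hw, one_pow, map_one]
  have hone : ∀ (V : Subgroup G) (c : ℕ), c ≡ 1 [MOD Nat.card V] → ∀ w : ↥(W₁ ⊔ W₂),
      (w : G) ∈ V → (ω ^ c) w = ω w := by
    intro V c hc w hw
    rw [MonoidHom.pow_apply, ← map_pow]
    congr 1
    have hdvd : orderOf w ∣ Nat.card V := orderOf_dvd_of_pow_eq_one (hpow V w hw)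
    have := pow_eq_pow_iff_modEq.mpr (hc.of_dvd hdvd)
    rw [this, pow_one]
  refine ⟨ω ^ a, ω ^ b, hzero W₂ a ha2, hzero W₁ b hb1, ?_⟩
  apply monoidHom_ext_sup W₁ W₂
  · intro w hw
    rw [MonoidHom.mul_apply, hone W₁ a ha1 w hw, hzero W₁ b hb1 w hw, mul_one]
  · intro w hw
    rw [MonoidHom.mul_apply, hone W₂ b hb2 w hw, hzero W₂ a ha2 w hw, one_mul]

theorem exists_ne_one_trivial_on (hW : Cfsg.IsSelfNormalizingCyclic W₁ W₂) (V : Subgroup G)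
    (hV : ¬ (W₁ ⊔ W₂ ≤ V)) :
    ∃ φ : ↥(W₁ ⊔ W₂) →* ℂˣ, φ ≠ 1 ∧ ∀ w : ↥(W₁ ⊔ W₂), (w : G) ∈ V → φ w = 1 := by
  haveI := hW.2.2.2.2.1
  have hc : ∀ x y : ↥(W₁ ⊔ W₂), x * y = y * x := fun x y =>
    (IsCyclic.isMulCommutative (α := ↥(W₁ ⊔ W₂))).is_comm.comm x y
  haveI hN : (V.subgroupOf (W₁ ⊔ W₂)).Normal := by
    constructor
    intro n hn g
    have : g * n * g⁻¹ = n := by rw [hc g n, mul_assoc, mul_inv_cancel, mul_one]
    rw [this]; exact hn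
  have hab : ∀ x y : ↥(W₁ ⊔ W₂), x * y * x⁻¹ * y⁻¹ ∈ V.subgroupOf (W₁ ⊔ W₂) := by
    intro x y
    have : x * y * x⁻¹ * y⁻¹ = 1 := by
      rw [hc x y, mul_assoc y x, mul_inv_cancel, mul_one, mul_inv_cancel]
    rw [this]; exact Subgroup.one_mem _
  have hne : V.subgroupOf (W₁ ⊔ W₂) ≠ ⊤ := by
    intro h
    apply hV
    intro w hw
    have : (⟨w, hw⟩ : ↥(W₁ ⊔ W₂)) ∈ V.subgroupOf (W₁ ⊔ W₂) := by rw [h]; exact Subgroup.mem_top _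
    exact Subgroup.mem_subgroupOf.mp this
  obtain ⟨f, hf1, hf2⟩ := exists_nontrivial_hom_trivial_on _ hab hne
  exact ⟨f, hf1, fun w hw => hf2 w (Subgroup.mem_subgroupOf.mpr hw)⟩

/-- Many characters trivial on `V`: at least `|V'|` for `V' ≤ W` of order coprime to `|V|`. -/
theorem exists_finset_trivial_on (hW : Cfsg.IsSelfNormalizingCyclic W₁ W₂) (V V' : Subgroup G)
    (hV : V ≤ W₁ ⊔ W₂) (hV' : V' ≤ W₁ ⊔ W₂) (hcop : (Nat.card V').Coprime (Nat.card V)) :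
    ∃ Λ : Finset (↥(W₁ ⊔ W₂) →* ℂˣ),
      (∀ f ∈ Λ, ∀ w : ↥(W₁ ⊔ W₂), (w : G) ∈ V → f w = 1) ∧ Nat.card V' ≤ Λ.card := by
  haveI := hW.2.2.2.2.1
  have hc : ∀ x y : ↥(W₁ ⊔ W₂), x * y = y * x := fun x y =>
    (IsCyclic.isMulCommutative (α := ↥(W₁ ⊔ W₂))).is_comm.comm x y
  haveI hN : (V.subgroupOf (W₁ ⊔ W₂)).Normal := by
    constructor
    intro n hn g
    have : g * n * g⁻¹ = n := by rw [hc g n, mul_assoc, mul_inv_cancel, mul_one]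
    rw [this]; exact hn
  have hab : ∀ x y : ↥(W₁ ⊔ W₂), x * y * x⁻¹ * y⁻¹ ∈ V.subgroupOf (W₁ ⊔ W₂) := by
    intro x y
    have : x * y * x⁻¹ * y⁻¹ = 1 := by
      rw [hc x y, mul_assoc y x, mul_inv_cancel, mul_one, mul_inv_cancel]
    rw [this]; exact Subgroup.one_mem _
  obtain ⟨Λ, hΛ1, hΛcard, -, -⟩ := exists_linear_chars (V.subgroupOf (W₁ ⊔ W₂)) hab
  refine ⟨Λ, fun f hf w hw => hΛ1 f hf w (Subgroup.mem_subgroupOf.mpr hw), ?_⟩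
  rw [hΛcard]
  have h1 := Subgroup.card_mul_index (V.subgroupOf (W₁ ⊔ W₂))
  rw [Nat.card_congr (Subgroup.subgroupOfEquivOfLe hV).toEquiv] at h1
  have h2 : Nat.card V' ∣ Nat.card ↥(W₁ ⊔ W₂) := Subgroup.card_dvd_of_le hV'
  rw [← h1] at h2
  have h3 : Nat.card V' ∣ (V.subgroupOf (W₁ ⊔ W₂)).index := hcop.dvd_of_dvd_mul_left h2
  exact Nat.le_of_dvd (Nat.pos_of_ne_zero Subgroup.index_ne_zero_of_finite) h3

theorem exists_ne_one_trivial_right (hW : Cfsg.IsSelfNormalizingCyclic W₁ W₂) :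
    ∃ φ : ↥(W₁ ⊔ W₂) →* ℂˣ, φ ≠ 1 ∧ ∀ w : ↥(W₁ ⊔ W₂), (w : G) ∈ W₂ → φ w = 1 := by
  apply exists_ne_one_trivial_on hW W₂
  intro h
  have h1 : W₁ ≤ W₂ := le_sup_left.trans h
  have : W₁ ≤ W₁ ⊓ W₂ := le_inf le_rfl h1
  rw [hW.2.2.1] at this
  exact hW.1 (le_bot_iff.mp this)

theorem exists_ne_one_trivial_left (hW : Cfsg.IsSelfNormalizingCyclic W₁ W₂) :
    ∃ ψ : ↥(W₁ ⊔ W₂) →* ℂˣ, ψ ≠ 1 ∧ ∀ w : ↥(W₁ ⊔ W₂), (w : G) ∈ W₁ → ψ w = 1 := by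
  apply exists_ne_one_trivial_on hW W₁
  intro h
  have h1 : W₂ ≤ W₁ := le_sup_right.trans h
  have : W₂ ≤ W₁ ⊓ W₂ := le_inf h1 le_rfl
  rw [hW.2.2.1] at this
  exact hW.2.1 (le_bot_iff.mp this)

end

end Cfsg.Agent.Lib.H8
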