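import Mathlib
import Cfsg.Prelude.Def_OddOrderChar
import Cfsg.Agent.Lib.L0.CharBasic
import Cfsg.Agent.Lib.L0.CharOps
import Cfsg.Agent.Lib.L0.CharInd
import Cfsg.Agent.Lib.L0.CharIndChar
import Cfsg.Agent.Lib.H24.CharBasic
import Cfsg.Agent.Lib.H24.CharOrth
import Cfsg.Agent.Lib.H24.CharDefl
import Cfsg.Agent.Lib.H23.CentralMul

/-!
# Characters induced from a normal subgroup: degree bounds and the sum of `φ(1)²/‖φ‖²`
(helper8's library, used for Peterfalvi §6 coherence theorems)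
-/

set_option autoImplicit false

namespace Cfsg.Agent.Lib.H8

open Cfsg Cfsg.Agent.Lib.L0 Cfsg.Agent.Lib.H24 Cfsg.Agent.Lib.H23
open scoped ComplexConjugate

section general
variable {G : Type*} [Group G] [Fintype G]

/-- A character evaluated at `1` is the nat-weighted sum of the degrees of its constituents. -/
theorem char_one_eq_sum [Fintype (IrrCharacter G)] (φ : G → ℂ) (hφ : IsCharacter G φ) :
    ∃ m : IrrCharacter G → ℕ, (∀ χ : IrrCharacter G, classInner φ (χ : G → ℂ) = m χ) ∧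
      φ 1 = ((∑ χ : IrrCharacter G, m χ * charDegree (χ : G → ℂ) : ℕ) : ℂ) := by
  have h : ∀ χ : IrrCharacter G, ∃ k : ℕ, classInner φ (χ : G → ℂ) = k := fun χ =>
    classInner_char_irr_nat hφ χ.2
  choose m hm using h
  refine ⟨m, hm, ?_⟩
  have hexp := classFunction_expansion φ (isClassFunction_of_isCharacter hφ)
  have h1 := congrFun hexp 1
  rw [Finset.sum_apply] at h1
  rw [h1]
  push_cast
  refine Finset.sum_congr rfl fun χ _ => ?_
  rw [Pi.smul_apply, smul_eq_mul, hm χ, charDegree_irr]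

/-- A constituent has degree at most that of the character. -/
theorem degree_le_of_constituent (φ : G → ℂ) (hφ : IsCharacter G φ) (θ : IrrCharacter G)
    (hne : classInner φ (θ : G → ℂ) ≠ 0) :
    ∃ b : ℕ, φ 1 = b ∧ charDegree (θ : G → ℂ) ≤ b := by
  classical
  haveI := Fintype.ofFinite (IrrCharacter G)
  obtain ⟨m, hm, h1⟩ := char_one_eq_sum φ hφ
  refine ⟨_, h1, ?_⟩
  have hmθ : 1 ≤ m θ := by
    rcases Nat.eq_zero_or_pos (m θ) with h | h
    · exfalso; apply hne; rw [hm θ, h]; simp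
    · exact h
  calc charDegree (θ : G → ℂ) ≤ m θ * charDegree (θ : G → ℂ) := Nat.le_mul_of_pos_left _ hmθ
    _ ≤ ∑ χ : IrrCharacter G, m χ * charDegree (χ : G → ℂ) :=
      Finset.single_le_sum (f := fun χ : IrrCharacter G => m χ * charDegree (χ : G → ℂ))
        (fun _ _ => Nat.zero_le _) (Finset.mem_univ θ)

/-- a nonzero character has an irreducible constituent -/
theorem exists_constituent (φ : G → ℂ) (hφ : IsCharacter G φ) (h0 : φ 1 ≠ 0) :
    ∃ θ : IrrCharacter G, classInner φ (θ : G → ℂ) ≠ 0 := by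
  classical
  haveI := Fintype.ofFinite (IrrCharacter G)
  by_contra hcon
  push Not at hcon
  have hexp := classFunction_expansion φ (isClassFunction_of_isCharacter hφ)
  apply h0
  rw [hexp, Finset.sum_apply]
  apply Finset.sum_eq_zero
  intro χ _
  rw [hcon χ, zero_smul, Pi.zero_apply]

/-- For an irreducible character and a central subgroup `D`: `χ(1)² |D| ≤ |G|`. -/
theorem irr_central_bound (θ : IrrCharacter G) (D : Subgroup G) (hD : D ≤ Subgroup.center G) :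
    charDegree (θ : G → ℂ) ^ 2 * Nat.card D ≤ Nat.card G := by
  classical
  have h1 := irr_orthonormal θ θ
  rw [if_pos rfl] at h1
  unfold classInner at h1
  have hG : (Nat.card G : ℂ) ≠ 0 := by exact_mod_cast (Nat.card_pos (α := G)).ne'
  have h2 : ∑ g : G, (θ : G → ℂ) g * conj ((θ : G → ℂ) g) = (Nat.card G : ℂ) := by
    field_simp at h1
    exact h1
  have hz : ∀ z ∈ D, (θ : G → ℂ) z * conj ((θ : G → ℂ) z) = ((charDegree (θ : G → ℂ) : ℕ) : ℂ) ^ 2 := by
    intro z hz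
    have h3 := irr_mul_center θ z⁻¹ (hD hz)
    rw [inv_mul_cancel, irr_inv] at h3
    rw [charDegree_irr, sq, h3]
  have h4 : ∀ g : G, (θ : G → ℂ) g * conj ((θ : G → ℂ) g) = ((Complex.normSq ((θ : G → ℂ) g) : ℝ) : ℂ) :=
    fun g => Complex.mul_conj _
  have h5 : ∑ g : G, Complex.normSq ((θ : G → ℂ) g) = (Nat.card G : ℝ) := by
    have : ((∑ g : G, Complex.normSq ((θ : G → ℂ) g) : ℝ) : ℂ) = ((Nat.card G : ℝ) : ℂ) := by
      push_cast
      rw [← h2]
      exact Finset.sum_congr rfl fun g _ => (h4 g).symm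
    exact_mod_cast this
  have h6 : ∑ g ∈ Finset.univ.filter (fun g : G => g ∈ D), Complex.normSq ((θ : G → ℂ) g) ≤
      ∑ g : G, Complex.normSq ((θ : G → ℂ) g) :=
    Finset.sum_le_sum_of_subset_of_nonneg (Finset.filter_subset _ _)
      (fun g _ _ => Complex.normSq_nonneg _)
  have h7 : ∑ g ∈ Finset.univ.filter (fun g : G => g ∈ D), Complex.normSq ((θ : G → ℂ) g) =
      (Nat.card D : ℝ) * (charDegree (θ : G → ℂ) : ℝ) ^ 2 := by
    have : ∀ g ∈ Finset.univ.filter (fun g : G => g ∈ D), Complex.normSq ((θ : G → ℂ) g) =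
        (charDegree (θ : G → ℂ) : ℝ) ^ 2 := by
      intro g hg
      have hgD : g ∈ D := (Finset.mem_filter.mp hg).2
      have := hz g hgD
      rw [h4 g] at this
      exact_mod_cast this
    rw [Finset.sum_congr rfl this, Finset.sum_const, nsmul_eq_mul]
    congr 1
    rw [Nat.card_eq_fintype_card, Fintype.card_subtype]
  rw [h7, h5] at h6
  have : ((charDegree (θ : G → ℂ) ^ 2 * Nat.card D : ℕ) : ℝ) ≤ (Nat.card G : ℝ) := by
    push_cast
    linarith
  exact_mod_cast this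

theorem indFun_one (H : Subgroup G) (θ : H → ℂ) :
    indFun H θ 1 = (H.index : ℂ) * θ 1 := by
  rw [indFun_apply]
  have h1 : ∀ x : G, extendByZero H θ (x⁻¹ * 1 * x) = θ 1 := by
    intro x
    have : x⁻¹ * 1 * x = 1 := by group
    rw [this, extendByZero_apply_of_mem H θ H.one_mem]
    rfl
  rw [Finset.sum_congr rfl fun x _ => h1 x, Finset.sum_const, Finset.card_univ, nsmul_eq_mul,
    ← Nat.card_eq_fintype_card, ← Subgroup.card_mul_index H]
  have hH : (Nat.card H : ℂ) ≠ 0 := by exact_mod_cast (Nat.card_pos (α := H)).ne'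
  push_cast
  field_simp

/-- Degree bound: `D ≤ C` with `D` central in `C`; then `θ(1)² ≤ |G:C|² |C:D|`. -/
theorem irr_degree_sq_le (θ : IrrCharacter G) (C D : Subgroup G) (hDC : D ≤ C)
    (hcent : ∀ d ∈ D, ∀ c ∈ C, d * c = c * d) :
    charDegree (θ : G → ℂ) ^ 2 ≤ C.index ^ 2 * D.relIndex C := by
  classical
  have hres : IsCharacter C (fun c : C => (θ : G → ℂ) c) :=
    isCharacter_restrict C (isCharacter_of_irr θ.2)
  have hres1 : (fun c : C => (θ : G → ℂ) c) 1 ≠ 0 := irr_one_ne_zero θ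
  obtain ⟨ψ, hψ⟩ := exists_constituent _ hres hres1
  have hfr := frobenius_reciprocity C (ψ : C → ℂ) (θ : G → ℂ) (irr_isClassFunction θ)
  have hne : classInner (indFun C (ψ : C → ℂ)) (θ : G → ℂ) ≠ 0 := by
    rw [hfr, ← classInner_conj_symm]
    intro h
    apply hψ
    have := congrArg conj h
    rwa [Complex.conj_conj, map_zero] at this
  obtain ⟨b, hb1, hb2⟩ := degree_le_of_constituent _ (isCharacter_indFun C (isCharacter_of_irr ψ.2)) θ hne
  rw [indFun_one, ← charDegree_irr] at hb1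
  have hb : b = C.index * charDegree (ψ : C → ℂ) := by exact_mod_cast hb1.symm
  have hcb := irr_central_bound ψ (D.subgroupOf C) (by
    intro d hd
    rw [Subgroup.mem_center_iff]
    intro c
    apply Subtype.ext
    have := hcent d.1 (Subgroup.mem_subgroupOf.mp hd) c.1 c.2
    simpa using this.symm)
  have hidx : Nat.card C = Nat.card (D.subgroupOf C) * D.relIndex C :=
    (Subgroup.card_mul_index (D.subgroupOf C)).symm
  have hpos : 0 < Nat.card (D.subgroupOf C) := Nat.card_pos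
  have hψ2 : charDegree (ψ : C → ℂ) ^ 2 ≤ D.relIndex C := by
    rw [hidx, mul_comm] at hcb
    exact Nat.le_of_mul_le_mul_left hcb hpos
  calc charDegree (θ : G → ℂ) ^ 2 ≤ b ^ 2 := Nat.pow_le_pow_left hb2 2
    _ = C.index ^ 2 * charDegree (ψ : C → ℂ) ^ 2 := by rw [hb]; ring
    _ ≤ C.index ^ 2 * D.relIndex C := Nat.mul_le_mul_left _ hψ2

end general

section quotient

/-- Degree bound modulo a normal subgroup `B` in the kernel: `B ≤ D ≤ C`, `[D, C] ≤ B`. -/
theorem irr_degree_sq_le_mod {K : Type*} [Group K] [Fintype K] (θ : IrrCharacter K)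
    (B C D : Subgroup K) [B.Normal] (hBD : B ≤ D) (hDC : D ≤ C)
    (hcomm : ∀ d ∈ D, ∀ c ∈ C, d * c * d⁻¹ * c⁻¹ ∈ B)
    (hker : ∀ b ∈ B, (θ : K → ℂ) b = (θ : K → ℂ) 1) :
    charDegree (θ : K → ℂ) ^ 2 ≤ C.index ^ 2 * D.relIndex C := by
  classical
  haveI := Fintype.ofFinite (K ⧸ B)
  obtain ⟨θ', hθ'⟩ := exists_deflation θ B hker
  have hdeg : charDegree (θ' : K ⧸ B → ℂ) = charDegree (θ : K → ℂ) := by
    apply Nat.cast_injective (R := ℂ)
    rw [charDegree_irr, charDegree_irr]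
    exact hθ' 1
  have hkerB : (QuotientGroup.mk' B).ker = B := QuotientGroup.ker_mk' B
  have h1 := irr_degree_sq_le θ' (C.map (QuotientGroup.mk' B)) (D.map (QuotientGroup.mk' B))
    (Subgroup.map_mono hDC) (by
      rintro _ ⟨d, hd, rfl⟩ _ ⟨c, hc, rfl⟩
      rw [← map_mul, ← map_mul]
      show ((d * c : K) : K ⧸ B) = ((c * d : K) : K ⧸ B)
      symm
      rw [QuotientGroup.eq]
      have := hcomm d⁻¹ (D.inv_mem hd) c⁻¹ (C.inv_mem hc)
      have e : (c * d)⁻¹ * (d * c) = d⁻¹ * c⁻¹ * d⁻¹⁻¹ * c⁻¹⁻¹ := by group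
      rw [e]; exact this)
  have hkerC : (QuotientGroup.mk' B).ker ≤ C := by rw [hkerB]; exact hBD.trans hDC
  rw [hdeg, Subgroup.index_map_eq C (QuotientGroup.mk'_surjective B) hkerC,
    Subgroup.relIndex_map_map, hkerB, sup_eq_left.mpr hBD, sup_eq_left.mpr (hBD.trans hDC)] at h1
  exact h1

/-- The degree bound for irreducible characters of a subgroup `K` of `L`. -/
theorem induced_degree_bound {L : Type*} [Group L] (K B C D : Subgroup L) [Finite K] [B.Normal]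
    (hBD : B ≤ D) (hDC : D ≤ C) (hCK : C ≤ K)
    (hcomm : ∀ x ∈ D, ∀ y ∈ C, x * y * x⁻¹ * y⁻¹ ∈ B)
    (θ : ↥K → ℂ) (hθ : IsIrrCharacter ↥K θ) (hker : ∀ a : ↥K, (a : L) ∈ B → θ a = θ 1) :
    charDegree θ ^ 2 ≤ (C.relIndex K) ^ 2 * D.relIndex C := by
  classical
  haveI := Fintype.ofFinite ↥K
  have h1 := irr_degree_sq_le_mod (⟨θ, hθ⟩ : IrrCharacter ↥K) (B.subgroupOf K) (C.subgroupOf K)
    (D.subgroupOf K) (fun x hx => hBD hx) (fun x hx => hDC hx)
    (fun d hd c hc => by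
      rw [Subgroup.mem_subgroupOf] at hd hc ⊢
      exact hcomm d hd c hc)
    (fun b hb => hker b (Subgroup.mem_subgroupOf.mp hb))
  rw [Subgroup.relIndex_subgroupOf hCK] at h1
  exact h1

/-- A solvable finite group has a nontrivial linear character trivial on a given proper normal
subgroup. -/
theorem exists_linear_char {K : Type*} [Group K] [Finite K] [Group.IsSolvable K] (N : Subgroup K)
    [N.Normal] (hN : N ≠ ⊤) : ∃ f : K →* ℂˣ, f ≠ 1 ∧ ∀ n ∈ N, f n = 1 := by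
  have : Nontrivial (K ⧸ N) := by
    by_contra h
    rw [not_nontrivial_iff_subsingleton] at h
    exact hN (QuotientGroup.subsingleton_iff.mp h)
  have : Group.IsSolvable (K ⧸ N) := Group.isSolvable_of_surjective (QuotientGroup.mk'_surjective N)
  have h1 := Group.IsSolvable.commutator_lt_top_of_nontrivial (K ⧸ N)
  have : Nontrivial (Abelianization (K ⧸ N)) := by
    by_contra h
    rw [not_nontrivial_iff_subsingleton] at h
    exact h1.ne (QuotientGroup.subsingleton_iff.mp h)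
  obtain ⟨a, ha⟩ := exists_ne (1 : Abelianization (K ⧸ N))
  obtain ⟨φ, hφ⟩ := CommGroup.exists_apply_ne_one_of_hasEnoughRootsOfUnity (Abelianization (K ⧸ N)) ℂ ha
  refine ⟨(φ.comp Abelianization.of).comp (QuotientGroup.mk' N), ?_, ?_⟩
  · intro h
    obtain ⟨q, rfl⟩ := QuotientGroup.mk_surjective a
    obtain ⟨k, rfl⟩ := QuotientGroup.mk_surjective q
    apply hφ
    have := DFunLike.congr_fun h k
    exact this
  · intro n hn
    have : (QuotientGroup.mk' N) n = 1 := (QuotientGroup.eq_one_iff n).mpr hn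
    rw [MonoidHom.comp_apply, this, map_one]

end quotient

section sumInduced
variable {L : Type*} [Group L] [Fintype L]

/-- If the irreducible characters `θ ∈ F` of `K` all induce `φ`, then `|F| ⟨φ,φ⟩ ≤ |L:K|`. -/
theorem fiber_bound (K : Subgroup L) [Fintype ↥K] (φ : L → ℂ) (nφ : ℕ)
    (hn : classInner φ φ = (nφ : ℂ)) (F : Finset (IrrCharacter ↥K))
    (hF : ∀ θ ∈ F, indFun K (θ : ↥K → ℂ) = φ) (hne : F.Nonempty) :
    F.card * nφ ≤ K.index := by
  classical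
  haveI := Fintype.ofFinite (IrrCharacter ↥K)
  obtain ⟨θ₀, hθ₀⟩ := hne
  have hφc : IsCharacter L φ := by
    rw [← hF θ₀ hθ₀]
    exact isCharacter_indFun K (isCharacter_of_irr θ₀.2)
  have hidx : K.index ≠ 0 := Subgroup.index_ne_zero_of_finite
  have hφ1 : ∀ θ ∈ F, φ 1 = ((K.index * charDegree (θ : ↥K → ℂ) : ℕ) : ℂ) := by
    intro θ hθ
    rw [← hF θ hθ, indFun_one, ← charDegree_irr]
    push_cast
    rfl
  have hdeg : ∀ θ ∈ F, charDegree (θ : ↥K → ℂ) = charDegree (θ₀ : ↥K → ℂ) := by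
    intro θ hθ
    have h1 := hφ1 θ hθ
    rw [hφ1 θ₀ hθ₀] at h1
    have h2 : K.index * charDegree (θ₀ : ↥K → ℂ) = K.index * charDegree (θ : ↥K → ℂ) := by
      exact_mod_cast h1
    exact (Nat.eq_of_mul_eq_mul_left (Nat.pos_of_ne_zero hidx) h2).symm
  have hres : IsCharacter ↥K (fun k : ↥K => φ k) := isCharacter_restrict K hφc
  obtain ⟨m, hm, hsum⟩ := char_one_eq_sum _ hres
  have hmθ : ∀ θ ∈ F, m θ = nφ := by
    intro θ hθ
    have h1 := frobenius_reciprocity K (θ : ↥K → ℂ) φ (isClassFunction_of_isCharacter hφc)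
    rw [hF θ hθ, hn] at h1
    have h2 := hm θ
    rw [← classInner_conj_symm, ← h1, Complex.conj_natCast] at h2
    exact_mod_cast h2.symm
  have h3 : ((K.index * charDegree (θ₀ : ↥K → ℂ) : ℕ) : ℂ) =
      ((∑ χ : IrrCharacter ↥K, m χ * charDegree (χ : ↥K → ℂ) : ℕ) : ℂ) := by
    rw [← hsum, ← hφ1 θ₀ hθ₀]
    rfl
  have h4 : K.index * charDegree (θ₀ : ↥K → ℂ) =
      ∑ χ : IrrCharacter ↥K, m χ * charDegree (χ : ↥K → ℂ) := by exact_mod_cast h3
  have h5 : ∑ χ ∈ F, m χ * charDegree (χ : ↥K → ℂ) ≤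
      ∑ χ : IrrCharacter ↥K, m χ * charDegree (χ : ↥K → ℂ) :=
    Finset.sum_le_sum_of_subset (Finset.subset_univ F)
  have h6 : ∑ χ ∈ F, m χ * charDegree (χ : ↥K → ℂ) = F.card * (nφ * charDegree (θ₀ : ↥K → ℂ)) := by
    rw [Finset.sum_congr rfl (fun χ hχ => by rw [hmθ χ hχ, hdeg χ hχ]), Finset.sum_const,
      smul_eq_mul]
  rw [h6, ← h4] at h5
  have hpos : 0 < charDegree (θ₀ : ↥K → ℂ) := charDegree_pos θ₀
  have h7 : (F.card * nφ) * charDegree (θ₀ : ↥K → ℂ) ≤ K.index * charDegree (θ₀ : ↥K → ℂ) := by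
    calc (F.card * nφ) * charDegree (θ₀ : ↥K → ℂ) = F.card * (nφ * charDegree (θ₀ : ↥K → ℂ)) := by ring
      _ ≤ _ := h5
  exact Nat.le_of_mul_le_mul_right h7 hpos

open Classical in
/-- Peterfalvi (6.2)-type estimate: the sum of `φ(1)²/‖φ‖²` over a finite set containing all the
characters induced from nonprincipal irreducible characters of `K` with `A` in the kernel is at
least `|L:K| (|K:A| - 1)`. -/
theorem sum_induced_ge (K A : Subgroup L) [A.Normal] (S₁ : Finset (L → ℂ))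
    (d n : (L → ℂ) → ℕ) (hsub : inducedIrrAbove K A ⊆ ↑S₁)
    (hd : ∀ φ ∈ inducedIrrAbove K A, φ 1 = (d φ : ℂ))
    (hn : ∀ φ ∈ inducedIrrAbove K A, classInner φ φ = (n φ : ℂ))
    (hn0 : ∀ φ ∈ inducedIrrAbove K A, n φ ≠ 0) :
    ((K.index * (A.relIndex K - 1) : ℕ) : ℝ) ≤ ∑ φ ∈ S₁, (d φ : ℝ) ^ 2 / (n φ : ℝ) := by
  haveI := Fintype.ofFinite ↥K
  haveI := Fintype.ofFinite (IrrCharacter ↥K)
  obtain ⟨Θ, hΘ⟩ : ∃ Θ : Finset (IrrCharacter ↥K), Θ = Finset.univ.filter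
    (fun θ : IrrCharacter ↥K => (θ : ↥K → ℂ) ≠ (fun _ => 1) ∧
      ∀ a : ↥K, (a : L) ∈ A → (θ : ↥K → ℂ) a = (θ : ↥K → ℂ) 1) := ⟨_, rfl⟩
  have hΘmem : ∀ θ : IrrCharacter ↥K, θ ∈ Θ ↔ ((θ : ↥K → ℂ) ≠ (fun _ => 1) ∧
      ∀ a : ↥K, (a : L) ∈ A → (θ : ↥K → ℂ) a = (θ : ↥K → ℂ) 1) := by
    intro θ; rw [hΘ]; simp
  obtain ⟨f, hf⟩ : ∃ f : IrrCharacter ↥K → (L → ℂ), f = fun θ : IrrCharacter ↥K => indFun K (θ : ↥K → ℂ) := ⟨_, rfl⟩
  have hfapp : ∀ θ : IrrCharacter ↥K, f θ = indFun K (θ : ↥K → ℂ) := by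
    intro θ; rw [hf]
  have hfmem : ∀ θ ∈ Θ, f θ ∈ inducedIrrAbove K A := by
    intro θ hθ
    obtain ⟨h1, h2⟩ := (hΘmem θ).mp hθ
    exact ⟨θ, θ.2, h1, h2, hfapp θ⟩
  have himg : Θ.image f ⊆ S₁ := by
    intro φ hφ
    obtain ⟨θ, hθ, rfl⟩ := Finset.mem_image.mp hφ
    exact hsub (hfmem θ hθ)
  -- sum of squares
  have hsq : ∑ θ ∈ Θ, charDegree (θ : ↥K → ℂ) ^ 2 + 1 = A.relIndex K := by
    have h1 := sum_sq_of_le_ker (G := ↥K) (A.subgroupOf K)
    have htriv : trivialIrr ↥K ∈ Finset.univ.filter (fun χ : IrrCharacter ↥K =>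
        ∀ n ∈ A.subgroupOf K, (χ : ↥K → ℂ) n = (χ : ↥K → ℂ) 1) := by
      simp
    have hΘ' : Θ = (Finset.univ.filter (fun χ : IrrCharacter ↥K =>
        ∀ n ∈ A.subgroupOf K, (χ : ↥K → ℂ) n = (χ : ↥K → ℂ) 1)).erase (trivialIrr ↥K) := by
      ext θ
      rw [hΘmem, Finset.mem_erase, Finset.mem_filter]
      constructor
      · rintro ⟨h1, h2⟩
        refine ⟨fun h => h1 (by rw [h]; rfl), Finset.mem_univ _, fun n hn => h2 n (Subgroup.mem_subgroupOf.mp hn)⟩
      · rintro ⟨h1, -, h2⟩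
        refine ⟨fun h => h1 (Subtype.ext h), fun a ha => h2 a (Subgroup.mem_subgroupOf.mpr ha)⟩
    rw [← Finset.add_sum_erase _ _ htriv, ← hΘ'] at h1
    have hdeg1 : charDegree (trivialIrr ↥K : ↥K → ℂ) = 1 := by
      apply Nat.cast_injective (R := ℂ)
      rw [charDegree_irr]
      simp
    rw [hdeg1] at h1
    have : (A.subgroupOf K).index = A.relIndex K := rfl
    rw [← this, ← h1]
    ring
  have hidx : K.index ≠ 0 := Subgroup.index_ne_zero_of_finite
  have hidxR : (0 : ℝ) < (K.index : ℝ) := by exact_mod_cast Nat.pos_of_ne_zero hidx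
  -- per-fibre bound
  have hfib : ∀ φ ∈ Θ.image f, ∑ θ ∈ Θ with f θ = φ, (K.index : ℝ) * (charDegree (θ : ↥K → ℂ) : ℝ) ^ 2
      ≤ (d φ : ℝ) ^ 2 / (n φ : ℝ) := by
    intro φ hφ
    obtain ⟨θ₀, hθ₀, hθ₀φ⟩ := Finset.mem_image.mp hφ
    have hφA : φ ∈ inducedIrrAbove K A := hθ₀φ ▸ hfmem θ₀ hθ₀
    have hFne : (Θ.filter (fun θ => f θ = φ)).Nonempty := ⟨θ₀, Finset.mem_filter.mpr ⟨hθ₀, hθ₀φ⟩⟩
    have hfb := fiber_bound K φ (n φ) (hn φ hφA) (Θ.filter (fun θ => f θ = φ))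
      (fun θ hθ => by have := (Finset.mem_filter.mp hθ).2; rwa [hfapp] at this) hFne
    have hdφ : ∀ θ ∈ Θ.filter (fun θ => f θ = φ), (d φ : ℝ) = (K.index : ℝ) * (charDegree (θ : ↥K → ℂ) : ℝ) := by
      intro θ hθ
      have h1 := (Finset.mem_filter.mp hθ).2
      rw [hfapp] at h1
      have h2 := hd φ hφA
      have h2' : φ 1 = (K.index : ℂ) * ((charDegree (θ : ↥K → ℂ) : ℕ) : ℂ) := by
        rw [← h1, indFun_one, ← charDegree_irr]
      rw [h2'] at h2
      have h3 : K.index * charDegree (θ : ↥K → ℂ) = d φ := by exact_mod_cast h2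
      rw [← h3]; push_cast; rfl
    have hterm : ∀ θ ∈ Θ.filter (fun θ => f θ = φ),
        (K.index : ℝ) * (charDegree (θ : ↥K → ℂ) : ℝ) ^ 2 = (d φ : ℝ) ^ 2 / (K.index : ℝ) := by
      intro θ hθ
      rw [hdφ θ hθ]
      field_simp
    rw [Finset.sum_congr rfl hterm, Finset.sum_const, nsmul_eq_mul]
    have hnpos : (0 : ℝ) < (n φ : ℝ) := by exact_mod_cast Nat.pos_of_ne_zero (hn0 φ hφA)
    rw [← mul_div_assoc, div_le_div_iff₀ hidxR hnpos]
    have hfbR : ((Θ.filter (fun θ => f θ = φ)).card : ℝ) * (n φ : ℝ) ≤ (K.index : ℝ) := by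
      exact_mod_cast hfb
    nlinarith [sq_nonneg (d φ : ℝ)]
  calc ((K.index * (A.relIndex K - 1) : ℕ) : ℝ)
      = ∑ θ ∈ Θ, (K.index : ℝ) * (charDegree (θ : ↥K → ℂ) : ℝ) ^ 2 := by
        rw [← Finset.mul_sum, ← hsq]
        push_cast
        simp
    _ = ∑ φ ∈ Θ.image f, ∑ θ ∈ Θ with f θ = φ, (K.index : ℝ) * (charDegree (θ : ↥K → ℂ) : ℝ) ^ 2 := by
        rw [Finset.sum_fiberwise_of_maps_to (fun θ hθ => Finset.mem_image_of_mem f hθ)]
    _ ≤ ∑ φ ∈ Θ.image f, (d φ : ℝ) ^ 2 / (n φ : ℝ) := Finset.sum_le_sum hfib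
    _ ≤ ∑ φ ∈ S₁, (d φ : ℝ) ^ 2 / (n φ : ℝ) :=
        Finset.sum_le_sum_of_subset_of_nonneg himg (fun φ _ _ => by positivity)

end sumInduced

end Cfsg.Agent.Lib.H8
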