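import Mathlib
import Cfsg.Prelude.Def_OddOrderChar
import Cfsg.Agent.S1499

set_option autoImplicit false

namespace Cfsg.Agent.Lib.H8

open Finset

section DadeGroup

variable {G : Type*} [Group G] {A : Set G} {L : Subgroup G} {H : G → Subgroup G}

theorem dade_comm (hD : Cfsg.DadeHypothesis A L H) {a u : G} (ha : a ∈ A) (hu : u ∈ H a) :
    a * u = u * a := by
  have := hD.le_centralizer a ha hu
  rw [Subgroup.mem_centralizer_iff] at this
  exact this a rfl

theorem dade_conj_eq [Finite G] (hD : Cfsg.DadeHypothesis A L H) {a b u v g : G} (ha : a ∈ A)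
    (hb : b ∈ A) (hu : u ∈ H a) (hv : v ∈ H b) (hg : g * (a * u) * g⁻¹ = b * v) :
    g * a * g⁻¹ = b := by
  apply S1499.pow_lemma g a u b v (Nat.card (H a) * Nat.card (H b)) (dade_comm hD ha hu)
    (dade_comm hD hb hv)
  · rw [pow_mul, S1499.pow_card_eq_one_of_mem (H a) u hu, one_pow]
  · rw [mul_comm, pow_mul, S1499.pow_card_eq_one_of_mem (H b) v hv, one_pow]
  · exact Nat.Coprime.mul_right (S1499.orderOf_coprime_card A L H hD a a ha ha)
      (S1499.orderOf_coprime_card A L H hD a b ha hb)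
  · exact Nat.Coprime.mul_right (S1499.orderOf_coprime_card A L H hD b a hb ha)
      (S1499.orderOf_coprime_card A L H hD b b hb hb)
  · exact hg

theorem dade_conj_eq' [Finite G] (hD : Cfsg.DadeHypothesis A L H) {a b u v g : G} (ha : a ∈ A)
    (hb : b ∈ A) (hu : u ∈ H a) (hv : v ∈ H b) (hg : g * (a * u) * g⁻¹ = b * v) :
    g * u * g⁻¹ = v := by
  have h1 := dade_conj_eq hD ha hb hu hv hg
  have : g * (a * u) * g⁻¹ = (g * a * g⁻¹) * (g * u * g⁻¹) := by group
  rw [this, h1] at hg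
  exact mul_left_cancel hg

theorem dade_coset_unique [Finite G] (hD : Cfsg.DadeHypothesis A L H) {a b u v : G} (ha : a ∈ A)
    (hb : b ∈ A) (hu : u ∈ H a) (hv : v ∈ H b) (h : a * u = b * v) : a = b ∧ u = v := by
  have hg : (1 : G) * (a * u) * 1⁻¹ = b * v := by simpa using h
  have h1 := dade_conj_eq hD ha hb hu hv hg
  have h2 := dade_conj_eq' hD ha hb hu hv hg
  simp only [one_mul, inv_one, mul_one] at h1 h2
  exact ⟨h1, h2⟩

theorem dade_eq_one_of_mem (hD : Cfsg.DadeHypothesis A L H) {a h : G} (ha : a ∈ A)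
    (hh : h ∈ H a) (hL : h ∈ L) : h = 1 := by
  have : h ∈ H a ⊓ (L ⊓ Subgroup.centralizer ({a} : Set G)) :=
    ⟨hh, hL, hD.le_centralizer a ha hh⟩
  rw [hD.inf_eq_bot a ha] at this
  exact Subgroup.mem_bot.mp this

theorem dade_le_normalizer (hD : Cfsg.DadeHypothesis A L H) {a : G} (ha : a ∈ A) :
    L ⊓ Subgroup.centralizer ({a} : Set G) ≤ Subgroup.normalizer (H a : Set G) := by
  intro c hc
  rw [Subgroup.mem_normalizer_iff]
  intro h
  constructor
  · intro hh; exact hD.conj_mem_H a ha c hc.2 h hh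
  · intro hh
    have := hD.conj_mem_H a ha c⁻¹ (inv_mem hc.2) _ hh
    simpa [mul_assoc] using this

/-- Elements of `C(a)` decompose as `l * h` with `l ∈ L ∩ C(a)`, `h ∈ H a`. -/
theorem dade_decomp (hD : Cfsg.DadeHypothesis A L H) {a c : G} (ha : a ∈ A)
    (hc : c ∈ Subgroup.centralizer ({a} : Set G)) :
    ∃ l ∈ L ⊓ Subgroup.centralizer ({a} : Set G), ∃ h ∈ H a, c = l * h := by
  rw [← hD.sup_eq a ha, sup_comm, ← SetLike.mem_coe,
    Subgroup.coe_mul_of_left_le_normalizer_right _ _ (dade_le_normalizer hD ha)] at hc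
  obtain ⟨l, hl, h, hh, rfl⟩ := hc
  exact ⟨l, hl, h, hh, rfl⟩

/-- Elements of `C(a)` decompose as `h * l` with `l ∈ L ∩ C(a)`, `h ∈ H a`. -/
theorem dade_decomp' (hD : Cfsg.DadeHypothesis A L H) {a c : G} (ha : a ∈ A)
    (hc : c ∈ Subgroup.centralizer ({a} : Set G)) :
    ∃ h ∈ H a, ∃ l ∈ L ⊓ Subgroup.centralizer ({a} : Set G), c = h * l := by
  rw [← hD.sup_eq a ha, ← SetLike.mem_coe,
    Subgroup.coe_mul_of_right_le_normalizer_left _ _ (dade_le_normalizer hD ha)] at hc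
  obtain ⟨h, hh, l, hl, rfl⟩ := hc
  exact ⟨h, hh, l, hl, rfl⟩

theorem pow_mul_decomp {S : Subgroup G} {h c : G} (hh : h ∈ S)
    (hc : ∀ m : ℕ, ∀ s ∈ S, c ^ m * s * (c ^ m)⁻¹ ∈ S) (k : ℕ) :
    ∃ h' ∈ S, (h * c) ^ k = h' * c ^ k := by
  induction k with
  | zero => exact ⟨1, S.one_mem, by simp⟩
  | succ k ih =>
    obtain ⟨h', hh', e⟩ := ih
    refine ⟨h' * (c ^ k * h * (c ^ k)⁻¹), S.mul_mem hh' (hc k h hh), ?_⟩
    rw [pow_succ, e, pow_succ]
    group

/-- `L` permutes the subgroups `H a` by conjugation. -/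
theorem dade_conj_mem_H [Finite G] (hD : Cfsg.DadeHypothesis A L H) {a u l : G} (ha : a ∈ A)
    (hu : u ∈ H a) (hl : l ∈ L) : l * u * l⁻¹ ∈ H (l * a * l⁻¹) := by
  obtain ⟨b, hb⟩ : ∃ b, b = l * a * l⁻¹ := ⟨_, rfl⟩
  obtain ⟨n, hn⟩ : ∃ n, n = l * u * l⁻¹ := ⟨_, rfl⟩
  rw [← hb, ← hn]
  have hbA : b ∈ A := by rw [hb]; exact hD.conj_mem l hl a ha
  have hnC : n ∈ Subgroup.centralizer ({b} : Set G) := by
    rw [Subgroup.mem_centralizer_iff]
    intro x hx
    rw [Set.mem_singleton_iff.mp hx]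
    have := dade_comm hD ha hu
    calc b * n = l * (a * u) * l⁻¹ := by rw [hb, hn]; group
      _ = l * (u * a) * l⁻¹ := by rw [this]
      _ = n * b := by rw [hb, hn]; group
  obtain ⟨h, hh, c, hc, hnc⟩ := dade_decomp' hD hbA hnC
  have hcpow : ∀ m : ℕ, ∀ s ∈ H b, c ^ m * s * (c ^ m)⁻¹ ∈ H b := by
    intro m s hs
    exact hD.conj_mem_H b hbA (c ^ m) (Subgroup.pow_mem _ hc.2 m) s hs
  obtain ⟨h', hh', e⟩ := pow_mul_decomp hh hcpow (Nat.card (H a))
  have hn1 : n ^ Nat.card (H a) = 1 := by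
    rw [hn, S1499.conj_pow, S1499.pow_card_eq_one_of_mem (H a) u hu]; group
  rw [← hnc, hn1] at e
  have hck : c ^ Nat.card (H a) = h'⁻¹ := eq_inv_of_mul_eq_one_right e.symm
  have hck1 : c ^ Nat.card (H a) = 1 := by
    apply dade_eq_one_of_mem hD hbA
    · rw [hck]; exact (H b).inv_mem hh'
    · exact L.pow_mem hc.1 _
  have hc1 : c = 1 := by
    have h1 : orderOf c ∣ Nat.card (H a) := orderOf_dvd_of_pow_eq_one hck1
    have h2 : orderOf c ∣ Nat.card ↥(L ⊓ Subgroup.centralizer ({b} : Set G)) :=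
      Subgroup.orderOf_dvd_natCard _ hc
    have := Nat.eq_one_of_dvd_coprimes (hD.coprime a ha b hbA) h1 h2
    exact orderOf_eq_one_iff.mp this
  rw [hnc, hc1, mul_one]; exact hh

theorem dade_card_conj_le [Finite G] (hD : Cfsg.DadeHypothesis A L H) {a l : G} (ha : a ∈ A)
    (hl : l ∈ L) : Nat.card (H a) ≤ Nat.card (H (l * a * l⁻¹)) := by
  apply Nat.card_le_card_of_injective
    (fun u : H a => (⟨l * u * l⁻¹, dade_conj_mem_H hD ha u.2 hl⟩ : H (l * a * l⁻¹)))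
  intro u v huv
  have := congrArg Subtype.val huv
  simp only at this
  ext
  simpa using this

theorem dade_card_conj [Finite G] (hD : Cfsg.DadeHypothesis A L H) {a l : G} (ha : a ∈ A)
    (hl : l ∈ L) : Nat.card (H (l * a * l⁻¹)) = Nat.card (H a) := by
  apply le_antisymm
  · have := dade_card_conj_le hD (hD.conj_mem l hl a ha) (L.inv_mem hl)
    have e : l⁻¹ * (l * a * l⁻¹) * l⁻¹⁻¹ = a := by group
    rwa [e] at this
  · exact dade_card_conj_le hD ha hl

end DadeGroup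

section DadeCount

open Classical

variable {G : Type*} [Group G] [Fintype G] {A : Set G} {L : Subgroup G} {H : G → Subgroup G}
  {K : Type*} [Field K]

/-- The weight of `d`: the sum of `|H a|⁻¹` over the representations `d = a * u`. -/
noncomputable def dadeV (A : Set G) (H : G → Subgroup G) (K : Type*) [Field K] (d : G) : K :=
  ∑ a ∈ univ.filter (· ∈ A), ∑ u ∈ univ.filter (· ∈ H a),
    if d = a * u then (Nat.card (H a) : K)⁻¹ else 0

theorem dadeV_of_eq (hD : Cfsg.DadeHypothesis A L H) {a u : G} (ha : a ∈ A) (hu : u ∈ H a) :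
    dadeV A H K (a * u) = (Nat.card (H a) : K)⁻¹ := by
  unfold dadeV
  rw [Finset.sum_eq_single a]
  · rw [Finset.sum_eq_single u]
    · simp
    · intro v hv hvu
      rw [if_neg]
      intro h
      have hv' : v ∈ H a := (Finset.mem_filter.mp hv).2
      exact hvu (dade_coset_unique hD ha ha hu hv' h).2.symm
    · intro h; exact absurd (Finset.mem_filter.mpr ⟨Finset.mem_univ _, hu⟩) h
  · intro b hb hba
    apply Finset.sum_eq_zero
    intro v hv
    rw [if_neg]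
    intro h
    have hb' : b ∈ A := (Finset.mem_filter.mp hb).2
    have hv' : v ∈ H b := (Finset.mem_filter.mp hv).2
    exact hba (dade_coset_unique hD ha hb' hu hv' h).1.symm
  · intro h; exact absurd (Finset.mem_filter.mpr ⟨Finset.mem_univ _, ha⟩) h

theorem dadeV_of_not (d : G) (hd : ¬ ∃ a ∈ A, ∃ u ∈ H a, d = a * u) : dadeV A H K d = 0 := by
  unfold dadeV
  apply Finset.sum_eq_zero
  intro a ha
  apply Finset.sum_eq_zero
  intro u hu
  rw [if_neg]
  intro h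
  exact hd ⟨a, (Finset.mem_filter.mp ha).2, u, (Finset.mem_filter.mp hu).2, h⟩

theorem sum_mul_dadeV (F : G → K) :
    ∑ d : G, F d * dadeV A H K d = ∑ a ∈ univ.filter (· ∈ A), (Nat.card (H a) : K)⁻¹ *
      ∑ u ∈ univ.filter (· ∈ H a), F (a * u) := by
  unfold dadeV
  simp_rw [Finset.mul_sum]
  rw [Finset.sum_comm]
  apply Finset.sum_congr rfl
  intro a _
  rw [Finset.sum_comm]
  apply Finset.sum_congr rfl
  intro u _
  rw [Finset.sum_eq_single (a * u)]
  · rw [if_pos rfl, mul_comm]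
  · intro d _ hd; rw [if_neg hd, mul_zero]
  · intro h; exact absurd (Finset.mem_univ _) h

theorem dade_double_count (F : G → K) (hF : ∀ g x : G, F (x * g * x⁻¹) = F g) :
    ∑ g : G, F g * ∑ x : G, dadeV A H K (x * g * x⁻¹) =
      (Fintype.card G : K) * ∑ a ∈ univ.filter (· ∈ A), (Nat.card (H a) : K)⁻¹ *
        ∑ u ∈ univ.filter (· ∈ H a), F (a * u) := by
  rw [← sum_mul_dadeV]
  have h1 : ∑ g : G, F g * ∑ x : G, dadeV A H K (x * g * x⁻¹) =
      ∑ x : G, ∑ g : G, F g * dadeV A H K (x * g * x⁻¹) := by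
    simp_rw [Finset.mul_sum]
    rw [Finset.sum_comm]
  have h2 : ∀ x : G, ∑ g : G, F g * dadeV A H K (x * g * x⁻¹) =
      ∑ d : G, F d * dadeV A H K d := by
    intro x
    rw [← Equiv.sum_comp (MulAut.conj x).toEquiv (fun d => F d * dadeV A H K d)]
    apply Finset.sum_congr rfl
    intro g _
    simp only [MulEquiv.toEquiv_eq_coe, EquivLike.coe_coe, MulAut.conj_apply]
    rw [hF]
  rw [h1, Finset.sum_congr rfl (fun x _ => h2 x), Finset.sum_const, Finset.card_univ,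
    nsmul_eq_mul]

theorem sum_dadeV_conj_of_not_supp {g : G}
    (hg : ¬ ∃ a ∈ A, ∃ u ∈ H a, ∃ x : G, x * g * x⁻¹ = a * u) :
    ∑ x : G, dadeV A H K (x * g * x⁻¹) = 0 := by
  apply Finset.sum_eq_zero
  intro x _
  apply dadeV_of_not
  rintro ⟨a, ha, u, hu, h⟩
  exact hg ⟨a, ha, u, hu, x, h⟩

theorem card_filter_mem_subgroup (S : Subgroup G) :
    (univ.filter (· ∈ S)).card = Nat.card S := by
  rw [Nat.card_eq_fintype_card]
  exact (Fintype.card_of_subtype _ (fun x => by simp)).symm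

theorem sum_dadeV_conj_of_supp [CharZero K] (hD : Cfsg.DadeHypothesis A L H) {g : G}
    (hg : ∃ a ∈ A, ∃ u ∈ H a, ∃ x : G, x * g * x⁻¹ = a * u) :
    ∑ x : G, dadeV A H K (x * g * x⁻¹) = (Nat.card L : K) := by
  obtain ⟨a₀, ha₀, u₀, hu₀, x₀, hx₀⟩ := hg
  have h1 : ∑ x : G, dadeV A H K (x * g * x⁻¹) =
      ∑ y : G, dadeV A H K (y * (a₀ * u₀) * y⁻¹) := by
    rw [← Equiv.sum_comp (Equiv.mulRight x₀) (fun x => dadeV A H K (x * g * x⁻¹))]
    apply Finset.sum_congr rfl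
    intro y _
    simp only [Equiv.coe_mulRight]
    rw [← hx₀]
    congr 1
    group
  rw [h1]
  obtain ⟨Y, hY⟩ : ∃ Y : Finset G, Y = ((univ.filter (· ∈ L)) ×ˢ (univ.filter (· ∈ H a₀))).image
    (fun p => p.1 * p.2) := ⟨_, rfl⟩
  have hmemY : ∀ y, y ∈ Y ↔ ∃ l ∈ L, ∃ h ∈ H a₀, y = l * h := by
    intro y
    simp only [hY, Finset.mem_image, Finset.mem_product, Finset.mem_filter, Finset.mem_univ,
      true_and, Prod.exists]
    constructor
    · rintro ⟨l, h, ⟨hl, hh⟩, rfl⟩; exact ⟨l, hl, h, hh, rfl⟩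
    · rintro ⟨l, hl, h, hh, rfl⟩; exact ⟨l, h, ⟨hl, hh⟩, rfl⟩
  have key : ∀ y : G, dadeV A H K (y * (a₀ * u₀) * y⁻¹) =
      if y ∈ Y then (Nat.card (H a₀) : K)⁻¹ else 0 := by
    intro y
    by_cases hy : y ∈ Y
    · rw [if_pos hy]
      obtain ⟨l, hl, h, hh, rfl⟩ := (hmemY y).mp hy
      have hcomm : a₀ * h = h * a₀ := dade_comm hD ha₀ hh
      have e : l * h * (a₀ * u₀) * (l * h)⁻¹ =
          (l * a₀ * l⁻¹) * (l * (h * u₀ * h⁻¹) * l⁻¹) := by
        calc l * h * (a₀ * u₀) * (l * h)⁻¹ = l * (h * a₀) * u₀ * h⁻¹ * l⁻¹ := by group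
          _ = l * (a₀ * h) * u₀ * h⁻¹ * l⁻¹ := by rw [hcomm]
          _ = _ := by group
      rw [e, dadeV_of_eq hD (hD.conj_mem l hl a₀ ha₀) (dade_conj_mem_H hD ha₀
        ((H a₀).mul_mem ((H a₀).mul_mem hh hu₀) ((H a₀).inv_mem hh)) hl),
        dade_card_conj hD ha₀ hl]
    · rw [if_neg hy]
      apply dadeV_of_not
      rintro ⟨a, ha, u, hu, h⟩
      apply hy
      have hya : y * a₀ * y⁻¹ = a := dade_conj_eq hD ha₀ ha hu₀ hu h
      obtain ⟨l, hl, hla⟩ := hD.fusion a₀ ha₀ y (by rw [hya]; exact ha)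
      have hcC : l⁻¹ * y ∈ Subgroup.centralizer ({a₀} : Set G) := by
        rw [Subgroup.mem_centralizer_iff]
        intro x hx
        rw [Set.mem_singleton_iff.mp hx]
        have : l * a₀ = y * a₀ * y⁻¹ * l := by rw [← hla]; group
        calc a₀ * (l⁻¹ * y) = l⁻¹ * (l * a₀) * (l⁻¹ * y) := by group
          _ = l⁻¹ * (y * a₀ * y⁻¹ * l) * (l⁻¹ * y) := by rw [this]
          _ = l⁻¹ * y * a₀ := by group
      obtain ⟨l', hl', h', hh', e⟩ := dade_decomp hD ha₀ hcC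
      rw [hmemY]
      refine ⟨l * l', L.mul_mem hl hl'.1, h', hh', ?_⟩
      calc y = l * (l⁻¹ * y) := by group
        _ = l * (l' * h') := by rw [e]
        _ = l * l' * h' := by group
  rw [Finset.sum_congr rfl (fun y _ => key y), ← Finset.sum_filter, Finset.sum_const]
  have hcard : (univ.filter (· ∈ Y)).card = Nat.card L * Nat.card (H a₀) := by
    have : univ.filter (· ∈ Y) = Y := by ext; simp
    rw [this, hY, Finset.card_image_of_injOn, Finset.card_product, card_filter_mem_subgroup,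
      card_filter_mem_subgroup]
    rintro ⟨l, h⟩ hp ⟨l', h'⟩ hp' heq
    simp only [Finset.coe_product, Finset.coe_filter, Finset.mem_univ, true_and,
      Set.mem_prod, Set.mem_ofPred_eq] at hp hp'
    simp only at heq
    obtain ⟨hl, hh⟩ := hp
    obtain ⟨hl', hh'⟩ := hp'
    have hz : l'⁻¹ * l = h' * h⁻¹ := by
      calc l'⁻¹ * l = l'⁻¹ * (l * h) * h⁻¹ := by group
        _ = l'⁻¹ * (l' * h') * h⁻¹ := by rw [heq]
        _ = h' * h⁻¹ := by group
    have hz1 : l'⁻¹ * l = 1 := dade_eq_one_of_mem hD ha₀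
      (by rw [hz]; exact (H a₀).mul_mem hh' ((H a₀).inv_mem hh)) (L.mul_mem (L.inv_mem hl') hl)
    have hll : l' = l := inv_mul_eq_one.mp hz1
    subst hll
    have : h = h' := mul_left_cancel heq
    rw [this]
  rw [hcard, nsmul_eq_mul, Nat.cast_mul, mul_assoc, mul_inv_cancel₀, mul_one]
  exact Nat.cast_ne_zero.mpr (Nat.card_pos.ne')

/-- The counting formula behind the Dade isometry. -/
theorem dade_count [CharZero K] (hD : Cfsg.DadeHypothesis A L H) (F : G → K)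
    (hF : ∀ g x : G, F (x * g * x⁻¹) = F g) :
    (Nat.card L : K) * ∑ g ∈ univ.filter
        (fun g => ∃ a ∈ A, ∃ u ∈ H a, ∃ x : G, x * g * x⁻¹ = a * u), F g =
      (Nat.card G : K) * ∑ a ∈ univ.filter (· ∈ A), (Nat.card (H a) : K)⁻¹ *
        ∑ u ∈ univ.filter (· ∈ H a), F (a * u) := by
  rw [show (Nat.card G : K) = (Fintype.card G : K) by rw [Nat.card_eq_fintype_card],
    ← dade_double_count F hF, Finset.mul_sum, Finset.sum_filter]
  apply Finset.sum_congr rfl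
  intro g _
  split_ifs with hg
  · rw [sum_dadeV_conj_of_supp hD hg, mul_comm]
  · rw [sum_dadeV_conj_of_not_supp hg, mul_zero]

/-- Sums over `A` as sums over `L`. -/
theorem sum_filter_mem_eq_sum_subtype (hD : Cfsg.DadeHypothesis A L H) [Fintype L]
    {M : Type*} [AddCommMonoid M] (f : G → M) :
    ∑ g ∈ univ.filter (· ∈ A), f g = ∑ a : L, if (a : G) ∈ A then f a else 0 := by
  have h1 : ∑ a : L, (if (a : G) ∈ A then f a else 0) =
      ∑ g ∈ univ.filter (· ∈ L), (if g ∈ A then f g else 0) :=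
    (Finset.sum_subtype (univ.filter (· ∈ L)) (fun x => by simp)
      (fun g => if g ∈ A then f g else 0)).symm
  rw [h1, ← Finset.sum_filter]
  apply Finset.sum_congr _ (fun _ _ => rfl)
  ext g
  simp only [Finset.mem_filter, Finset.mem_univ, true_and]
  exact ⟨fun h => ⟨hD.subset h, h⟩, fun h => h.2⟩

theorem finsum_mem_eq_sum_filter_univ {X : Type*} [Fintype X] {M : Type*} [AddCommMonoid M]
    (s : Set X) (f : X → M) : ∑ᶠ i ∈ s, f i = ∑ i ∈ univ.filter (· ∈ s), f i := by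
  apply finsum_mem_eq_sum_of_subset
  · intro x hx
    simp only [Finset.coe_filter, Finset.mem_univ, true_and, Set.mem_ofPred_eq]
    exact hx.1
  · intro x hx
    simpa using hx

end DadeCount

section DadeIsometry

variable {G : Type*} [Group G] [Finite G] {A : Set G} {L : Subgroup G} {H : G → Subgroup G}

omit [Finite G] in
theorem dade_supp_iff (hD : Cfsg.DadeHypothesis A L H) (g : G) :
    (∃ a : ↥L, (a : G) ∈ A ∧ ∃ x : G, ∃ u ∈ H (a : G), x * g * x⁻¹ = (a : G) * u) ↔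
      ∃ a ∈ A, ∃ u ∈ H a, ∃ x : G, x * g * x⁻¹ = a * u := by
  constructor
  · rintro ⟨a, ha, x, u, hu, hx⟩
    exact ⟨a, ha, u, hu, x, hx⟩
  · rintro ⟨a, ha, u, hu, x, hx⟩
    exact ⟨⟨a, hD.subset ha⟩, ha, x, u, hu, hx⟩

theorem dadeIsometry_eq (hD : Cfsg.DadeHypothesis A L H) (α : L → ℂ)
    (hα : Cfsg.IsClassFunction L α) {g : G} {a : L} (ha : (a : G) ∈ A) {x u : G}
    (hu : u ∈ H a) (hx : x * g * x⁻¹ = a * u) : Cfsg.dadeIsometry A L H α g = α a := by
  have h : ∃ a : ↥L, (a : G) ∈ A ∧ ∃ x : G, ∃ u ∈ H (a : G), x * g * x⁻¹ = (a : G) * u :=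
    ⟨a, ha, x, u, hu, hx⟩
  unfold Cfsg.dadeIsometry
  rw [dif_pos h]
  obtain ⟨ha', x', u', hu', hx'⟩ := Classical.choose_spec h
  obtain ⟨a', hadef⟩ : ∃ a', a' = Classical.choose h := ⟨_, rfl⟩
  rw [← hadef] at ha' hu' hx' ⊢
  have hconj : (x * x'⁻¹) * ((a' : G) * u') * (x * x'⁻¹)⁻¹ = (a : G) * u := by
    rw [← hx', ← hx]; group
  have h2 := dade_conj_eq hD ha' ha hu' hu hconj
  obtain ⟨l, hl, hla⟩ := hD.fusion a' ha' (x * x'⁻¹) (by rw [h2]; exact ha)
  have h3 : (⟨l, hl⟩ : L) * a' * (⟨l, hl⟩ : L)⁻¹ = a := Subtype.ext (by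
    rw [Subgroup.coe_mul, Subgroup.coe_mul, Subgroup.coe_inv]
    exact hla.trans h2)
  rw [← h3, hα]

omit [Finite G] in
theorem dadeIsometry_eq_zero (α : L → ℂ) {g : G}
    (hg : ¬ ∃ a : ↥L, (a : G) ∈ A ∧ ∃ x : G, ∃ u ∈ H (a : G), x * g * x⁻¹ = (a : G) * u) :
    Cfsg.dadeIsometry A L H α g = 0 := by
  unfold Cfsg.dadeIsometry
  rw [dif_neg hg]

theorem isClassFunction_dadeIsometry (hD : Cfsg.DadeHypothesis A L H) (α : L → ℂ)
    (hα : Cfsg.IsClassFunction L α) : Cfsg.IsClassFunction G (Cfsg.dadeIsometry A L H α) := by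
  intro g y
  by_cases hg : ∃ a : ↥L, (a : G) ∈ A ∧ ∃ x : G, ∃ u ∈ H (a : G), x * g * x⁻¹ = (a : G) * u
  · obtain ⟨a, ha, x, u, hu, hx⟩ := hg
    rw [dadeIsometry_eq hD α hα ha hu hx]
    apply dadeIsometry_eq hD α hα ha hu (x := x * y⁻¹)
    rw [← hx]; group
  · rw [dadeIsometry_eq_zero α hg]
    apply dadeIsometry_eq_zero
    rintro ⟨a, ha, x, u, hu, hx⟩
    apply hg
    refine ⟨a, ha, x * y, u, hu, ?_⟩
    rw [← hx]; group

end DadeIsometry

end Cfsg.Agent.Lib.H8
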