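import Mathlib

set_option autoImplicit false

/-! # A counting lemma for conjugates landing in a coset

For a subgroup `K` normalised by `n`, a subgroup `K' ≤ K` such that two elements of `n K'` are
`K`-conjugate only through `K'`, the number of conjugates of `g` in `n K` and in `n K'` are in the
ratio `|K| : |K'|`.  This replaces the Schur–Zassenhaus argument in the Dade expansion. -/

namespace Cfsg.Agent.Lib.H8

open Finset

section ConjCount

open Classical

variable {G : Type*} [Group G] [Fintype G]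

theorem card_filter_mem_subgroup' (S : Subgroup G) :
    (univ.filter (· ∈ S)).card = Nat.card S := by
  rw [Nat.card_eq_fintype_card]
  exact (Fintype.card_of_subtype _ (fun x => by simp)).symm

theorem card_filter_coset (K : Subgroup G) (n : G) :
    (univ.filter (fun y : G => n⁻¹ * y ∈ K)).card = Nat.card K := by
  rw [← card_filter_mem_subgroup']
  apply Finset.card_equiv (Equiv.mulLeft n⁻¹)
  intro y
  simp

/-- number of `h ∈ K` conjugating `y` into `n K'`. -/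
noncomputable def conjCnt (K K' : Subgroup G) (n y : G) : ℕ :=
  (univ.filter (fun h : G => h ∈ K ∧ n⁻¹ * (h⁻¹ * y * h) ∈ K')).card

theorem conjCnt_le (K K' : Subgroup G) (n : G)
    (hF : ∀ z k : G, n⁻¹ * z ∈ K' → k ∈ K → n⁻¹ * (k⁻¹ * z * k) ∈ K' → k ∈ K') (y : G) :
    conjCnt K K' n y ≤ Nat.card K' := by
  unfold conjCnt
  by_cases hne : (univ.filter (fun h : G => h ∈ K ∧ n⁻¹ * (h⁻¹ * y * h) ∈ K')).Nonempty
  · obtain ⟨h₀, hh₀⟩ := hne
    rw [Finset.mem_filter] at hh₀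
    obtain ⟨-, hh₀K, hh₀'⟩ := hh₀
    rw [← card_filter_mem_subgroup' K']
    refine le_trans (Finset.card_le_card ?_)
      (Finset.card_image_le (s := univ.filter (· ∈ K')) (f := fun k => h₀ * k))
    intro h hh
    rw [Finset.mem_filter] at hh
    obtain ⟨-, hhK, hh'⟩ := hh
    rw [Finset.mem_image]
    refine ⟨h₀⁻¹ * h, ?_, by group⟩
    rw [Finset.mem_filter]
    refine ⟨Finset.mem_univ _, ?_⟩
    apply hF (h₀⁻¹ * y * h₀) (h₀⁻¹ * h) hh₀' (K.mul_mem (K.inv_mem hh₀K) hhK)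
    have : (h₀⁻¹ * h)⁻¹ * (h₀⁻¹ * y * h₀) * (h₀⁻¹ * h) = h⁻¹ * y * h := by group
    rw [this]; exact hh'
  · rw [Finset.not_nonempty_iff_eq_empty] at hne
    rw [hne]; simp

theorem sum_conjCnt (K K' : Subgroup G) (hK' : K' ≤ K) (n : G)
    (hn : ∀ k ∈ K, n⁻¹ * k * n ∈ K) :
    ∑ y ∈ univ.filter (fun y : G => n⁻¹ * y ∈ K), conjCnt K K' n y =
      Nat.card K * Nat.card K' := by
  unfold conjCnt
  simp_rw [Finset.card_filter]
  rw [Finset.sum_filter, ]
  have h1 : ∀ y : G, (if n⁻¹ * y ∈ K then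
      ∑ h : G, (if h ∈ K ∧ n⁻¹ * (h⁻¹ * y * h) ∈ K' then 1 else 0) else 0) =
      ∑ h : G, if (n⁻¹ * y ∈ K ∧ h ∈ K ∧ n⁻¹ * (h⁻¹ * y * h) ∈ K') then 1 else 0 := by
    intro y
    split_ifs with hy
    · apply Finset.sum_congr rfl
      intro h _
      simp [hy]
    · simp [hy]
  rw [Finset.sum_congr rfl (fun y _ => h1 y), Finset.sum_comm]
  have h2 : ∀ h : G, (∑ y : G,
      if (n⁻¹ * y ∈ K ∧ h ∈ K ∧ n⁻¹ * (h⁻¹ * y * h) ∈ K') then 1 else 0) =
      if h ∈ K then Nat.card K' else 0 := by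
    intro h
    rw [← Equiv.sum_comp (MulAut.conj h).toEquiv]
    split_ifs with hh
    · rw [← card_filter_coset K' n, Finset.card_filter]
      apply Finset.sum_congr rfl
      intro z _
      have e : h⁻¹ * (h * z * h⁻¹) * h = z := by group
      by_cases hz : n⁻¹ * z ∈ K'
      · rw [if_pos hz]
        apply if_pos
        refine ⟨?_, hh, ?_⟩
        · show n⁻¹ * (h * z * h⁻¹) ∈ K
          have : n⁻¹ * (h * z * h⁻¹) = (n⁻¹ * h * n) * (n⁻¹ * z) * h⁻¹ := by group
          rw [this]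
          exact K.mul_mem (K.mul_mem (hn h hh) (hK' hz)) (K.inv_mem hh)
        · show n⁻¹ * (h⁻¹ * (h * z * h⁻¹) * h) ∈ K'
          rw [e]; exact hz
      · rw [if_neg hz]
        apply if_neg
        intro h'
        apply hz
        have : n⁻¹ * (h⁻¹ * (h * z * h⁻¹) * h) ∈ K' := h'.2.2
        rwa [e] at this
    · apply Finset.sum_eq_zero
      intro z _
      rw [if_neg]
      intro h'
      exact hh h'.2.1
  rw [Finset.sum_congr rfl (fun h _ => h2 h), ← Finset.sum_filter, Finset.sum_const,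
    card_filter_mem_subgroup', smul_eq_mul]

theorem conjCnt_eq (K K' : Subgroup G) (hK' : K' ≤ K) (n : G)
    (hn : ∀ k ∈ K, n⁻¹ * k * n ∈ K)
    (hF : ∀ z k : G, n⁻¹ * z ∈ K' → k ∈ K → n⁻¹ * (k⁻¹ * z * k) ∈ K' → k ∈ K') (y : G)
    (hy : n⁻¹ * y ∈ K) : conjCnt K K' n y = Nat.card K' := by
  have h1 := sum_conjCnt K K' hK' n hn
  have h2 : ∑ y ∈ univ.filter (fun y : G => n⁻¹ * y ∈ K), Nat.card K' =
      Nat.card K * Nat.card K' := by
    rw [Finset.sum_const, card_filter_coset, smul_eq_mul]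
  have h3 := (Finset.sum_eq_sum_iff_of_le (s := univ.filter (fun y : G => n⁻¹ * y ∈ K))
    (f := fun y => conjCnt K K' n y) (g := fun _ => Nat.card K')
    (fun y _ => conjCnt_le K K' n hF y)).mp (h1.trans h2.symm)
  exact h3 y (Finset.mem_filter.mpr ⟨Finset.mem_univ _, hy⟩)

/-- The counting lemma. -/
theorem conj_count_coset (K K' : Subgroup G) (hK' : K' ≤ K) (n : G)
    (hn : ∀ k ∈ K, n⁻¹ * k * n ∈ K)
    (hF : ∀ z k : G, n⁻¹ * z ∈ K' → k ∈ K → n⁻¹ * (k⁻¹ * z * k) ∈ K' → k ∈ K') (g : G) :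
    (univ.filter (fun x : G => n⁻¹ * (x⁻¹ * g * x) ∈ K)).card * Nat.card K' =
      (univ.filter (fun x : G => n⁻¹ * (x⁻¹ * g * x) ∈ K')).card * Nat.card K := by
  -- double count pairs (x, h)
  have hL : (univ.filter (fun x : G => n⁻¹ * (x⁻¹ * g * x) ∈ K)).card * Nat.card K' =
      ∑ x : G, ∑ h : G, if (n⁻¹ * (x⁻¹ * g * x) ∈ K ∧ h ∈ K ∧
        n⁻¹ * (h⁻¹ * (x⁻¹ * g * x) * h) ∈ K') then 1 else 0 := by
    rw [← smul_eq_mul, ← Finset.sum_const, Finset.sum_filter]
    apply Finset.sum_congr rfl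
    intro x _
    split_ifs with hx
    · rw [← conjCnt_eq K K' hK' n hn hF (x⁻¹ * g * x) hx]
      unfold conjCnt
      rw [Finset.card_filter]
      apply Finset.sum_congr rfl
      intro h _
      simp [hx]
    · symm
      apply Finset.sum_eq_zero
      intro h _
      rw [if_neg]
      intro h'
      exact hx h'.1
  rw [hL, Finset.sum_comm]
  have h2 : ∀ h : G, (∑ x : G, if (n⁻¹ * (x⁻¹ * g * x) ∈ K ∧ h ∈ K ∧
        n⁻¹ * (h⁻¹ * (x⁻¹ * g * x) * h) ∈ K') then 1 else 0) =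
      if h ∈ K then (univ.filter (fun x : G => n⁻¹ * (x⁻¹ * g * x) ∈ K')).card else 0 := by
    intro h
    rw [← Equiv.sum_comp (Equiv.mulRight h⁻¹)]
    split_ifs with hh
    · rw [Finset.card_filter]
      apply Finset.sum_congr rfl
      intro x _
      have e : h⁻¹ * ((x * h⁻¹)⁻¹ * g * (x * h⁻¹)) * h = x⁻¹ * g * x := by group
      by_cases hz : n⁻¹ * (x⁻¹ * g * x) ∈ K'
      · rw [if_pos hz]
        apply if_pos
        refine ⟨?_, hh, ?_⟩
        · show n⁻¹ * ((x * h⁻¹)⁻¹ * g * (x * h⁻¹)) ∈ K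
          have : n⁻¹ * ((x * h⁻¹)⁻¹ * g * (x * h⁻¹)) =
              (n⁻¹ * h * n) * (n⁻¹ * (x⁻¹ * g * x)) * h⁻¹ := by group
          rw [this]
          exact K.mul_mem (K.mul_mem (hn h hh) (hK' hz)) (K.inv_mem hh)
        · show n⁻¹ * (h⁻¹ * ((x * h⁻¹)⁻¹ * g * (x * h⁻¹)) * h) ∈ K'
          rw [e]; exact hz
      · rw [if_neg hz]
        apply if_neg
        intro h'
        apply hz
        have : n⁻¹ * (h⁻¹ * ((x * h⁻¹)⁻¹ * g * (x * h⁻¹)) * h) ∈ K' := h'.2.2
        rwa [e] at this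
    · apply Finset.sum_eq_zero
      intro z _
      rw [if_neg]
      intro h'
      exact hh h'.2.1
  rw [Finset.sum_congr rfl (fun h _ => h2 h), ← Finset.sum_filter, Finset.sum_const,
    card_filter_mem_subgroup', smul_eq_mul, mul_comm]

end ConjCount

end Cfsg.Agent.Lib.H8
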