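import Mathlib
import Cfsg.Agent.Lib.H8.Dade
import Cfsg.Agent.Lib.H8.DadeK1
import Cfsg.Agent.Lib.H8.ClassFun

set_option autoImplicit false

/-! # The subgroups `H_B`, `N_B`, `M_B` of the Dade expansion -/

namespace Cfsg.Agent.Lib.H8

open Finset

section DadeSubgroups

open Classical

variable {G : Type*} [Group G] {A : Set G} {L : Subgroup G} {H : G → Subgroup G}

/-- The intersection of the `H b`, `b ∈ B`. -/
def dadeHB (H : G → Subgroup G) (B : Finset G) : Subgroup G := ⨅ b ∈ B, H b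

theorem mem_dadeHB {B : Finset G} {h : G} : h ∈ dadeHB H B ↔ ∀ b ∈ B, h ∈ H b := by
  unfold dadeHB
  simp [Subgroup.mem_iInf]

theorem dadeHB_insert (n : G) (B : Finset G) :
    dadeHB H (insert n B) = H n ⊓ dadeHB H B := by
  ext h
  simp [mem_dadeHB, Subgroup.mem_inf]

theorem dadeHB_singleton (n : G) : dadeHB H {n} = H n := by
  ext h
  simp [mem_dadeHB]

/-- The normaliser of `B` in `L`. -/
def dadeNB (L : Subgroup G) (B : Finset G) : Subgroup G where
  carrier := {l | l ∈ L ∧ ∀ b, l * b * l⁻¹ ∈ B ↔ b ∈ B}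
  one_mem' := ⟨L.one_mem, fun b => by simp⟩
  mul_mem' := by
    rintro x y ⟨hx, hx'⟩ ⟨hy, hy'⟩
    refine ⟨L.mul_mem hx hy, fun b => ?_⟩
    rw [← hy' b, ← hx' (y * b * y⁻¹)]
    have : x * y * b * (x * y)⁻¹ = x * (y * b * y⁻¹) * x⁻¹ := by group
    rw [this]
  inv_mem' := by
    rintro x ⟨hx, hx'⟩
    refine ⟨L.inv_mem hx, fun b => ?_⟩
    rw [← hx' (x⁻¹ * b * x⁻¹⁻¹)]
    have : x * (x⁻¹ * b * x⁻¹⁻¹) * x⁻¹ = b := by group
    rw [this]

theorem mem_dadeNB {B : Finset G} {l : G} :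
    l ∈ dadeNB L B ↔ l ∈ L ∧ ∀ b, l * b * l⁻¹ ∈ B ↔ b ∈ B := Iff.rfl

theorem dadeNB_le (B : Finset G) : dadeNB L B ≤ L := fun _ h => h.1

theorem mem_dadeNB_singleton {n : G} (hn : n ∈ L) : n ∈ dadeNB L {n} := by
  refine ⟨hn, fun b => ?_⟩
  simp only [Finset.mem_singleton]
  constructor
  · intro h
    have : b = n⁻¹ * (n * b * n⁻¹) * n := by group
    rw [this, h]; group
  · intro h; rw [h]; group

theorem mem_dadeNB_insert_iff {n : G} {B : Finset G} (hnB : n ∉ B) :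
    n ∈ dadeNB L (insert n B) ↔ n ∈ dadeNB L B := by
  have hconj : ∀ b : G, n * b * n⁻¹ = n ↔ b = n := by
    intro b
    constructor
    · intro h
      have : b = n⁻¹ * (n * b * n⁻¹) * n := by group
      rw [this, h]; group
    · intro h; rw [h]; group
  constructor
  · rintro ⟨hL, h⟩
    refine ⟨hL, fun b => ?_⟩
    have hb := h b
    simp only [Finset.mem_insert, hconj] at hb
    by_cases hbn : b = n
    · subst hbn
      have : b * b * b⁻¹ = b := by group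
      rw [this]
    · simpa [hbn] using hb
  · rintro ⟨hL, h⟩
    refine ⟨hL, fun b => ?_⟩
    simp only [Finset.mem_insert, hconj, h b]

variable [Finite G]

theorem dadeNB_normalizes (hD : Cfsg.DadeHypothesis A L H) {B : Finset G}
    (hBA : (B : Set G) ⊆ A) {n h : G} (hn : n ∈ dadeNB L B) (hh : h ∈ dadeHB H B) :
    n * h * n⁻¹ ∈ dadeHB H B := by
  rw [mem_dadeHB] at hh ⊢
  intro b hb
  have hb' : n⁻¹ * b * n ∈ B := by
    rw [← hn.2 (n⁻¹ * b * n)]
    have : n * (n⁻¹ * b * n) * n⁻¹ = b := by group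
    rw [this]; exact hb
  have := dade_conj_mem_H hD (hBA hb') (hh _ hb') hn.1
  have e : n * (n⁻¹ * b * n) * n⁻¹ = b := by group
  rwa [e] at this

theorem dadeNB_normalizes' (hD : Cfsg.DadeHypothesis A L H) {B : Finset G}
    (hBA : (B : Set G) ⊆ A) {n h : G} (hn : n ∈ dadeNB L B) (hh : h ∈ dadeHB H B) :
    n⁻¹ * h * n ∈ dadeHB H B := by
  have := dadeNB_normalizes hD hBA ((dadeNB L B).inv_mem hn) hh
  rwa [inv_inv] at this

omit [Finite G] in
theorem dadeHB_inf_L (hD : Cfsg.DadeHypothesis A L H) {B : Finset G} (hB : B.Nonempty)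
    (hBA : (B : Set G) ⊆ A) {h : G} (hh : h ∈ dadeHB H B) (hL : h ∈ L) : h = 1 := by
  obtain ⟨b, hb⟩ := hB
  exact dade_eq_one_of_mem hD (hBA hb) (mem_dadeHB.mp hh b hb) hL

omit [Finite G] in
theorem dade_retr_unique (hD : Cfsg.DadeHypothesis A L H) {B : Finset G} (hB : B.Nonempty)
    (hBA : (B : Set G) ⊆ A) {n n' y : G} (hn : n ∈ dadeNB L B) (hn' : n' ∈ dadeNB L B)
    (h : n⁻¹ * y ∈ dadeHB H B) (h' : n'⁻¹ * y ∈ dadeHB H B) : n = n' := by
  have h1 : n⁻¹ * n' ∈ dadeHB H B := by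
    have : n⁻¹ * n' = (n⁻¹ * y) * (n'⁻¹ * y)⁻¹ := by group
    rw [this]
    exact (dadeHB H B).mul_mem h ((dadeHB H B).inv_mem h')
  have h2 : n⁻¹ * n' ∈ L := L.mul_mem (L.inv_mem hn.1) hn'.1
  have := dadeHB_inf_L hD hB hBA h1 h2
  exact (inv_mul_eq_one.mp this)

/-- The subgroup `M_B = H_B N_B`. -/
def dadeMB (L : Subgroup G) (H : G → Subgroup G) (B : Finset G) : Subgroup G :=
  dadeHB H B ⊔ dadeNB L B

theorem mem_dadeMB_iff (hD : Cfsg.DadeHypothesis A L H) {B : Finset G}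
    (hBA : (B : Set G) ⊆ A) {y : G} :
    y ∈ dadeMB L H B ↔ ∃ n ∈ dadeNB L B, n⁻¹ * y ∈ dadeHB H B := by
  constructor
  · intro hy
    let T : Subgroup G :=
      { carrier := {y | ∃ n ∈ dadeNB L B, n⁻¹ * y ∈ dadeHB H B}
        one_mem' := ⟨1, (dadeNB L B).one_mem, by simp [(dadeHB H B).one_mem]⟩
        mul_mem' := by
          rintro a b ⟨na, hna, ha'⟩ ⟨nb, hnb, hb'⟩
          refine ⟨na * nb, (dadeNB L B).mul_mem hna hnb, ?_⟩
          have : (na * nb)⁻¹ * (a * b) = (nb⁻¹ * (na⁻¹ * a) * nb) * (nb⁻¹ * b) := by group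
          rw [this]
          exact (dadeHB H B).mul_mem (dadeNB_normalizes' hD hBA hnb ha') hb'
        inv_mem' := by
          rintro a ⟨na, hna, ha'⟩
          refine ⟨na⁻¹, (dadeNB L B).inv_mem hna, ?_⟩
          have : na⁻¹⁻¹ * a⁻¹ = na * (na⁻¹ * a)⁻¹ * na⁻¹ := by group
          rw [this]
          exact dadeNB_normalizes hD hBA hna ((dadeHB H B).inv_mem ha') }
    have hle : dadeHB H B ⊔ dadeNB L B ≤ T := by
      apply sup_le
      · intro h hh
        exact ⟨1, (dadeNB L B).one_mem, by simpa using hh⟩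
      · intro n hn
        exact ⟨n, hn, by simp [(dadeHB H B).one_mem]⟩
    exact hle hy
  · rintro ⟨n, hn, h⟩
    have : y = n * (n⁻¹ * y) := by group
    rw [this]
    exact (dadeMB L H B).mul_mem (Subgroup.mem_sup_right hn) (Subgroup.mem_sup_left h)

/-- The retraction `M_B → N_B`, as a function on `G`. -/
noncomputable def dadeRetrFun (L : Subgroup G) (H : G → Subgroup G) (B : Finset G) (y : G) : G :=
  if h : ∃ n ∈ dadeNB L B, n⁻¹ * y ∈ dadeHB H B then Classical.choose h else 1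

omit [Finite G] in
theorem dadeRetrFun_eq (hD : Cfsg.DadeHypothesis A L H) {B : Finset G} (hB : B.Nonempty)
    (hBA : (B : Set G) ⊆ A) {n y : G} (hn : n ∈ dadeNB L B) (h : n⁻¹ * y ∈ dadeHB H B) :
    dadeRetrFun L H B y = n := by
  have hex : ∃ n ∈ dadeNB L B, n⁻¹ * y ∈ dadeHB H B := ⟨n, hn, h⟩
  unfold dadeRetrFun
  rw [dif_pos hex]
  have hs := Classical.choose_spec hex
  exact dade_retr_unique hD hB hBA hs.1 hn hs.2 h

theorem dadeRetrFun_mem (hD : Cfsg.DadeHypothesis A L H) {B : Finset G} (hB : B.Nonempty)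
    (hBA : (B : Set G) ⊆ A) (m : dadeMB L H B) : dadeRetrFun L H B (m : G) ∈ L := by
  obtain ⟨n, hn, h⟩ := (mem_dadeMB_iff hD hBA).mp m.2
  rw [dadeRetrFun_eq hD hB hBA hn h]
  exact hn.1

/-- The retraction `M_B → L` as a homomorphism. -/
noncomputable def dadeRetr (hD : Cfsg.DadeHypothesis A L H) {B : Finset G} (hB : B.Nonempty)
    (hBA : (B : Set G) ⊆ A) : dadeMB L H B →* L :=
  MonoidHom.mk' (fun m => ⟨dadeRetrFun L H B (m : G), dadeRetrFun_mem hD hB hBA m⟩) (by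
    intro a b
    obtain ⟨na, hna, ha'⟩ := (mem_dadeMB_iff hD hBA).mp a.2
    obtain ⟨nb, hnb, hb'⟩ := (mem_dadeMB_iff hD hBA).mp b.2
    apply Subtype.ext
    show dadeRetrFun L H B ((a : G) * (b : G)) =
      dadeRetrFun L H B (a : G) * dadeRetrFun L H B (b : G)
    rw [dadeRetrFun_eq hD hB hBA hna ha', dadeRetrFun_eq hD hB hBA hnb hb']
    apply dadeRetrFun_eq hD hB hBA ((dadeNB L B).mul_mem hna hnb)
    have : (na * nb)⁻¹ * ((a : G) * (b : G)) =
        (nb⁻¹ * (na⁻¹ * (a : G)) * nb) * (nb⁻¹ * (b : G)) := by group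
    rw [this]
    exact (dadeHB H B).mul_mem (dadeNB_normalizes' hD hBA hnb ha') hb')

theorem dadeRetr_apply (hD : Cfsg.DadeHypothesis A L H) {B : Finset G} (hB : B.Nonempty)
    (hBA : (B : Set G) ⊆ A) (m : dadeMB L H B) :
    ((dadeRetr hD hB hBA m : L) : G) = dadeRetrFun L H B (m : G) := rfl

theorem card_dadeMB (hD : Cfsg.DadeHypothesis A L H) {B : Finset G} (hB : B.Nonempty)
    (hBA : (B : Set G) ⊆ A) :
    Nat.card (dadeMB L H B) = Nat.card (dadeHB H B) * Nat.card (dadeNB L B) := by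
  rw [mul_comm, ← Nat.card_prod]
  symm
  refine Nat.card_congr (Equiv.ofBijective
    (fun p : dadeNB L B × dadeHB H B => (⟨(p.1 : G) * (p.2 : G),
      (mem_dadeMB_iff hD hBA).mpr ⟨p.1, p.1.2, by simp⟩⟩ : dadeMB L H B)) ⟨?_, ?_⟩)
  · rintro ⟨n, h⟩ ⟨n', h'⟩ heq
    have heq' : (n : G) * (h : G) = (n' : G) * (h' : G) := congrArg Subtype.val heq
    have hnn : (n : G) = n' := by
      apply dade_retr_unique hD hB hBA n.2 n'.2 (y := (n : G) * h)
      · simp
      · rw [heq']; simp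
    have hn : n = n' := Subtype.ext hnn
    subst hn
    have : (h : G) = h' := mul_left_cancel heq'
    rw [Subtype.ext this]
  · rintro ⟨y, hy⟩
    obtain ⟨n, hn, h⟩ := (mem_dadeMB_iff hD hBA).mp hy
    refine ⟨(⟨n, hn⟩, ⟨n⁻¹ * y, h⟩), ?_⟩
    apply Subtype.ext
    simp

end DadeSubgroups

end Cfsg.Agent.Lib.H8
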