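import Mathlib
import Cfsg.Agent.Lib.H8.DadeSub
import Cfsg.Agent.Lib.H8.GenChar
import Cfsg.Agent.Lib.L0.CharIndChar

set_option autoImplicit false

/-! # The induced generalized characters of the Dade expansion -/

namespace Cfsg.Agent.Lib.H8

open Finset

section DadeInd

open Classical

variable {G : Type*} [Group G] [Fintype G] {A : Set G} {L : Subgroup G} {H : G → Subgroup G}

theorem isGeneralizedCharacter_indFun' (K : Subgroup G) {θ : K → ℂ}
    (hθ : Cfsg.IsGeneralizedCharacter K θ) : Cfsg.IsGeneralizedCharacter G (Cfsg.indFun K θ) := by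
  obtain ⟨a, b, ha, hb, rfl⟩ := hθ
  refine ⟨Cfsg.indFun K a, Cfsg.indFun K b, Cfsg.Agent.Lib.L0.isCharacter_indFun K ha,
    Cfsg.Agent.Lib.L0.isCharacter_indFun K hb, ?_⟩
  have h1 : a - b = a + (-1 : ℂ) • b := by
    funext x; simp [sub_eq_add_neg]
  rw [h1, Cfsg.Agent.Lib.L0.indFun_add, Cfsg.Agent.Lib.L0.indFun_smul]
  funext x; simp [sub_eq_add_neg]

/-- The inflation `α_B` of `α` restricted to `N_B`, as a function on `M_B`. -/
noncomputable def dadeAlphaB (hD : Cfsg.DadeHypothesis A L H) {B : Finset G} (hB : B.Nonempty)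
    (hBA : (B : Set G) ⊆ A) (α : L → ℂ) : dadeMB L H B → ℂ :=
  fun m => α (dadeRetr hD hB hBA m)

theorem isGeneralizedCharacter_dadeAlphaB (hD : Cfsg.DadeHypothesis A L H) {B : Finset G}
    (hB : B.Nonempty) (hBA : (B : Set G) ⊆ A) {α : L → ℂ}
    (hα : Cfsg.IsGeneralizedCharacter L α) :
    Cfsg.IsGeneralizedCharacter (dadeMB L H B) (dadeAlphaB hD hB hBA α) := by
  obtain ⟨χ, ψ, hχ, hψ, rfl⟩ := hα
  refine ⟨χ ∘ dadeRetr hD hB hBA, ψ ∘ dadeRetr hD hB hBA,
    Cfsg.Agent.Lib.L0.isCharacter_comp _ hχ, Cfsg.Agent.Lib.L0.isCharacter_comp _ hψ, ?_⟩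
  funext m
  rfl

theorem extendByZero_dadeAlphaB (hD : Cfsg.DadeHypothesis A L H) {B : Finset G}
    (hB : B.Nonempty) (hBA : (B : Set G) ⊆ A) (α : L → ℂ) (y : G) :
    Cfsg.extendByZero (dadeMB L H B) (dadeAlphaB hD hB hBA α) y =
      ∑ n ∈ univ.filter (· ∈ dadeNB L B),
        if n⁻¹ * y ∈ dadeHB H B then Cfsg.extendByZero L α n else 0 := by
  by_cases hy : y ∈ dadeMB L H B
  · obtain ⟨n₀, hn₀, h₀⟩ := (mem_dadeMB_iff hD hBA).mp hy
    rw [extendByZero_of_mem _ _ hy, Finset.sum_eq_single n₀]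
    · rw [if_pos h₀, extendByZero_of_mem _ _ hn₀.1]
      unfold dadeAlphaB
      congr 1
      apply Subtype.ext
      rw [dadeRetr_apply]
      exact dadeRetrFun_eq hD hB hBA hn₀ h₀
    · intro n hn hne
      rw [if_neg]
      intro h
      exact hne (dade_retr_unique hD hB hBA (Finset.mem_filter.mp hn).2 hn₀ h h₀)
    · intro h
      exact absurd (Finset.mem_filter.mpr ⟨Finset.mem_univ _, hn₀⟩) h
  · rw [extendByZero_of_not_mem _ _ hy]
    symm
    apply Finset.sum_eq_zero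
    intro n hn
    rw [if_neg]
    intro h
    exact hy ((mem_dadeMB_iff hD hBA).mpr ⟨n, (Finset.mem_filter.mp hn).2, h⟩)

/-- The number of `x` with `x⁻¹ g x ∈ n H_B`. -/
noncomputable def dadeCnt (H : G → Subgroup G) (B : Finset G) (n g : G) : ℕ :=
  (univ.filter (fun x : G => n⁻¹ * (x⁻¹ * g * x) ∈ dadeHB H B)).card

theorem indFun_dadeAlphaB (hD : Cfsg.DadeHypothesis A L H) {B : Finset G}
    (hB : B.Nonempty) (hBA : (B : Set G) ⊆ A) (α : L → ℂ) (g : G) :
    Cfsg.indFun (dadeMB L H B) (dadeAlphaB hD hB hBA α) g =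
      ((Nat.card (dadeHB H B) : ℂ) * (Nat.card (dadeNB L B) : ℂ))⁻¹ *
        ∑ n ∈ univ.filter (· ∈ dadeNB L B),
          Cfsg.extendByZero L α n * (dadeCnt H B n g : ℂ) := by
  rw [indFun_apply, card_dadeMB hD hB hBA, Nat.cast_mul]
  congr 1
  simp_rw [extendByZero_dadeAlphaB hD hB hBA α]
  rw [Finset.sum_comm]
  apply Finset.sum_congr rfl
  intro n _
  rw [← Finset.sum_filter, Finset.sum_const, nsmul_eq_mul, mul_comm]
  rfl

end DadeInd

end Cfsg.Agent.Lib.H8
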