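import Mathlib
import Cfsg.Agent.Lib.H8.ClassFun
import Cfsg.Agent.Lib.H8.Coherence
import Cfsg.Agent.Lib.H8.GenChar
import Cfsg.Agent.Lib.H8.DadeInd
import Cfsg.Agent.Lib.L0.CharInd
import Cfsg.Agent.Lib.L0.CharInner

/-!
# Induction from the normaliser of a TI set is an isometry (helper8's library)

`N ≤ G`, `A ⊆ G` a set such that `g a g⁻¹ ∈ A` with `a ∈ A` forces `g ∈ N`.  For class functions
`α, β` of `N` vanishing off `A`: `Ind β = β` on `A`, `⟨Ind α, Ind β⟩ = ⟨α, β⟩`.
-/

set_option autoImplicit false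

namespace Cfsg.Agent.Lib.H8

open Cfsg Cfsg.Agent.Lib.L0
open scoped ComplexConjugate

section
variable {G : Type*} [Group G] [Fintype G]

/-- `Ind β = β` on the TI set `A` -/
theorem indFun_apply_of_tiSet (N : Subgroup G) (A : Set G)
    (hTI : ∀ g : G, ∀ a ∈ A, g * a * g⁻¹ ∈ A → g ∈ N) (β : ↥N → ℂ) (hβ : IsClassFunction ↥N β)
    (hβA : ∀ x : ↥N, (x : G) ∉ A → β x = 0) (a : ↥N) (ha : (a : G) ∈ A) :
    indFun N β (a : G) = β a := by
  classical
  haveI := Fintype.ofFinite ↥N
  rw [indFun_apply]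
  have hterm : ∀ x : G, extendByZero N β (x⁻¹ * (a : G) * x) = if x ∈ N then β a else 0 := by
    intro x
    by_cases hx : x ∈ N
    · rw [if_pos hx]
      have hmem : x⁻¹ * (a : G) * x ∈ N := N.mul_mem (N.mul_mem (N.inv_mem hx) a.2) hx
      rw [extendByZero_apply_of_mem N β hmem]
      have h1 := hβ a (⟨x, hx⟩⁻¹ : ↥N)
      have h2 : (⟨x, hx⟩⁻¹ : ↥N) * a * (⟨x, hx⟩⁻¹ : ↥N)⁻¹ = ⟨x⁻¹ * (a : G) * x, hmem⟩ := by
        apply Subtype.ext
        simp
      rw [h2] at h1
      exact h1
    · rw [if_neg hx]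
      by_cases hmem : x⁻¹ * (a : G) * x ∈ N
      · rw [extendByZero_apply_of_mem N β hmem]
        apply hβA
        intro hA
        apply hx
        have := hTI x⁻¹ (a : G) ha (by rw [inv_inv]; exact hA)
        have h3 := N.inv_mem this
        rwa [inv_inv] at h3
      · exact extendByZero_apply_not_mem N β hmem
  rw [Finset.sum_congr rfl fun x _ => hterm x, Finset.sum_ite, Finset.sum_const_zero, add_zero,
    Finset.sum_const, nsmul_eq_mul]
  have hcard : (Finset.univ.filter (fun x : G => x ∈ N)).card = Nat.card N := by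
    rw [Nat.card_eq_fintype_card, Fintype.card_subtype]
  rw [hcard]
  have hN : (Nat.card N : ℂ) ≠ 0 := by exact_mod_cast (Nat.card_pos (α := ↥N)).ne'
  field_simp

/-- induction from `N` is an isometry on class functions vanishing off the TI set `A` -/
theorem classInner_indFun_of_tiSet (N : Subgroup G) [Fintype ↥N] (A : Set G)
    (hTI : ∀ g : G, ∀ a ∈ A, g * a * g⁻¹ ∈ A → g ∈ N) (α β : ↥N → ℂ)
    (hβ : IsClassFunction ↥N β) (hαA : ∀ x : ↥N, (x : G) ∉ A → α x = 0)
    (hβA : ∀ x : ↥N, (x : G) ∉ A → β x = 0) :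
    classInner (indFun N α) (indFun N β) = classInner α β := by
  rw [frobenius_reciprocity N α (indFun N β) (isClassFunction_indFun N β)]
  rw [classInner_def, classInner_def]
  congr 1
  refine Finset.sum_congr rfl fun x _ => ?_
  by_cases hx : (x : G) ∈ A
  · rw [indFun_apply_of_tiSet N A hTI β hβ hβA x hx]
  · rw [hαA x hx, zero_mul, zero_mul]

/-- the value at `1` of an induced function -/
theorem indFun_apply_one_of_zero (N : Subgroup G) (β : ↥N → ℂ) (h1 : β 1 = 0) :
    indFun N β 1 = 0 := by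
  classical
  rw [indFun_apply]
  have : ∀ x : G, extendByZero N β (x⁻¹ * 1 * x) = 0 := by
    intro x
    have h : x⁻¹ * 1 * x = 1 := by group
    rw [h, extendByZero_apply_of_mem N β N.one_mem]
    exact h1
  rw [Finset.sum_congr rfl fun x _ => this x, Finset.sum_const_zero, mul_zero]

end

section
variable {G : Type*} [Group G] [Fintype G]

/-- Induction from `N` is a linear isometry on `ℤ[S, N^#]` when the members of `S` are characters
of `N` vanishing off a subset `B` of `N` with `B ∖ {1}` a TI set with normaliser inside `N`. -/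
theorem isLinearIsometryOn_indFun_of_tiSet (N : Subgroup G) [Fintype ↥N] (A : Set G)
    (hTI : ∀ g : G, ∀ a ∈ A, g * a * g⁻¹ ∈ A → g ∈ N) (S : Set (↥N → ℂ))
    (hSchar : ∀ χ ∈ S, IsCharacter ↥N χ)
    (hSA : ∀ χ ∈ S, ∀ x : ↥N, x ≠ 1 → (x : G) ∉ A → χ x = 0) :
    IsLinearIsometryOn (zspanOn S ({1}ᶜ : Set ↥N)) (fun α => indFun N α) ∧
      ∀ α ∈ zspanOn S ({1}ᶜ : Set ↥N), indFun N α 1 = 0 := by
  classical
  -- properties of members of the span
  have hspan : ∀ α ∈ zspan S, IsGeneralizedCharacter ↥N α ∧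
      ∀ x : ↥N, x ≠ 1 → (x : G) ∉ A → α x = 0 := by
    intro α hα
    induction hα using Submodule.span_induction with
    | mem χ hχ => exact ⟨isGeneralizedCharacter_of_isCharacter (hSchar χ hχ), hSA χ hχ⟩
    | zero => exact ⟨isGeneralizedCharacter_zero, fun _ _ _ => rfl⟩
    | add a b _ _ iha ihb =>
      refine ⟨isGeneralizedCharacter_add iha.1 ihb.1, fun x hx hxA => ?_⟩
      rw [Pi.add_apply, iha.2 x hx hxA, ihb.2 x hx hxA, add_zero]
    | smul n a _ iha =>
      refine ⟨isGeneralizedCharacter_zsmul iha.1 n, fun x hx hxA => ?_⟩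
      rw [Pi.smul_apply, iha.2 x hx hxA, smul_zero]
  have hon : ∀ α ∈ zspanOn S ({1}ᶜ : Set ↥N), IsGeneralizedCharacter ↥N α ∧
      ∀ x : ↥N, (x : G) ∉ A → α x = 0 := by
    intro α hα
    obtain ⟨h1, h2⟩ := hα
    obtain ⟨h3, h4⟩ := hspan α h1
    refine ⟨h3, fun x hxA => ?_⟩
    by_cases hx : x = 1
    · apply h2
      rw [hx]
      simp
    · exact h4 x hx hxA
  refine ⟨⟨?_, ?_, ?_, ?_⟩, ?_⟩
  · intro α _ β _
    exact indFun_add N α β
  · intro α _ n
    show indFun N (n • α) = n • indFun N α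
    have h1 : n • α = (n : ℂ) • α := by
      funext x; simp
    have h2 : n • indFun N α = (n : ℂ) • indFun N α := by
      funext x; simp
    rw [h1, h2, indFun_smul]
  · intro α hα β hβ
    exact classInner_indFun_of_tiSet N A hTI α β
      (isClassFunction_of_isGeneralizedCharacter (hon β hβ).1) (hon α hα).2 (hon β hβ).2
  · intro α hα
    exact isGeneralizedCharacter_indFun' N (hon α hα).1
  · intro α hα
    apply indFun_apply_one_of_zero
    apply hα.2
    simp

end

end Cfsg.Agent.Lib.H8
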