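/-
S2545 (architect helper8): ABSTRACT lemmas on (B,N)-pairs and root subgroups.

* `bn_axiom_of_root`: the double coset axiom `s B n ⊆ B s n B ∪ B n B` from a "root subgroup" `X ≤ B` of `s` with
  `B = (B ∩ s⁻¹ B s) X`, the rank one relation `s x ∈ B Y` (`x ≠ 1`) and the dichotomy `n⁻¹ X n ≤ B` or `n⁻¹ Y n ≤ B`.
* `len_smul_of_root`: in a (B,N)-pair, `n⁻¹ X n ≤ B` forces `ℓ(s n) = ℓ(n) + 1`.
-/
import Cfsg.Agent.Lib.H2.BN3

set_option autoImplicit false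
set_option linter.unusedSectionVars false
set_option linter.unusedVariables false

namespace Cfsg.Agent.Lib.H8.SpBN

open Cfsg DoubleCoset Cfsg.Agent.Lib.H2.BN

section abs

variable {G : Type*} [Group G]

/-- `s B n ⊆ B s n (n⁻¹ X n)` -/
theorem smul_mem_of_root (B : Subgroup G) (s n : G) (X : Set G)
    (ha : ∀ b ∈ B, ∃ b' ∈ B, ∃ x ∈ X, b = b' * x ∧ s * b' * s⁻¹ ∈ B)
    (b : G) (hb : b ∈ B) : ∃ b₁ ∈ B, ∃ x ∈ X, s * b * n = b₁ * (s * x * n) := by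
  obtain ⟨b', hb', x, hx, rfl, hs⟩ := ha b hb
  refine ⟨s * b' * s⁻¹, hs, x, hx, ?_⟩
  group

/-- **the double coset axiom of a (B,N)-pair from root subgroup data** -/
theorem bn_axiom_of_root (B : Subgroup G) (s n : G) (X Y : Set G)
    (ha : ∀ b ∈ B, ∃ b' ∈ B, ∃ x ∈ X, b = b' * x ∧ s * b' * s⁻¹ ∈ B)
    (hb : ∀ x ∈ X, x = 1 ∨ ∃ b ∈ B, ∃ y ∈ Y, s * x = b * y)
    (hc : (∀ x ∈ X, n⁻¹ * x * n ∈ B) ∨ (∀ y ∈ Y, n⁻¹ * y * n ∈ B))
    (b : G) (hbB : b ∈ B) :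
    s * b * n ∈ doubleCoset (s * n) (B : Set G) B ∪ doubleCoset n (B : Set G) B := by
  obtain ⟨b₁, hb₁, x, hx, h1⟩ := smul_mem_of_root B s n X ha b hbB
  rw [h1]
  rcases hc with hc | hc
  · left
    rw [mem_doubleCoset]
    refine ⟨b₁, hb₁, n⁻¹ * x * n, hc x hx, ?_⟩
    group
  · rcases hb x hx with rfl | ⟨b₂, hb₂, y, hy, h2⟩
    · left
      rw [mem_doubleCoset]
      refine ⟨b₁, hb₁, 1, B.one_mem, ?_⟩
      group
    · right
      rw [mem_doubleCoset]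
      refine ⟨b₁ * b₂, B.mul_mem hb₁ hb₂, n⁻¹ * y * n, hc y hy, ?_⟩
      rw [h2]
      group

end abs

section len

variable {G : Type*} [Group G] {P : BNPair G}

/-- in a (B,N)-pair: if `s B n ⊆ B s n B` then `ℓ(s n) = ℓ(n) + 1` -/
theorem len_smul_of_subset {s n : G} (hs : s ∈ P.S) (hn : n ∈ P.N)
    (h : ∀ b ∈ P.B, s * b * n ∈ C P (s * n)) : len P (s * n) = len P n + 1 := by
  rcases len_smul_cases hs hn with h1 | h1
  · exact h1
  · exfalso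
    have hlt : len P (s * n) < len P n := by omega
    obtain ⟨b, hb, hb2⟩ := exists_smul_mem_C_of_len_lt hs hn hlt
    have h3 := h b hb
    have hsn : s * n ∈ P.N := P.N.mul_mem (S_mem_N hs) hn
    -- `n ∈ C (s b n) = C (s n)`
    have h4 : n ∈ C P (s * n) := mem_C_trans (mem_C_symm hb2) h3
    exact not_eqv_smul hs hn (eqv_of_mem_C hsn hn h4)

/-- in a (B,N)-pair: if the root subgroup `X` of `s` satisfies `n⁻¹ X n ≤ B` then `ℓ(s n) = ℓ(n) + 1` -/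
theorem len_smul_of_root {s n : G} (hs : s ∈ P.S) (hn : n ∈ P.N) (X : Set G)
    (ha : ∀ b ∈ P.B, ∃ b' ∈ P.B, ∃ x ∈ X, b = b' * x ∧ s * b' * s⁻¹ ∈ P.B)
    (hc : ∀ x ∈ X, n⁻¹ * x * n ∈ P.B) : len P (s * n) = len P n + 1 := by
  apply len_smul_of_subset hs hn
  intro b hb
  obtain ⟨b₁, hb₁, x, hx, h1⟩ := smul_mem_of_root P.B s n X ha b hb
  rw [h1, mem_C_iff]
  refine ⟨b₁, hb₁, n⁻¹ * x * n, hc x hx, ?_⟩
  group

end len

end Cfsg.Agent.Lib.H8.SpBN
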