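import Mathlib
import Cfsg.Prelude.Def_Characters
import Cfsg.Agent.Lib.L0.CharOps
import Cfsg.Agent.Lib.L0.CharInner
import Cfsg.Agent.Lib.L0.CharDecomp
import Cfsg.Agent.Lib.L0.CharBasic

/-!
# Constituents and kernels (helper8)

* `exists_add_of_constituent`: an irreducible constituent `φ` of a character `Ψ` splits off:
  `Ψ = φ + ξ` with `ξ` a character.
* `constituent_apply_eq_one`: if `Ψ b = Ψ 1` then `φ b = φ 1` for every irreducible constituent.
-/

set_option autoImplicit false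

namespace Cfsg.Agent.Lib.H8

open scoped ComplexConjugate
open Cfsg.Agent.Lib.L0

variable {G : Type*} [Group G] [Fintype G]

theorem exists_add_of_constituent {Ψ φ : G → ℂ} (hΨ : Cfsg.IsCharacter G Ψ)
    (hφ : Cfsg.IsIrrCharacter G φ) (h : Cfsg.classInner Ψ φ ≠ 0) :
    ∃ ξ : G → ℂ, Cfsg.IsCharacter G ξ ∧ Ψ = φ + ξ := by
  classical
  obtain ⟨l, hl, rfl⟩ := isCharacter_exists_irr_decomp hΨ
  rw [classInner_irr_list_sum hl hφ] at h
  have hmem : φ ∈ l := by
    by_contra hcon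
    rw [List.count_eq_zero_of_not_mem hcon] at h
    exact h (by simp)
  refine ⟨(l.erase φ).sum, isCharacter_list_sum fun χ hχ =>
    isCharacter_of_irr (hl χ (List.mem_of_mem_erase hχ)), ?_⟩
  exact (List.sum_erase hmem).symm

theorem constituent_apply_eq_one {Ψ φ : G → ℂ} (hΨ : Cfsg.IsCharacter G Ψ)
    (hφ : Cfsg.IsIrrCharacter G φ) (h : Cfsg.classInner Ψ φ ≠ 0) {b : G} (hb : Ψ b = Ψ 1) :
    φ b = φ 1 := by
  obtain ⟨ξ, hξ, rfl⟩ := exists_add_of_constituent hΨ hφ h
  have hφc := isCharacter_of_irr hφ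
  obtain ⟨n, hn⟩ := isCharacter_apply_one hφc
  obtain ⟨m, hm⟩ := isCharacter_apply_one hξ
  have h1 := isCharacter_norm_le hφc b
  have h2 := isCharacter_norm_le hξ b
  rw [hn] at h1
  rw [hm] at h2
  simp only [Complex.norm_natCast] at h1 h2
  simp only [Pi.add_apply] at hb
  rw [hn, hm] at hb
  rw [hn]
  have hre : (φ b).re + (ξ b).re = n + m := by
    have := congrArg Complex.re hb
    simpa using this
  have h3 := Complex.re_le_norm (φ b)
  have h4 := Complex.re_le_norm (ξ b)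
  have hre1 : (φ b).re = n := by linarith
  have hsq := Complex.sq_norm (φ b)
  rw [Complex.normSq_apply] at hsq
  have hn0 : (0 : ℝ) ≤ n := Nat.cast_nonneg n
  have hnorm0 : 0 ≤ ‖φ b‖ := norm_nonneg _
  have him : (φ b).im = 0 := by
    have : ‖φ b‖ ^ 2 ≤ (n : ℝ) ^ 2 := by
      apply pow_le_pow_left₀ hnorm0 h1
    rw [hsq, hre1] at this
    nlinarith [sq_nonneg (φ b).im]
  apply Complex.ext
  · rw [hre1]; simp
  · rw [him]; simp

end Cfsg.Agent.Lib.H8
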