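import Mathlib
import Cfsg.Prelude.Def_Characters
import Cfsg.Agent.Lib.L0.CharOps
import Cfsg.Agent.Lib.L0.CharInner
import Cfsg.Agent.Lib.L0.CharDecomp

set_option autoImplicit false

namespace Cfsg.Agent.Lib.H8

open scoped ComplexConjugate
open Cfsg.Agent.Lib.L0

variable {G : Type*} [Group G] [Fintype G]

/-- If a character `A` is orthogonal to a sum of irreducible characters, it is orthogonal to each
of them. -/
theorem classInner_eq_zero_of_list_sum {A : G → ℂ} (hA : Cfsg.IsCharacter G A) :
    ∀ l : List (G → ℂ), (∀ χ ∈ l, Cfsg.IsIrrCharacter G χ) →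
      (l.map fun χ => Cfsg.classInner A χ).sum = 0 → ∀ χ ∈ l, Cfsg.classInner A χ = 0 := by
  intro l
  induction l with
  | nil => intro _ _ χ hχ; simp at hχ
  | cons a l ih =>
    intro hl hsum χ hχ
    obtain ⟨n, hn⟩ := classInner_char_irr_nat hA (hl a (by simp))
    have hrest : ∃ m : ℕ, (l.map fun χ => Cfsg.classInner A χ).sum = m := by
      have := classInner_char_char_nat hA (isCharacter_list_sum (l := l)
        (fun χ hχ => isCharacter_of_irr (hl χ (by simp [hχ]))))
      rwa [classInner_list_sum_right] at this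
    obtain ⟨m, hm⟩ := hrest
    simp only [List.map_cons, List.sum_cons] at hsum
    rw [hn, hm] at hsum
    have hnm : n + m = 0 := by exact_mod_cast hsum
    have hn0 : n = 0 := by omega
    have hm0 : m = 0 := by omega
    rcases List.mem_cons.mp hχ with rfl | h
    · rw [hn, hn0]; simp
    · exact ih (fun χ hχ => hl χ (by simp [hχ])) (by rw [hm, hm0]; simp) χ h

/-- Orthogonal characters share no irreducible constituent. -/
theorem classInner_irr_eq_zero_of_orthogonal {A B θ : G → ℂ} (hA : Cfsg.IsCharacter G A)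
    (hB : Cfsg.IsCharacter G B) (hθ : Cfsg.IsIrrCharacter G θ) (h0 : Cfsg.classInner A B = 0)
    (hBθ : Cfsg.classInner B θ ≠ 0) : Cfsg.classInner A θ = 0 := by
  classical
  obtain ⟨l, hl, rfl⟩ := isCharacter_exists_irr_decomp hB
  have hmem : θ ∈ l := by
    rw [classInner_irr_list_sum hl hθ] at hBθ
    have : l.count θ ≠ 0 := by
      intro h; apply hBθ; rw [h]; simp
    exact List.count_pos_iff.mp (Nat.pos_of_ne_zero this)
  rw [classInner_list_sum_right] at h0
  exact classInner_eq_zero_of_list_sum hA l hl h0 θ hmem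

end Cfsg.Agent.Lib.H8
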