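import Mathlib

/-! S3571, block NT (helper8): the CUT of Sylvester–Schur (Erdős' proof).
`C(n,k)` has a prime factor `> k` whenever `n ≥ 2k ≥ 2`.  Definitions only + exact piece shapes. -/

set_option autoImplicit false

namespace Cfsg.Agent.Lib.H8.S3571SS

/-- Sylvester–Schur. -/
def SSStmt : Prop :=
  ∀ n k : ℕ, 1 ≤ k → 2 * k ≤ n → ∃ p : ℕ, p.Prime ∧ k < p ∧ p ∣ n.choose k

/-- All prime divisors of `C(n,k)` are `≤ k`. -/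
def Smooth (n k : ℕ) : Prop := ∀ p : ℕ, p.Prime → p ∣ n.choose k → p ≤ k

/-- (SS0) criterion: a prime `p > k` with `n % p < k` divides `C(n,k)`. -/
def SS0Stmt : Prop :=
  ∀ n k p : ℕ, p.Prime → k < p → k ≤ n → n % p < k → p ∣ n.choose k

/-- (SS1) `C(n,k) ≤ n^π(k)` if smooth. -/
def SS1Stmt : Prop :=
  ∀ n k : ℕ, k ≤ n → Smooth n k → n.choose k ≤ n ^ (Nat.primeCounting k)

/-- (SS2) `n^k ≤ k^k C(n,k)`. -/
def SS2Stmt : Prop :=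
  ∀ n k : ℕ, k ≤ n → n ^ k ≤ k ^ k * n.choose k

/-- (SS3) `(2n)^k ≤ 2k k^k C(n,k)` for `n ≥ 2k`. -/
def SS3Stmt : Prop :=
  ∀ n k : ℕ, 1 ≤ k → 2 * k ≤ n → (2 * n) ^ k ≤ 2 * k * k ^ k * n.choose k

/-- (SS4) three-level upper bound. -/
def SS4Stmt : Prop :=
  ∀ n k t : ℕ, 2 * k ≤ n → Smooth n k → n < (t + 1) ^ 3 →
    n.choose k ≤ 4 ^ (k + Nat.sqrt n) * n ^ t

/-- (SS5) three-level upper bound, primes in `(n/3, k]` excluded. -/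
def SS5Stmt : Prop :=
  ∀ n k t : ℕ, 6 ≤ n → 2 * k ≤ n → Smooth n k → n < (t + 1) ^ 3 →
    n.choose k ≤ 4 ^ (n / 3 + Nat.sqrt n) * n ^ t

/-- (SS6) `π(k) ≤ k/3` for `k ≥ 37`. -/
def SS6Stmt : Prop := ∀ k : ℕ, 37 ≤ k → 3 * Nat.primeCounting k ≤ k

/-- (SS7) the theorem for `k ≤ 36`. -/
def SS7Stmt : Prop :=
  ∀ n k : ℕ, 1 ≤ k → k ≤ 36 → 2 * k ≤ n → ∃ p : ℕ, p.Prime ∧ k < p ∧ p ∣ n.choose k

/-- (SS8) smooth and `k ≥ 37` force `n² ≤ k³`. -/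
def SS8Stmt : Prop :=
  ∀ n k : ℕ, 37 ≤ k → 2 * k ≤ n → Smooth n k → n ^ 2 ≤ k ^ 3

/-- (SS9) numeric inequality, range `5k/2 ≤ n ≤ k^{3/2}`, `k ≥ 2^18`. -/
def SS9Stmt : Prop :=
  ∀ n k s t : ℕ, 2 ^ 18 ≤ k → 5 * k ≤ 2 * n → n ^ 2 ≤ k ^ 3 → s ^ 2 ≤ n → t ^ 3 ≤ n →
    2 * k * k ^ k * (4 ^ (k + s) * n ^ t) < (2 * n) ^ k

/-- (SS10) numeric inequality, range `2k ≤ n < 5k/2`, `k ≥ 2^18`. -/
def SS10Stmt : Prop :=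
  ∀ n k s t : ℕ, 2 ^ 18 ≤ k → 2 * k ≤ n → 2 * n < 5 * k → s ^ 2 ≤ n → t ^ 3 ≤ n →
    2 * k * k ^ k * (4 ^ (n / 3 + s) * n ^ t) < (2 * n) ^ k

/-- Chain of primes with gaps `< n^{2/3}` on `[lo, hi)`. -/
def ChainStmt (lo hi : ℕ) : Prop :=
  ∀ n : ℕ, lo ≤ n → n < hi → ∃ q : ℕ, q.Prime ∧ q ≤ n ∧ (n - q) ^ 3 < n ^ 2

/-- (SS11) the chain up to `2^27`. -/
def SS11Stmt : Prop := ChainStmt 74 (2 ^ 27)

theorem chain_glue {a b c : ℕ} (h1 : ChainStmt a b) (h2 : ChainStmt b c) : ChainStmt a c := by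
  intro n hn hn'
  rcases lt_or_ge n b with h | h
  · exact h1 n hn h
  · exact h2 n h hn'

/-- One link of a chain: consecutive chain primes `q < q'` with `(q' - q - 1)³ < q²`. -/
theorem chain_link {q q' : ℕ} (hq : q.Prime) (hqq : q ≤ q') (hgap : (q' - q - 1) ^ 3 < q ^ 2) :
    ChainStmt q q' := by
  intro n hn hn'
  refine ⟨q, hq, hn, ?_⟩
  have h1 : n - q ≤ q' - q - 1 := by omega
  calc (n - q) ^ 3 ≤ (q' - q - 1) ^ 3 := Nat.pow_le_pow_left h1 3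
    _ < q ^ 2 := hgap
    _ ≤ n ^ 2 := Nat.pow_le_pow_left hn 2

end Cfsg.Agent.Lib.H8.S3571SS
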