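import Mathlib

set_option autoImplicit false

namespace Cfsg.Agent.Lib.H8

open Finset

/-- Frobenius-type counting lemma: a group `M ⋊ ⟨y⟩` with `y` fixed-point-free on `M` cannot act on
a commutative group `A` with all elements of `M` and `y` fixed-point-free, unless `A` has exponent
dividing `|M|`. -/
theorem pow_card_eq_one_of_fpf_aux {A : Type*} [CommGroup A] {Γ : Type*} [Group Γ]
    (ρ : Γ →* MulAut A) (M : Subgroup Γ) [Finite M] (hM1 : M ≠ ⊥) (y : Γ) (t : ℕ) (ht : 0 < t)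
    (hyt : y ^ t = 1) (hyM : ∀ m ∈ M, y * m * y⁻¹ ∈ M)
    (ha : ∀ m ∈ M, m ≠ 1 → ∀ a : A, ρ m a = a → a = 1)
    (hb : ∀ a : A, ρ y a = a → a = 1)
    (hc : ∀ i, 0 < i → i < t → ∀ m ∈ M, y ^ i * m = m * y ^ i → m = 1) :
    ∀ a : A, a ^ Nat.card M = 1 := by
  classical
  haveI : Fintype M := Fintype.ofFinite M
  intro a
  obtain ⟨m₁, hm₁, hm₁1⟩ : ∃ m₁ ∈ M, m₁ ≠ 1 := by
    rw [Ne, Subgroup.eq_bot_iff_forall] at hM1
    push Not at hM1
    exact hM1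
  have hρmul : ∀ (f g : Γ) (b : A), ρ (f * g) b = ρ f (ρ g b) := by
    intro f g b; rw [map_mul]; rfl
  -- Claim A
  have hA : ∏ m : M, ρ (m : Γ) a = 1 := by
    apply ha m₁ hm₁ hm₁1
    rw [map_prod]
    rw [← Equiv.prod_comp (Equiv.mulLeft (⟨m₁, hm₁⟩ : M)) (fun m : M => ρ (m : Γ) a)]
    apply Finset.prod_congr rfl
    intro m _
    simp only [Equiv.coe_mulLeft, Subgroup.coe_mul]
    rw [hρmul]
  -- Claim C
  have hC : ∏ m : M, ∏ i ∈ range t, ρ ((m : Γ) * y ^ i) a = 1 := by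
    apply ha m₁ hm₁ hm₁1
    rw [map_prod]
    rw [← Equiv.prod_comp (Equiv.mulLeft (⟨m₁, hm₁⟩ : M))
      (fun m : M => ∏ i ∈ range t, ρ ((m : Γ) * y ^ i) a)]
    apply Finset.prod_congr rfl
    intro m _
    rw [map_prod]
    apply Finset.prod_congr rfl
    intro i _
    simp only [Equiv.coe_mulLeft, Subgroup.coe_mul]
    rw [← hρmul, mul_assoc]
  -- Claim B
  have hB : ∀ m : M, ∏ i ∈ range t, ρ ((m : Γ) * y ^ i * (m : Γ)⁻¹) a = 1 := by
    intro m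
    obtain ⟨τ, hτ⟩ : ∃ τ, τ = ∏ i ∈ range t, ρ ((m : Γ) * y ^ i * (m : Γ)⁻¹) a := ⟨_, rfl⟩
    rw [← hτ]
    have h1 : ρ ((m : Γ) * y * (m : Γ)⁻¹) τ = τ := by
      rw [hτ, map_prod]
      have hstep : ∀ i, ρ ((m : Γ) * y * (m : Γ)⁻¹) (ρ ((m : Γ) * y ^ i * (m : Γ)⁻¹) a) =
          ρ ((m : Γ) * y ^ (i + 1) * (m : Γ)⁻¹) a := by
        intro i
        rw [← hρmul]
        congr 2
        rw [pow_succ']
        group
      simp_rw [hstep]
      have hg : ρ ((m : Γ) * y ^ t * (m : Γ)⁻¹) a = ρ ((m : Γ) * y ^ 0 * (m : Γ)⁻¹) a := by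
        rw [hyt, pow_zero]
      have e1 := Finset.prod_range_succ (fun i => ρ ((m : Γ) * y ^ i * (m : Γ)⁻¹) a) t
      have e2 := Finset.prod_range_succ' (fun i => ρ ((m : Γ) * y ^ i * (m : Γ)⁻¹) a) t
      rw [e1, hg] at e2
      exact (mul_right_cancel e2).symm
    have h2 : ρ y (ρ (m : Γ)⁻¹ τ) = ρ (m : Γ)⁻¹ τ := by
      have : ρ y (ρ (m : Γ)⁻¹ τ) = ρ (m : Γ)⁻¹ (ρ ((m : Γ) * y * (m : Γ)⁻¹) τ) := by
        rw [← hρmul, ← hρmul]
        congr 2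
        group
      rw [this, h1]
    have h3 := hb _ h2
    have h4 : τ = ρ (m : Γ) (ρ (m : Γ)⁻¹ τ) := by
      rw [← hρmul, mul_inv_cancel, map_one]; rfl
    rw [h4, h3, map_one]
  -- conjugation by powers of `y`
  have hyiM : ∀ i : ℕ, ∀ m ∈ M, y ^ i * m * (y ^ i)⁻¹ ∈ M := by
    intro i
    induction i with
    | zero => intro m hm; simpa using hm
    | succ i ih =>
      intro m hm
      have := hyM _ (ih m hm)
      have e : y ^ (i + 1) * m * (y ^ (i + 1))⁻¹ = y * (y ^ i * m * (y ^ i)⁻¹) * y⁻¹ := by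
        rw [pow_succ']; group
      rw [e]; exact this
  -- Claim D
  have hD : ∀ i, 0 < i → i < t → ∏ m : M, ρ ((m : Γ) * y ^ i * (m : Γ)⁻¹) a =
      ∏ m : M, ρ ((m : Γ) * y ^ i) a := by
    intro i hi0 hit
    obtain ⟨β, hβ⟩ : ∃ β : M → M, ∀ m : M, ((β m : M) : Γ) =
        (m : Γ) * (y ^ i * (m : Γ)⁻¹ * (y ^ i)⁻¹) :=
      ⟨fun m => ⟨(m : Γ) * (y ^ i * (m : Γ)⁻¹ * (y ^ i)⁻¹),
        M.mul_mem m.2 (hyiM i _ (M.inv_mem m.2))⟩, fun m => rfl⟩
    have hβinj : Function.Injective β := by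
      intro m m' h
      have h' : (m : Γ) * (y ^ i * (m : Γ)⁻¹ * (y ^ i)⁻¹) =
          (m' : Γ) * (y ^ i * (m' : Γ)⁻¹ * (y ^ i)⁻¹) := by
        rw [← hβ, ← hβ, h]
      have h'' : (m : Γ) * y ^ i * (m : Γ)⁻¹ = (m' : Γ) * y ^ i * (m' : Γ)⁻¹ := by
        have := congrArg (· * y ^ i) h'
        simpa [mul_assoc] using this
      have hcomm : y ^ i * ((m' : Γ)⁻¹ * m) = ((m' : Γ)⁻¹ * m) * y ^ i := by
        calc y ^ i * ((m' : Γ)⁻¹ * m)
            = (m' : Γ)⁻¹ * ((m' : Γ) * y ^ i * (m' : Γ)⁻¹) * m := by group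
          _ = (m' : Γ)⁻¹ * ((m : Γ) * y ^ i * (m : Γ)⁻¹) * m := by rw [h'']
          _ = ((m' : Γ)⁻¹ * m) * y ^ i := by group
      have := hc i hi0 hit _ (M.mul_mem (M.inv_mem m'.2) m.2) hcomm
      exact Subtype.ext (inv_mul_eq_one.mp this).symm
    have hβbij : Function.Bijective β := Finite.injective_iff_bijective.mp hβinj
    rw [← (Equiv.ofBijective β hβbij).prod_comp (fun m : M => ρ ((m : Γ) * y ^ i) a)]
    apply Finset.prod_congr rfl
    intro m _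
    simp only [Equiv.ofBijective_apply]
    rw [hβ]
    congr 2
    group
  -- assemble
  obtain ⟨t', rfl⟩ : ∃ t', t = t' + 1 := Nat.exists_eq_succ_of_ne_zero ht.ne'
  rw [Finset.prod_comm, Finset.prod_range_succ'] at hC
  have hB' : ∏ m : M, ∏ i ∈ range (t' + 1), ρ ((m : Γ) * y ^ i * (m : Γ)⁻¹) a = 1 :=
    Finset.prod_eq_one (fun m _ => hB m)
  rw [Finset.prod_comm, Finset.prod_range_succ'] at hB'
  have e1 : ∏ i ∈ range t', ∏ m : M, ρ ((m : Γ) * y ^ (i + 1) * (m : Γ)⁻¹) a =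
      ∏ i ∈ range t', ∏ m : M, ρ ((m : Γ) * y ^ (i + 1)) a :=
    Finset.prod_congr rfl (fun i hi => hD (i + 1) (Nat.succ_pos i)
      (by simpa using Finset.mem_range.mp hi))
  have e2 : ∏ m : M, ρ ((m : Γ) * y ^ 0 * (m : Γ)⁻¹) a = a ^ Nat.card M := by
    simp [Finset.prod_const, Nat.card_eq_fintype_card]
  have e3 : ∏ m : M, ρ ((m : Γ) * y ^ 0) a = 1 := by simpa using hA
  rw [e1, e2] at hB'
  rw [e3, mul_one] at hC
  rw [hC, one_mul] at hB'
  exact hB'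

open scoped IsMulCommutative in
/-- Concrete form of the Frobenius-type counting lemma, for an abelian normal subgroup `N`. -/
theorem pow_card_eq_one_of_fpf {G : Type*} [Group G] (N M : Subgroup G) [hN : N.Normal] [Finite M]
    (hNab : ∀ a ∈ N, ∀ b ∈ N, a * b = b * a) (hM1 : M ≠ ⊥) (y : G) (t : ℕ) (ht : 0 < t)
    (hyt : y ^ t = 1) (hyM : ∀ m ∈ M, y * m * y⁻¹ ∈ M)
    (ha : ∀ m ∈ M, m ≠ 1 → ∀ n ∈ N, m * n = n * m → n = 1)
    (hb : ∀ n ∈ N, y * n = n * y → n = 1)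
    (hc : ∀ i, 0 < i → i < t → ∀ m ∈ M, y ^ i * m = m * y ^ i → m = 1) :
    ∀ n ∈ N, n ^ Nat.card M = 1 := by
  haveI : IsMulCommutative N := ⟨⟨fun a b => Subtype.ext (hNab a a.2 b b.2)⟩⟩
  have hfix : ∀ (f : G) (a : N), (MulAut.conjNormal (H := N) f) a = a → f * (a : G) = (a : G) * f := by
    intro f a h
    have h' := congrArg Subtype.val h
    rw [MulAut.conjNormal_apply] at h'
    calc f * (a : G) = (f * a * f⁻¹) * f := by group
      _ = (a : G) * f := by rw [h']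
  intro n hn
  have := pow_card_eq_one_of_fpf_aux (A := N) (MulAut.conjNormal (H := N)) M hM1 y t ht hyt hyM
    (fun m hm hm1 a h => Subtype.ext (ha m hm hm1 a a.2 (hfix m a h)))
    (fun a h => Subtype.ext (hb a a.2 (hfix y a h))) hc ⟨n, hn⟩
  have h2 := congrArg Subtype.val this
  rwa [Subgroup.coe_pow, Subgroup.coe_one] at h2

end Cfsg.Agent.Lib.H8
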