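import Mathlib
import Cfsg.Prelude.Def_Blocks
import Cfsg.Agent.Lib.H21.AD.Defs

/-!
# S4937, piece (FOUR): Fourier inversion on the abelian group `J₂ / J₁`
-/

set_option autoImplicit false
open Cfsg.Agent.Lib.H21.AD

namespace Cfsg.Agent.Lib.H8.AD

variable {G : Type*} [Group G] [Finite G]

omit [Finite G] in
/-- `cSum` at `y = 1` is `sSum`. -/
theorem cSum_one (p : ℕ) (J : Subgroup G) (f : G → ℂ) : cSum p J f 1 = sSum p J f := by
  unfold cSum sSum
  refine finsum_congr (fun n => ?_)
  rw [one_mul]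

omit [Finite G] in
open Classical in
/-- the coset sum as a sum over the elements `g` of `J₂` with `y⁻¹ * g ∈ J₁`. -/
theorem cSum_eq_sum [Fintype G] (p : ℕ) (J₁ : Subgroup G) (f : G → ℂ) (y : G) :
    cSum p J₁ f y =
      ∑ g : G, if y⁻¹ * g ∈ J₁ ∧ ¬ p ∣ orderOf g then f g else 0 := by
  classical
  unfold cSum
  rw [finsum_eq_sum_of_fintype]
  refine Fintype.sum_equiv (Equiv.mulLeft y) _ _ ?_
  intro n
  simp only [Equiv.coe_mulLeft, inv_mul_cancel_left]

omit [Finite G] in
open Classical in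
theorem sSum_eq_sum [Fintype G] (p : ℕ) (J : Subgroup G) (f : G → ℂ) :
    sSum p J f = ∑ g : G, if g ∈ J ∧ ¬ p ∣ orderOf g then f g else 0 := by
  classical
  unfold sSum
  rw [finsum_eq_sum_of_fintype]

/-- (FOUR) Fourier inversion on the abelian group `J₂ / J₁`. PURE. -/
theorem four (p : ℕ) (J₁ J₂ : Subgroup G) (h12 : J₁ ≤ J₂)
    (hnorm : ∀ a ∈ J₂, ∀ b ∈ J₁, a * b * a⁻¹ ∈ J₁)
    (hab : ∀ a ∈ J₂, ∀ b ∈ J₂, a * b * a⁻¹ * b⁻¹ ∈ J₁) (f : G → ℂ)
    (hvan : ∀ μ : G → ℂ, IsTwist J₁ J₂ μ → (∃ g ∈ J₂, μ g ≠ 1) → sSum p J₂ (fun g => f g * μ g) = 0)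
    (y : G) (hy : y ∈ J₂) : cSum p J₁ f y = sSum p J₁ f := by
  classical
  cases nonempty_fintype G
  have hKn : (J₁.subgroupOf J₂).Normal := by
    constructor
    intro n hn g
    rw [Subgroup.mem_subgroupOf] at hn ⊢
    simpa using hnorm g.1 g.2 n.1 hn
  letI : CommGroup (↥J₂ ⧸ J₁.subgroupOf J₂) :=
    { (inferInstance : Group (↥J₂ ⧸ J₁.subgroupOf J₂)) with
      mul_comm := by
        intro a b
        induction a using QuotientGroup.induction_on with | _ a =>
        induction b using QuotientGroup.induction_on with | _ b =>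
        rw [← QuotientGroup.mk_mul, ← QuotientGroup.mk_mul, QuotientGroup.eq,
          Subgroup.mem_subgroupOf]
        have := hab (b.1)⁻¹ (J₂.inv_mem b.2) (a.1)⁻¹ (J₂.inv_mem a.2)
        simpa [mul_assoc] using this }
  -- the quotient map on elements of `G`
  set A := Additive (↥J₂ ⧸ J₁.subgroupOf J₂) with hA
  let q : ∀ g : G, g ∈ J₂ → A := fun g hg =>
    Additive.ofMul (QuotientGroup.mk (⟨g, hg⟩ : ↥J₂))
  have hq_mul : ∀ (a b : G) (ha : a ∈ J₂) (hb : b ∈ J₂),
      q (a * b) (J₂.mul_mem ha hb) = q a ha + q b hb := by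
    intro a b ha hb
    rfl
  have hq_eq : ∀ (a b : G) (ha : a ∈ J₂) (hb : b ∈ J₂), q a ha = q b hb ↔ a⁻¹ * b ∈ J₁ := by
    intro a b ha hb
    change Additive.ofMul (QuotientGroup.mk (⟨a, ha⟩ : ↥J₂)) =
      Additive.ofMul (QuotientGroup.mk (⟨b, hb⟩ : ↥J₂)) ↔ _
    rw [Additive.ofMul.injective.eq_iff, QuotientGroup.eq, Subgroup.mem_subgroupOf]
    rfl
  -- the twist attached to a character
  let μ : AddChar A ℂ → G → ℂ := fun ψ g => if hg : g ∈ J₂ then ψ (q g hg) else 1
  have hμ_twist : ∀ ψ : AddChar A ℂ, IsTwist J₁ J₂ (μ ψ) := by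
    intro ψ
    refine ⟨?_, ?_⟩
    · intro a ha b hb
      simp only [μ, dif_pos ha, dif_pos hb, dif_pos (J₂.mul_mem ha hb)]
      rw [hq_mul a b ha hb, AddChar.map_add_eq_mul]
    · intro n hn
      have hn2 : n ∈ J₂ := h12 hn
      simp only [μ, dif_pos hn2]
      have : q n hn2 = 0 := by
        have h1 : q n hn2 = q 1 J₂.one_mem := by
          rw [hq_eq]
          simpa using J₁.inv_mem hn
        rw [h1]
        change Additive.ofMul (QuotientGroup.mk (⟨1, J₂.one_mem⟩ : ↥J₂)) = 0
        rfl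
      rw [this, AddChar.map_zero_eq_one]
  -- main identity
  have key : ∀ y : G, y ∈ J₂ →
      (Fintype.card A : ℂ) * cSum p J₁ f y = sSum p J₂ f := by
    intro y hy
    -- sum over all characters of ψ(-q y) * sSum (f * μ ψ)
    have h1 : ∑ ψ : AddChar A ℂ, ψ (- q y hy) * sSum p J₂ (fun g => f g * μ ψ g)
        = (Fintype.card A : ℂ) * cSum p J₁ f y := by
      simp_rw [sSum_eq_sum, Finset.mul_sum]
      rw [Finset.sum_comm, cSum_eq_sum, Finset.mul_sum]
      refine Finset.sum_congr rfl ?_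
      intro g _
      by_cases hg : g ∈ J₂ ∧ ¬ p ∣ orderOf g
      · simp only [if_pos hg]
        have hg2 := hg.1
        have hsum : ∑ ψ : AddChar A ℂ, ψ (- q y hy) * (f g * μ ψ g)
            = f g * ∑ ψ : AddChar A ℂ, ψ (q g hg2 - q y hy) := by
          rw [Finset.mul_sum]
          refine Finset.sum_congr rfl ?_
          intro ψ _
          simp only [μ, dif_pos hg2]
          rw [sub_eq_add_neg, AddChar.map_add_eq_mul]
          ring
        rw [hsum, AddChar.sum_apply_eq_ite]
        by_cases hc : y⁻¹ * g ∈ J₁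
        · have : q g hg2 - q y hy = 0 := by
            rw [sub_eq_zero, eq_comm, hq_eq]
            exact hc
          rw [if_pos this, if_pos ⟨hc, hg.2⟩]
          ring
        · have : ¬ q g hg2 - q y hy = 0 := by
            rw [sub_eq_zero, eq_comm, hq_eq]
            exact hc
          rw [if_neg this, if_neg (fun h => hc h.1)]
          ring
      · simp only [if_neg hg, mul_zero, Finset.sum_const_zero]
        have : ¬ (y⁻¹ * g ∈ J₁ ∧ ¬ p ∣ orderOf g) := by
          intro h
          apply hg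
          refine ⟨?_, h.2⟩
          have := J₂.mul_mem hy (h12 h.1)
          simpa using this
        rw [if_neg this, mul_zero]
    -- only the trivial character survives
    have h2 : ∑ ψ : AddChar A ℂ, ψ (- q y hy) * sSum p J₂ (fun g => f g * μ ψ g)
        = sSum p J₂ f := by
      rw [Fintype.sum_eq_single (0 : AddChar A ℂ)]
      · rw [AddChar.zero_apply, one_mul]
        rw [sSum_eq_sum, sSum_eq_sum]
        refine Finset.sum_congr rfl ?_
        intro g _
        by_cases hg : g ∈ J₂ ∧ ¬ p ∣ orderOf g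
        · simp only [if_pos hg, μ, dif_pos hg.1, AddChar.zero_apply, mul_one]
        · simp only [if_neg hg]
      · intro ψ hψ
        have hne : ∃ a : A, ψ a ≠ 1 := by
          by_contra hcon
          push Not at hcon
          apply hψ
          ext a
          rw [hcon a, AddChar.zero_apply]
        obtain ⟨a, ha⟩ := hne
        obtain ⟨⟨g, hg⟩, rfl⟩ := QuotientGroup.mk_surjective (Additive.toMul a)
        have hv := hvan (μ ψ) (hμ_twist ψ) ⟨g, hg, by
          simp only [μ, dif_pos hg]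
          exact ha⟩
        rw [hv, mul_zero]
    rw [← h1, h2]
  have hcard : (Fintype.card A : ℂ) ≠ 0 := by
    exact_mod_cast Fintype.card_ne_zero
  have e1 := key y hy
  have e2 := key 1 J₂.one_mem
  rw [cSum_one] at e2
  have : (Fintype.card A : ℂ) * cSum p J₁ f y = (Fintype.card A : ℂ) * sSum p J₁ f := by
    rw [e1, e2]
  exact mul_left_cancel₀ hcard this

end Cfsg.Agent.Lib.H8.AD
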