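import Mathlib

/-!
# Frobenius freeness, part 1: dimension criterion for internal direct sums and Galois descent
-/

set_option autoImplicit false

namespace Cfsg.Agent.Lib.H8

open Module

section Criterion

variable {k V ι : Type*} [Field k] [AddCommGroup V] [Module k V] [FiniteDimensional k V]
  [Fintype ι] [DecidableEq ι]

/-- A finite family of subspaces that spans and whose dimensions add up to at most `dim V`
is an internal direct sum decomposition. -/
theorem isInternal_of_iSup_eq_top_of_finrank_le (N : ι → Submodule k V)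
    (hsup : ⨆ i, N i = ⊤) (hdim : ∑ i, finrank k (N i) ≤ finrank k V) :
    DirectSum.IsInternal N := by
  have hsurj : Function.Surjective (DirectSum.coeLinearMap N) := by
    rw [← LinearMap.range_eq_top, DirectSum.range_coeLinearMap, hsup]
  have hfr : finrank k (DirectSum ι fun i => ↥(N i)) = ∑ i, finrank k (N i) :=
    Module.finrank_directSum k (fun i => ↥(N i))
  have hle : finrank k V ≤ finrank k (DirectSum ι fun i => ↥(N i)) :=
    LinearMap.finrank_le_finrank_of_surjective hsurj
  have heq : finrank k (DirectSum ι fun i => ↥(N i)) = finrank k V := by omega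
  have hinj : Function.Injective (DirectSum.coeLinearMap N) :=
    (LinearMap.injective_iff_surjective_of_finrank_eq_finrank heq).mpr hsurj
  exact ⟨hinj, hsurj⟩

end Criterion

section Descent

variable {K : Type*} [Field K] {G : Type*} [Group G] [Fintype G] [DecidableEq G]

/-- Normal basis data for a finite group of automorphisms of a field: an element `x` such that
every `c` is a combination of the `f g x` with fixed coefficients, and the matrix
`(f s (f g x))` has a left inverse. -/
theorem exists_normal_matrix (f : G →* RingAut K) (hf : Function.Injective f) :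
    ∃ x : K, (∀ c : K, ∃ ℓ : G → K, (∀ g s, f s (ℓ g) = ℓ g) ∧ c = ∑ g, ℓ g * f g x) ∧
      ∃ N : Matrix G G K, N * (Matrix.of fun s g => f s (f g x)) = 1 := by
  letI : MulSemiringAction G K := MulSemiringAction.compHom K f
  have hsmul : ∀ (g : G) (c : K), g • c = f g c := fun _ _ => rfl
  haveI : FaithfulSMul G K := ⟨fun {g₁ g₂} h => hf (RingEquiv.ext (fun c => by
    have := h c
    rwa [hsmul, hsmul] at this))⟩
  obtain ⟨x, hx⟩ := exists_linearIndependent_algEquiv_apply (FixedPoints.subfield G K) K
  have hx' := hx.comp (FixedPoints.toAlgAutMulEquiv G K) (FixedPoints.toAlgAutMulEquiv G K).injective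
  have hfun : ((fun σ : Gal(K/(FixedPoints.subfield G K)) => σ x) ∘ (FixedPoints.toAlgAutMulEquiv G K))
      = fun g : G => f g x := by
    funext g; rfl
  rw [hfun] at hx'
  have hcard : Fintype.card G = finrank (FixedPoints.subfield G K) K :=
    (FixedPoints.finrank_eq_card G K).symm
  have hspan : Submodule.span (FixedPoints.subfield G K) (Set.range fun g : G => f g x) = ⊤ :=
    hx'.span_eq_top_of_card_eq_finrank' hcard
  have hfix : ∀ c : K, ∃ ℓ : G → K, (∀ g s, f s (ℓ g) = ℓ g) ∧ c = ∑ g, ℓ g * f g x := by
    intro c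
    have hc : c ∈ Submodule.span (FixedPoints.subfield G K) (Set.range fun g : G => f g x) := by
      rw [hspan]; trivial
    obtain ⟨ℓ, hℓ⟩ := (Submodule.mem_span_range_iff_exists_fun _).mp hc
    refine ⟨fun g => (ℓ g : K), fun g s => ?_, ?_⟩
    · have := (ℓ g).2 s
      rwa [hsmul] at this
    · rw [← hℓ]
      refine Finset.sum_congr rfl fun g _ => ?_
      rfl
  refine ⟨x, hfix, ?_⟩
  · set M : Matrix G G K := Matrix.of fun s g => f s (f g x) with hM
    have hinj : Function.Injective M.vecMul := by
      have hlin : ∀ d : G → K, Matrix.vecMul d M = 0 → d = 0 := by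
        intro d hd
        have hd' : ∀ g, ∑ s, d s * f s (f g x) = 0 := by
          intro g
          have := congrFun hd g
          simpa [Matrix.vecMul, dotProduct, hM] using this
        have hF : ∀ c : K, ∑ s, d s * f s c = 0 := by
          intro c
          obtain ⟨ℓ, hℓfix, hℓ⟩ := hfix c
          rw [hℓ]
          simp only [map_sum, map_mul, hℓfix, Finset.mul_sum]
          rw [Finset.sum_comm]
          refine Finset.sum_eq_zero fun g _ => ?_
          have : ∀ s, d s * (ℓ g * (f s) ((f g) x)) = ℓ g * (d s * (f s) ((f g) x)) := by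
            intro s; ring
          simp only [this, ← Finset.mul_sum, hd', mul_zero]
        have hli := (linearIndependent_monoidHom K K).comp
          (fun s : G => ((f s : K →+* K) : K →* K)) (by
            intro s s' hss
            apply hf
            apply RingEquiv.ext
            intro c
            exact DFunLike.congr_fun hss c)
        have := Fintype.linearIndependent_iff.mp hli d (by
          funext c
          simpa using hF c)
        funext s
        exact this s
      intro d d' hdd
      have : Matrix.vecMul (d - d') M = 0 := by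
        have hdd' : Matrix.vecMul d M = Matrix.vecMul d' M := hdd
        rw [Matrix.sub_vecMul, hdd', sub_self]
      exact sub_eq_zero.mp (hlin _ this)
    obtain ⟨u, hu⟩ := Matrix.vecMul_injective_iff_isUnit.mp hinj
    exact ⟨↑u⁻¹, by rw [← hu]; exact Units.inv_mul u⟩

variable {U : Type*} [AddCommGroup U] [Module K U]

/-- **Galois descent with a normal basis**: if a finite group `G` acts faithfully on a field `K`
and semilinearly on a `K`-vector space `U`, then there is `x : K` such that every vector is
uniquely a combination `∑ g, (g x) • w g` with all `w g` fixed by `G`. -/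
theorem galois_descent (f : G →* RingAut K) (hf : Function.Injective f)
    (τ : G →* AddMonoid.End U) (hτ : ∀ g c u, τ g (c • u) = (f g c) • τ g u) :
    ∃ x : K,
      (∀ u : U, ∃ w : G → U, (∀ g s, τ s (w g) = w g) ∧ u = ∑ g, (f g x) • w g) ∧
      (∀ w : G → U, (∀ g s, τ s (w g) = w g) → ∑ g, (f g x) • w g = 0 → ∀ g, w g = 0) := by
  obtain ⟨x, hfix, N, hN⟩ := exists_normal_matrix f hf
  set M : Matrix G G K := Matrix.of fun s g => f s (f g x) with hM
  have hN' : M * N = 1 := mul_eq_one_comm.mp hN
  have hNM : ∀ g' g, ∑ s, N g' s * M s g = if g' = g then 1 else 0 := by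
    intro g' g
    have := congrFun (congrFun hN g') g
    simpa [Matrix.mul_apply, Matrix.one_apply] using this
  have hMN : ∀ g' g, ∑ s, M g' s * N s g = if g' = g then 1 else 0 := by
    intro g' g
    have := congrFun (congrFun hN' g') g
    simpa [Matrix.mul_apply, Matrix.one_apply] using this
  have hMdef : ∀ s g, M s g = f s (f g x) := fun s g => rfl
  refine ⟨x, ?_, ?_⟩
  · intro u
    set t : G → U := fun s => ∑ g, τ g ((f s x) • u) with ht
    have htfix : ∀ s r, τ r (t s) = t s := by
      intro s r
      simp only [ht, map_sum]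
      refine Fintype.sum_equiv (Equiv.mulLeft r) _ _ fun g => ?_
      simp only [Equiv.coe_mulLeft, map_mul]
      rfl
    have ht' : ∀ s, t s = ∑ g, M g s • τ g u := by
      intro s
      simp only [ht, hτ, hMdef]
    have hu : u = ∑ s, N s 1 • t s := by
      simp only [ht', Finset.smul_sum, smul_smul]
      rw [Finset.sum_comm]
      have : ∀ g, ∑ s, (N s 1 * M g s) • τ g u = (if g = 1 then (1:K) else 0) • τ g u := by
        intro g
        rw [← Finset.sum_smul, ← hMN g 1]
        congr 1
        refine Finset.sum_congr rfl fun s _ => mul_comm _ _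
      simp only [this, ite_smul, one_smul, zero_smul, Finset.sum_ite_eq', Finset.mem_univ, if_true,
        map_one]
      rfl
    choose ℓ hℓfix hℓ using fun s => hfix (N s 1)
    refine ⟨fun g => ∑ s, ℓ s g • t s, fun g r => ?_, ?_⟩
    · simp only [map_sum, hτ, hℓfix, htfix]
    · conv_lhs => rw [hu]
      simp only [Finset.smul_sum, smul_smul]
      rw [Finset.sum_comm]
      refine Finset.sum_congr rfl fun s _ => ?_
      conv_lhs => rw [hℓ s]
      rw [Finset.sum_smul]
      refine Finset.sum_congr rfl fun g _ => ?_
      rw [mul_comm]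
  · intro w hw h0 g'
    have h1 : ∀ s, ∑ g, M s g • w g = 0 := by
      intro s
      have := congrArg (τ s) h0
      simp only [map_sum, hτ, hw, map_zero] at this
      simpa [hMdef] using this
    have h2 : w g' = ∑ g, (if g' = g then (1:K) else 0) • w g := by
      simp only [ite_smul, one_smul, zero_smul, Finset.sum_ite_eq, Finset.mem_univ, if_true]
    rw [h2]
    simp only [← hNM, Finset.sum_smul]
    rw [Finset.sum_comm]
    refine Finset.sum_eq_zero fun s _ => ?_
    simp only [← smul_smul, ← Finset.smul_sum, h1, smul_zero]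

end Descent

section Local

variable {R : Type*} [CommRing R] {G : Type*} [Group G] [Fintype G] [DecidableEq G]
  {U : Type*} [AddCommGroup U] [Module R U]

/-- **Local descent**: a finite group `G` of automorphisms of a commutative ring `R` stabilizing a
maximal ideal `𝔪` and acting faithfully on `R ⧸ 𝔪`; `U` an `R`-module killed by `𝔪` with a
semilinear `G`-action. Then there is `x : R` such that every vector is uniquely `∑ g, (g x) • w g`
with the `w g` fixed by `G`. -/
theorem local_descent (𝔪 : Ideal R) [h𝔪 : 𝔪.IsMaximal] (α : G →* RingAut R)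
    (hstab : ∀ g, ∀ r ∈ 𝔪, α g r ∈ 𝔪)
    (hfaith : ∀ g, g ≠ 1 → ∃ r, α g r - r ∉ 𝔪)
    (hU : ∀ r ∈ 𝔪, ∀ u : U, r • u = 0)
    (τ : G →* AddMonoid.End U) (hτ : ∀ g r u, τ g (r • u) = (α g r) • τ g u) :
    ∃ x : R,
      (∀ u : U, ∃ w : G → U, (∀ g s, τ s (w g) = w g) ∧ u = ∑ g, (α g x) • w g) ∧
      (∀ w : G → U, (∀ g s, τ s (w g) = w g) → ∑ g, (α g x) • w g = 0 → ∀ g, w g = 0) := by
  letI : Field (R ⧸ 𝔪) := Ideal.Quotient.field 𝔪
  have hT : Module.IsTorsionBySet R U (𝔪 : Set R) := by
    intro u r
    exact hU r.1 r.2 u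
  letI : Module (R ⧸ 𝔪) U := hT.module
  have hmk : ∀ (r : R) (u : U), (Ideal.Quotient.mk 𝔪 r) • u = r • u := fun r u => rfl
  have hmap : ∀ g, 𝔪 = 𝔪.map ((α g : R ≃+* R) : R →+* R) := by
    intro g
    apply le_antisymm
    · intro r hr
      have h1 : α g⁻¹ r ∈ 𝔪 := hstab g⁻¹ r hr
      have h2 : (α g) (α g⁻¹ r) = r := by
        rw [← RingAut.mul_apply, ← map_mul, mul_inv_cancel, map_one]; rfl
      rw [← h2]
      exact Ideal.mem_map_of_mem _ h1
    · rw [Ideal.map_le_iff_le_comap]
      intro r hr
      exact hstab g r hr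
  let f : G →* RingAut (R ⧸ 𝔪) :=
    { toFun := fun g => Ideal.quotientEquiv 𝔪 𝔪 (α g) (hmap g)
      map_one' := by
        apply RingEquiv.ext
        intro c
        obtain ⟨r, rfl⟩ := Ideal.Quotient.mk_surjective c
        rw [Ideal.quotientEquiv_mk, map_one]; rfl
      map_mul' := by
        intro g g'
        apply RingEquiv.ext
        intro c
        obtain ⟨r, rfl⟩ := Ideal.Quotient.mk_surjective c
        rw [Ideal.quotientEquiv_mk, map_mul, RingAut.mul_apply, RingAut.mul_apply,
          Ideal.quotientEquiv_mk, Ideal.quotientEquiv_mk] }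
  have hfmk : ∀ g r, f g (Ideal.Quotient.mk 𝔪 r) = Ideal.Quotient.mk 𝔪 (α g r) := fun g r => rfl
  have hf : Function.Injective f := by
    rw [injective_iff_map_eq_one]
    intro g hg
    by_contra hne
    obtain ⟨r, hr⟩ := hfaith g hne
    apply hr
    have := hfmk g r
    rw [hg] at this
    have h2 : Ideal.Quotient.mk 𝔪 r = Ideal.Quotient.mk 𝔪 (α g r) := this
    rw [← Ideal.Quotient.eq]
    exact h2.symm
  have hτ' : ∀ g (c : R ⧸ 𝔪) u, τ g (c • u) = (f g c) • τ g u := by
    intro g c u
    obtain ⟨r, rfl⟩ := Ideal.Quotient.mk_surjective c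
    rw [hfmk, hmk, hmk, hτ]
  obtain ⟨xb, hex, huniq⟩ := galois_descent f hf τ hτ'
  obtain ⟨x, rfl⟩ := Ideal.Quotient.mk_surjective xb
  refine ⟨x, ?_, ?_⟩
  · intro u
    obtain ⟨w, hw, hu⟩ := hex u
    refine ⟨w, hw, ?_⟩
    rw [hu]
    refine Finset.sum_congr rfl fun g _ => ?_
    rw [hfmk, hmk]
  · intro w hw h0
    apply huniq w hw
    rw [← h0]
    refine Finset.sum_congr rfl fun g _ => ?_
    rw [hfmk, hmk]

end Local

end Cfsg.Agent.Lib.H8
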