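import Mathlib
import Cfsg.Agent.Lib.H8.FrobFree1
set_option autoImplicit false
namespace Cfsg.Agent.Lib.H8
open Module

section Core

variable {k : Type*} [Field k] {R : Type*} [CommRing R]
  {V : Type*} [AddCommGroup V] [Module k V] [Module R V] [SMulCommClass R k V]

/-- finrank of a finite supremum is at most the sum of finranks -/
theorem finrank_iSup_le_sum {ι : Type*} [Fintype ι] [FiniteDimensional k V]
    (N : ι → Submodule k V) :
    finrank k ↥(⨆ i, N i) ≤ ∑ i, finrank k (N i) := by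
  classical
  rw [← DirectSum.range_coeLinearMap, ← Module.finrank_directSum k (fun i => ↥(N i))]
  exact LinearMap.finrank_range_le _

variable (k) in
/-- The subspace of `V` killed by the ideal `𝔪`. -/
def eigSpace (𝔪 : Ideal R) : Submodule k V where
  carrier := {v | ∀ r ∈ 𝔪, r • v = 0}
  add_mem' := fun {a b} ha hb r hr => by rw [smul_add, ha r hr, hb r hr, add_zero]
  zero_mem' := fun r _ => smul_zero r
  smul_mem' := fun c v hv r hr => by rw [smul_comm, hv r hr, smul_zero]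

theorem mem_eigSpace {𝔪 : Ideal R} {v : V} : v ∈ eigSpace k 𝔪 ↔ ∀ r ∈ 𝔪, r • v = 0 := Iff.rfl

/-- multiplication by `r` as a `k`-linear map -/
def lsmulR (r : R) : V →ₗ[k] V where
  toFun v := r • v
  map_add' := smul_add r
  map_smul' c v := smul_comm r c v

@[simp] theorem lsmulR_apply (r : R) (v : V) : lsmulR (k := k) r v = r • v := rfl

/-- Partition of unity subordinate to the (finitely many) maximal ideals. -/
theorem exists_partition [Finite (MaximalSpectrum R)] :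
    ∃ e : MaximalSpectrum R → R,
      (∀ 𝔪 𝔫 : MaximalSpectrum R, 𝔫 ≠ 𝔪 → e 𝔪 ∈ 𝔫.asIdeal) ∧
      (∀ 𝔪 : MaximalSpectrum R, 1 - e 𝔪 ∈ 𝔪.asIdeal) := by
  classical
  haveI : Fintype (MaximalSpectrum R) := Fintype.ofFinite _
  have key : ∀ 𝔪 : MaximalSpectrum R, ∃ b : R,
      (∀ 𝔫 : MaximalSpectrum R, 𝔫 ≠ 𝔪 → b ∈ 𝔫.asIdeal) ∧ 1 - b ∈ 𝔪.asIdeal := by
    intro 𝔪
    have h1 : 𝔪.asIdeal ⊔ ⨅ 𝔫 ∈ (Finset.univ.erase 𝔪 : Finset (MaximalSpectrum R)), 𝔫.asIdeal = ⊤ := by
      apply Ideal.sup_iInf_eq_top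
      intro 𝔫 h𝔫
      apply Ideal.IsMaximal.coprime_of_ne 𝔪.isMaximal 𝔫.isMaximal
      intro h
      exact (Finset.mem_erase.mp h𝔫).1 (MaximalSpectrum.ext h.symm)
    have h2 : (1 : R) ∈ 𝔪.asIdeal ⊔ ⨅ 𝔫 ∈ (Finset.univ.erase 𝔪 : Finset (MaximalSpectrum R)), 𝔫.asIdeal := by
      rw [h1]; trivial
    obtain ⟨a, ha, b, hb, hab⟩ := Submodule.mem_sup.mp h2
    refine ⟨b, fun 𝔫 h𝔫 => ?_, ?_⟩
    · simp only [Ideal.mem_iInf] at hb
      exact hb 𝔫 (Finset.mem_erase.mpr ⟨h𝔫, Finset.mem_univ _⟩)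
    · have : 1 - b = a := by rw [← hab]; ring
      rw [this]; exact ha
  choose e he1 he2 using key
  exact ⟨e, fun 𝔪 𝔫 h => he1 𝔪 𝔫 h, he2⟩

/-- If the Jacobson radical kills `V`, then `V` is the direct sum of the subspaces killed by the
maximal ideals. -/
theorem eigSpace_decomp [Fintype (MaximalSpectrum R)] [FiniteDimensional k V]
    (hJ : ∀ r : R, (∀ 𝔪 : MaximalSpectrum R, r ∈ 𝔪.asIdeal) → ∀ v : V, r • v = 0) :
    (⨆ 𝔪 : MaximalSpectrum R, eigSpace k (V := V) 𝔪.asIdeal) = ⊤ ∧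
    ∑ 𝔪 : MaximalSpectrum R, finrank k (eigSpace k (V := V) 𝔪.asIdeal) = finrank k V := by
  classical
  obtain ⟨e, he1, he2⟩ := exists_partition (R := R)
  have hmem : ∀ (𝔪 : MaximalSpectrum R) (v : V), e 𝔪 • v ∈ eigSpace k (V := V) 𝔪.asIdeal := by
    intro 𝔪 v r hr
    rw [smul_smul]
    apply hJ
    intro 𝔫
    by_cases h : 𝔫 = 𝔪
    · rw [h]; exact Ideal.mul_mem_right _ _ hr
    · exact Ideal.mul_mem_left _ _ (he1 𝔪 𝔫 h)
  have hsum : ∀ v : V, v = ∑ 𝔪, e 𝔪 • v := by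
    intro v
    have h0 : (1 - ∑ 𝔪, e 𝔪) • v = 0 := by
      apply hJ
      intro 𝔫
      have : 1 - ∑ 𝔪, e 𝔪 = (1 - e 𝔫) - ∑ 𝔪 ∈ Finset.univ.erase 𝔫, e 𝔪 := by
        rw [← Finset.add_sum_erase _ _ (Finset.mem_univ 𝔫)]; ring
      rw [this]
      apply Ideal.sub_mem _ (he2 𝔫)
      apply Ideal.sum_mem
      intro 𝔪 h𝔪
      exact he1 𝔪 𝔫 (fun h => (Finset.mem_erase.mp h𝔪).1 h.symm)
    rw [sub_smul, one_smul, Finset.sum_smul, sub_eq_zero] at h0
    exact h0
  have hid : ∀ (𝔪 : MaximalSpectrum R) (v : V), v ∈ eigSpace k (V := V) 𝔪.asIdeal → e 𝔪 • v = v := by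
    intro 𝔪 v hv
    have := hv _ (he2 𝔪)
    rw [sub_smul, one_smul, sub_eq_zero] at this
    exact this.symm
  have hkill : ∀ (𝔪 𝔫 : MaximalSpectrum R) (v : V), 𝔫 ≠ 𝔪 → v ∈ eigSpace k (V := V) 𝔫.asIdeal →
      e 𝔪 • v = 0 := by
    intro 𝔪 𝔫 v h hv
    exact hv _ (he1 𝔪 𝔫 h)
  have htop : (⨆ 𝔪 : MaximalSpectrum R, eigSpace k (V := V) 𝔪.asIdeal) = ⊤ := by
    rw [eq_top_iff]
    intro v _
    rw [hsum v]
    apply Submodule.sum_mem
    intro 𝔪 _
    exact Submodule.mem_iSup_of_mem 𝔪 (hmem 𝔪 v)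
  have hind : iSupIndep (fun 𝔪 : MaximalSpectrum R => eigSpace k (V := V) 𝔪.asIdeal) := by
    rw [iSupIndep_def]
    intro 𝔪
    rw [Submodule.disjoint_def]
    intro v hv1 hv2
    have hle : (⨆ (𝔫 : MaximalSpectrum R) (_ : 𝔫 ≠ 𝔪), eigSpace k (V := V) 𝔫.asIdeal)
        ≤ LinearMap.ker (lsmulR (k := k) (V := V) (e 𝔪)) := by
      apply iSup_le; intro 𝔫; apply iSup_le; intro h𝔫
      intro w hw
      rw [LinearMap.mem_ker, lsmulR_apply]
      exact hkill 𝔪 𝔫 w h𝔫 hw
    have := hle hv2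
    rw [LinearMap.mem_ker, lsmulR_apply, hid 𝔪 v hv1] at this
    exact this
  refine ⟨htop, ?_⟩
  have hInt := DirectSum.isInternal_submodule_of_iSupIndep_of_iSup_eq_top hind htop
  have eqv := LinearEquiv.ofBijective (DirectSum.coeLinearMap
    (fun 𝔪 : MaximalSpectrum R => eigSpace k (V := V) 𝔪.asIdeal)) hInt
  rw [← eqv.finrank_eq, Module.finrank_directSum]

/-- The `R`-submodule of `V` killed by the ideal `𝔪`. -/
def eigSpaceR (𝔪 : Ideal R) : Submodule R V where
  carrier := {v | ∀ r ∈ 𝔪, r • v = 0}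
  add_mem' := fun {a b} ha hb r hr => by rw [smul_add, ha r hr, hb r hr, add_zero]
  zero_mem' := fun r _ => smul_zero r
  smul_mem' := fun c v hv r hr => by rw [smul_comm, hv r hr, smul_zero]

theorem mem_eigSpaceR {𝔪 : Ideal R} {v : V} : v ∈ eigSpaceR (V := V) 𝔪 ↔ ∀ r ∈ 𝔪, r • v = 0 :=
  Iff.rfl

/-- The local step: freeness of the `𝔪`-eigenspace over a subgroup stabilizing `𝔪` and acting
faithfully on the residue field. -/
theorem eigSpace_free_stab [FiniteDimensional k V] {H : Type*} [Group H] [Finite H]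
    (α : H →* RingAut R) (σ : Representation k H V)
    (hσ : ∀ h r v, σ h (r • v) = (α h r) • σ h v)
    (𝔪 : Ideal R) [h𝔪 : 𝔪.IsMaximal] (G : Subgroup H)
    (hstab : ∀ g ∈ G, ∀ r ∈ 𝔪, α g r ∈ 𝔪)
    (hfaith : ∀ g ∈ G, g ≠ 1 → ∃ r, α g r - r ∉ 𝔪) :
    ∃ W : Submodule k V, W ≤ eigSpace k 𝔪 ∧ eigSpace k 𝔪 ≤ ⨆ g : G, W.map (σ (g : H)) ∧
      Nat.card G * finrank k W ≤ finrank k (eigSpace k (V := V) 𝔪) := by
  classical
  haveI : Fintype G := Fintype.ofFinite _
  have hinv : ∀ g : H, ∀ r, α g (α g⁻¹ r) = r := by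
    intro g r
    rw [← RingAut.mul_apply, ← map_mul, mul_inv_cancel, map_one]; rfl
  have hσmem : ∀ g ∈ G, ∀ v : V, v ∈ eigSpaceR (V := V) 𝔪 → σ g v ∈ eigSpaceR (V := V) 𝔪 := by
    intro g hg v hv r hr
    rw [← hinv g r, ← hσ, hv _ (hstab g⁻¹ (G.inv_mem hg) r hr), map_zero]
  let τ : G →* AddMonoid.End ↥(eigSpaceR (V := V) 𝔪) :=
    { toFun := fun g =>
        { toFun := fun u => ⟨σ (g : H) u.1, hσmem g g.2 u.1 u.2⟩
          map_zero' := by apply Subtype.ext; simp
          map_add' := by intro a b; apply Subtype.ext; simp }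
      map_one' := by
        apply AddMonoidHom.ext; intro u; apply Subtype.ext
        show σ ((1 : G) : H) u.1 = u.1
        simp
      map_mul' := by
        intro g g'
        apply AddMonoidHom.ext; intro u; apply Subtype.ext
        show σ ((g * g' : G) : H) u.1 = σ (g : H) (σ (g' : H) u.1)
        simp }
  have hτval : ∀ (g : G) (u : ↥(eigSpaceR (V := V) 𝔪)), (τ g u : V) = σ (g : H) u.1 := fun g u => rfl
  obtain ⟨x, hex, huniq⟩ := local_descent (U := ↥(eigSpaceR (V := V) 𝔪)) 𝔪 (α.comp G.subtype)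
    (fun g r hr => hstab g g.2 r hr)
    (fun g hg => hfaith g g.2 (fun h => hg (Subtype.ext h)))
    (fun r hr u => Subtype.ext (u.2 r hr)) τ
    (fun g r u => Subtype.ext (by
      rw [hτval]
      show σ (g : H) (r • (u : V)) = _
      rw [hσ]; rfl))
  have hαx : ∀ g : G, (α.comp G.subtype) g x = α (g : H) x := fun g => rfl
  -- the fixed space
  let Fix : Submodule k V :=
    { carrier := {v | v ∈ eigSpace k (V := V) 𝔪 ∧ ∀ g ∈ G, σ g v = v}
      add_mem' := fun {a b} ha hb => ⟨Submodule.add_mem _ ha.1 hb.1, fun g hg => by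
        rw [map_add, ha.2 g hg, hb.2 g hg]⟩
      zero_mem' := ⟨Submodule.zero_mem _, fun g _ => map_zero _⟩
      smul_mem' := fun c v hv => ⟨Submodule.smul_mem _ c hv.1, fun g hg => by
        rw [map_smul, hv.2 g hg]⟩ }
  have hFix : ∀ v, v ∈ Fix ↔ (v ∈ eigSpace k (V := V) 𝔪 ∧ ∀ g ∈ G, σ g v = v) := fun v => Iff.rfl
  refine ⟨Fix.map (lsmulR (k := k) x), ?_, ?_, ?_⟩
  · rintro _ ⟨v, hv, rfl⟩
    intro r hr
    rw [lsmulR_apply, smul_comm, hv.1 r hr, smul_zero]
  · intro v hv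
    obtain ⟨w, hw, hu⟩ := hex ⟨v, hv⟩
    have hv' : v = ∑ g : G, (α (g : H) x) • (w g : V) := by
      have h1 : v = ((∑ g : G, ((α.comp G.subtype) g x) • w g : ↥(eigSpaceR (V := V) 𝔪)) : V) :=
        congrArg Subtype.val hu
      rw [Submodule.coe_sum] at h1
      exact h1
    rw [hv']
    apply Submodule.sum_mem
    intro g _
    apply Submodule.mem_iSup_of_mem g
    refine ⟨x • (w g : V), ⟨(w g : V), ⟨(w g).2, fun s hs => ?_⟩, rfl⟩, ?_⟩
    · have := congrArg Subtype.val (hw g ⟨s, hs⟩)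
      exact this
    · show σ (g : H) (x • (w g : V)) = _
      rw [hσ]
      have := congrArg Subtype.val (hw g g)
      rw [hτval] at this
      rw [this]
  · -- dimension count
    let Φ : (G → Fix) →ₗ[k] V :=
      ∑ g : G, (lsmulR (k := k) (α (g : H) x)).comp (Fix.subtype.comp (LinearMap.proj g))
    have hΦ : ∀ w : G → Fix, Φ w = ∑ g : G, (α (g : H) x) • ((w g : Fix) : V) := by
      intro w
      simp only [Φ, LinearMap.sum_apply, LinearMap.comp_apply, LinearMap.proj_apply,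
        Submodule.subtype_apply, lsmulR_apply]
    have hΦmem : ∀ w, Φ w ∈ eigSpace k (V := V) 𝔪 := by
      intro w
      rw [hΦ]
      apply Submodule.sum_mem
      intro g _ r hr
      rw [smul_comm, (w g).2.1 r hr, smul_zero]
    have hΦinj : Function.Injective (Φ.codRestrict (eigSpace k (V := V) 𝔪) hΦmem) := by
      rw [← LinearMap.ker_eq_bot, LinearMap.ker_eq_bot']
      intro w hw0
      have hw0' : Φ w = 0 := congrArg Subtype.val hw0
      rw [hΦ] at hw0'
      let w' : G → ↥(eigSpaceR (V := V) 𝔪) := fun g => ⟨(w g : V), (w g).2.1⟩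
      have hw'fix : ∀ g s, τ s (w' g) = w' g := by
        intro g s
        apply Subtype.ext
        rw [hτval]
        exact (w g).2.2 s s.2
      have hsum0 : ∑ g, ((α.comp G.subtype) g x) • w' g = 0 := by
        apply Subtype.ext
        rw [Submodule.coe_sum]
        exact hw0'
      have := huniq w' hw'fix hsum0
      funext g
      apply Subtype.ext
      have h5 : ((w' g : ↥(eigSpaceR (V := V) 𝔪)) : V) = 0 := by rw [this g]; rfl
      exact h5
    have h1 := LinearMap.finrank_le_finrank_of_injective hΦinj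
    have h2 : finrank k (G → Fix) = Nat.card G * finrank k Fix := by
      rw [Module.finrank_pi_fintype, Finset.sum_const, Finset.card_univ, smul_eq_mul,
        Nat.card_eq_fintype_card]
    have h3 : finrank k (Fix.map (lsmulR (k := k) x)) ≤ finrank k Fix := Submodule.finrank_map_le _ _
    calc Nat.card G * finrank k (Fix.map (lsmulR (k := k) x))
        ≤ Nat.card G * finrank k Fix := Nat.mul_le_mul_left _ h3
      _ = finrank k (G → Fix) := h2.symm
      _ ≤ _ := h1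

/-- **Abstract freeness theorem**: `R` a commutative ring with finitely many maximal ideals whose
Jacobson radical kills `V`; a finite group `H` acts on `R` by automorphisms and semilinearly on
`V`, such that stabilizers of maximal ideals with nonzero eigenspace act faithfully on the residue
fields. Then `V` is a free `k[H]`-module (in dimension-count form). -/
theorem free_of_semilinear [FiniteDimensional k V] [Finite (MaximalSpectrum R)]
    {H : Type*} [Group H] [Finite H]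
    (hJ : ∀ r : R, (∀ 𝔪 : MaximalSpectrum R, r ∈ 𝔪.asIdeal) → ∀ v : V, r • v = 0)
    (α : H →* RingAut R) (σ : Representation k H V)
    (hσ : ∀ h r v, σ h (r • v) = (α h r) • σ h v)
    (hfree : ∀ 𝔪 : Ideal R, 𝔪.IsMaximal → (∃ v : V, v ≠ 0 ∧ ∀ r ∈ 𝔪, r • v = 0) →
      ∀ h : H, h ≠ 1 → (∀ r ∈ 𝔪, α h r ∈ 𝔪) → ∃ r, α h r - r ∉ 𝔪) :
    ∃ W : Submodule k V, (⨆ h : H, W.map (σ h)) = ⊤ ∧
      Nat.card H * finrank k W ≤ finrank k V := by
  classical
  haveI : Fintype (MaximalSpectrum R) := Fintype.ofFinite _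
  haveI : Fintype H := Fintype.ofFinite _
  have hinv : ∀ g : H, ∀ r, α g (α g⁻¹ r) = r := by
    intro g r
    rw [← RingAut.mul_apply, ← map_mul, mul_inv_cancel, map_one]; rfl
  have hinv' : ∀ g : H, ∀ r, α g⁻¹ (α g r) = r := by
    intro g r
    rw [← RingAut.mul_apply, ← map_mul, inv_mul_cancel, map_one]; rfl
  letI act : MulAction H (MaximalSpectrum R) :=
    { smul := fun h 𝔪 => ⟨𝔪.asIdeal.comap ((α h⁻¹ : R ≃+* R) : R →+* R),
        haveI := 𝔪.isMaximal
        Ideal.comap_isMaximal_of_surjective _ (α h⁻¹ : R ≃+* R).surjective⟩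
      one_smul := by
        intro 𝔪
        apply MaximalSpectrum.ext
        apply Ideal.ext
        intro r
        show α (1:H)⁻¹ r ∈ 𝔪.asIdeal ↔ r ∈ 𝔪.asIdeal
        rw [inv_one, map_one]; rfl
      mul_smul := by
        intro h h' 𝔪
        apply MaximalSpectrum.ext
        apply Ideal.ext
        intro r
        show α (h * h')⁻¹ r ∈ 𝔪.asIdeal ↔ α h'⁻¹ (α h⁻¹ r) ∈ 𝔪.asIdeal
        rw [mul_inv_rev, map_mul]; rfl }
  have hsmul : ∀ (h : H) (𝔪 : MaximalSpectrum R) (r : R),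
      r ∈ (h • 𝔪).asIdeal ↔ α h⁻¹ r ∈ 𝔪.asIdeal := fun h 𝔪 r => Iff.rfl
  obtain ⟨htop, hsumE⟩ := eigSpace_decomp (k := k) (R := R) (V := V) hJ
  have hEmap : ∀ (h : H) (𝔪 : MaximalSpectrum R) (v : V), v ∈ eigSpace k (V := V) 𝔪.asIdeal →
      σ h v ∈ eigSpace k (V := V) (h • 𝔪).asIdeal := by
    intro h 𝔪 v hv r hr
    rw [← hinv h r, ← hσ, hv _ ((hsmul h 𝔪 r).mp hr), map_zero]
  have hσinj : ∀ h : H, Function.Injective (σ h) := by
    intro h a b hab
    have := congrArg (σ h⁻¹) hab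
    simpa [← Module.End.mul_apply, ← map_mul] using this
  have hEle : ∀ (h : H) (𝔪 : MaximalSpectrum R),
      finrank k (eigSpace k (V := V) 𝔪.asIdeal) ≤ finrank k (eigSpace k (V := V) (h • 𝔪).asIdeal) := by
    intro h 𝔪
    apply LinearMap.finrank_le_finrank_of_injective (f := (σ h).restrict (hEmap h 𝔪))
    intro a b hab
    apply Subtype.ext
    apply hσinj h
    exact congrArg Subtype.val hab
  have hEfin : ∀ (h : H) (𝔪 : MaximalSpectrum R),
      finrank k (eigSpace k (V := V) (h • 𝔪).asIdeal) = finrank k (eigSpace k (V := V) 𝔪.asIdeal) := by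
    intro h 𝔪
    apply le_antisymm _ (hEle h 𝔪)
    have := hEle h⁻¹ (h • 𝔪)
    rwa [inv_smul_smul] at this
  -- local step
  have key : ∀ 𝔪 : MaximalSpectrum R, ∃ W : Submodule k V, W ≤ eigSpace k 𝔪.asIdeal ∧
      eigSpace k 𝔪.asIdeal ≤ ⨆ g : MulAction.stabilizer H 𝔪, W.map (σ (g : H)) ∧
      Nat.card (MulAction.stabilizer H 𝔪) * finrank k W ≤
        finrank k (eigSpace k (V := V) 𝔪.asIdeal) := by
    intro 𝔪
    by_cases hE : eigSpace k (V := V) 𝔪.asIdeal = ⊥
    · exact ⟨⊥, bot_le, by rw [hE]; exact bot_le, by simp⟩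
    · haveI := 𝔪.isMaximal
      have hstab : ∀ g ∈ MulAction.stabilizer H 𝔪, ∀ r ∈ 𝔪.asIdeal, α g r ∈ 𝔪.asIdeal := by
        intro g hg r hr
        have hg' : g • 𝔪 = 𝔪 := hg
        have : α g r ∈ (g • 𝔪).asIdeal := by
          rw [hsmul, hinv']; exact hr
        rwa [hg'] at this
      obtain ⟨v, hv, hv0⟩ := (Submodule.ne_bot_iff _).mp hE
      exact eigSpace_free_stab α σ hσ 𝔪.asIdeal (MulAction.stabilizer H 𝔪) hstab
        (fun g hg hg1 => hfree 𝔪.asIdeal 𝔪.isMaximal ⟨v, hv0, hv⟩ g hg1 (hstab g hg))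
  choose Wf hW1 hW2 hW3 using key
  let rep : MulAction.orbitRel.Quotient H (MaximalSpectrum R) → MaximalSpectrum R := Quotient.out
  have hrep : ∀ 𝔫 : MaximalSpectrum R, ∃ h : H, h • rep (Quotient.mk'' 𝔫) = 𝔫 := by
    intro 𝔫
    have h1 : Quotient.mk'' (rep (Quotient.mk'' 𝔫)) =
        (Quotient.mk'' 𝔫 : MulAction.orbitRel.Quotient H (MaximalSpectrum R)) := Quotient.out_eq' _
    have h2 := Quotient.exact' h1
    have h3 : rep (Quotient.mk'' 𝔫) ∈ MulAction.orbit H 𝔫 := MulAction.orbitRel_apply.mp h2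
    obtain ⟨h, hh⟩ := h3
    refine ⟨h⁻¹, ?_⟩
    rw [← hh, inv_smul_smul]
  refine ⟨⨆ ω, Wf (rep ω), ?_, ?_⟩
  · rw [eq_top_iff, ← htop]
    apply iSup_le
    intro 𝔫 v hv
    obtain ⟨h, hh⟩ := hrep 𝔫
    set 𝔪 := rep (Quotient.mk'' 𝔫) with h𝔪
    have h1 : σ h⁻¹ v ∈ eigSpace k (V := V) 𝔪.asIdeal := by
      have := hEmap h⁻¹ 𝔫 v hv
      rwa [← hh, inv_smul_smul] at this
    have h2 := hW2 𝔪 h1
    have h3 : v = σ h (σ h⁻¹ v) := by
      simp [← Module.End.mul_apply, ← map_mul]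
    rw [h3]
    have h4 : σ h (σ h⁻¹ v) ∈ (⨆ g : MulAction.stabilizer H 𝔪, (Wf 𝔪).map (σ (g : H))).map (σ h) :=
      Submodule.mem_map_of_mem h2
    rw [Submodule.map_iSup] at h4
    refine (iSup_le ?_ : (⨆ g : MulAction.stabilizer H 𝔪, ((Wf 𝔪).map (σ (g : H))).map (σ h)) ≤ _) h4
    intro g
    rw [← Submodule.map_comp]
    have h5 : (σ h) ∘ₗ (σ (g : H)) = σ (h * g) := by
      rw [map_mul]; rfl
    rw [h5]
    exact le_trans (Submodule.map_mono (le_iSup (fun ω => Wf (rep ω)) (Quotient.mk'' 𝔫)))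
      (le_iSup (fun h' : H => (⨆ ω, Wf (rep ω)).map (σ h')) (h * g))
  · haveI : Fintype (MulAction.orbitRel.Quotient H (MaximalSpectrum R)) := Fintype.ofFinite _
    have h1 : finrank k ↥(⨆ ω, Wf (rep ω)) ≤ ∑ ω, finrank k (Wf (rep ω)) :=
      finrank_iSup_le_sum _
    have hF : ∀ (ω : MulAction.orbitRel.Quotient H (MaximalSpectrum R)) (𝔫 : MaximalSpectrum R),
        Quotient.mk'' 𝔫 = ω → finrank k (eigSpace k (V := V) 𝔫.asIdeal) =
          finrank k (eigSpace k (V := V) (rep ω).asIdeal) := by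
      intro ω 𝔫 h𝔫
      obtain ⟨h, hh⟩ := hrep 𝔫
      rw [h𝔫] at hh
      rw [← hh, hEfin]
    have hcard : ∀ ω : MulAction.orbitRel.Quotient H (MaximalSpectrum R),
        (Finset.univ.filter (fun 𝔫 : MaximalSpectrum R =>
          (Quotient.mk'' 𝔫 : MulAction.orbitRel.Quotient H (MaximalSpectrum R)) = ω)).card *
          Nat.card (MulAction.stabilizer H (rep ω)) = Nat.card H := by
      intro ω
      have e1 : (Finset.univ.filter (fun 𝔫 : MaximalSpectrum R =>
          (Quotient.mk'' 𝔫 : MulAction.orbitRel.Quotient H (MaximalSpectrum R)) = ω)).card =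
          Fintype.card ↥(MulAction.orbit H (rep ω)) := by
        rw [← Fintype.card_subtype]
        apply Fintype.card_congr
        apply Equiv.subtypeEquivRight
        intro 𝔫
        have hω : (Quotient.mk'' (rep ω) : MulAction.orbitRel.Quotient H (MaximalSpectrum R)) = ω :=
          Quotient.out_eq' _
        constructor
        · intro h
          rw [← hω] at h
          exact MulAction.orbitRel_apply.mp (Quotient.exact' h)
        · intro h
          rw [← hω]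
          exact Quotient.sound' (MulAction.orbitRel_apply.mpr h)
      rw [e1, Nat.card_eq_fintype_card, Nat.card_eq_fintype_card]
      exact MulAction.card_orbit_mul_card_stabilizer_eq_card_group H (rep ω)
    have h2 : ∀ ω : MulAction.orbitRel.Quotient H (MaximalSpectrum R),
        Nat.card H * finrank k (Wf (rep ω)) ≤
          ∑ 𝔫 ∈ Finset.univ.filter (fun 𝔫 : MaximalSpectrum R =>
            (Quotient.mk'' 𝔫 : MulAction.orbitRel.Quotient H (MaximalSpectrum R)) = ω),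
            finrank k (eigSpace k (V := V) 𝔫.asIdeal) := by
      intro ω
      have hs : ∑ 𝔫 ∈ Finset.univ.filter (fun 𝔫 : MaximalSpectrum R =>
            (Quotient.mk'' 𝔫 : MulAction.orbitRel.Quotient H (MaximalSpectrum R)) = ω),
            finrank k (eigSpace k (V := V) 𝔫.asIdeal) =
          (Finset.univ.filter (fun 𝔫 : MaximalSpectrum R =>
            (Quotient.mk'' 𝔫 : MulAction.orbitRel.Quotient H (MaximalSpectrum R)) = ω)).card *
            finrank k (eigSpace k (V := V) (rep ω).asIdeal) := by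
        apply Finset.sum_const_nat
        intro 𝔫 h𝔫
        exact hF ω 𝔫 (Finset.mem_filter.mp h𝔫).2
      rw [hs, ← hcard ω, mul_assoc]
      exact Nat.mul_le_mul_left _ (hW3 (rep ω))
    have h3 : ∑ ω : MulAction.orbitRel.Quotient H (MaximalSpectrum R),
        ∑ 𝔫 ∈ Finset.univ.filter (fun 𝔫 : MaximalSpectrum R =>
            (Quotient.mk'' 𝔫 : MulAction.orbitRel.Quotient H (MaximalSpectrum R)) = ω),
            finrank k (eigSpace k (V := V) 𝔫.asIdeal) = finrank k V := by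
      rw [← hsumE]
      exact Finset.sum_fiberwise _ _ _
    calc Nat.card H * finrank k ↥(⨆ ω, Wf (rep ω))
        ≤ Nat.card H * ∑ ω, finrank k (Wf (rep ω)) := Nat.mul_le_mul_left _ h1
      _ = ∑ ω, Nat.card H * finrank k (Wf (rep ω)) := Finset.mul_sum _ _ _
      _ ≤ _ := Finset.sum_le_sum (fun ω _ => h2 ω)
      _ = finrank k V := h3

end Core
end Cfsg.Agent.Lib.H8
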