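import Mathlib
import Cfsg.Agent.Lib.H8.FrobFree2
set_option autoImplicit false
namespace Cfsg.Agent.Lib.H8
open Module

section Abelian

variable {k V A : Type*} [Field k] [AddCommGroup V] [Module k V] [FiniteDimensional k V]
  [Group A]

/-- Abelian case, abstract form: `B'` a finite commutative group mapping to `A`, on which the
finite subgroup `H` acts (compatibly with conjugation) without nontrivial fixed points. -/
theorem free_of_comm_aux {B' : Type*} [CommGroup B'] [Finite B'] (ρ : Representation k A V)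
    (j : B' →* A) (H : Subgroup A) [Finite H]
    (c : H →* MulAut B') (hc : ∀ (h : H) (b : B'), j (c h b) = (h : A) * j b * (h : A)⁻¹)
    (hBk : (Nat.card B' : k) ≠ 0)
    (hfpf : ∀ h : H, h ≠ 1 → ∀ b : B', c h b = b → b = 1)
    (hC : ∀ v : V, (∀ b : B', ρ (j b) v = v) → v = 0) :
    ∃ W : Submodule k V, (⨆ h : H, W.map (ρ (h : A))) = ⊤ ∧
      Nat.card H * finrank k W ≤ finrank k V := by
  classical
  haveI : NeZero (Nat.card B' : k) := ⟨hBk⟩
  haveI : IsArtinianRing (MonoidAlgebra k B') := IsArtinianRing.of_finite k _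
  let φ : MonoidAlgebra k B' →ₐ[k] Module.End k V := Representation.asAlgebraHom (ρ.comp j : Representation k B' V)
  letI : Module (MonoidAlgebra k B') V := Module.compHom V φ.toRingHom
  have hsmul : ∀ (r : MonoidAlgebra k B') (v : V), r • v = φ r v := fun r v => rfl
  haveI : SMulCommClass (MonoidAlgebra k B') k V := ⟨fun r c v => by
    rw [hsmul, hsmul, map_smul]⟩
  have hφof : ∀ b : B', φ (MonoidAlgebra.of k B' b) = ρ (j b) := by
    intro b
    exact Representation.asAlgebraHom_of _ b
  let α : H →* RingAut (MonoidAlgebra k B') :=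
    { toFun := fun h => (MonoidAlgebra.domCongrAut (R := k) (A := k) (c h)).toRingEquiv
      map_one' := by rw [map_one, map_one]; rfl
      map_mul' := by intro h h'; rw [map_mul, map_mul]; rfl }
  have hαof : ∀ (h : H) (b : B'), α h (MonoidAlgebra.of k B' b) = MonoidAlgebra.of k B' (c h b) := by
    intro h b
    show MonoidAlgebra.domCongr k k (c h) (MonoidAlgebra.of k B' b) = _
    simp [MonoidAlgebra.of_apply]
  have hαsmul : ∀ (h : H) (x : k) (r : MonoidAlgebra k B'), α h (x • r) = x • α h r := by
    intro h x r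
    show MonoidAlgebra.domCongr k k (c h) (x • r) = x • MonoidAlgebra.domCongr k k (c h) r
    exact map_smul _ _ _
  let σ : Representation k H V := ρ.comp H.subtype
  have hσ : ∀ (h : H) (r : MonoidAlgebra k B') (v : V), σ h (r • v) = (α h r) • σ h v := by
    intro h r v
    induction r using MonoidAlgebra.induction_on with
    | of b =>
      rw [hsmul, hsmul, hαof, hφof, hφof, hc]
      show ρ (h : A) (ρ (j b) v) = ρ ((h : A) * j b * (h : A)⁻¹) (ρ (h : A) v)
      simp only [← Module.End.mul_apply, ← map_mul]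
      congr 2
      group
    | add x y hx hy =>
      rw [add_smul, map_add, hx, hy, map_add, add_smul]
    | smul x r hr =>
      rw [hαsmul, hsmul, hsmul, map_smul, map_smul, LinearMap.smul_apply, LinearMap.smul_apply,
        map_smul, ← hsmul, ← hsmul, hr]
  have hJ : ∀ r : MonoidAlgebra k B', (∀ 𝔪 : MaximalSpectrum (MonoidAlgebra k B'), r ∈ 𝔪.asIdeal) →
      ∀ v : V, r • v = 0 := by
    intro r hr v
    have h0 : r ∈ Ring.jacobson (MonoidAlgebra k B') := by
      refine Ideal.mem_sInf.mpr fun I hI => ?_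
      exact hr ⟨I, Ideal.isMaximal_def.mpr hI⟩
    rw [IsSemisimpleRing.jacobson_eq_bot] at h0
    rw [(Submodule.mem_bot _).mp h0, zero_smul]
  refine free_of_semilinear hJ α σ hσ ?_
  intro 𝔪 h𝔪 ⟨v, hv0, hv⟩ h hh1 _
  by_contra hcon
  push Not at hcon
  apply hv0
  apply hC
  -- every element of B' is a commutator with h
  have hsurj : Function.Surjective (fun b : B' => c h b * b⁻¹) := by
    apply Finite.injective_iff_surjective.mp
    intro b b' hbb
    have hbb' : c h b * b⁻¹ = c h b' * b'⁻¹ := hbb
    have h1 : c h (b'⁻¹ * b) = b'⁻¹ * b := by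
      rw [map_mul, map_inv]
      calc (c h b')⁻¹ * c h b = (c h b')⁻¹ * (c h b * b⁻¹) * b := by group
        _ = (c h b')⁻¹ * (c h b' * b'⁻¹) * b := by rw [hbb']
        _ = b'⁻¹ * b := by group
    have h2 := hfpf h hh1 _ h1
    exact (inv_mul_eq_one.mp h2).symm
  intro b'
  obtain ⟨b, rfl⟩ := hsurj b'
  have h1 := hv _ (hcon (MonoidAlgebra.of k B' b))
  rw [hαof, sub_smul, hsmul, hsmul, hφof, hφof, sub_eq_zero] at h1
  show ρ (j (c h b * b⁻¹)) v = v
  rw [mul_comm, map_mul, map_mul, Module.End.mul_apply, h1, ← Module.End.mul_apply, ← map_mul,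
    ← map_mul, inv_mul_cancel, map_one, map_one]
  rfl

/-- **Abelian case**: `B` a finite abelian normal subgroup of `A` with `|B|` invertible in `k`,
`H` a finite subgroup acting on `B` without nontrivial fixed points, `C_V(B) = 0`. Then `V` is a
free `k[H]`-module (dimension-count form). -/
theorem free_of_abelian_normal (ρ : Representation k A V) (B H : Subgroup A) [B.Normal]
    [Finite B] [Finite H]
    (hBab : ∀ a ∈ B, ∀ b ∈ B, a * b = b * a)
    (hBk : (Nat.card B : k) ≠ 0)
    (hfpf : ∀ h ∈ H, h ≠ 1 → ∀ b ∈ B, h * b = b * h → b = 1)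
    (hC : ∀ v : V, (∀ b ∈ B, ρ b v = v) → v = 0) :
    ∃ W : Submodule k V, (⨆ h : H, W.map (ρ (h : A))) = ⊤ ∧
      Nat.card H * finrank k W ≤ finrank k V := by
  letI : CommGroup ↥B :=
    { (inferInstance : Group ↥B) with
      mul_comm := fun a b => Subtype.ext (hBab a a.2 b b.2) }
  refine free_of_comm_aux (B' := ↥B) ρ B.subtype H
    ((MulAut.conjNormal (H := B)).comp H.subtype) ?_ hBk ?_ ?_
  · intro h b
    rfl
  · intro h hh1 b hb
    have h1 : (h : A) * (b : A) * (h : A)⁻¹ = (b : A) := congrArg Subtype.val hb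
    have h2 : (h : A) * (b : A) = (b : A) * (h : A) := by
      calc (h : A) * (b : A) = ((h : A) * (b : A) * (h : A)⁻¹) * (h : A) := by group
        _ = (b : A) * (h : A) := by rw [h1]
    have := hfpf h h.2 (fun h0 => hh1 (Subtype.ext h0)) b b.2 h2
    exact Subtype.ext this
  · intro v hv
    exact hC v (fun b hb => hv ⟨b, hb⟩)

end Abelian
end Cfsg.Agent.Lib.H8
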