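import Mathlib
import Cfsg.Agent.Lib.H8.FrobFree3
import Cfsg.Agent.Lib.H1.FpfAction
import Cfsg.Agent.Lib.H4.PGroupFixed

/-!
# Frobenius freeness, part 4: nilpotent kernel by induction through central `q`-subgroups
-/

set_option autoImplicit false
namespace Cfsg.Agent.Lib.H8
open Module

section Tools

variable {k V A : Type*} [Field k] [AddCommGroup V] [Module k V] [Group A]

/-- restriction of a representation to an invariant subspace -/
def subRep (ρ : Representation k A V) (P : Submodule k V) (hP : ∀ a, ∀ v ∈ P, ρ a v ∈ P) :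
    Representation k A ↥P where
  toFun a := (ρ a).restrict (hP a)
  map_one' := by
    apply LinearMap.ext; intro v; apply Subtype.ext
    simp
  map_mul' a b := by
    apply LinearMap.ext; intro v; apply Subtype.ext
    simp

theorem subRep_apply (ρ : Representation k A V) (P : Submodule k V)
    (hP : ∀ a, ∀ v ∈ P, ρ a v ∈ P) (a : A) (v : ↥P) :
    ((subRep ρ P hP a v : ↥P) : V) = ρ a (v : V) := rfl

/-- `P` is a free `k[H]`-module in dimension-count form. -/
def FreeOn (ρ : Representation k A V) (H : Subgroup A) (P : Submodule k V) : Prop :=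
  ∃ W : Submodule k V, (⨆ h : H, W.map (ρ (h : A))) = P ∧
    Nat.card H * finrank k W ≤ finrank k P

theorem freeOn_of_subRep (ρ : Representation k A V) (H : Subgroup A) (P : Submodule k V)
    (hP : ∀ a, ∀ v ∈ P, ρ a v ∈ P)
    (h : ∃ W' : Submodule k ↥P, (⨆ h : H, W'.map (subRep ρ P hP (h : A))) = ⊤ ∧
      Nat.card H * finrank k W' ≤ finrank k ↥P) : FreeOn ρ H P := by
  obtain ⟨W', h1, h2⟩ := h
  refine ⟨W'.map P.subtype, ?_, ?_⟩
  · have : ∀ h : H, (W'.map P.subtype).map (ρ (h : A)) =
        (W'.map (subRep ρ P hP (h : A))).map P.subtype := by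
      intro h
      rw [← Submodule.map_comp, ← Submodule.map_comp]
      congr 1
    simp only [this]
    rw [← Submodule.map_iSup, h1, Submodule.map_top, Submodule.range_subtype]
  · have : finrank k (W'.map P.subtype) = finrank k W' :=
      (Submodule.equivMapOfInjective P.subtype P.injective_subtype W').finrank_eq.symm
    rw [this]
    exact h2

theorem freeOn_top_of_isCompl [FiniteDimensional k V] (ρ : Representation k A V) (H : Subgroup A)
    (P₀ P₁ : Submodule k V) (hsup : P₀ ⊔ P₁ = ⊤) (hinf : P₀ ⊓ P₁ = ⊥)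
    (h₀ : FreeOn ρ H P₀) (h₁ : FreeOn ρ H P₁) : FreeOn ρ H ⊤ := by
  obtain ⟨W₀, h01, h02⟩ := h₀
  obtain ⟨W₁, h11, h12⟩ := h₁
  refine ⟨W₀ ⊔ W₁, ?_, ?_⟩
  · simp only [Submodule.map_sup]
    rw [iSup_sup_eq, h01, h11, hsup]
  · have hd := Submodule.finrank_sup_add_finrank_inf_eq P₀ P₁
    rw [hsup, hinf, finrank_bot, add_zero] at hd
    have hW := Submodule.finrank_add_le_finrank_add_finrank W₀ W₁
    calc Nat.card H * finrank k ↥(W₀ ⊔ W₁)
        ≤ Nat.card H * (finrank k W₀ + finrank k W₁) := Nat.mul_le_mul_left _ hW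
      _ = Nat.card H * finrank k W₀ + Nat.card H * finrank k W₁ := by ring
      _ ≤ finrank k P₀ + finrank k P₁ := Nat.add_le_add h02 h12
      _ = _ := hd.symm

theorem isInternal_of_freeOn_top [FiniteDimensional k V] (ρ : Representation k A V)
    (H : Subgroup A) [Finite H] [DecidableEq H] (h : FreeOn ρ H ⊤) :
    ∃ W : Submodule k V, DirectSum.IsInternal (fun h : H => W.map (ρ (h : A))) := by
  haveI : Fintype H := Fintype.ofFinite _
  obtain ⟨W, h1, h2⟩ := h
  refine ⟨W, isInternal_of_iSup_eq_top_of_finrank_le _ h1 ?_⟩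
  rw [finrank_top] at h2
  calc ∑ h : H, finrank k (W.map (ρ (h : A))) ≤ ∑ _h : H, finrank k W :=
        Finset.sum_le_sum (fun h _ => Submodule.finrank_map_le _ _)
    _ = Nat.card H * finrank k W := by
        rw [Finset.sum_const, Finset.card_univ, smul_eq_mul, Nat.card_eq_fintype_card]
    _ ≤ _ := h2

end Tools

section GroupLemmas

variable {A : Type*} [Group A] [Finite A]

/-- A fixed-point-free element stays fixed-point-free modulo an invariant normal subgroup. -/
theorem fpf_mod_normal (F B : Subgroup A) [F.Normal] [B.Normal] (hBF : B ≤ F)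
    (hsolv : Group.IsSolvable F) (h : A)
    (hcop : (Nat.card (Subgroup.zpowers h)).Coprime (Nat.card F))
    (hfpf : ∀ f ∈ F, h * f = f * h → f = 1) :
    ∀ f ∈ F, h * f * h⁻¹ * f⁻¹ ∈ B → f ∈ B := by
  intro f hf hcomm
  have hCA : Cfsg.Agent.Lib.H1.CoprimeAction (Subgroup.zpowers h) F :=
    { normalizes := by rw [Subgroup.normalizer_eq_top]; exact le_top
      coprime := hcop
      solvable := Or.inr hsolv }
  have hfix : ∀ a ∈ Subgroup.zpowers h, a * f * a⁻¹ * f⁻¹ ∈ B := by
    intro a ha
    let S : Subgroup A := (Subgroup.centralizer ({(QuotientGroup.mk' B f)} : Set (A ⧸ B))).comap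
      (QuotientGroup.mk' B)
    have hS : ∀ x : A, x ∈ S ↔ x * f * x⁻¹ * f⁻¹ ∈ B := by
      intro x
      show (QuotientGroup.mk' B x) ∈ Subgroup.centralizer ({(QuotientGroup.mk' B f)} : Set (A ⧸ B)) ↔ _
      rw [Subgroup.mem_centralizer_singleton_iff, ← (QuotientGroup.eq_one_iff (N := B) _)]
      simp only [QuotientGroup.mk'_apply, QuotientGroup.mk_mul, QuotientGroup.mk_inv]
      constructor
      · intro h1
        rw [h1]; group
      · intro h1
        calc (x : A ⧸ B) * (f : A ⧸ B) = ((x : A ⧸ B) * f * (x : A ⧸ B)⁻¹ * (f : A ⧸ B)⁻¹) * (f * x) := by group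
          _ = f * x := by rw [h1, one_mul]
    have hhS : h ∈ S := (hS h).mpr hcomm
    exact (hS a).mp ((Subgroup.zpowers_le.mpr hhS) ha)
  obtain ⟨c, hc, hcB⟩ := Cfsg.Agent.Lib.H1.coprime_centralizer_quotient hCA hBF
    (by rw [Subgroup.normalizer_eq_top]; exact le_top)
    (by rw [Subgroup.normalizer_eq_top]; exact le_top) hf hfix
  have hc1 : c = 1 := by
    apply hfpf c hc.1
    have := Subgroup.mem_centralizer_iff.mp hc.2 h (Subgroup.mem_zpowers h)
    exact this
  rw [hc1, mul_one] at hcB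
  have := B.inv_mem hcB
  rwa [inv_inv] at this

end GroupLemmas

section Averaging

variable {k V A : Type*} [Field k] [AddCommGroup V] [Module k V] [Group A]

/-- fixed subspace of a subgroup -/
def fixSpace (ρ : Representation k A V) (B : Subgroup A) : Submodule k V where
  carrier := {v | ∀ b ∈ B, ρ b v = v}
  add_mem' := fun {a b} ha hb x hx => by rw [map_add, ha x hx, hb x hx]
  zero_mem' := fun x _ => map_zero _
  smul_mem' := fun c v hv x hx => by rw [map_smul, hv x hx]

theorem mem_fixSpace {ρ : Representation k A V} {B : Subgroup A} {v : V} :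
    v ∈ fixSpace ρ B ↔ ∀ b ∈ B, ρ b v = v := Iff.rfl

/-- the trace operator of a finite subgroup -/
noncomputable def traceOp (ρ : Representation k A V) (B : Subgroup A) [Fintype B] : V →ₗ[k] V :=
  ∑ b : B, ρ (b : A)

theorem traceOp_apply (ρ : Representation k A V) (B : Subgroup A) [Fintype B] (v : V) :
    traceOp ρ B v = ∑ b : B, ρ (b : A) v := by
  simp [traceOp, LinearMap.sum_apply]

theorem fixSpace_invariant (ρ : Representation k A V) (B : Subgroup A) [B.Normal] :
    ∀ a, ∀ v ∈ fixSpace ρ B, ρ a v ∈ fixSpace ρ B := by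
  intro a v hv b hb
  have h1 : a⁻¹ * b * a ∈ B := by
    have := (inferInstance : B.Normal).conj_mem b hb a⁻¹
    simpa using this
  have h2 := hv _ h1
  calc ρ b (ρ a v) = ρ a (ρ (a⁻¹ * b * a) v) := by
        simp only [← Module.End.mul_apply, ← map_mul]
        congr 2; group
    _ = ρ a v := by rw [h2]

theorem traceOp_comm (ρ : Representation k A V) (B : Subgroup A) [B.Normal] [Fintype B] (a : A)
    (v : V) : traceOp ρ B (ρ a v) = ρ a (traceOp ρ B v) := by
  rw [traceOp_apply, traceOp_apply, map_sum]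
  refine Fintype.sum_equiv (MulAut.conjNormal (H := B) a⁻¹).toEquiv _ _ fun b => ?_
  show ρ (b : A) (ρ a v) = ρ a (ρ ((MulAut.conjNormal (H := B) a⁻¹ b : B) : A) v)
  rw [MulAut.conjNormal_apply]
  simp only [← Module.End.mul_apply, ← map_mul]
  congr 2; group

theorem traceOp_mem_fixSpace (ρ : Representation k A V) (B : Subgroup A) [Fintype B] (v : V) :
    traceOp ρ B v ∈ fixSpace ρ B := by
  intro b hb
  rw [traceOp_apply, map_sum]
  refine Fintype.sum_equiv (Equiv.mulLeft (⟨b, hb⟩ : B)) _ _ fun b' => ?_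
  simp only [Equiv.coe_mulLeft, Subgroup.coe_mul, map_mul, Module.End.mul_apply]

theorem traceOp_of_mem_fixSpace (ρ : Representation k A V) (B : Subgroup A) [Fintype B] {v : V}
    (hv : v ∈ fixSpace ρ B) : traceOp ρ B v = (Nat.card B : k) • v := by
  rw [traceOp_apply]
  have : ∀ b : B, ρ (b : A) v = v := fun b => hv b b.2
  simp only [this, Finset.sum_const, Finset.card_univ, Nat.card_eq_fintype_card]
  rw [Nat.cast_smul_eq_nsmul]

theorem fixSpace_inf_ker_traceOp (ρ : Representation k A V) (B : Subgroup A) [Fintype B]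
    (hBk : (Nat.card B : k) ≠ 0) : fixSpace ρ B ⊓ LinearMap.ker (traceOp ρ B) = ⊥ := by
  rw [eq_bot_iff]
  rintro v ⟨hv1, hv2⟩
  rw [SetLike.mem_coe, LinearMap.mem_ker, traceOp_of_mem_fixSpace ρ B hv1] at hv2
  rcases smul_eq_zero.mp hv2 with h | h
  · exact absurd h hBk
  · exact h

theorem fixSpace_sup_ker_traceOp (ρ : Representation k A V) (B : Subgroup A) [Fintype B]
    (hBk : (Nat.card B : k) ≠ 0) : fixSpace ρ B ⊔ LinearMap.ker (traceOp ρ B) = ⊤ := by
  rw [eq_top_iff]
  intro v _
  have h1 : (Nat.card B : k)⁻¹ • traceOp ρ B v ∈ fixSpace ρ B :=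
    Submodule.smul_mem _ _ (traceOp_mem_fixSpace ρ B v)
  have h2 : v - (Nat.card B : k)⁻¹ • traceOp ρ B v ∈ LinearMap.ker (traceOp ρ B) := by
    rw [LinearMap.mem_ker, map_sub, map_smul,
      traceOp_of_mem_fixSpace ρ B (traceOp_mem_fixSpace ρ B v), smul_smul,
      inv_mul_cancel₀ hBk, one_smul, sub_self]
  have : v = (Nat.card B : k)⁻¹ • traceOp ρ B v + (v - (Nat.card B : k)⁻¹ • traceOp ρ B v) := by
    abel
  rw [this]
  exact Submodule.add_mem _ (Submodule.mem_sup_left h1) (Submodule.mem_sup_right h2)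

theorem ker_traceOp_invariant (ρ : Representation k A V) (B : Subgroup A) [B.Normal] [Fintype B] :
    ∀ a, ∀ v ∈ LinearMap.ker (traceOp ρ B), ρ a v ∈ LinearMap.ker (traceOp ρ B) := by
  intro a v hv
  rw [LinearMap.mem_ker] at hv ⊢
  rw [traceOp_comm, hv, map_zero]

end Averaging

end Cfsg.Agent.Lib.H8
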