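import Mathlib
import Cfsg.Agent.Lib.H8.FrobFree4
import Cfsg.Agent.Lib.H1.NilpotentBasic

/-!
# Frobenius freeness, part 5: the main theorem

`frobenius_free`: if a finite group `A` has a normal nilpotent subgroup `F` and a subgroup `H`
acting on `F` without nontrivial fixed points, then every finite-dimensional representation of `A`
(over any field, any characteristic) in which `F` has no nonzero fixed vector is a free
`k[H]`-module: `V = ⨁_{h ∈ H} ρ(h) W`.
-/

set_option autoImplicit false
namespace Cfsg.Agent.Lib.H8
open Module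

section Main

universe u v

variable {k : Type*} [Field k]

/-- existence of a nontrivial abelian normal `q`-subgroup with `q` invertible in `k`, inside a
nilpotent normal subgroup without fixed vectors -/
theorem exists_central_q_subgroup {A : Type u} [Group A] [Finite A] {V : Type v} [AddCommGroup V]
    [Module k V] (ρ : Representation k A V) (F : Subgroup A) [F.Normal]
    (hnil : Group.IsNilpotent F) (hC : ∀ v : V, (∀ f ∈ F, ρ f v = v) → v = 0)
    (hV : ∃ v : V, v ≠ 0) :
    ∃ B : Subgroup A, B.Normal ∧ B ≤ F ∧ B ≠ ⊥ ∧ (∀ a ∈ B, ∀ b ∈ B, a * b = b * a) ∧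
      (Nat.card B : k) ≠ 0 := by
  classical
  obtain ⟨v0, hv0⟩ := hV
  have hF1 : Nat.card F ≠ 1 := by
    intro h1
    apply hv0
    apply hC
    intro f hf
    have : (⟨f, hf⟩ : F) = 1 := by
      haveI := (Nat.card_eq_one_iff_unique.mp h1).1
      exact Subsingleton.elim _ _
    have hf1 : f = 1 := congrArg Subtype.val this
    rw [hf1, map_one]; rfl
  -- find a prime q dividing |F| invertible in k
  have hq : ∃ q : ℕ, q.Prime ∧ q ∣ Nat.card F ∧ (q : k) ≠ 0 := by
    by_contra hno
    push Not at hno
    obtain ⟨p, hp, hpF⟩ := Nat.exists_prime_and_dvd hF1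
    have hpk : (p : k) = 0 := hno p hp hpF
    haveI : Fact p.Prime := ⟨hp⟩
    have hchar : ringChar k = p := by
      have h1 : ringChar k ∣ p := ringChar.dvd hpk
      rcases (Nat.dvd_prime hp).mp h1 with h | h
      · exfalso
        haveI := ringChar.charP k
        rw [h] at this
        exact CharP.char_ne_one k 1 rfl
      · exact h
    haveI : CharP k p := by
      rw [← hchar]; exact ringChar.charP k
    have hpg : IsPGroup p F := by
      have hcard : Nat.card F = p ^ (Nat.card F).primeFactorsList.length := by
        apply Nat.eq_prime_pow_of_unique_prime_dvd Nat.card_pos.ne'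
        intro d hd hdF
        have hdk : (d : k) = 0 := hno d hd hdF
        have h1 : ringChar k ∣ d := ringChar.dvd hdk
        rw [hchar] at h1
        exact ((Nat.prime_dvd_prime_iff_eq hp hd).mp h1).symm
      exact IsPGroup.of_card hcard
    obtain ⟨v, _, hv0', hvfix⟩ := Cfsg.Agent.Lib.H4.exists_fixed_vector hpg
      (ρ.comp F.subtype) ⊤ (fun _ _ _ => Submodule.mem_top)
      (by
        intro h
        apply hv0
        have : v0 ∈ (⊤ : Submodule k V) := Submodule.mem_top
        rw [h] at this
        exact (Submodule.mem_bot k).mp this)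
    apply hv0'
    apply hC
    intro f hf
    exact hvfix ⟨f, hf⟩
  obtain ⟨q, hqp, hqF, hqk⟩ := hq
  haveI : Fact q.Prime := ⟨hqp⟩
  haveI := hnil
  obtain ⟨S⟩ : Nonempty (Sylow q F) := inferInstance
  haveI hSn : (S : Subgroup F).Normal :=
    Sylow.normal_of_normalizerCondition Group.normalizerCondition_of_isNilpotent S
  haveI hSc : (S : Subgroup F).Characteristic := Sylow.characteristic_of_normal S hSn
  have hSne : (S : Subgroup F) ≠ ⊥ := Sylow.ne_bot_of_dvd_card S hqF
  have hBne : (S : Subgroup F) ⊓ Subgroup.center F ≠ ⊥ :=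
    Cfsg.Agent.Lib.H1.normal_inf_center_ne_bot (S : Subgroup F) hSne
  refine ⟨((S : Subgroup F) ⊓ Subgroup.center F).map F.subtype, inferInstance,
    Subgroup.map_subtype_le _, ?_, ?_, ?_⟩
  · intro h
    apply hBne
    exact (Subgroup.map_eq_bot_iff_of_injective _ F.subtype_injective).mp h
  · rintro _ ⟨a, ha, rfl⟩ _ ⟨b, hb, rfl⟩
    have := Subgroup.mem_center_iff.mp ha.2 b
    have h2 := congrArg Subtype.val this
    simpa using h2.symm
  · have hcard : Nat.card (((S : Subgroup F) ⊓ Subgroup.center F).map F.subtype) =
        Nat.card ((S : Subgroup F) ⊓ Subgroup.center F : Subgroup F) :=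
      Subgroup.card_map_of_injective F.subtype_injective
    have hpg : IsPGroup q ((S : Subgroup F) ⊓ Subgroup.center F : Subgroup F) :=
      S.isPGroup'.to_le inf_le_left
    obtain ⟨m, hm⟩ := IsPGroup.iff_card.mp hpg
    rw [hcard, hm, Nat.cast_pow]
    exact pow_ne_zero _ hqk

theorem free_of_nilpotent_aux (n : ℕ) :
    ∀ {A : Type u} [Group A] [Finite A] {V : Type v} [AddCommGroup V] [Module k V]
      [FiniteDimensional k V] (ρ : Representation k A V) (F H : Subgroup A) [F.Normal],
      Nat.card F ≤ n → Group.IsNilpotent F →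
      (∀ h ∈ H, h ≠ 1 → ∀ f ∈ F, h * f = f * h → f = 1) →
      (∀ v : V, (∀ f ∈ F, ρ f v = v) → v = 0) →
      FreeOn ρ H ⊤ := by
  induction n with
  | zero =>
    intro A _ _ V _ _ _ ρ F H _ hcard
    exact absurd hcard (by have := Nat.card_pos (α := F); omega)
  | succ n ih =>
    intro A _ _ V _ _ _ ρ F H _ hcard hnil hfpf hC
    classical
    by_cases hV : ∃ v : V, v ≠ 0
    swap
    · push Not at hV
      refine ⟨⊥, ?_, by simp⟩
      rw [eq_top_iff]
      intro v _
      rw [hV v]; exact Submodule.zero_mem _
    obtain ⟨B, hBn, hBF, hBne, hBab, hBk⟩ := exists_central_q_subgroup ρ F hnil hC hV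
    haveI := hBn
    haveI : Fintype B := Fintype.ofFinite _
    -- H ∩ F = 1
    have hHF : ∀ x ∈ H, x ∈ F → x = 1 := by
      intro x hxH hxF
      by_contra hx1
      exact hx1 (hfpf x hxH hx1 x hxF rfl)
    -- the two summands
    have hsup := fixSpace_sup_ker_traceOp ρ B hBk
    have hinf := fixSpace_inf_ker_traceOp ρ B hBk
    -- V₁ = ker of trace: abelian case
    have h₁ : FreeOn ρ H (LinearMap.ker (traceOp ρ B)) := by
      apply freeOn_of_subRep ρ H _ (ker_traceOp_invariant ρ B)
      apply free_of_abelian_normal (subRep ρ _ (ker_traceOp_invariant ρ B)) B H hBab hBk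
      · intro h hh hh1 b hb hcomm
        exact hfpf h hh hh1 b (hBF hb) hcomm
      · intro v hv
        have h1 : (v : V) ∈ fixSpace ρ B ⊓ LinearMap.ker (traceOp ρ B) := by
          refine ⟨fun b hb => ?_, v.2⟩
          exact congrArg Subtype.val (hv b hb)
        rw [hinf] at h1
        exact Subtype.ext ((Submodule.mem_bot k).mp h1)
    -- V₀ = fixed space of B: quotient group
    have h₀ : FreeOn ρ H (fixSpace ρ B) := by
      apply freeOn_of_subRep ρ H _ (fixSpace_invariant ρ B)
      set ρ₀' := subRep ρ _ (fixSpace_invariant ρ B) with hρ₀'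
      have hker : B ≤ ρ₀'.ker := by
        intro b hb
        rw [MonoidHom.mem_ker]
        apply LinearMap.ext
        intro v
        apply Subtype.ext
        exact v.2 b hb
      let ρ₀ : Representation k (A ⧸ B) ↥(fixSpace ρ B) := QuotientGroup.lift B ρ₀' hker
      have hρ₀ : ∀ a : A, ρ₀ (QuotientGroup.mk' B a) = ρ₀' a := fun a => rfl
      haveI : (F.map (QuotientGroup.mk' B)).Normal :=
        Subgroup.Normal.map inferInstance _ (QuotientGroup.mk'_surjective B)
      have hcop : (Nat.card H).Coprime (Nat.card F) := by
        apply Cfsg.Agent.Lib.H1.coprime_of_fpf (A := H) (V := F)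
          (by rw [Subgroup.normalizer_eq_top]; exact le_top)
        intro a ha ha1
        rw [eq_bot_iff]
        rintro x ⟨hxF, hxC⟩
        rw [Subgroup.mem_bot]
        apply hfpf a ha ha1 x hxF
        exact (Subgroup.mem_centralizer_iff.mp hxC a rfl)
      have hsolv : Group.IsSolvable F := by
        haveI := hnil
        infer_instance
      have key := ih (A := A ⧸ B) (V := ↥(fixSpace ρ B)) ρ₀ (F.map (QuotientGroup.mk' B))
        (H.map (QuotientGroup.mk' B)) ?_ ?_ ?_ ?_
      · obtain ⟨W, hW1, hW2⟩ := key
        refine ⟨W, ?_, ?_⟩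
        · rw [eq_top_iff, ← hW1]
          apply iSup_le
          rintro ⟨x, hx⟩
          obtain ⟨h, hh, rfl⟩ := hx
          exact le_iSup (fun h : H => W.map (ρ₀' (h : A))) ⟨h, hh⟩
        · rw [finrank_top] at hW2
          refine le_trans (Nat.mul_le_mul_right _ ?_) hW2
          apply Nat.card_le_card_of_injective
            (fun h : H => (⟨QuotientGroup.mk' B (h : A), Subgroup.mem_map_of_mem _ h.2⟩ :
              H.map (QuotientGroup.mk' B)))
          intro h h' hhh
          have h1 : QuotientGroup.mk' B (h : A) = QuotientGroup.mk' B (h' : A) :=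
            congrArg Subtype.val hhh
          have h2 : (h : A)⁻¹ * (h' : A) ∈ B := QuotientGroup.eq.mp h1
          have h3 := hHF _ (H.mul_mem (H.inv_mem h.2) h'.2) (hBF h2)
          exact Subtype.ext (inv_mul_eq_one.mp h3)
      · -- card
        have hlt : Nat.card (F.map (QuotientGroup.mk' B)) < Nat.card F := by
          haveI : Fintype F := Fintype.ofFinite _
          haveI : Fintype (F.map (QuotientGroup.mk' B)) := Fintype.ofFinite _
          rw [Nat.card_eq_fintype_card, Nat.card_eq_fintype_card]
          apply Fintype.card_lt_of_surjective_not_injective _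
            ((QuotientGroup.mk' B).subgroupMap_surjective F)
          intro hinj
          apply hBne
          rw [eq_bot_iff]
          intro b hb
          have h1 : (QuotientGroup.mk' B).subgroupMap F ⟨b, hBF hb⟩ =
              (QuotientGroup.mk' B).subgroupMap F 1 := by
            apply Subtype.ext
            show QuotientGroup.mk' B b = QuotientGroup.mk' B 1
            rw [map_one]
            exact (QuotientGroup.eq_one_iff b).mpr hb
          have := hinj h1
          exact congrArg Subtype.val this
        omega
      · haveI := hnil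
        exact nilpotent_of_surjective _ ((QuotientGroup.mk' B).subgroupMap_surjective F)
      · rintro _ ⟨h, hh, rfl⟩ hne _ ⟨f, hf, rfl⟩ hcomm
        have hh1 : h ≠ 1 := by
          intro h1; apply hne; rw [h1, map_one]
        have hcomm' : h * f * h⁻¹ * f⁻¹ ∈ B := by
          rw [← QuotientGroup.eq_one_iff]
          have : (QuotientGroup.mk' B h) * (QuotientGroup.mk' B f) =
            (QuotientGroup.mk' B f) * (QuotientGroup.mk' B h) := hcomm
          simp only [QuotientGroup.mk'_apply] at this
          simp only [QuotientGroup.mk_mul, QuotientGroup.mk_inv, this]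
          group
        have hfB := fpf_mod_normal F B hBF hsolv h
          (Nat.Coprime.coprime_dvd_left
            (Subgroup.card_dvd_of_le (Subgroup.zpowers_le.mpr hh)) hcop)
          (fun f' hf' hc => hfpf h hh hh1 f' hf' hc) f hf hcomm'
        exact (QuotientGroup.eq_one_iff f).mpr hfB
      · intro v hv
        apply Subtype.ext
        apply hC
        intro f hf
        have := hv _ (Subgroup.mem_map_of_mem (QuotientGroup.mk' B) hf)
        rw [hρ₀] at this
        exact congrArg Subtype.val this
    exact freeOn_top_of_isCompl ρ H _ _ hsup hinf h₀ h₁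

/-- **Freeness theorem for Frobenius-type actions** (dimension-count form). `A` a finite group,
`F` a normal nilpotent subgroup, `H` a subgroup acting on `F` without nontrivial fixed points,
`ρ` a finite-dimensional representation of `A` over an arbitrary field in which `F` fixes no
nonzero vector. Then `V` is a free `k[H]`-module. -/
theorem freeOn_top_of_nilpotent {A : Type u} [Group A] [Finite A] {V : Type v} [AddCommGroup V]
    [Module k V] [FiniteDimensional k V] (ρ : Representation k A V) (F H : Subgroup A) [F.Normal]
    (hnil : Group.IsNilpotent F)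
    (hfpf : ∀ h ∈ H, h ≠ 1 → ∀ f ∈ F, h * f = f * h → f = 1)
    (hC : ∀ v : V, (∀ f ∈ F, ρ f v = v) → v = 0) : FreeOn ρ H ⊤ :=
  free_of_nilpotent_aux (Nat.card F) ρ F H le_rfl hnil hfpf hC

/-- **Freeness theorem for Frobenius-type actions**: internal direct sum form. -/
theorem frobenius_free {A : Type u} [Group A] [Finite A] {V : Type v} [AddCommGroup V]
    [Module k V] [FiniteDimensional k V] (ρ : Representation k A V) (F H : Subgroup A) [F.Normal]
    [DecidableEq H] (hnil : Group.IsNilpotent F)
    (hfpf : ∀ h ∈ H, h ≠ 1 → ∀ f ∈ F, h * f = f * h → f = 1)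
    (hC : ∀ v : V, (∀ f ∈ F, ρ f v = v) → v = 0) :
    ∃ W : Submodule k V, DirectSum.IsInternal (fun h : H => W.map (ρ (h : A))) :=
  isInternal_of_freeOn_top ρ H (freeOn_top_of_nilpotent ρ F H hnil hfpf hC)

end Main

end Cfsg.Agent.Lib.H8
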