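import Mathlib
import Cfsg.Agent.Lib.H8.FrobFree5
set_option autoImplicit false
namespace Cfsg.Agent.Lib.H8
open Module

section FixedPoints

variable {k V A : Type*} [Field k] [AddCommGroup V] [Module k V] [FiniteDimensional k V] [Group A]

/-- In a free `k[H]`-module, the fixed points of `H` have dimension `dim V / |H|`. -/
theorem finrank_fixSpace_of_freeOn (ρ : Representation k A V) (H : Subgroup A) [Finite H]
    (h : FreeOn ρ H ⊤) : Nat.card H * finrank k (fixSpace ρ H) = finrank k V := by
  classical
  haveI : Fintype H := Fintype.ofFinite _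
  obtain ⟨W, hW1, hW2⟩ := h
  rw [finrank_top] at hW2
  let Ψ : (H → W) →ₗ[k] V :=
    ∑ h : H, (ρ (h : A)).comp (W.subtype.comp (LinearMap.proj h))
  have hΨ : ∀ w : H → W, Ψ w = ∑ h : H, ρ (h : A) ((w h : W) : V) := by
    intro w
    simp only [Ψ, LinearMap.sum_apply, LinearMap.comp_apply, LinearMap.proj_apply,
      Submodule.subtype_apply]
  have hsurj : Function.Surjective Ψ := by
    rw [← LinearMap.range_eq_top, eq_top_iff, ← hW1]
    apply iSup_le
    intro h
    rintro _ ⟨w₀, hw₀, rfl⟩
    refine ⟨Pi.single h ⟨w₀, hw₀⟩, ?_⟩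
    rw [hΨ, Finset.sum_eq_single h]
    · rw [Pi.single_eq_same]
    · intro h' _ hne
      rw [Pi.single_eq_of_ne hne]
      simp
    · intro hh; exact absurd (Finset.mem_univ h) hh
  have hfr : finrank k (H → W) = Nat.card H * finrank k W := by
    rw [Module.finrank_pi_fintype, Finset.sum_const, Finset.card_univ, smul_eq_mul,
      Nat.card_eq_fintype_card]
  have hfr2 : finrank k V ≤ finrank k (H → W) := LinearMap.finrank_le_finrank_of_surjective hsurj
  have hfreq : finrank k (H → W) = finrank k V := by omega
  have hinj : Function.Injective Ψ :=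
    (LinearMap.injective_iff_surjective_of_finrank_eq_finrank hfreq).mpr hsurj
  let Δ : W →ₗ[k] (H → W) := LinearMap.pi (fun _ => LinearMap.id)
  have hΔ : ∀ w h, Δ w h = w := fun w h => rfl
  have hΔinj : Function.Injective Δ := by
    intro w w' hww
    have := congrFun hww 1
    exact this
  have hrange : fixSpace ρ H = LinearMap.range (Ψ.comp Δ) := by
    apply le_antisymm
    · intro v hv
      obtain ⟨w, rfl⟩ := hsurj v
      have hshift : ∀ h' : H, (fun h => w (h'⁻¹ * h)) = w := by
        intro h'
        apply hinj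
        rw [hΨ]
        have h1 : ∑ h : H, ρ (h : A) ((w (h'⁻¹ * h) : W) : V) = ρ (h' : A) (Ψ w) := by
          rw [hΨ, map_sum]
          refine Fintype.sum_equiv (Equiv.mulLeft h'⁻¹) _ _ fun h => ?_
          simp only [Equiv.coe_mulLeft, ← Module.End.mul_apply, ← map_mul]
          congr 2
          simp
        rw [h1]
        exact hv h' h'.2
      refine ⟨w 1, ?_⟩
      rw [LinearMap.comp_apply]
      congr 1
      funext h
      rw [hΔ]
      have := congrFun (hshift h) h
      simp only [inv_mul_cancel] at this
      exact this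
    · rintro _ ⟨w, rfl⟩
      intro h' hh'
      rw [LinearMap.comp_apply, hΨ, map_sum]
      refine Fintype.sum_equiv (Equiv.mulLeft (⟨h', hh'⟩ : H)) _ _ fun h => ?_
      simp only [Equiv.coe_mulLeft, hΔ, Subgroup.coe_mul, map_mul, Module.End.mul_apply]
  have hfix : finrank k (fixSpace ρ H) = finrank k W := by
    rw [hrange]
    exact LinearMap.finrank_range_of_inj (hinj.comp hΔinj)
  rw [hfix, ← hfr, hfreq]

end FixedPoints
end Cfsg.Agent.Lib.H8
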