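import Mathlib
import Cfsg.Agent.Lib.H8.FrobFix
import Cfsg.Agent.Lib.H17.ElemAbGL
set_option autoImplicit false
namespace Cfsg.Agent.Lib.H8
open Module

section ElemAb

/-- **Fixed points of a Frobenius complement on an elementary abelian group** (abstract action):
`Γ` finite with normal nilpotent `U₀` and `E₀` acting fixed-point-freely on `U₀`; `Γ` acts on a
finite abelian group `M` of exponent `p` with `C_M(U₀) = 1`. Then `|M| = |C_M(E₀)|^|E₀|`. -/
theorem card_eq_card_fixed_pow {p : ℕ} [Fact p.Prime] {M : Type*} [CommGroup M] [Finite M]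
    [Module (ZMod p) (Additive M)] {Γ : Type*} [Group Γ] [Finite Γ]
    (φ : Γ →* MulAut M) (U₀ E₀ : Subgroup Γ) [U₀.Normal] (hnil : Group.IsNilpotent U₀)
    (hfpf : ∀ e ∈ E₀, e ≠ 1 → ∀ u ∈ U₀, e * u = u * e → u = 1)
    (hC : ∀ m : M, (∀ u ∈ U₀, φ u m = m) → m = 1) :
    Nat.card M = Nat.card {m : M // ∀ e ∈ E₀, φ e m = m} ^ Nat.card E₀ := by
  haveI : Finite (Additive M) := inferInstanceAs (Finite M)
  haveI : Module.Finite (ZMod p) (Additive M) := Module.Finite.of_finite
  let ρ : Representation (ZMod p) Γ (Additive M) := Cfsg.Agent.Lib.H17.autToEnd (p := p) φ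
  have hρ : ∀ (g : Γ) (x : Additive M), ρ g x = Additive.ofMul (φ g (Additive.toMul x)) :=
    fun g x => rfl
  have hfree : FreeOn ρ E₀ ⊤ := by
    apply freeOn_top_of_nilpotent ρ U₀ E₀ hnil hfpf
    intro v hv
    have := hC (Additive.toMul v) (fun u hu => by
      have h1 := hv u hu
      rw [hρ] at h1
      exact congrArg Additive.toMul h1)
    exact congrArg Additive.ofMul this
  have hdim := finrank_fixSpace_of_freeOn ρ E₀ hfree
  have hcardV : Nat.card (Additive M) = p ^ finrank (ZMod p) (Additive M) := by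
    have := Module.natCard_eq_pow_finrank (K := ZMod p) (V := Additive M)
    rwa [Nat.card_zmod] at this
  have hcardF : Nat.card (fixSpace ρ E₀) = p ^ finrank (ZMod p) (fixSpace ρ E₀) := by
    have := Module.natCard_eq_pow_finrank (K := ZMod p) (V := fixSpace ρ E₀)
    rwa [Nat.card_zmod] at this
  have hbij : Nat.card {m : M // ∀ e ∈ E₀, φ e m = m} = Nat.card (fixSpace ρ E₀) := by
    apply Nat.card_congr
    refine
      { toFun := fun m => ⟨Additive.ofMul m.1, fun e he => ?_⟩
        invFun := fun v => ⟨Additive.toMul v.1, fun e he => ?_⟩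
        left_inv := fun m => rfl
        right_inv := fun v => rfl }
    · rw [hρ]
      exact congrArg Additive.ofMul (m.2 e he)
    · have := v.2 e he
      rw [hρ] at this
      exact congrArg Additive.toMul this
  have hM : Nat.card M = Nat.card (Additive M) := rfl
  rw [hM, hcardV, hbij, hcardF, ← pow_mul, ← hdim, mul_comm]

end ElemAb
end Cfsg.Agent.Lib.H8
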