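import Mathlib
import Cfsg.Agent.Lib.H1.CoprimeAction
set_option autoImplicit false
namespace Cfsg.Agent.Lib.H8

section Quot

variable {X : Type*} [Group X]

theorem card_map_mul_card_ker_inf {G' : Type*} [Group G'] (f : X →* G') (K : Subgroup X) :
    Nat.card (K.map f) * Nat.card ↥(f.ker ⊓ K) = Nat.card K := by
  rw [← Subgroup.relIndex_ker]
  have h1 : Nat.card ↥(f.ker ⊓ K) = Nat.card ↥((f.ker ⊓ K).subgroupOf K) :=
    (Nat.card_congr (Subgroup.subgroupOfEquivOfLe (inf_le_right : f.ker ⊓ K ≤ K)).toEquiv).symm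
  rw [h1, Subgroup.inf_subgroupOf_right, Subgroup.relIndex, mul_comm]
  exact Subgroup.card_mul_index _

/-- centralizers in a quotient under coprime action -/
theorem card_centralizer_quotient [Finite X] (H M D : Subgroup X) [H.Normal] [M.Normal]
    (hMH : M ≤ H) (hsolv : Group.IsSolvable H) (hcop : (Nat.card D).Coprime (Nat.card H)) :
    Nat.card ↥(H.map (QuotientGroup.mk' M) ⊓
        Subgroup.centralizer ((D.map (QuotientGroup.mk' M) : Subgroup (X ⧸ M)) : Set (X ⧸ M))) *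
      Nat.card ↥(M ⊓ Subgroup.centralizer (D : Set X)) =
    Nat.card ↥(H ⊓ Subgroup.centralizer (D : Set X)) := by
  have hCA : Cfsg.Agent.Lib.H1.CoprimeAction D H :=
    { normalizes := by rw [Subgroup.normalizer_eq_top]; exact le_top
      coprime := hcop
      solvable := Or.inr hsolv }
  have hmap : (H ⊓ Subgroup.centralizer (D : Set X)).map (QuotientGroup.mk' M) =
      H.map (QuotientGroup.mk' M) ⊓
        Subgroup.centralizer ((D.map (QuotientGroup.mk' M) : Subgroup (X ⧸ M)) : Set (X ⧸ M)) := by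
    apply le_antisymm
    · rintro _ ⟨x, ⟨hxH, hxC⟩, rfl⟩
      refine ⟨Subgroup.mem_map_of_mem _ hxH, ?_⟩
      show (QuotientGroup.mk' M) x ∈ Subgroup.centralizer _
      rw [Subgroup.mem_centralizer_iff]
      rintro _ ⟨d, hd, rfl⟩
      have hxC' : x ∈ Subgroup.centralizer (D : Set X) := hxC
      rw [← map_mul, ← map_mul, Subgroup.mem_centralizer_iff.mp hxC' d hd]
    · rintro _ ⟨⟨x, hxH, rfl⟩, hxC⟩
      have hxC' : (QuotientGroup.mk' M) x ∈ Subgroup.centralizer
          ((D.map (QuotientGroup.mk' M) : Subgroup (X ⧸ M)) : Set (X ⧸ M)) := hxC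
      have hfix : ∀ a ∈ D, a * x * a⁻¹ * x⁻¹ ∈ M := by
        intro a ha
        rw [← QuotientGroup.eq_one_iff]
        have h1 := Subgroup.mem_centralizer_iff.mp hxC' (QuotientGroup.mk' M a)
          (Subgroup.mem_map_of_mem _ ha)
        simp only [QuotientGroup.mk'_apply] at h1
        simp only [QuotientGroup.mk_mul, QuotientGroup.mk_inv, h1]
        group
      obtain ⟨c, hc, hcM⟩ := Cfsg.Agent.Lib.H1.coprime_centralizer_quotient hCA hMH
        (by rw [Subgroup.normalizer_eq_top]; exact le_top)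
        (by rw [Subgroup.normalizer_eq_top]; exact le_top) hxH hfix
      refine ⟨c, hc, ?_⟩
      exact (QuotientGroup.eq.mpr (by
        have := M.inv_mem hcM
        simpa [mul_inv_rev] using this))
  rw [← hmap]
  have h1 := card_map_mul_card_ker_inf (QuotientGroup.mk' M) (H ⊓ Subgroup.centralizer (D : Set X))
  rw [QuotientGroup.ker_mk'] at h1
  have h2 : M ⊓ (H ⊓ Subgroup.centralizer (D : Set X)) = M ⊓ Subgroup.centralizer (D : Set X) := by
    rw [← inf_assoc, inf_eq_left.mpr hMH]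
  rw [h2] at h1
  exact h1

end Quot

section FrobAct

variable {X : Type*} [Group X]

/-- A Frobenius-type group `UE` acting coprimely on a solvable group `H` inside `X`. -/
structure FrobAct (U E H : Subgroup X) : Prop where
  hU1 : U ≠ ⊥
  hE1 : E ≠ ⊥
  hUE : U ⊓ E = ⊥
  hUn : ∀ e ∈ E, ∀ u ∈ U, e * u * e⁻¹ ∈ U
  hfpf : ∀ e ∈ E, e ≠ 1 → ∀ u ∈ U, e * u = u * e → u = 1
  hHn : ∀ x ∈ U ⊔ E, ∀ h ∈ H, x * h * x⁻¹ ∈ H
  hdisj : H ⊓ (U ⊔ E) = ⊥
  hsolv : Group.IsSolvable H
  hcop : Nat.Coprime (Nat.card H) (Nat.card ↥(U ⊔ E))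

/-- The fixed point formula. -/
def FrobFormula (U E H : Subgroup X) : Prop :=
  Nat.card ↥(H ⊓ Subgroup.centralizer ((U ⊔ E : Subgroup X) : Set X)) ^ Nat.card E * Nat.card H =
    Nat.card ↥(H ⊓ Subgroup.centralizer (E : Set X)) ^ Nat.card E *
      Nat.card ↥(H ⊓ Subgroup.centralizer (U : Set X))

theorem le_normalizer_of_conj_mem {K N : Subgroup X} (h : ∀ x ∈ K, ∀ n ∈ N, x * n * x⁻¹ ∈ N) :
    K ≤ Subgroup.normalizer (N : Set X) := by
  intro x hx
  rw [Subgroup.mem_normalizer_iff]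
  intro n
  constructor
  · exact h x hx n
  · intro hn
    have := h x⁻¹ (K.inv_mem hx) _ hn
    have e : x⁻¹ * (x * n * x⁻¹) * x⁻¹⁻¹ = n := by group
    rwa [e] at this

namespace FrobAct

variable {U E H : Subgroup X}

theorem sup_le_normalizer_U (h : FrobAct U E H) : U ⊔ E ≤ Subgroup.normalizer (U : Set X) :=
  sup_le Subgroup.le_normalizer (le_normalizer_of_conj_mem h.hUn)

theorem conj_mem_U (h : FrobAct U E H) {g u : X} (hg : g ∈ U ⊔ E) (hu : u ∈ U) :
    g * u * g⁻¹ ∈ U :=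
  (Subgroup.mem_normalizer_iff.mp (h.sup_le_normalizer_U hg) u).mp hu

theorem sup_le_normalizer_H (h : FrobAct U E H) : U ⊔ E ≤ Subgroup.normalizer (H : Set X) :=
  le_normalizer_of_conj_mem h.hHn

/-- restriction to an invariant subgroup of `H` -/
theorem sub (h : FrobAct U E H) [Finite X] {M : Subgroup X} (hMH : M ≤ H)
    (hMn : ∀ x ∈ U ⊔ E, ∀ m ∈ M, x * m * x⁻¹ ∈ M) : FrobAct U E M where
  hU1 := h.hU1
  hE1 := h.hE1
  hUE := h.hUE
  hUn := h.hUn
  hfpf := h.hfpf
  hHn := hMn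
  hdisj := by
    rw [eq_bot_iff, ← h.hdisj]
    exact inf_le_inf_right _ hMH
  hsolv := by
    haveI := h.hsolv
    exact Group.isSolvable_of_isSolvable_injective (Subgroup.inclusion_injective hMH)
  hcop := Nat.Coprime.coprime_dvd_left (Subgroup.card_dvd_of_le hMH) h.hcop

/-- elements of `U ⊔ E` that die in the quotient by `M ≤ H` are trivial -/
theorem eq_one_of_mk_eq_one (h : FrobAct U E H) {M : Subgroup X} [M.Normal] (hMH : M ≤ H)
    {g : X} (hg : g ∈ U ⊔ E) (hg1 : QuotientGroup.mk' M g = 1) : g = 1 := by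
  have h1 : g ∈ M := (QuotientGroup.eq_one_iff g).mp hg1
  have h2 : g ∈ H ⊓ (U ⊔ E) := ⟨hMH h1, hg⟩
  rw [h.hdisj] at h2
  exact Subgroup.mem_bot.mp h2

/-- passage to the quotient by an invariant normal subgroup of `H` -/
theorem quot (h : FrobAct U E H) [Finite X] [H.Normal] {M : Subgroup X} [M.Normal] (hMH : M ≤ H) :
    FrobAct (U.map (QuotientGroup.mk' M)) (E.map (QuotientGroup.mk' M))
      (H.map (QuotientGroup.mk' M)) where
  hU1 := by
    intro h0
    apply h.hU1
    rw [eq_bot_iff]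
    intro u hu
    have h1 : QuotientGroup.mk' M u ∈ U.map (QuotientGroup.mk' M) := Subgroup.mem_map_of_mem _ hu
    rw [h0, Subgroup.mem_bot] at h1
    exact Subgroup.mem_bot.mpr (h.eq_one_of_mk_eq_one hMH (Subgroup.mem_sup_left hu) h1)
  hE1 := by
    intro h0
    apply h.hE1
    rw [eq_bot_iff]
    intro u hu
    have h1 : QuotientGroup.mk' M u ∈ E.map (QuotientGroup.mk' M) := Subgroup.mem_map_of_mem _ hu
    rw [h0, Subgroup.mem_bot] at h1
    exact Subgroup.mem_bot.mpr (h.eq_one_of_mk_eq_one hMH (Subgroup.mem_sup_right hu) h1)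
  hUE := by
    rw [eq_bot_iff]
    rintro x ⟨⟨u, hu, rfl⟩, ⟨e, he, hue⟩⟩
    have h1 : QuotientGroup.mk' M (u⁻¹ * e) = 1 := by
      rw [map_mul, map_inv, hue, inv_mul_cancel]
    have h2 := h.eq_one_of_mk_eq_one hMH
      ((U ⊔ E).mul_mem ((U ⊔ E).inv_mem (Subgroup.mem_sup_left hu)) (Subgroup.mem_sup_right he)) h1
    have h3 : u = e := by
      have := inv_mul_eq_one.mp h2
      exact this
    have h4 : u ∈ U ⊓ E := ⟨hu, h3 ▸ he⟩
    rw [h.hUE, Subgroup.mem_bot] at h4
    rw [Subgroup.mem_bot, h4, map_one]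
  hUn := by
    rintro _ ⟨e, he, rfl⟩ _ ⟨u, hu, rfl⟩
    rw [← map_inv, ← map_mul, ← map_mul]
    exact Subgroup.mem_map_of_mem _ (h.hUn e he u hu)
  hfpf := by
    rintro _ ⟨e, he, rfl⟩ hne _ ⟨u, hu, rfl⟩ hcomm
    have he1 : e ≠ 1 := by
      intro h1; apply hne; rw [h1, map_one]
    have hmem : e * u * e⁻¹ * u⁻¹ ∈ U := U.mul_mem (h.hUn e he u hu) (U.inv_mem hu)
    have h1 : QuotientGroup.mk' M (e * u * e⁻¹ * u⁻¹) = 1 := by
      rw [map_mul, map_mul, map_mul, map_inv, map_inv, hcomm]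
      group
    have h2 := h.eq_one_of_mk_eq_one hMH (Subgroup.mem_sup_left hmem) h1
    have h3 : e * u = u * e := by
      calc e * u = (e * u * e⁻¹ * u⁻¹) * (u * e) := by group
        _ = u * e := by rw [h2, one_mul]
    rw [h.hfpf e he he1 u hu h3, map_one]
  hHn := by
    rw [← Subgroup.map_sup]
    rintro _ ⟨g, hg, rfl⟩ _ ⟨x, hx, rfl⟩
    rw [← map_inv, ← map_mul, ← map_mul]
    exact Subgroup.mem_map_of_mem _ (h.hHn g hg x hx)
  hdisj := by
    rw [← Subgroup.map_sup, eq_bot_iff]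
    rintro x ⟨⟨y, hy, rfl⟩, ⟨g, hg, hgy⟩⟩
    have h1 : y⁻¹ * g ∈ M := QuotientGroup.eq.mp hgy.symm
    have h2 : g ∈ H := by
      have := H.mul_mem hy (hMH h1)
      rwa [mul_inv_cancel_left] at this
    have h3 : g ∈ H ⊓ (U ⊔ E) := ⟨h2, hg⟩
    rw [h.hdisj, Subgroup.mem_bot] at h3
    rw [Subgroup.mem_bot, ← hgy, h3, map_one]
  hsolv := by
    haveI := h.hsolv
    exact solvable_of_surjective ((QuotientGroup.mk' M).subgroupMap_surjective H)
  hcop := by
    rw [← Subgroup.map_sup]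
    exact Nat.Coprime.coprime_dvd_left (Subgroup.card_map_dvd _ _)
      (Nat.Coprime.coprime_dvd_right (Subgroup.card_map_dvd _ _) h.hcop)

end FrobAct

/-- The formula for `H` follows from the formula for an invariant normal subgroup `M` and for
the quotient `H / M`. -/
theorem FrobFormula.of_quot {U E H : Subgroup X} (h : FrobAct U E H) [Finite X] [H.Normal]
    {M : Subgroup X} [M.Normal] (hMH : M ≤ H) (hM : FrobFormula U E M)
    (hQ : FrobFormula (U.map (QuotientGroup.mk' M)) (E.map (QuotientGroup.mk' M))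
      (H.map (QuotientGroup.mk' M))) : FrobFormula U E H := by
  have hcopUE : (Nat.card ↥(U ⊔ E)).Coprime (Nat.card H) := h.hcop.symm
  have hcopE : (Nat.card E).Coprime (Nat.card H) :=
    Nat.Coprime.coprime_dvd_left (Subgroup.card_dvd_of_le le_sup_right) hcopUE
  have hcopU : (Nat.card U).Coprime (Nat.card H) :=
    Nat.Coprime.coprime_dvd_left (Subgroup.card_dvd_of_le le_sup_left) hcopUE
  have hA := card_centralizer_quotient H M (U ⊔ E) hMH h.hsolv hcopUE
  have hB := card_centralizer_quotient H M E hMH h.hsolv hcopE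
  have hC := card_centralizer_quotient H M U hMH h.hsolv hcopU
  rw [Subgroup.map_sup] at hA
  have hEcard : Nat.card (E.map (QuotientGroup.mk' M)) = Nat.card E := by
    have h1 := card_map_mul_card_ker_inf (QuotientGroup.mk' M) E
    rw [QuotientGroup.ker_mk'] at h1
    have h2 : M ⊓ E = ⊥ := by
      rw [eq_bot_iff, ← h.hdisj]
      exact inf_le_inf hMH le_sup_right
    rw [h2, Subgroup.card_bot, mul_one] at h1
    exact h1
  have hHcard : Nat.card (H.map (QuotientGroup.mk' M)) * Nat.card M = Nat.card H := by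
    have h1 := card_map_mul_card_ker_inf (QuotientGroup.mk' M) H
    rw [QuotientGroup.ker_mk', inf_eq_left.mpr hMH] at h1
    exact h1
  unfold FrobFormula at hM hQ ⊢
  rw [hEcard] at hQ
  rw [← hA, ← hB, ← hC, ← hHcard, mul_pow, mul_pow]
  calc _ = (Nat.card ↥(H.map (QuotientGroup.mk' M) ⊓ Subgroup.centralizer
            ((U.map (QuotientGroup.mk' M) ⊔ E.map (QuotientGroup.mk' M) : Subgroup (X ⧸ M)) :
              Set (X ⧸ M))) ^ Nat.card E * Nat.card (H.map (QuotientGroup.mk' M))) *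
        (Nat.card ↥(M ⊓ Subgroup.centralizer ((U ⊔ E : Subgroup X) : Set X)) ^ Nat.card E *
          Nat.card M) := by ring
    _ = _ := by rw [hQ, hM]; ring

theorem card_subgroupOf_of_le {K Γ : Subgroup X} (hK : K ≤ Γ) :
    Nat.card (K.subgroupOf Γ) = Nat.card K :=
  Nat.card_congr (Subgroup.subgroupOfEquivOfLe hK).toEquiv

theorem subgroupOf_inf_centralizer {H D Γ : Subgroup X} (hD : D ≤ Γ) :
    (H.subgroupOf Γ) ⊓ Subgroup.centralizer ((D.subgroupOf Γ : Subgroup Γ) : Set Γ) =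
      (H ⊓ Subgroup.centralizer (D : Set X)).subgroupOf Γ := by
  ext x
  rw [Subgroup.mem_inf, Subgroup.mem_subgroupOf, Subgroup.mem_subgroupOf, Subgroup.mem_inf,
    Subgroup.mem_centralizer_iff, Subgroup.mem_centralizer_iff]
  constructor
  · rintro ⟨h1, h2⟩
    refine ⟨h1, fun d hd => ?_⟩
    have := h2 ⟨d, hD hd⟩ (Subgroup.mem_subgroupOf.mpr hd)
    exact congrArg Subtype.val this
  · rintro ⟨h1, h2⟩
    refine ⟨h1, fun d hd => ?_⟩
    apply Subtype.ext
    exact h2 (d : X) (Subgroup.mem_subgroupOf.mp hd)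

/-- restriction of the ambient group -/
theorem FrobAct.restrict {U E H : Subgroup X} (h : FrobAct U E H) (Γ : Subgroup X) (hH : H ≤ Γ)
    (hU : U ≤ Γ) (hE : E ≤ Γ) :
    FrobAct (U.subgroupOf Γ) (E.subgroupOf Γ) (H.subgroupOf Γ) where
  hU1 := by
    intro h0
    apply h.hU1
    rw [Subgroup.subgroupOf_eq_bot] at h0
    exact (disjoint_self.mp (h0.mono_right hU))
  hE1 := by
    intro h0
    apply h.hE1
    rw [Subgroup.subgroupOf_eq_bot] at h0
    exact (disjoint_self.mp (h0.mono_right hE))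
  hUE := by
    rw [eq_bot_iff]
    intro x hx
    have h1 : (x : X) ∈ U ⊓ E := ⟨Subgroup.mem_subgroupOf.mp hx.1, Subgroup.mem_subgroupOf.mp hx.2⟩
    rw [h.hUE, Subgroup.mem_bot] at h1
    exact Subgroup.mem_bot.mpr (Subtype.ext h1)
  hUn := by
    intro e he u hu
    rw [Subgroup.mem_subgroupOf] at he hu ⊢
    exact h.hUn _ he _ hu
  hfpf := by
    intro e he he1 u hu hcomm
    rw [Subgroup.mem_subgroupOf] at he hu
    have := h.hfpf _ he (fun h0 => he1 (Subtype.ext h0)) _ hu (congrArg Subtype.val hcomm)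
    exact Subtype.ext this
  hHn := by
    rw [← Subgroup.subgroupOf_sup hU hE]
    intro x hx y hy
    rw [Subgroup.mem_subgroupOf] at hx hy ⊢
    exact h.hHn _ hx _ hy
  hdisj := by
    rw [← Subgroup.subgroupOf_sup hU hE, eq_bot_iff]
    intro x hx
    have h1 : (x : X) ∈ H ⊓ (U ⊔ E) :=
      ⟨Subgroup.mem_subgroupOf.mp hx.1, Subgroup.mem_subgroupOf.mp hx.2⟩
    rw [h.hdisj, Subgroup.mem_bot] at h1
    exact Subgroup.mem_bot.mpr (Subtype.ext h1)
  hsolv := by
    haveI := h.hsolv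
    exact solvable_of_solvable_injective
      (f := (Subgroup.subgroupOfEquivOfLe hH).toMonoidHom) (Subgroup.subgroupOfEquivOfLe hH).injective
  hcop := by
    rw [← Subgroup.subgroupOf_sup hU hE, card_subgroupOf_of_le hH,
      card_subgroupOf_of_le (sup_le hU hE)]
    exact h.hcop

theorem FrobFormula.of_restrict {U E H : Subgroup X} (Γ : Subgroup X) (hH : H ≤ Γ)
    (hU : U ≤ Γ) (hE : E ≤ Γ)
    (hf : FrobFormula (U.subgroupOf Γ) (E.subgroupOf Γ) (H.subgroupOf Γ)) : FrobFormula U E H := by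
  unfold FrobFormula at hf ⊢
  rw [← Subgroup.subgroupOf_sup hU hE, subgroupOf_inf_centralizer (sup_le hU hE),
    subgroupOf_inf_centralizer hE, subgroupOf_inf_centralizer hU,
    card_subgroupOf_of_le (inf_le_left.trans hH), card_subgroupOf_of_le (inf_le_left.trans hH),
    card_subgroupOf_of_le (inf_le_left.trans hH), card_subgroupOf_of_le hH,
    card_subgroupOf_of_le hE] at hf
  exact hf

end FrobAct
end Cfsg.Agent.Lib.H8
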