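import Mathlib
import Cfsg.Agent.Lib.H8.FrobFormula1
import Cfsg.Agent.Lib.H8.FrobElemAb
import Cfsg.Agent.Lib.H1.FpfNilpotent
import Cfsg.Agent.Lib.H1.FpfAction
set_option autoImplicit false
namespace Cfsg.Agent.Lib.H8

section Base

universe u
variable {X : Type u} [Group X] [Finite X] {U E H : Subgroup X}

/-- The kernel of a Frobenius-type action is nilpotent (Thompson). -/
theorem FrobAct.isNilpotent_U (h : FrobAct U E H) : Group.IsNilpotent U := by
  have hcard : Nat.card E ≠ 1 := fun h1 => h.hE1 (Subgroup.card_eq_one.mp h1)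
  obtain ⟨p, hp, hpdvd⟩ := Nat.exists_prime_and_dvd hcard
  haveI : Fact p.Prime := ⟨hp⟩
  obtain ⟨e, he⟩ := exists_prime_orderOf_dvd_card' p hpdvd
  have he1 : (e : X) ≠ 1 := by
    intro h1
    have : e = 1 := Subtype.ext h1
    rw [this, orderOf_one] at he
    exact hp.one_lt.ne he
  have hEU : E ≤ Subgroup.normalizer (U : Set X) := le_normalizer_of_conj_mem h.hUn
  refine Cfsg.Agent.Lib.H1.fpf_prime_nilpotent hp _ _ rfl
    (Cfsg.Agent.Lib.H1.conjAutHom hEU e) ?_ ?_
  · intro k hk
    have h1 : (e : X) * (k : X) * (e : X)⁻¹ = k := by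
      have := congrArg Subtype.val hk
      rwa [Cfsg.Agent.Lib.H1.conjAutHom_apply] at this
    have h2 : (e : X) * (k : X) = (k : X) * (e : X) := by
      calc (e : X) * (k : X) = ((e : X) * (k : X) * (e : X)⁻¹) * (e : X) := by group
        _ = (k : X) * (e : X) := by rw [h1]
    exact Subtype.ext (h.hfpf e e.2 he1 k k.2 h2)
  · rw [← map_pow, ← he, pow_orderOf_eq_one, map_one]

/-- Base case: `H` elementary abelian with `C_H(U) = 1`. -/
theorem FrobAct.card_eq_pow_of_elemAb (h : FrobAct U E H) [H.Normal] {p : ℕ} (hp : p.Prime)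
    (hab : ∀ a ∈ H, ∀ b ∈ H, a * b = b * a) (hexp : ∀ a ∈ H, a ^ p = 1)
    (hCU : H ⊓ Subgroup.centralizer (U : Set X) = ⊥) :
    Nat.card H = Nat.card ↥(H ⊓ Subgroup.centralizer (E : Set X)) ^ Nat.card E := by
  haveI : Fact p.Prime := ⟨hp⟩
  letI iC : CommGroup H :=
    { (inferInstance : Group H) with mul_comm := fun a b => Subtype.ext (hab a a.2 b b.2) }
  letI iM : Module (ZMod p) (Additive H) := AddCommGroup.zmodModule (n := p) (by
    intro x
    show Additive.ofMul ((Additive.toMul x) ^ p) = 0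
    have : (Additive.toMul x) ^ p = 1 := Subtype.ext (by
      rw [Subgroup.coe_pow, Subgroup.coe_one]; exact hexp _ (Additive.toMul x).2)
    rw [this]; rfl)
  let φ : ↥(U ⊔ E) →* MulAut H := (MulAut.conjNormal (H := H)).comp (U ⊔ E).subtype
  have hφ : ∀ (g : ↥(U ⊔ E)) (m : H), ((φ g m : H) : X) = (g : X) * (m : X) * (g : X)⁻¹ :=
    fun g m => rfl
  haveI : (U.subgroupOf (U ⊔ E)).Normal :=
    Subgroup.normal_subgroupOf_of_le_normalizer h.sup_le_normalizer_U
  have hnil : Group.IsNilpotent (U.subgroupOf (U ⊔ E)) := by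
    haveI := h.isNilpotent_U
    exact nilpotent_of_surjective
      ((Subgroup.subgroupOfEquivOfLe (le_sup_left : U ≤ U ⊔ E)).symm.toMonoidHom)
      (Subgroup.subgroupOfEquivOfLe (le_sup_left : U ≤ U ⊔ E)).symm.surjective
  have key := card_eq_card_fixed_pow (p := p) φ (U.subgroupOf (U ⊔ E)) (E.subgroupOf (U ⊔ E)) hnil
    (by
      intro e he he1 u hu hcomm
      rw [Subgroup.mem_subgroupOf] at he hu
      have := h.hfpf _ he (fun h0 => he1 (Subtype.ext h0)) _ hu (congrArg Subtype.val hcomm)
      exact Subtype.ext this)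
    (by
      intro m hm
      have h1 : (m : X) ∈ H ⊓ Subgroup.centralizer (U : Set X) := by
        refine ⟨m.2, ?_⟩
        show (m : X) ∈ Subgroup.centralizer (U : Set X)
        rw [Subgroup.mem_centralizer_iff]
        intro u hu
        have h2 := hm ⟨u, Subgroup.mem_sup_left hu⟩ (Subgroup.mem_subgroupOf.mpr hu)
        have h3 : u * (m : X) * u⁻¹ = m := by
          have := congrArg Subtype.val h2
          rwa [hφ] at this
        calc u * (m : X) = (u * (m : X) * u⁻¹) * u := by group
          _ = (m : X) * u := by rw [h3]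
      rw [hCU, Subgroup.mem_bot] at h1
      exact Subtype.ext h1)
  rw [card_subgroupOf_of_le (le_sup_right : E ≤ U ⊔ E)] at key
  rw [key]
  congr 1
  apply Nat.card_congr
  refine
    { toFun := fun m => ⟨(m.1 : X), m.1.2, ?_⟩
      invFun := fun x => ⟨⟨x.1, x.2.1⟩, ?_⟩
      left_inv := fun m => rfl
      right_inv := fun x => rfl }
  · show (m.1 : X) ∈ Subgroup.centralizer (E : Set X)
    rw [Subgroup.mem_centralizer_iff]
    intro e he
    have h2 := m.2 ⟨e, Subgroup.mem_sup_right he⟩ (Subgroup.mem_subgroupOf.mpr he)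
    have h3 : e * (m.1 : X) * e⁻¹ = m.1 := by
      have := congrArg Subtype.val h2
      rwa [hφ] at this
    calc e * (m.1 : X) = (e * (m.1 : X) * e⁻¹) * e := by group
      _ = (m.1 : X) * e := by rw [h3]
  · intro e he
    apply Subtype.ext
    rw [hφ]
    have hx : (x : X) ∈ Subgroup.centralizer (E : Set X) := x.2.2
    have := Subgroup.mem_centralizer_iff.mp hx (e : X) (Subgroup.mem_subgroupOf.mp he)
    show (e : X) * (x : X) * (e : X)⁻¹ = x
    rw [this]; group

theorem mem_centralizer_sup {U E : Subgroup X} {x : X} :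
    x ∈ Subgroup.centralizer ((U ⊔ E : Subgroup X) : Set X) ↔
      x ∈ Subgroup.centralizer (U : Set X) ∧ x ∈ Subgroup.centralizer (E : Set X) := by
  constructor
  · intro hx
    exact ⟨Subgroup.centralizer_le (by exact_mod_cast (le_sup_left : U ≤ U ⊔ E)) hx,
      Subgroup.centralizer_le (by exact_mod_cast (le_sup_right : E ≤ U ⊔ E)) hx⟩
  · rintro ⟨h1, h2⟩
    have hU : U ≤ Subgroup.centralizer ({x} : Set X) := by
      intro u hu
      rw [Subgroup.mem_centralizer_singleton_iff]
      exact (Subgroup.mem_centralizer_iff.mp h1 u hu)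
    have hE : E ≤ Subgroup.centralizer ({x} : Set X) := by
      intro u hu
      rw [Subgroup.mem_centralizer_singleton_iff]
      exact (Subgroup.mem_centralizer_iff.mp h2 u hu)
    rw [Subgroup.mem_centralizer_iff]
    intro g hg
    have := (sup_le hU hE) hg
    rw [Subgroup.mem_centralizer_singleton_iff] at this
    exact this

/-- The inductive step, in an ambient group where `H` is normal and `X = H (U E)`. -/
theorem frobFormula_step (h : FrobAct U E H) [H.Normal] (htop : H ⊔ (U ⊔ E) = ⊤)
    (ih : ∀ {X' : Type u} [Group X'] [Finite X'] (U' E' H' : Subgroup X'), FrobAct U' E' H' →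
      Nat.card H' < Nat.card H → FrobFormula U' E' H') : FrobFormula U E H := by
  classical
  by_cases hH1 : H = ⊥
  · subst hH1
    unfold FrobFormula
    simp
  -- the generic step
  have step_with : ∀ M : Subgroup X, M.Normal → M ≤ H → M ≠ ⊥ → M ≠ H → FrobFormula U E H := by
    intro M hMn hMH hM1 hMH'
    haveI := hMn
    have hlt : Nat.card M < Nat.card H := by
      by_contra hcon
      push Not at hcon
      exact hMH' (Subgroup.eq_of_le_of_card_ge hMH hcon)
    have hHcard : Nat.card (H.map (QuotientGroup.mk' M)) * Nat.card M = Nat.card H := by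
      have h1 := card_map_mul_card_ker_inf (QuotientGroup.mk' M) H
      rw [QuotientGroup.ker_mk', inf_eq_left.mpr hMH] at h1
      exact h1
    have hM2 : 2 ≤ Nat.card M := by
      have h1 : Nat.card M ≠ 1 := fun h1 => hM1 (Subgroup.card_eq_one.mp h1)
      have h2 : 0 < Nat.card M := Nat.card_pos
      omega
    have hlt' : Nat.card (H.map (QuotientGroup.mk' M)) < Nat.card H := by
      have h0 : 0 < Nat.card (H.map (QuotientGroup.mk' M)) := Nat.card_pos
      nlinarith
    have hM := ih U E M (h.sub hMH (fun x _ m hm => hMn.conj_mem m hm x)) hlt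
    have hQ := ih _ _ _ (h.quot hMH) hlt'
    exact FrobFormula.of_quot h hMH hM hQ
  by_cases hcomm : ⁅H, H⁆ = ⊥
  swap
  · -- nonabelian: use the derived subgroup
    apply step_with ⁅H, H⁆ inferInstance (Subgroup.commutator_le_left H H) hcomm
    intro h2
    haveI := h.hsolv
    haveI : Nontrivial H := (Subgroup.nontrivial_iff_ne_bot H).2 hH1
    have h1 : commutator H < ⊤ := Group.IsSolvable.commutator_lt_top_of_nontrivial H
    apply h1.ne
    have h3 : (commutator H).map H.subtype = ⁅H, H⁆ := Subgroup.map_subtype_commutator H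
    apply Subgroup.map_injective H.subtype_injective
    rw [h3, h2, ← MonoidHom.range_eq_map, Subgroup.range_subtype]
  -- abelian
  have hab : ∀ a ∈ H, ∀ b ∈ H, a * b = b * a := by
    intro a ha b hb
    have := (Subgroup.commutator_eq_bot_iff_le_centralizer.mp hcomm) ha
    exact (Subgroup.mem_centralizer_iff.mp this b hb).symm
  have hcard1 : Nat.card H ≠ 1 := fun h1 => hH1 (Subgroup.card_eq_one.mp h1)
  obtain ⟨p, hp, hpdvd⟩ := Nat.exists_prime_and_dvd hcard1
  haveI : Fact p.Prime := ⟨hp⟩
  let Ω : Subgroup X :=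
    { carrier := {x | x ∈ H ∧ x ^ p = 1}
      mul_mem' := fun {a b} ha hb => ⟨H.mul_mem ha.1 hb.1, by
        rw [(show Commute a b from hab a ha.1 b hb.1).mul_pow, ha.2, hb.2, one_mul]⟩
      one_mem' := ⟨H.one_mem, one_pow _⟩
      inv_mem' := fun {a} ha => ⟨H.inv_mem ha.1, by rw [inv_pow, ha.2, inv_one]⟩ }
  have hΩmem : ∀ x, x ∈ Ω ↔ x ∈ H ∧ x ^ p = 1 := fun x => Iff.rfl
  have hΩn : Ω.Normal := by
    constructor
    intro x hx g
    refine ⟨(inferInstance : H.Normal).conj_mem x hx.1 g, ?_⟩
    rw [conj_pow, hx.2]; group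
  have hΩH : Ω ≤ H := fun x hx => hx.1
  have hΩ1 : Ω ≠ ⊥ := by
    obtain ⟨x, hx⟩ := exists_prime_orderOf_dvd_card' p hpdvd
    intro h0
    have hxΩ : (x : X) ∈ Ω := by
      refine ⟨x.2, ?_⟩
      have := pow_orderOf_eq_one x
      rw [hx] at this
      have h2 := congrArg Subtype.val this
      simpa using h2
    rw [h0, Subgroup.mem_bot] at hxΩ
    have : x = 1 := Subtype.ext hxΩ
    rw [this, orderOf_one] at hx
    exact hp.one_lt.ne hx
  by_cases hΩ : Ω = H
  swap
  · exact step_with Ω hΩn hΩH hΩ1 hΩ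
  have hexp : ∀ a ∈ H, a ^ p = 1 := by
    intro a ha
    rw [← hΩ] at ha
    exact ha.2
  -- the centralizer of U in H
  set C : Subgroup X := H ⊓ Subgroup.centralizer (U : Set X) with hCdef
  have hCn : C.Normal := by
    rw [← Subgroup.normalizer_eq_top_iff, eq_top_iff, ← htop]
    apply sup_le
    · apply le_normalizer_of_conj_mem
      intro x hx c hc
      have : x * c * x⁻¹ = c := by
        rw [hab x hx c hc.1]; group
      rw [this]; exact hc
    · apply le_normalizer_of_conj_mem
      intro g hg c hc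
      refine ⟨h.hHn g hg c hc.1, ?_⟩
      show g * c * g⁻¹ ∈ Subgroup.centralizer (U : Set X)
      rw [Subgroup.mem_centralizer_iff]
      intro u hu
      have hu' : g⁻¹ * u * g⁻¹⁻¹ ∈ U := h.conj_mem_U ((U ⊔ E).inv_mem hg) hu
      have hc2 : c ∈ Subgroup.centralizer (U : Set X) := hc.2
      have h3 := Subgroup.mem_centralizer_iff.mp hc2 _ hu'
      calc u * (g * c * g⁻¹) = g * ((g⁻¹ * u * g⁻¹⁻¹) * c) * g⁻¹ := by group
        _ = g * (c * (g⁻¹ * u * g⁻¹⁻¹)) * g⁻¹ := by rw [h3]
        _ = g * c * g⁻¹ * u := by group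
  by_cases hC1 : C = ⊥
  · -- free case
    have hkey := h.card_eq_pow_of_elemAb hp hab hexp hC1
    have h1 : H ⊓ Subgroup.centralizer ((U ⊔ E : Subgroup X) : Set X) = ⊥ := by
      rw [eq_bot_iff, ← hC1]
      intro x hx
      exact ⟨hx.1, (mem_centralizer_sup.mp hx.2).1⟩
    unfold FrobFormula
    rw [h1, show H ⊓ Subgroup.centralizer (U : Set X) = ⊥ from hC1, Subgroup.card_bot, one_pow,
      one_mul, mul_one]
    exact hkey
  by_cases hCH : C = H
  · -- U centralizes H
    have h1 : H ⊓ Subgroup.centralizer ((U ⊔ E : Subgroup X) : Set X) =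
        H ⊓ Subgroup.centralizer (E : Set X) := by
      ext x
      constructor
      · intro hx
        exact ⟨hx.1, (mem_centralizer_sup.mp hx.2).2⟩
      · intro hx
        refine ⟨hx.1, mem_centralizer_sup.mpr ⟨?_, hx.2⟩⟩
        have : x ∈ C := by rw [hCH]; exact hx.1
        exact this.2
    unfold FrobFormula
    rw [h1, show H ⊓ Subgroup.centralizer (U : Set X) = H from hCH]
  · exact step_with C hCn inf_le_left hC1 hCH

end Base

section Final

universe u

theorem frobFormula_aux (n : ℕ) : ∀ {X : Type u} [Group X] [Finite X] (U E H : Subgroup X),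
    FrobAct U E H → Nat.card H ≤ n → FrobFormula U E H := by
  induction n using Nat.strong_induction_on with
  | _ n ih =>
    intro X _ _ U E H h hcard
    set Γ : Subgroup X := H ⊔ (U ⊔ E) with hΓ
    have hHΓ : H ≤ Γ := le_sup_left
    have hUΓ : U ≤ Γ := le_sup_left.trans le_sup_right
    have hEΓ : E ≤ Γ := le_sup_right.trans le_sup_right
    apply FrobFormula.of_restrict Γ hHΓ hUΓ hEΓ
    have h₀ := h.restrict Γ hHΓ hUΓ hEΓ
    haveI : (H.subgroupOf Γ).Normal :=
      Subgroup.normal_subgroupOf_of_le_normalizer (sup_le Subgroup.le_normalizer h.sup_le_normalizer_H)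
    have htop : H.subgroupOf Γ ⊔ (U.subgroupOf Γ ⊔ E.subgroupOf Γ) = ⊤ := by
      rw [← Subgroup.subgroupOf_sup hUΓ hEΓ, ← Subgroup.subgroupOf_sup hHΓ (sup_le hUΓ hEΓ),
        Subgroup.subgroupOf_self]
    have hc : Nat.card (H.subgroupOf Γ) = Nat.card H := card_subgroupOf_of_le hHΓ
    apply frobFormula_step h₀ htop
    intro X' _ _ U' E' H' h' hlt
    exact ih (Nat.card H') (by omega) U' E' H' h' le_rfl

/-- **Fixed point formula for Frobenius group actions** (coprime action on a solvable group). -/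
theorem frobFormula {X : Type u} [Group X] [Finite X] (U E H : Subgroup X) (h : FrobAct U E H) :
    FrobFormula U E H :=
  frobFormula_aux (Nat.card H) U E H h le_rfl

end Final
end Cfsg.Agent.Lib.H8
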