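import Mathlib
import Cfsg.Agent.Lib.H8.FrobFormula2
import Cfsg.Agent.Lib.H20.Frobenius
import Cfsg.Agent.S3770
set_option autoImplicit false
open scoped commutatorElement
namespace Cfsg.Agent.Lib.H8

section Comm

universe u
variable {X : Type u} [Group X] [Finite X] {K R Q : Subgroup X}

/-- image of a centralizer in a quotient (coprime action) -/
theorem map_inf_centralizer_eq (H M D : Subgroup X) [H.Normal] [M.Normal]
    (hMH : M ≤ H) (hsolv : Group.IsSolvable H) (hcop : (Nat.card D).Coprime (Nat.card H)) :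
    (H ⊓ Subgroup.centralizer (D : Set X)).map (QuotientGroup.mk' M) =
      H.map (QuotientGroup.mk' M) ⊓
        Subgroup.centralizer ((D.map (QuotientGroup.mk' M) : Subgroup (X ⧸ M)) : Set (X ⧸ M)) := by
  have hCA : Cfsg.Agent.Lib.H1.CoprimeAction D H :=
    { normalizes := by rw [Subgroup.normalizer_eq_top]; exact le_top
      coprime := hcop
      solvable := Or.inr hsolv }
  apply le_antisymm
  · rintro _ ⟨x, ⟨hxH, hxC⟩, rfl⟩
    refine ⟨Subgroup.mem_map_of_mem _ hxH, ?_⟩
    show (QuotientGroup.mk' M) x ∈ Subgroup.centralizer _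
    rw [Subgroup.mem_centralizer_iff]
    rintro _ ⟨d, hd, rfl⟩
    have hxC' : x ∈ Subgroup.centralizer (D : Set X) := hxC
    rw [← map_mul, ← map_mul, Subgroup.mem_centralizer_iff.mp hxC' d hd]
  · rintro _ ⟨⟨x, hxH, rfl⟩, hxC⟩
    have hxC' : (QuotientGroup.mk' M) x ∈ Subgroup.centralizer
        ((D.map (QuotientGroup.mk' M) : Subgroup (X ⧸ M)) : Set (X ⧸ M)) := hxC
    have hfix : ∀ a ∈ D, a * x * a⁻¹ * x⁻¹ ∈ M := by
      intro a ha
      rw [← QuotientGroup.eq_one_iff]
      have h1 := Subgroup.mem_centralizer_iff.mp hxC' (QuotientGroup.mk' M a)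
        (Subgroup.mem_map_of_mem _ ha)
      simp only [QuotientGroup.mk'_apply] at h1
      simp only [QuotientGroup.mk_mul, QuotientGroup.mk_inv, h1]
      group
    obtain ⟨c, hc, hcM⟩ := Cfsg.Agent.Lib.H1.coprime_centralizer_quotient hCA hMH
      (by rw [Subgroup.normalizer_eq_top]; exact le_top)
      (by rw [Subgroup.normalizer_eq_top]; exact le_top) hxH hfix
    refine ⟨c, hc, ?_⟩
    exact (QuotientGroup.eq.mpr (by
      have := M.inv_mem hcM
      simpa [mul_inv_rev] using this))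

/-- The elementary abelian case, via S3770. -/
theorem commutator_le_centralizer_of_elemAb (h : FrobAct K R Q) (hRp : (Nat.card R).Prime)
    {q : ℕ} (hq : q.Prime) (hab : ∀ a ∈ Q, ∀ b ∈ Q, a * b = b * a) (hexp : ∀ a ∈ Q, a ^ q = 1)
    (hQ1 : Q ≠ ⊥) (hCK : Q ⊓ Subgroup.centralizer (K : Set X) = ⊥)
    (hcyc : IsCyclic ↥(Q ⊓ Subgroup.centralizer (R : Set X))) :
    ⁅K, K⁆ ≤ Subgroup.centralizer (Q : Set X) := by
  have hform := frobFormula K R Q h
  unfold FrobFormula at hform
  have h1 : Q ⊓ Subgroup.centralizer ((K ⊔ R : Subgroup X) : Set X) = ⊥ := by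
    rw [eq_bot_iff, ← hCK]
    intro x hx
    exact ⟨hx.1, (mem_centralizer_sup.mp hx.2).1⟩
  rw [h1, hCK, Subgroup.card_bot, one_pow, one_mul, mul_one] at hform
  -- |C_Q(R)| = q
  have hQcard1 : Nat.card Q ≠ 1 := fun h1 => hQ1 (Subgroup.card_eq_one.mp h1)
  have hC1 : Nat.card ↥(Q ⊓ Subgroup.centralizer (R : Set X)) ≠ 1 := by
    intro h1
    rw [h1, one_pow] at hform
    exact hQcard1 hform
  have hCq : Nat.card ↥(Q ⊓ Subgroup.centralizer (R : Set X)) = q := by
    haveI := hcyc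
    have hexp' : Monoid.exponent ↥(Q ⊓ Subgroup.centralizer (R : Set X)) ∣ q := by
      apply Monoid.exponent_dvd_of_forall_pow_eq_one
      intro x
      apply Subtype.ext
      rw [Subgroup.coe_pow, Subgroup.coe_one]
      exact hexp _ x.2.1
    rw [IsCyclic.exponent_eq_card] at hexp'
    rcases (Nat.dvd_prime hq).mp hexp' with h2 | h2
    · exact absurd h2 hC1
    · exact h2
  -- set up S3770
  set G : Subgroup X := K ⊔ R with hG
  have hKG : K ≤ G := le_sup_left
  have hRG : R ≤ G := le_sup_right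
  haveI : (K.subgroupOf G).Normal :=
    Subgroup.normal_subgroupOf_of_le_normalizer h.sup_le_normalizer_U
  have hfrob := Cfsg.Agent.Lib.H20.frobenius_of_fpf (K.subgroupOf G) (R.subgroupOf G)
    (by rw [← Subgroup.subgroupOf_sup hKG hRG, Subgroup.subgroupOf_self])
    (by
      rw [eq_bot_iff]
      intro x hx
      have h2 : (x : X) ∈ K ⊓ R :=
        ⟨Subgroup.mem_subgroupOf.mp hx.1, Subgroup.mem_subgroupOf.mp hx.2⟩
      rw [h.hUE, Subgroup.mem_bot] at h2
      exact Subgroup.mem_bot.mpr (Subtype.ext h2))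
    (by
      intro h0
      apply h.hU1
      rw [Subgroup.subgroupOf_eq_bot] at h0
      exact disjoint_self.mp (h0.mono_right hKG))
    (by
      intro h0
      apply h.hE1
      rw [Subgroup.subgroupOf_eq_bot] at h0
      exact disjoint_self.mp (h0.mono_right hRG))
    (by
      intro e he he1 u hu hcomm
      rw [Subgroup.mem_subgroupOf] at he hu
      have := h.hfpf _ he (fun h0 => he1 (Subtype.ext h0)) _ hu
        (congrArg Subtype.val hcomm).symm
      exact Subtype.ext this)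
  have hV : Cfsg.IsElementaryAbelian q Q :=
    ⟨⟨⟨fun a b => Subtype.ext (hab a a.2 b b.2)⟩⟩, hexp⟩
  have hqQ : q ∣ Nat.card Q := by
    rw [hform, hCq]
    exact dvd_pow_self q hRp.pos.ne'
  have hℓG : ¬ q ∣ Nat.card G := by
    intro hdvd
    have := Nat.Coprime.eq_one_of_dvd (Nat.Coprime.coprime_dvd_left hqQ h.hcop) hdvd
    exact hq.one_lt.ne' this
  have hRcard : Nat.card (R.subgroupOf G) = Nat.card R := card_subgroupOf_of_le hRG
  have hmapR : (R.subgroupOf G).map G.subtype = R := Subgroup.map_subgroupOf_eq_of_le hRG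
  have key := Cfsg.Agent.S3770.result G Q hq hV hℓG h.sup_le_normalizer_H (R.subgroupOf G)
    hfrob.1 (hRcard ▸ hRp) (by rw [hmapR]; exact hCq)
  have himg : Subtype.val '' Cfsg.frobeniusKernel (R.subgroupOf G) = (K : Set X) := by
    rw [hfrob.2]
    ext x
    constructor
    · rintro ⟨y, hy, rfl⟩
      exact Subgroup.mem_subgroupOf.mp hy
    · intro hx
      exact ⟨⟨x, hKG hx⟩, Subgroup.mem_subgroupOf.mpr hx, rfl⟩
  rw [himg, Subgroup.closure_eq] at key
  exact key

theorem FrobAct.card_map_E (h : FrobAct K R Q) {M : Subgroup X} [M.Normal] (hMQ : M ≤ Q) :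
    Nat.card (R.map (QuotientGroup.mk' M)) = Nat.card R := by
  have h1 := card_map_mul_card_ker_inf (QuotientGroup.mk' M) R
  rw [QuotientGroup.ker_mk'] at h1
  have h2 : M ⊓ R = ⊥ := by
    rw [eq_bot_iff, ← h.hdisj]
    exact inf_le_inf hMQ le_sup_right
  rw [h2, Subgroup.card_bot, mul_one] at h1
  exact h1

/-- inductive step with `Q` normal in `X` -/
theorem commutator_le_centralizer_step (h : FrobAct K R Q) [Q.Normal] (hRp : (Nat.card R).Prime)
    (hnil : Group.IsNilpotent Q) (hCK : Q ⊓ Subgroup.centralizer (K : Set X) = ⊥)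
    (hcyc : IsCyclic ↥(Q ⊓ Subgroup.centralizer (R : Set X)))
    (ih : ∀ {X' : Type u} [Group X'] [Finite X'] (K' R' Q' : Subgroup X'), FrobAct K' R' Q' →
      (Nat.card R').Prime → Group.IsNilpotent Q' →
      Q' ⊓ Subgroup.centralizer (K' : Set X') = ⊥ →
      IsCyclic ↥(Q' ⊓ Subgroup.centralizer (R' : Set X')) → Nat.card Q' < Nat.card Q →
      ⁅K', K'⁆ ≤ Subgroup.centralizer (Q' : Set X')) :
    ⁅K, K⁆ ≤ Subgroup.centralizer (Q : Set X) := by
  classical
  by_cases hQ1 : Q = ⊥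
  · subst hQ1
    intro x _
    rw [Subgroup.mem_centralizer_iff]
    intro y hy
    rw [Subgroup.coe_bot, Set.mem_singleton_iff] at hy
    rw [hy, one_mul, mul_one]
  have hcard1 : Nat.card Q ≠ 1 := fun h1 => hQ1 (Subgroup.card_eq_one.mp h1)
  obtain ⟨q, hq, hqdvd⟩ := Nat.exists_prime_and_dvd hcard1
  haveI : Fact q.Prime := ⟨hq⟩
  -- the central elements of order dividing q
  let Z : Subgroup X :=
    { carrier := {x | x ∈ Q ∧ (∀ y ∈ Q, y * x = x * y) ∧ x ^ q = 1}
      mul_mem' := fun {a b} ha hb => ⟨Q.mul_mem ha.1 hb.1, fun y hy => by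
          rw [← mul_assoc, ha.2.1 y hy, mul_assoc, hb.2.1 y hy, mul_assoc], by
          rw [(show Commute a b from (hb.2.1 a ha.1)).mul_pow, ha.2.2, hb.2.2, one_mul]⟩
      one_mem' := ⟨Q.one_mem, fun y _ => by rw [mul_one, one_mul], one_pow _⟩
      inv_mem' := fun {a} ha => ⟨Q.inv_mem ha.1, fun y hy => by
          have := ha.2.1 y hy
          calc y * a⁻¹ = a⁻¹ * (a * y) * a⁻¹ := by group
            _ = a⁻¹ * (y * a) * a⁻¹ := by rw [this]
            _ = a⁻¹ * y := by group, by rw [inv_pow, ha.2.2, inv_one]⟩ }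
  have hZmem : ∀ x, x ∈ Z ↔ x ∈ Q ∧ (∀ y ∈ Q, y * x = x * y) ∧ x ^ q = 1 := fun x => Iff.rfl
  have hZQ : Z ≤ Q := fun x hx => hx.1
  have hZn : Z.Normal := by
    constructor
    intro x hx g
    refine ⟨(inferInstance : Q.Normal).conj_mem x hx.1 g, fun y hy => ?_, ?_⟩
    · have hy' : g⁻¹ * y * g⁻¹⁻¹ ∈ Q := (inferInstance : Q.Normal).conj_mem y hy g⁻¹
      have := hx.2.1 _ hy'
      calc y * (g * x * g⁻¹) = g * ((g⁻¹ * y * g⁻¹⁻¹) * x) * g⁻¹ := by group
        _ = g * (x * (g⁻¹ * y * g⁻¹⁻¹)) * g⁻¹ := by rw [this]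
        _ = g * x * g⁻¹ * y := by group
    · rw [conj_pow, hx.2.2]; group
  haveI := hZn
  have hZ1 : Z ≠ ⊥ := by
    haveI := hnil
    obtain ⟨S⟩ : Nonempty (Sylow q Q) := inferInstance
    haveI hSn : (S : Subgroup Q).Normal :=
      Sylow.normal_of_normalizerCondition Group.normalizerCondition_of_isNilpotent S
    have hSne : (S : Subgroup Q) ≠ ⊥ := Sylow.ne_bot_of_dvd_card S hqdvd
    have hBne : (S : Subgroup Q) ⊓ Subgroup.center Q ≠ ⊥ :=
      Cfsg.Agent.Lib.H1.normal_inf_center_ne_bot (S : Subgroup Q) hSne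
    have hpg : IsPGroup q ((S : Subgroup Q) ⊓ Subgroup.center Q : Subgroup Q) :=
      S.isPGroup'.to_le inf_le_left
    obtain ⟨m, hm⟩ := IsPGroup.iff_card.mp hpg
    have hm0 : m ≠ 0 := by
      intro h0
      rw [h0, pow_zero] at hm
      exact hBne (Subgroup.card_eq_one.mp hm)
    have hqd : q ∣ Nat.card ((S : Subgroup Q) ⊓ Subgroup.center Q : Subgroup Q) := by
      rw [hm]; exact dvd_pow_self q hm0
    obtain ⟨z, hz⟩ := exists_prime_orderOf_dvd_card' q hqd
    intro h0
    have hzZ : ((z : Q) : X) ∈ Z := by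
      refine ⟨(z : Q).2, fun y hy => ?_, ?_⟩
      · have := Subgroup.mem_center_iff.mp z.2.2 ⟨y, hy⟩
        exact congrArg Subtype.val this
      · have := pow_orderOf_eq_one z
        rw [hz] at this
        have h2 := congrArg Subtype.val this
        have h3 := congrArg Subtype.val h2
        simpa using h3
    rw [h0, Subgroup.mem_bot] at hzZ
    have : z = 1 := Subtype.ext (Subtype.ext hzZ)
    rw [this, orderOf_one] at hz
    exact hq.one_lt.ne hz
  have hZab : ∀ a ∈ Z, ∀ b ∈ Z, a * b = b * a := fun a ha b hb => hb.2.1 a ha.1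
  have hZexp : ∀ a ∈ Z, a ^ q = 1 := fun a ha => ha.2.2
  have hsubZ : FrobAct K R Z := h.sub hZQ (fun x _ m hm => hZn.conj_mem m hm x)
  have hZK : Z ⊓ Subgroup.centralizer (K : Set X) = ⊥ := by
    rw [eq_bot_iff, ← hCK]
    exact inf_le_inf_right _ hZQ
  have hZcyc : IsCyclic ↥(Z ⊓ Subgroup.centralizer (R : Set X)) := by
    haveI := hcyc
    exact isCyclic_of_injective
      (Subgroup.inclusion (inf_le_inf_right _ hZQ :
        Z ⊓ Subgroup.centralizer (R : Set X) ≤ Q ⊓ Subgroup.centralizer (R : Set X)))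
      (Subgroup.inclusion_injective _)
  have hLZ : ⁅K, K⁆ ≤ Subgroup.centralizer (Z : Set X) :=
    commutator_le_centralizer_of_elemAb hsubZ hRp hq hZab hZexp hZ1 hZK hZcyc
  by_cases hZeq : Z = Q
  · rw [← hZeq]; exact hLZ
  -- quotient
  have hHcard : Nat.card (Q.map (QuotientGroup.mk' Z)) * Nat.card Z = Nat.card Q := by
    have h1 := card_map_mul_card_ker_inf (QuotientGroup.mk' Z) Q
    rw [QuotientGroup.ker_mk', inf_eq_left.mpr hZQ] at h1
    exact h1
  have hZ2 : 2 ≤ Nat.card Z := by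
    have h1 : Nat.card Z ≠ 1 := fun h1 => hZ1 (Subgroup.card_eq_one.mp h1)
    have h2 : 0 < Nat.card Z := Nat.card_pos
    omega
  have hlt' : Nat.card (Q.map (QuotientGroup.mk' Z)) < Nat.card Q := by
    have h0 : 0 < Nat.card (Q.map (QuotientGroup.mk' Z)) := Nat.card_pos
    nlinarith
  have hcopKR : (Nat.card ↥(K ⊔ R)).Coprime (Nat.card Q) := h.hcop.symm
  have hcopR : (Nat.card R).Coprime (Nat.card Q) :=
    Nat.Coprime.coprime_dvd_left (Subgroup.card_dvd_of_le le_sup_right) hcopKR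
  have hcopK : (Nat.card K).Coprime (Nat.card Q) :=
    Nat.Coprime.coprime_dvd_left (Subgroup.card_dvd_of_le le_sup_left) hcopKR
  have hquot := ih (K.map (QuotientGroup.mk' Z)) (R.map (QuotientGroup.mk' Z))
    (Q.map (QuotientGroup.mk' Z)) (h.quot hZQ) (by rw [h.card_map_E hZQ]; exact hRp)
    (by
      haveI := hnil
      exact nilpotent_of_surjective _ ((QuotientGroup.mk' Z).subgroupMap_surjective Q))
    (by
      have h1 := card_centralizer_quotient Q Z K hZQ h.hsolv hcopK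
      rw [hCK, Subgroup.card_bot] at h1
      have h2 : Nat.card ↥(Q.map (QuotientGroup.mk' Z) ⊓ Subgroup.centralizer
          ((K.map (QuotientGroup.mk' Z) : Subgroup (X ⧸ Z)) : Set (X ⧸ Z))) = 1 :=
        Nat.eq_one_of_mul_eq_one_right h1
      exact Subgroup.card_eq_one.mp h2)
    (by
      rw [← map_inf_centralizer_eq Q Z R hZQ h.hsolv hcopR]
      haveI := hcyc
      exact isCyclic_of_surjective _
        ((QuotientGroup.mk' Z).subgroupMap_surjective (Q ⊓ Subgroup.centralizer (R : Set X))))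
    hlt'
  -- [Q, L] ≤ Z
  have hQL : ⁅Q, ⁅K, K⁆⁆ ≤ Z := by
    rw [Subgroup.commutator_le]
    intro x hx c hc
    rw [← QuotientGroup.eq_one_iff]
    have hc' : QuotientGroup.mk' Z c ∈ ⁅K.map (QuotientGroup.mk' Z), K.map (QuotientGroup.mk' Z)⁆ := by
      rw [← Subgroup.map_commutator]
      exact Subgroup.mem_map_of_mem _ hc
    have h1 := hquot hc'
    have h2 := Subgroup.mem_centralizer_iff.mp h1 (QuotientGroup.mk' Z x)
      (Subgroup.mem_map_of_mem _ hx)
    rw [commutatorElement_def]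
    simp only [QuotientGroup.mk'_apply] at h2
    simp only [QuotientGroup.mk_mul, QuotientGroup.mk_inv, h2]
    group
  have hLK : ⁅K, K⁆ ≤ K := by
    rw [Subgroup.commutator_le]
    intro a ha b hb
    rw [commutatorElement_def]
    exact K.mul_mem (K.mul_mem (K.mul_mem ha hb) (K.inv_mem ha)) (K.inv_mem hb)
  have hLle : ⁅K, K⁆ ≤ K ⊔ R := hLK.trans le_sup_left
  have hCA : Cfsg.Agent.Lib.H1.CoprimeAction ⁅K, K⁆ Q :=
    { normalizes := by rw [Subgroup.normalizer_eq_top]; exact le_top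
      coprime := Nat.Coprime.coprime_dvd_left (Subgroup.card_dvd_of_le hLle) hcopKR
      solvable := Or.inr h.hsolv }
  have h3 := Cfsg.Agent.Lib.H1.coprime_commutator_commutator hCA
  have h4 : ⁅⁅Q, ⁅K, K⁆⁆, ⁅K, K⁆⁆ = ⊥ := by
    rw [eq_bot_iff]
    calc ⁅⁅Q, ⁅K, K⁆⁆, ⁅K, K⁆⁆ ≤ ⁅Z, ⁅K, K⁆⁆ := Subgroup.commutator_mono hQL le_rfl
      _ = ⊥ := by
        rw [Subgroup.commutator_eq_bot_iff_le_centralizer]
        exact Subgroup.le_centralizer_iff.mp hLZ
  rw [h4] at h3
  have h5 : Q ≤ Subgroup.centralizer ((⁅K, K⁆ : Subgroup X) : Set X) :=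
    Subgroup.commutator_eq_bot_iff_le_centralizer.mp h3.symm
  exact Subgroup.le_centralizer_iff.mp h5

end Comm

section CommFinal

universe u

theorem commutator_le_centralizer_aux (n : ℕ) :
    ∀ {X : Type u} [Group X] [Finite X] (K R Q : Subgroup X), FrobAct K R Q →
      (Nat.card R).Prime → Group.IsNilpotent Q →
      Q ⊓ Subgroup.centralizer (K : Set X) = ⊥ →
      IsCyclic ↥(Q ⊓ Subgroup.centralizer (R : Set X)) → Nat.card Q ≤ n →
      ⁅K, K⁆ ≤ Subgroup.centralizer (Q : Set X) := by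
  induction n using Nat.strong_induction_on with
  | _ n ih =>
    intro X _ _ K R Q h hRp hnil hCK hcyc hcard
    set Γ : Subgroup X := Q ⊔ (K ⊔ R) with hΓ
    have hQΓ : Q ≤ Γ := le_sup_left
    have hKΓ : K ≤ Γ := le_sup_left.trans le_sup_right
    have hRΓ : R ≤ Γ := le_sup_right.trans le_sup_right
    have h₀ := h.restrict Γ hQΓ hKΓ hRΓ
    haveI : (Q.subgroupOf Γ).Normal :=
      Subgroup.normal_subgroupOf_of_le_normalizer (sup_le Subgroup.le_normalizer h.sup_le_normalizer_H)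
    have hc : Nat.card (Q.subgroupOf Γ) = Nat.card Q := card_subgroupOf_of_le hQΓ
    have key : ⁅K.subgroupOf Γ, K.subgroupOf Γ⁆ ≤
        Subgroup.centralizer ((Q.subgroupOf Γ : Subgroup Γ) : Set Γ) := by
      apply commutator_le_centralizer_step h₀
      · rw [card_subgroupOf_of_le hRΓ]; exact hRp
      · haveI := hnil
        exact nilpotent_of_surjective
          ((Subgroup.subgroupOfEquivOfLe hQΓ).symm.toMonoidHom)
          (Subgroup.subgroupOfEquivOfLe hQΓ).symm.surjective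
      · rw [subgroupOf_inf_centralizer hKΓ, hCK, Subgroup.bot_subgroupOf]
      · rw [subgroupOf_inf_centralizer hRΓ]
        haveI := hcyc
        exact isCyclic_of_surjective
          ((Subgroup.subgroupOfEquivOfLe (inf_le_left.trans hQΓ :
            Q ⊓ Subgroup.centralizer (R : Set X) ≤ Γ)).symm.toMonoidHom)
          (Subgroup.subgroupOfEquivOfLe (inf_le_left.trans hQΓ :
            Q ⊓ Subgroup.centralizer (R : Set X) ≤ Γ)).symm.surjective
      · intro X' _ _ K' R' Q' h' hRp' hnil' hCK' hcyc' hlt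
        exact ih (Nat.card Q') (by omega) K' R' Q' h' hRp' hnil' hCK' hcyc' le_rfl
    rw [Subgroup.commutator_le]
    intro a ha b hb
    rw [Subgroup.mem_centralizer_iff]
    intro m hm
    have h1 : ⁅(⟨a, hKΓ ha⟩ : Γ), (⟨b, hKΓ hb⟩ : Γ)⁆ ∈ ⁅K.subgroupOf Γ, K.subgroupOf Γ⁆ :=
      Subgroup.commutator_mem_commutator (Subgroup.mem_subgroupOf.mpr ha)
        (Subgroup.mem_subgroupOf.mpr hb)
    have h2 := Subgroup.mem_centralizer_iff.mp (key h1) (⟨m, hQΓ hm⟩ : Γ)
      (Subgroup.mem_subgroupOf.mpr hm)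
    exact congrArg Subtype.val h2

/-- **B&G-type lemma**: a Frobenius-type group `KR` with `|R|` prime acting coprimely on a
nilpotent group `Q` with `C_Q(K) = 1` and `C_Q(R)` cyclic: `[K, K]` centralizes `Q`. -/
theorem commutator_le_centralizer_of_cyclic {X : Type u} [Group X] [Finite X] (K R Q : Subgroup X)
    (h : FrobAct K R Q) (hRp : (Nat.card R).Prime) (hnil : Group.IsNilpotent Q)
    (hCK : Q ⊓ Subgroup.centralizer (K : Set X) = ⊥)
    (hcyc : IsCyclic ↥(Q ⊓ Subgroup.centralizer (R : Set X))) :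
    ⁅K, K⁆ ≤ Subgroup.centralizer (Q : Set X) :=
  commutator_le_centralizer_aux (Nat.card Q) K R Q h hRp hnil hCK hcyc le_rfl

end CommFinal
end Cfsg.Agent.Lib.H8
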