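import Mathlib
import Cfsg.Agent.Lib.H7.FrobNil2
import Cfsg.Agent.Lib.H9.FrattiniAction
import Cfsg.Agent.Lib.H19.ModRepPrimeQuot

/-!
# Fixed-point-free prime action on a `q`-group (helper8)

`commutator_le_centralizer_of_fpf`: `x` of prime order `r` normalizes the `s`-group `S` (`s` odd,
`s ≠ r`), both normalize the `q`-group `Q` (`q ∤ |S⟨x⟩|`) and `C_Q(x) = 1`.  Then `[S, ⟨x⟩]`
centralizes `Q`.  (Bender–Glauberman Theorem 3.4 flavour, via helper19's `prime_action_core'`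
on the Frattini quotient `Q/Φ(Q)`.)
-/

set_option autoImplicit false
set_option linter.unusedSectionVars false
set_option linter.style.haveILetI false

namespace Cfsg.Agent.Lib.H8

open Cfsg Subgroup Cfsg.Agent.Lib.H1.QuadMul Cfsg.Agent.Lib.H19.ModRep Cfsg.Agent.Lib.H7.FrobNil
open scoped commutatorElement TensorProduct

variable {X : Type*} [Group X] [Finite X] {q : ℕ} [Fact q.Prime]

theorem commutator_le_centralizer_of_fpf {S Q : Subgroup X} {x : X} {r s : ℕ} (hr : r.Prime)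
    (hs : s.Prime) (hs2 : s ≠ 2) (hsr : s ≠ r)
    (hQ : IsPGroup q Q) (hS : IsPGroup s S) (hxr : orderOf x = r)
    (hxS : x ∈ normalizer (S : Set X))
    (hSQ : S ≤ normalizer (Q : Set X)) (hxQ : x ∈ normalizer (Q : Set X))
    (hcop : ¬ q ∣ Nat.card ↥(S ⊔ zpowers x))
    (hfix : Q ⊓ centralizer ({x} : Set X) = ⊥) :
    ⁅S, zpowers x⁆ ≤ centralizer (Q : Set X) := by
  classical
  set Γ : Subgroup X := S ⊔ zpowers x with hΓdef
  have hΓ : Γ ≤ normalizer (Q : Set X) := sup_le hSQ (zpowers_le.mpr hxQ)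
  have hSΓ : S ≤ Γ := le_sup_left
  have hxΓ : x ∈ Γ := (le_sup_right : zpowers x ≤ Γ) (mem_zpowers x)
  haveI : IsEA q (↥Q ⧸ frattini ↥Q) := isEA_frattiniQuot hQ
  set ρ₀ := fratRep (q := q) Q Γ hΓ with hρ₀
  let x' : Γ := ⟨x, hxΓ⟩
  have hx'pow : ∀ j : ℕ, ((x' ^ j : Γ) : X) = x ^ j := fun j => by simp [x']
  have hx'r : x' ^ r = 1 := by
    apply Subtype.ext
    rw [hx'pow, ← hxr]
    simp [pow_orderOf_eq_one]
  -- the coprime action of `⟨x⟩` on `Q`
  have hxcop : (orderOf x).Coprime q := by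
    rw [Nat.coprime_comm, Nat.Prime.coprime_iff_not_dvd (Fact.out : q.Prime)]
    intro hdvd
    apply hcop
    have h1 : orderOf x ∣ Nat.card ↥Γ := by
      rw [← Subgroup.orderOf_mk x hxΓ]
      exact orderOf_dvd_natCard _
    exact hdvd.trans h1
  have hA : Cfsg.Agent.Lib.H1.CoprimeAction (zpowers x) Q := by
    refine ⟨zpowers_le.mpr hxQ, ?_, Or.inr ?_⟩
    · rw [Nat.card_zpowers]
      obtain ⟨n, hn⟩ := IsPGroup.iff_card.mp hQ
      rw [hn]
      exact Nat.Coprime.pow_right n hxcop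
    · have : Group.IsNilpotent Q := hQ.isNilpotent
      infer_instance
  set Φ : Subgroup X := (frattini ↥Q).map Q.subtype with hΦ
  have hΦQ : Φ ≤ Q := Subgroup.map_subtype_le _
  have hNΦ : normalizer (Q : Set X) ≤ normalizer (Φ : Set X) :=
    Cfsg.Agent.Lib.H1.normalizer_le_normalizer_map_of_characteristic (frattini ↥Q)
  have hQΦ : Q ≤ normalizer (Φ : Set X) := le_normalizer.trans hNΦ
  have hxΦ : zpowers x ≤ normalizer (Φ : Set X) := (zpowers_le.mpr hxQ).trans hNΦ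
  -- powers of `x'` fix what `x'` fixes
  have hfixpow : ∀ v, ρ₀ x' v = v → ∀ j : ℕ, ρ₀ (x' ^ j) v = v := by
    intro v hv j
    induction j with
    | zero => rw [pow_zero, map_one]; rfl
    | succ j ih => rw [pow_succ, map_mul, Module.End.mul_apply, hv, ih]
  -- `x'` has no nonzero fixed vector
  have hfpf₀ : ∀ v, ρ₀ x' v = v → v = 0 := by
    intro v hv
    obtain ⟨w, rfl⟩ := exists_eq_of (q := q) Q v
    have hfix' : ∀ a ∈ zpowers x, a * (w : X) * a⁻¹ * (w : X)⁻¹ ∈ Φ := by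
      intro a ha
      obtain ⟨j, rfl⟩ := mem_powers_iff_mem_zpowers.mpr ha
      have h1 := hfixpow _ hv j
      rw [hρ₀, fratRep_apply_mk, of_mk_eq_iff] at h1
      refine ⟨_, h1, ?_⟩
      simp only [Subgroup.coe_subtype, Subgroup.coe_mul, Subgroup.coe_inv, act_apply, hx'pow]
    obtain ⟨c, hc, hwc⟩ := Cfsg.Agent.Lib.H1.coprime_centralizer_quotient hA hΦQ hQΦ hxΦ w.2 hfix'
    have hcQ : c ∈ Q := (Subgroup.mem_inf.mp hc).1
    have hcx : c ∈ centralizer ({x} : Set X) := by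
      have h1 := (Subgroup.mem_inf.mp hc).2
      rw [Subgroup.mem_centralizer_iff] at h1 ⊢
      intro y hy
      rw [Set.mem_singleton_iff] at hy
      rw [hy]
      exact h1 x (mem_zpowers x)
    have hc1 : c = 1 := by
      have : c ∈ Q ⊓ centralizer ({x} : Set X) := Subgroup.mem_inf.mpr ⟨hcQ, hcx⟩
      rwa [hfix, Subgroup.mem_bot] at this
    -- `w ∈ Φ`
    obtain ⟨f, hf, hfe⟩ := hwc
    have hw : (w : ↥Q)⁻¹ ∈ frattini ↥Q := by
      have : (w : ↥Q)⁻¹ = f := by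
        apply Subtype.ext
        rw [hc1, mul_one] at hfe
        simpa using hfe.symm
      rw [this]; exact hf
    have hw' : (w : ↥Q) ∈ frattini ↥Q := by
      have := (frattini ↥Q).inv_mem hw
      rwa [inv_inv] at this
    apply EA.ext
    rw [EA.val_of, EA.val_zero]
    exact (QuotientGroup.eq_one_iff _).mpr hw'
  -- base change to the algebraic closure
  let k := AlgebraicClosure (ZMod q)
  have hk : (Nat.card ↥Γ : k) ≠ 0 := by
    intro h
    apply hcop
    exact (CharP.cast_eq_zero_iff k q _).mp h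
  haveI : Module.Finite (ZMod q) (EA q (↥Q ⧸ frattini ↥Q)) := Module.Finite.of_finite
  set ρ := bc k ρ₀ with hρ
  have hfpf : ∀ w, ρ x' w = w → w = 0 := fpf_bc k hk ρ₀ x' hfpf₀
  -- `ρ x'` commutes with `ρ u` for `u ∈ S`
  have hcomm : ∀ u : Γ, (u : X) ∈ S → ρ x' * ρ u = ρ u * ρ x' := by
    intro u hu
    by_contra hnc
    have hres := prime_action_core' (k := k) (Γ := ↥Γ) (W := k ⊗[ZMod q] EA q (↥Q ⧸ frattini ↥Q))
      hk ρ hs hr hsr x' hx'r hfpf (S.subgroupOf Γ) hS.comap_subtype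
      (by
        intro v hv
        have hvS : (v : X) ∈ S := Subgroup.mem_subgroupOf.mp hv
        apply Subgroup.mem_subgroupOf.mpr
        have := (Subgroup.mem_normalizer_iff.mp hxS (v : X)).mp hvS
        simpa [x'] using this)
      ⟨u, Subgroup.mem_subgroupOf.mpr hu, hnc⟩
    exact hs2 hres.1
  -- conclusion
  rw [Subgroup.commutator_comm, Subgroup.commutator_le]
  intro a ha b hb
  obtain ⟨i, rfl⟩ := mem_powers_iff_mem_zpowers.mpr ha
  let b' : Γ := ⟨b, hSΓ hb⟩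
  have h1 : ρ x' * ρ b' = ρ b' * ρ x' := hcomm b' hb
  have h2 : ∀ j : ℕ, ρ (x' ^ j) * ρ b' = ρ b' * ρ (x' ^ j) := by
    intro j
    induction j with
    | zero => simp
    | succ j ih => rw [pow_succ, map_mul, mul_assoc, h1, ← mul_assoc, ih, mul_assoc]
  have h3 : ρ (x' ^ i * b' * (x' ^ i)⁻¹ * b'⁻¹) = 1 := by
    rw [map_mul, map_mul, map_mul, h2 i, mul_assoc (ρ b'), ← map_mul, mul_inv_cancel, map_one,
      mul_one, ← map_mul, mul_inv_cancel, map_one]
  have h4 : ρ₀ (x' ^ i * b' * (x' ^ i)⁻¹ * b'⁻¹) = 1 := by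
    apply bc_injective k
    rw [LinearMap.baseChange_one]
    exact h3
  set y : X := x ^ i * b * (x ^ i)⁻¹ * b⁻¹ with hy
  have hxiS : x ^ i ∈ normalizer (S : Set X) := (normalizer (S : Set X)).pow_mem hxS i
  have hyS : y ∈ S :=
    S.mul_mem ((Subgroup.mem_normalizer_iff.mp hxiS b).mp hb) (S.inv_mem hb)
  have hyΓ : y ∈ Γ := hSΓ hyS
  have hy' : (x' ^ i * b' * (x' ^ i)⁻¹ * b'⁻¹ : Γ) = ⟨y, hyΓ⟩ := by
    apply Subtype.ext
    simp [hy, x', b']
  rw [hy'] at h4
  have hpow1 : ∀ j : ℕ, ρ₀ ((⟨y, hyΓ⟩ : Γ) ^ j) = 1 := by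
    intro j
    rw [map_pow, h4, one_pow]
  have hycop : (orderOf y).Coprime q := by
    rw [Nat.coprime_comm, Nat.Prime.coprime_iff_not_dvd (Fact.out : q.Prime)]
    intro hdvd
    apply hcop
    have h2 : orderOf y ∣ Nat.card ↥Γ := by
      rw [← Subgroup.orderOf_mk y hyΓ]
      exact orderOf_dvd_natCard _
    exact hdvd.trans h2
  have hcen := Cfsg.Agent.Lib.H9.commute_of_commutator_mem_frattini hQ (hSQ hyS) hycop (by
    intro c hc v hv
    obtain ⟨j, rfl⟩ := mem_powers_iff_mem_zpowers.mpr hc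
    have := commutator_mem_of_fratRep_eq_one (q := q) Q Γ hΓ ((⟨y, hyΓ⟩ : Γ) ^ j) (hpow1 j) v hv
    simpa using this)
  rw [commutatorElement_def, Subgroup.mem_centralizer_iff]
  intro v hv
  exact (hcen v hv).symm

end Cfsg.Agent.Lib.H8
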