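import Mathlib
import Cfsg.Agent.Lib.H8.FpfFrat
import Cfsg.Agent.Lib.H16.BGb
import Cfsg.Agent.Lib.H16.SylCommA
import Cfsg.Agent.Lib.H1.CoprimeSylow

/-!
# Bender–Glauberman Theorem 3.7 (helper8)

`commutator_zpowers_le_fittingOf`: `G` solvable of odd order, `K ⊴ G`, `x` of prime order
`r ∤ |K|` with `C_{F(K)}(x) = 1`.  Then `[K, ⟨x⟩] ≤ F(K)`.
-/

set_option autoImplicit false
set_option linter.unusedSectionVars false
set_option linter.unusedVariables false
set_option linter.style.haveILetI false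

namespace Cfsg.Agent.Lib.H8.BG37

open Cfsg Subgroup
open Cfsg.Agent.Lib.H16.BG Cfsg.Agent.Lib.H7.BG7 Cfsg.Agent.Lib.H1 Cfsg.Agent.Lib.H16.SylComm
open Cfsg.Agent.Lib.H19 (IsPiCard)
open scoped commutatorElement Pointwise

variable {G : Type*} [Group G]

theorem le_normalizer_sup {X A B : Subgroup G} (hA : X ≤ normalizer (A : Set G))
    (hB : X ≤ normalizer (B : Set G)) : X ≤ normalizer ((A ⊔ B : Subgroup G) : Set G) := by
  intro g hg
  rw [← conj_smul_eq_self_iff_mem_normalizer, Subgroup.smul_sup,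
    conj_smul_eq_self_iff_mem_normalizer.mpr (hA hg),
    conj_smul_eq_self_iff_mem_normalizer.mpr (hB hg)]

theorem fittingOf_normal [Finite G] (K : Subgroup G) [hK : K.Normal] : (fittingOf K).Normal := by
  rw [← Subgroup.normalizer_eq_top_iff, eq_top_iff]
  have h1 : normalizer (K : Set G) = ⊤ := Subgroup.normalizer_eq_top_iff.mpr hK
  rw [← h1]
  exact normalizer_le_normalizer_fittingOf K

theorem piCoreOf_singleton_eq_bot_of_not_dvd [Finite G] {r : ℕ} [Fact r.Prime] {K : Subgroup G}
    (h : ¬ r ∣ Nat.card K) : piCoreOf {r} K = ⊥ := by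
  have hp : IsPGroup r (piCoreOf {r} K) := isPGroup_piCoreOf_singleton r K
  obtain ⟨n, hn⟩ := IsPGroup.iff_card.mp hp
  have hd : Nat.card (piCoreOf {r} K) ∣ Nat.card K := Subgroup.card_dvd_of_le (piCoreOf_le _ _)
  rcases Nat.eq_zero_or_pos n with h0 | h0
  · rw [h0, pow_zero] at hn
    exact Subgroup.card_eq_one.mp hn
  · exfalso
    apply h
    rw [hn] at hd
    exact (dvd_pow_self r h0.ne').trans hd

variable [Finite G]

/-- the key step: a normal subgroup `T` of `K` with `T/F(K)` an `s`-group. -/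
theorem commutator_le_fittingOf_of_relIndex (hsolv : Group.IsSolvable G) (hodd : Odd (Nat.card G))
    {K T : Subgroup G} [K.Normal] {x : G} {r s : ℕ} (hr : r.Prime) (hs : s.Prime)
    (hxr : orderOf x = r) (hrK : ¬ r ∣ Nat.card K)
    (hfix : fittingOf K ⊓ centralizer ({x} : Set G) = ⊥)
    (hFT : fittingOf K ≤ T) (hTK : T ≤ K) (hKT : K ≤ normalizer (T : Set G))
    (hxT : x ∈ normalizer (T : Set G))
    (hidx : ∃ a, (fittingOf K).relIndex T = s ^ a) :
    ⁅T, zpowers x⁆ ≤ fittingOf K := by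
  classical
  haveI : Fact s.Prime := ⟨hs⟩
  haveI : Fact r.Prime := ⟨hr⟩
  set F := fittingOf K with hF
  haveI hFn : F.Normal := fittingOf_normal K
  obtain ⟨a, ha⟩ := hidx
  have hKN : normalizer (K : Set G) = ⊤ := Subgroup.normalizer_eq_top_iff.mpr inferInstance
  have hxK : x ∈ normalizer (K : Set G) := by rw [hKN]; trivial
  -- the trivial case
  rcases Nat.eq_zero_or_pos a with h0 | h0
  · rw [h0, pow_zero, Subgroup.relIndex_eq_one] at ha
    exact (Subgroup.commutator_mono ha le_rfl).trans (Subgroup.commutator_le_left F _)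
  -- `s` divides `|K|`
  have hsT : s ∣ Nat.card T := by
    have h1 : F.relIndex T ∣ Nat.card T := Subgroup.relIndex_dvd_card F T
    rw [ha] at h1
    exact (dvd_pow_self s h0.ne').trans h1
  have hsK : s ∣ Nat.card K := hsT.trans (Subgroup.card_dvd_of_le hTK)
  have hsG : s ∣ Nat.card G := hsK.trans (Subgroup.card_subgroup_dvd_card K)
  have hs2 : s ≠ 2 := by
    rintro rfl
    exact (Nat.not_even_iff_odd.mpr hodd) (even_iff_two_dvd.mpr hsG)
  have hsr : s ≠ r := by
    rintro rfl
    exact hrK hsK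
  -- coprime action on `T`
  have hcardx : Nat.card (zpowers x) = r := by rw [Nat.card_zpowers, hxr]
  have hrT : ¬ r ∣ Nat.card T := fun h => hrK (h.trans (Subgroup.card_dvd_of_le hTK))
  have hA : CoprimeAction (zpowers x) T := by
    refine ⟨zpowers_le.mpr hxT, ?_, Or.inr ?_⟩
    · rw [hcardx]
      exact (Nat.Prime.coprime_iff_not_dvd hr).mpr hrT
    · exact Group.isSolvable_of_isSolvable_injective (Subgroup.subtype_injective T)
  obtain ⟨S₁, hS₁, hxS₁⟩ := coprime_exists_invariant_sylow hA s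
  have hS₁T : S₁ ≤ T := hS₁.le
  have hS₁K : S₁ ≤ K := hS₁T.trans hTK
  have hS₁p : IsPGroup s S₁ := hS₁.isPGroup
  have hxS : x ∈ normalizer (S₁ : Set G) := hxS₁ (mem_zpowers x)
  -- `T = F S₁`
  have hTFS : T ≤ F ⊔ S₁ := by
    rw [← Subgroup.relIndex_eq_one]
    have h1 : (F ⊔ S₁).relIndex T ∣ F.relIndex T := Subgroup.relIndex_dvd_of_le_left T le_sup_left
    have h2 : (F ⊔ S₁).relIndex T ∣ S₁.relIndex T := Subgroup.relIndex_dvd_of_le_left T le_sup_right
    have h3 : Nat.card S₁ * S₁.relIndex T = Nat.card T := SylIn.card_mul_relIndex hS₁T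
    have h4 : (S₁.relIndex T).Coprime s := by
      rw [hS₁.card_eq] at h3
      have h5 : Nat.card T / s ^ (Nat.card T).factorization s = S₁.relIndex T :=
        Nat.div_eq_of_eq_mul_right (pow_pos hs.pos _) h3.symm
      rw [← h5]
      exact (Nat.coprime_ordCompl hs Nat.card_pos.ne').symm
    rw [ha] at h1
    exact Nat.eq_one_of_dvd_coprimes (Nat.Coprime.pow_right a h4) h2 h1
  -- the commutator
  set D : Subgroup G := ⁅S₁, zpowers x⁆ with hD
  have hDS : D ≤ S₁ := by
    rw [hD, Subgroup.commutator_le]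
    intro u hu y hy
    rw [commutatorElement_def]
    have hy' : y ∈ normalizer (S₁ : Set G) := hxS₁ hy
    have h1 : y * u⁻¹ * y⁻¹ ∈ S₁ :=
      (Subgroup.mem_normalizer_iff.mp hy' u⁻¹).mp (S₁.inv_mem hu)
    have h2 : u * y * u⁻¹ * y⁻¹ = u * (y * u⁻¹ * y⁻¹) := by group
    rw [h2]
    exact S₁.mul_mem hu h1
  have hDp : IsPGroup s D := hS₁p.to_le hDS
  -- `D` centralizes `O_q(K)` for `q ≠ s`
  have hDq : ∀ q : ℕ, q.Prime → q ≠ s → D ≤ centralizer ((piCoreOf {q} K : Subgroup G) : Set G) := by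
    intro q hq hqs
    haveI : Fact q.Prime := ⟨hq⟩
    by_cases hqr : q = r
    · subst hqr
      rw [piCoreOf_singleton_eq_bot_of_not_dvd hrK]
      intro d _
      rw [Subgroup.mem_centralizer_iff]
      intro y hy
      have : y = 1 := by simpa using hy
      rw [this]; simp
    · have hQK : piCoreOf {q} K ≤ K := piCoreOf_le _ _
      have hKQ : K ≤ normalizer ((piCoreOf {q} K : Subgroup G) : Set G) :=
        le_normalizer_piCoreOf _ _
      have hxQ : x ∈ normalizer ((piCoreOf {q} K : Subgroup G) : Set G) :=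
        normalizer_le_normalizer_piCoreOf {q} K hxK
      refine Cfsg.Agent.Lib.H8.commutator_le_centralizer_of_fpf (q := q) hr hs hs2 hsr
        (isPGroup_piCoreOf_singleton q K) hS₁p hxr hxS (hS₁K.trans hKQ) hxQ ?_ ?_
      · intro hdvd
        have h1 : Nat.card (S₁ ⊔ zpowers x : Subgroup G) ∣ Nat.card (zpowers x) * Nat.card S₁ := by
          have := card_sup_dvd_of_le_normalizer (H := zpowers x) (N := S₁) hxS₁
          rwa [sup_comm] at this
        have h2 := hdvd.trans h1
        rw [hcardx] at h2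
        rcases (Nat.Prime.dvd_mul hq).mp h2 with h3 | h3
        · exact hqr ((Nat.prime_dvd_prime_iff_eq hq hr).mp h3)
        · obtain ⟨n, hn⟩ := IsPGroup.iff_card.mp hS₁p
          rw [hn] at h3
          exact hqs ((Nat.prime_dvd_prime_iff_eq hq hs).mp (hq.dvd_of_dvd_pow h3))
      · rw [eq_bot_iff, ← hfix]
        exact inf_le_inf_right _ (piCoreOf_singleton_le_fittingOf q K)
  -- the `s`-group `E = D O_s(K)`
  set Qs : Subgroup G := piCoreOf {s} K with hQs
  have hKQs : K ≤ normalizer (Qs : Set G) := le_normalizer_piCoreOf _ _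
  set E : Subgroup G := D ⊔ Qs with hE
  have hEp : IsPGroup s E :=
    IsPGroup.to_sup_of_normal_right' hDp (isPGroup_piCoreOf_singleton s K)
      ((hDS.trans hS₁K).trans hKQs)
  have hET : E ≤ T :=
    sup_le (hDS.trans hS₁T) ((piCoreOf_singleton_le_fittingOf s K).trans hFT)
  have hFnil : Group.IsNilpotent F := fittingOf_isNilpotent K
  have hFK : F ≤ K := fittingOf_le K
  have hKF : K ≤ normalizer (F : Set G) := le_normalizer_fittingOf K
  have hFE : F ≤ normalizer (E : Set G) := by
    refine (le_iSup_piCoreOf_singleton hFnil).trans (iSup_le ?_)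
    intro q
    have hqK : piCoreOf {(q : ℕ)} F ≤ piCoreOf {(q : ℕ)} K :=
      piCoreOf_le_piCoreOf_of_normal _ hFK hKF
    by_cases hqs : (q : ℕ) = s
    · rw [hqs] at hqK ⊢
      exact hqK.trans (le_sup_right.trans Subgroup.le_normalizer)
    · refine hqK.trans (le_trans ?_ (Subgroup.centralizer_le_normalizer _))
      apply le_centralizer_comm
      refine sup_le (hDq q q.2 hqs) ?_
      have hd : Disjoint ({s} : Set ℕ) ({(q : ℕ)} : Set ℕ) := by
        rw [Set.disjoint_singleton]
        exact fun h => hqs h.symm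
      exact piCoreOf_le_centralizer_piCoreOf hd K
  have hS₁E : S₁ ≤ normalizer (E : Set G) :=
    le_normalizer_sup (left_le_normalizer_commutator S₁ (zpowers x)) (hS₁K.trans hKQs)
  have hTE : T ≤ normalizer (E : Set G) := hTFS.trans (sup_le hFE hS₁E)
  have hEFT : E ≤ fittingOf T := le_fittingOf_of_isPGroup hET hTE hEp
  have hFTK : fittingOf T ≤ F :=
    le_fittingOf ((fittingOf_le T).trans hTK) (hKT.trans (normalizer_le_normalizer_fittingOf T))
      (fittingOf_isNilpotent T)
  have hDF : D ≤ F := (le_sup_left.trans hEFT).trans hFTK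
  -- conclusion
  rw [Subgroup.commutator_le]
  intro t ht y hy
  have ht' : t ∈ ((F ⊔ S₁ : Subgroup G) : Set G) := hTFS ht
  rw [Subgroup.normal_mul] at ht'
  obtain ⟨f, hf, u, hu, rfl⟩ := Set.mem_mul.mp ht'
  have h1 : ⁅u, y⁆ ∈ F := hDF (Subgroup.commutator_mem_commutator hu hy)
  have h2 : y * f⁻¹ * y⁻¹ ∈ F := hFn.conj_mem _ (F.inv_mem hf) y
  have h3 : ⁅f * u, y⁆ = f * ⁅u, y⁆ * (y * f⁻¹ * y⁻¹) := by
    rw [commutatorElement_def, commutatorElement_def]; group
  rw [h3]
  exact F.mul_mem (F.mul_mem hf h1) h2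

/-- **Bender–Glauberman 3.7**, prime order form. -/
theorem commutator_zpowers_le_fittingOf (hsolv : Group.IsSolvable G) (hodd : Odd (Nat.card G))
    {K : Subgroup G} [K.Normal] {x : G} {r : ℕ} (hr : r.Prime)
    (hxr : orderOf x = r) (hrK : ¬ r ∣ Nat.card K)
    (hfix : fittingOf K ⊓ centralizer ({x} : Set G) = ⊥) :
    ⁅K, zpowers x⁆ ≤ fittingOf K := by
  classical
  set F := fittingOf K with hF
  haveI hFn : F.Normal := fittingOf_normal K
  let π : G →* G ⧸ F := QuotientGroup.mk' F
  have hπs : Function.Surjective π := QuotientGroup.mk'_surjective F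
  have hker : π.ker = F := QuotientGroup.ker_mk' F
  set Kb : Subgroup (G ⧸ F) := K.map π with hKb
  haveI hKbn : Kb.Normal := Subgroup.Normal.map inferInstance π hπs
  have hKbN : normalizer (Kb : Set (G ⧸ F)) = ⊤ := Subgroup.normalizer_eq_top_iff.mpr hKbn
  set xb : G ⧸ F := π x with hxb
  have hFK : F ≤ K := fittingOf_le K
  have hKbsolv : Group.IsSolvable Kb := by
    haveI : Group.IsSolvable (G ⧸ F) := solvable_of_surjective hπs
    exact Group.isSolvable_of_isSolvable_injective (Subgroup.subtype_injective Kb)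
  have hcardKb : Nat.card Kb ∣ Nat.card K := Subgroup.card_map_dvd K π
  -- `xb` centralizes `F(Kb)`
  have hFb : fittingOf Kb ≤ centralizer ((zpowers xb : Subgroup (G ⧸ F)) : Set (G ⧸ F)) := by
    refine le_centralizer_of_forall_piCoreOf (fittingOf_isNilpotent Kb) ?_
    intro q hq
    haveI : Fact q.Prime := ⟨hq⟩
    set Ob : Subgroup (G ⧸ F) := piCoreOf {q} (fittingOf Kb) with hOb
    have hObn : Ob.Normal := by
      rw [← Subgroup.normalizer_eq_top_iff, eq_top_iff, ← hKbN]
      exact (normalizer_le_normalizer_fittingOf Kb).trans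
        (normalizer_le_normalizer_piCoreOf {q} (fittingOf Kb))
    set T : Subgroup G := Ob.comap π with hT
    haveI hTn : T.Normal := Subgroup.Normal.comap hObn π
    have hTN : normalizer (T : Set G) = ⊤ := Subgroup.normalizer_eq_top_iff.mpr hTn
    have hFT : F ≤ T := by rw [← hker]; exact MonoidHom.ker_le_comap π Ob
    have hTK : T ≤ K := by
      have h1 : Ob ≤ Kb := (piCoreOf_le _ _).trans (fittingOf_le Kb)
      have h2 : T ≤ Kb.comap π := Subgroup.comap_mono h1
      rw [hKb, Subgroup.comap_map_eq, hker, sup_eq_left.mpr hFK] at h2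
      exact h2
    have hTmap : T.map π = Ob := Subgroup.map_comap_eq_self_of_surjective hπs Ob
    have hidx : ∃ a, F.relIndex T = q ^ a := by
      have h1 : π.ker.relIndex T = Nat.card (T.map π) := Subgroup.relIndex_ker T π
      rw [hker, hTmap] at h1
      obtain ⟨a, ha⟩ := IsPGroup.iff_card.mp (isPGroup_piCoreOf_singleton q (fittingOf Kb))
      exact ⟨a, h1.trans ha⟩
    have hcomm := commutator_le_fittingOf_of_relIndex hsolv hodd hr hq hxr hrK hfix hFT hTK
      (by rw [hTN]; exact le_top) (by rw [hTN]; trivial) hidx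
    intro ob hob
    obtain ⟨t, rfl⟩ := hπs ob
    have htT : t ∈ T := hob
    rw [Subgroup.mem_centralizer_iff]
    intro w hw
    have hw' : w ∈ (zpowers x).map π := by rw [MonoidHom.map_zpowers]; exact hw
    obtain ⟨y, hy, rfl⟩ := hw'
    have h1 : ⁅t, y⁆ ∈ F := hcomm (Subgroup.commutator_mem_commutator htT hy)
    have h2 : π ⁅t, y⁆ = 1 := by
      show (QuotientGroup.mk ⁅t, y⁆ : G ⧸ F) = 1
      exact (QuotientGroup.eq_one_iff _).mpr h1
    rw [map_commutatorElement, commutatorElement_eq_one_iff_mul_comm] at h2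
    exact h2.symm
  -- faithful descent
  have hxbr : xb ^ r = 1 := by
    rw [hxb, ← map_pow, ← hxr, pow_orderOf_eq_one, map_one]
  have hcop : r.Coprime (Nat.card Kb) :=
    (Nat.Prime.coprime_iff_not_dvd hr).mpr (fun h => hrK (h.trans hcardKb))
  have hxbF : xb ∈ centralizer ((fittingOf Kb : Subgroup (G ⧸ F)) : Set (G ⧸ F)) :=
    (le_centralizer_comm hFb) (mem_zpowers xb)
  have key : xb ∈ centralizer (Kb : Set (G ⧸ F)) :=
    Cfsg.Agent.Lib.H7.faithful_descent (le_normalizer_fittingOf Kb)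
      (inf_centralizer_fittingOf_le hKbsolv) (by rw [hKbN]; trivial) hxbr hcop hxbF
  -- conclusion
  rw [Subgroup.commutator_le]
  intro k hk y hy
  obtain ⟨j, rfl⟩ := Subgroup.mem_zpowers_iff.mp hy
  have h1 : π k ∈ Kb := Subgroup.mem_map_of_mem π hk
  have h2 : π k * xb = xb * π k := Subgroup.mem_centralizer_iff.mp key _ h1
  have h3 : Commute (π k) (π (x ^ j)) := by
    rw [map_zpow]
    exact (show Commute (π k) xb from h2).zpow_right j
  have h4 : π ⁅k, x ^ j⁆ = 1 := by
    rw [map_commutatorElement, commutatorElement_eq_one_iff_mul_comm]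
    exact h3.eq
  have h5 : (QuotientGroup.mk ⁅k, x ^ j⁆ : G ⧸ F) = 1 := h4
  exact (QuotientGroup.eq_one_iff _).mp h5

end Cfsg.Agent.Lib.H8.BG37
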