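import Mathlib
import Cfsg.Agent.Lib.H7.BG10c
import Cfsg.Agent.Lib.H15.RankOne
import Cfsg.Agent.Lib.H3.CarterSys
import Cfsg.Agent.Lib.H16.SylCommA

/-! # Bender–Glauberman §12, Lemma 12.1 (helper8)

Structure of a complement `E` of `M_σ` in a maximal subgroup `M`, under the hypothesis `Uniq3`
(the Uniqueness Theorem, rank three part). -/

set_option autoImplicit false
set_option linter.style.haveILetI false
set_option linter.unusedSectionVars false
set_option linter.unusedVariables false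

open Cfsg

namespace Cfsg.Agent.Lib.H8.BG12

open Cfsg.Agent.Lib.H16.BG
open Cfsg.Agent.Lib.H7.BG7
open Cfsg.Agent.Lib.H7.BG10
open scoped commutatorElement

universe u

section general

variable {X : Type*} [Group X]

/-- A subgroup whose order is coprime to the index of a normal subgroup lies in it. -/
theorem le_of_coprime_card_index [Finite X] {H N : Subgroup X} [N.Normal]
    (h : (Nat.card H).Coprime N.index) : H ≤ N := by
  intro x hx
  have h1 : orderOf x ∣ Nat.card H := by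
    have := orderOf_dvd_natCard (⟨x, hx⟩ : H)
    rwa [Subgroup.orderOf_mk] at this
  have hc : (orderOf x).Coprime N.index := h.coprime_dvd_left h1
  have h3 : orderOf ((QuotientGroup.mk' N) x) ∣ orderOf x := orderOf_map_dvd _ x
  have h4 : orderOf ((QuotientGroup.mk' N) x) ∣ N.index := by
    rw [Subgroup.index_eq_card]; exact orderOf_dvd_natCard _
  have h5 : orderOf ((QuotientGroup.mk' N) x) = 1 := (hc.coprime_dvd_left h3).eq_one_of_dvd h4
  exact (QuotientGroup.eq_one_iff x).1 (orderOf_eq_one_iff.1 h5)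

theorem commutator_self_le (E : Subgroup X) : ⁅E, E⁆ ≤ E :=
  Subgroup.commutator_le.2 (fun a ha b hb =>
    E.mul_mem (E.mul_mem (E.mul_mem ha hb) (E.inv_mem ha)) (E.inv_mem hb))

/-- If `E` is a complement of the normal subgroup `S`, then `X' ∩ E ≤ E'`. -/
theorem commutator_inf_le_of_compl (E S : Subgroup X) [S.Normal] (hES : E ⊓ S = ⊥)
    (hprod : ∀ m : X, ∃ a ∈ E, ∃ b ∈ S, m = a * b) : commutator X ⊓ E ≤ ⁅E, E⁆ := by
  have hEtop : E.map (QuotientGroup.mk' S) = ⊤ := by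
    rw [eq_top_iff]
    intro y _
    obtain ⟨m, rfl⟩ := QuotientGroup.mk'_surjective S y
    obtain ⟨a, ha, b, hb, rfl⟩ := hprod m
    refine ⟨a, ha, ?_⟩
    have hb1 : (QuotientGroup.mk' S) b = 1 := (QuotientGroup.eq_one_iff b).2 hb
    rw [map_mul, hb1, mul_one]
  have hc : (commutator X).map (QuotientGroup.mk' S) = (⁅E, E⁆).map (QuotientGroup.mk' S) := by
    rw [commutator_def, Subgroup.map_commutator, Subgroup.map_commutator, hEtop,
      ← MonoidHom.range_eq_map, MonoidHom.range_eq_top.2 (QuotientGroup.mk'_surjective S)]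
  rintro x ⟨hx1, hx2⟩
  have hx : (QuotientGroup.mk' S) x ∈ (⁅E, E⁆).map (QuotientGroup.mk' S) :=
    hc ▸ Subgroup.mem_map_of_mem _ hx1
  obtain ⟨y, hy, hyx⟩ := hx
  have h1 : y⁻¹ * x ∈ S := by
    rw [← QuotientGroup.eq_one_iff, ← QuotientGroup.mk'_apply, map_mul, map_inv, hyx,
      inv_mul_cancel]
  have hyE : y ∈ E := commutator_self_le E hy
  have h2 : y⁻¹ * x ∈ E ⊓ S := ⟨E.mul_mem (E.inv_mem hyE) hx2, h1⟩
  rw [hES, Subgroup.mem_bot] at h2
  have : x = y := by
    have := congrArg (fun t => y * t) h2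
    simpa using this
  rw [this]; exact hy

end general

variable {G : Type u} [Group G] [Finite G]

theorem commutator_le_of_le {E M : Subgroup G} (hEM : E ≤ M) : ⁅E, E⁆ ≤ M :=
  (commutator_self_le E).trans hEM

theorem mem_commutator_subtype {M : Subgroup G} {x : G} (hx : x ∈ ⁅M, M⁆) (hxM : x ∈ M) :
    (⟨x, hxM⟩ : ↥M) ∈ commutator ↥M := by
  rw [← Subgroup.map_subtype_commutator] at hx
  obtain ⟨y, hy, hyx⟩ := hx
  have : y = ⟨x, hxM⟩ := Subtype.ext hyx
  rwa [← this]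

/-- **BG 12.1(a)**: `E'` is nilpotent. -/
theorem compl_commutator_nilpotent (hG : IsMinSimpleOddOrder G) (hU : Uniq3 G) {M : Subgroup G}
    (hM : IsCoatom M) {E : Subgroup G} (hE : IsComplIn E (sigmaCore M) M) :
    Group.IsNilpotent ↥⁅E, E⁆ := by
  obtain ⟨-, -, hασ, -, hnil⟩ := alpha_core_hall hG hU hM
  have hEM : E ≤ M := hE.1
  have hDM : ⁅E, E⁆ ≤ M := commutator_le_of_le hEM
  have hf0 : ∀ x : ↥⁅E, E⁆, ((QuotientGroup.mk' (piCore (alpha M) ↥M)).comp
      (Subgroup.inclusion hDM)) x ∈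
      (commutator ↥M).map (QuotientGroup.mk' (piCore (alpha M) ↥M)) := by
    intro x
    refine ⟨Subgroup.inclusion hDM x, ?_, rfl⟩
    exact mem_commutator_subtype (Subgroup.commutator_mono hEM hEM x.2) (hDM x.2)
  let f : ↥⁅E, E⁆ →* ↥((commutator ↥M).map (QuotientGroup.mk' (piCore (alpha M) ↥M))) :=
    ((QuotientGroup.mk' (piCore (alpha M) ↥M)).comp (Subgroup.inclusion hDM)).codRestrict _ hf0
  have hinj : Function.Injective f := by
    rw [injective_iff_map_eq_one]
    intro x hx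
    have h1 : (QuotientGroup.mk' (piCore (alpha M) ↥M)) (Subgroup.inclusion hDM x) = 1 := by
      have := congrArg Subtype.val hx
      simpa [f] using this
    have h2 : Subgroup.inclusion hDM x ∈ piCore (alpha M) ↥M := (QuotientGroup.eq_one_iff _).1 h1
    have h3 : (x : G) ∈ alphaCore M := ⟨_, h2, rfl⟩
    have h4 : (x : G) ∈ E ⊓ sigmaCore M := ⟨commutator_self_le E x.2, hασ h3⟩
    rw [hE.2.2.1] at h4
    exact Subtype.ext (Subgroup.mem_bot.1 h4)
  haveI := hnil
  exact Group.nilpotent_of_mulEquiv (MonoidHom.ofInjective hinj).symm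

theorem card_subgroupOf_le {H K : Subgroup G} (h : H ≤ K) :
    Nat.card ↥(H.subgroupOf K) = Nat.card ↥H :=
  Nat.card_congr (Subgroup.subgroupOfEquivOfLe h).toEquiv

theorem odd_card_of_minSimple (hG : IsMinSimpleOddOrder G) (H : Subgroup G) :
    Odd (Nat.card ↥H) := odd_card_subgroup hG H

/-- A subgroup of `M` all of whose prime divisors `p` satisfy `r_p(M) ≤ 1` is a Z-group
(odd order). -/
theorem isZGroup_of_rank_one (hG : IsMinSimpleOddOrder G) {M H : Subgroup G} (hHM : H ≤ M)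
    (hr : ∀ p : ℕ, p.Prime → p ∣ Nat.card ↥H → PRankLE p 1 ↥M) : IsZGroup ↥H := by
  refine ⟨fun p hp P => ?_⟩
  haveI : Fact p.Prime := ⟨hp⟩
  by_cases hd : p ∣ Nat.card ↥H
  · have hp2 : p ≠ 2 := by
      rintro rfl
      have := odd_card_of_minSimple hG H
      rw [← Nat.not_even_iff_odd] at this
      exact this (even_iff_two_dvd.2 hd)
    have hrk : PRankLE p 1 ↥H := pRankLE_of_le hHM (hr p hp hd)
    exact Cfsg.Agent.Lib.H15.isCyclic_of_pRankLE_one hp2 hrk P.2
  · obtain ⟨k, hk⟩ := IsPGroup.iff_card.1 P.2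
    have hk0 : k = 0 := by
      by_contra h0
      apply hd
      have h1 : p ∣ Nat.card ↥(P : Subgroup ↥H) := by rw [hk]; exact dvd_pow_self p h0
      exact h1.trans (Subgroup.card_subgroup_dvd_card _)
    rw [hk0, pow_zero] at hk
    haveI : Subsingleton ↥(P : Subgroup ↥H) := Finite.card_le_one_iff_subsingleton.1 hk.le
    exact isCyclic_of_subsingleton

/-- **BG 12.1(c)**: a `τ₁(M)`-subgroup of `M` is cyclic. -/
theorem tau1_subgroup_cyclic (hG : IsMinSimpleOddOrder G) {M E₁ : Subgroup G} (hEM : E₁ ≤ M)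
    (hpi : ∀ p : ℕ, p.Prime → p ∣ Nat.card ↥E₁ → p ∈ tau1 M) : IsCyclic ↥E₁ := by
  have hbot : E₁ ⊓ ⁅M, M⁆ = ⊥ := by
    apply Subgroup.eq_bot_of_card_eq
    by_contra h1
    obtain ⟨p, hp, hpd⟩ := Nat.exists_prime_and_dvd h1
    have h2 : p ∣ Nat.card ↥E₁ := hpd.trans (Subgroup.card_dvd_of_le inf_le_left)
    have h3 : p ∣ Nat.card ↥⁅M, M⁆ := hpd.trans (Subgroup.card_dvd_of_le inf_le_right)
    exact (hpi p hp h2).2.2.2.1 h3
  haveI : IsZGroup ↥E₁ := isZGroup_of_rank_one hG hEM (fun p hp hd => (hpi p hp hd).2.2.2.2)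
  have hinj : Function.Injective ((Abelianization.of (G := ↥M)).comp (Subgroup.inclusion hEM)) := by
    rw [injective_iff_map_eq_one]
    intro x hx
    have h1 : Subgroup.inclusion hEM x ∈ (Abelianization.of (G := ↥M)).ker := hx
    rw [Abelianization.ker_of] at h1
    have h2 : (x : G) ∈ ⁅M, M⁆ := by
      rw [← Subgroup.map_subtype_commutator]
      exact ⟨_, h1, rfl⟩
    have h3 : (x : G) ∈ E₁ ⊓ ⁅M, M⁆ := ⟨x.2, h2⟩
    rw [hbot] at h3
    exact Subtype.ext (Subgroup.mem_bot.1 h3)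
  haveI : Group.IsNilpotent ↥E₁ := Group.nilpotent_of_mulEquiv (MonoidHom.ofInjective hinj).symm
  infer_instance

/-- A `τ₃(M)`-subgroup of `M` lies in `M'`. -/
theorem tau3_subgroup_le_commutator (hG : IsMinSimpleOddOrder G) {M E₃ : Subgroup G} (hEM : E₃ ≤ M)
    (hpi : ∀ p : ℕ, p.Prime → p ∣ Nat.card ↥E₃ → p ∈ tau3 M) : E₃ ≤ ⁅M, M⁆ := by
  have hcop : (Nat.card ↥(E₃.subgroupOf M)).Coprime (commutator ↥M).index := by
    apply Nat.coprime_of_dvd
    intro p hp hd1 hd2
    rw [card_subgroupOf_le hEM] at hd1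
    haveI : Fact p.Prime := ⟨hp⟩
    obtain ⟨-, -, hdc, hrk⟩ := hpi p hp hd1
    have hp2 : p ≠ 2 := by
      rintro rfl
      have := odd_card_of_minSimple hG E₃
      rw [← Nat.not_even_iff_odd] at this
      exact this (even_iff_two_dvd.2 hd1)
    let P : Sylow p ↥M := default
    haveI : IsCyclic ↥(P : Subgroup ↥M) := Cfsg.Agent.Lib.H15.isCyclic_of_pRankLE_one hp2 hrk P.2
    rcases Sylow.not_dvd_card_commutator_or_not_dvd_index_commutator P with h | h
    · apply h
      have : Nat.card ↥(commutator ↥M) = Nat.card ↥⁅M, M⁆ := by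
        rw [← Subgroup.map_subtype_commutator]
        exact (Subgroup.card_map_of_injective M.subtype_injective).symm
      rw [this]; exact hdc
    · exact h hd2
  have h1 : E₃.subgroupOf M ≤ commutator ↥M := le_of_coprime_card_index hcop
  have h2 := Subgroup.map_mono (f := M.subtype) h1
  rwa [Subgroup.map_subgroupOf_eq_of_le hEM, Subgroup.map_subtype_commutator] at h2

/-- `M' ∩ E ≤ E'` for a complement `E` of `M_σ` in `M`. -/
theorem commutator_inf_compl_le {M E : Subgroup G} (hE : IsComplIn E (sigmaCore M) M) :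
    ⁅M, M⁆ ⊓ E ≤ ⁅E, E⁆ := by
  have hEM : E ≤ M := hE.1
  have hES : E.subgroupOf M ⊓ piCore (sigma M) ↥M = ⊥ := by
    rw [eq_bot_iff]
    rintro x ⟨hx1, hx2⟩
    have h3 : (x : G) ∈ E ⊓ sigmaCore M := ⟨hx1, ⟨x, hx2, rfl⟩⟩
    rw [hE.2.2.1] at h3
    exact Subgroup.mem_bot.2 (Subtype.ext (Subgroup.mem_bot.1 h3))
  have hprod : ∀ m : ↥M, ∃ a ∈ E.subgroupOf M, ∃ b ∈ piCore (sigma M) ↥M, m = a * b := by
    intro m
    obtain ⟨a, ha, b, ⟨b', hb', rfl⟩, hm⟩ := hE.2.2.2 (m : G) m.2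
    exact ⟨⟨a, hEM ha⟩, ha, b', hb', Subtype.ext hm⟩
  have key := commutator_inf_le_of_compl (E.subgroupOf M) (piCore (sigma M) ↥M) hES hprod
  rintro x ⟨hx1, hx2⟩
  have hxM : x ∈ M := hEM hx2
  have h1 : (⟨x, hxM⟩ : ↥M) ∈ ⁅E.subgroupOf M, E.subgroupOf M⁆ :=
    key ⟨mem_commutator_subtype hx1 hxM, hx2⟩
  have h2 : x ∈ (⁅E.subgroupOf M, E.subgroupOf M⁆).map M.subtype := ⟨_, h1, rfl⟩
  rwa [Subgroup.map_commutator, Subgroup.map_subgroupOf_eq_of_le hEM] at h2

/-- In a nilpotent group, a Hall subgroup contains every element whose order divides its order. -/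
theorem mem_hall_of_nilpotent {D : Type*} [Group D] [Finite D] [Group.IsNilpotent D]
    (Y : Subgroup D) (h : (Nat.card ↥Y).Coprime Y.index) {y : D} (hy : orderOf y ∣ Nat.card ↥Y) :
    y ∈ Y := by
  haveI : Y.Normal := Cfsg.Agent.Lib.H3.hall_normal_of_isNilpotent Y h
  have h1 : (Nat.card ↥(Subgroup.zpowers y)).Coprime Y.index := by
    rw [Nat.card_zpowers]
    exact h.coprime_dvd_left hy
  exact le_of_coprime_card_index h1 (Subgroup.mem_zpowers y)

/-- **BG 12.1(b),(e)**: a Hall `τ₃(M)`-subgroup of `E` is cyclic, lies in `E'` and is normal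
in `E`. -/
theorem hall_tau3_structure (hG : IsMinSimpleOddOrder G) (hU : Uniq3 G) {M : Subgroup G}
    (hM : IsCoatom M) {E : Subgroup G} (hE : IsComplIn E (sigmaCore M) M) {E₃ : Subgroup G}
    (hE₃ : IsPiHallOf (tau3 M) E₃ E) :
    IsCyclic ↥E₃ ∧ E₃ ≤ ⁅E, E⁆ ∧ E ≤ Subgroup.normalizer (E₃ : Set G) := by
  obtain ⟨hE₃E, hpi, hidx⟩ := hE₃
  have hEM : E ≤ M := hE.1
  have hE₃M : E₃ ≤ M := hE₃E.trans hEM
  have hle : E₃ ≤ ⁅E, E⁆ := fun x hx =>
    commutator_inf_compl_le hE ⟨tau3_subgroup_le_commutator hG hE₃M hpi hx, hE₃E hx⟩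
  haveI hnilD : Group.IsNilpotent ↥⁅E, E⁆ := compl_commutator_nilpotent hG hU hM hE
  refine ⟨?_, hle, ?_⟩
  · haveI : IsZGroup ↥E₃ := isZGroup_of_rank_one hG hE₃M (fun p hp hd => (hpi p hp hd).2.2.2)
    haveI : Group.IsNilpotent ↥E₃ :=
      Group.nilpotent_of_mulEquiv (MonoidHom.ofInjective (Subgroup.inclusion_injective hle)).symm
    infer_instance
  · apply Cfsg.Agent.Lib.H16.SylComm.le_normalizer_of_conj_mem
    intro e he x hx
    have hDE : ⁅E, E⁆ ≤ E := commutator_self_le E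
    have hcop : (Nat.card ↥(E₃.subgroupOf ⁅E, E⁆)).Coprime (E₃.subgroupOf ⁅E, E⁆).index := by
      rw [card_subgroupOf_le hle]
      apply Nat.coprime_of_dvd
      intro p hp hd1 hd2
      apply hidx p hp (hpi p hp hd1)
      rw [← Subgroup.relIndex_mul_relIndex E₃ ⁅E, E⁆ E hle hDE]
      exact Dvd.dvd.mul_right hd2 _
    have hyD : e * x * e⁻¹ ∈ ⁅E, E⁆ := by
      have hn : E ≤ Subgroup.normalizer ((⁅E, E⁆ : Subgroup G) : Set G) :=
        Cfsg.Agent.Lib.H16.SylComm.left_le_normalizer_commutator E E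
      exact ((Subgroup.mem_normalizer_iff.1 (hn he)) x).1 (hle hx)
    have hord : orderOf (⟨e * x * e⁻¹, hyD⟩ : ↥⁅E, E⁆) ∣ Nat.card ↥(E₃.subgroupOf ⁅E, E⁆) := by
      rw [card_subgroupOf_le hle, Subgroup.orderOf_mk]
      have h1 : orderOf (e * x * e⁻¹) = orderOf x := by
        have := orderOf_injective (MulAut.conj e).toMonoidHom (MulAut.conj e).injective x
        simpa using this
      rw [h1]
      have := orderOf_dvd_natCard (⟨x, hx⟩ : ↥E₃)
      rwa [Subgroup.orderOf_mk] at this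
    exact mem_hall_of_nilpotent (E₃.subgroupOf ⁅E, E⁆) hcop hord

end Cfsg.Agent.Lib.H8.BG12
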