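import Mathlib
import Cfsg.Agent.Lib.H8.BG12a
import Cfsg.Agent.Lib.H7.BG10e
import Cfsg.Agent.Lib.H7.TypeP
import Cfsg.Agent.Lib.H19.HallPi
import Cfsg.Agent.Lib.H20.BGS1

/-! # Bender–Glauberman §12: tools for Corollary 12.10 (helper8) -/

set_option autoImplicit false
set_option linter.style.haveILetI false
set_option linter.unusedSectionVars false
set_option linter.unusedVariables false

open Cfsg

namespace Cfsg.Agent.Lib.H8.BG12

open Cfsg.Agent.Lib.H16.BG
open Cfsg.Agent.Lib.H7.BG7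
open Cfsg.Agent.Lib.H7.BG10
open Cfsg.Agent.Lib.H19 (IsPiCard)
open scoped commutatorElement Pointwise

universe u

/-- A finite nilpotent group all of whose Sylow subgroups are abelian is abelian. -/
theorem isMulCommutative_of_nilpotent_of_sylow {N : Type*} [Group N] [Finite N]
    [Group.IsNilpotent N]
    (h : ∀ (p : ℕ) [Fact p.Prime] (P : Sylow p N), IsMulCommutative ↥(P : Subgroup N)) :
    IsMulCommutative N := by
  let e := Sylow.directProductOfNormal (G := N) (fun {p} _ P => inferInstance)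
  refine ⟨⟨fun a b => ?_⟩⟩
  obtain ⟨f, rfl⟩ := e.surjective a
  obtain ⟨g, rfl⟩ := e.surjective b
  rw [← map_mul, ← map_mul]
  congr 1
  funext p P
  haveI : Fact (p : ℕ).Prime := Fact.mk (Nat.prime_of_mem_primeFactors p.2)
  exact (h p P).is_comm.comm (f p P) (g p P)

variable {G : Type u} [Group G] [Finite G]

/-- A subgroup of `p`-rank at least two contains an elementary abelian subgroup of order `p²`. -/
theorem exists_elemAb_sq {p : ℕ} (hp : p.Prime) {Z : Subgroup G} (h : ¬ PRankLE p 1 ↥Z) :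
    ∃ A : Subgroup G, A ≤ Z ∧ IsElementaryAbelian p A ∧ Nat.card A = p ^ 2 := by
  haveI : Fact p.Prime := ⟨hp⟩
  obtain ⟨B, hBZ, hB, hcard⟩ := exists_elemAb_of_not_pRankLE hp h
  obtain ⟨j, hj⟩ := IsPGroup.iff_card.1 (isPGroup_of_elemAb hB)
  have hj2 : 2 ≤ j := by
    rw [hj] at hcard
    exact (Nat.pow_le_pow_iff_right hp.one_lt).1 hcard
  have hdvd : p ^ 2 ∣ Nat.card ↥B := by rw [hj]; exact pow_dvd_pow p hj2
  obtain ⟨K, hK⟩ := Sylow.exists_subgroup_card_pow_prime p hdvd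
  refine ⟨K.map B.subtype, (Subgroup.map_subtype_le K).trans hBZ, ⟨⟨⟨?_⟩⟩, ?_⟩, ?_⟩
  · rintro ⟨_, x, hx, rfl⟩ ⟨_, y, hy, rfl⟩
    apply Subtype.ext
    have := hB.1.is_comm.comm x y
    show (x : G) * (y : G) = (y : G) * (x : G)
    exact congrArg Subtype.val this
  · rintro _ ⟨x, hx, rfl⟩
    exact hB.2 x x.2
  · rw [Subgroup.card_map_of_injective B.subtype_injective, hK]

/-- an odd `p`-subgroup of `p`-rank one is cyclic. -/
theorem isCyclic_of_isPGroup_of_rank_one {p : ℕ} [Fact p.Prime] (hp2 : p ≠ 2) {P : Subgroup G}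
    (hP : IsPGroup p P) (hr : PRankLE p 1 ↥P) : IsCyclic ↥P := by
  have h1 : IsCyclic ↥(⊤ : Subgroup ↥P) :=
    Cfsg.Agent.Lib.H15.isCyclic_of_pRankLE_one hp2 hr (hP.to_subgroup ⊤)
  exact isCyclic_of_surjective (Subgroup.topEquiv (G := ↥P)) (Subgroup.topEquiv (G := ↥P)).surjective

/-- a noncyclic `p`-subgroup (odd) contains an elementary abelian subgroup of order `p²`. -/
theorem exists_elemAb_sq_of_not_cyclic {p : ℕ} [hp : Fact p.Prime] (hp2 : p ≠ 2) {P : Subgroup G}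
    (hP : IsPGroup p P) (hc : ¬ IsCyclic ↥P) :
    ∃ A : Subgroup G, A ≤ P ∧ IsElementaryAbelian p A ∧ Nat.card A = p ^ 2 :=
  exists_elemAb_sq hp.out (fun hr => hc (isCyclic_of_isPGroup_of_rank_one hp2 hP hr))

theorem prime_ne_two_of_dvd (hG : IsMinSimpleOddOrder G) {p : ℕ} {H : Subgroup G}
    (hd : p ∣ Nat.card ↥H) : p ≠ 2 := by
  rintro rfl
  have := odd_card_subgroup hG H
  rw [← Nat.not_even_iff_odd] at this
  exact this (even_iff_two_dvd.2 hd)

/-- Sylow subgroups for the same prime are simultaneously abelian. -/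
theorem sylow_comm_of_comm {p : ℕ} [Fact p.Prime] (S S' : Sylow p G)
    (h : IsMulCommutative ↥(S : Subgroup G)) : IsMulCommutative ↥(S' : Subgroup G) := by
  obtain ⟨g, rfl⟩ := MulAction.exists_smul_eq G S S'
  refine ⟨⟨?_⟩⟩
  rintro ⟨a, ha⟩ ⟨b, hb⟩
  apply Subtype.ext
  show a * b = b * a
  rw [Sylow.coe_subgroup_smul, Subgroup.mem_pointwise_smul_iff_inv_smul_mem] at ha hb
  have h1 := h.is_comm.comm ⟨_, ha⟩ ⟨_, hb⟩
  have h2 : ((MulAut.conj g)⁻¹ • a) * ((MulAut.conj g)⁻¹ • b) =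
      ((MulAut.conj g)⁻¹ • b) * ((MulAut.conj g)⁻¹ • a) := congrArg Subtype.val h1
  simp only [MulAut.smul_def, ← map_inv, MulAut.conj_apply, inv_inv] at h2
  have h3 : g * (g⁻¹ * a * g * (g⁻¹ * b * g)) * g⁻¹ = g * (g⁻¹ * b * g * (g⁻¹ * a * g)) * g⁻¹ := by
    rw [h2]
  simpa [mul_assoc] using h3

/-! ### complements of `M_σ` -/

section compl

variable {M E : Subgroup G}

theorem compl_card_eq_relIndex (hE : IsComplIn E (sigmaCore M) M) :
    Nat.card ↥E = (sigmaCore M).relIndex M := by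
  have h1 := Cfsg.Agent.Lib.H7.isComplIn_card_mul hE
  have h2 := SylIn.card_mul_relIndex hE.2.1
  have h3 : Nat.card ↥E * Nat.card ↥(sigmaCore M) =
      (sigmaCore M).relIndex M * Nat.card ↥(sigmaCore M) := by
    rw [h1, mul_comm, h2]
  exact Nat.eq_of_mul_eq_mul_right Nat.card_pos h3

theorem compl_relIndex_eq_card (hE : IsComplIn E (sigmaCore M) M) :
    E.relIndex M = Nat.card ↥(sigmaCore M) := by
  have h1 := Cfsg.Agent.Lib.H7.isComplIn_card_mul hE
  have h2 := SylIn.card_mul_relIndex hE.1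
  have h3 : Nat.card ↥E * E.relIndex M = Nat.card ↥E * Nat.card ↥(sigmaCore M) := by
    rw [h1, h2]
  exact Nat.eq_of_mul_eq_mul_left Nat.card_pos h3

end compl

/-! ### commutativity helpers -/

theorem comm_of_mem {H : Subgroup G} (h : IsMulCommutative ↥H) {a b : G} (ha : a ∈ H)
    (hb : b ∈ H) : a * b = b * a :=
  congrArg Subtype.val (h.is_comm.comm ⟨a, ha⟩ ⟨b, hb⟩)

theorem isMulCommutative_of_forall {H : Subgroup G} (h : ∀ a ∈ H, ∀ b ∈ H, a * b = b * a) :
    IsMulCommutative ↥H :=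
  ⟨⟨fun a b => Subtype.ext (h a a.2 b b.2)⟩⟩

theorem isMulCommutative_of_le {H K : Subgroup G} (hHK : H ≤ K) (h : IsMulCommutative ↥K) :
    IsMulCommutative ↥H :=
  isMulCommutative_of_forall (fun a ha b hb => comm_of_mem h (hHK ha) (hHK hb))

theorem isMulCommutative_of_isCyclic {α : Type*} [Group α] [IsCyclic α] : IsMulCommutative α :=
  ⟨⟨fun a b => by
    obtain ⟨g, hg⟩ := IsCyclic.exists_generator (α := α)
    obtain ⟨m, rfl⟩ := hg a
    obtain ⟨n, rfl⟩ := hg b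
    exact zpow_mul_comm g m n⟩⟩

theorem isMulCommutative_of_subsingleton {α : Type*} [Group α] [Subsingleton α] :
    IsMulCommutative α :=
  ⟨⟨fun a b => Subsingleton.elim _ _⟩⟩

theorem sylow_subsingleton_of_not_dvd {N : Type*} [Group N] [Finite N] {q : ℕ} [Fact q.Prime]
    (T : Sylow q N) (hd : ¬ q ∣ Nat.card N) : Subsingleton ↥(T : Subgroup N) := by
  obtain ⟨k, hk⟩ := IsPGroup.iff_card.1 T.2
  have hk0 : k = 0 := by
    by_contra h0
    apply hd
    have h1 : q ∣ Nat.card ↥(T : Subgroup N) := by rw [hk]; exact dvd_pow_self q h0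
    exact h1.trans (Subgroup.card_subgroup_dvd_card _)
  rw [hk0, pow_zero] at hk
  exact Finite.card_le_one_iff_subsingleton.1 hk.le

/-- a Sylow subgroup `Q` of `M` (in the sense of `SylIn`) is abelian if the Sylow subgroups of
the type `↥M` are. -/
theorem sylIn_comm {q : ℕ} [Fact q.Prime] {M Q : Subgroup G} (hQ : SylIn q Q M)
    (h : ∀ P : Sylow q ↥M, IsMulCommutative ↥(P : Subgroup ↥M)) : IsMulCommutative ↥Q := by
  obtain ⟨P, hP⟩ := hQ.exists_sylow
  haveI := h P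
  have : IsMulCommutative ↥((P : Subgroup ↥M).map M.subtype) := inferInstance
  rwa [hP] at this

/-! ### the Hall subgroup `M_σ` -/

section sigma

variable {M E : Subgroup G}

theorem compl_not_sigma (hσ : IsPiHallOf (sigma M) (sigmaCore M) M)
    (hE : IsComplIn E (sigmaCore M) M) {q : ℕ} (hq : q.Prime) (hd : q ∣ Nat.card ↥E) :
    q ∉ sigma M := by
  intro hqσ
  rw [compl_card_eq_relIndex hE] at hd
  exact hσ.2.2 q hq hqσ hd

theorem sylIn_of_compl (hσ : IsPiHallOf (sigma M) (sigmaCore M) M)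
    (hE : IsComplIn E (sigmaCore M) M) {q : ℕ} [hq : Fact q.Prime] (hqσ : q ∉ sigma M)
    {Q : Subgroup G} (hQ : SylIn q Q E) : SylIn q Q M := by
  refine ⟨hQ.1.trans hE.1, hQ.2.1, fun hd => ?_⟩
  rw [← Subgroup.relIndex_mul_relIndex Q E M hQ.1 hE.1, Nat.Prime.dvd_mul hq.out] at hd
  rcases hd with hd | hd
  · exact hQ.2.2 hd
  · rw [compl_relIndex_eq_card hE] at hd
    exact hqσ (hσ.2.1 q hq.out hd)

theorem sigmaCore_relIndex_eq (M : Subgroup G) :
    (sigmaCore M).relIndex M = (piCore (sigma M) ↥M).index := by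
  unfold sigmaCore Subgroup.relIndex
  rw [Subgroup.subgroupOf, Subgroup.comap_map_eq_self_of_injective M.subtype_injective]

/-- a `σ(M)`-subgroup of `M` lies in `M_σ`. -/
theorem le_sigmaCore (hσ : IsPiHallOf (sigma M) (sigmaCore M) M) {X : Subgroup G} (hXM : X ≤ M)
    (hX : ∀ q : ℕ, q.Prime → q ∣ Nat.card ↥X → q ∈ sigma M) : X ≤ sigmaCore M := by
  have hcop : (Nat.card ↥(X.subgroupOf M)).Coprime (piCore (sigma M) ↥M).index := by
    apply Nat.coprime_of_dvd
    intro q hq hd1 hd2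
    rw [card_subgroupOf_le hXM] at hd1
    rw [← sigmaCore_relIndex_eq] at hd2
    exact hσ.2.2 q hq (hX q hq hd1) hd2
  have h1 : X.subgroupOf M ≤ piCore (sigma M) ↥M := le_of_coprime_card_index hcop
  have h2 := Subgroup.map_mono (f := M.subtype) h1
  rwa [Subgroup.map_subgroupOf_eq_of_le hXM] at h2

end sigma

/-! ### Hypotheses: the needed parts of the frozen statements S1414, S1416–S1419 -/

/-- S1416(a). -/
def HypCent (G : Type u) [Group G] : Prop :=
  ∀ (M : Subgroup G), IsCoatom M → ∀ (p : ℕ) [Fact p.Prime] (A : Subgroup G),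
    A ≤ M → IsElementaryAbelian p A → Nat.card A = p ^ 2 → Subgroup.centralizer (A : Set G) ≤ M

/-- S1417(b),(e). -/
def HypTau2 (G : Type u) [Group G] : Prop :=
  ∀ (M : Subgroup G), IsCoatom M → ∀ (p : ℕ) [Fact p.Prime], p ∈ tau2 M → ∀ A : Subgroup G,
    A ≤ M → IsElementaryAbelian p A → Nat.card A = p ^ 2 →
    (∀ P : Sylow p M, IsMulCommutative (P : Subgroup M) ∧
        (A ≤ (P : Subgroup M).map M.subtype →
          (∀ x ∈ (P : Subgroup M).map M.subtype, x ^ p = 1 ↔ x ∈ A))) ∧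
    (∀ Mstar : Subgroup G, IsCoatom Mstar → Mstar ≠ M → A ≤ Mstar → sigmaCore M ⊓ Mstar = ⊥)

/-- S1418 (parts). -/
def HypNorm (G : Type u) [Group G] : Prop :=
  ∀ (M : Subgroup G), IsCoatom M → ∀ E : Subgroup G, IsComplIn E (sigmaCore M) M →
    ∀ (p : ℕ) [Fact p.Prime], p ∈ tau2 M → ∀ A : Subgroup G,
    A ≤ E → IsElementaryAbelian p A → Nat.card A = p ^ 2 →
    E ≤ Subgroup.normalizer (A : Set G) ∧ ¬ Subgroup.normalizer (A : Set G) ≤ M

/-- S1419 (part). -/
def HypNonab (G : Type u) [Group G] : Prop :=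
  ∀ (M : Subgroup G), IsCoatom M → ∀ E : Subgroup G, IsComplIn E (sigmaCore M) M →
    ∀ (p : ℕ) [Fact p.Prime], p ∈ tau2 M →
    (∀ S : Sylow p G, ¬ IsMulCommutative (S : Subgroup G)) → ∀ A : Subgroup G,
    A ≤ E → IsElementaryAbelian p A → Nat.card A = p ^ 2 → tau2 M = {p}

/-- S1414 (part). -/
def HypBeta (G : Type u) [Group G] : Prop :=
  ∀ (M : Subgroup G), IsCoatom M →
    ∃ H : Subgroup G, IsPiHallOf {q | q.Prime ∧ q ∉ beta M} H (sigmaCore M) ∧ Group.IsNilpotent H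

/-! ### BG 12.10(a): nilpotent `σ(M)'`-subgroups of `M` are abelian -/

theorem nilpotent_sigma'_abelian (hG : IsMinSimpleOddOrder G) (hU : Uniq3 G) (hT : HypTau2 G)
    {M : Subgroup G} (hM : IsCoatom M) {N : Subgroup G} (hNM : N ≤ M)
    (hn : Group.IsNilpotent ↥N)
    (hN : ∀ p : ℕ, p.Prime → p ∣ Nat.card ↥N → p ∉ sigma M) : IsMulCommutative ↥N := by
  apply isMulCommutative_of_nilpotent_of_sylow
  intro q hqf T
  have hq : q.Prime := hqf.out
  by_cases hd : q ∣ Nat.card ↥N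
  · have hqσ := hN q hq hd
    have hq2 : q ≠ 2 := prime_ne_two_of_dvd hG hd
    have hr2 : PRankLE q 2 ↥M := by
      by_contra h
      exact hqσ (alpha_subset_sigma hG hU hM ⟨hq, h⟩)
    by_cases hr1 : PRankLE q 1 ↥M
    · haveI : IsCyclic ↥(T : Subgroup ↥N) :=
        Cfsg.Agent.Lib.H15.isCyclic_of_pRankLE_one hq2 (pRankLE_of_le hNM hr1) T.2
      exact isMulCommutative_of_isCyclic
    · have hτ : q ∈ tau2 M := ⟨hq, hqσ, hr2, hr1⟩
      obtain ⟨A, hAM, hA, hAc⟩ := exists_elemAb_sq hq hr1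
      have h17 := (hT M hM q hτ A hAM hA hAc).1
      obtain ⟨Q, hQ, hTQ⟩ := SylIn.exists_ge (p := q) (Q := (T : Subgroup ↥N).map N.subtype)
        (K := M) (T.2.map _) ((Subgroup.map_subtype_le _).trans hNM)
      have hQc : IsMulCommutative ↥Q := sylIn_comm hQ (fun P => (h17 P).1)
      refine ⟨⟨?_⟩⟩
      rintro ⟨a, ha⟩ ⟨b, hb⟩
      apply Subtype.ext
      apply Subtype.ext
      exact comm_of_mem hQc (hTQ ⟨a, ha, rfl⟩) (hTQ ⟨b, hb, rfl⟩)
  · haveI := sylow_subsingleton_of_not_dvd T hd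
    exact isMulCommutative_of_subsingleton

end Cfsg.Agent.Lib.H8.BG12
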