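import Mathlib
import Cfsg.Agent.Lib.H8.BG12b

/-! # Bender–Glauberman §12: Corollary 12.10 from 12.4–12.7 (helper8)

`τ₂(M)`-subgroups of a complement `E` of `M_σ` are abelian; uniqueness of `M` over `C_G(x)` for
`τ₂(M)`-elements `x` with `C_{M_σ}(x) ≠ 1`; normalizers of noncyclic `σ(M)`-subgroups. -/

set_option autoImplicit false
set_option linter.style.haveILetI false
set_option linter.unusedSectionVars false
set_option linter.unusedVariables false
set_option maxHeartbeats 400000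

open Cfsg

namespace Cfsg.Agent.Lib.H8.BG12

open Cfsg.Agent.Lib.H16.BG
open Cfsg.Agent.Lib.H7.BG7
open Cfsg.Agent.Lib.H7.BG10
open Cfsg.Agent.Lib.H20.BGS
open Cfsg.Agent.Lib.H19 (IsPiCard)
open scoped commutatorElement Pointwise

universe u
variable {G : Type u} [Group G] [Finite G]

/-- **BG 12.10(d)**: normalizers of noncyclic `p`-subgroups of `M`, `p ∈ σ(M)`, lie in `M`. -/
theorem normalizer_noncyclic_sigma (hG : IsMinSimpleOddOrder G) (hU : Uniq3 G) (hC : HypCent G)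
    {M : Subgroup G} (hM : IsCoatom M) {p : ℕ} (hp : p ∈ sigma M) {P : Subgroup G}
    (hP : IsPGroup p P) (hPM : P ≤ M) (hc : ¬ IsCyclic ↥P) :
    Subgroup.normalizer (P : Set G) ≤ M := by
  haveI : Fact p.Prime := ⟨hp.1⟩
  have hP1 : P ≠ ⊥ := by
    rintro rfl
    exact hc isCyclic_of_subsingleton
  have hp2 : p ≠ 2 := prime_ne_two_of_dvd hG (H := M) hp.2.1
  obtain ⟨A, hAP, hA, hAc⟩ := exists_elemAb_sq_of_not_cyclic hp2 hP hc
  have h1 := (sigma_fusion hG hU hM hp hP hP1 hPM).2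
  rw [h1]
  refine sup_le inf_le_left ?_
  exact (Subgroup.centralizer_le (SetLike.coe_subset_coe.2 hAP)).trans
    (hC M hM p A (hAP.trans hPM) hA hAc)

/-- data attached to a prime `q ∈ τ₂(M)` inside a complement `E`. -/
theorem tau2_sylow_data (hT : HypTau2 G) {M : Subgroup G} (hM : IsCoatom M)
    (hσ : IsPiHallOf (sigma M) (sigmaCore M) M) {E : Subgroup G}
    (hE : IsComplIn E (sigmaCore M) M) {q : ℕ} [hqf : Fact q.Prime] (hq : q ∈ tau2 M) :
    ∃ Q A : Subgroup G, SylIn q Q E ∧ SylIn q Q M ∧ A ≤ Q ∧ IsElementaryAbelian q A ∧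
      Nat.card A = q ^ 2 ∧ IsMulCommutative ↥Q ∧ ∀ x ∈ Q, x ^ q = 1 ↔ x ∈ A := by
  obtain ⟨Q, hQE⟩ := SylIn.exists_sylIn q E
  have hQM : SylIn q Q M := sylIn_of_compl hσ hE hq.2.1 hQE
  have hr : ¬ PRankLE q 1 ↥Q := fun h => hq.2.2.2 (pRankLE_of_sylIn hQM h)
  obtain ⟨A, hAQ, hA, hAc⟩ := exists_elemAb_sq hqf.out hr
  have h17 := (hT M hM q hq A (hAQ.trans hQM.le) hA hAc).1
  obtain ⟨P, hP⟩ := hQM.exists_sylow
  have h2 := (h17 P).2 (by rw [hP]; exact hAQ)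
  rw [hP] at h2
  exact ⟨Q, A, hQE, hQM, hAQ, hA, hAc, sylIn_comm hQM (fun P => (h17 P).1), h2⟩

/-- if the Sylow `q`-subgroups of `G` are abelian, a Sylow `q`-subgroup of `M` of rank two is a
Sylow subgroup of `G`. -/
theorem tau2_sylow_top (hC : HypCent G) {M : Subgroup G} (hM : IsCoatom M) {q : ℕ}
    [Fact q.Prime] {Q A : Subgroup G} (hQM : SylIn q Q M) (hAQ : A ≤ Q)
    (hA : IsElementaryAbelian q A) (hAc : Nat.card A = q ^ 2)
    (hab : ∃ S : Sylow q G, IsMulCommutative ↥(S : Subgroup G)) : SylIn q Q ⊤ := by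
  obtain ⟨S₀, hS₀⟩ := hab
  obtain ⟨S, hQS⟩ := hQM.isPGroup.exists_le_sylow
  have hSc := sylow_comm_of_comm S₀ S hS₀
  have hSM : (S : Subgroup G) ≤ M := by
    refine le_trans ?_ (hC M hM q A (hAQ.trans hQM.le) hA hAc)
    intro s hs
    rw [Subgroup.mem_centralizer_iff]
    intro a ha
    exact comm_of_mem hSc (hQS (hAQ ha)) hs
  have : Q = S := hQM.eq_of_le hQS hSM S.2
  rw [this]
  exact SylIn.of_sylow_top S

theorem elemAb_sq_ne_bot {p : ℕ} (hp : p.Prime) {A : Subgroup G} (hAc : Nat.card A = p ^ 2) :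
    A ≠ ⊥ := by
  rintro rfl
  rw [Subgroup.card_bot] at hAc
  have := hp.two_le
  nlinarith

theorem prime_eq_of_dvd_card_pGroup {p q : ℕ} [hp : Fact p.Prime] {P : Subgroup G}
    (hP : IsPGroup p P) (hq : q.Prime) (hd : q ∣ Nat.card ↥P) : q = p := by
  obtain ⟨k, hk⟩ := IsPGroup.iff_card.1 hP
  rw [hk] at hd
  exact (Nat.prime_dvd_prime_iff_eq hq hp.out).1 (hq.dvd_of_dvd_pow hd)

/-- **BG 12.10(b)**, second assertion: every `τ₂(M)`-subgroup of `E` is abelian. -/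
theorem tau2_subgroup_abelian (hG : IsMinSimpleOddOrder G) (hU : Uniq3 G) (hC : HypCent G)
    (hT : HypTau2 G) (hN : HypNorm G) (hNA : HypNonab G) (hB : HypBeta G)
    {M : Subgroup G} (hM : IsCoatom M) {E : Subgroup G} (hE : IsComplIn E (sigmaCore M) M)
    {E₂ : Subgroup G} (hE₂ : E₂ ≤ E)
    (hπ : ∀ q : ℕ, q.Prime → q ∣ Nat.card ↥E₂ → q ∈ tau2 M) : IsMulCommutative ↥E₂ := by
  have hσ := (sigma_core_hall hG hU hM).1
  suffices hnil : Group.IsNilpotent ↥E₂ from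
    nilpotent_sigma'_abelian hG hU hT hM (hE₂.trans hE.1) hnil (fun q hq hd => (hπ q hq hd).2.1)
  by_cases hbot : E₂ = ⊥
  · subst hbot
    infer_instance
  have hcard : Nat.card ↥E₂ ≠ 1 := fun h => hbot (Subgroup.eq_bot_of_card_eq _ h)
  obtain ⟨p, hp, hpd⟩ := Nat.exists_prime_and_dvd hcard
  haveI hpf : Fact p.Prime := ⟨hp⟩
  have hpτ := hπ p hp hpd
  by_cases hab : ∀ q : ℕ, q ∈ tau2 M → ∃ S : Sylow q G, IsMulCommutative ↥(S : Subgroup G)
  · obtain ⟨Sp, Ap, hSpE, hSpM, hApS, hAp, hApc, hSpc, hΩp⟩ := tau2_sylow_data hT hM hσ hE hpτ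
    have hSptop : SylIn p Sp ⊤ := tau2_sylow_top hC hM hSpM hApS hAp hApc (hab p hpτ)
    have hApE : Ap ≤ E := hApS.trans hSpE.le
    obtain ⟨hEN, hNM⟩ := hN M hM E hE p hpτ Ap hApE hAp hApc
    have hAp1 : Ap ≠ ⊥ := elemAb_sq_ne_bot hp hApc
    obtain ⟨Ms, hMs, hNMs⟩ := exists_coatom_ge
      (normalizer_ne_top_of_isPGroup hG (isPGroup_of_elemAb hAp) hAp1)
    have hMsne : Ms ≠ M := by
      rintro rfl
      exact hNM hNMs
    have hEMs : E ≤ Ms := hEN.trans hNMs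
    have hσs := (sigma_core_hall hG hU hMs).1
    have hSp1 : Sp ≠ ⊥ := Cfsg.Agent.Lib.H16.BG.ne_bot_of_le_ne_bot hAp1 hApS
    have hpσs : p ∈ sigma Ms := by
      have hSpMs : SylIn p Sp Ms := hSptop.mono (hSpE.le.trans hEMs) le_top
      obtain ⟨P, hP⟩ := hSpMs.exists_sylow
      refine ⟨hp, dvd_card_of_ne_bot hSpMs.isPGroup hSpMs.le hSp1, P, ?_⟩
      rw [hP]
      refine le_trans ?_ hNMs
      apply Cfsg.Agent.Lib.H16.SylComm.le_normalizer_of_conj_mem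
      intro g hg a ha
      have h1 : g * a * g⁻¹ ∈ Sp := ((Subgroup.mem_normalizer_iff.1 hg) a).1 (hApS ha)
      refine (hΩp _ h1).1 ?_
      rw [conj_pow, hAp.2 a ha]
      group
    have hSpσ : Sp ≤ sigmaCore Ms := le_sigmaCore hσs (hSpE.le.trans hEMs) (fun q hq hd => by
      rw [prime_eq_of_dvd_card_pGroup hSpM.isPGroup hq hd]
      exact hpσs)
    have hall : ∀ q : ℕ, q.Prime → q ∣ Nat.card ↥E₂ → q ∈ sigma Ms := by
      intro q hq hqd
      haveI : Fact q.Prime := ⟨hq⟩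
      have hqτ := hπ q hq hqd
      by_contra hqσs
      obtain ⟨Sq, Aq, hSqE, hSqM, hAqS, hAq, hAqc, hSqc, hΩq⟩ := tau2_sylow_data hT hM hσ hE hqτ
      have hSqtop := tau2_sylow_top hC hM hSqM hAqS hAq hAqc (hab q hqτ)
      have hAqMs : Aq ≤ Ms := (hAqS.trans hSqE.le).trans hEMs
      have hqτs : q ∈ tau2 Ms := by
        refine ⟨hq, hqσs, ?_, ?_⟩
        · have hSqMs : SylIn q Sq Ms := hSqtop.mono (hSqE.le.trans hEMs) le_top
          exact pRankLE_of_sylIn hSqMs (pRankLE_of_le hSqM.le hqτ.2.2.1)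
        · refine not_pRankLE_of_elemAb hAqMs hAq ?_
          rw [hAqc]
          exact Nat.pow_lt_pow_right hq.one_lt (by norm_num)
      have h := (hT Ms hMs q hqτs Aq hAqMs hAq hAqc).2 M hM hMsne.symm
        ((hAqS.trans hSqE.le).trans hE.1)
      have h2 : Sp ≤ sigmaCore Ms ⊓ M := le_inf hSpσ hSpM.le
      rw [h] at h2
      exact hSp1 (le_bot_iff.1 h2)
    have hE₂σ : E₂ ≤ sigmaCore Ms := le_sigmaCore hσs (hE₂.trans hEMs) hall
    obtain ⟨H, hH, hHnil⟩ := hB Ms hMs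
    haveI : Group.IsSolvable ↥(sigmaCore Ms) := solvable_of_le_ne_top hG hMs.1 (sigmaCore_le Ms)
    have hE₂π : IsPiCard {q | q.Prime ∧ q ∉ beta Ms} (Nat.card ↥E₂) := by
      intro q hq hd
      refine ⟨hq, fun hβ => ?_⟩
      have hqτ := hπ q hq hd
      haveI : Fact q.Prime := ⟨hq⟩
      exact (rank_two_not_ideal hG hU hM hqτ.2.2.1 hqτ.2.2.2).1 hβ.2
    obtain ⟨H', hH', hE₂H'⟩ := Cfsg.Agent.Lib.H19.exists_isPiHallOf_ge hE₂σ hE₂π
    obtain ⟨g, hg, hgH⟩ := Cfsg.Agent.Lib.H19.isPiHallOf_exists_conj hH hH'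
    haveI := hHnil
    haveI : Group.IsNilpotent ↥H' := by
      rw [← hgH]
      exact Group.nilpotent_of_mulEquiv (Subgroup.equivSMul (MulAut.conj g) H)
    exact Group.nilpotent_of_mulEquiv
      (MonoidHom.ofInjective (Subgroup.inclusion_injective hE₂H')).symm
  · push Not at hab
    obtain ⟨q, hqτ, hq⟩ := hab
    haveI hqf : Fact q.Prime := ⟨hqτ.1⟩
    obtain ⟨Sq, Aq, hSqE, -, hAqS, hAq, hAqc, -, -⟩ := tau2_sylow_data hT hM hσ hE hqτ
    have h19 := hNA M hM E hE q hqτ hq Aq (hAqS.trans hSqE.le) hAq hAqc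
    have hE₂q : IsPGroup q ↥E₂ := by
      apply IsPGroup.of_card (n := (Nat.card ↥E₂).primeFactorsList.length)
      apply Nat.eq_prime_pow_of_unique_prime_dvd Nat.card_pos.ne'
      intro d hd hdd
      have := hπ d hd hdd
      rw [h19] at this
      exact this
    exact hE₂q.isNilpotent

/-- conjugates of abelian subgroups are abelian. -/
theorem isMulCommutative_conj_smul {H : Subgroup G} (h : IsMulCommutative ↥H) (g : G) :
    IsMulCommutative ↥(MulAut.conj g • H) := by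
  refine isMulCommutative_of_forall ?_
  intro a ha b hb
  rw [Subgroup.mem_pointwise_smul_iff_inv_smul_mem] at ha hb
  have h2 := comm_of_mem h ha hb
  simp only [MulAut.smul_def, ← map_inv, MulAut.conj_apply, inv_inv] at h2
  have h3 : g * (g⁻¹ * a * g * (g⁻¹ * b * g)) * g⁻¹ = g * (g⁻¹ * b * g * (g⁻¹ * a * g)) * g⁻¹ := by
    rw [h2]
  simpa [mul_assoc] using h3

/-- **BG 12.10(e)**. -/
theorem centralizer_tau2_unique (hG : IsMinSimpleOddOrder G) (hU : Uniq3 G) (hC : HypCent G)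
    (hT : HypTau2 G) (hN : HypNorm G) (hNA : HypNonab G) (hB : HypBeta G)
    {M : Subgroup G} (hM : IsCoatom M) {E : Subgroup G} (hE : IsComplIn E (sigmaCore M) M)
    {x : G} (hxM : x ∈ M) (hx1 : x ≠ 1)
    (hxτ : ∀ p : ℕ, p.Prime → p ∣ orderOf x → p ∈ tau2 M) (hxσ : x ∈ sigmaHat M) :
    Subgroup.centralizer ({x} : Set G) ≤ M ∧
      ∀ L : Subgroup G, IsCoatom L → Subgroup.centralizer ({x} : Set G) ≤ L → L = M := by
  obtain ⟨-, y, hyσ, hy1, hxy⟩ := hxσ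
  have hσ := (sigma_core_hall hG hU hM).1
  haveI : Group.IsSolvable ↥M := solvable_of_coatom hG hM
  haveI : Group.IsSolvable ↥E := solvable_of_le_ne_top hG hM.1 hE.1
  obtain ⟨E₂, hE₂⟩ := Cfsg.Agent.Lib.H19.exists_isPiHallOf E (tau2 M)
  have hE₂M : IsPiHallOf (tau2 M) E₂ M := Cfsg.Agent.Lib.H19.IsPiHallOf.trans hE₂ hE.1
    (fun p hp hpτ hd => by
      rw [compl_relIndex_eq_card hE] at hd
      exact hpτ.2.1 (hσ.2.1 p hp hd))
  have hX : IsPiCard (tau2 M) (Nat.card ↥(Subgroup.zpowers x)) := by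
    rw [Nat.card_zpowers]; exact hxτ
  obtain ⟨H, hH, hXH⟩ := Cfsg.Agent.Lib.H19.exists_isPiHallOf_ge (G := M)
    ((Subgroup.zpowers_le).2 hxM) hX
  obtain ⟨g, hgM, hg⟩ := Cfsg.Agent.Lib.H19.isPiHallOf_exists_conj hE₂M hH
  have hE₂c := tau2_subgroup_abelian hG hU hC hT hN hNA hB hM hE hE₂.1 hE₂.2.1
  have hHc : IsMulCommutative ↥H := by
    rw [← hg]; exact isMulCommutative_conj_smul hE₂c g
  have hox : orderOf x ≠ 1 := fun h => hx1 (orderOf_eq_one_iff.1 h)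
  obtain ⟨p, hp, hpd⟩ := Nat.exists_prime_and_dvd hox
  have hpτ := hxτ p hp hpd
  haveI : Fact p.Prime := ⟨hp⟩
  obtain ⟨Q, hQ⟩ := SylIn.exists_sylIn p H
  have hQM : SylIn p Q M := by
    refine ⟨hQ.1.trans hH.1, hQ.2.1, fun hd => ?_⟩
    rw [← Subgroup.relIndex_mul_relIndex Q H M hQ.1 hH.1, Nat.Prime.dvd_mul hp] at hd
    rcases hd with hd | hd
    · exact hQ.2.2 hd
    · exact hH.2.2 p hp hpτ hd
  have hr : ¬ PRankLE p 1 ↥Q := fun h => hpτ.2.2.2 (pRankLE_of_sylIn hQM h)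
  obtain ⟨A, hAQ, hA, hAc⟩ := exists_elemAb_sq hp hr
  have hAH : A ≤ H := hAQ.trans hQ.1
  have hxH : x ∈ H := hXH (Subgroup.mem_zpowers x)
  have hAC : A ≤ Subgroup.centralizer ({x} : Set G) := by
    intro a ha
    rw [Subgroup.mem_centralizer_singleton_iff]
    exact comm_of_mem hHc (hAH ha) hxH
  have key : ∀ L : Subgroup G, IsCoatom L → Subgroup.centralizer ({x} : Set G) ≤ L → L = M := by
    intro L hL hCL
    by_contra hne
    have h := (hT M hM p hpτ A (hAH.trans hH.1) hA hAc).2 L hL hne (hAC.trans hCL)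
    have hyL : y ∈ L := hCL (by rw [Subgroup.mem_centralizer_singleton_iff]; exact hxy.symm)
    have h2 : y ∈ sigmaCore M ⊓ L := ⟨hyσ, hyL⟩
    rw [h] at h2
    exact hy1 (Subgroup.mem_bot.1 h2)
  refine ⟨?_, key⟩
  obtain ⟨L, hL, hCL⟩ := exists_coatom_ge (centralizer_singleton_ne_top hG hx1)
  rw [← key L hL hCL]
  exact hCL

/-- **BG Corollary 12.10** (S1420) from the hypotheses. -/
theorem cor_12_10 (hG : IsMinSimpleOddOrder G) (hU : Uniq3 G) (hC : HypCent G)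
    (hT : HypTau2 G) (hN : HypNorm G) (hNA : HypNonab G) (hB : HypBeta G)
    (M : Subgroup G) (hM : IsCoatom M) (E : Subgroup G) (hE : IsComplIn E (sigmaCore M) M) :
    (∀ N : Subgroup G, N ≤ M → Group.IsNilpotent N →
        (∀ p : ℕ, p.Prime → p ∣ Nat.card N → p ∉ sigma M) → IsMulCommutative N) ∧
      IsMulCommutative ↥⁅E, E⁆ ∧
      (∀ (p : ℕ) (P : Subgroup G), p ∈ sigma M → IsPGroup p P → P ≤ M → ¬ IsCyclic P →
        Subgroup.normalizer (P : Set G) ≤ M) ∧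
      ∀ x ∈ M, x ≠ 1 → (∀ p : ℕ, p.Prime → p ∣ orderOf x → p ∈ tau2 M) → x ∈ sigmaHat M →
        Subgroup.centralizer ({x} : Set G) ≤ M ∧
          ∀ L : Subgroup G, IsCoatom L → Subgroup.centralizer ({x} : Set G) ≤ L → L = M := by
  have hσ := (sigma_core_hall hG hU hM).1
  refine ⟨fun N hNM hn hN => nilpotent_sigma'_abelian hG hU hT hM hNM hn hN, ?_,
    fun p P hp hP hPM hc => normalizer_noncyclic_sigma hG hU hC hM hp hP hPM hc,
    fun x hxM hx1 hxτ hxσ => centralizer_tau2_unique hG hU hC hT hN hNA hB hM hE hxM hx1 hxτ hxσ⟩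
  refine nilpotent_sigma'_abelian hG hU hT hM (commutator_le_of_le hE.1)
    (compl_commutator_nilpotent hG hU hM hE) (fun q hq hd => ?_)
  exact compl_not_sigma hσ hE hq (hd.trans (Subgroup.card_dvd_of_le (commutator_self_le E)))

end Cfsg.Agent.Lib.H8.BG12
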