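import Mathlib
import Cfsg.Agent.Lib.H8.BG12c

/-! # Bender–Glauberman Corollary 12.6 (S1418) from Theorem 12.5 (S1417) and 12.4(a) (helper8) -/

set_option autoImplicit false
set_option linter.style.haveILetI false
set_option linter.unusedSectionVars false
set_option linter.unusedVariables false
set_option maxHeartbeats 400000

open Cfsg

namespace Cfsg.Agent.Lib.H8.BG12

open Cfsg.Agent.Lib.H16.BG
open Cfsg.Agent.Lib.H7.BG7
open Cfsg.Agent.Lib.H7.BG10
open Cfsg.Agent.Lib.H20.BGS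
open scoped commutatorElement Pointwise

universe u
variable {G : Type u} [Group G] [Finite G]

/-- The frozen statement S1417 (BG Theorem 12.5) as a hypothesis. -/
def Hyp1417 (G : Type u) [Group G] : Prop :=
  ∀ (M : Subgroup G), IsCoatom M → ∀ (p : ℕ) [Fact p.Prime], p ∈ tau2 M → ∀ A : Subgroup G,
    (A ≤ M ∧ IsElementaryAbelian p A ∧ Nat.card A = p ^ 2) →
    Group.IsNilpotent (sigmaCore M) ∧
      (∀ P : Sylow p M, IsMulCommutative (P : Subgroup M) ∧
        (A ≤ (P : Subgroup M).map M.subtype →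
          (∀ x ∈ (P : Subgroup M).map M.subtype, x ^ p = 1 ↔ x ∈ A) ∧
          ¬ Subgroup.normalizer ((((P : Subgroup M).map M.subtype : Subgroup G)) : Set G) ≤ M)) ∧
      M ≤ Subgroup.normalizer ((sigmaCore M ⊔ A : Subgroup G) : Set G) ∧
      sigmaCore M ⊓ Subgroup.centralizer (A : Set G) = ⊥ ∧
      (∀ Mstar : Subgroup G, IsCoatom Mstar → Mstar ≠ M → A ≤ Mstar → sigmaCore M ⊓ Mstar = ⊥) ∧
      ∃ A₁ : Subgroup G, A₁ ≤ A ∧ Nat.card A₁ = p ∧
        sigmaCore M ⊓ Subgroup.centralizer (A₁ : Set G) = ⊥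

theorem hypTau2_of_hyp1417 (h : Hyp1417 G) : HypTau2 G := by
  intro M hM p _ hp A hAM hA hAc
  obtain ⟨-, hb, -, -, he, -⟩ := h M hM p hp A ⟨hAM, hA, hAc⟩
  exact ⟨fun P => ⟨(hb P).1, fun hle => ((hb P).2 hle).1⟩, he⟩

/-- **BG Corollary 12.6** (S1418). -/
theorem cor_12_6 (hG : IsMinSimpleOddOrder G) (hU : Uniq3 G) (hC : HypCent G) (h17 : Hyp1417 G)
    (M : Subgroup G) (hM : IsCoatom M) (E : Subgroup G) (hE : IsComplIn E (sigmaCore M) M)
    (p : ℕ) [hpf : Fact p.Prime] (hp : p ∈ tau2 M) (A : Subgroup G)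
    (hA : A ≤ E ∧ IsElementaryAbelian p A ∧ Nat.card A = p ^ 2) :
    (E ≤ Subgroup.normalizer (A : Set G) ∧ ∀ X : Subgroup G, X ≤ E → Nat.card X = p → X ≤ A) ∧
      (Subgroup.centralizer (A : Set G) ≤ M ⊓ Subgroup.normalizer (A : Set G) ∧
        M ⊓ Subgroup.normalizer (A : Set G) = E ∧ ¬ Subgroup.normalizer (A : Set G) ≤ M) ∧
      ∀ X : Subgroup G, X ≤ A → Nat.card X = p →
        sigmaCore M ⊓ Subgroup.centralizer (X : Set G) ≠ ⊥ →
        (Subgroup.centralizer (X : Set G) ≤ M ∧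
          ∀ L : Subgroup G, IsCoatom L → Subgroup.centralizer (X : Set G) ≤ L → L = M) := by
  obtain ⟨hAE, hAe, hAc⟩ := hA
  have hAM : A ≤ M := hAE.trans hE.1
  have hpp : p.Prime := hpf.out
  have hσ := (sigma_core_hall hG hU hM).1
  obtain ⟨-, hb, hc, hd, he, -⟩ := h17 M hM p hp A ⟨hAM, hAe, hAc⟩
  have hSn : M ≤ Subgroup.normalizer ((sigmaCore M : Subgroup G) : Set G) :=
    le_normalizer_sigmaCore M
  -- E ∩ M_σ A = A
  have hinf : ∀ z : G, z ∈ E → z ∈ sigmaCore M ⊔ A → z ∈ A := by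
    intro z hzE hz
    obtain ⟨s, hs, a, ha, rfl⟩ :=
      Cfsg.Agent.Lib.H1.mem_sup_of_le_normalizer (hAM.trans hSn) hz
    have hsE : s ∈ E := by
      have := E.mul_mem hzE (E.inv_mem (hAE ha))
      rwa [mul_inv_cancel_right] at this
    have h1 : s ∈ E ⊓ sigmaCore M := ⟨hsE, hs⟩
    rw [hE.2.2.1, Subgroup.mem_bot] at h1
    rw [h1, one_mul]; exact ha
  have hEN : E ≤ Subgroup.normalizer (A : Set G) := by
    apply Cfsg.Agent.Lib.H16.SylComm.le_normalizer_of_conj_mem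
    intro e heE a ha
    refine hinf _ (E.mul_mem (E.mul_mem heE (hAE ha)) (E.inv_mem heE)) ?_
    exact ((Subgroup.mem_normalizer_iff.1 (hc (hE.1 heE))) a).1 (Subgroup.mem_sup_right ha)
  -- a Sylow p-subgroup of E containing a given p-subgroup X contains A
  have hsyl : ∀ X : Subgroup G, X ≤ E → IsPGroup p X →
      ∃ P' : Subgroup G, SylIn p P' E ∧ SylIn p P' M ∧ X ≤ P' ∧ A ≤ P' ∧
        (∀ x ∈ P', x ^ p = 1 ↔ x ∈ A) ∧ ¬ Subgroup.normalizer (P' : Set G) ≤ M := by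
    intro X hXE hX
    obtain ⟨P', hP'E, hXP'⟩ := SylIn.exists_ge hX hXE
    have hP'M : SylIn p P' M := sylIn_of_compl hσ hE hp.2.1 hP'E
    have hAP' : A ≤ P' := by
      have h1 : IsPGroup p ↥(A ⊔ P') :=
        IsPGroup.to_sup_of_normal_left' (isPGroup_of_elemAb hAe) hP'E.isPGroup
          (hP'E.le.trans hEN)
      have h2 : P' = A ⊔ P' := hP'E.eq_of_le le_sup_right (sup_le hAE hP'E.le) h1
      rw [h2]; exact le_sup_left
    obtain ⟨P, hP⟩ := hP'M.exists_sylow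
    have h3 := (hb P).2 (by rw [hP]; exact hAP')
    rw [hP] at h3
    exact ⟨P', hP'E, hP'M, hXP', hAP', h3.1, h3.2⟩
  have hpow : ∀ X : Subgroup G, Nat.card X = p → ∀ x ∈ X, x ^ p = 1 := by
    intro X hX x hx
    have := pow_card_eq_one' (G := ↥X) (x := ⟨x, hx⟩)
    rw [hX] at this
    exact congrArg Subtype.val this
  refine ⟨⟨hEN, ?_⟩, ⟨?_, ?_, ?_⟩, ?_⟩
  · intro X hXE hXc
    obtain ⟨P', -, -, hXP', -, hΩ, -⟩ := hsyl X hXE (IsPGroup.of_card (n := 1) (by rw [hXc, pow_one]))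
    intro x hx
    exact (hΩ x (hXP' hx)).1 (hpow X hXc x hx)
  · exact le_inf (hC M hM p A hAM hAe hAc) (Subgroup.centralizer_le_normalizer _)
  · apply le_antisymm
    · rintro m ⟨hmM, hmN⟩
      obtain ⟨e, heE, s, hs, rfl⟩ := hE.2.2.2 m hmM
      have hsN : s ∈ Subgroup.normalizer (A : Set G) := by
        have := Subgroup.mul_mem _ (Subgroup.inv_mem _ (hEN heE)) hmN
        rwa [inv_mul_cancel_left] at this
      have hsC : s ∈ Subgroup.centralizer (A : Set G) := by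
        rw [Subgroup.mem_centralizer_iff]
        intro a ha
        have h1 : s * a * s⁻¹ ∈ A := ((Subgroup.mem_normalizer_iff.1 hsN) a).1 ha
        have h2 : s * a * s⁻¹ * a⁻¹ ∈ A := A.mul_mem h1 (A.inv_mem ha)
        have h3 : a * s⁻¹ * a⁻¹ ∈ sigmaCore M :=
          ((Subgroup.mem_normalizer_iff.1 (hSn (hAM ha))) s⁻¹).1 (Subgroup.inv_mem _ hs)
        have h4 : s * a * s⁻¹ * a⁻¹ ∈ sigmaCore M := by
          have := Subgroup.mul_mem _ hs h3
          have e1 : s * (a * s⁻¹ * a⁻¹) = s * a * s⁻¹ * a⁻¹ := by group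
          rwa [e1] at this
        have h5 : s * a * s⁻¹ * a⁻¹ ∈ E ⊓ sigmaCore M := ⟨hAE h2, h4⟩
        rw [hE.2.2.1, Subgroup.mem_bot] at h5
        have e2 : s * a = (s * a * s⁻¹ * a⁻¹) * (a * s) := by group
        rw [e2, h5, one_mul]
      have h6 : s ∈ sigmaCore M ⊓ Subgroup.centralizer (A : Set G) := ⟨hs, hsC⟩
      rw [hd, Subgroup.mem_bot] at h6
      rw [h6, mul_one]; exact heE
    · exact le_inf hE.1 hEN
  · obtain ⟨P', -, -, -, hAP', hΩ, hN⟩ := hsyl A hAE (isPGroup_of_elemAb hAe)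
    intro hNA
    apply hN
    refine le_trans ?_ hNA
    apply Cfsg.Agent.Lib.H16.SylComm.le_normalizer_of_conj_mem
    intro g hg a ha
    have h1 : g * a * g⁻¹ ∈ P' := ((Subgroup.mem_normalizer_iff.1 hg) a).1 (hAP' ha)
    refine (hΩ _ h1).1 ?_
    rw [conj_pow, hAe.2 a ha]
    group
  · intro X hXA hXc hne
    obtain ⟨y, hy, hy1⟩ : ∃ y ∈ sigmaCore M ⊓ Subgroup.centralizer (X : Set G), y ≠ 1 := by
      by_contra hcon
      push Not at hcon
      exact hne ((Subgroup.eq_bot_iff_forall _).2 hcon)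
    have hAC : A ≤ Subgroup.centralizer (X : Set G) := by
      intro a ha
      rw [Subgroup.mem_centralizer_iff]
      intro x hx
      exact comm_of_mem hAe.1 (hXA hx) ha
    have key : ∀ L : Subgroup G, IsCoatom L → Subgroup.centralizer (X : Set G) ≤ L → L = M := by
      intro L hL hCL
      by_contra hLM
      have h1 := he L hL hLM (hAC.trans hCL)
      have h2 : y ∈ sigmaCore M ⊓ L := ⟨hy.1, hCL hy.2⟩
      rw [h1] at h2
      exact hy1 (Subgroup.mem_bot.1 h2)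
    refine ⟨?_, key⟩
    have hX1 : X ≠ ⊥ := by
      rintro rfl
      rw [Subgroup.card_bot] at hXc
      exact hpp.one_lt.ne' hXc.symm
    obtain ⟨L, hL, hCL⟩ := exists_coatom_ge (centralizer_ne_top_of_ne_bot hG hX1)
    rw [← key L hL hCL]
    exact hCL

end Cfsg.Agent.Lib.H8.BG12
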