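import Mathlib
import Cfsg.Agent.Lib.H8.BG12c
import Cfsg.Agent.Lib.H7.BG10h

/-! # The "nilpotent Hall β'-subgroup of `L_σ`" trick (helper8)

Subgroups of a maximal subgroup `L` all of whose primes lie in `σ(L) ∖ β(L)` are nilpotent. -/

set_option autoImplicit false
set_option linter.style.haveILetI false
set_option linter.unusedSectionVars false
set_option linter.unusedVariables false

open Cfsg

namespace Cfsg.Agent.Lib.H8.BG12

open Cfsg.Agent.Lib.H16.BG
open Cfsg.Agent.Lib.H7.BG7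
open Cfsg.Agent.Lib.H7.BG10
open Cfsg.Agent.Lib.H20.BGS
open Cfsg.Agent.Lib.H19 (IsPiCard)
open scoped Pointwise

universe u
variable {G : Type u} [Group G] [Finite G]

/-- `HypBeta` holds under `Uniq3` (BG Theorem 10.8, helper7's `beta_core_theorem`). -/
theorem hypBeta_of_uniq3 (hG : IsMinSimpleOddOrder G) (hU : Uniq3 G) : HypBeta G :=
  fun M hM => (beta_core_theorem hG hU hM).2.2.2.1

/-- a prime of `τ₂(M)` is not ideal, hence lies in no `β(L)`. -/
theorem not_beta_of_tau2 (hG : IsMinSimpleOddOrder G) (hU : Uniq3 G) {M : Subgroup G}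
    (hM : IsCoatom M) {q : ℕ} (hq : q ∈ tau2 M) (L : Subgroup G) : q ∉ beta L := by
  haveI : Fact q.Prime := ⟨hq.1⟩
  intro hβ
  exact (rank_two_not_ideal hG hU hM hq.2.2.1 hq.2.2.2).1 hβ.2

/-- a subgroup of `L` all of whose prime divisors lie in `σ(L) ∖ β(L)` is nilpotent. -/
theorem nilpotent_of_sigma_not_beta (hG : IsMinSimpleOddOrder G) (hU : Uniq3 G) {L : Subgroup G}
    (hL : IsCoatom L) {X : Subgroup G} (hXL : X ≤ L)
    (hX : ∀ q : ℕ, q.Prime → q ∣ Nat.card ↥X → q ∈ sigma L ∧ q ∉ beta L) :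
    Group.IsNilpotent ↥X := by
  have hσ := (sigma_core_hall hG hU hL).1
  have hXσ : X ≤ sigmaCore L := le_sigmaCore hσ hXL (fun q hq hd => (hX q hq hd).1)
  obtain ⟨H, hH, hHnil⟩ := hypBeta_of_uniq3 hG hU L hL
  haveI : Group.IsSolvable ↥(sigmaCore L) := solvable_of_le_ne_top hG hL.1 (sigmaCore_le L)
  have hXπ : IsPiCard {q | q.Prime ∧ q ∉ beta L} (Nat.card ↥X) :=
    fun q hq hd => ⟨hq, (hX q hq hd).2⟩
  obtain ⟨H', hH', hXH'⟩ := Cfsg.Agent.Lib.H19.exists_isPiHallOf_ge hXσ hXπ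
  obtain ⟨g, hg, hgH⟩ := Cfsg.Agent.Lib.H19.isPiHallOf_exists_conj hH hH'
  haveI := hHnil
  haveI : Group.IsNilpotent ↥H' := by
    rw [← hgH]
    exact Group.nilpotent_of_mulEquiv (Subgroup.equivSMul (MulAut.conj g) H)
  exact Group.nilpotent_of_mulEquiv
    (MonoidHom.ofInjective (Subgroup.inclusion_injective hXH')).symm

/-- elements of coprime orders in a nilpotent subgroup commute. -/
theorem commute_of_nilpotent_coprime {X : Subgroup G} (hX : Group.IsNilpotent ↥X) {a b : G}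
    (ha : a ∈ X) (hb : b ∈ X) (hab : (orderOf a).Coprime (orderOf b)) : a * b = b * a := by
  haveI := hX
  have h := Cfsg.Agent.Lib.H8.commute_of_coprime_orderOf ↥X (⟨a, ha⟩ : ↥X) ⟨b, hb⟩
    (by rw [Subgroup.orderOf_mk, Subgroup.orderOf_mk]; exact hab)
  exact congrArg Subtype.val h

end Cfsg.Agent.Lib.H8.BG12
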