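import Mathlib
import Cfsg.Agent.Lib.H8.BG12d
import Cfsg.Agent.Lib.H8.BG12e

/-! # Bender–Glauberman Theorem 12.7(a): `τ₂(M) = {p}` when the Sylow `p`-subgroups of `G` are
nonabelian (helper8); from 12.4(a) and 12.5 as hypotheses. -/

set_option autoImplicit false
set_option linter.style.haveILetI false
set_option linter.unusedSectionVars false
set_option linter.unusedVariables false
set_option maxHeartbeats 400000

open Cfsg

namespace Cfsg.Agent.Lib.H8.BG12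

open Cfsg.Agent.Lib.H16.BG
open Cfsg.Agent.Lib.H7.BG7
open Cfsg.Agent.Lib.H7.BG10
open Cfsg.Agent.Lib.H20.BGS
open Cfsg.Agent.Lib.H19 (IsPiCard)
open scoped commutatorElement Pointwise

universe u
variable {G : Type u} [Group G] [Finite G]

/-- a prime `p ∉ σ(L)` with an `E_{p²} ≤ L` lies in `τ₂(L)`. -/
theorem mem_tau2_of_not_sigma (hG : IsMinSimpleOddOrder G) (hU : Uniq3 G) {L : Subgroup G}
    (hL : IsCoatom L) {p : ℕ} (hp : p.Prime) (hpσ : p ∉ sigma L) {A : Subgroup G} (hAL : A ≤ L)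
    (hA : IsElementaryAbelian p A) (hAc : Nat.card A = p ^ 2) : p ∈ tau2 L := by
  refine ⟨hp, hpσ, ?_, ?_⟩
  · by_contra h
    exact hpσ (alpha_subset_sigma hG hU hL ⟨hp, h⟩)
  · refine not_pRankLE_of_elemAb hAL hA ?_
    rw [hAc]
    exact Nat.pow_lt_pow_right hp.one_lt (by norm_num)

/-- **BG Theorem 12.7(a)**. -/
theorem tau2_eq_singleton (hG : IsMinSimpleOddOrder G) (hU : Uniq3 G) (hC : HypCent G)
    (h17 : Hyp1417 G) (M : Subgroup G) (hM : IsCoatom M) (E : Subgroup G)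
    (hE : IsComplIn E (sigmaCore M) M) (p : ℕ) [hpf : Fact p.Prime] (hp : p ∈ tau2 M)
    (hS : ∀ S : Sylow p G, ¬ IsMulCommutative (S : Subgroup G)) (A : Subgroup G)
    (hAE : A ≤ E) (hAe : IsElementaryAbelian p A) (hAc : Nat.card A = p ^ 2) :
    tau2 M = {p} := by
  have hpp : p.Prime := hpf.out
  have hσ := (sigma_core_hall hG hU hM).1
  have hT : HypTau2 G := hypTau2_of_hyp1417 h17
  ext q
  simp only [Set.mem_singleton_iff]
  refine ⟨fun hq => ?_, fun h => h ▸ hp⟩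
  by_contra hqp
  haveI hqf : Fact q.Prime := ⟨hq.1⟩
  have hqq : q.Prime := hq.1
  -- the data for `p`
  obtain ⟨⟨hEN, -⟩, ⟨hCA, hMN, hNM⟩, -⟩ := cor_12_6 hG hU hC h17 M hM E hE p hp A ⟨hAE, hAe, hAc⟩
  have hAM : A ≤ M := hAE.trans hE.1
  -- a Sylow `p`-subgroup `S` of `E` containing `A`
  obtain ⟨S, hSE, hAS⟩ := SylIn.exists_ge (isPGroup_of_elemAb hAe) hAE
  have hSM : SylIn p S M := sylIn_of_compl hσ hE hp.2.1 hSE
  obtain ⟨P, hP⟩ := hSM.exists_sylow
  obtain ⟨-, hb, -, -, -, -⟩ := h17 M hM p hp A ⟨hAM, hAe, hAc⟩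
  have hScomm : IsMulCommutative ↥S := sylIn_comm hSM (fun P => (hb P).1)
  have hΩ : ∀ x ∈ S, x ^ p = 1 ↔ x ∈ A := by
    have h3 := ((hb P).2 (by rw [hP]; exact hAS)).1
    rwa [hP] at h3
  -- a Sylow subgroup of `G` above `S` and `x ∈ N(S) - S`
  obtain ⟨Sh, hSSh⟩ := hSE.isPGroup.exists_le_sylow
  have hne : S ≠ (Sh : Subgroup G) := by
    intro h
    apply hS Sh
    rw [← h]; exact hScomm
  have hlt : S < (Sh : Subgroup G) := lt_of_le_of_ne hSSh hne
  have hlt2 := Cfsg.Agent.Lib.H10.lt_inf_normalizer_of_lt Sh.2 hlt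
  obtain ⟨x, hx, hxS⟩ := SetLike.exists_of_lt hlt2
  have hxSh : x ∈ (Sh : Subgroup G) := hx.1
  have hxN : x ∈ Subgroup.normalizer (S : Set G) := hx.2
  have hxM : x ∉ M := by
    intro hxM
    have h1 : IsPGroup p ↥(S ⊔ Subgroup.zpowers x) :=
      Sh.2.to_le (sup_le hSSh ((Subgroup.zpowers_le).2 hxSh))
    have h2 : S = S ⊔ Subgroup.zpowers x :=
      hSM.eq_of_le le_sup_left (sup_le hSM.le ((Subgroup.zpowers_le).2 hxM)) h1
    apply hxS
    rw [h2]
    exact Subgroup.mem_sup_right (Subgroup.mem_zpowers x)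
  have hxA : x ∈ Subgroup.normalizer (A : Set G) := by
    have : Subgroup.zpowers x ≤ Subgroup.normalizer (A : Set G) := by
      apply Cfsg.Agent.Lib.H16.SylComm.le_normalizer_of_conj_mem
      intro g hg a ha
      have hgN : g ∈ Subgroup.normalizer (S : Set G) := (Subgroup.zpowers_le.2 hxN) hg
      have h1 : g * a * g⁻¹ ∈ S := ((Subgroup.mem_normalizer_iff.1 hgN) a).1 (hAS ha)
      refine (hΩ _ h1).1 ?_
      rw [conj_pow, hAe.2 a ha]
      group
    exact this (Subgroup.mem_zpowers x)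
  -- the data for `q`
  have hrq : ¬ PRankLE q 1 ↥E := by
    intro h
    obtain ⟨Q, hQE⟩ := SylIn.exists_sylIn q E
    have hQM : SylIn q Q M := sylIn_of_compl hσ hE hq.2.1 hQE
    exact hq.2.2.2 (pRankLE_of_sylIn hQM (pRankLE_of_le hQE.le h))
  obtain ⟨B, hBE, hBe, hBc⟩ := exists_elemAb_sq hqq hrq
  obtain ⟨⟨hENB, hBall⟩, -, -⟩ := cor_12_6 hG hU hC h17 M hM E hE q hq B ⟨hBE, hBe, hBc⟩
  have hBM : B ≤ M := hBE.trans hE.1
  -- `A` and `B` commute
  have hAB : A ⊓ B = ⊥ := by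
    apply Subgroup.eq_bot_of_card_eq
    by_contra h1
    obtain ⟨r, hr, hrd⟩ := Nat.exists_prime_and_dvd h1
    have h2 := prime_eq_of_dvd_card_pGroup (isPGroup_of_elemAb hAe) hr
      (hrd.trans (Subgroup.card_dvd_of_le inf_le_left))
    have h3 := prime_eq_of_dvd_card_pGroup (isPGroup_of_elemAb hBe) hr
      (hrd.trans (Subgroup.card_dvd_of_le inf_le_right))
    exact hqp (h3.symm.trans h2)
  have hBC : B ≤ Subgroup.centralizer (A : Set G) := by
    intro b hb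
    rw [Subgroup.mem_centralizer_iff]
    intro a ha
    have h1 : a * b * a⁻¹ ∈ B := ((Subgroup.mem_normalizer_iff.1 (hENB (hAE ha))) b).1 hb
    have h2 : b * a⁻¹ * b⁻¹ ∈ A :=
      ((Subgroup.mem_normalizer_iff.1 (hEN (hBE hb))) a⁻¹).1 (A.inv_mem ha)
    have h3 : a * b * a⁻¹ * b⁻¹ ∈ A ⊓ B := by
      refine ⟨?_, B.mul_mem h1 (B.inv_mem hb)⟩
      have := A.mul_mem ha h2
      have e1 : a * (b * a⁻¹ * b⁻¹) = a * b * a⁻¹ * b⁻¹ := by group
      rwa [e1] at this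
    rw [hAB, Subgroup.mem_bot] at h3
    have e2 : a * b = (a * b * a⁻¹ * b⁻¹) * (b * a) := by group
    rw [e2, h3, one_mul]
  -- `x` normalizes `B`
  have hxB : x ∈ Subgroup.normalizer (B : Set G) := by
    apply mem_normalizer_of_map_conj_le
    rintro _ ⟨b, hb, rfl⟩
    show x * b * x⁻¹ ∈ B
    have h1 : x * b * x⁻¹ ∈ Subgroup.centralizer (A : Set G) := by
      rw [Subgroup.mem_centralizer_iff]
      intro a ha
      have h2 : x⁻¹ * a * x⁻¹⁻¹ ∈ A :=
        ((Subgroup.mem_normalizer_iff.1 (Subgroup.inv_mem _ hxA)) a).1 ha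
      have h3 := Subgroup.mem_centralizer_iff.1 (hBC hb) _ h2
      have e1 : a * (x * b * x⁻¹) = x * ((x⁻¹ * a * x⁻¹⁻¹) * b) * x⁻¹ := by group
      have e2 : x * b * x⁻¹ * a = x * (b * (x⁻¹ * a * x⁻¹⁻¹)) * x⁻¹ := by group
      rw [e1, e2, h3]
    have h4 : x * b * x⁻¹ ∈ E := by
      have := hCA h1
      rw [hMN] at this
      exact this
    by_cases hb1 : x * b * x⁻¹ = 1
    · rw [hb1]; exact B.one_mem
    · have hord : orderOf (x * b * x⁻¹) = q := by
        have h5 : (x * b * x⁻¹) ^ q = 1 := by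
          rw [conj_pow, hBe.2 b hb]; group
        exact orderOf_eq_prime h5 hb1
      have h6 : Subgroup.zpowers (x * b * x⁻¹) ≤ B :=
        hBall _ ((Subgroup.zpowers_le).2 h4) (by rw [Nat.card_zpowers, hord])
      exact h6 (Subgroup.mem_zpowers _)
  -- the maximal subgroup `L` over `N_G(A)`
  have hA1 : A ≠ ⊥ := elemAb_sq_ne_bot hpp hAc
  obtain ⟨L, hL, hNL⟩ := exists_coatom_ge
    (normalizer_ne_top_of_isPGroup hG (isPGroup_of_elemAb hAe) hA1)
  have hLM : L ≠ M := by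
    rintro rfl
    exact hNM hNL
  have hxL : x ∈ L := hNL hxA
  have hEL : E ≤ L := hEN.trans hNL
  have hAL : A ≤ L := hAE.trans hEL
  have hBL : B ≤ L := hBE.trans hEL
  have hσL := (sigma_core_hall hG hU hL).1
  -- `p ∈ σ(L)`
  have hpσL : p ∈ sigma L := by
    by_contra hpσ
    have hpτ : p ∈ tau2 L := mem_tau2_of_not_sigma hG hU hL hpp hpσ hAL hAe hAc
    obtain ⟨-, hbL, -, -, -, -⟩ := h17 L hL p hpτ A ⟨hAL, hAe, hAc⟩
    obtain ⟨R, hRL, hR⟩ := SylIn.exists_ge (p := p) (Q := A ⊔ Subgroup.zpowers x) (K := L)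
      (IsPGroup.to_sup_of_normal_left' (isPGroup_of_elemAb hAe)
        (Sh.2.to_le ((Subgroup.zpowers_le).2 hxSh)) ((Subgroup.zpowers_le).2 hxA))
      (sup_le hAL ((Subgroup.zpowers_le).2 hxL))
    have hRc : IsMulCommutative ↥R := sylIn_comm hRL (fun P => (hbL P).1)
    apply hxM
    apply hC M hM p A hAM hAe hAc
    rw [Subgroup.mem_centralizer_iff]
    intro a ha
    exact comm_of_mem hRc (hR (Subgroup.mem_sup_left ha))
      (hR (Subgroup.mem_sup_right (Subgroup.mem_zpowers x)))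
  -- `q ∈ σ(L)`
  have hqσL : q ∈ sigma L := by
    by_contra hqσ
    have hqτ : q ∈ tau2 L := mem_tau2_of_not_sigma hG hU hL hqq hqσ hBL hBe hBc
    obtain ⟨-, -, -, -, heL, -⟩ := h17 L hL q hqτ B ⟨hBL, hBe, hBc⟩
    have h1 := heL M hM hLM.symm hBM
    have h2 : A ≤ sigmaCore L := le_sigmaCore hσL hAL (fun r hr hd => by
      rw [prime_eq_of_dvd_card_pGroup (isPGroup_of_elemAb hAe) hr hd]
      exact hpσL)
    have h3 : A ≤ sigmaCore L ⊓ M := le_inf h2 hAM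
    rw [h1] at h3
    exact hA1 (le_bot_iff.1 h3)
  -- the `{p, q}`-group `B⟨x⟩` is nilpotent
  have hZN : Subgroup.zpowers x ≤ Subgroup.normalizer (B : Set G) := (Subgroup.zpowers_le).2 hxB
  have hnil : Group.IsNilpotent ↥(Subgroup.zpowers x ⊔ B) := by
    apply nilpotent_of_sigma_not_beta hG hU hL (sup_le ((Subgroup.zpowers_le).2 hxL) hBL)
    intro r hr hd
    have h1 := hd.trans (Cfsg.Agent.Lib.H19.card_sup_dvd_mul_of_le_normalizer hZN)
    rw [Nat.Prime.dvd_mul hr] at h1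
    rcases h1 with h1 | h1
    · have hxp : IsPGroup p ↥(Subgroup.zpowers x) := Sh.2.to_le ((Subgroup.zpowers_le).2 hxSh)
      rw [prime_eq_of_dvd_card_pGroup hxp hr h1]
      exact ⟨hpσL, not_beta_of_tau2 hG hU hM hp L⟩
    · rw [prime_eq_of_dvd_card_pGroup (isPGroup_of_elemAb hBe) hr h1]
      exact ⟨hqσL, not_beta_of_tau2 hG hU hM hq L⟩
  -- hence `x` centralizes `B`, so `x ∈ C_G(B) ≤ M`
  apply hxM
  apply hC M hM q B hBM hBe hBc
  rw [Subgroup.mem_centralizer_iff]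
  intro b hb
  have hcop : (orderOf b).Coprime (orderOf x) := by
    have h1 : orderOf b ∣ q := orderOf_dvd_of_pow_eq_one (hBe.2 b hb)
    obtain ⟨k, hk⟩ := (Sh.2.to_le ((Subgroup.zpowers_le).2 hxSh)) ⟨x, Subgroup.mem_zpowers x⟩
    have h2 : orderOf x ∣ p ^ k := by
      apply orderOf_dvd_of_pow_eq_one
      exact congrArg Subtype.val hk
    refine Nat.Coprime.coprime_dvd_left h1 (Nat.Coprime.coprime_dvd_right h2 ?_)
    exact Nat.Coprime.pow_right k ((Nat.coprime_primes hqq hpp).2 hqp)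
  exact commute_of_nilpotent_coprime hnil (Subgroup.mem_sup_right hb)
    (Subgroup.mem_sup_left (Subgroup.mem_zpowers x)) hcop

theorem hypNonab_of_hyps (hG : IsMinSimpleOddOrder G) (hU : Uniq3 G) (hC : HypCent G)
    (h17 : Hyp1417 G) : HypNonab G :=
  fun M hM E hE p _ hp hS A hAE hAe hAc =>
    tau2_eq_singleton hG hU hC h17 M hM E hE p hp hS A hAE hAe hAc

theorem hypNorm_of_hyps (hG : IsMinSimpleOddOrder G) (hU : Uniq3 G) (hC : HypCent G)
    (h17 : Hyp1417 G) : HypNorm G := by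
  intro M hM E hE p _ hp A hAE hAe hAc
  obtain ⟨⟨h1, -⟩, ⟨-, -, h2⟩, -⟩ := cor_12_6 hG hU hC h17 M hM E hE p hp A ⟨hAE, hAe, hAc⟩
  exact ⟨h1, h2⟩

/-- **BG Corollary 12.10** (S1420) from 12.4(a) and 12.5 only. -/
theorem cor_12_10' (hG : IsMinSimpleOddOrder G) (hU : Uniq3 G) (hC : HypCent G)
    (h17 : Hyp1417 G) (M : Subgroup G) (hM : IsCoatom M) (E : Subgroup G)
    (hE : IsComplIn E (sigmaCore M) M) :
    (∀ N : Subgroup G, N ≤ M → Group.IsNilpotent N →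
        (∀ p : ℕ, p.Prime → p ∣ Nat.card N → p ∉ sigma M) → IsMulCommutative N) ∧
      IsMulCommutative ↥⁅E, E⁆ ∧
      (∀ (p : ℕ) (P : Subgroup G), p ∈ sigma M → IsPGroup p P → P ≤ M → ¬ IsCyclic P →
        Subgroup.normalizer (P : Set G) ≤ M) ∧
      ∀ x ∈ M, x ≠ 1 → (∀ p : ℕ, p.Prime → p ∣ orderOf x → p ∈ tau2 M) → x ∈ sigmaHat M →
        Subgroup.centralizer ({x} : Set G) ≤ M ∧
          ∀ L : Subgroup G, IsCoatom L → Subgroup.centralizer ({x} : Set G) ≤ L → L = M :=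
  cor_12_10 hG hU hC (hypTau2_of_hyp1417 h17) (hypNorm_of_hyps hG hU hC h17)
    (hypNonab_of_hyps hG hU hC h17) (hypBeta_of_uniq3 hG hU) M hM E hE

end Cfsg.Agent.Lib.H8.BG12
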