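import Mathlib
import Cfsg.Agent.Lib.H8.BG12f
import Cfsg.Agent.Lib.H16.NarrowMaxSq
import Cfsg.Agent.Lib.H16.BGp
import Cfsg.Agent.Lib.H20.SOC1
import Cfsg.Agent.S1412
import Cfsg.Agent.S1451

/-! # Bender–Glauberman §12: tools for Theorem 12.7(b),(c) (helper8): `M_σ ≠ 1`, the transvection
lemma for a `p`-element acting on `E_{p²}`, and the cyclic group of `p`-th powers of `C_S(A)`. -/

set_option autoImplicit false
set_option linter.style.haveILetI false
set_option linter.unusedSectionVars false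
set_option linter.unusedVariables false
set_option maxHeartbeats 400000

open Cfsg

namespace Cfsg.Agent.Lib.H8.BG12

open Cfsg.Agent.Lib.H16.BG
open Cfsg.Agent.Lib.H7.BG7
open Cfsg.Agent.Lib.H7.BG10
open Cfsg.Agent.Lib.H20.BGS
open Cfsg.Agent.Lib.H19 (IsPiCard)
open scoped commutatorElement Pointwise

universe u
variable {G : Type u} [Group G] [Finite G]

/-- a maximal subgroup of a minimal simple group is nontrivial. -/
theorem coatom_ne_bot (hG : IsMinSimpleOddOrder G) {M : Subgroup G} (hM : IsCoatom M) : M ≠ ⊥ := by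
  rintro rfl
  apply hG.2.2.1
  refine ⟨⟨fun a b => ?_⟩⟩
  by_cases ha : a = 1
  · subst ha; simp
  · have h1 : (⊥ : Subgroup G) < Subgroup.zpowers a :=
      bot_lt_iff_ne_bot.2 (by simpa using ha)
    have h2 := hM.2 _ h1
    have hb : b ∈ Subgroup.zpowers a := by rw [h2]; trivial
    obtain ⟨k, rfl⟩ := Subgroup.mem_zpowers_iff.1 hb
    exact (Commute.zpow_right (Commute.refl a) k).eq

/-- `M_σ ≠ 1` for every maximal subgroup `M` (BG 10.2(c)). -/
theorem sigmaCore_ne_bot (hG : IsMinSimpleOddOrder G) (hU : Uniq3 G) {M : Subgroup G}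
    (hM : IsCoatom M) : sigmaCore M ≠ ⊥ := by
  intro hbot
  have hσ := (sigma_core_hall hG hU hM).1
  -- no prime of `σ(M)`
  have hnoσ : ∀ r : ℕ, r ∉ sigma M := by
    intro r hr
    have h1 := hσ.2.2 r hr.1 hr
    rw [hbot, Subgroup.relIndex_bot_left] at h1
    exact h1 hr.2.1
  have hs : Group.IsSolvable ↥M := solvable_of_coatom hG hM
  haveI := hs
  have hodd : Odd (Nat.card ↥M) := odd_card_subgroup hG M
  have hrk : RankLE 2 ↥M := by
    intro r hr
    by_contra h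
    exact hnoσ r (alpha_subset_sigma hG hU hM ⟨hr, h⟩)
  -- `M ≠ 1`
  have hM1 : Nat.card ↥M ≠ 1 := by
    intro h1
    exact coatom_ne_bot hG hM (Subgroup.card_eq_one.1 h1)
  -- the largest prime divisor of `|M|`
  obtain ⟨q, ⟨hq, hqd⟩, hqmax⟩ : ∃ q, (q.Prime ∧ q ∣ Nat.card ↥M) ∧
      ∀ r, r.Prime → r ∣ Nat.card ↥M → r ≤ q := by
    have hne : (Nat.card ↥M).primeFactors.Nonempty := by
      rw [Nat.nonempty_primeFactors]
      have := Nat.card_pos (α := ↥M)
      omega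
    refine ⟨(Nat.card ↥M).primeFactors.max' hne, ?_, ?_⟩
    · have := Finset.max'_mem _ hne
      rw [Nat.mem_primeFactors] at this
      exact ⟨this.1, this.2.1⟩
    · intro r hr hrd
      apply Finset.le_max'
      rw [Nat.mem_primeFactors]
      exact ⟨hr, hrd, Nat.card_pos.ne'⟩
  haveI : Fact q.Prime := ⟨hq⟩
  obtain ⟨N, hNchar, hNhall⟩ := (Cfsg.Agent.S1451.result hodd (Or.inl hrk)).2.2 (q - 1)
  have hNp : IsPGroup q ↥N := by
    apply IsPGroup.of_card (n := (Nat.card ↥N).primeFactorsList.length)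
    apply Nat.eq_prime_pow_of_unique_prime_dvd Nat.card_pos.ne'
    intro r hr hrd
    have h1 := hNhall.1 r hr hrd
    have h2 := hqmax r hr (hrd.trans (Subgroup.card_subgroup_dvd_card N))
    have h3 : q - 1 < r := h1.2
    omega
  have hNi : ¬ q ∣ N.index := by
    apply hNhall.2 q hq
    refine ⟨hq, ?_⟩
    have := hq.two_le
    show q - 1 < q
    omega
  have hN1 : N.map M.subtype ≠ ⊥ := by
    intro h
    have hNb : N = ⊥ := by
      rw [← (Subgroup.map_eq_bot_iff_of_injective N M.subtype_injective), h]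
    rw [hNb, Subgroup.index_bot] at hNi
    exact hNi hqd
  haveI : N.Normal := inferInstance
  have hMN : M ≤ Subgroup.normalizer ((N.map M.subtype : Subgroup G) : Set G) := by
    have h1 := map_normalizer_le N
    rw [Subgroup.normalizer_eq_top, ← MonoidHom.range_eq_map, Subgroup.range_subtype] at h1
    exact h1
  have hNeq := normalizer_eq_of_coatom hG hM (Subgroup.map_subtype_le N) hN1 hMN
  apply hnoσ q
  refine ⟨hq, hqd, hNp.toSylow hNi, ?_⟩
  rw [hNp.toSylow_coe hNi, hNeq]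


/-- an element of `p`-power order normalizing a group of order `p` centralizes it. -/
theorem commute_of_pow_of_card_prime {p : ℕ} [hp : Fact p.Prime] {U : Subgroup G}
    (hU : Nat.card U = p) {x : G} {n : ℕ} (hxn : x ^ p ^ n = 1)
    (hxU : x ∈ Subgroup.normalizer (U : Set G)) : ∀ u ∈ U, x * u = u * x := by
  have hpp : p.Prime := hp.out
  have hle : Subgroup.zpowers x ≤ Subgroup.normalizer (U : Set G) := Subgroup.zpowers_le.2 hxU
  set ρ := Cfsg.Agent.Lib.H1.conjAutHom hle with hρ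
  set x' : ↥(Subgroup.zpowers x) := ⟨x, Subgroup.mem_zpowers x⟩ with hx'
  haveI : IsCyclic ↥U := isCyclic_of_card_prime' hpp hU
  have h1 : orderOf (ρ x') ∣ p ^ n := by
    apply orderOf_dvd_of_pow_eq_one
    rw [← map_pow]
    have : x' ^ p ^ n = 1 := Subtype.ext (by rw [Subgroup.coe_pow]; exact hxn)
    rw [this, map_one]
  have h2 : orderOf (ρ x') ∣ p - 1 := by
    have := orderOf_dvd_natCard (ρ x')
    rwa [IsCyclic.card_mulAut, hU, Nat.totient_prime hpp] at this
  have h3 : orderOf (ρ x') = 1 := by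
    have hcop : Nat.Coprime (p ^ n) (p - 1) := by
      apply Nat.Coprime.pow_left
      rw [hpp.coprime_iff_not_dvd]
      have := hpp.two_le
      exact Nat.not_dvd_of_pos_of_lt (by omega) (by omega)
    exact Nat.eq_one_of_dvd_coprimes hcop h1 h2
  have h4 : ρ x' = 1 := orderOf_eq_one_iff.1 h3
  intro u hu
  have h5 := congrArg (fun β : MulAut ↥U => ((β ⟨u, hu⟩ : ↥U) : G)) h4
  simp only [MulAut.one_apply] at h5
  have h6 : x * u * x⁻¹ = u := h5
  calc x * u = (x * u * x⁻¹) * x := by group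
    _ = u * x := by rw [h6]


/-- the commutator map `g ↦ x g x⁻¹ g⁻¹` of an element normalizing an abelian group is
multiplicative. -/
theorem comm_map_mul {A : Subgroup G} (hAc : ∀ a ∈ A, ∀ b ∈ A, a * b = b * a) {x : G}
    (hxA : x ∈ Subgroup.normalizer (A : Set G)) {g h : G} (hg : g ∈ A) (hh : h ∈ A) :
    x * (g * h) * x⁻¹ * (g * h)⁻¹ = (x * g * x⁻¹ * g⁻¹) * (x * h * x⁻¹ * h⁻¹) := by
  have h1 : x * h * x⁻¹ * h⁻¹ ∈ A :=
    A.mul_mem ((Subgroup.mem_normalizer_iff.1 hxA h).1 hh) (A.inv_mem hh)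
  have h2 := hAc _ (A.inv_mem hg) _ h1
  calc x * (g * h) * x⁻¹ * (g * h)⁻¹ = x * g * x⁻¹ * ((x * h * x⁻¹ * h⁻¹) * g⁻¹) := by group
    _ = x * g * x⁻¹ * (g⁻¹ * (x * h * x⁻¹ * h⁻¹)) := by rw [h2]
    _ = _ := by group

theorem comm_map_mem {A : Subgroup G} {x : G}
    (hxA : x ∈ Subgroup.normalizer (A : Set G)) {g : G} (hg : g ∈ A) :
    x * g * x⁻¹ * g⁻¹ ∈ A :=
  A.mul_mem ((Subgroup.mem_normalizer_iff.1 hxA g).1 hg) (A.inv_mem hg)

theorem comm_map_zpow {A : Subgroup G} (hAc : ∀ a ∈ A, ∀ b ∈ A, a * b = b * a) {x : G}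
    (hxA : x ∈ Subgroup.normalizer (A : Set G)) {g : G} (hg : g ∈ A) (i : ℤ) :
    x * g ^ i * x⁻¹ * (g ^ i)⁻¹ = (x * g * x⁻¹ * g⁻¹) ^ i := by
  have hnat : ∀ k : ℕ, x * g ^ k * x⁻¹ * (g ^ k)⁻¹ = (x * g * x⁻¹ * g⁻¹) ^ k := by
    intro k
    induction k with
    | zero => simp
    | succ k ih =>
      rw [pow_succ, comm_map_mul hAc hxA (A.pow_mem hg k) hg, ih, pow_succ]
  cases i with
  | ofNat k => simpa using hnat k
  | negSucc k =>
    rw [zpow_negSucc, zpow_negSucc]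
    have h1 := hnat (k + 1)
    have h2 : x * (g ^ (k + 1))⁻¹ * x⁻¹ * ((g ^ (k + 1))⁻¹)⁻¹ =
        (x * g ^ (k + 1) * x⁻¹ * (g ^ (k + 1))⁻¹)⁻¹ := by
      have h3 := comm_map_mul hAc hxA (A.pow_mem hg (k + 1)) (A.inv_mem (A.pow_mem hg (k + 1)))
      rw [mul_inv_cancel] at h3
      have h4 : x * 1 * x⁻¹ * (1 : G)⁻¹ = 1 := by group
      rw [h4] at h3
      exact eq_inv_of_mul_eq_one_right h3.symm
    rw [h2, h1]


/-- **transvection lemma**: a `p`-element `x` normalizing but not centralizing `A ≅ E_{p²}` and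
centralizing `1 ≠ z ∈ A` permutes the lines of `A` other than `⟨z⟩` transitively. -/
theorem conj_lines {p : ℕ} [hp : Fact p.Prime] {A : Subgroup G} (hAe : IsElementaryAbelian p A)
    (hAc : Nat.card A = p ^ 2) {x z : G} {n : ℕ} (hxn : x ^ p ^ n = 1)
    (hxA : x ∈ Subgroup.normalizer (A : Set G)) (hxC : x ∉ Subgroup.centralizer (A : Set G))
    (hz : z ∈ A) (hz1 : z ≠ 1) (hxz : x * z = z * x)
    {X₁ X₂ : Subgroup G} (h₁ : X₁ ≤ A) (h₂ : X₂ ≤ A) (hc₁ : Nat.card X₁ = p)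
    (hc₂ : Nat.card X₂ = p) (hz₁ : X₁ ≠ Subgroup.zpowers z) (hz₂ : X₂ ≠ Subgroup.zpowers z)
    (hne : X₁ ≠ X₂) :
    ∃ j : ℕ, ¬ p ∣ j ∧ X₁.map (MulAut.conj (x ^ j)).toMonoidHom = X₂ := by
  have hpp : p.Prime := hp.out
  have hcomm : ∀ a ∈ A, ∀ b ∈ A, a * b = b * a := fun a ha b hb => comm_of_mem hAe.1 ha hb
  set Z := Subgroup.zpowers z with hZ
  have hZA : Z ≤ A := Subgroup.zpowers_le.2 hz
  have hZc : Nat.card Z = p := by
    rw [hZ, Nat.card_zpowers]; exact orderOf_eq_prime (hAe.2 z hz) hz1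
  -- a generator of `X₁`
  have hX₁1 : X₁ ≠ ⊥ := by
    intro h; rw [h, Subgroup.card_bot] at hc₁; exact hpp.one_lt.ne' hc₁.symm
  obtain ⟨⟨a, haX⟩, ha1'⟩ := (Subgroup.ne_bot_iff_exists_ne_one).1 hX₁1
  have ha1 : a ≠ 1 := fun h => ha1' (Subtype.ext h)
  have haA : a ∈ A := h₁ haX
  have hX₁ : Subgroup.zpowers a = X₁ := zpowers_eq_of_card_prime hpp hc₁ haX ha1
  have haZ : a ∉ Z := by
    intro h
    apply hz₁
    rw [← hX₁]
    exact zpowers_eq_of_card_prime hpp hZc h ha1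
  have hAsup : Z ⊔ Subgroup.zpowers a = A :=
    Cfsg.Agent.Lib.H16.Narrow.sup_zpowers_eq Z A hZA hZc hAc haA haZ
  -- the commutator
  set c := x * a * x⁻¹ * a⁻¹ with hc
  have hcA : c ∈ A := comm_map_mem hxA haA
  have hψz : ∀ k : ℤ, x * z ^ k * x⁻¹ * (z ^ k)⁻¹ = 1 := by
    intro k
    rw [comm_map_zpow hcomm hxA hz k]
    have : x * z * x⁻¹ * z⁻¹ = 1 := by rw [hxz]; group
    rw [this, one_zpow]
  have hψ : ∀ g ∈ A, x * g * x⁻¹ * g⁻¹ ∈ Subgroup.zpowers c := by
    intro g hg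
    rw [← hAsup] at hg
    obtain ⟨u, hu, v, hv, rfl⟩ := Cfsg.Agent.Lib.H16.Narrow.exists_mul_of_mem_sup
      (fun s hs t ht => hcomm s (hZA hs) t ((Subgroup.zpowers_le.2 haA) ht)) hg
    obtain ⟨k, rfl⟩ := Subgroup.mem_zpowers_iff.1 hu
    obtain ⟨i, rfl⟩ := Subgroup.mem_zpowers_iff.1 hv
    rw [comm_map_mul hcomm hxA (A.zpow_mem hz k) (A.zpow_mem haA i), hψz k, one_mul,
      comm_map_zpow hcomm hxA haA i]
    exact Subgroup.zpow_mem _ (Subgroup.mem_zpowers c) i
  have hc1 : c ≠ 1 := by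
    intro h
    apply hxC
    rw [Subgroup.mem_centralizer_iff]
    intro g hg
    have h1 := hψ g hg
    rw [h, Subgroup.zpowers_one_eq_bot, Subgroup.mem_bot] at h1
    calc g * x = (x * g * x⁻¹ * g⁻¹)⁻¹ * (x * g) := by group
      _ = x * g := by rw [h1, inv_one, one_mul]
  have hCc : Nat.card (Subgroup.zpowers c) = p := by
    rw [Nat.card_zpowers]; exact orderOf_eq_prime (hAe.2 c hcA) hc1
  have hxNc : x ∈ Subgroup.normalizer ((Subgroup.zpowers c : Subgroup G) : Set G) := by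
    apply mem_normalizer_of_map_conj_le
    rintro _ ⟨g, hg, rfl⟩
    show x * g * x⁻¹ ∈ Subgroup.zpowers c
    have hgA : g ∈ A := (Subgroup.zpowers_le.2 hcA) hg
    have := Subgroup.mul_mem _ (hψ g hgA) hg
    have e : x * g * x⁻¹ * g⁻¹ * g = x * g * x⁻¹ := by group
    rwa [e] at this
  have hxc : x * c = c * x :=
    commute_of_pow_of_card_prime hCc hxn hxNc c (Subgroup.mem_zpowers c)
  have hcZ : c ∈ Z := by
    by_contra hcZ
    have hAsup2 : Z ⊔ Subgroup.zpowers c = A :=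
      Cfsg.Agent.Lib.H16.Narrow.sup_zpowers_eq Z A hZA hZc hAc hcA hcZ
    apply hxC
    rw [← hAsup2, centralizer_sup_eq]
    refine Subgroup.mem_inf.2 ⟨?_, ?_⟩
    · rw [hZ, centralizer_zpowers_eq, Subgroup.mem_centralizer_singleton_iff]
      exact hxz
    · rw [centralizer_zpowers_eq, Subgroup.mem_centralizer_singleton_iff]
      exact hxc
  have hZc' : Subgroup.zpowers c = Z := zpowers_eq_of_card_prime hpp hZc hcZ hc1
  -- conjugation by powers of `x`
  have hconj : ∀ j : ℕ, x ^ j * a * (x ^ j)⁻¹ = c ^ j * a := by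
    intro j
    induction j with
    | zero => simp
    | succ j ih =>
      have hxcj : x * c ^ j = c ^ j * x := (Commute.pow_right hxc j).eq
      calc x ^ (j + 1) * a * (x ^ (j + 1))⁻¹ = x * (x ^ j * a * (x ^ j)⁻¹) * x⁻¹ := by
            rw [pow_succ']; group
        _ = x * (c ^ j * a) * x⁻¹ := by rw [ih]
        _ = (x * c ^ j) * a * x⁻¹ := by group
        _ = c ^ j * x * a * x⁻¹ := by rw [hxcj]
        _ = c ^ j * (x * a * x⁻¹ * a⁻¹) * a := by group
        _ = c ^ (j + 1) * a := by rw [← hc, pow_succ]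
  -- a generator of `X₂`
  have hX₂1 : X₂ ≠ ⊥ := by
    intro h; rw [h, Subgroup.card_bot] at hc₂; exact hpp.one_lt.ne' hc₂.symm
  obtain ⟨⟨b₀, hbX⟩, hb1'⟩ := (Subgroup.ne_bot_iff_exists_ne_one).1 hX₂1
  have hb1 : b₀ ≠ 1 := fun h => hb1' (Subtype.ext h)
  have hX₂ : Subgroup.zpowers b₀ = X₂ := zpowers_eq_of_card_prime hpp hc₂ hbX hb1
  have hbZ : b₀ ∉ Z := by
    intro h
    apply hz₂
    rw [← hX₂]
    exact zpowers_eq_of_card_prime hpp hZc h hb1
  have hAsup3 : Z ⊔ Subgroup.zpowers b₀ = A :=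
    Cfsg.Agent.Lib.H16.Narrow.sup_zpowers_eq Z A hZA hZc hAc (h₂ hbX) hbZ
  have haA' := haA
  rw [← hAsup3] at haA'
  obtain ⟨u, hu, v, hv, huv⟩ := Cfsg.Agent.Lib.H16.Narrow.exists_mul_of_mem_sup
      (fun s hs t ht => hcomm s (hZA hs) t ((Subgroup.zpowers_le.2 (h₂ hbX)) ht)) haA'
  rw [← hZc'] at hu
  obtain ⟨m, rfl⟩ := Subgroup.mem_zpowers_iff.1 hu
  have hvX : v ∈ X₂ := by rw [← hX₂]; exact hv
  have hordc : orderOf c = p := orderOf_eq_prime (hAe.2 c hcA) hc1
  -- `v = c ^ (-m) * a`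
  have hv_eq : v = c ^ (-m) * a := by
    rw [← huv]; group
  set j : ℕ := ((-m) % (p : ℤ)).toNat with hj
  have hjm : (c ^ j : G) = c ^ (-m) := by
    have h1 : ((j : ℕ) : ℤ) = (-m) % (p : ℤ) := by
      rw [hj]
      exact Int.toNat_of_nonneg (Int.emod_nonneg _ (by exact_mod_cast hpp.ne_zero))
    rw [← zpow_natCast, h1, ← hordc, zpow_mod_orderOf]
  have hv1 : v ≠ 1 := by
    intro h
    apply haZ
    rw [← huv, h, mul_one, ← hZc']
    exact Subgroup.zpow_mem _ (Subgroup.mem_zpowers c) m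
  have hvj : x ^ j * a * (x ^ j)⁻¹ = v := by rw [hconj j, hjm, hv_eq]
  have hmap : X₁.map (MulAut.conj (x ^ j)).toMonoidHom = X₂ := by
    rw [← hX₁, MonoidHom.map_zpowers]
    have : (MulAut.conj (x ^ j)).toMonoidHom a = v := by
      rw [← hvj]; rfl
    rw [this]
    exact zpowers_eq_of_card_prime hpp hc₂ hvX hv1
  refine ⟨j, ?_, hmap⟩
  intro hpj
  apply hne
  obtain ⟨t, ht⟩ := hpj
  have hcj : c ^ j = 1 := by
    rw [ht, pow_mul, ← hordc, pow_orderOf_eq_one, one_pow]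
  rw [hconj j, hcj, one_mul] at hvj
  rw [← hX₁, hvj]
  exact zpowers_eq_of_card_prime hpp hc₂ hvX hv1


/-- two elements of order `p` of a cyclic subgroup generate the same subgroup. -/
theorem zpowers_eq_of_mem_cyclic {R₁ : Subgroup G} (hR : IsCyclic ↥R₁) {p : ℕ} (hp : p.Prime)
    {b b' : G} (hb : b ∈ R₁) (hb' : b' ∈ R₁) (hbp : b ^ p = 1) (hb1 : b ≠ 1)
    (hb'p : b' ^ p = 1) (hb'1 : b' ≠ 1) : Subgroup.zpowers b = Subgroup.zpowers b' := by
  haveI := hR
  haveI : Fact p.Prime := ⟨hp⟩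
  have h1 : Nat.card (Subgroup.zpowers (⟨b, hb⟩ : ↥R₁)) = p := by
    rw [Nat.card_zpowers]
    apply orderOf_eq_prime
    · exact Subtype.ext (by rw [Subgroup.coe_pow]; exact hbp)
    · intro h; exact hb1 (congrArg Subtype.val h)
  have h2 : Nat.card (Subgroup.zpowers (⟨b', hb'⟩ : ↥R₁)) = p := by
    rw [Nat.card_zpowers]
    apply orderOf_eq_prime
    · exact Subtype.ext (by rw [Subgroup.coe_pow]; exact hb'p)
    · intro h; exact hb'1 (congrArg Subtype.val h)
  have h3 := Cfsg.Agent.Lib.H20.SOC.eq_of_card_eq_of_isCyclic _ _ (h1.trans h2.symm)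
  have h4 : (⟨b', hb'⟩ : ↥R₁) ∈ Subgroup.zpowers (⟨b, hb⟩ : ↥R₁) := by
    rw [h3]; exact Subgroup.mem_zpowers _
  obtain ⟨k, hk⟩ := Subgroup.mem_zpowers_iff.1 h4
  have h5 : b ^ k = b' := by
    have := congrArg Subtype.val hk
    rwa [Subgroup.coe_zpow] at this
  symm
  apply Subgroup.eq_of_le_of_card_ge
  · rw [Subgroup.zpowers_le, ← h5]
    exact Subgroup.zpow_mem _ (Subgroup.mem_zpowers b) k
  · rw [Nat.card_zpowers, Nat.card_zpowers, orderOf_eq_prime hbp hb1, orderOf_eq_prime hb'p hb'1]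

/-- **Lemma P**: in a nonabelian Sylow `p`-subgroup `Sh` of `G` with a maximal elementary abelian
subgroup `A` of order `p²`, the `p`-th powers of the elements of `C_{Sh}(A)` lie in a cyclic
group. -/
theorem exists_cyclic_pow_mem (hG : IsMinSimpleOddOrder G) {p : ℕ} [hp : Fact p.Prime]
    (Sh : Sylow p G) (hSh : ¬ IsMulCommutative ↥(Sh : Subgroup G)) {A : Subgroup G}
    (hASh : A ≤ (Sh : Subgroup G)) (hAe : IsElementaryAbelian p A) (hAc : Nat.card A = p ^ 2)
    (hAmax : ∀ B : Subgroup G, IsElementaryAbelian p B → A ≤ B → B = A) :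
    ∃ R₁ : Subgroup G, IsCyclic ↥R₁ ∧
      ∀ g ∈ (Sh : Subgroup G), (∀ a ∈ A, g * a = a * g) → g ^ p ∈ R₁ := by
  have hpp : p.Prime := hp.out
  by_cases hr : PRankLE p 2 ↥(Sh : Subgroup G)
  · rcases Cfsg.Agent.S1412.result hG p Sh hr with h | ⟨P₁, P₂, hsup, hcomm, -, -, hexp, hcyc, -⟩
    · exact absurd h hSh
    · refine ⟨P₂, hcyc, ?_⟩
      intro g hg _
      rw [← hsup] at hg
      obtain ⟨g₁, hg₁, g₂, hg₂, rfl⟩ := Cfsg.Agent.Lib.H16.Narrow.exists_mul_of_mem_sup hcomm hg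
      have hc : Commute g₁ g₂ := hcomm g₁ hg₁ g₂ hg₂
      rw [hc.mul_pow]
      have h1 : g₁ ^ p = 1 := by
        have := Monoid.pow_exponent_eq_one (⟨g₁, hg₁⟩ : ↥P₁)
        rw [hexp] at this
        have h2 := congrArg Subtype.val this
        rwa [Subgroup.coe_pow] at h2
      rw [h1, one_mul]
      exact P₂.pow_mem hg₂ p
  · have hp2 : p ≠ 2 :=
      prime_ne_two_of_dvd hG (H := A) (by rw [hAc]; exact dvd_pow_self p two_ne_zero)
    set E : Subgroup ↥(Sh : Subgroup G) := A.subgroupOf Sh with hE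
    have hcard : Nat.card E = Nat.card A :=
      Nat.card_congr (Subgroup.subgroupOfEquivOfLe hASh).toEquiv
    have hEe : IsElementaryAbelian p E := by
      refine ⟨⟨⟨fun a b => ?_⟩⟩, fun a ha => ?_⟩
      · apply Subtype.ext
        apply Subtype.ext
        have := hAe.1.is_comm.comm (⟨a.1.1, a.2⟩ : A) ⟨b.1.1, b.2⟩
        have h2 := congrArg (fun z : A => (z : G)) this
        simpa using h2
      · apply Subtype.ext
        have := hAe.2 a.1 ha
        simpa using this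
    have hEmax : ∀ B' : Subgroup ↥(Sh : Subgroup G), IsElementaryAbelian p B' → E ≤ B' →
        B' = E := by
      intro B' hB' hle
      have hB'' : IsElementaryAbelian p (B'.map (Sh : Subgroup G).subtype) := by
        refine ⟨⟨⟨fun a b => ?_⟩⟩, ?_⟩
        · obtain ⟨a, a', ha', rfl⟩ := a
          obtain ⟨b, b', hb', rfl⟩ := b
          apply Subtype.ext
          have := hB'.1.is_comm.comm (⟨a', ha'⟩ : B') ⟨b', hb'⟩
          have h2 := congrArg (fun z : B' => ((z : ↥(Sh : Subgroup G)) : G)) this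
          simpa using h2
        · rintro _ ⟨a', ha', rfl⟩
          have := hB'.2 a' ha'
          have h2 := congrArg (fun z : ↥(Sh : Subgroup G) => (z : G)) this
          simpa using h2
      have hle' : A ≤ B'.map (Sh : Subgroup G).subtype := by
        intro a ha
        exact ⟨⟨a, hASh ha⟩,
          hle (show (⟨a, hASh ha⟩ : ↥(Sh : Subgroup G)) ∈ A.subgroupOf Sh from ha), rfl⟩
      have heq : B'.map (Sh : Subgroup G).subtype = A := hAmax _ hB'' hle'
      apply le_antisymm _ hle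
      intro b hb
      show (b : G) ∈ A
      rw [← heq]
      exact ⟨b, hb, rfl⟩
    have hMS : Cfsg.Agent.Lib.H16.Narrow.MaxSq ↥(Sh : Subgroup G) p E :=
      Cfsg.Agent.Lib.H16.Narrow.maxSq_of_maximal hp2 Sh.2 hr E hEe hEmax
        (by rw [hcard, hAc])
    obtain ⟨s, hsE, hsT⟩ := hMS.exists_mem_not_mem
    set T := Subgroup.centralizer
      (Cfsg.Agent.Lib.H16.Narrow.omegaZ2 ↥(Sh : Subgroup G) p : Set ↥(Sh : Subgroup G)) with hT
    set R₁' : Subgroup ↥(Sh : Subgroup G) := T ⊓ Subgroup.centralizer {s} with hR₁'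
    have hcyc : IsCyclic ↥R₁' := by
      apply isCyclic_of_isPGroup_of_rank_one hp2 (Sh.2.to_subgroup R₁')
      intro B hBc hBe
      have hle : B.map R₁'.subtype ≤
          Cfsg.Agent.Lib.H16.Narrow.omegaCenter ↥(Sh : Subgroup G) p := by
        rintro _ ⟨m, hm, rfl⟩
        have hmR : (m : ↥(Sh : Subgroup G)) ∈ T ⊓ Subgroup.centralizer {s} := m.2
        apply hMS.mem_omegaCenter_of_commute hsE hsT hmR.1
        · have := hBe m hm
          have h2 := congrArg Subtype.val this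
          rwa [Subgroup.coe_pow] at h2
        · exact (Subgroup.mem_centralizer_singleton_iff.1 hmR.2)
      calc Nat.card B = Nat.card (B.map R₁'.subtype) :=
            (Subgroup.card_map_of_injective R₁'.subtype_injective).symm
        _ ≤ Nat.card (Cfsg.Agent.Lib.H16.Narrow.omegaCenter ↥(Sh : Subgroup G) p) :=
            Subgroup.card_le_of_le hle
        _ = p := hMS.card_omegaCenter
        _ = p ^ 1 := (pow_one p).symm
    refine ⟨R₁'.map (Sh : Subgroup G).subtype, ?_, ?_⟩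
    · haveI := hcyc
      exact isCyclic_of_surjective ((Sh : Subgroup G).subtype.subgroupMap R₁')
        (MonoidHom.subgroupMap_surjective _ _)
    · intro g hg hgA
      refine ⟨⟨g, hg⟩ ^ p, ⟨?_, ?_⟩, by simp⟩
      · have := Subgroup.pow_index_mem T ⟨g, hg⟩
        rwa [hMS.index_centralizer] at this
      · show ⟨g, hg⟩ ^ p ∈ Subgroup.centralizer {s}
        rw [Subgroup.mem_centralizer_singleton_iff]
        have hsA : (s : G) ∈ A := hsE
        have h1 := hgA s hsA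
        have h2 : Commute (⟨g, hg⟩ : ↥(Sh : Subgroup G)) s := Subtype.ext h1
        exact (h2.pow_left p).eq

end Cfsg.Agent.Lib.H8.BG12
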