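import Mathlib
import Cfsg.Agent.Lib.H8.BG12g
import Cfsg.Agent.S1403

/-! # `C_S(A)` is abelian for a maximal `E_{p²}` in a Sylow subgroup of `G`; `M_σ ≠ 1`
(helper8, for helper16's BG §11) -/

set_option autoImplicit false
set_option linter.style.haveILetI false
set_option linter.unusedSectionVars false
set_option linter.unusedVariables false
set_option maxHeartbeats 800000

open Cfsg

namespace Cfsg.Agent.Lib.H8.BG12

open Cfsg.Agent.Lib.H16.BG
open Cfsg.Agent.Lib.H7.BG7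
open Cfsg.Agent.Lib.H7.BG10
open Cfsg.Agent.Lib.H20.BGS
open Cfsg.Agent.Lib.H19 (IsPiCard)
open scoped commutatorElement Pointwise

universe u
variable {G : Type u} [Group G] [Finite G]

/-- `M_σ ≠ 1` for every maximal subgroup (BG 10.2(c)), without the `Uniq3` hypothesis. -/
theorem sigmaCore_ne_bot' (hG : IsMinSimpleOddOrder G) {M : Subgroup G} (hM : IsCoatom M) :
    sigmaCore M ≠ ⊥ :=
  sigmaCore_ne_bot hG (Cfsg.Agent.Lib.H7.BG10.uniq3_of_uniqueness
    (fun K hK h1 h2 => Cfsg.Agent.S1403.result hG K hK h1 h2)) hM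

/-- decomposition modulo a normal subgroup of prime index. -/
theorem exists_zpow_mul_of_index_prime {R : Type*} [Group R] [Finite R] {T : Subgroup R}
    [T.Normal] {p : ℕ} (hp : p.Prime) (hT : T.index = p) {s : R} (hs : s ∉ T) (g : R) :
    ∃ i : ℤ, ∃ t ∈ T, g = s ^ i * t := by
  haveI : Fact (Nat.card (R ⧸ T)).Prime := ⟨by rw [← Subgroup.index_eq_card, hT]; exact hp⟩
  have h1 : Subgroup.zpowers (QuotientGroup.mk s : R ⧸ T) = ⊤ := by
    rcases (Subgroup.zpowers (QuotientGroup.mk s : R ⧸ T)).eq_bot_or_eq_top_of_prime_card with h | h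
    · exfalso
      apply hs
      rw [Subgroup.zpowers_eq_bot] at h
      exact (QuotientGroup.eq_one_iff s).1 h
    · exact h
  have h2 : (QuotientGroup.mk g : R ⧸ T) ∈ Subgroup.zpowers (QuotientGroup.mk s : R ⧸ T) := by
    rw [h1]; trivial
  obtain ⟨i, hi⟩ := Subgroup.mem_zpowers_iff.1 h2
  refine ⟨i, (s ^ i)⁻¹ * g, ?_, by group⟩
  have h3 : (QuotientGroup.mk (s ^ i) : R ⧸ T) = QuotientGroup.mk g := by
    rw [← hi]; rfl
  exact QuotientGroup.eq.1 h3


/-- a proper subgroup of a group of order `p³` is abelian. -/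
theorem comm_of_lt_of_card_cube {p : ℕ} [hp : Fact p.Prime] {P H : Subgroup G}
    (hP : Nat.card P = p ^ 3) (hHP : H ≤ P) (hne : H ≠ P) :
    ∀ a ∈ H, ∀ b ∈ H, a * b = b * a := by
  have hpp : p.Prime := hp.out
  have hd : Nat.card H ∣ p ^ 3 := hP ▸ Subgroup.card_dvd_of_le hHP
  obtain ⟨k, hk, hkc⟩ := (Nat.dvd_prime_pow hpp).1 hd
  have hlt : Nat.card H < Nat.card P := card_lt_of_lt (lt_of_le_of_ne hHP hne)
  rw [hP, hkc] at hlt
  have hk3 : k < 3 := (Nat.pow_lt_pow_iff_right hpp.one_lt).1 hlt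
  have hcomm : IsMulCommutative ↥H := by
    interval_cases k
    · rw [pow_zero] at hkc
      haveI : Subsingleton ↥H := by
        rw [Subgroup.card_eq_one.1 hkc]; infer_instance
      exact isMulCommutative_of_subsingleton
    · rw [pow_one] at hkc
      haveI : IsCyclic ↥H := isCyclic_of_prime_card hkc
      exact isMulCommutative_of_isCyclic
    · exact IsPGroup.isMulCommutative_of_card_eq_prime_sq hkc
  intro a ha b hb
  exact comm_of_mem hcomm ha hb

/-- `C_S(a)` is abelian for a noncentral-type element `a` of a central product `S = P₁ * P₂` with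
`|P₁| = p³` nonabelian and `P₂` abelian. -/
theorem comm_of_central_product {p : ℕ} [hp : Fact p.Prime] {P₁ P₂ : Subgroup G}
    (hcomm : ∀ a ∈ P₁, ∀ b ∈ P₂, a * b = b * a) (hP₁ : Nat.card P₁ = p ^ 3)
    (hP₂ : ∀ a ∈ P₂, ∀ b ∈ P₂, a * b = b * a)
    {a₁ a₂ : G} (ha₁ : a₁ ∈ P₁) (ha₂ : a₂ ∈ P₂)
    (hnc : ¬ ∀ g ∈ P₁, g * a₁ = a₁ * g) :
    ∀ x ∈ P₁ ⊔ P₂, ∀ y ∈ P₁ ⊔ P₂, x * (a₁ * a₂) = (a₁ * a₂) * x → y * (a₁ * a₂) = (a₁ * a₂) * y →
      x * y = y * x := by
  set H : Subgroup G := P₁ ⊓ Subgroup.centralizer ({a₁} : Set G) with hH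
  have hHne : H ≠ P₁ := by
    intro h
    apply hnc
    intro g hg
    have : g ∈ H := by rw [h]; exact hg
    exact (Subgroup.mem_centralizer_singleton_iff.1 this.2)
  have hHc := comm_of_lt_of_card_cube hP₁ (inf_le_left : H ≤ P₁) hHne
  -- the `P₁`-component of an element commuting with `a₁ a₂` commutes with `a₁`
  have key : ∀ x₁ ∈ P₁, ∀ x₂ ∈ P₂, (x₁ * x₂) * (a₁ * a₂) = (a₁ * a₂) * (x₁ * x₂) → x₁ ∈ H := by
    intro x₁ hx₁ x₂ hx₂ h
    refine ⟨hx₁, Subgroup.mem_centralizer_singleton_iff.2 ?_⟩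
    have e1 : (x₁ * x₂) * (a₁ * a₂) = (x₁ * a₁) * (x₂ * a₂) := by
      have := hcomm a₁ ha₁ x₂ hx₂
      calc (x₁ * x₂) * (a₁ * a₂) = x₁ * (x₂ * a₁) * a₂ := by group
        _ = x₁ * (a₁ * x₂) * a₂ := by rw [this]
        _ = _ := by group
    have e2 : (a₁ * a₂) * (x₁ * x₂) = (a₁ * x₁) * (x₂ * a₂) := by
      have h1 := hcomm x₁ hx₁ a₂ ha₂
      have h2 := hP₂ a₂ ha₂ x₂ hx₂
      calc (a₁ * a₂) * (x₁ * x₂) = a₁ * (a₂ * x₁) * x₂ := by group
        _ = a₁ * (x₁ * a₂) * x₂ := by rw [h1]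
        _ = a₁ * x₁ * (a₂ * x₂) := by group
        _ = _ := by rw [h2]
    rw [e1, e2] at h
    exact mul_right_cancel h
  intro x hx y hy hxa hya
  obtain ⟨x₁, hx₁, x₂, hx₂, rfl⟩ := Cfsg.Agent.Lib.H16.Narrow.exists_mul_of_mem_sup hcomm hx
  obtain ⟨y₁, hy₁, y₂, hy₂, rfl⟩ := Cfsg.Agent.Lib.H16.Narrow.exists_mul_of_mem_sup hcomm hy
  have h1 := hHc x₁ (key x₁ hx₁ x₂ hx₂ hxa) y₁ (key y₁ hy₁ y₂ hy₂ hya)
  have h2 := hP₂ x₂ hx₂ y₂ hy₂
  have h3 := hcomm y₁ hy₁ x₂ hx₂
  have h4 := hcomm x₁ hx₁ y₂ hy₂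
  calc x₁ * x₂ * (y₁ * y₂) = x₁ * (x₂ * y₁) * y₂ := by group
    _ = x₁ * (y₁ * x₂) * y₂ := by rw [h3]
    _ = (x₁ * y₁) * (x₂ * y₂) := by group
    _ = (y₁ * x₁) * (y₂ * x₂) := by rw [h1, h2]
    _ = y₁ * (x₁ * y₂) * x₂ := by group
    _ = y₁ * (y₂ * x₁) * x₂ := by rw [h4]
    _ = _ := by group


/-- the `MaxSq` data of a Sylow subgroup of rank at least three with a maximal elementary abelian
subgroup `A` of order `p²`: an element `s ∈ A` outside the normal subgroup `T` of index `p`, with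
`C_T(s)` cyclic. -/
theorem maxSq_data (hG : IsMinSimpleOddOrder G) {p : ℕ} [hp : Fact p.Prime]
    (Sh : Sylow p G) (hr : ¬ PRankLE p 2 ↥(Sh : Subgroup G)) {A : Subgroup G}
    (hASh : A ≤ (Sh : Subgroup G)) (hAe : IsElementaryAbelian p A) (hAc : Nat.card A = p ^ 2)
    (hAmax : ∀ B : Subgroup G, IsElementaryAbelian p B → A ≤ B → B = A) :
    ∃ (s : ↥(Sh : Subgroup G)) (T : Subgroup ↥(Sh : Subgroup G)), T.Normal ∧ T.index = p ∧
      (s : G) ∈ A ∧ s ∉ T ∧ IsCyclic ↥(T ⊓ Subgroup.centralizer ({s} : Set ↥(Sh : Subgroup G))) := by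
  have hpp : p.Prime := hp.out
  have hp2 : p ≠ 2 :=
    prime_ne_two_of_dvd hG (H := A) (by rw [hAc]; exact dvd_pow_self p two_ne_zero)
  set E : Subgroup ↥(Sh : Subgroup G) := A.subgroupOf Sh with hE
  have hcard : Nat.card E = Nat.card A :=
    Nat.card_congr (Subgroup.subgroupOfEquivOfLe hASh).toEquiv
  have hEe : IsElementaryAbelian p E := by
    refine ⟨⟨⟨fun a b => ?_⟩⟩, fun a ha => ?_⟩
    · apply Subtype.ext
      apply Subtype.ext
      have := hAe.1.is_comm.comm (⟨a.1.1, a.2⟩ : A) ⟨b.1.1, b.2⟩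
      have h2 := congrArg (fun z : A => (z : G)) this
      simpa using h2
    · apply Subtype.ext
      have := hAe.2 a.1 ha
      simpa using this
  have hEmax : ∀ B' : Subgroup ↥(Sh : Subgroup G), IsElementaryAbelian p B' → E ≤ B' →
      B' = E := by
    intro B' hB' hle
    have hB'' : IsElementaryAbelian p (B'.map (Sh : Subgroup G).subtype) := by
      refine ⟨⟨⟨fun a b => ?_⟩⟩, ?_⟩
      · obtain ⟨a, a', ha', rfl⟩ := a
        obtain ⟨b, b', hb', rfl⟩ := b
        apply Subtype.ext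
        have := hB'.1.is_comm.comm (⟨a', ha'⟩ : B') ⟨b', hb'⟩
        have h2 := congrArg (fun z : B' => ((z : ↥(Sh : Subgroup G)) : G)) this
        simpa using h2
      · rintro _ ⟨a', ha', rfl⟩
        have := hB'.2 a' ha'
        have h2 := congrArg (fun z : ↥(Sh : Subgroup G) => (z : G)) this
        simpa using h2
    have hle' : A ≤ B'.map (Sh : Subgroup G).subtype := by
      intro a ha
      exact ⟨⟨a, hASh ha⟩,
        hle (show (⟨a, hASh ha⟩ : ↥(Sh : Subgroup G)) ∈ A.subgroupOf Sh from ha), rfl⟩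
    have heq : B'.map (Sh : Subgroup G).subtype = A := hAmax _ hB'' hle'
    apply le_antisymm _ hle
    intro b hb
    show (b : G) ∈ A
    rw [← heq]
    exact ⟨b, hb, rfl⟩
  have hMS : Cfsg.Agent.Lib.H16.Narrow.MaxSq ↥(Sh : Subgroup G) p E :=
    Cfsg.Agent.Lib.H16.Narrow.maxSq_of_maximal hp2 Sh.2 hr E hEe hEmax
      (by rw [hcard, hAc])
  obtain ⟨s, hsE, hsT⟩ := hMS.exists_mem_not_mem
  set T := Subgroup.centralizer
    (Cfsg.Agent.Lib.H16.Narrow.omegaZ2 ↥(Sh : Subgroup G) p : Set ↥(Sh : Subgroup G)) with hT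
  refine ⟨s, T, inferInstance, hMS.index_centralizer, hsE, hsT, ?_⟩
  apply isCyclic_of_isPGroup_of_rank_one hp2 (Sh.2.to_subgroup _)
  intro B hBc hBe
  have hle : B.map (T ⊓ Subgroup.centralizer ({s} : Set ↥(Sh : Subgroup G))).subtype ≤
      Cfsg.Agent.Lib.H16.Narrow.omegaCenter ↥(Sh : Subgroup G) p := by
    rintro _ ⟨m, hm, rfl⟩
    have hmR : (m : ↥(Sh : Subgroup G)) ∈ T ⊓ Subgroup.centralizer {s} := m.2
    apply hMS.mem_omegaCenter_of_commute hsE hsT hmR.1
    · have := hBe m hm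
      have h2 := congrArg Subtype.val this
      rwa [Subgroup.coe_pow] at h2
    · exact (Subgroup.mem_centralizer_singleton_iff.1 hmR.2)
  calc Nat.card B = Nat.card (B.map
        (T ⊓ Subgroup.centralizer ({s} : Set ↥(Sh : Subgroup G))).subtype) :=
        (Subgroup.card_map_of_injective (Subgroup.subtype_injective _)).symm
    _ ≤ Nat.card (Cfsg.Agent.Lib.H16.Narrow.omegaCenter ↥(Sh : Subgroup G) p) :=
        Subgroup.card_le_of_le hle
    _ = p := hMS.card_omegaCenter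
    _ = p ^ 1 := (pow_one p).symm

/-- **`C_S(A)` is abelian** for a Sylow `p`-subgroup `S` of `G` and a maximal elementary abelian
subgroup `A ≤ S` of order `p²`. -/
theorem centralizer_sylow_comm (hG : IsMinSimpleOddOrder G) {p : ℕ} [hp : Fact p.Prime]
    (S : Sylow p G) {A : Subgroup G} (hAS : A ≤ (S : Subgroup G))
    (hAe : IsElementaryAbelian p A) (hA2 : Nat.card A = p ^ 2)
    (hmax : ∀ B : Subgroup G, IsElementaryAbelian p B → A ≤ B → B = A) :
    ∀ x ∈ (S : Subgroup G) ⊓ Subgroup.centralizer (A : Set G),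
      ∀ y ∈ (S : Subgroup G) ⊓ Subgroup.centralizer (A : Set G), x * y = y * x := by
  have hpp : p.Prime := hp.out
  by_cases hr : PRankLE p 2 ↥(S : Subgroup G)
  · rcases Cfsg.Agent.S1412.result hG p S hr with h | ⟨P₁, P₂, hsup, hcomm, -, hc₁, -, hcyc, hZ⟩
    · intro x hx y hy
      exact comm_of_mem h hx.1 hy.1
    · haveI := hcyc
      have hP₂ : ∀ a ∈ P₂, ∀ b ∈ P₂, a * b = b * a := fun a ha b hb =>
        comm_of_mem isMulCommutative_of_isCyclic ha hb
      -- an element of `A` outside `P₂`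
      have hAP₂ : ¬ A ≤ P₂ := by
        intro hle
        haveI : IsCyclic ↥A := by
          have : IsCyclic ↥(A.subgroupOf P₂) := Subgroup.isCyclic _
          exact isCyclic_of_surjective (Subgroup.subgroupOfEquivOfLe hle).toMonoidHom
            (Subgroup.subgroupOfEquivOfLe hle).surjective
        obtain ⟨g, hg⟩ := IsCyclic.exists_generator (α := ↥A)
        have h1 : orderOf g = Nat.card ↥A := orderOf_eq_card_of_forall_mem_zpowers hg
        have h2 : g ^ p = 1 := Subtype.ext (by rw [Subgroup.coe_pow]; exact hAe.2 g g.2)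
        have h3 := orderOf_dvd_of_pow_eq_one h2
        rw [h1, hA2] at h3
        have := Nat.le_of_dvd hpp.pos h3
        have := hpp.one_lt
        nlinarith
      obtain ⟨a, haA, haP₂⟩ := Set.not_subset.1 hAP₂
      have haS : a ∈ P₁ ⊔ P₂ := by rw [hsup]; exact hAS haA
      obtain ⟨a₁, ha₁, a₂, ha₂, rfl⟩ := Cfsg.Agent.Lib.H16.Narrow.exists_mul_of_mem_sup hcomm haS
      have hnc : ¬ ∀ g ∈ P₁, g * a₁ = a₁ * g := by
        intro h
        apply haP₂
        have h1 : a₁ ∈ P₁ ⊓ Subgroup.centralizer (P₁ : Set G) := by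
          refine ⟨ha₁, Subgroup.mem_centralizer_iff.2 ?_⟩
          intro g hg
          exact h g hg
        rw [← hZ] at h1
        have h2 : Subgroup.closure {x : G | x ∈ P₂ ∧ x ^ p = 1} ≤ P₂ := by
          rw [Subgroup.closure_le]
          intro x hx
          exact hx.1
        exact P₂.mul_mem (h2 h1) ha₂
      intro x hx y hy
      have hxS : x ∈ P₁ ⊔ P₂ := by rw [hsup]; exact hx.1
      have hyS : y ∈ P₁ ⊔ P₂ := by rw [hsup]; exact hy.1
      exact comm_of_central_product hcomm hc₁ hP₂ ha₁ ha₂ hnc x hxS y hyS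
        (Subgroup.mem_centralizer_iff.1 hx.2 _ haA).symm
        (Subgroup.mem_centralizer_iff.1 hy.2 _ haA).symm
  · obtain ⟨s, T, hTn, hTi, hsA, hsT, hcyc⟩ := maxSq_data hG S hr hAS hAe hA2 hmax
    haveI := hTn
    haveI := hcyc
    have key : ∀ x ∈ (S : Subgroup G) ⊓ Subgroup.centralizer (A : Set G),
        ∃ (i : ℤ) (t : ↥(S : Subgroup G)),
          t ∈ T ⊓ Subgroup.centralizer ({s} : Set ↥(S : Subgroup G)) ∧ x = (s : G) ^ i * (t : G) := by
      intro x hx
      have hxs : (⟨x, hx.1⟩ : ↥(S : Subgroup G)) * s = s * ⟨x, hx.1⟩ :=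
        Subtype.ext (Subgroup.mem_centralizer_iff.1 hx.2 _ hsA).symm
      obtain ⟨i, t, ht, hxt⟩ := exists_zpow_mul_of_index_prime hpp hTi hsT (⟨x, hx.1⟩ : ↥(S : Subgroup G))
      refine ⟨i, t, Subgroup.mem_inf.2 ⟨ht, ?_⟩, ?_⟩
      · rw [Subgroup.mem_centralizer_singleton_iff]
        have e : t = (s ^ i)⁻¹ * ⟨x, hx.1⟩ := by rw [hxt]; group
        rw [e]
        have hc : Commute (⟨x, hx.1⟩ : ↥(S : Subgroup G)) s := hxs
        have hc2 : Commute ((s ^ i)⁻¹) s := ((Commute.refl s).zpow_left i).inv_left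
        exact (hc2.mul_left hc).eq
      · have := congrArg Subtype.val hxt
        simpa using this
    intro x hx y hy
    obtain ⟨i, t, ht, rfl⟩ := key x hx
    obtain ⟨j, t', ht', rfl⟩ := key y hy
    have hcomm : IsMulCommutative ↥(T ⊓ Subgroup.centralizer ({s} : Set ↥(S : Subgroup G))) :=
      isMulCommutative_of_isCyclic
    have h1 : t * t' = t' * t := comm_of_mem hcomm ht ht'
    have h2 : t * s = s * t := (Subgroup.mem_centralizer_singleton_iff.1 ht.2)
    have h3 : t' * s = s * t' := (Subgroup.mem_centralizer_singleton_iff.1 ht'.2)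
    have hc2 : Commute t s := h2
    have hc3 : Commute t' s := h3
    have e : (s ^ i * t) * (s ^ j * t') = (s ^ j * t') * (s ^ i * t) := by
      have h4 : t * s ^ j = s ^ j * t := (hc2.zpow_right j).eq
      have h5 : t' * s ^ i = s ^ i * t' := (hc3.zpow_right i).eq
      have h6 : s ^ i * s ^ j = s ^ j * s ^ i := ((Commute.refl s).zpow_zpow i j).eq
      calc (s ^ i * t) * (s ^ j * t') = s ^ i * (t * s ^ j) * t' := by group
        _ = s ^ i * (s ^ j * t) * t' := by rw [h4]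
        _ = (s ^ i * s ^ j) * (t * t') := by group
        _ = (s ^ j * s ^ i) * (t' * t) := by rw [h6, h1]
        _ = s ^ j * (s ^ i * t') * t := by group
        _ = s ^ j * (t' * s ^ i) * t := by rw [h5]
        _ = _ := by group
    have := congrArg Subtype.val e
    simpa using this

end Cfsg.Agent.Lib.H8.BG12
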