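import Mathlib
import Cfsg.Agent.Lib.H8.BG12g
import Cfsg.Agent.Lib.H7.CoprimeGen
import Cfsg.Agent.Lib.H10.PairTransfer
import Cfsg.Agent.Lib.H16.BGn

/-! # Bender–Glauberman Theorem 12.7: the setup (helper8) -/

set_option autoImplicit false
set_option linter.style.haveILetI false
set_option linter.unusedSectionVars false
set_option linter.unusedVariables false
set_option maxHeartbeats 400000

open Cfsg

namespace Cfsg.Agent.Lib.H8.BG12

open Cfsg.Agent.Lib.H16.BG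
open Cfsg.Agent.Lib.H7.BG7
open Cfsg.Agent.Lib.H7.BG10
open Cfsg.Agent.Lib.H20.BGS
open Cfsg.Agent.Lib.H19 (IsPiCard)
open scoped commutatorElement Pointwise

universe u
variable {G : Type u} [Group G] [Finite G]

/-- a nontrivial subgroup of an elementary abelian group contains a subgroup of order `p`. -/
theorem exists_line_of_ne_bot {p : ℕ} (hp : p.Prime) {A B : Subgroup G}
    (hAe : IsElementaryAbelian p A) (hBA : B ≤ A) (hB : B ≠ ⊥) :
    ∃ X : Subgroup G, X ≤ B ∧ Nat.card X = p := by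
  haveI : Fact p.Prime := ⟨hp⟩
  obtain ⟨⟨b, hb⟩, hb1'⟩ := (Subgroup.ne_bot_iff_exists_ne_one).1 hB
  have hb1 : b ≠ 1 := fun h => hb1' (Subtype.ext h)
  refine ⟨Subgroup.zpowers b, Subgroup.zpowers_le.2 hb, ?_⟩
  rw [Nat.card_zpowers]
  exact orderOf_eq_prime (hAe.2 b (hBA hb)) hb1

/-- a subgroup of `A ≅ E_{p²}` of index at most `p` is nontrivial. -/
theorem ne_bot_of_relIndex_le {p : ℕ} (hp : p.Prime) {A B : Subgroup G}
    (hAc : Nat.card A = p ^ 2) (hBA : B ≤ A) (hB : B.relIndex A ≤ p) : B ≠ ⊥ := by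
  rintro rfl
  rw [Subgroup.relIndex_bot_left, hAc] at hB
  have := hp.one_lt
  nlinarith

/-- if `g` has `p`-power order and `p ∤ j` then `g ∈ ⟨g ^ j⟩`. -/
theorem mem_zpowers_pow_of_not_dvd {p : ℕ} (hp : p.Prime) {g : G} {n j : ℕ}
    (hg : g ^ p ^ n = 1) (hj : ¬ p ∣ j) : g ∈ Subgroup.zpowers (g ^ j) := by
  have hcop : Nat.Coprime j (p ^ n) :=
    Nat.Coprime.pow_right n ((Nat.Prime.coprime_iff_not_dvd hp).2 hj).symm
  have hcop2 : Nat.Coprime j (orderOf g) :=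
    Nat.Coprime.coprime_dvd_right (orderOf_dvd_of_pow_eq_one hg) hcop
  have h1 : orderOf (g ^ j) = orderOf g := hcop2.symm.orderOf_pow
  have h2 : Subgroup.zpowers (g ^ j) = Subgroup.zpowers g := by
    apply Subgroup.eq_of_le_of_card_ge
    · rw [Subgroup.zpowers_le]; exact Subgroup.pow_mem _ (Subgroup.mem_zpowers g) j
    · rw [Nat.card_zpowers, Nat.card_zpowers, h1]
  rw [h2]
  exact Subgroup.mem_zpowers g


/-- the setup of BG 12.7: a Sylow `p`-subgroup `S` of `E` (abelian, `Ω₁(S) = A`), a Sylow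
`p`-subgroup `Sh` of `G` above it, a `p`-element `x ∈ N_{Sh}(S) ∖ M` normalizing `A`, and a
nonidentity `z ∈ A ∩ Z(Sh)`. -/
theorem exists_transvection (hG : IsMinSimpleOddOrder G) (hU : Uniq3 G) (hC : HypCent G)
    (h17 : Hyp1417 G) (M : Subgroup G) (hM : IsCoatom M) (E : Subgroup G)
    (hE : IsComplIn E (sigmaCore M) M) (p : ℕ) [hpf : Fact p.Prime] (hp : p ∈ tau2 M)
    (hS : ∀ S : Sylow p G, ¬ IsMulCommutative (S : Subgroup G)) (A : Subgroup G)
    (hAE : A ≤ E) (hAe : IsElementaryAbelian p A) (hAc : Nat.card A = p ^ 2) :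
    ∃ (S : Subgroup G) (Sh : Sylow p G) (x z : G) (n : ℕ),
      SylIn p S M ∧ S ≤ E ∧ A ≤ S ∧ S ≤ (Sh : Subgroup G) ∧ IsMulCommutative ↥S ∧
      (∀ y ∈ S, y ^ p = 1 ↔ y ∈ A) ∧
      x ∈ (Sh : Subgroup G) ∧ x ∈ Subgroup.normalizer (S : Set G) ∧ x ∉ M ∧
      x ∈ Subgroup.normalizer (A : Set G) ∧ x ∉ Subgroup.centralizer (A : Set G) ∧
      x ^ p ^ n = 1 ∧ z ∈ A ∧ z ≠ 1 ∧ (∀ g ∈ (Sh : Subgroup G), g * z = z * g) := by
  have hpp : p.Prime := hpf.out
  have hσ := (sigma_core_hall hG hU hM).1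
  have hAM : A ≤ M := hAE.trans hE.1
  obtain ⟨S, hSE, hAS⟩ := SylIn.exists_ge (isPGroup_of_elemAb hAe) hAE
  have hSM : SylIn p S M := sylIn_of_compl hσ hE hp.2.1 hSE
  obtain ⟨P, hP⟩ := hSM.exists_sylow
  obtain ⟨-, hb, -, -, -, -⟩ := h17 M hM p hp A ⟨hAM, hAe, hAc⟩
  have hScomm : IsMulCommutative ↥S := sylIn_comm hSM (fun P => (hb P).1)
  have hΩ : ∀ x ∈ S, x ^ p = 1 ↔ x ∈ A := by
    have h3 := ((hb P).2 (by rw [hP]; exact hAS)).1
    rwa [hP] at h3
  obtain ⟨Sh, hSSh⟩ := hSE.isPGroup.exists_le_sylow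
  have hne : S ≠ (Sh : Subgroup G) := by
    intro h
    apply hS Sh
    rw [← h]; exact hScomm
  have hlt : S < (Sh : Subgroup G) := lt_of_le_of_ne hSSh hne
  have hlt2 := Cfsg.Agent.Lib.H10.lt_inf_normalizer_of_lt Sh.2 hlt
  obtain ⟨x, hx, hxS⟩ := SetLike.exists_of_lt hlt2
  have hxSh : x ∈ (Sh : Subgroup G) := hx.1
  have hxN : x ∈ Subgroup.normalizer (S : Set G) := hx.2
  have hxM : x ∉ M := by
    intro hxM
    have h1 : IsPGroup p ↥(S ⊔ Subgroup.zpowers x) :=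
      Sh.2.to_le (sup_le hSSh ((Subgroup.zpowers_le).2 hxSh))
    have h2 : S = S ⊔ Subgroup.zpowers x :=
      hSM.eq_of_le le_sup_left (sup_le hSM.le ((Subgroup.zpowers_le).2 hxM)) h1
    apply hxS
    rw [h2]
    exact Subgroup.mem_sup_right (Subgroup.mem_zpowers x)
  have hxA : x ∈ Subgroup.normalizer (A : Set G) := by
    have : Subgroup.zpowers x ≤ Subgroup.normalizer (A : Set G) := by
      apply Cfsg.Agent.Lib.H16.SylComm.le_normalizer_of_conj_mem
      intro g hg a ha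
      have hgN : g ∈ Subgroup.normalizer (S : Set G) := (Subgroup.zpowers_le.2 hxN) hg
      have h1 : g * a * g⁻¹ ∈ S := ((Subgroup.mem_normalizer_iff.1 hgN) a).1 (hAS ha)
      refine (hΩ _ h1).1 ?_
      rw [conj_pow, hAe.2 a ha]
      group
    exact this (Subgroup.mem_zpowers x)
  have hxC : x ∉ Subgroup.centralizer (A : Set G) := fun h => hxM (hC M hM p A hAM hAe hAc h)
  obtain ⟨n, hn⟩ := Sh.2 ⟨x, hxSh⟩
  have hxn : x ^ p ^ n = 1 := by
    have := congrArg Subtype.val hn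
    rwa [Subgroup.coe_pow] at this
  -- the central element
  have hA1 : A ≠ ⊥ := elemAb_sq_ne_bot hpp hAc
  have hSh1 : (Sh : Subgroup G) ≠ ⊥ := by
    intro h
    apply hA1
    have := hAS.trans hSSh
    rw [h] at this
    exact le_bot_iff.1 this
  obtain ⟨z, hzSh, hzo, hzc⟩ := Cfsg.Agent.Lib.H15.exists_central_orderOf_eq_prime Sh.2 hSh1
  have hmax := (rank_two_not_ideal hG hU hM hp.2.2.1 hp.2.2.2).2 A hAM hAe hAc
  have hzA : z ∈ A := by
    apply Cfsg.Agent.Lib.H16.Narrow.mem_of_max A hAe hmax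
    · rw [← hzo]; exact pow_orderOf_eq_one z
    · intro e he
      exact (hzc e (hSSh (hAS he))).symm
  have hz1 : z ≠ 1 := by
    intro h
    rw [h, orderOf_one] at hzo
    exact hpp.one_lt.ne' hzo.symm
  exact ⟨S, Sh, x, z, n, hSM, hSE.le, hAS, hSSh, hScomm, hΩ, hxSh, hxN, hxM, hxA, hxC, hxn, hzA,
    hz1, hzc⟩

end Cfsg.Agent.Lib.H8.BG12
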