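import Mathlib
import Cfsg.Agent.Lib.H8.BG12h

/-! # Bender–Glauberman Theorem 12.7(b),(c): the lines of `A` (helper8) -/

set_option autoImplicit false
set_option linter.style.haveILetI false
set_option linter.unusedSectionVars false
set_option linter.unusedVariables false
set_option maxHeartbeats 800000

open Cfsg

namespace Cfsg.Agent.Lib.H8.BG12

open Cfsg.Agent.Lib.H16.BG
open Cfsg.Agent.Lib.H7.BG7
open Cfsg.Agent.Lib.H7.BG10
open Cfsg.Agent.Lib.H20.BGS
open Cfsg.Agent.Lib.H19 (IsPiCard)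
open scoped commutatorElement Pointwise

universe u
variable {G : Type u} [Group G] [Finite G]

/-- in a nilpotent subgroup, the Sylow subgroups are unique. -/
theorem sylIn_unique_of_nilpotent {q : ℕ} [Fact q.Prime] {N Q₁ Q₂ : Subgroup G}
    (hN : Group.IsNilpotent ↥N) (h₁ : SylIn q Q₁ N) (h₂ : SylIn q Q₂ N) : Q₁ = Q₂ := by
  obtain ⟨S₁, hS₁⟩ := h₁.exists_sylow
  obtain ⟨S₂, hS₂⟩ := h₂.exists_sylow
  haveI := hN
  have hnorm : (S₁ : Subgroup ↥N).Normal := inferInstance
  have hu : Unique (Sylow q ↥N) := Sylow.unique_of_normal S₁ hnorm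
  have : S₁ = S₂ := (hu.uniq S₁).trans (hu.uniq S₂).symm
  rw [← hS₁, ← hS₂, this]

/-- the Sylow subgroups of a nilpotent subgroup `N` are normalized by everything normalizing
`N`. -/
theorem normalizer_le_of_sylIn_nilpotent {q : ℕ} [Fact q.Prime] {N Q : Subgroup G}
    (hN : Group.IsNilpotent ↥N) (hQ : SylIn q Q N) :
    Subgroup.normalizer (N : Set G) ≤ Subgroup.normalizer (Q : Set G) := by
  intro m hm
  rw [Subgroup.mem_normalizer_iff_map_conj_eq]
  have h1 := hQ.map_conj m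
  have h2 : N.map (MulAut.conj m).toMonoidHom = N := Subgroup.mem_normalizer_iff_map_conj_eq.1 hm
  rw [h2] at h1
  exact sylIn_unique_of_nilpotent hN h1 hQ

/-- a nilpotent subgroup all of whose (normalizer-invariant) primary subgroups lie in `T`
lies in `T`. -/
theorem le_of_forall_primary_le {N K T : Subgroup G} (hN : Group.IsNilpotent ↥N)
    (hK : K ≤ Subgroup.normalizer (N : Set G))
    (h : ∀ (q : ℕ) [Fact q.Prime] (Q : Subgroup G), IsPGroup q Q → Q ≤ N →
      K ≤ Subgroup.normalizer (Q : Set G) → Q ≤ T) : N ≤ T := by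
  have hd : Nat.card ↥N ∣ Nat.card ↥(N ⊓ T) := by
    apply Cfsg.Agent.Lib.H7.le_of_forall_sylow_le
    intro q hq
    haveI : Fact q.Prime := ⟨hq⟩
    obtain ⟨Q, hQ⟩ := SylIn.exists_sylIn q N
    refine ⟨Q, le_inf hQ.le ?_, hQ.card_eq⟩
    exact h q Q hQ.isPGroup hQ.le (hK.trans (normalizer_le_of_sylIn_nilpotent hN hQ))
  have heq : N ⊓ T = N :=
    Subgroup.eq_of_le_of_card_ge inf_le_left (Nat.le_of_dvd Nat.card_pos hd)
  rw [← heq]
  exact inf_le_right

/-- a nilpotent subgroup of `M` normalized by `M` lies in `F(M)`. -/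
theorem le_fittingOf {M Q : Subgroup G} (hQM : Q ≤ M)
    (hMQ : M ≤ Subgroup.normalizer (Q : Set G)) (hQ : Group.IsNilpotent ↥Q) :
    Q ≤ fittingOf M := by
  unfold fittingOf fittingSubgroup
  rw [← Subgroup.map_subgroupOf_eq_of_le hQM]
  apply Subgroup.map_mono
  apply le_sSup
  refine ⟨?_, ?_⟩
  · exact (Subgroup.normal_subgroupOf_iff_le_normalizer hQM).2 hMQ
  · haveI := hQ
    exact Group.nilpotent_of_mulEquiv (Subgroup.subgroupOfEquivOfLe hQM).symm

/-- `F(M) ≤ T` if every primary subgroup of `M` normalized by `M` lies in `T`. -/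
theorem fittingOf_le {M T : Subgroup G}
    (h : ∀ (q : ℕ) [Fact q.Prime] (Q : Subgroup G), IsPGroup q Q → Q ≤ M →
      M ≤ Subgroup.normalizer (Q : Set G) → Q ≤ T) : fittingOf M ≤ T := by
  unfold fittingOf fittingSubgroup
  rw [Subgroup.map_le_iff_le_comap]
  apply sSup_le
  rintro N ⟨hNn, hNnil⟩
  rw [← Subgroup.map_le_iff_le_comap]
  haveI := hNn
  have hK : M ≤ Subgroup.normalizer ((N.map M.subtype : Subgroup G) : Set G) := by
    have h1 := map_normalizer_le N
    rw [Subgroup.normalizer_eq_top, ← MonoidHom.range_eq_map, Subgroup.range_subtype] at h1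
    exact h1
  have hnil : Group.IsNilpotent ↥(N.map M.subtype) := by
    haveI := hNnil
    exact Group.nilpotent_of_mulEquiv (Subgroup.equivMapOfInjective N M.subtype M.subtype_injective)
  apply le_of_forall_primary_le hnil hK
  intro q _ Q hQ hQN hMQ
  exact h q Q hQ (hQN.trans (Subgroup.map_subtype_le N)) hMQ


/-- **BG Theorem 12.7(b),(c)**, the analysis of the lines of `A`: exactly one line `A₀` of `A`
has fixed points on `M_σ`; it centralizes `M_σ`, and every other line `X` has `C_G(X) ⊄ M`. -/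
theorem line_analysis (hG : IsMinSimpleOddOrder G) (hU : Uniq3 G) (hC : HypCent G)
    (h17 : Hyp1417 G) (M : Subgroup G) (hM : IsCoatom M) (E : Subgroup G)
    (hE : IsComplIn E (sigmaCore M) M) (p : ℕ) [hpf : Fact p.Prime] (hp : p ∈ tau2 M)
    (hS : ∀ S : Sylow p G, ¬ IsMulCommutative (S : Subgroup G)) (A : Subgroup G)
    (hAE : A ≤ E) (hAe : IsElementaryAbelian p A) (hAc : Nat.card A = p ^ 2) :
    ∃ A₀ : Subgroup G, A₀ ≤ A ∧ Nat.card A₀ = p ∧
      A₀ ≤ Subgroup.centralizer (sigmaCore M : Set G) ∧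
      ∀ X : Subgroup G, X ≤ A → Nat.card X = p → X ≠ A₀ →
        sigmaCore M ⊓ Subgroup.centralizer (X : Set G) = ⊥ ∧
          ¬ Subgroup.centralizer (X : Set G) ≤ M := by
  have hpp : p.Prime := hpf.out
  have hAM : A ≤ M := hAE.trans hE.1
  obtain ⟨S, Sh, x, z, n, hSM, hSE, hAS, hSSh, hScomm, hΩ, hxSh, hxN, hxM, hxA, hxC, hxn, hzA,
    hz1, hzc⟩ := exists_transvection hG hU hC h17 M hM E hE p hp hS A hAE hAe hAc
  obtain ⟨-, -, huniq⟩ := cor_12_6 hG hU hC h17 M hM E hE p hp A ⟨hAE, hAe, hAc⟩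
  obtain ⟨-, -, -, hd, he, -⟩ := h17 M hM p hp A ⟨hAM, hAe, hAc⟩
  have hMσ1 : sigmaCore M ≠ ⊥ := sigmaCore_ne_bot hG hU hM
  have hM1 : M ≠ ⊥ := coatom_ne_bot hG hM
  have hNM : Subgroup.normalizer (M : Set G) = M :=
    normalizer_eq_of_coatom hG hM le_rfl hM1 Subgroup.le_normalizer
  have hxz : x * z = z * x := hzc x hxSh
  set Z := Subgroup.zpowers z with hZ
  have hZA : Z ≤ A := Subgroup.zpowers_le.2 hzA
  have hZc : Nat.card Z = p := by
    rw [hZ, Nat.card_zpowers]; exact orderOf_eq_prime (hAe.2 z hzA) hz1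
  have hxCZ : x ∈ Subgroup.centralizer (Z : Set G) := by
    rw [hZ, centralizer_zpowers_eq, Subgroup.mem_centralizer_singleton_iff]
    exact hxz
  -- `Z` has no fixed points on `M_σ`
  have hZfix : sigmaCore M ⊓ Subgroup.centralizer (Z : Set G) = ⊥ := by
    by_contra h
    exact hxM ((huniq Z hZA hZc h).1 hxCZ)
  -- powers of `x` outside `M`
  have hxj : ∀ j : ℕ, ¬ p ∣ j → x ^ j ∉ M := by
    intro j hj hmem
    exact hxM ((Subgroup.zpowers_le.2 hmem) (mem_zpowers_pow_of_not_dvd hpp hxn hj))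
  have hxjA : ∀ j : ℕ, x ^ j ∈ Subgroup.normalizer (A : Set G) := fun j =>
    Subgroup.pow_mem _ hxA j
  -- coprime generation
  have hcop : (Nat.card ↥(sigmaCore M)).Coprime p := by
    rw [Nat.coprime_comm, hpp.coprime_iff_not_dvd]
    intro hd
    exact hp.2.1 (sigmaCore_isPiCard M p hpp hd)
  have hgen : sigmaCore M ≤ Cfsg.Agent.Lib.H7.hypGen p A (sigmaCore M) :=
    Cfsg.Agent.Lib.H7.le_hypGen p (fun a ha b hb => comm_of_mem hAe.1 ha hb) hAe.2 hcop
      (hAM.trans (le_normalizer_sigmaCore M))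
  -- a line with fixed points
  have hex : ∃ X₁ : Subgroup G, X₁ ≤ A ∧ Nat.card X₁ = p ∧
      sigmaCore M ⊓ Subgroup.centralizer (X₁ : Set G) ≠ ⊥ := by
    by_contra hcon
    push Not at hcon
    apply hMσ1
    rw [eq_bot_iff]
    refine hgen.trans ?_
    unfold Cfsg.Agent.Lib.H7.hypGen
    apply iSup_le
    rintro ⟨B, hBA, hBi⟩
    obtain ⟨X, hXB, hXc⟩ := exists_line_of_ne_bot hpp hAe hBA (ne_bot_of_relIndex_le hpp hAc hBA hBi)
    rw [← hcon X (hXB.trans hBA) hXc]
    exact inf_le_inf_left _ (Subgroup.centralizer_le hXB)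
  obtain ⟨X₁, hX₁A, hX₁c, hX₁fix⟩ := hex
  have hX₁Z : X₁ ≠ Z := by
    rintro rfl
    exact hX₁fix hZfix
  obtain ⟨hX₁M, hX₁u⟩ := huniq X₁ hX₁A hX₁c hX₁fix
  -- every other line has no fixed points
  have hother : ∀ X : Subgroup G, X ≤ A → Nat.card X = p → X ≠ X₁ →
      sigmaCore M ⊓ Subgroup.centralizer (X : Set G) = ⊥ := by
    intro X hXA hXc hXne
    by_contra hXfix
    have hXZ : X ≠ Z := by
      rintro rfl
      exact hXfix hZfix
    obtain ⟨j, hj, hmap⟩ := conj_lines hAe hAc hxn hxA hxC hzA hz1 hxz hX₁A hXA hX₁c hXc hX₁Z hXZ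
      (Ne.symm hXne)
    obtain ⟨hXM, hXu⟩ := huniq X hXA hXc hXfix
    have h1 : Subgroup.centralizer (X : Set G) ≤ M.map (MulAut.conj (x ^ j)).toMonoidHom := by
      rw [← hmap, Cfsg.Agent.Lib.H10.centralizer_map_conj]
      exact Subgroup.map_mono hX₁M
    have h2 := hXu _ (isCoatom_map_conj hM (x ^ j)) h1
    have h3 : x ^ j ∈ Subgroup.normalizer (M : Set G) :=
      Subgroup.mem_normalizer_iff_map_conj_eq.2 h2
    rw [hNM] at h3
    exact hxj j hj h3
  -- `M_σ ≤ C(X₁)`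
  have hcent : sigmaCore M ≤ Subgroup.centralizer (X₁ : Set G) := by
    refine hgen.trans ?_
    unfold Cfsg.Agent.Lib.H7.hypGen
    apply iSup_le
    rintro ⟨B, hBA, hBi⟩
    by_cases hXB : X₁ ≤ B
    · exact inf_le_right.trans (Subgroup.centralizer_le hXB)
    · obtain ⟨X, hXB', hXc⟩ :=
        exists_line_of_ne_bot hpp hAe hBA (ne_bot_of_relIndex_le hpp hAc hBA hBi)
      have hne : X ≠ X₁ := by
        rintro rfl
        exact hXB hXB'
      have h1 := hother X (hXB'.trans hBA) hXc hne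
      have h2 : sigmaCore M ⊓ Subgroup.centralizer ((B : Subgroup G) : Set G) ≤ ⊥ := by
        rw [← h1]
        exact inf_le_inf_left _ (Subgroup.centralizer_le hXB')
      exact h2.trans bot_le
  refine ⟨X₁, hX₁A, hX₁c, ?_, ?_⟩
  · intro a ha
    rw [Subgroup.mem_centralizer_iff]
    intro y hy
    exact (Subgroup.mem_centralizer_iff.1 (hcent hy) a ha).symm
  · intro X hXA hXc hXne
    refine ⟨hother X hXA hXc hXne, ?_⟩
    intro hXM
    by_cases hXZ : X = Z
    · rw [hXZ] at hXM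
      exact hxM (hXM hxCZ)
    · obtain ⟨j, hj, hmap⟩ := conj_lines hAe hAc hxn hxA hxC hzA hz1 hxz hX₁A hXA hX₁c hXc hX₁Z
        hXZ (Ne.symm hXne)
      set g := x ^ j with hg
      -- `M_σ^g ≤ C(X) ≤ M`
      have h1 : (sigmaCore M).map (MulAut.conj g).toMonoidHom ≤ M := by
        refine le_trans ?_ hXM
        rw [← hmap, Cfsg.Agent.Lib.H10.centralizer_map_conj]
        exact Subgroup.map_mono hcent
      have h2 : sigmaCore M ≤ M.map (MulAut.conj g⁻¹).toMonoidHom := (map_conj_le_iff g).1 h1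
      have hne : M.map (MulAut.conj g⁻¹).toMonoidHom ≠ M := by
        intro h
        have h3 : g⁻¹ ∈ Subgroup.normalizer (M : Set G) :=
          Subgroup.mem_normalizer_iff_map_conj_eq.2 h
        rw [hNM] at h3
        exact hxj j hj (by simpa using M.inv_mem h3)
      have hAle : A ≤ M.map (MulAut.conj g⁻¹).toMonoidHom := by
        have h4 : A.map (MulAut.conj g⁻¹).toMonoidHom = A :=
          Subgroup.mem_normalizer_iff_map_conj_eq.1 (Subgroup.inv_mem _ (hxjA j))
        rw [← h4]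
        exact Subgroup.map_mono hAM
      have h5 := he _ (isCoatom_map_conj hM g⁻¹) hne hAle
      apply hMσ1
      rw [eq_bot_iff, ← h5]
      exact le_inf le_rfl h2

end Cfsg.Agent.Lib.H8.BG12
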