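import Mathlib
import Cfsg.Agent.Lib.H8.BG37
import Cfsg.Agent.Lib.H8.BG12i
import Cfsg.Agent.Lib.H7.CoprimeQuot

/-!
# Bender–Glauberman 3.7 modulo a central subgroup (helper8, for helper16's BG 11.7)

`commutator_zpowers_le_fittingOf_mod`: `M` solvable of odd order, `C ⊴ M`, `Z ≤ Z(C)` normalized
by `M`, `x ∈ M` of prime order `r ∤ |C|` with `C_{F(C)}(x) ≤ Z`.  Then `[C, ⟨x⟩] ≤ F(C)`.
-/

set_option autoImplicit false
set_option linter.unusedSectionVars false
set_option linter.unusedVariables false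
set_option linter.style.haveILetI false

namespace Cfsg.Agent.Lib.H8.BG11

open Cfsg Subgroup
open Cfsg.Agent.Lib.H16.BG
open scoped commutatorElement

theorem commutator_zpowers_le_fittingOf_mod {G : Type*} [Group G] [Finite G] {M C Z : Subgroup G}
    (hMs : Group.IsSolvable ↥M) (hodd : Odd (Nat.card ↥M)) (hCM : C ≤ M)
    (hMC : M ≤ Subgroup.normalizer (C : Set G)) (hZC : Z ≤ C)
    (hCZ : C ≤ Subgroup.centralizer (Z : Set G)) (hMZ : M ≤ Subgroup.normalizer (Z : Set G))
    {x : G} (hxM : x ∈ M) {r : ℕ} (hr : r.Prime) (hxr : orderOf x = r)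
    (hrC : ¬ r ∣ Nat.card ↥C)
    (hfix : fittingOf C ⊓ Subgroup.centralizer ({x} : Set G) ≤ Z) :
    ⁅C, Subgroup.zpowers x⁆ ≤ fittingOf C := by
  classical
  haveI : Fact r.Prime := ⟨hr⟩
  have hZM : Z ≤ M := hZC.trans hCM
  -- subgroups of `↥M`
  set Zm : Subgroup ↥M := Z.subgroupOf M with hZm
  set Cm : Subgroup ↥M := C.subgroupOf M with hCm
  haveI hZmn : Zm.Normal := (Subgroup.normal_subgroupOf_iff_le_normalizer hZM).2 hMZ
  haveI hCmn : Cm.Normal := (Subgroup.normal_subgroupOf_iff_le_normalizer hCM).2 hMC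
  let π : ↥M →* ↥M ⧸ Zm := QuotientGroup.mk' Zm
  have hπs : Function.Surjective π := QuotientGroup.mk'_surjective Zm
  have hker : π.ker = Zm := QuotientGroup.ker_mk' Zm
  set xm : ↥M := ⟨x, hxM⟩ with hxm
  set xb : ↥M ⧸ Zm := π xm with hxb
  set Kb : Subgroup (↥M ⧸ Zm) := Cm.map π with hKb
  haveI hKbn : Kb.Normal := Subgroup.Normal.map inferInstance π hπs
  -- cardinalities
  have hcardZm : Nat.card Zm = Nat.card Z := Nat.card_congr (Subgroup.subgroupOfEquivOfLe hZM).toEquiv
  have hcardCm : Nat.card Cm = Nat.card C := Nat.card_congr (Subgroup.subgroupOfEquivOfLe hCM).toEquiv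
  have hrZ : ¬ r ∣ Nat.card Z := fun h => hrC (h.trans (Subgroup.card_dvd_of_le hZC))
  have hZcop : (Nat.card Zm).Coprime r := by
    rw [hcardZm]; exact ((Nat.Prime.coprime_iff_not_dvd hr).2 hrZ).symm
  -- `Γ` is solvable of odd order
  haveI := hMs
  have hΓs : Group.IsSolvable (↥M ⧸ Zm) := Group.isSolvable_of_surjective hπs
  have hΓodd : Odd (Nat.card (↥M ⧸ Zm)) := by
    have h1 : Nat.card (↥M ⧸ Zm) ∣ Nat.card ↥M := by
      have := Subgroup.card_quotient_dvd_card Zm
      exact this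
    exact Odd.of_dvd_nat hodd h1
  -- the order of `xb`
  have hxmr : orderOf xm = r := by
    rw [← hxr]; exact (Subgroup.orderOf_mk x hxM)
  have hxbr : orderOf xb = r := by
    have h1 : xb ^ r = 1 := by
      rw [hxb, ← map_pow, ← hxmr, pow_orderOf_eq_one, map_one]
    have h2 : xb ≠ 1 := by
      intro h
      have h3 : xm ∈ Zm := by
        rw [← hker]; exact h
      have h4 : x ∈ Z := by
        rw [hZm, Subgroup.mem_subgroupOf] at h3; exact h3
      apply hrZ
      rw [← hxr]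
      have := Subgroup.orderOf_dvd_natCard Z h4
      exact this
    exact orderOf_eq_prime h1 h2
  have hrKb : ¬ r ∣ Nat.card Kb := by
    intro h
    apply hrC
    rw [← hcardCm]
    exact h.trans (Subgroup.card_map_dvd Cm π)
  -- the preimage `T` of `F(Kb)` is nilpotent, so its image in `G` lies in `F(C)`
  set Fb : Subgroup (↥M ⧸ Zm) := fittingOf Kb with hFb
  have hFbn : Fb.Normal := by
    rw [← Subgroup.normalizer_eq_top_iff, eq_top_iff,
      ← Subgroup.normalizer_eq_top_iff.mpr hKbn]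
    exact normalizer_le_normalizer_fittingOf Kb
  set T : Subgroup ↥M := Fb.comap π with hT
  haveI hTn : T.Normal := Subgroup.Normal.comap hFbn π
  have hZT : Zm ≤ T := by rw [← hker]; exact MonoidHom.ker_le_comap π Fb
  have hZCm : Zm ≤ Cm := by
    intro z hz
    rw [hZm, Subgroup.mem_subgroupOf] at hz
    rw [hCm, Subgroup.mem_subgroupOf]
    exact hZC hz
  have hTC : T ≤ Cm := by
    have h1 : Fb ≤ Kb := fittingOf_le Kb
    have h2 : T ≤ Kb.comap π := Subgroup.comap_mono h1
    rw [hKb, Subgroup.comap_map_eq, hker, sup_eq_left.mpr hZCm] at h2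
    exact h2
  have hTnil : Group.IsNilpotent ↥T := by
    -- `π` restricted to `T` has central kernel and nilpotent image
    let f : ↥T →* ↥Fb := (π.subgroupComap Fb)
    haveI : Group.IsNilpotent ↥Fb := fittingOf_isNilpotent Kb
    apply Subgroup.isNilpotent_of_ker_le_center f
    intro t ht
    rw [Subgroup.mem_center_iff]
    intro s
    have ht1 : π (t : ↥M) = 1 := by
      have := (MonoidHom.mem_ker).1 ht
      have h2 : ((f t : ↥Fb) : ↥M ⧸ Zm) = ((1 : ↥Fb) : ↥M ⧸ Zm) := congrArg (Subtype.val) this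
      exact h2
    have ht2 : (t : ↥M) ∈ Zm := by rw [← hker]; exact ht1
    have ht3 : ((t : ↥M) : G) ∈ Z := by
      rw [hZm, Subgroup.mem_subgroupOf] at ht2; exact ht2
    have hs1 : ((s : ↥M) : G) ∈ C := by
      have := hTC s.2
      rw [hCm, Subgroup.mem_subgroupOf] at this; exact this
    have h3 := (Subgroup.mem_centralizer_iff.1 (hCZ hs1)) _ ht3
    apply Subtype.ext
    apply Subtype.ext
    simp only [Subgroup.coe_mul]
    exact h3.symm
  set T' : Subgroup G := T.map M.subtype with hT'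
  have hT'C : T' ≤ C := by
    rintro _ ⟨t, ht, rfl⟩
    have := hTC ht
    rw [hCm, Subgroup.mem_subgroupOf] at this; exact this
  have hT'nil : Group.IsNilpotent ↥T' := by
    haveI := hTnil
    exact Group.nilpotent_of_mulEquiv (T.equivMapOfInjective M.subtype M.subtype_injective)
  have hCT' : C ≤ Subgroup.normalizer (T' : Set G) := by
    have h1 := Subgroup.le_normalizer_map (f := M.subtype) (H := T)
    rw [Subgroup.normalizer_eq_top_iff.mpr hTn, ← MonoidHom.range_eq_map,
      Subgroup.range_subtype] at h1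
    exact hCM.trans h1
  have hT'F : T' ≤ fittingOf C := Cfsg.Agent.Lib.H8.BG12.le_fittingOf hT'C hCT' hT'nil
  -- fixed points of `xb` on `F(Kb)`
  have hfixb : Fb ⊓ centralizer ({xb} : Set (↥M ⧸ Zm)) = ⊥ := by
    rw [eq_bot_iff]
    rintro yb ⟨hyF, hyc⟩
    rw [Subgroup.mem_bot]
    have hP : IsPGroup r (zpowers xm) := by
      apply IsPGroup.of_card (n := 1)
      rw [Nat.card_zpowers, hxmr, pow_one]
    have hmap := Cfsg.Agent.Lib.H7.map_centralizer_of_coprime r hZcop hP
    have hyc' : yb ∈ centralizer (((zpowers xm).map (QuotientGroup.mk' Zm) :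
        Subgroup (↥M ⧸ Zm)) : Set (↥M ⧸ Zm)) := by
      rw [Subgroup.mem_centralizer_iff]
      rintro _ ⟨w, hw, rfl⟩
      obtain ⟨k, rfl⟩ := Subgroup.mem_zpowers_iff.1 hw
      have h1 : (QuotientGroup.mk' Zm) (xm ^ k) = xb ^ k := by
        rw [map_zpow]
      rw [h1]
      have h2 : Commute xb yb := by
        have := Subgroup.mem_centralizer_iff.1 hyc xb (Set.mem_singleton _)
        exact this
      exact (h2.zpow_left k).eq
    rw [← hmap] at hyc'
    obtain ⟨y, hy, rfl⟩ := hyc'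
    have hyT : y ∈ T := hyF
    have hyG : (y : G) ∈ fittingOf C := hT'F ⟨y, hyT, rfl⟩
    have hyx : (y : G) ∈ centralizer ({x} : Set G) := by
      rw [Subgroup.mem_centralizer_iff]
      intro w hw
      rw [Set.mem_singleton_iff] at hw
      subst hw
      have h1 := Subgroup.mem_centralizer_iff.1 hy xm (Subgroup.mem_zpowers xm)
      have h2 := congrArg (Subtype.val) h1
      simpa using h2
    have hyZ : (y : G) ∈ Z := hfix ⟨hyG, hyx⟩
    have : y ∈ Zm := by rw [hZm, Subgroup.mem_subgroupOf]; exact hyZ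
    rw [← hker] at this
    exact this
  have hmain := Cfsg.Agent.Lib.H8.BG37.commutator_zpowers_le_fittingOf hΓs hΓodd
    (K := Kb) (x := xb) hr hxbr hrKb hfixb
  -- pull back
  rw [Subgroup.commutator_le]
  intro c hc z hz
  obtain ⟨k, rfl⟩ := Subgroup.mem_zpowers_iff.1 hz
  have hcm : (⟨c, hCM hc⟩ : ↥M) ∈ Cm := by
    rw [hCm, Subgroup.mem_subgroupOf]; exact hc
  have h1 : ⁅π ⟨c, hCM hc⟩, xb ^ k⁆ ∈ Fb := by
    apply hmain
    exact Subgroup.commutator_mem_commutator (Subgroup.mem_map_of_mem π hcm)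
      (Subgroup.zpow_mem _ (Subgroup.mem_zpowers xb) k)
  have h2 : ⁅(⟨c, hCM hc⟩ : ↥M), xm ^ k⁆ ∈ T := by
    show π ⁅(⟨c, hCM hc⟩ : ↥M), xm ^ k⁆ ∈ Fb
    rw [map_commutatorElement, map_zpow]
    exact h1
  have h3 : M.subtype ⁅(⟨c, hCM hc⟩ : ↥M), xm ^ k⁆ ∈ T' := Subgroup.mem_map_of_mem _ h2
  have h4 : M.subtype ⁅(⟨c, hCM hc⟩ : ↥M), xm ^ k⁆ = ⁅c, x ^ k⁆ := by
    rw [map_commutatorElement, map_zpow]
    rfl
  rw [h4] at h3
  exact hT'F h3

end Cfsg.Agent.Lib.H8.BG11
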