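import Mathlib
import Cfsg.Agent.Lib.H8.BG12i

/-! # Bender–Glauberman Theorem 12.7(b),(c) = the remaining parts of S1419 (helper8);
from 12.4(a) and 12.5 as hypotheses. -/

set_option autoImplicit false
set_option linter.style.haveILetI false
set_option linter.unusedSectionVars false
set_option linter.unusedVariables false
set_option maxHeartbeats 800000

open Cfsg

namespace Cfsg.Agent.Lib.H8.BG12

open Cfsg.Agent.Lib.H16.BG
open Cfsg.Agent.Lib.H7.BG7
open Cfsg.Agent.Lib.H7.BG10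
open Cfsg.Agent.Lib.H20.BGS
open Cfsg.Agent.Lib.H19 (IsPiCard)
open scoped commutatorElement Pointwise

universe u
variable {G : Type u} [Group G] [Finite G]

/-- a subgroup of `A ≅ E_{p²}` properly containing a subgroup of order `p` is `A`. -/
theorem eq_of_lt_of_card_sq {p : ℕ} (hp : p.Prime) {A B X : Subgroup G} (hAc : Nat.card A = p ^ 2)
    (hXc : Nat.card X = p) (hXB : X ≤ B) (hBA : B ≤ A) (hne : B ≠ X) : B = A := by
  apply Subgroup.eq_of_le_of_card_ge hBA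
  have hd : Nat.card B ∣ p ^ 2 := hAc ▸ Subgroup.card_dvd_of_le hBA
  obtain ⟨k, hk, hkc⟩ := (Nat.dvd_prime_pow hp).1 hd
  have hlt : Nat.card X < Nat.card B :=
    card_lt_of_lt (lt_of_le_of_ne hXB (Ne.symm hne))
  rw [hXc, hkc] at hlt
  have hk2 : 1 < k := by
    by_contra hcon
    push Not at hcon
    have : p ^ k ≤ p ^ 1 := Nat.pow_le_pow_right hp.pos hcon
    rw [pow_one] at this
    omega
  have : k = 2 := by omega
  rw [hAc, hkc, this]

/-- **BG Theorem 12.7(b),(c)** (the remaining parts of S1419). -/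
theorem thm_12_7_bc (hG : IsMinSimpleOddOrder G) (hU : Uniq3 G) (hC : HypCent G)
    (h17 : Hyp1417 G) (M : Subgroup G) (hM : IsCoatom M) (E : Subgroup G)
    (hE : IsComplIn E (sigmaCore M) M) (p : ℕ) [hpf : Fact p.Prime] (hp : p ∈ tau2 M)
    (hS : ∀ S : Sylow p G, ¬ IsMulCommutative (S : Subgroup G)) (A : Subgroup G)
    (hAE : A ≤ E) (hAe : IsElementaryAbelian p A) (hAc : Nat.card A = p ^ 2) :
    (Nat.card ↥(A ⊓ Subgroup.centralizer (sigmaCore M : Set G)) = p ∧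
        fittingOf M = sigmaCore M ⊔ (A ⊓ Subgroup.centralizer (sigmaCore M : Set G))) ∧
      ∀ X : Subgroup G, X ≤ E → Nat.card X = p →
        X ≠ A ⊓ Subgroup.centralizer (sigmaCore M : Set G) →
        sigmaCore M ⊓ Subgroup.centralizer (X : Set G) = ⊥ ∧
          ¬ Subgroup.centralizer (X : Set G) ≤ M := by
  have hpp : p.Prime := hpf.out
  have hAM : A ≤ M := hAE.trans hE.1
  have hσ := (sigma_core_hall hG hU hM).1
  obtain ⟨A₁, hA₁A, hA₁c, hA₁cent, hlines⟩ :=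
    line_analysis hG hU hC h17 M hM E hE p hp hS A hAE hAe hAc
  obtain ⟨⟨hEN, hall⟩, ⟨hCA, hMN, hNM⟩, -⟩ :=
    cor_12_6 hG hU hC h17 M hM E hE p hp A ⟨hAE, hAe, hAc⟩
  obtain ⟨hnil, -, -, hd, he, -⟩ := h17 M hM p hp A ⟨hAM, hAe, hAc⟩
  have hMσ1 : sigmaCore M ≠ ⊥ := sigmaCore_ne_bot hG hU hM
  have hM1 : M ≠ ⊥ := coatom_ne_bot hG hM
  -- `A₀ = A₁`
  set A₀ := A ⊓ Subgroup.centralizer (sigmaCore M : Set G) with hA₀
  have hA₁A₀ : A₁ ≤ A₀ := le_inf hA₁A hA₁cent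
  have hA₀eq : A₀ = A₁ := by
    by_contra hne
    have h1 : A₀ = A := eq_of_lt_of_card_sq hpp hAc hA₁c hA₁A₀ inf_le_left hne
    apply hMσ1
    rw [eq_bot_iff, ← hd]
    refine le_inf le_rfl ?_
    intro y hy
    rw [Subgroup.mem_centralizer_iff]
    intro a ha
    have ha' : a ∈ A₀ := by rw [h1]; exact ha
    exact (Subgroup.mem_centralizer_iff.1 ha'.2 y hy).symm
  have hA₀c : Nat.card ↥A₀ = p := by rw [hA₀eq]; exact hA₁c
  have hA₀1 : A₀ ≠ ⊥ := by
    intro h; rw [h, Subgroup.card_bot] at hA₀c; exact hpp.one_lt.ne' hA₀c.symm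
  have hA₀M : A₀ ≤ M := inf_le_left.trans hAM
  -- `A₀ ⊴ M`
  have hMA₀ : M ≤ Subgroup.normalizer (A₀ : Set G) := by
    apply Cfsg.Agent.Lib.H16.SylComm.le_normalizer_of_conj_mem
    intro m hm a₀ ha₀
    obtain ⟨e, heE, u, hu, rfl⟩ := hE.2.2.2 m hm
    have hu' : u * a₀ * u⁻¹ = a₀ := by
      have := Subgroup.mem_centralizer_iff.1 ha₀.2 u hu
      rw [this]; group
    have e1 : e * u * a₀ * (e * u)⁻¹ = e * (u * a₀ * u⁻¹) * e⁻¹ := by group
    rw [e1, hu']
    refine Subgroup.mem_inf.2 ⟨(Subgroup.mem_normalizer_iff.1 (hEN heE) a₀).1 ha₀.1, ?_⟩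
    have hN : e ∈ Subgroup.normalizer ((sigmaCore M : Subgroup G) : Set G) :=
      le_normalizer_sigmaCore M (hE.1 heE)
    rw [Subgroup.mem_centralizer_iff]
    intro y hy
    have hy' : e⁻¹ * y * e⁻¹⁻¹ ∈ sigmaCore M :=
      (Subgroup.mem_normalizer_iff.1 (Subgroup.inv_mem _ hN) y).1 hy
    have := Subgroup.mem_centralizer_iff.1 ha₀.2 _ hy'
    calc y * (e * a₀ * e⁻¹) = e * ((e⁻¹ * y * e⁻¹⁻¹) * a₀) * e⁻¹ := by group
      _ = e * (a₀ * (e⁻¹ * y * e⁻¹⁻¹)) * e⁻¹ := by rw [this]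
      _ = e * a₀ * e⁻¹ * y := by group
  have hNA₀ : Subgroup.normalizer (A₀ : Set G) = M :=
    normalizer_eq_of_coatom hG hM hA₀M hA₀1 hMA₀
  refine ⟨⟨hA₀c, ?_⟩, ?_⟩
  swap
  · intro X hXE hXc hXne
    exact hlines X (hall X hXE hXc) hXc (by rw [← hA₀eq]; exact hXne)
  -- the Fitting subgroup
  apply le_antisymm
  swap
  · apply sup_le
    · exact le_fittingOf (sigmaCore_le M) (le_normalizer_sigmaCore M) hnil
    · apply le_fittingOf hA₀M hMA₀
      have : IsPGroup p ↥A₀ := IsPGroup.of_card (n := 1) (by rw [hA₀c, pow_one])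
      exact this.isNilpotent
  apply fittingOf_le
  intro q hqf Q hQ hQM hMQ
  have hq : q.Prime := hqf.out
  by_cases hQ1 : Q = ⊥
  · rw [hQ1]; exact bot_le
  by_cases hqσ : q ∈ sigma M
  · refine le_trans (le_sigmaCore hσ hQM ?_) le_sup_left
    intro r hr hdv
    rw [prime_eq_of_dvd_card_pGroup hQ hr hdv]; exact hqσ
  refine le_trans ?_ le_sup_right
  have hqd : q ∣ Nat.card ↥Q := by
    obtain ⟨k, hk⟩ := IsPGroup.iff_card.1 hQ
    rw [hk]
    apply dvd_pow_self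
    rintro rfl
    rw [pow_zero] at hk
    exact hQ1 (Subgroup.card_eq_one.1 hk)
  -- `q = p`
  have hqp : q = p := by
    by_contra hqp
    have hr2 : PRankLE q 2 ↥M := by
      by_contra h
      exact hqσ (alpha_subset_sigma hG hU hM ⟨hq, h⟩)
    have hr1 : PRankLE q 1 ↥M := by
      by_contra hr1
      have hτ : q ∈ tau2 M := ⟨hq, hqσ, hr2, hr1⟩
      rw [tau2_eq_singleton hG hU hC h17 M hM E hE p hp hS A hAE hAe hAc] at hτ
      exact hqp hτ
    have hq2 : q ≠ 2 := prime_ne_two_of_dvd hG hqd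
    have hcyc : IsCyclic ↥Q := isCyclic_of_isPGroup_of_rank_one hq2 hQ (pRankLE_of_le hQM hr1)
    obtain ⟨b, hbQ, hbo, -⟩ := Cfsg.Agent.Lib.H15.exists_central_orderOf_eq_prime hQ hQ1
    have hbq : b ^ q = 1 := by rw [← hbo]; exact pow_orderOf_eq_one b
    have hb1 : b ≠ 1 := by
      intro h
      rw [h, orderOf_one] at hbo
      exact hq.one_lt.ne' hbo.symm
    have hXc : Nat.card (Subgroup.zpowers b) = q := by rw [Nat.card_zpowers, hbo]
    have hMX : M ≤ Subgroup.normalizer ((Subgroup.zpowers b : Subgroup G) : Set G) := by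
      intro m hm
      apply mem_normalizer_of_map_conj_le
      rw [MonoidHom.map_zpowers, Subgroup.zpowers_le]
      have hb' : m * b * m⁻¹ ∈ Q := (Subgroup.mem_normalizer_iff.1 (hMQ hm) b).1 hbQ
      have h1 : (m * b * m⁻¹) ^ q = 1 := by rw [conj_pow, hbq]; group
      have h2 : m * b * m⁻¹ ≠ 1 := by
        intro h
        apply hb1
        calc b = m⁻¹ * (m * b * m⁻¹) * m := by group
          _ = 1 := by rw [h]; group
      have := zpowers_eq_of_mem_cyclic hcyc hq hbQ hb' hbq hb1 h1 h2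
      show m * b * m⁻¹ ∈ Subgroup.zpowers b
      rw [this]
      exact Subgroup.mem_zpowers _
    have hX1 : Subgroup.zpowers b ≠ ⊥ := by
      intro h
      rw [h, Subgroup.card_bot] at hXc
      exact hq.one_lt.ne' hXc.symm
    have hNX := normalizer_eq_of_coatom hG hM ((Subgroup.zpowers_le.2 hbQ).trans hQM) hX1 hMX
    exact (rank_two_of_normalizer_le hG hU hM hqσ hXc hNX.le).1.2 hr1
  have hQp : IsPGroup p ↥Q := hqp ▸ hQ
  obtain ⟨S, Sh, x, z, n, hSM, hSE, hAS, hSSh, hScomm, hΩ, hxSh, hxN, hxM, hxA, hxC, hxn, hzA,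
    hz1, hzc⟩ := exists_transvection hG hU hC h17 M hM E hE p hp hS A hAE hAe hAc
  have hQS : Q ≤ S := hSM.normal_le hQp hQM hMQ
  -- elements of order `p` of `Q` lie in `A₀`
  have hcl1 : ∀ δ ∈ Q, δ ^ p = 1 → δ ∈ A₀ := by
    intro δ hδ hδp
    by_cases hδ1 : δ = 1
    · rw [hδ1]; exact one_mem _
    have hδA : δ ∈ A := (hΩ δ (hQS hδ)).1 hδp
    have hMB' : M ≤ Subgroup.normalizer ((Q ⊓ A : Subgroup G) : Set G) := by
      apply Cfsg.Agent.Lib.H16.SylComm.le_normalizer_of_conj_mem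
      intro m hm y hy
      have h1 : m * y * m⁻¹ ∈ Q := (Subgroup.mem_normalizer_iff.1 (hMQ hm) y).1 hy.1
      refine ⟨h1, (hΩ _ (hQS h1)).1 ?_⟩
      rw [conj_pow, hAe.2 y hy.2]; group
    have hB'1 : Q ⊓ A ≠ ⊥ := by
      intro h
      have : δ ∈ Q ⊓ A := ⟨hδ, hδA⟩
      rw [h, Subgroup.mem_bot] at this
      exact hδ1 this
    have hNB' := normalizer_eq_of_coatom hG hM (inf_le_left.trans hQM) hB'1 hMB'
    have hB'A : Q ⊓ A ≠ A := by
      intro h
      apply hNM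
      rw [← h, hNB']
    have hXc : Nat.card (Subgroup.zpowers δ) = p := by
      rw [Nat.card_zpowers]; exact orderOf_eq_prime hδp hδ1
    have hXB' : Subgroup.zpowers δ ≤ Q ⊓ A := Subgroup.zpowers_le.2 ⟨hδ, hδA⟩
    have hB'X : Q ⊓ A = Subgroup.zpowers δ := by
      by_contra hne
      exact hB'A (eq_of_lt_of_card_sq hpp hAc hXc hXB' inf_le_right hne)
    have hXA₁ : Subgroup.zpowers δ = A₁ := by
      by_contra hne
      apply (hlines _ (hXB'.trans inf_le_right) hXc hne).2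
      rw [← hB'X]
      exact (Subgroup.centralizer_le_normalizer _).trans hNB'.le
    rw [hA₀eq, ← hXA₁]
    exact Subgroup.mem_zpowers δ
  -- `Q` has exponent `p`
  have hmax := (rank_two_not_ideal hG hU hM hp.2.2.1 hp.2.2.2).2 A hAM hAe hAc
  obtain ⟨R₁, hR₁c, hR₁⟩ :=
    exists_cyclic_pow_mem hG Sh (hS Sh) (hAS.trans hSSh) hAe hAc hmax
  have hcl2 : ∀ δ ∈ Q, δ ^ p = 1 := by
    intro δ hδ
    by_contra hδp
    obtain ⟨k, hk'⟩ := (IsPGroup.iff_orderOf.1 hQp) ⟨δ, hδ⟩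
    have hk : orderOf δ = p ^ k := by rwa [Subgroup.orderOf_mk] at hk'
    have hk2 : 2 ≤ k := by
      by_contra hlt
      apply hδp
      apply orderOf_dvd_iff_pow_eq_one.1
      rw [hk]
      have : k ≤ 1 := by omega
      calc p ^ k ∣ p ^ 1 := Nat.pow_dvd_pow p this
        _ = p := pow_one p
    set δ' := δ ^ p ^ (k - 2) with hδ'
    have hδ'Q : δ' ∈ Q := Q.pow_mem hδ _
    set b := δ' ^ p with hb
    have hbQ : b ∈ Q := Q.pow_mem hδ'Q _
    have hbp : b ^ p = 1 := by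
      have e : b ^ p = δ ^ (p ^ k) := by
        rw [hb, hδ', ← pow_mul, ← pow_mul]
        congr 1
        have : k = (k - 2) + 1 + 1 := by omega
        conv_rhs => rw [this]
        ring
      rw [e, ← hk]
      exact pow_orderOf_eq_one δ
    have hb1 : b ≠ 1 := by
      intro h
      rw [hb, hδ', ← pow_mul] at h
      have h2 := orderOf_dvd_of_pow_eq_one h
      rw [hk] at h2
      have h3 : p ^ (k - 2) * p = p ^ (k - 1) := by
        have : k - 1 = (k - 2) + 1 := by omega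
        rw [this, pow_succ]
      rw [h3] at h2
      have h4 := (Nat.pow_dvd_pow_iff_le_right hpp.one_lt).1 h2
      omega
    have hbA₀ : b ∈ A₀ := hcl1 b hbQ hbp
    have hA₀b : Subgroup.zpowers b = A₀ := zpowers_eq_of_card_prime hpp hA₀c hbA₀ hb1
    have hcommA : ∀ g ∈ S, ∀ a ∈ A, g * a = a * g := fun g hg a ha =>
      comm_of_mem hScomm hg (hAS ha)
    have hbR : b ∈ R₁ := hR₁ δ' (hSSh (hQS hδ'Q)) (hcommA δ' (hQS hδ'Q))
    have hxδ'S : x * δ' * x⁻¹ ∈ S := (Subgroup.mem_normalizer_iff.1 hxN δ').1 (hQS hδ'Q)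
    have hb'R : x * b * x⁻¹ ∈ R₁ := by
      have := hR₁ _ (hSSh hxδ'S) (hcommA _ hxδ'S)
      rwa [conj_pow] at this
    have h1 : (x * b * x⁻¹) ^ p = 1 := by rw [conj_pow, hbp]; group
    have h2 : x * b * x⁻¹ ≠ 1 := by
      intro h
      apply hb1
      calc b = x⁻¹ * (x * b * x⁻¹) * x := by group
        _ = 1 := by rw [h]; group
    have h3 := zpowers_eq_of_mem_cyclic hR₁c hpp hbR hb'R hbp hb1 h1 h2
    apply hxM
    rw [← hNA₀, ← hA₀b]
    apply mem_normalizer_of_map_conj_le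
    rw [MonoidHom.map_zpowers, Subgroup.zpowers_le]
    show x * b * x⁻¹ ∈ Subgroup.zpowers b
    rw [h3]
    exact Subgroup.mem_zpowers _
  intro δ hδ
  exact hcl1 δ hδ (hcl2 δ hδ)

end Cfsg.Agent.Lib.H8.BG12
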