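import Mathlib
import Cfsg.Agent.Lib.H8.FrobFormula2
import Cfsg.Agent.Lib.H16.BGp

/-!
# A Frobenius-action lemma for BG 11.7 (helper8, for helper16)

`fix_ne_bot_of_frob`: a Frobenius group `U ⋊ E` (`|E|` prime, `C_U(E) = 1`) acting coprimely on a
solvable group `H ≠ 1` with `C_H(U) = 1` has `C_H(E) ≠ 1`.

`exists_fixed_of_two_fpf_lines`: the statement `MU` requested by helper16.
-/

set_option autoImplicit false
set_option linter.unusedSectionVars false
set_option linter.unusedVariables false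
set_option linter.style.haveILetI false

namespace Cfsg.Agent.Lib.H8.BG11

open Cfsg Subgroup

universe u

/-- a group of prime order is generated by each of its nonidentity elements. -/
theorem le_zpowers_of_card_prime {X : Type u} [Group X] {p : ℕ} (hp : p.Prime) {E : Subgroup X}
    (hEc : Nat.card E = p) {e : X} (he : e ∈ E) (he1 : e ≠ 1) : E ≤ zpowers e := by
  haveI : Fact p.Prime := ⟨hp⟩
  haveI : Finite E := Nat.finite_of_card_ne_zero (by rw [hEc]; exact hp.pos.ne')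
  have h1 : (⟨e, he⟩ : ↥E) ≠ 1 := fun h => he1 (congrArg Subtype.val h)
  have h2 : zpowers (⟨e, he⟩ : ↥E) = ⊤ := zpowers_eq_top_of_prime_card hEc h1
  intro x hx
  have h3 : (⟨x, hx⟩ : ↥E) ∈ zpowers (⟨e, he⟩ : ↥E) := by rw [h2]; trivial
  obtain ⟨k, hk⟩ := Subgroup.mem_zpowers_iff.1 h3
  refine Subgroup.mem_zpowers_iff.2 ⟨k, ?_⟩
  have := congrArg Subtype.val hk
  simpa using this

/-- a subgroup of prime order not centralized by `B` meets `C(B)` trivially. -/
theorem inf_centralizer_eq_bot_of_card_prime {X : Type u} [Group X] {r : ℕ} (hr : r.Prime)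
    {V B : Subgroup X} (hVc : Nat.card V = r) (hnc : ¬ B ≤ centralizer (V : Set X)) :
    V ⊓ centralizer (B : Set X) = ⊥ := by
  by_contra h
  obtain ⟨v, hv1⟩ := (Subgroup.ne_bot_iff_exists_ne_one).1 h
  have hvV : (v : X) ∈ V := v.2.1
  have hvC : (v : X) ∈ centralizer (B : Set X) := v.2.2
  have hv1' : (v : X) ≠ 1 := fun h => hv1 (Subtype.ext h)
  have hVz := le_zpowers_of_card_prime hr hVc hvV hv1'
  apply hnc
  intro b hb
  rw [Subgroup.mem_centralizer_iff]
  intro w hw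
  obtain ⟨k, rfl⟩ := Subgroup.mem_zpowers_iff.1 (hVz hw)
  have h1 : Commute b (v : X) := Subgroup.mem_centralizer_iff.1 hvC b hb
  exact (h1.zpow_right k).eq.symm

theorem fix_ne_bot_of_frob {X : Type u} [Group X] [Finite X] {p : ℕ} (hp : p.Prime)
    {U E H : Subgroup X} (hU1 : U ≠ ⊥) (hEc : Nat.card E = p) (hUp : (Nat.card U).Coprime p)
    (hEU : E ≤ normalizer (U : Set X)) (hfpf : U ⊓ centralizer (E : Set X) = ⊥)
    (hH1 : H ≠ ⊥) (hHs : Group.IsSolvable ↥H) (hHU : (Nat.card H).Coprime (Nat.card U))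
    (hHp : (Nat.card H).Coprime p) (hUH : U ≤ normalizer (H : Set X))
    (hEH : E ≤ normalizer (H : Set X)) (hHU0 : H ⊓ centralizer (U : Set X) = ⊥) :
    H ⊓ centralizer (E : Set X) ≠ ⊥ := by
  classical
  have hcardUE : Nat.card (U ⊔ E : Subgroup X) ∣ Nat.card U * p := by
    have h := Cfsg.Agent.Lib.H16.BG.card_sup_mul_card_inf hEU
    rw [hEc, sup_comm] at h
    rw [mul_comm (Nat.card U) p, ← h]
    exact Dvd.intro _ rfl
  have hcop : Nat.Coprime (Nat.card H) (Nat.card (U ⊔ E : Subgroup X)) :=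
    Nat.Coprime.coprime_dvd_right hcardUE (Nat.Coprime.mul_right hHU hHp)
  have hFA : FrobAct U E H := by
    refine ⟨hU1, ?_, ?_, ?_, ?_, ?_, ?_, hHs, hcop⟩
    · intro h
      rw [h, Subgroup.card_bot] at hEc
      exact hp.one_lt.ne' hEc.symm
    · apply (Subgroup.disjoint_of_coprime_natCard _).eq_bot
      rw [hEc]; exact hUp
    · intro e he u hu
      exact (Subgroup.mem_normalizer_iff.1 (hEU he) u).1 hu
    · intro e he he1 u hu hcomm
      have hEz := le_zpowers_of_card_prime hp hEc he he1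
      have huC : u ∈ centralizer (E : Set X) := by
        rw [Subgroup.mem_centralizer_iff]
        intro w hw
        obtain ⟨k, rfl⟩ := Subgroup.mem_zpowers_iff.1 (hEz hw)
        have h1 : Commute e u := hcomm
        exact (h1.zpow_left k).eq
      have : u ∈ U ⊓ centralizer (E : Set X) := ⟨hu, huC⟩
      rw [hfpf] at this
      exact Subgroup.mem_bot.1 this
    · intro x hx h hh
      exact (Subgroup.mem_normalizer_iff.1 ((sup_le hUH hEH) hx) h).1 hh
    · exact (Subgroup.disjoint_of_coprime_natCard hcop).eq_bot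
  have hform := frobFormula U E H hFA
  unfold FrobFormula at hform
  intro hE0
  have h1 : H ⊓ centralizer ((U ⊔ E : Subgroup X) : Set X) = ⊥ := by
    rw [eq_bot_iff, ← hHU0]
    exact inf_le_inf_left _ (Subgroup.centralizer_le (by exact_mod_cast (le_sup_left : U ≤ U ⊔ E)))
  rw [h1, hE0, hHU0, Subgroup.card_bot, one_pow, one_mul, one_mul] at hform
  exact hH1 (Subgroup.card_eq_one.1 hform)

/-- two distinct subgroups of prime order `p` in a group of order `p²` generate it. -/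
theorem sup_eq_of_card_prime_of_ne {X : Type u} [Group X] [Finite X] {p : ℕ} (hp : p.Prime)
    {A A₁ A₂ : Subgroup X}
    (hAc : Nat.card A = p ^ 2) (hA₁ : A₁ ≤ A) (hA₁c : Nat.card A₁ = p) (hA₂ : A₂ ≤ A)
    (hA₂c : Nat.card A₂ = p) (hne : A₁ ≠ A₂) : A₁ ⊔ A₂ = A := by
  have hle : A₁ ⊔ A₂ ≤ A := sup_le hA₁ hA₂
  have hlt : A₁ < A₁ ⊔ A₂ := by
    refine lt_of_le_of_ne le_sup_left ?_
    intro h
    have h2 : A₂ ≤ A₁ := by rw [h]; exact le_sup_right
    apply hne
    exact (Subgroup.eq_of_le_of_card_ge h2 (by rw [hA₁c, hA₂c])).symm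
  have hd1 : Nat.card A₁ ∣ Nat.card (A₁ ⊔ A₂ : Subgroup X) := Subgroup.card_dvd_of_le le_sup_left
  have hd2 : Nat.card (A₁ ⊔ A₂ : Subgroup X) ∣ p ^ 2 := by
    rw [← hAc]; exact Subgroup.card_dvd_of_le hle
  obtain ⟨k, hk, hk2⟩ := (Nat.dvd_prime_pow hp).1 hd2
  have hk1 : k ≠ 0 := by
    rintro rfl
    rw [pow_zero] at hk2
    have : (A₁ ⊔ A₂ : Subgroup X) = ⊥ := Subgroup.card_eq_one.1 hk2
    rw [this] at hlt
    exact not_lt_bot hlt
  have hk3 : k ≠ 1 := by
    rintro rfl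
    rw [pow_one] at hk2
    have : A₁ = A₁ ⊔ A₂ :=
      Subgroup.eq_of_le_of_card_ge le_sup_left (by rw [hk2, hA₁c])
    exact hlt.ne this
  have hk4 : k = 2 := by omega
  subst hk4
  exact Subgroup.eq_of_le_of_card_ge hle (by rw [hk2, hAc])

/-- a proper nontrivial subgroup of a group of order `r²` has order `r`. -/
theorem card_eq_of_ne_bot_of_ne {X : Type u} [Group X] [Finite X] {r : ℕ} (hr : r.Prime)
    {A V : Subgroup X} (hAc : Nat.card A = r ^ 2) (hV : V ≤ A) (hV1 : V ≠ ⊥) (hVA : V ≠ A) :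
    Nat.card V = r := by
  have hd2 : Nat.card V ∣ r ^ 2 := by
    rw [← hAc]; exact Subgroup.card_dvd_of_le hV
  obtain ⟨k, hk, hk2⟩ := (Nat.dvd_prime_pow hr).1 hd2
  have hk1 : k ≠ 0 := by
    rintro rfl
    rw [pow_zero] at hk2
    exact hV1 (Subgroup.card_eq_one.1 hk2)
  have hk3 : k ≠ 2 := by
    rintro rfl
    exact hVA (Subgroup.eq_of_le_of_card_ge hV (by rw [hk2, hAc]))
  have hk4 : k = 1 := by omega
  subst hk4
  rw [hk2, pow_one]

/-- `C(A₁) ⊓ C(A₂) ≤ C(A₁ ⊔ A₂)`. -/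
theorem centralizer_inf_le_centralizer_sup {X : Type u} [Group X] (A₁ A₂ : Subgroup X) :
    centralizer (A₁ : Set X) ⊓ centralizer (A₂ : Set X) ≤
      centralizer ((A₁ ⊔ A₂ : Subgroup X) : Set X) := by
  intro x hx
  have h1 : A₁ ≤ centralizer ((zpowers x : Subgroup X) : Set X) := by
    rw [Subgroup.le_centralizer_iff, Subgroup.zpowers_le]; exact hx.1
  have h2 : A₂ ≤ centralizer ((zpowers x : Subgroup X) : Set X) := by
    rw [Subgroup.le_centralizer_iff, Subgroup.zpowers_le]; exact hx.2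
  have h3 : A₁ ⊔ A₂ ≤ centralizer ((zpowers x : Subgroup X) : Set X) := sup_le h1 h2
  rw [Subgroup.le_centralizer_iff, Subgroup.zpowers_le] at h3
  exact h3

/-- `N(B) ≤ N(C(B))`. -/
theorem normalizer_le_normalizer_centralizer_aux {X : Type u} [Group X] (B : Subgroup X) :
    normalizer (B : Set X) ≤ normalizer ((centralizer (B : Set X) : Subgroup X) : Set X) := by
  have key : ∀ g : X, g ∈ normalizer (B : Set X) → ∀ x ∈ centralizer (B : Set X),
      g * x * g⁻¹ ∈ centralizer (B : Set X) := by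
    intro g hg x hx
    rw [Subgroup.mem_centralizer_iff]
    intro a ha
    have ha' : g⁻¹ * a * g ∈ B := by
      have := (Subgroup.mem_normalizer_iff.1 (Subgroup.inv_mem _ hg) a).1 ha
      simpa using this
    have hc := Subgroup.mem_centralizer_iff.1 hx _ ha'
    calc a * (g * x * g⁻¹) = g * ((g⁻¹ * a * g) * x) * g⁻¹ := by group
      _ = g * (x * (g⁻¹ * a * g)) * g⁻¹ := by rw [hc]
      _ = g * x * g⁻¹ * a := by group
  intro g hg
  rw [Subgroup.mem_normalizer_iff]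
  intro x
  constructor
  · exact key g hg x
  · intro h
    have := key g⁻¹ (Subgroup.inv_mem _ hg) _ h
    simpa [mul_assoc] using this

/-- **MU** (helper16, BG 11.7). -/
theorem exists_fixed_of_two_fpf_lines {G : Type*} [Group G] [Finite G] {p r : ℕ} [Fact p.Prime]
    [Fact r.Prime] (hpr : p ≠ r) {K A Ar B₀ A₁ A₂ : Subgroup G}
    (hAe : IsElementaryAbelian p A) (hAc : Nat.card A = p ^ 2)
    (hAre : IsElementaryAbelian r Ar) (hArc : Nat.card Ar = r ^ 2)
    (hAAr : A ≤ Subgroup.normalizer (Ar : Set G)) (hB₀ : B₀ ≤ Ar) (hB₀c : Nat.card B₀ = r)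
    (hAB₀ : A ≤ Subgroup.normalizer (B₀ : Set G))
    (hnc : ¬ A ≤ Subgroup.centralizer (B₀ : Set G)) (hK1 : K ≠ ⊥) (hKs : Group.IsSolvable ↥K)
    (hKp : (Nat.card K).Coprime p) (hKr : (Nat.card K).Coprime r)
    (hAK : A ≤ Subgroup.normalizer (K : Set G)) (hArK : Ar ≤ Subgroup.normalizer (K : Set G))
    (hKAr : K ⊓ Subgroup.centralizer (Ar : Set G) = ⊥) (hA₁ : A₁ ≤ A) (hA₁c : Nat.card A₁ = p)
    (hA₂ : A₂ ≤ A) (hA₂c : Nat.card A₂ = p) (hne : A₁ ≠ A₂)
    (hf₁ : K ⊓ Subgroup.centralizer (A₁ : Set G) = ⊥)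
    (hf₂ : K ⊓ Subgroup.centralizer (A₂ : Set G) = ⊥) :
    Ar ⊓ Subgroup.centralizer (A : Set G) ≠ ⊥ := by
  classical
  have hp : p.Prime := Fact.out
  have hr : r.Prime := Fact.out
  have hrp : Nat.Coprime r p := (Nat.coprime_primes hr hp).2 hpr.symm
  have hA12 : A₁ ⊔ A₂ = A := sup_eq_of_card_prime_of_ne hp hAc hA₁ hA₁c hA₂ hA₂c hne
  haveI hAcomm : IsMulCommutative A := hAe.1
  haveI hArcomm : IsMulCommutative Ar := hAre.1
  have hAcent : A ≤ centralizer (A : Set G) := by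
    intro a ha
    rw [Subgroup.mem_centralizer_iff]
    intro b hb
    have := hAcomm.is_comm.comm (⟨b, hb⟩ : ↥A) ⟨a, ha⟩
    exact congrArg Subtype.val this
  have hArcent : Ar ≤ centralizer (Ar : Set G) := by
    intro a ha
    rw [Subgroup.mem_centralizer_iff]
    intro b hb
    have := hArcomm.is_comm.comm (⟨b, hb⟩ : ↥Ar) ⟨a, ha⟩
    exact congrArg Subtype.val this
  -- (a) `K₀ := C_K(B₀) ≠ 1`
  have hK0 : K ⊓ centralizer (B₀ : Set G) ≠ ⊥ := by
    intro h0
    -- one of the `Aᵢ` does not centralize `B₀`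
    have hex : ¬ A₁ ≤ centralizer (B₀ : Set G) ∨ ¬ A₂ ≤ centralizer (B₀ : Set G) := by
      by_contra hcon
      push Not at hcon
      apply hnc
      rw [← hA12]
      exact sup_le hcon.1 hcon.2
    have hB1 : B₀ ≠ ⊥ := by
      intro h
      rw [h, Subgroup.card_bot] at hB₀c
      exact hr.one_lt.ne' hB₀c.symm
    have hBK : B₀ ≤ normalizer (K : Set G) := hB₀.trans hArK
    have key : ∀ Ai : Subgroup G, Ai ≤ A → Nat.card Ai = p → ¬ Ai ≤ centralizer (B₀ : Set G) →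
        K ⊓ centralizer (Ai : Set G) ≠ ⊥ := by
      intro Ai hAi hAic hnci
      refine fix_ne_bot_of_frob hp hB1 hAic (by rw [hB₀c]; exact hrp) (hAi.trans hAB₀)
        (inf_centralizer_eq_bot_of_card_prime hr hB₀c hnci) hK1 hKs (by rw [hB₀c]; exact hKr) hKp
        hBK (hAi.trans hAK) h0
    rcases hex with h | h
    · exact key A₁ hA₁ hA₁c h hf₁
    · exact key A₂ hA₂ hA₂c h hf₂
  intro hcon
  set K₀ : Subgroup G := K ⊓ centralizer (B₀ : Set G) with hK₀
  have hK₀K : K₀ ≤ K := inf_le_left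
  have hK₀s : Group.IsSolvable ↥K₀ := by
    haveI := hKs
    exact Group.isSolvable_of_isSolvable_injective (Subgroup.inclusion_injective hK₀K)
  have hK₀p : (Nat.card K₀).Coprime p :=
    Nat.Coprime.coprime_dvd_left (Subgroup.card_dvd_of_le hK₀K) hKp
  have hK₀r : (Nat.card K₀).Coprime r :=
    Nat.Coprime.coprime_dvd_left (Subgroup.card_dvd_of_le hK₀K) hKr
  have hnormC : ∀ {Y B : Subgroup G}, Y ≤ normalizer (B : Set G) →
      Y ≤ normalizer ((centralizer (B : Set G) : Subgroup G) : Set G) := by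
    intro Y B h
    exact h.trans (normalizer_le_normalizer_centralizer_aux B)
  have hAK₀ : A ≤ normalizer (K₀ : Set G) := by
    intro a ha
    have h1 := hAK ha
    have h2 := hnormC hAB₀ ha
    rw [Subgroup.mem_normalizer_iff] at h1 h2 ⊢
    intro x
    rw [hK₀, Subgroup.mem_inf, Subgroup.mem_inf, h1 x, h2 x]
  have hArK₀ : Ar ≤ normalizer (K₀ : Set G) := by
    intro a ha
    have h1 := hArK ha
    have h2 : a ∈ normalizer ((centralizer (B₀ : Set G) : Subgroup G) : Set G) :=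
      Subgroup.le_normalizer (Subgroup.centralizer_le (by exact_mod_cast hB₀) (hArcent ha))
    rw [Subgroup.mem_normalizer_iff] at h1 h2 ⊢
    intro x
    rw [hK₀, Subgroup.mem_inf, Subgroup.mem_inf, h1 x, h2 x]
  have hK₀Ar : K₀ ⊓ centralizer (Ar : Set G) = ⊥ := by
    rw [eq_bot_iff, ← hKAr]
    exact inf_le_inf_right _ hK₀K
  have hAr1 : Ar ≠ ⊥ := by
    intro h
    rw [h, Subgroup.card_bot] at hArc
    have := hr.one_lt
    nlinarith
  have hArp : (Nat.card Ar).Coprime p := by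
    rw [hArc]; exact Nat.Coprime.pow_left 2 hrp
  have hK₀Arc : (Nat.card K₀).Coprime (Nat.card Ar) := by
    rw [hArc]; exact Nat.Coprime.pow_right 2 hK₀r
  -- `Vᵢ := C_{Ar}(Aᵢ) ≠ 1`
  have hV : ∀ Ai : Subgroup G, Ai ≤ A → Nat.card Ai = p → K ⊓ centralizer (Ai : Set G) = ⊥ →
      Ar ⊓ centralizer (Ai : Set G) ≠ ⊥ := by
    intro Ai hAi hAic hfi hV0
    have := fix_ne_bot_of_frob hp hAr1 hAic hArp (hAi.trans hAAr) hV0 hK0 hK₀s hK₀Arc hK₀p
      hArK₀ (hAi.trans hAK₀) hK₀Ar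
    apply this
    rw [eq_bot_iff, ← hfi]
    exact inf_le_inf_right _ hK₀K
  set V₁ : Subgroup G := Ar ⊓ centralizer (A₁ : Set G) with hV₁
  set V₂ : Subgroup G := Ar ⊓ centralizer (A₂ : Set G) with hV₂
  have hV₁1 : V₁ ≠ ⊥ := hV A₁ hA₁ hA₁c hf₁
  have hV₂1 : V₂ ≠ ⊥ := hV A₂ hA₂ hA₂c hf₂
  have hV12 : V₁ ⊓ V₂ = ⊥ := by
    rw [eq_bot_iff, ← hcon]
    intro x hx
    refine ⟨hx.1.1, ?_⟩
    have := centralizer_inf_le_centralizer_sup A₁ A₂ ⟨hx.1.2, hx.2.2⟩
    rw [hA12] at this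
    exact this
  have hV₁A : V₁ ≠ Ar := by
    intro h
    apply hV₂1
    rw [eq_bot_iff, ← hV12, h]
    exact le_inf inf_le_left le_rfl
  have hV₂A : V₂ ≠ Ar := by
    intro h
    apply hV₁1
    rw [eq_bot_iff, ← hV12, h]
    exact le_inf le_rfl inf_le_left
  have hV₁c : Nat.card V₁ = r := card_eq_of_ne_bot_of_ne hr hArc inf_le_left hV₁1 hV₁A
  have hV₂c : Nat.card V₂ = r := card_eq_of_ne_bot_of_ne hr hArc inf_le_left hV₂1 hV₂A
  have hVne : V₁ ≠ V₂ := by
    intro h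
    apply hV₁1
    rw [eq_bot_iff, ← hV12, ← h]
    exact le_inf le_rfl le_rfl
  -- the final Frobenius argument
  have final : ∀ (Vi Aj : Subgroup G), Vi ≤ Ar → Nat.card Vi = r → Vi ≠ B₀ →
      A ≤ normalizer (Vi : Set G) → Aj ≤ A → Nat.card Aj = p →
      ¬ Aj ≤ centralizer (Vi : Set G) → K ⊓ centralizer (Aj : Set G) = ⊥ → False := by
    intro Vi Aj hVi hVic hViB hAVi hAj hAjc hncj hfj
    have hVi1 : Vi ≠ ⊥ := by
      intro h
      rw [h, Subgroup.card_bot] at hVic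
      exact hr.one_lt.ne' hVic.symm
    have hBV : B₀ ⊔ Vi = Ar :=
      sup_eq_of_card_prime_of_ne hr hArc hB₀ hB₀c hVi hVic (Ne.symm hViB)
    have hK₀Vi : K₀ ⊓ centralizer (Vi : Set G) = ⊥ := by
      rw [eq_bot_iff, ← hKAr]
      intro x hx
      refine ⟨hx.1.1, ?_⟩
      have := centralizer_inf_le_centralizer_sup B₀ Vi ⟨hx.1.2, hx.2⟩
      rw [hBV] at this
      exact this
    have := fix_ne_bot_of_frob hp hVi1 hAjc (by rw [hVic]; exact hrp) (hAj.trans hAVi)
      (inf_centralizer_eq_bot_of_card_prime hr hVic hncj) hK0 hK₀s (by rw [hVic]; exact hK₀r)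
      hK₀p (hVi.trans hArK₀) (hAj.trans hAK₀) hK₀Vi
    apply this
    rw [eq_bot_iff, ← hfj]
    exact inf_le_inf_right _ hK₀K
  -- `A` normalizes `Vᵢ`
  have hAV : ∀ Ai : Subgroup G, Ai ≤ A →
      A ≤ normalizer ((Ar ⊓ centralizer (Ai : Set G) : Subgroup G) : Set G) := by
    intro Ai hAi a ha
    have h1 := hAAr ha
    have h2 : a ∈ normalizer ((centralizer (Ai : Set G) : Subgroup G) : Set G) :=
      Subgroup.le_normalizer (Subgroup.centralizer_le (by exact_mod_cast hAi) (hAcent ha))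
    rw [Subgroup.mem_normalizer_iff] at h1 h2 ⊢
    intro x
    rw [Subgroup.mem_inf, Subgroup.mem_inf, h1 x, h2 x]
  -- `Aⱼ` does not centralize `Vᵢ` for `i ≠ j`
  have hnc12 : ¬ A₂ ≤ centralizer (V₁ : Set G) := by
    intro h
    apply hV₁1
    rw [eq_bot_iff, ← hV12]
    intro x hx
    refine ⟨hx, hx.1, ?_⟩
    exact (Subgroup.le_centralizer_iff.1 h) hx
  have hnc21 : ¬ A₁ ≤ centralizer (V₂ : Set G) := by
    intro h
    apply hV₂1
    rw [eq_bot_iff, ← hV12]
    intro x hx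
    refine ⟨⟨hx.1, ?_⟩, hx⟩
    exact (Subgroup.le_centralizer_iff.1 h) hx
  by_cases hVB : V₁ = B₀
  · have hV₂B : V₂ ≠ B₀ := fun h => hVne (hVB.trans h.symm)
    exact final V₂ A₁ inf_le_left hV₂c hV₂B (hAV A₂ hA₂) hA₁ hA₁c hnc21 hf₁
  · exact final V₁ A₂ inf_le_left hV₁c hVB (hAV A₁ hA₁) hA₂ hA₂c hnc12 hf₂

end Cfsg.Agent.Lib.H8.BG11
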