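import Mathlib
import Cfsg.Agent.Lib.H8.BG12j
import Cfsg.Agent.Lib.H8.BG12k
import Cfsg.Agent.Lib.H8.BG11m
import Cfsg.Agent.Lib.H16.BGu
import Cfsg.Agent.Lib.H16.BG11a

set_option autoImplicit false
set_option linter.style.haveILetI false
set_option linter.unusedSectionVars false
set_option linter.unusedVariables false
set_option maxHeartbeats 800000

open Cfsg

namespace Cfsg.Agent.Lib.H8.BG12

open Cfsg.Agent.Lib.H16.BG
open Cfsg.Agent.Lib.H7.BG7
open Cfsg.Agent.Lib.H7.BG10
open Cfsg.Agent.Lib.H20.BGS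
open Cfsg.Agent.Lib.H19 (IsPiCard)
open scoped commutatorElement Pointwise

universe u
variable {G : Type u} [Group G] [Finite G]

local notation:max "cj(" g ", " X ")" => Subgroup.map (MulEquiv.toMonoidHom (MulAut.conj g)) X

/-- an abelian subgroup containing `A` centralizes `A`. -/
theorem le_centralizer_of_comm_ge {A Q : Subgroup G} (hQ : IsMulCommutative ↥Q) (hAQ : A ≤ Q) :
    Q ≤ Subgroup.centralizer (A : Set G) := by
  intro x hx
  rw [Subgroup.mem_centralizer_iff]
  intro a ha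
  exact comm_of_mem hQ (hAQ ha) hx

/-- **`N_G(A)/C_G(A)` is abelian** when `A ≅ E_{p²}` lies in an abelian Sylow `p`-subgroup of `G`. -/
theorem commutator_mem_centralizer_of_abelian_sylow (hG : IsMinSimpleOddOrder G) {p : ℕ}
    [hpf : Fact p.Prime] {A Q : Subgroup G} (hAe : IsElementaryAbelian p A)
    (hAc : Nat.card A = p ^ 2) (hQ : SylIn p Q ⊤) (hAQ : A ≤ Q) (hQc : IsMulCommutative ↥Q)
    {y₁ y₂ : G} (h₁ : y₁ ∈ Subgroup.normalizer (A : Set G))
    (h₂ : y₂ ∈ Subgroup.normalizer (A : Set G)) :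
    ⁅y₁, y₂⁆ ∈ Subgroup.centralizer (A : Set G) := by
  classical
  have hpp : p.Prime := hpf.out
  set Y : Subgroup G := Subgroup.normalizer (A : Set G) with hY
  set C : Subgroup G := Subgroup.centralizer (A : Set G) with hC
  have hA1 : A ≠ ⊥ := elemAb_sq_ne_bot hpp hAc
  have hAp : IsPGroup p ↥A := isPGroup_of_elemAb hAe
  have hYtop : Y ≠ ⊤ := normalizer_ne_top_of_isPGroup hG hAp hA1
  have hYs : Group.IsSolvable ↥Y := solvable_of_ne_top hG hYtop
  have hYodd : Odd (Nat.card ↥Y) := odd_card_of_minSimple hG Y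
  have hp2 : p ≠ 2 := by
    intro h
    have h2 : 2 ∣ Nat.card ↥Y := by
      have : Nat.card A ∣ Nat.card ↥Y := Subgroup.card_dvd_of_le Subgroup.le_normalizer
      rw [hAc, h] at this
      exact (Dvd.intro _ rfl).trans this
    exact (Nat.not_even_iff_odd.2 hYodd) (even_iff_two_dvd.2 h2)
  have hAr : PRankLE p 2 ↥A := fun B _ _ => (Subgroup.card_le_card_group B).trans (le_of_eq hAc)
  have hd : ⁅y₁, y₂⁆ ∈ ⁅Y, Y⁆ := Subgroup.commutator_mem_commutator h₁ h₂
  obtain ⟨k, hk⟩ := exists_pow_mem_centralizer_of_mem_commutator hp2 hAp hAr (le_refl Y) hYs hYodd hd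
  -- `C ≤ Y`, normal, of index prime to `p`
  have hCY : C ≤ Y := Subgroup.centralizer_le_normalizer _
  have hQC : Q ≤ C := le_centralizer_of_comm_ge hQc hAQ
  have hdY : ⁅y₁, y₂⁆ ∈ Y := Subgroup.commutator_le_self Y hd |> fun h => h
  haveI hCn : (C.subgroupOf Y).Normal := by
    rw [Subgroup.normal_subgroupOf_iff_le_normalizer hCY]
    exact normalizer_le_normalizer_centralizer A
  have hidx : (⟨⁅y₁, y₂⁆, hdY⟩ : ↥Y) ^ (C.subgroupOf Y).index ∈ C.subgroupOf Y :=
    Subgroup.pow_index_mem _ _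
  have hm : ⁅y₁, y₂⁆ ^ C.relIndex Y ∈ C := by
    rw [Subgroup.mem_subgroupOf] at hidx
    simpa [Subgroup.relIndex] using hidx
  have hcop : (p ^ k).Coprime (C.relIndex Y) := by
    apply Nat.Coprime.pow_left
    rw [Nat.Prime.coprime_iff_not_dvd hpp]
    intro hdv
    have h1 : C.relIndex Y ∣ Q.relIndex Y := Subgroup.relIndex_dvd_of_le_left Y hQC
    exact (hQ.mono (hQC.trans hCY) le_top).2.2 (hdv.trans h1)
  exact mem_of_pow_mem_of_coprime hcop hk hm

/-- **BG 10.7(c)** without the complement: a Sylow subgroup lies in the derived group of its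
normalizer. -/
theorem sylow_le_commutator_normalizer (hG : IsMinSimpleOddOrder G) (hU : Uniq3 G) {p : ℕ}
    [Fact p.Prime] (P : Sylow p G) :
    (P : Subgroup G) ≤ ⁅Subgroup.normalizer ((P : Subgroup G) : Set G),
      Subgroup.normalizer ((P : Subgroup G) : Set G)⁆ := by
  by_cases hP1 : (P : Subgroup G) = ⊥
  · rw [hP1]; exact bot_le
  obtain ⟨M, hM, hNM, hPM, hpσ⟩ := exists_coatom_of_sylow hG P hP1
  haveI : Group.IsSolvable ↥M := solvable_of_coatom hG hM
  have hpl : PLengthLE p 1 ↥M := plengthLE_one_coatom hG hU hM p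
  obtain ⟨S, hS⟩ := hPM.exists_sylow
  have hPc : (P : Subgroup G) ≤ ⁅M, M⁆ := sylow_le_commutator_of_normalizer_le hG hU hM hPM hpσ
  have hSc : (S : Subgroup ↥M) ≤ commutator ↥M := by
    rw [← Subgroup.map_subtype_le_map_subtype, hS, Subgroup.map_subtype_commutator]
    exact hPc
  have h1 := (Cfsg.Agent.S1461.result p hpl S).1 hSc
  have h2 := Subgroup.map_mono (f := M.subtype) h1
  rw [hS, Subgroup.map_commutator] at h2
  refine h2.trans (Subgroup.commutator_mono ?_ ?_) <;>
  · have := map_normalizer_le (S : Subgroup ↥M)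
    rwa [hS] at this

/-- if `cj(y, M) = M` for a maximal subgroup `M` then `y ∈ M`. -/
theorem mem_of_cj_eq_self (hG : IsMinSimpleOddOrder G) {M : Subgroup G} (hM : IsCoatom M) {y : G}
    (h : cj(y, M) = M) : y ∈ M := by
  have hN : Subgroup.normalizer (M : Set G) = M :=
    normalizer_eq_of_coatom hG hM le_rfl (coatom_ne_bot hG hM) Subgroup.le_normalizer
  rw [← hN, Subgroup.mem_normalizer_iff]
  intro x
  constructor
  · intro hx
    rw [← h]
    exact conj_mem_cj hx
  · intro hx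
    rw [← h, mem_cj_iff] at hx
    have : y⁻¹ * (y * x * y⁻¹) * y = x := by group
    rwa [this] at hx

/-- two conjugate subgroups whose centralizers have `M` as unique maximal overgroup are conjugate
by an element of `M`. -/
theorem mem_of_unique_centralizer_cj (hG : IsMinSimpleOddOrder G) {M : Subgroup G}
    (hM : IsCoatom M) {X : Subgroup G} {y : G} (h1 : Subgroup.centralizer (X : Set G) ≤ M)
    (h2 : ∀ L : Subgroup G, IsCoatom L →
      Subgroup.centralizer ((cj(y, X) : Subgroup G) : Set G) ≤ L → L = M) : y ∈ M := by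
  apply mem_of_cj_eq_self hG hM
  apply h2 _ (isCoatom_map_conj hM y)
  rw [centralizer_cj]
  exact cj_mono y h1

/-- a normal `p`-subgroup lies in every Sylow `p`-subgroup. -/
theorem le_of_sylIn_of_le_normalizer {p : ℕ} [Fact p.Prime] {Q C R : Subgroup G} (hQ : SylIn p Q C)
    (hR : IsPGroup p R) (hRC : R ≤ C) (hCR : C ≤ Subgroup.normalizer (R : Set G)) : R ≤ Q := by
  have h1 : IsPGroup p (Q ⊔ R : Subgroup G) :=
    hQ.isPGroup.to_sup_of_normal_right' hR (hQ.le.trans hCR)
  have h2 := hQ.eq_of_le le_sup_left (sup_le hQ.le hRC) h1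
  rw [h2]; exact le_sup_right

/-- **AB case**: if `A = Ω₁(Q)` for an abelian Sylow `p`-subgroup `Q` of `G` and all `q`-ranks of
`C_G(A)` are at most two, then `N_G(A) ≤ N_G(Q)`. -/
theorem normalizer_le_normalizer_sylow_of_abelian (hG : IsMinSimpleOddOrder G) (hU : Uniq3 G)
    {p : ℕ} [hpf : Fact p.Prime] {A Q : Subgroup G} (hAe : IsElementaryAbelian p A)
    (hAc : Nat.card A = p ^ 2) (hQ : SylIn p Q ⊤) (hAQ : A ≤ Q) (hQc : IsMulCommutative ↥Q)
    (hΩ : ∀ x ∈ Q, x ^ p = 1 → x ∈ A)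
    (hr : ∀ q : ℕ, q.Prime → q ≠ p →
      PRankLE q 2 ↥(piCoreOf {q} (Subgroup.centralizer (A : Set G)))) :
    Subgroup.normalizer (A : Set G) ≤ Subgroup.normalizer (Q : Set G) := by
  classical
  have hpp : p.Prime := hpf.out
  set Y : Subgroup G := Subgroup.normalizer (A : Set G) with hY
  set C : Subgroup G := Subgroup.centralizer (A : Set G) with hC
  set N : Subgroup G := Subgroup.normalizer (Q : Set G) with hN
  have hA1 : A ≠ ⊥ := elemAb_sq_ne_bot hpp hAc
  have hAp : IsPGroup p ↥A := isPGroup_of_elemAb hAe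
  have hYtop : Y ≠ ⊤ := normalizer_ne_top_of_isPGroup hG hAp hA1
  have hCY : C ≤ Y := Subgroup.centralizer_le_normalizer _
  have hQC : Q ≤ C := le_centralizer_of_comm_ge hQc hAQ
  have hYC : Y ≤ Subgroup.normalizer (C : Set G) := normalizer_le_normalizer_centralizer A
  -- `N ≤ Y`
  have hNY : N ≤ Y := by
    intro n hn
    rw [hY, Subgroup.mem_normalizer_iff]
    have key : ∀ n : G, n ∈ N → ∀ a ∈ A, n * a * n⁻¹ ∈ A := by
      intro n hn a ha
      apply hΩ _ ((Subgroup.mem_normalizer_iff.1 hn a).1 (hAQ ha))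
      rw [conj_pow, hAe.2 a ha, mul_one, mul_inv_cancel]
    intro a
    constructor
    · exact key n hn a
    · intro h
      have := key n⁻¹ (N.inv_mem hn) _ h
      simpa [mul_assoc] using this
  have hNtop : N ≠ ⊤ := fun h => hYtop (top_le_iff.1 (h ▸ hNY))
  have hNs : Group.IsSolvable ↥N := solvable_of_ne_top hG hNtop
  have hNodd : Odd (Nat.card ↥N) := odd_card_of_minSimple hG N
  have hCs : Group.IsSolvable ↥C := solvable_of_le_ne_top hG hYtop hCY
  -- `Q ≤ [N, N]`
  obtain ⟨P, hP⟩ := hQ.exists_sylow_top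
  have hQN' : Q ≤ ⁅N, N⁆ := by
    have := sylow_le_commutator_normalizer hG hU P
    rw [hP] at this
    exact this
  -- `Q` centralizes `O_q(C)` for `q ≠ p`
  have hcent : ∀ q : ℕ, q.Prime → q ≠ p →
      Q ≤ Subgroup.centralizer ((piCoreOf {q} C : Subgroup G) : Set G) := by
    intro q hq hqp
    haveI : Fact q.Prime := ⟨hq⟩
    set R := piCoreOf {q} C with hR
    have hRq : IsPGroup q ↥R := isPGroup_piCoreOf_singleton q C
    have hNR : N ≤ Subgroup.normalizer (R : Set G) :=
      (hNY.trans hYC).trans (normalizer_le_normalizer_piCoreOf {q} C)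
    by_cases hR1 : R = ⊥
    · rw [hR1]
      intro d _
      rw [Subgroup.mem_centralizer_iff]
      intro x hx
      rw [Subgroup.coe_bot, Set.mem_singleton_iff] at hx
      rw [hx, one_mul, mul_one]
    have hq2 : q ≠ 2 := by
      intro h
      have hRodd : Odd (Nat.card ↥R) := odd_card_of_minSimple hG R
      obtain ⟨n, hn⟩ := IsPGroup.iff_card.1 hRq
      rw [hn, h] at hRodd
      have hn0 : n = 0 := by
        by_contra hn0
        exact (Nat.not_even_iff_odd.2 hRodd) ((Nat.even_pow' hn0).2 even_two)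
      rw [hn0, pow_zero] at hn
      exact hR1 (Subgroup.card_eq_one.1 hn)
    intro d hd
    obtain ⟨k, hk⟩ := exists_pow_mem_centralizer_of_mem_commutator hq2 hRq (hr q hq hqp) hNR hNs
      hNodd (hQN' hd)
    obtain ⟨j, hj⟩ := hQ.isPGroup ⟨d, hd⟩
    have hj' : d ^ p ^ j = 1 := by
      have := congrArg Subtype.val hj
      simpa using this
    have hcop : (q ^ k).Coprime (p ^ j) :=
      Nat.Coprime.pow _ _ ((Nat.coprime_primes hq hpp).2 hqp)
    exact mem_of_pow_mem_of_coprime hcop hk (by rw [hj']; exact Subgroup.one_mem _)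
  -- `F(C) ≤ C(Q)`
  have hQCs : SylIn p Q C := hQ.mono hQC le_top
  have hFQ : fittingOf C ≤ Subgroup.centralizer (Q : Set G) := by
    refine le_centralizer_of_forall_piCoreOf (fittingOf_isNilpotent C) ?_
    intro q hq
    haveI : Fact q.Prime := ⟨hq⟩
    have hle : piCoreOf {q} (fittingOf C) ≤ piCoreOf {q} C := by
      apply le_piCoreOf ((piCoreOf_le _ _).trans (Cfsg.Agent.Lib.H16.BG.fittingOf_le C))
      · exact (le_normalizer_fittingOf C).trans (normalizer_le_normalizer_piCoreOf {q} _)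
      · exact piCoreOf_isPiCard _ _
    by_cases hqp : q = p
    · subst hqp
      have h1 : piCoreOf {q} C ≤ Q :=
        le_of_sylIn_of_le_normalizer hQCs (isPGroup_piCoreOf_singleton q C) (piCoreOf_le _ _)
          (le_normalizer_piCoreOf _ _)
      exact (hle.trans h1).trans (le_centralizer_of_comm_ge hQc le_rfl)
    · exact hle.trans (Subgroup.le_centralizer_iff.1 (hcent q hq hqp))
  have hQF : Q ≤ fittingOf C := by
    apply le_trans _ (inf_centralizer_fittingOf_le hCs)
    exact le_inf hQC (Subgroup.le_centralizer_iff.1 hFQ)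
  have hQFs : SylIn p Q (fittingOf C) := hQCs.mono hQF (Cfsg.Agent.Lib.H16.BG.fittingOf_le C)
  exact (hYC.trans (normalizer_le_normalizer_fittingOf C)).trans
    (normalizer_le_of_sylIn_nilpotent (fittingOf_isNilpotent C) hQFs)


/-! ### the primes of a complement `E` -/

/-- a prime dividing `|E|` lies in `τ₁(M) ∪ τ₂(M) ∪ τ₃(M)`. -/
theorem mem_tau_of_dvd_card_compl (hG : IsMinSimpleOddOrder G) (hU : Uniq3 G) {M : Subgroup G}
    (hM : IsCoatom M) {E : Subgroup G} (hE : IsComplIn E (sigmaCore M) M) {q : ℕ} (hq : q.Prime)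
    (hd : q ∣ Nat.card ↥E) : q ∈ tau1 M ∨ q ∈ tau2 M ∨ q ∈ tau3 M := by
  have hσ := (sigma_core_hall hG hU hM).1
  have hqσ : q ∉ sigma M := compl_not_sigma hσ hE hq hd
  have hqM : q ∣ Nat.card ↥M := hd.trans (Subgroup.card_dvd_of_le hE.1)
  have hr2 : PRankLE q 2 ↥M := by
    by_contra h
    exact hqσ (alpha_subset_sigma hG hU hM ⟨hq, h⟩)
  by_cases hr1 : PRankLE q 1 ↥M
  · by_cases hc : q ∣ Nat.card ↥⁅M, M⁆
    · exact Or.inr (Or.inr ⟨hq, hqσ, hc, hr1⟩)
    · exact Or.inl ⟨hq, hqσ, hqM, hc, hr1⟩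
  · exact Or.inr (Or.inl ⟨hq, hqσ, hr2, hr1⟩)

/-- the regularity hypothesis of S1421. -/
def HypReg (M E : Subgroup G) : Prop :=
  ∀ e ∈ E, e ≠ 1 → (∀ p : ℕ, p.Prime → p ∣ orderOf e → p ∈ tau1 M ∪ tau3 M) →
    sigmaCore M ⊓ Subgroup.centralizer ({e} : Set G) = ⊥

/-- **L1**: under `HypReg`, an element of `E` centralizing a nonidentity element of `M_σ` is a
`τ₂(M)`-element. -/
theorem tau2_of_bad (hG : IsMinSimpleOddOrder G) (hU : Uniq3 G) {M : Subgroup G}
    (hM : IsCoatom M) {E : Subgroup G} (hE : IsComplIn E (sigmaCore M) M) (hreg : HypReg M E)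
    {e : G} (he : e ∈ E) (hbad : sigmaCore M ⊓ Subgroup.centralizer ({e} : Set G) ≠ ⊥)
    {q : ℕ} (hq : q.Prime) (hqe : q ∣ orderOf e) : q ∈ tau2 M := by
  have hpos : 0 < orderOf e := orderOf_pos e
  set e' := e ^ (orderOf e / q) with he'
  have ho : orderOf e' = q := orderOf_pow_orderOf_div hpos.ne' hqe
  have he'E : e' ∈ E := E.pow_mem he _
  have he'1 : e' ≠ 1 := by
    intro h
    rw [h, orderOf_one] at ho
    exact hq.one_lt.ne ho
  have hle : Subgroup.centralizer ({e} : Set G) ≤ Subgroup.centralizer ({e'} : Set G) := by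
    intro x hx
    rw [Subgroup.mem_centralizer_singleton_iff] at hx ⊢
    exact ((Commute.pow_right (show Commute x e from hx) _).eq)
  have hbad' : sigmaCore M ⊓ Subgroup.centralizer ({e'} : Set G) ≠ ⊥ :=
    fun h => hbad (eq_bot_iff.2 (h ▸ inf_le_inf_left _ hle))
  have hqE : q ∣ Nat.card ↥E := by
    have h1 : orderOf e ∣ Nat.card ↥E := by
      have := orderOf_dvd_natCard (⟨e, he⟩ : ↥E)
      rwa [Subgroup.orderOf_mk] at this
    exact hqe.trans h1
  rcases mem_tau_of_dvd_card_compl hG hU hM hE hq hqE with h | h | h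
  · exfalso
    apply hbad'
    apply hreg e' he'E he'1
    intro p hp hpd
    rw [ho] at hpd
    rw [(Nat.prime_dvd_prime_iff_eq hp hq).1 hpd]
    exact Or.inl h
  · exact h
  · exfalso
    apply hbad'
    apply hreg e' he'E he'1
    intro p hp hpd
    rw [ho] at hpd
    rw [(Nat.prime_dvd_prime_iff_eq hp hq).1 hpd]
    exact Or.inr h

end Cfsg.Agent.Lib.H8.BG12
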