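import Mathlib
import Cfsg.Agent.Lib.H8.BG1213a

/-!
helper8 library: BG Lemma 12.13-type analysis (S1421), part b: the data attached to a prime
`p ∈ τ₂(M)` with abelian Sylow `p`-subgroups in `G`.
-/

set_option autoImplicit false
set_option linter.style.haveILetI false
set_option linter.unusedSectionVars false
set_option linter.unusedVariables false
set_option maxHeartbeats 800000

open Cfsg

namespace Cfsg.Agent.Lib.H8.BG12

open Cfsg.Agent.Lib.H16.BG
open Cfsg.Agent.Lib.H7.BG7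
open Cfsg.Agent.Lib.H7.BG10
open Cfsg.Agent.Lib.H20.BGS
open Cfsg.Agent.Lib.H19 (IsPiCard)
open scoped commutatorElement Pointwise

universe u
variable {G : Type u} [Group G] [Finite G]

local notation:max "cj(" g ", " X ")" => Subgroup.map (MulEquiv.toMonoidHom (MulAut.conj g)) X

/-- the standing context of BG section 12. -/
structure Ctx (M E : Subgroup G) : Prop where
  hG : IsMinSimpleOddOrder G
  hU : Uniq3 G
  hC : HypCent G
  h17 : Hyp1417 G
  hM : IsCoatom M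
  hE : IsComplIn E (sigmaCore M) M

namespace Ctx

variable {M E : Subgroup G}

theorem hσ (c : Ctx M E) : IsPiHallOf (sigma M) (sigmaCore M) M :=
  (sigma_core_hall c.hG c.hU c.hM).1

theorem hT (c : Ctx M E) : HypTau2 G := hypTau2_of_hyp1417 c.h17

theorem le (c : Ctx M E) : E ≤ M := c.hE.1

theorem sigmaCore_ne_bot (c : Ctx M E) : sigmaCore M ≠ ⊥ :=
  Cfsg.Agent.Lib.H8.BG12.sigmaCore_ne_bot c.hG c.hU c.hM

/-- every `τ₂(M)`-subgroup of `E` is abelian. -/
theorem tau2_abelian (c : Ctx M E) {E₂ : Subgroup G} (hE₂ : E₂ ≤ E)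
    (hπ : ∀ q : ℕ, q.Prime → q ∣ Nat.card ↥E₂ → q ∈ tau2 M) : IsMulCommutative ↥E₂ :=
  tau2_subgroup_abelian c.hG c.hU c.hC c.hT (hypNorm_of_hyps c.hG c.hU c.hC c.h17)
    (hypNonab_of_hyps c.hG c.hU c.hC c.h17) (hypBeta_of_uniq3 c.hG c.hU) c.hM c.hE hE₂ hπ

end Ctx

/-- the data attached to a prime `p ∈ τ₂(M)`: a Sylow `p`-subgroup `Q` of `E` and `A = Ω₁(Q)`. -/
structure TData (M E : Subgroup G) (p : ℕ) (Q A : Subgroup G) : Prop where
  hp : p ∈ tau2 M
  hQE : SylIn p Q E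
  hQM : SylIn p Q M
  hAQ : A ≤ Q
  hAe : IsElementaryAbelian p A
  hAc : Nat.card A = p ^ 2
  hQc : IsMulCommutative ↥Q
  hΩ : ∀ x ∈ Q, x ^ p = 1 ↔ x ∈ A

theorem Ctx.exists_tData {M E : Subgroup G} (c : Ctx M E) {p : ℕ} [Fact p.Prime]
    (hp : p ∈ tau2 M) : ∃ Q A : Subgroup G, TData M E p Q A := by
  obtain ⟨Q, A, h1, h2, h3, h4, h5, h6, h7⟩ := tau2_sylow_data c.hT c.hM c.hσ c.hE hp
  exact ⟨Q, A, ⟨hp, h1, h2, h3, h4, h5, h6, h7⟩⟩

namespace TData

variable {M E : Subgroup G} {p : ℕ} [hpf : Fact p.Prime] {Q A : Subgroup G}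

theorem hAE (d : TData M E p Q A) : A ≤ E := d.hAQ.trans d.hQE.le

theorem hAM (d : TData M E p Q A) : A ≤ M := d.hAQ.trans d.hQM.le

theorem cor (c : Ctx M E) (d : TData M E p Q A) :
    (E ≤ Subgroup.normalizer (A : Set G) ∧ ∀ X : Subgroup G, X ≤ E → Nat.card X = p → X ≤ A) ∧
      (Subgroup.centralizer (A : Set G) ≤ M ⊓ Subgroup.normalizer (A : Set G) ∧
        M ⊓ Subgroup.normalizer (A : Set G) = E ∧ ¬ Subgroup.normalizer (A : Set G) ≤ M) ∧
      ∀ X : Subgroup G, X ≤ A → Nat.card X = p →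
        sigmaCore M ⊓ Subgroup.centralizer (X : Set G) ≠ ⊥ →
        (Subgroup.centralizer (X : Set G) ≤ M ∧
          ∀ L : Subgroup G, IsCoatom L → Subgroup.centralizer (X : Set G) ≤ L → L = M) :=
  cor_12_6 c.hG c.hU c.hC c.h17 M c.hM E c.hE p d.hp A ⟨d.hAE, d.hAe, d.hAc⟩

theorem le_normalizer (c : Ctx M E) (d : TData M E p Q A) :
    E ≤ Subgroup.normalizer (A : Set G) := (d.cor c).1.1

theorem line_le (c : Ctx M E) (d : TData M E p Q A) {X : Subgroup G} (hXE : X ≤ E)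
    (hXc : Nat.card X = p) : X ≤ A := (d.cor c).1.2 X hXE hXc

theorem centralizer_le (c : Ctx M E) (d : TData M E p Q A) :
    Subgroup.centralizer (A : Set G) ≤ E := by
  have h := (d.cor c).2.1
  rw [← h.2.1]
  exact h.1

theorem inf_normalizer (c : Ctx M E) (d : TData M E p Q A) :
    M ⊓ Subgroup.normalizer (A : Set G) = E := (d.cor c).2.1.2.1

theorem normalizer_not_le (c : Ctx M E) (d : TData M E p Q A) :
    ¬ Subgroup.normalizer (A : Set G) ≤ M := (d.cor c).2.1.2.2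

theorem uniq (c : Ctx M E) (d : TData M E p Q A) {X : Subgroup G} (hXA : X ≤ A)
    (hXc : Nat.card X = p)
    (hbad : sigmaCore M ⊓ Subgroup.centralizer (X : Set G) ≠ ⊥) :
    Subgroup.centralizer (X : Set G) ≤ M ∧
      ∀ L : Subgroup G, IsCoatom L → Subgroup.centralizer (X : Set G) ≤ L → L = M :=
  (d.cor c).2.2 X hXA hXc hbad

/-- `C_{M_σ}(A) = 1`. -/
theorem sigmaCore_inf_centralizer (c : Ctx M E) (d : TData M E p Q A) :
    sigmaCore M ⊓ Subgroup.centralizer (A : Set G) = ⊥ :=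
  (c.h17 M c.hM p d.hp A ⟨d.hAM, d.hAe, d.hAc⟩).2.2.2.1

theorem prime (d : TData M E p Q A) : p.Prime := d.hp.1

theorem not_sigma (d : TData M E p Q A) : p ∉ sigma M := d.hp.2.1

theorem isPGroup (d : TData M E p Q A) : IsPGroup p ↥A := isPGroup_of_elemAb d.hAe

theorem ne_bot (d : TData M E p Q A) : A ≠ ⊥ := elemAb_sq_ne_bot d.prime d.hAc

theorem le_centralizer (d : TData M E p Q A) : Q ≤ Subgroup.centralizer (A : Set G) :=
  le_centralizer_of_comm_ge d.hQc d.hAQ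

/-- a `τ₂(M)`-element of `E` normalizes and hence centralizes `A`. -/
theorem mem_centralizer_of_tau2 (c : Ctx M E) (d : TData M E p Q A) {t : G} (ht : t ∈ E)
    (hτ : ∀ q : ℕ, q.Prime → q ∣ orderOf t → q ∈ tau2 M) :
    t ∈ Subgroup.centralizer (A : Set G) := by
  have htN : Subgroup.zpowers t ≤ Subgroup.normalizer (A : Set G) :=
    (Subgroup.zpowers_le.2 ht).trans (d.le_normalizer c)
  have hle : Subgroup.zpowers t ⊔ A ≤ E := sup_le (Subgroup.zpowers_le.2 ht) d.hAE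
  have hcard : Nat.card ↥(Subgroup.zpowers t ⊔ A : Subgroup G) ∣ orderOf t * p ^ 2 := by
    have := Cfsg.Agent.Lib.H19.card_sup_dvd_mul_of_le_normalizer htN
    rwa [Nat.card_zpowers, d.hAc] at this
  have hab : IsMulCommutative ↥(Subgroup.zpowers t ⊔ A : Subgroup G) := by
    apply c.tau2_abelian hle
    intro q hq hqd
    rcases (Nat.Prime.dvd_mul hq).1 (hqd.trans hcard) with h | h
    · exact hτ q hq h
    · have := (Nat.prime_dvd_prime_iff_eq hq d.prime).1 (hq.dvd_of_dvd_pow h)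
      rw [this]; exact d.hp
  rw [Subgroup.mem_centralizer_iff]
  intro a ha
  exact comm_of_mem hab (Subgroup.mem_sup_right ha)
    (Subgroup.mem_sup_left (Subgroup.mem_zpowers t))

end TData

end Cfsg.Agent.Lib.H8.BG12
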