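import Mathlib
import Cfsg.Agent.Lib.H8.BG1213b

/-!
helper8 library: BG Lemma 12.13-type analysis (S1421), part c: the abelian case, `N_G(A) = N_G(Q)`,
invariant regular lines.
-/

set_option autoImplicit false
set_option linter.style.haveILetI false
set_option linter.unusedSectionVars false
set_option linter.unusedVariables false
set_option maxHeartbeats 800000

open Cfsg

namespace Cfsg.Agent.Lib.H8.BG12

open Cfsg.Agent.Lib.H16.BG
open Cfsg.Agent.Lib.H7.BG7
open Cfsg.Agent.Lib.H7.BG10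
open Cfsg.Agent.Lib.H20.BGS
open Cfsg.Agent.Lib.H19 (IsPiCard)
open scoped commutatorElement Pointwise

universe u
variable {G : Type u} [Group G] [Finite G]

local notation:max "cj(" g ", " X ")" => Subgroup.map (MulEquiv.toMonoidHom (MulAut.conj g)) X

namespace TData

variable {M E : Subgroup G} {p : ℕ} [hpf : Fact p.Prime] {Q A : Subgroup G}

/-- in the abelian case `Q` is a Sylow subgroup of `G`. -/
theorem sylIn_top (c : Ctx M E) (d : TData M E p Q A)
    (hab : ∃ S : Sylow p G, IsMulCommutative ↥(S : Subgroup G)) : SylIn p Q ⊤ :=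
  tau2_sylow_top c.hC c.hM d.hQM d.hAQ d.hAe d.hAc hab

/-- the `q`-ranks of `C_G(A)` are at most two. -/
theorem pRankLE_piCoreOf_centralizer (c : Ctx M E) (d : TData M E p Q A) (q : ℕ) (hq : q.Prime) :
    PRankLE q 2 ↥(piCoreOf {q} (Subgroup.centralizer (A : Set G))) := by
  haveI : Fact q.Prime := ⟨hq⟩
  have hle : piCoreOf {q} (Subgroup.centralizer (A : Set G)) ≤ E :=
    (piCoreOf_le _ _).trans (d.centralizer_le c)
  by_cases hα : q ∈ alpha M
  · have hqσ : q ∈ sigma M := alpha_subset_sigma c.hG c.hU c.hM hα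
    apply pRankLE_bot' q 2 hq
    by_contra h1
    have h2 : q ∣ Nat.card ↥(piCoreOf {q} (Subgroup.centralizer (A : Set G))) :=
      dvd_card_of_isPGroup_ne_bot (isPGroup_piCoreOf_singleton q _) h1
    exact compl_not_sigma c.hσ c.hE hq (h2.trans (Subgroup.card_dvd_of_le hle)) hqσ
  · have hr : PRankLE q 2 ↥M := by
      by_contra h
      exact hα ⟨hq, h⟩
    exact pRankLE_of_le (hle.trans c.le) hr

/-- `N_G(A) ≤ N_G(Q)` in the abelian case. -/
theorem normalizer_le_normalizer (c : Ctx M E) (d : TData M E p Q A)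
    (hab : ∃ S : Sylow p G, IsMulCommutative ↥(S : Subgroup G)) :
    Subgroup.normalizer (A : Set G) ≤ Subgroup.normalizer (Q : Set G) :=
  normalizer_le_normalizer_sylow_of_abelian c.hG c.hU d.hAe d.hAc (d.sylIn_top c hab) d.hAQ d.hQc
    (fun x hx h => (d.hΩ x hx).1 h) (fun q hq _ => d.pRankLE_piCoreOf_centralizer c q hq)

/-- `Q ⊴ E` in the abelian case. -/
theorem le_normalizer_sylow (c : Ctx M E) (d : TData M E p Q A)
    (hab : ∃ S : Sylow p G, IsMulCommutative ↥(S : Subgroup G)) :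
    E ≤ Subgroup.normalizer (Q : Set G) :=
  (d.le_normalizer c).trans (d.normalizer_le_normalizer c hab)

/-- an element of `N_G(A)` outside `M`. -/
theorem exists_not_mem (c : Ctx M E) (d : TData M E p Q A) :
    ∃ y ∈ Subgroup.normalizer (A : Set G), y ∉ M := by
  by_contra h
  push Not at h
  exact d.normalizer_not_le c h

/-- a line of `A` normalized by an element of `N_G(A) ∖ M`... is regular: more generally a line
`X` such that `cj(y, X)` has fixed points on `M_σ` too forces `y ∈ M`. -/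
theorem mem_of_bad_cj (c : Ctx M E) (d : TData M E p Q A) {X : Subgroup G} (hXA : X ≤ A)
    (hXc : Nat.card X = p) {y : G} (hy : y ∈ Subgroup.normalizer (A : Set G))
    (h1 : sigmaCore M ⊓ Subgroup.centralizer (X : Set G) ≠ ⊥)
    (h2 : sigmaCore M ⊓ Subgroup.centralizer ((cj(y, X) : Subgroup G) : Set G) ≠ ⊥) : y ∈ M := by
  have hX'A : cj(y, X) ≤ A := by
    rintro _ ⟨x, hx, rfl⟩
    exact (Subgroup.mem_normalizer_iff.1 hy x).1 (hXA hx)
  have hX'c : Nat.card ↥(cj(y, X) : Subgroup G) = p := by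
    rw [Subgroup.card_map_of_injective (MulEquiv.injective _)]
    exact hXc
  exact mem_of_unique_centralizer_cj c.hG c.hM (d.uniq c hXA hXc h1).1
    (d.uniq c hX'A hX'c h2).2

/-- `C_G(A)` normalizes every subgroup of `A`. -/
theorem centralizer_le_normalizer_of_le {X : Subgroup G} (hXA : X ≤ A) :
    Subgroup.centralizer (A : Set G) ≤ Subgroup.normalizer (X : Set G) :=
  (Subgroup.centralizer_le (show (X : Set G) ⊆ A from hXA)).trans
    (Subgroup.centralizer_le_normalizer _)

/-- **(β)**: in the abelian case, if `E` normalizes a line of `A`, it normalizes a line of `A`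
without fixed points on `M_σ`. -/
theorem exists_invariant_regular_line (c : Ctx M E) (d : TData M E p Q A)
    (hab : ∃ S : Sylow p G, IsMulCommutative ↥(S : Subgroup G)) {X₁ : Subgroup G}
    (hX₁A : X₁ ≤ A) (hX₁c : Nat.card X₁ = p) (hEX₁ : E ≤ Subgroup.normalizer (X₁ : Set G)) :
    ∃ X : Subgroup G, X ≤ A ∧ Nat.card X = p ∧ E ≤ Subgroup.normalizer (X : Set G) ∧
      sigmaCore M ⊓ Subgroup.centralizer (X : Set G) = ⊥ := by
  by_cases h1 : sigmaCore M ⊓ Subgroup.centralizer (X₁ : Set G) = ⊥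
  · exact ⟨X₁, hX₁A, hX₁c, hEX₁, h1⟩
  obtain ⟨y, hyN, hyM⟩ := d.exists_not_mem c
  have hX'A : cj(y, X₁) ≤ A := by
    rintro _ ⟨x, hx, rfl⟩
    exact (Subgroup.mem_normalizer_iff.1 hyN x).1 (hX₁A hx)
  refine ⟨cj(y, X₁), hX'A, ?_, ?_, ?_⟩
  · rw [card_cj]; exact hX₁c
  · intro e he
    rw [normalizer_cj, mem_cj_iff]
    have heN : e ∈ Subgroup.normalizer (A : Set G) := d.le_normalizer c he
    have hcomm : ⁅e⁻¹, y⁻¹⁆ ∈ Subgroup.centralizer (A : Set G) :=
      commutator_mem_centralizer_of_abelian_sylow c.hG d.hAe d.hAc (d.sylIn_top c hab) d.hAQ d.hQc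
        (Subgroup.inv_mem _ heN) (Subgroup.inv_mem _ hyN)
    have heq : y⁻¹ * e * y = e * ⁅e⁻¹, y⁻¹⁆ := by
      rw [commutatorElement_def]; group
    rw [heq]
    exact Subgroup.mul_mem _ (hEX₁ he) (centralizer_le_normalizer_of_le hX₁A hcomm)
  · by_contra h2
    exact hyM (d.mem_of_bad_cj c hX₁A hX₁c hyN h1 h2)

/-- a line of `A` normalized by `N_G(A)` has no fixed points on `M_σ`. -/
theorem regular_of_normalizer_le (c : Ctx M E) (d : TData M E p Q A) {X : Subgroup G}
    (hXA : X ≤ A) (hXc : Nat.card X = p)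
    (hN : Subgroup.normalizer (A : Set G) ≤ Subgroup.normalizer (X : Set G)) :
    sigmaCore M ⊓ Subgroup.centralizer (X : Set G) = ⊥ := by
  by_contra h1
  obtain ⟨y, hyN, hyM⟩ := d.exists_not_mem c
  have h2 : sigmaCore M ⊓ Subgroup.centralizer ((cj(y, X) : Subgroup G) : Set G) ≠ ⊥ := by
    rw [cj_eq_self_of_mem_normalizer (hN hyN)]
    exact h1
  exact hyM (d.mem_of_bad_cj c hXA hXc hyN h1 h2)

end TData

end Cfsg.Agent.Lib.H8.BG12
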