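import Mathlib
import Cfsg.Agent.Lib.H8.BG1213c

/-!
helper8 library: BG Lemma 12.13-type analysis (S1421), part d: in the abelian case, under the
regularity hypothesis, `E` normalizes a line of `A` (first steps).
-/

set_option autoImplicit false
set_option linter.style.haveILetI false
set_option linter.unusedSectionVars false
set_option linter.unusedVariables false
set_option maxHeartbeats 800000

open Cfsg

namespace Cfsg.Agent.Lib.H8.BG12

open Cfsg.Agent.Lib.H16.BG
open Cfsg.Agent.Lib.H7.BG7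
open Cfsg.Agent.Lib.H7.BG10
open Cfsg.Agent.Lib.H20.BGS
open Cfsg.Agent.Lib.H19 (IsPiCard)
open Cfsg.Agent.Lib.H8.BG11
open scoped commutatorElement Pointwise

universe u
variable {G : Type u} [Group G] [Finite G]

local notation:max "cj(" g ", " X ")" => Subgroup.map (MulEquiv.toMonoidHom (MulAut.conj g)) X

namespace TData

variable {M E : Subgroup G} {p : ℕ} [hpf : Fact p.Prime] {Q A : Subgroup G}

/-- no line of `A` is normalized by `E`. -/
def NoLine (E A : Subgroup G) (p : ℕ) : Prop :=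
  ∀ X : Subgroup G, X ≤ A → Nat.card X = p → ¬ E ≤ Subgroup.normalizer (X : Set G)

/-- in the abelian case the fixed points on `A` of an element of `N_G(A)` form an
`N_G(A)`-invariant subgroup. -/
theorem normalizer_le_normalizer_fix (c : Ctx M E) (d : TData M E p Q A)
    (hab : ∃ S : Sylow p G, IsMulCommutative ↥(S : Subgroup G)) {y : G}
    (hy : y ∈ Subgroup.normalizer (A : Set G)) :
    Subgroup.normalizer (A : Set G) ≤
      Subgroup.normalizer ((A ⊓ Subgroup.centralizer ({y} : Set G) : Subgroup G) : Set G) := by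
  have key : ∀ g ∈ Subgroup.normalizer (A : Set G), ∀ a ∈ A ⊓ Subgroup.centralizer ({y} : Set G),
      g * a * g⁻¹ ∈ A ⊓ Subgroup.centralizer ({y} : Set G) := by
    intro g hg a ha
    have haA : g * a * g⁻¹ ∈ A := (Subgroup.mem_normalizer_iff.1 hg a).1 ha.1
    refine ⟨haA, ?_⟩
    show g * a * g⁻¹ ∈ Subgroup.centralizer ({y} : Set G)
    rw [Subgroup.mem_centralizer_singleton_iff]
    have hay : a * y = y * a := Subgroup.mem_centralizer_singleton_iff.1 ha.2
    -- `g⁻¹ y g = y c` with `c ∈ C(A)`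
    have hcomm : ⁅y⁻¹, g⁻¹⁆ ∈ Subgroup.centralizer (A : Set G) :=
      commutator_mem_centralizer_of_abelian_sylow c.hG d.hAe d.hAc (d.sylIn_top c hab) d.hAQ d.hQc
        (Subgroup.inv_mem _ hy) (Subgroup.inv_mem _ hg)
    have hc := (Subgroup.mem_centralizer_iff.1 hcomm) a ha.1
    have heq : g⁻¹ * y * g = y * ⁅y⁻¹, g⁻¹⁆ := by
      rw [commutatorElement_def]; group
    have h1 : a * (g⁻¹ * y * g) = (g⁻¹ * y * g) * a := by
      rw [heq, ← mul_assoc, hay, mul_assoc, hc, mul_assoc]
    calc g * a * g⁻¹ * y = g * (a * (g⁻¹ * y * g)) * g⁻¹ := by group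
      _ = g * ((g⁻¹ * y * g) * a) * g⁻¹ := by rw [h1]
      _ = y * (g * a * g⁻¹) := by group
  intro g hg
  rw [Subgroup.mem_normalizer_iff]
  intro a
  constructor
  · exact key g hg a
  · intro h
    have := key g⁻¹ (Subgroup.inv_mem _ hg) _ h
    simpa [mul_assoc] using this

/-- **(I-1)** if `E` normalizes no line of `A`, every element of `N_G(A) ∖ C_G(A)` acts without
fixed points on `A`. -/
theorem fpf_of_noLine (c : Ctx M E) (d : TData M E p Q A)
    (hab : ∃ S : Sylow p G, IsMulCommutative ↥(S : Subgroup G)) (hno : NoLine E A p) {y : G}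
    (hy : y ∈ Subgroup.normalizer (A : Set G)) (hyC : y ∉ Subgroup.centralizer (A : Set G)) :
    A ⊓ Subgroup.centralizer ({y} : Set G) = ⊥ := by
  by_contra h1
  set X := A ⊓ Subgroup.centralizer ({y} : Set G) with hX
  have hXA : X ≠ A := by
    intro h
    apply hyC
    rw [Subgroup.mem_centralizer_iff]
    intro a ha
    have : a ∈ X := by rw [h]; exact ha
    exact (Subgroup.mem_centralizer_singleton_iff.1 this.2)
  have hXc : Nat.card X = p := card_eq_of_ne_bot_of_ne d.prime d.hAc inf_le_left h1 hXA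
  exact hno X inf_le_left hXc ((d.le_normalizer c).trans (d.normalizer_le_normalizer_fix c hab hy))

/-- `E ≰ C_G(A)` if `E` normalizes no line. -/
theorem exists_not_mem_centralizer (c : Ctx M E) (d : TData M E p Q A) (hno : NoLine E A p) :
    ∃ t ∈ E, t ∉ Subgroup.centralizer (A : Set G) := by
  by_contra h
  push Not at h
  obtain ⟨X, hXA, hXc⟩ := exists_line_of_ne_bot d.prime d.hAe le_rfl d.ne_bot
  exact hno X hXA hXc (fun e he => centralizer_le_normalizer_of_le hXA (h e he))

/-- a prime of `τ₁(M) ∪ τ₃(M)` differs from `p`, does not lie in `σ(M)`, and `M` has rank one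
for it. -/
theorem tau13_facts (d : TData M E p Q A) {q : ℕ} (hq : q ∈ tau1 M ∨ q ∈ tau3 M) :
    q.Prime ∧ q ≠ p ∧ q ∉ sigma M ∧ PRankLE q 1 ↥M := by
  have h1 : q.Prime ∧ q ∉ sigma M ∧ PRankLE q 1 ↥M := by
    rcases hq with h | h
    · exact ⟨h.1, h.2.1, h.2.2.2.2⟩
    · exact ⟨h.1, h.2.1, h.2.2.2⟩
  refine ⟨h1.1, ?_, h1.2.1, h1.2.2⟩
  rintro rfl
  exact d.hp.2.2.2 h1.2.2

/-- **(I-2)** if `E` normalizes no line of `A`, then under the regularity hypothesis every element
of prime order of `E` centralizes `A`. -/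
theorem prime_order_mem_centralizer (c : Ctx M E) (d : TData M E p Q A)
    (hab : ∃ S : Sylow p G, IsMulCommutative ↥(S : Subgroup G)) (hno : NoLine E A p)
    (hreg : HypReg M E) {s : G} (hs : s ∈ E) {q : ℕ} (hq : q.Prime) (hsq : orderOf s = q) :
    s ∈ Subgroup.centralizer (A : Set G) := by
  have hqE : q ∣ Nat.card ↥E := by
    have := orderOf_dvd_natCard (⟨s, hs⟩ : ↥E)
    rwa [Subgroup.orderOf_mk, hsq] at this
  have hs1 : s ≠ 1 := by
    rintro rfl
    rw [orderOf_one] at hsq
    exact hq.one_lt.ne hsq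
  have hdiv : ∀ r : ℕ, r.Prime → r ∣ orderOf s → r = q := by
    intro r hr hrd
    rw [hsq] at hrd
    exact (Nat.prime_dvd_prime_iff_eq hr hq).1 hrd
  rcases mem_tau_of_dvd_card_compl c.hG c.hU c.hM c.hE hq hqE with h | h | h
  · -- `q ∈ τ₁(M)`
    by_contra hsC
    obtain ⟨-, hqp, hqσ, -⟩ := d.tau13_facts (Or.inl h)
    have hfix : sigmaCore M ⊓ Subgroup.centralizer ({s} : Set G) = ⊥ :=
      hreg s hs hs1 (fun r hr hrd => by rw [hdiv r hr hrd]; exact Or.inl h)
    have hfpf := d.fpf_of_noLine c hab hno (d.le_normalizer c hs) hsC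
    have hcopKp : (Nat.card ↥(sigmaCore M)).Coprime p := by
      rw [Nat.coprime_comm, d.prime.coprime_iff_not_dvd]
      exact fun hd => d.not_sigma (sigmaCore_isPiCard M p d.prime hd)
    have hcopKq : (Nat.card ↥(sigmaCore M)).Coprime q := by
      rw [Nat.coprime_comm, hq.coprime_iff_not_dvd]
      exact fun hd => hqσ (sigmaCore_isPiCard M q hq hd)
    have hMK := Cfsg.Agent.Lib.H16.BG.le_normalizer_sigmaCore M
    have := fix_ne_bot_of_frob hq (U := A) (E := Subgroup.zpowers s) (H := sigmaCore M) d.ne_bot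
      (by rw [Nat.card_zpowers, hsq])
      (by rw [d.hAc]; exact Nat.Coprime.pow_left 2 ((Nat.coprime_primes d.prime hq).2 hqp.symm))
      ((Subgroup.zpowers_le.2 hs).trans (d.le_normalizer c))
      (by rw [centralizer_zpowers_eq]; exact hfpf)
      c.sigmaCore_ne_bot (solvable_of_le_ne_top c.hG c.hM.1 (Cfsg.Agent.Lib.H16.BG.sigmaCore_le M))
      (by rw [d.hAc]; exact Nat.Coprime.pow_right 2 hcopKp) hcopKq
      (d.hAM.trans hMK) ((Subgroup.zpowers_le.2 (c.le hs)).trans hMK)
      (d.sigmaCore_inf_centralizer c)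
    rw [centralizer_zpowers_eq] at this
    exact this hfix
  · exact d.mem_centralizer_of_tau2 c hs (fun r hr hrd => by rw [hdiv r hr hrd]; exact h)
  · -- `q ∈ τ₃(M)`
    by_contra hsC
    obtain ⟨-, hqp, hqσ, -⟩ := d.tau13_facts (Or.inr h)
    have hfix : sigmaCore M ⊓ Subgroup.centralizer ({s} : Set G) = ⊥ :=
      hreg s hs hs1 (fun r hr hrd => by rw [hdiv r hr hrd]; exact Or.inr h)
    have hfpf := d.fpf_of_noLine c hab hno (d.le_normalizer c hs) hsC
    have hcopKp : (Nat.card ↥(sigmaCore M)).Coprime p := by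
      rw [Nat.coprime_comm, d.prime.coprime_iff_not_dvd]
      exact fun hd => d.not_sigma (sigmaCore_isPiCard M p d.prime hd)
    have hcopKq : (Nat.card ↥(sigmaCore M)).Coprime q := by
      rw [Nat.coprime_comm, hq.coprime_iff_not_dvd]
      exact fun hd => hqσ (sigmaCore_isPiCard M q hq hd)
    have hMK := Cfsg.Agent.Lib.H16.BG.le_normalizer_sigmaCore M
    have := fix_ne_bot_of_frob hq (U := A) (E := Subgroup.zpowers s) (H := sigmaCore M) d.ne_bot
      (by rw [Nat.card_zpowers, hsq])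
      (by rw [d.hAc]; exact Nat.Coprime.pow_left 2 ((Nat.coprime_primes d.prime hq).2 hqp.symm))
      ((Subgroup.zpowers_le.2 hs).trans (d.le_normalizer c))
      (by rw [centralizer_zpowers_eq]; exact hfpf)
      c.sigmaCore_ne_bot (solvable_of_le_ne_top c.hG c.hM.1 (Cfsg.Agent.Lib.H16.BG.sigmaCore_le M))
      (by rw [d.hAc]; exact Nat.Coprime.pow_right 2 hcopKp) hcopKq
      (d.hAM.trans hMK) ((Subgroup.zpowers_le.2 (c.le hs)).trans hMK)
      (d.sigmaCore_inf_centralizer c)
    rw [centralizer_zpowers_eq] at this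
    exact this hfix

/-- **(I-3)** if `E` normalizes no line of `A`, there is a `q`-element `t ∈ E ∖ C_G(A)` of order at
least `q²` with `t ^ q ∈ C_G(A)`, for some `q ∈ τ₁(M) ∪ τ₃(M)`. -/
theorem exists_minimal_element (c : Ctx M E) (d : TData M E p Q A)
    (hab : ∃ S : Sylow p G, IsMulCommutative ↥(S : Subgroup G)) (hno : NoLine E A p)
    (hreg : HypReg M E) :
    ∃ (t : G) (q k : ℕ), t ∈ E ∧ t ∉ Subgroup.centralizer (A : Set G) ∧ q.Prime ∧
      orderOf t = q ^ k ∧ 2 ≤ k ∧ t ^ q ∈ Subgroup.centralizer (A : Set G) ∧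
      (q ∈ tau1 M ∨ q ∈ tau3 M) := by
  obtain ⟨t₀, ht₀E, ht₀C⟩ := d.exists_not_mem_centralizer c hno
  obtain ⟨t, ⟨htE, htC⟩, hmin⟩ := (InvImage.wf (orderOf : G → ℕ) Nat.lt_wfRel.wf).has_min
    {t : G | t ∈ E ∧ t ∉ Subgroup.centralizer (A : Set G)} ⟨t₀, ht₀E, ht₀C⟩
  have hpos : 0 < orderOf t := orderOf_pos t
  have ht1 : orderOf t ≠ 1 := by
    intro h
    rw [orderOf_eq_one_iff] at h
    exact htC (h ▸ Subgroup.one_mem _)
  -- powers by prime divisors of the order centralize `A`
  have hpow : ∀ r : ℕ, r.Prime → r ∣ orderOf t → t ^ r ∈ Subgroup.centralizer (A : Set G) := by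
    intro r hr hrd
    by_contra hn
    apply hmin (t ^ r) ⟨E.pow_mem htE r, hn⟩
    show orderOf (t ^ r) < orderOf t
    rw [orderOf_pow_of_dvd hr.ne_zero hrd]
    exact Nat.div_lt_self hpos hr.one_lt
  obtain ⟨q, hq, hqd⟩ := Nat.exists_prime_and_dvd ht1
  have huniq : ∀ {r : ℕ}, r.Prime → r ∣ orderOf t → r = q := by
    intro r hr hrd
    by_contra hne
    have hcop : Nat.Coprime r q := (Nat.coprime_primes hr hq).2 hne
    apply htC
    have h1 := hpow r hr hrd
    have h2 := hpow q hq hqd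
    have hb : (r : ℤ) * Nat.gcdA r q + (q : ℤ) * Nat.gcdB r q = 1 := by
      have := Nat.gcd_eq_gcd_ab r q
      rw [hcop.gcd_eq_one] at this
      exact_mod_cast this.symm
    have : t = (t ^ r) ^ (Nat.gcdA r q) * (t ^ q) ^ (Nat.gcdB r q) := by
      rw [← zpow_natCast t r, ← zpow_natCast t q, ← zpow_mul, ← zpow_mul, ← zpow_add, hb, zpow_one]
    rw [this]
    exact Subgroup.mul_mem _ (Subgroup.zpow_mem _ h1 _) (Subgroup.zpow_mem _ h2 _)
  have hqk := Nat.eq_prime_pow_of_unique_prime_dvd hpos.ne' huniq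
  set k := (orderOf t).primeFactorsList.length with hk
  have hk0 : k ≠ 0 := by
    intro h
    rw [h, pow_zero] at hqk
    exact ht1 hqk
  have hk1 : k ≠ 1 := by
    intro h
    rw [h, pow_one] at hqk
    exact htC (d.prime_order_mem_centralizer c hab hno hreg htE hq hqk)
  have hqE : q ∣ Nat.card ↥E := by
    have := orderOf_dvd_natCard (⟨t, htE⟩ : ↥E)
    rw [Subgroup.orderOf_mk] at this
    exact hqd.trans this
  have hτ : q ∈ tau1 M ∨ q ∈ tau3 M := by
    rcases mem_tau_of_dvd_card_compl c.hG c.hU c.hM c.hE hq hqE with h | h | h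
    · exact Or.inl h
    · exfalso
      apply htC
      apply d.mem_centralizer_of_tau2 c htE
      intro r hr hrd
      rw [huniq hr hrd]; exact h
    · exact Or.inr h
  exact ⟨t, q, k, htE, htC, hq, hqk, by omega, hpow q hq hqd, hτ⟩

end TData

end Cfsg.Agent.Lib.H8.BG12
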