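import Mathlib
import Cfsg.Agent.Lib.H8.BG1213d
import Cfsg.Agent.Lib.H23.FreeCyc
import Cfsg.Agent.Lib.H7.BG13a
import Cfsg.Agent.Lib.H23.BG1213q1
import Cfsg.Agent.Lib.H16.BG1213q2

/-!
helper8 library: BG Lemma 12.13-type analysis (S1421), part e: in the abelian case, under the
regularity hypothesis, `E` normalizes a line of `A`.
-/

set_option autoImplicit false
set_option linter.style.haveILetI false
set_option linter.unusedSectionVars false
set_option linter.unusedVariables false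
set_option maxHeartbeats 800000

open Cfsg

namespace Cfsg.Agent.Lib.H8.BG12

open Cfsg.Agent.Lib.H16.BG
open Cfsg.Agent.Lib.H7.BG7
open Cfsg.Agent.Lib.H7.BG10
open Cfsg.Agent.Lib.H20.BGS
open Cfsg.Agent.Lib.H19 (IsPiCard)
open Cfsg.Agent.Lib.H8.BG11
open scoped commutatorElement Pointwise

universe u
variable {G : Type u} [Group G] [Finite G]

local notation:max "cj(" g ", " X ")" => Subgroup.map (MulEquiv.toMonoidHom (MulAut.conj g)) X

namespace TData

variable {M E : Subgroup G} {p : ℕ} [hpf : Fact p.Prime] {Q A : Subgroup G}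

/-- `N_G(Q) ≤ N_G(A)` since `A = Ω₁(Q)`. -/
theorem normalizer_sylow_le (d : TData M E p Q A) :
    Subgroup.normalizer (Q : Set G) ≤ Subgroup.normalizer (A : Set G) := by
  have key : ∀ n : G, n ∈ Subgroup.normalizer (Q : Set G) → ∀ a ∈ A, n * a * n⁻¹ ∈ A := by
    intro n hn a ha
    apply (d.hΩ _ ((Subgroup.mem_normalizer_iff.1 hn a).1 (d.hAQ ha))).1
    rw [conj_pow, d.hAe.2 a ha, mul_one, mul_inv_cancel]
  intro n hn
  rw [Subgroup.mem_normalizer_iff]
  intro a
  constructor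
  · exact key n hn a
  · intro h
    have := key n⁻¹ (Subgroup.inv_mem _ hn) _ h
    simpa [mul_assoc] using this

/-- `Q` has `p`-rank two. -/
theorem pRankLE_two (d : TData M E p Q A) : PRankLE p 2 ↥Q := by
  intro B hBc hBp
  have hle : B.map Q.subtype ≤ A := by
    rintro _ ⟨b, hb, rfl⟩
    apply (d.hΩ _ b.2).1
    have := hBp b hb
    have h2 := congrArg Subtype.val this
    simpa using h2
  calc Nat.card ↥B = Nat.card ↥(B.map Q.subtype) :=
        (Subgroup.card_map_of_injective Q.subtype_injective).symm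
    _ ≤ Nat.card ↥A := Subgroup.card_le_of_le hle
    _ = p ^ 2 := d.hAc

/-- **Claim I**: in the abelian case, under the regularity hypothesis, `E` normalizes a line
of `A`. -/
theorem exists_invariant_line (c : Ctx M E) (d : TData M E p Q A)
    (hab : ∃ S : Sylow p G, IsMulCommutative ↥(S : Subgroup G)) (hreg : HypReg M E) :
    ∃ X : Subgroup G, X ≤ A ∧ Nat.card X = p ∧ E ≤ Subgroup.normalizer (X : Set G) := by
  by_contra hcon
  have hno : NoLine E A p := fun X hXA hXc hEX => hcon ⟨X, hXA, hXc, hEX⟩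
  obtain ⟨t, q, k, htE, htC, hq, htk, hk2, htq, hτ⟩ := d.exists_minimal_element c hab hno hreg
  haveI : Fact q.Prime := ⟨hq⟩
  obtain ⟨-, hqp, hqσ, hqr⟩ := d.tau13_facts hτ
  have hpp : p.Prime := d.prime
  -- the element `s` of order `q` in `⟨t⟩`
  set s := t ^ q ^ (k - 1) with hs
  have hsC : s ∈ Subgroup.centralizer (A : Set G) := by
    have : s = (t ^ q) ^ q ^ (k - 2) := by
      rw [hs, ← pow_mul, ← pow_succ']
      congr 2
      omega
    rw [this]
    exact Subgroup.pow_mem _ htq _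
  have hs1 : s ≠ 1 := by
    intro h
    have h1 : orderOf t ∣ q ^ (k - 1) := orderOf_dvd_of_pow_eq_one h
    rw [htk] at h1
    have h2 := Nat.le_of_dvd (pow_pos hq.pos _) h1
    have h3 : q ^ (k - 1) < q ^ k := Nat.pow_lt_pow_right hq.one_lt (by omega)
    omega
  have hsz : s ∈ Subgroup.zpowers t := Subgroup.pow_mem _ (Subgroup.mem_zpowers t) _
  -- a maximal subgroup `L` containing `N_G(A)`
  set Y := Subgroup.normalizer (A : Set G) with hY
  have hYtop : Y ≠ ⊤ := normalizer_ne_top_of_isPGroup c.hG d.isPGroup d.ne_bot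
  obtain ⟨L, hL, hYL⟩ := (eq_top_or_exists_le_coatom Y).resolve_left hYtop
  have hQG := d.sylIn_top c hab
  have hQY : Q ≤ Y := d.le_centralizer.trans (Subgroup.centralizer_le_normalizer _)
  have hQL : Q ≤ L := hQY.trans hYL
  have hQLs : SylIn p Q L := hQG.mono hQL le_top
  have hNQ : Subgroup.normalizer (Q : Set G) ≤ Y := d.normalizer_sylow_le
  have hAL : A ≤ L := d.hAQ.trans hQL
  have hQ1 : Q ≠ ⊥ := _root_.ne_bot_of_le_ne_bot d.ne_bot d.hAQ
  have hpL : p ∣ Nat.card ↥L :=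
    (dvd_card_of_isPGroup_ne_bot hQLs.isPGroup hQ1).trans (Subgroup.card_dvd_of_le hQL)
  have hpσL : p ∈ sigma L := by
    obtain ⟨P, hP⟩ := hQLs.exists_sylow
    exact ⟨hpp, hpL, P, by rw [hP]; exact hNQ.trans hYL⟩
  have hr2 : PRankLE p 2 ↥L := pRankLE_of_sylIn hQLs d.pRankLE_two
  have hpβ : p ∉ beta L := fun h => h.1.2 hr2
  have htY : t ∈ Y := d.le_normalizer c htE
  have htL : t ∈ L := hYL htY
  have hσL := (sigma_core_hall c.hG c.hU hL).1
  have hprimes : ∀ r : ℕ, r.Prime → r ∣ Nat.card ↥Q → r ∈ sigma L := by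
    intro r hr hrd
    obtain ⟨n, hn⟩ := IsPGroup.iff_card.1 hQLs.isPGroup
    rw [hn] at hrd
    rw [(Nat.prime_dvd_prime_iff_eq hr hpp).1 (hr.dvd_of_dvd_pow hrd)]
    exact hpσL
  have hQσ : Q ≤ sigmaCore L := le_sigmaCore hσL hQL hprimes
  have hAσ : A ≤ sigmaCore L := d.hAQ.trans hQσ
  by_cases hqσL : q ∈ sigma L
  · exact htC (Cfsg.Agent.Lib.H16.BG1213.mem_centralizer_of_sigma c.hG c.hU hL hpp hq hqp hpσL hpβ hqσL hAL d.isPGroup htL
      htk htY)
  by_cases hr1 : PRankLE q 1 ↥L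
  · exact htC (Cfsg.Agent.Lib.H23.BG1213.mem_centralizer_of_rank_one c.hG c.hC c.h17 hL hqσL hr1 htL htk hsz hs1 hAσ hsC)
  -- `q ∈ τ₂(L)`
  have hq2L : PRankLE q 2 ↥L := by
    by_contra h
    exact hqσL (alpha_subset_sigma c.hG c.hU hL ⟨hq, h⟩)
  have hqτ : q ∈ tau2 L := ⟨hq, hqσL, hq2L, hr1⟩
  have htq' : IsPGroup q ↥(Subgroup.zpowers t) := by
    apply IsPGroup.of_card (n := k)
    rw [Nat.card_zpowers, htk]
  obtain ⟨S, hSL, htS⟩ := SylIn.exists_ge htq' (Subgroup.zpowers_le.2 htL)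
  have hrS : ¬ PRankLE q 1 ↥S := fun h => hr1 (pRankLE_of_sylIn hSL h)
  obtain ⟨B, hBS, hBe, hBc⟩ := exists_elemAb_sq hq hrS
  obtain ⟨hnil, hb, -⟩ := c.h17 L hL q hqτ B ⟨hBS.trans hSL.le, hBe, hBc⟩
  have hSc : IsMulCommutative ↥S := sylIn_comm hSL (fun P => (hb P).1)
  have hQσs : SylIn p Q (sigmaCore L) := hQLs.mono hQσ (Cfsg.Agent.Lib.H16.BG.sigmaCore_le L)
  have hLQ : L ≤ Subgroup.normalizer (Q : Set G) :=
    (Cfsg.Agent.Lib.H16.BG.le_normalizer_sigmaCore L).trans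
      (normalizer_le_of_sylIn_nilpotent hnil hQσs)
  have hLY : L ≤ Y := hLQ.trans hNQ
  have hBM : ¬ B ≤ M := by
    intro h
    refine not_pRankLE_of_elemAb h hBe ?_ hqr
    rw [hBc]
    exact Nat.pow_lt_pow_right hq.one_lt (by norm_num)
  obtain ⟨u, huB, huM⟩ := SetLike.not_le_iff_exists.1 hBM
  have huq : u ^ q ∈ Subgroup.centralizer (A : Set G) := by
    rw [hBe.2 u huB]; exact Subgroup.one_mem _
  obtain ⟨m, hm⟩ := Cfsg.Agent.Lib.H23.FreeCyc.exists_pow_mul_mem_centralizer_of_free d.ne_bot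
    d.hAe.1 hSc hSL.isPGroup (hSL.le.trans hLY)
    (fun w hw hwC => d.fpf_of_noLine c hab hno (hLY (hSL.le hw)) hwC)
    (htS (Subgroup.mem_zpowers t)) htC (hBS huB) huq
  apply huM
  have h1 : u⁻¹ * t ^ m ∈ M := c.le (d.centralizer_le c hm)
  have h2 : t ^ m ∈ M := Subgroup.pow_mem _ (c.le htE) m
  have h3 : u⁻¹ ∈ M := by
    have := Subgroup.mul_mem _ h1 (Subgroup.inv_mem _ h2)
    simpa [mul_assoc] using this
  simpa using Subgroup.inv_mem _ h3

end TData

end Cfsg.Agent.Lib.H8.BG12
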