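import Mathlib
import Cfsg.Agent.Lib.H8.BG1213e
import Cfsg.Agent.Lib.L0.BGSC1

/-!
helper8 library: BG Lemma 12.13-type analysis (S1421), part f: in the abelian case, a cyclic
subgroup `T ≤ Q` of order `exp Q`, invariant under a given `p'`-subgroup of `E`, all of whose
nonidentity elements act without fixed points on `M_σ`.
-/

set_option autoImplicit false
set_option linter.style.haveILetI false
set_option linter.unusedSectionVars false
set_option linter.unusedVariables false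
set_option maxHeartbeats 800000

open Cfsg

namespace Cfsg.Agent.Lib.H8.BG12

open Cfsg.Agent.Lib.H16.BG
open Cfsg.Agent.Lib.H7.BG7
open Cfsg.Agent.Lib.H7.BG10
open Cfsg.Agent.Lib.H20.BGS
open Cfsg.Agent.Lib.H19 (IsPiCard)
open Cfsg.Agent.Lib.H8.BG11
open scoped commutatorElement Pointwise

universe u
variable {G : Type u} [Group G] [Finite G]

/-- the subgroup of `n`-th powers of an abelian subgroup. -/
def powSubgroup (Q : Subgroup G) (hQ : IsMulCommutative ↥Q) (n : ℕ) : Subgroup G where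
  carrier := {z | ∃ y ∈ Q, y ^ n = z}
  one_mem' := ⟨1, Q.one_mem, one_pow n⟩
  mul_mem' := by
    rintro _ _ ⟨y₁, h₁, rfl⟩ ⟨y₂, h₂, rfl⟩
    exact ⟨y₁ * y₂, Q.mul_mem h₁ h₂, Commute.mul_pow (comm_of_mem hQ h₁ h₂) n⟩
  inv_mem' := by
    rintro _ ⟨y, h, rfl⟩
    exact ⟨y⁻¹, Q.inv_mem h, inv_pow y n⟩

theorem mem_powSubgroup {Q : Subgroup G} {hQ : IsMulCommutative ↥Q} {n : ℕ} {z : G} :
    z ∈ powSubgroup Q hQ n ↔ ∃ y ∈ Q, y ^ n = z := Iff.rfl

/-- the subgroup of `n`-th powers is normalized by `N_G(Q)`. -/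
theorem normalizer_le_normalizer_powSubgroup (Q : Subgroup G) (hQ : IsMulCommutative ↥Q) (n : ℕ) :
    Subgroup.normalizer (Q : Set G) ≤ Subgroup.normalizer ((powSubgroup Q hQ n : Subgroup G) : Set G) := by
  have key : ∀ g ∈ Subgroup.normalizer (Q : Set G), ∀ z ∈ powSubgroup Q hQ n,
      g * z * g⁻¹ ∈ powSubgroup Q hQ n := by
    rintro g hg _ ⟨y, hy, rfl⟩
    exact ⟨g * y * g⁻¹, (Subgroup.mem_normalizer_iff.1 hg y).1 hy, conj_pow (a := g) (b := y)⟩
  intro g hg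
  rw [Subgroup.mem_normalizer_iff]
  intro z
  constructor
  · exact key g hg z
  · intro h
    have := key g⁻¹ (Subgroup.inv_mem _ hg) _ h
    simpa [mul_assoc] using this

/-- a `p`-subgroup of `E` lies in a normal Sylow `p`-subgroup of `E`. -/
theorem le_of_sylIn_normal {p : ℕ} [Fact p.Prime] {Q E R : Subgroup G} (hQ : SylIn p Q E)
    (hEQ : E ≤ Subgroup.normalizer (Q : Set G)) (hR : IsPGroup p ↥R) (hRE : R ≤ E) : R ≤ Q := by
  have h1 : IsPGroup p (Q ⊔ R : Subgroup G) :=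
    hQ.isPGroup.to_sup_of_normal_left' hR (hRE.trans hEQ)
  have h2 := hQ.eq_of_le le_sup_left (sup_le hQ.le hRE) h1
  rw [h2]; exact le_sup_right

namespace TData

variable {M E : Subgroup G} {p : ℕ} [hpf : Fact p.Prime] {Q A : Subgroup G}

/-- **the subgroup `T_p`** of the abelian case. -/
theorem exists_regular_invariant_cyclic (c : Ctx M E) (d : TData M E p Q A)
    (hab : ∃ S : Sylow p G, IsMulCommutative ↥(S : Subgroup G)) (hreg : HypReg M E)
    {H : Subgroup G} (hHE : H ≤ E) (hHp : (Nat.card ↥H).Coprime p) :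
    ∃ T : Subgroup G, T ≤ Q ∧ H ≤ Subgroup.normalizer (T : Set G) ∧
      (∀ x ∈ T, x ≠ 1 → sigmaCore M ⊓ Subgroup.centralizer ({x} : Set G) = ⊥) ∧
      ∃ t ∈ T, ∀ x ∈ Q, orderOf x ∣ orderOf t := by
  classical
  have hpp : p.Prime := d.prime
  have hQp : IsPGroup p ↥Q := d.hQE.isPGroup
  have hQ1 : Q ≠ ⊥ := _root_.ne_bot_of_le_ne_bot d.ne_bot d.hAQ
  -- the exponent of `Q`
  have hex : ∃ n : ℕ, ∀ x ∈ Q, x ^ p ^ n = 1 := by
    obtain ⟨m, hm⟩ := IsPGroup.iff_card.1 hQp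
    refine ⟨m, fun x hx => ?_⟩
    have := pow_card_eq_one' (G := ↥Q) (x := ⟨x, hx⟩)
    rw [hm] at this
    have h2 := congrArg Subtype.val this
    simpa using h2
  set n := Nat.find hex with hn
  have hnspec : ∀ x ∈ Q, x ^ p ^ n = 1 := Nat.find_spec hex
  have hn0 : n ≠ 0 := by
    intro h0
    apply hQ1
    rw [eq_bot_iff]
    intro x hx
    have := hnspec x hx
    rw [h0, pow_zero, pow_one] at this
    exact Subgroup.mem_bot.2 this
  obtain ⟨e, he⟩ : ∃ e, n = e + 1 := Nat.exists_eq_succ_of_ne_zero hn0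
  have hexp : ∀ x ∈ Q, x ^ p ^ (e + 1) = 1 := he ▸ hnspec
  have hmin : ¬ ∀ x ∈ Q, x ^ p ^ e = 1 := Nat.find_min hex (by omega)
  push Not at hmin
  obtain ⟨y₀, hy₀Q, hy₀1⟩ := hmin
  -- the subgroup of `p^e`-th powers
  set V := powSubgroup Q d.hQc (p ^ e) with hV
  have hVA : V ≤ A := by
    rintro _ ⟨y, hy, rfl⟩
    apply (d.hΩ _ (Q.pow_mem hy _)).1
    rw [← pow_mul, ← pow_succ]
    exact hexp y hy
  have hV1 : V ≠ ⊥ := by
    intro h
    apply hy₀1
    have : y₀ ^ p ^ e ∈ V := ⟨y₀, hy₀Q, rfl⟩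
    rw [h] at this
    exact Subgroup.mem_bot.1 this
  have hEQ := d.le_normalizer_sylow c hab
  -- the line `X'` and the element `y`
  obtain ⟨X', y, hX'A, hX'c, hEX', hX'reg, hyQ, hyX', hy1⟩ :
      ∃ (X' : Subgroup G) (y : G), X' ≤ A ∧ Nat.card X' = p ∧
        E ≤ Subgroup.normalizer (X' : Set G) ∧
        sigmaCore M ⊓ Subgroup.centralizer (X' : Set G) = ⊥ ∧ y ∈ Q ∧ y ^ p ^ e ∈ X' ∧
        y ^ p ^ e ≠ 1 := by
    by_cases hVeq : V = A
    · obtain ⟨X₁, hX₁A, hX₁c, hEX₁⟩ := d.exists_invariant_line c hab hreg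
      obtain ⟨X, hXA, hXc, hEX, hXreg⟩ := d.exists_invariant_regular_line c hab hX₁A hX₁c hEX₁
      have hX1 : X ≠ ⊥ := by
        intro h
        rw [h, Subgroup.card_bot] at hXc
        exact hpp.one_lt.ne hXc
      obtain ⟨⟨a, haX⟩, ha1'⟩ := (Subgroup.ne_bot_iff_exists_ne_one).1 hX1
      have ha1 : a ≠ 1 := fun h => ha1' (Subtype.ext h)
      have haV : a ∈ V := by rw [hVeq]; exact hXA haX
      obtain ⟨y, hyQ, hya⟩ := haV
      exact ⟨X, y, hXA, hXc, hEX, hXreg, hyQ, hya ▸ haX, hya ▸ ha1⟩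
    · have hVc : Nat.card V = p := card_eq_of_ne_bot_of_ne hpp d.hAc hVA hV1 hVeq
      have hNV : Subgroup.normalizer (A : Set G) ≤ Subgroup.normalizer (V : Set G) :=
        (d.normalizer_le_normalizer c hab).trans
          (normalizer_le_normalizer_powSubgroup Q d.hQc (p ^ e))
      exact ⟨V, y₀, hVA, hVc, (d.le_normalizer c).trans hNV,
        d.regular_of_normalizer_le c hVA hVc hNV, hy₀Q, ⟨y₀, hy₀Q, rfl⟩, hy₀1⟩
  -- the cyclic subgroup
  obtain ⟨T, hTQ, hTcyc, hTc, hX'T, hHT⟩ :=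
    Cfsg.Agent.Lib.L0.BGSC.exists_invariant_cyclic_of_abelian hQp d.hQc (hHE.trans hEQ) hHp
      (hX'A.trans d.hAQ) hX'c (hHE.trans hEX') hexp hyQ hyX' hy1
  refine ⟨T, hTQ, hHT, ?_, ?_⟩
  · intro x hxT hx1
    -- an element of order `p` in `⟨x⟩`
    have hxo : orderOf x ∣ p ^ (e + 1) := orderOf_dvd_of_pow_eq_one (hexp x (hTQ hxT))
    obtain ⟨j, hj, hjo⟩ := (Nat.dvd_prime_pow hpp).1 hxo
    have hj0 : j ≠ 0 := by
      intro h
      rw [h, pow_zero, orderOf_eq_one_iff] at hjo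
      exact hx1 hjo
    set x' := x ^ p ^ (j - 1) with hx'
    have hx'p : x' ^ p = 1 := by
      rw [hx', ← pow_mul, ← pow_succ, show j - 1 + 1 = j by omega, ← hjo]
      exact pow_orderOf_eq_one x
    have hx'1 : x' ≠ 1 := by
      intro h
      have h1 : orderOf x ∣ p ^ (j - 1) := orderOf_dvd_of_pow_eq_one h
      rw [hjo] at h1
      have h2 := Nat.le_of_dvd (pow_pos hpp.pos _) h1
      have h3 : p ^ (j - 1) < p ^ j := Nat.pow_lt_pow_right hpp.one_lt (by omega)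
      omega
    have hx'T : x' ∈ T := T.pow_mem hxT _
    -- a generator of `X'`
    have hX'1 : X' ≠ ⊥ := by
      intro h
      rw [h, Subgroup.card_bot] at hX'c
      exact hpp.one_lt.ne hX'c
    obtain ⟨⟨a, haX⟩, ha1'⟩ := (Subgroup.ne_bot_iff_exists_ne_one).1 hX'1
    have ha1 : a ≠ 1 := fun h => ha1' (Subtype.ext h)
    have hap : a ^ p = 1 := d.hAe.2 a (hX'A haX)
    have hz := zpowers_eq_of_mem_cyclic hTcyc hpp hx'T (hX'T haX) hx'p hx'1 hap ha1
    have hX'z : X' ≤ Subgroup.zpowers x := by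
      refine (le_zpowers_of_card_prime hpp hX'c haX ha1).trans ?_
      rw [← hz]
      exact Subgroup.zpowers_le.2 (Subgroup.pow_mem _ (Subgroup.mem_zpowers x) _)
    rw [eq_bot_iff, ← hX'reg]
    refine inf_le_inf_left _ ?_
    rw [← centralizer_zpowers_eq]
    exact Subgroup.centralizer_le (show (X' : Set G) ⊆ Subgroup.zpowers x from hX'z)
  · haveI := hTcyc
    obtain ⟨g, hg⟩ := IsCyclic.exists_generator (α := ↥T)
    refine ⟨(g : G), g.2, fun x hx => ?_⟩
    have h1 : orderOf g = Nat.card ↥T := orderOf_eq_card_of_forall_mem_zpowers hg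
    rw [Subgroup.orderOf_coe, h1, hTc]
    exact orderOf_dvd_of_pow_eq_one (hexp x hx)

end TData

end Cfsg.Agent.Lib.H8.BG12
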