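import Mathlib
import Cfsg.Agent.Lib.H8.BG1213f
import Cfsg.Agent.Lib.H16.SameExp3

/-!
helper8 library: BG Lemma 12.13-type analysis (S1421), part g: the conclusion in the abelian case.
-/

set_option autoImplicit false
set_option linter.style.haveILetI false
set_option linter.unusedSectionVars false
set_option linter.unusedVariables false
set_option maxHeartbeats 800000

open Cfsg

namespace Cfsg.Agent.Lib.H8.BG12

open Cfsg.Agent.Lib.H16.BG
open Cfsg.Agent.Lib.H7.BG7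
open Cfsg.Agent.Lib.H7.BG10
open Cfsg.Agent.Lib.H20.BGS
open Cfsg.Agent.Lib.H19 (IsPiCard)
open Cfsg.Agent.Lib.H8.BG11
open scoped commutatorElement Pointwise

universe u
variable {G : Type u} [Group G] [Finite G]

/-- the conclusion of S1421. -/
def Concl (M E : Subgroup G) : Prop :=
  (∃ A₀ : Subgroup G, A₀ ≤ E ∧ E ≤ Subgroup.normalizer (A₀ : Set G) ∧ IsMulCommutative A₀ ∧
      ∀ x ∈ Cfsg.sigmaCore M, x ≠ 1 → E ⊓ Subgroup.centralizer ({x} : Set G) ≤ A₀) ∧
    ∃ E₀ : Subgroup G, E₀ ≤ E ∧ Monoid.exponent E₀ = Monoid.exponent E ∧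
      ∀ e ∈ E₀, e ≠ 1 → Cfsg.sigmaCore M ⊓ Subgroup.centralizer ({e} : Set G) = ⊥

/-- an element of `E` centralizing `x ∈ M_σ`, `x ≠ 1`, has fixed points. -/
theorem bad_of_mem_centralizer {M : Subgroup G} {x e : G} (hx : x ∈ sigmaCore M) (hx1 : x ≠ 1)
    (he : e ∈ Subgroup.centralizer ({x} : Set G)) :
    sigmaCore M ⊓ Subgroup.centralizer ({e} : Set G) ≠ ⊥ := by
  intro h
  apply hx1
  have : x ∈ sigmaCore M ⊓ Subgroup.centralizer ({e} : Set G) := by
    refine ⟨hx, ?_⟩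
    show x ∈ Subgroup.centralizer ({e} : Set G)
    rw [Subgroup.mem_centralizer_singleton_iff]
    exact (Subgroup.mem_centralizer_singleton_iff.1 he).symm
  rw [h] at this
  exact Subgroup.mem_bot.1 this

/-- if the elements of prime order of `⟨e⟩` act without fixed points on `M_σ`, so does `e`. -/
theorem regular_of_prime_powers {M : Subgroup G} {e : G} (he1 : e ≠ 1)
    (h : ∀ q : ℕ, q.Prime → q ∣ orderOf e →
      sigmaCore M ⊓ Subgroup.centralizer ({e ^ (orderOf e / q)} : Set G) = ⊥) :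
    sigmaCore M ⊓ Subgroup.centralizer ({e} : Set G) = ⊥ := by
  have h1 : orderOf e ≠ 1 := fun h => he1 (orderOf_eq_one_iff.1 h)
  obtain ⟨q, hq, hqd⟩ := Nat.exists_prime_and_dvd h1
  rw [eq_bot_iff, ← h q hq hqd]
  refine inf_le_inf_left _ ?_
  intro x hx
  rw [Subgroup.mem_centralizer_singleton_iff] at hx ⊢
  exact (Commute.pow_right (show Commute x e from hx) _).eq

/-- **S1421 in the abelian case**. -/
theorem concl_of_abelian {M E : Subgroup G} (c : Ctx M E) (hreg : HypReg M E)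
    (hab : ∀ p ∈ tau2 M, ∀ _ : Fact p.Prime, ∃ S : Sylow p G, IsMulCommutative ↥(S : Subgroup G)) :
    Concl M E := by
  classical
  haveI hEs : Group.IsSolvable ↥E := solvable_of_le_ne_top c.hG c.hM.1 c.le
  set A₀ := piCoreOf (tau2 M) E with hA₀
  have hA₀E : A₀ ≤ E := piCoreOf_le _ _
  have hEA₀ : E ≤ Subgroup.normalizer (A₀ : Set G) := le_normalizer_piCoreOf _ _
  have hA₀π : IsPiCard (tau2 M) (Nat.card ↥A₀) := piCoreOf_isPiCard _ _
  have hA₀c : IsMulCommutative ↥A₀ := c.tau2_abelian hA₀E hA₀π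
  -- the Sylow subgroups for the primes of `τ₂(M)` lie in `A₀`
  have hQ : ∀ p ∈ tau2 M, ∀ _ : Fact p.Prime, ∀ Q A : Subgroup G, TData M E p Q A → Q ≤ A₀ := by
    intro p hp hpf Q A d
    exact le_piCoreOf d.hQE.le (d.le_normalizer_sylow c (hab p hp hpf))
      (isPiCard_card_of_isPGroup hp d.hQE.isPGroup)
  -- `τ₂`-elements of `E` lie in `A₀`
  have hmem : ∀ e ∈ E, (∀ q : ℕ, q.Prime → q ∣ orderOf e → q ∈ tau2 M) → e ∈ A₀ := by
    intro e he hτ
    apply Cfsg.Agent.Lib.H16.SameExp.mem_of_card_coprime hA₀E he (hEA₀ he)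
      (m := A₀.relIndex E)
    · rw [Cfsg.Agent.Lib.H19.card_mul_relIndex hA₀E]
    · apply Nat.coprime_of_dvd
      intro r hr hr1 hr2
      have hrτ : r ∈ tau2 M := by
        rcases (Nat.Prime.dvd_mul hr).1 hr1 with h | h
        · exact hτ r hr h
        · exact hA₀π r hr h
      haveI : Fact r.Prime := ⟨hr⟩
      obtain ⟨Q, A, d⟩ := c.exists_tData hrτ
      have h1 : A₀.relIndex E ∣ Q.relIndex E :=
        Subgroup.relIndex_dvd_of_le_left E (hQ r hrτ ⟨hr⟩ Q A d)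
      exact d.hQE.2.2 (hr2.trans h1)
  refine ⟨⟨A₀, hA₀E, hEA₀, hA₀c, ?_⟩, ?_⟩
  · rintro x hx hx1 e ⟨heE, heC⟩
    exact hmem e heE (fun q hq hqd =>
      tau2_of_bad c.hG c.hU c.hM c.hE hreg heE (bad_of_mem_centralizer hx hx1 heC) hq hqd)
  · -- the subgroup `E₀`
    obtain ⟨H, hH⟩ := Cfsg.Agent.Lib.H19.exists_isPiHallOf E (tau2 M)ᶜ
    have hHp : ∀ p ∈ tau2 M, (Nat.card ↥H).Coprime p := by
      intro p hp
      rw [Nat.coprime_comm, hp.1.coprime_iff_not_dvd]
      intro hd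
      exact hH.2.1 p hp.1 hd hp
    have key : ∀ p ∈ tau2 M, ∃ T : Subgroup G, T ≤ A₀ ∧ IsPGroup p ↥T ∧
        H ≤ Subgroup.normalizer (T : Set G) ∧
        (∀ x ∈ T, x ≠ 1 → sigmaCore M ⊓ Subgroup.centralizer ({x} : Set G) = ⊥) ∧
        ∀ x ∈ E, (∃ k : ℕ, x ^ p ^ k = 1) → ∃ t ∈ T, orderOf x ∣ orderOf t := by
      intro p hp
      haveI hpf : Fact p.Prime := ⟨hp.1⟩
      obtain ⟨Q, A, d⟩ := c.exists_tData hp
      obtain ⟨T, hTQ, hHT, hTreg, t, htT, ht⟩ :=
        d.exists_regular_invariant_cyclic c (hab p hp hpf) hreg hH.1 (hHp p hp)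
      refine ⟨T, hTQ.trans (hQ p hp hpf Q A d), d.hQE.isPGroup.to_le hTQ, hHT, hTreg, ?_⟩
      rintro x hxE ⟨k, hk⟩
      refine ⟨t, htT, ht x ?_⟩
      have hxp : IsPGroup p ↥(Subgroup.zpowers x) := by
        apply IsPGroup.of_card (n := (Nat.card ↥(Subgroup.zpowers x)).factorization p)
        rw [Nat.card_zpowers]
        obtain ⟨j, hj, hjo⟩ := (Nat.dvd_prime_pow hp.1).1 (orderOf_dvd_of_pow_eq_one hk)
        rw [hjo, hp.1.factorization_pow]
        simp
      exact le_of_sylIn_normal d.hQE (d.le_normalizer_sylow c (hab p hp hpf)) hxp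
        (Subgroup.zpowers_le.2 hxE) (Subgroup.mem_zpowers x)
    choose T hT using key
    set T' : ℕ → Subgroup G := fun p => if h : p ∈ tau2 M then T p h else ⊥ with hT'
    have hT'eq : ∀ p (h : p ∈ tau2 M), T' p = T p h := fun p h => by simp [hT', h]
    obtain ⟨E₀, hE₀E, hexp, hE₀⟩ := Cfsg.Agent.Lib.H16.SameExp.exists_same_exponent_of_family
      (π := tau2 M) (fun p hp => hp.1) hH T'
      (fun p hp => by rw [hT'eq p hp]; exact (hT p hp).1.trans hA₀E)
      (fun p hp => by rw [hT'eq p hp]; exact (hT p hp).2.1)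
      (fun p hp => by rw [hT'eq p hp]; exact (hT p hp).2.2.1)
      (fun p hp q hq x hx y hy => by
        rw [hT'eq p hp] at hx
        rw [hT'eq q hq] at hy
        exact comm_of_mem hA₀c ((hT p hp).1 hx) ((hT q hq).1 hy))
      (fun p hp x hx hxp => by rw [hT'eq p hp]; exact (hT p hp).2.2.2.2 x hx hxp)
    refine ⟨E₀, hE₀E, hexp, ?_⟩
    intro e he he1
    apply regular_of_prime_powers he1
    intro q hq hqd
    by_contra hbad
    set e' := e ^ (orderOf e / q) with he'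
    have ho : orderOf e' = q := orderOf_pow_orderOf_div (orderOf_pos e).ne' hqd
    have he'E₀ : e' ∈ E₀ := E₀.pow_mem he _
    have he'1 : e' ≠ 1 := by
      intro h
      rw [h, orderOf_one] at ho
      exact hq.one_lt.ne ho
    have hqτ : q ∈ tau2 M :=
      tau2_of_bad c.hG c.hU c.hM c.hE hreg (hE₀E he'E₀) hbad hq (by rw [ho])
    have hmemT := hE₀ e' he'E₀ q hqτ ho
    rw [hT'eq q hqτ] at hmemT
    exact hbad ((hT q hqτ).2.2.2.1 e' hmemT he'1)

end Cfsg.Agent.Lib.H8.BG12
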