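import Mathlib
import Cfsg.Agent.Lib.H8.BG1213g

/-!
helper8 library: BG Lemma 12.13-type analysis (S1421), part h: the nonabelian case, the elements
of `E` with fixed points on `M_σ`.
-/

set_option autoImplicit false
set_option linter.style.haveILetI false
set_option linter.unusedSectionVars false
set_option linter.unusedVariables false
set_option maxHeartbeats 800000

open Cfsg

namespace Cfsg.Agent.Lib.H8.BG12

open Cfsg.Agent.Lib.H16.BG
open Cfsg.Agent.Lib.H7.BG7
open Cfsg.Agent.Lib.H7.BG10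
open Cfsg.Agent.Lib.H20.BGS
open Cfsg.Agent.Lib.H19 (IsPiCard)
open Cfsg.Agent.Lib.H8.BG11
open scoped commutatorElement Pointwise

universe u
variable {G : Type u} [Group G] [Finite G]

local notation:max "cj(" g ", " X ")" => Subgroup.map (MulEquiv.toMonoidHom (MulAut.conj g)) X

namespace TData

variable {M E : Subgroup G} {p : ℕ} [hpf : Fact p.Prime] {Q A : Subgroup G}

/-- an element normalizing a line of `A` with fixed points on `M_σ` lies in `M`. -/
theorem mem_of_mem_normalizer_bad (c : Ctx M E) (d : TData M E p Q A) {X : Subgroup G}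
    (hXA : X ≤ A) (hXc : Nat.card X = p)
    (hbad : sigmaCore M ⊓ Subgroup.centralizer (X : Set G) ≠ ⊥) {y : G}
    (hy : y ∈ Subgroup.normalizer (X : Set G)) : y ∈ M := by
  have h := d.uniq c hXA hXc hbad
  apply mem_of_unique_centralizer_cj c.hG c.hM h.1
  rw [cj_eq_self_of_mem_normalizer hy]
  exact h.2

/-- a Sylow `p`-subgroup of `G` above `Q` and an element of it normalizing `Q` outside `M`. -/
theorem exists_sylow_above (c : Ctx M E) (d : TData M E p Q A)
    (hS : ∀ S : Sylow p G, ¬ IsMulCommutative (S : Subgroup G)) :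
    ∃ (Sh : Sylow p G) (x : G), Q ≤ (Sh : Subgroup G) ∧ x ∈ (Sh : Subgroup G) ∧
      x ∈ Subgroup.normalizer (Q : Set G) ∧ x ∉ M := by
  obtain ⟨Sh, hSSh⟩ := d.hQE.isPGroup.exists_le_sylow
  have hne : Q ≠ (Sh : Subgroup G) := by
    intro h
    apply hS Sh
    rw [← h]; exact d.hQc
  have hlt : Q < (Sh : Subgroup G) := lt_of_le_of_ne hSSh hne
  have hlt2 := Cfsg.Agent.Lib.H10.lt_inf_normalizer_of_lt Sh.2 hlt
  obtain ⟨x, hx, hxS⟩ := SetLike.exists_of_lt hlt2
  refine ⟨Sh, x, hSSh, hx.1, hx.2, ?_⟩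
  intro hxM
  have h1 : IsPGroup p ↥(Q ⊔ Subgroup.zpowers x) :=
    Sh.2.to_le (sup_le hSSh ((Subgroup.zpowers_le).2 hx.1))
  have h2 : Q = Q ⊔ Subgroup.zpowers x :=
    d.hQM.eq_of_le le_sup_left (sup_le d.hQM.le ((Subgroup.zpowers_le).2 hxM)) h1
  apply hxS
  rw [h2]
  exact Subgroup.mem_sup_right (Subgroup.mem_zpowers x)

/-- the cyclic subgroup containing the `p`-th powers of `Q`. -/
theorem exists_cyclic_pow (c : Ctx M E) (d : TData M E p Q A) (Sh : Sylow p G)
    (hSh : ¬ IsMulCommutative ↥(Sh : Subgroup G)) (hQSh : Q ≤ (Sh : Subgroup G)) :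
    ∃ R₁ : Subgroup G, IsCyclic ↥R₁ ∧ ∀ g ∈ Q, g ^ p ∈ R₁ := by
  have hmax := (rank_two_not_ideal c.hG c.hU c.hM d.hp.2.2.1 d.hp.2.2.2).2 A d.hAM d.hAe d.hAc
  obtain ⟨R₁, hR₁, h⟩ := exists_cyclic_pow_mem c.hG Sh hSh (d.hAQ.trans hQSh) d.hAe d.hAc hmax
  exact ⟨R₁, hR₁, fun g hg => h g (hQSh hg) (fun a ha => comm_of_mem d.hQc hg (d.hAQ ha))⟩

/-- the line `A₀ = C_A(M_σ)`. -/
def lineZero (M A : Subgroup G) : Subgroup G := A ⊓ Subgroup.centralizer (sigmaCore M : Set G)

theorem lineZero_le (M A : Subgroup G) : lineZero M A ≤ A := inf_le_left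

theorem le_normalizer_lineZero (c : Ctx M E) (d : TData M E p Q A) :
    E ≤ Subgroup.normalizer ((lineZero M A : Subgroup G) : Set G) := by
  have h1 : E ≤ Subgroup.normalizer (A : Set G) := d.le_normalizer c
  have h2 : E ≤ Subgroup.normalizer ((Subgroup.centralizer (sigmaCore M : Set G) : Subgroup G) : Set G) :=
    (c.le.trans (Cfsg.Agent.Lib.H16.BG.le_normalizer_sigmaCore M)).trans
      (normalizer_le_normalizer_centralizer (sigmaCore M))
  intro e he
  rw [Subgroup.mem_normalizer_iff]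
  intro a
  constructor
  · rintro ⟨ha1, ha2⟩
    exact ⟨(Subgroup.mem_normalizer_iff.1 (h1 he) a).1 ha1,
      (Subgroup.mem_normalizer_iff.1 (h2 he) a).1 ha2⟩
  · rintro ⟨ha1, ha2⟩
    exact ⟨(Subgroup.mem_normalizer_iff.1 (h1 he) a).2 ha1,
      (Subgroup.mem_normalizer_iff.1 (h2 he) a).2 ha2⟩

theorem thm127 (c : Ctx M E) (d : TData M E p Q A)
    (hS : ∀ S : Sylow p G, ¬ IsMulCommutative (S : Subgroup G)) :
    Nat.card ↥(lineZero M A) = p ∧
      ∀ X : Subgroup G, X ≤ E → Nat.card X = p → X ≠ lineZero M A →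
        sigmaCore M ⊓ Subgroup.centralizer (X : Set G) = ⊥ := by
  obtain ⟨⟨h1, -⟩, h2⟩ := thm_12_7_bc c.hG c.hU c.hC c.h17 M c.hM E c.hE p d.hp hS A d.hAE d.hAe
    d.hAc
  exact ⟨h1, fun X hXE hXc hne => (h2 X hXE hXc hne).1⟩

/-- `A₀` has fixed points on `M_σ`. -/
theorem lineZero_bad (c : Ctx M E) :
    sigmaCore M ⊓ Subgroup.centralizer ((lineZero M A : Subgroup G) : Set G) ≠ ⊥ := by
  intro h
  apply c.sigmaCore_ne_bot
  rw [eq_bot_iff, ← h]
  refine le_inf le_rfl ?_
  intro x hx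
  rw [Subgroup.mem_centralizer_iff]
  intro a ha
  exact ((Subgroup.mem_centralizer_iff.1 ha.2) x hx).symm

/-- **N1**: in the nonabelian case, an element of `E` with fixed points on `M_σ` lies in `A₀`. -/
theorem mem_lineZero_of_bad (c : Ctx M E) (d : TData M E p Q A)
    (hS : ∀ S : Sylow p G, ¬ IsMulCommutative (S : Subgroup G)) (hreg : HypReg M E) {e : G}
    (he : e ∈ E) (hbad : sigmaCore M ⊓ Subgroup.centralizer ({e} : Set G) ≠ ⊥) :
    e ∈ lineZero M A := by
  have hpp : p.Prime := d.prime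
  have hτ : tau2 M = {p} := tau2_eq_singleton c.hG c.hU c.hC c.h17 M c.hM E c.hE p d.hp hS A d.hAE
    d.hAe d.hAc
  obtain ⟨hA₀c, hlines⟩ := d.thm127 c hS
  obtain ⟨Sh, x, hQSh, hxSh, hxN, hxM⟩ := d.exists_sylow_above c hS
  obtain ⟨R₁, hR₁, hpow⟩ := d.exists_cyclic_pow c Sh (hS Sh) hQSh
  -- `e` is a `p`-element
  have huniq : ∀ {r : ℕ}, r.Prime → r ∣ orderOf e → r = p := by
    intro r hr hrd
    have := tau2_of_bad c.hG c.hU c.hM c.hE hreg he hbad hr hrd
    rw [hτ] at this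
    exact this
  have hek := Nat.eq_prime_pow_of_unique_prime_dvd (orderOf_pos e).ne' huniq
  set j := (orderOf e).primeFactorsList.length with hj
  have hep : IsPGroup p ↥(Subgroup.zpowers e) := by
    apply IsPGroup.of_card (n := j)
    rw [Nat.card_zpowers, hek]
  -- conjugate `e` into `Q`
  obtain ⟨g, hgE, hgQ⟩ := d.hQE.exists_conj_le hep (Subgroup.zpowers_le.2 he)
  set e' := g * e * g⁻¹ with he'
  have he'Q : e' ∈ Q := hgQ ⟨e, Subgroup.mem_zpowers e, by simp [MulAut.conj_apply, he']⟩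
  have hoe' : orderOf e' = p ^ j := by
    rw [he', ← hek]
    exact Cfsg.Agent.Lib.H16.SameExp.orderOf_conj' g e
  -- `e'` has fixed points
  obtain ⟨⟨k, hkK, hkC⟩, hk1'⟩ := (Subgroup.ne_bot_iff_exists_ne_one).1 hbad
  have hk1 : k ≠ 1 := fun h => hk1' (Subtype.ext h)
  have hgK : g ∈ Subgroup.normalizer ((sigmaCore M : Subgroup G) : Set G) :=
    Cfsg.Agent.Lib.H16.BG.le_normalizer_sigmaCore M (c.le hgE)
  have hbad' : ∀ n : ℕ, sigmaCore M ⊓ Subgroup.centralizer ({e' ^ n} : Set G) ≠ ⊥ := by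
    intro n h
    apply hk1
    have : g * k * g⁻¹ ∈ sigmaCore M ⊓ Subgroup.centralizer ({e' ^ n} : Set G) := by
      refine ⟨(Subgroup.mem_normalizer_iff.1 hgK k).1 hkK, ?_⟩
      show g * k * g⁻¹ ∈ Subgroup.centralizer ({e' ^ n} : Set G)
      rw [Subgroup.mem_centralizer_singleton_iff]
      have hke : k * e = e * k := by
        have := Subgroup.mem_centralizer_singleton_iff.1 hkC
        exact this
      have h1 : (g * k * g⁻¹) * e' = e' * (g * k * g⁻¹) := by
        rw [he']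
        calc g * k * g⁻¹ * (g * e * g⁻¹) = g * (k * e) * g⁻¹ := by group
          _ = g * (e * k) * g⁻¹ := by rw [hke]
          _ = g * e * g⁻¹ * (g * k * g⁻¹) := by group
      exact (Commute.pow_right (show Commute (g * k * g⁻¹) e' from h1) n).eq
    rw [h] at this
    have h2 := Subgroup.mem_bot.1 this
    have : k = g⁻¹ * (g * k * g⁻¹) * g := by group
    rw [this, h2]; group
  -- it suffices to treat `e'`
  suffices hsuff : e' ∈ lineZero M A by
    have hgN := d.le_normalizer_lineZero c (Subgroup.inv_mem _ hgE)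
    have := (Subgroup.mem_normalizer_iff.1 hgN e').1 hsuff
    have h2 : g⁻¹ * e' * g⁻¹⁻¹ = e := by rw [he']; group
    rwa [h2] at this
  by_cases hj0 : j = 0
  · have : e' = 1 := by
      rw [hj0, pow_zero, orderOf_eq_one_iff] at hoe'
      exact hoe'
    rw [this]; exact Subgroup.one_mem _
  -- the element `w` of order `p`
  set w := e' ^ p ^ (j - 1) with hw
  have hwp : w ^ p = 1 := by
    rw [hw, ← pow_mul, ← pow_succ, show j - 1 + 1 = j by omega, ← hoe']
    exact pow_orderOf_eq_one e'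
  have hw1 : w ≠ 1 := by
    intro h
    have h1 : orderOf e' ∣ p ^ (j - 1) := orderOf_dvd_of_pow_eq_one h
    rw [hoe'] at h1
    have h2 := Nat.le_of_dvd (pow_pos hpp.pos _) h1
    have h3 : p ^ (j - 1) < p ^ j := Nat.pow_lt_pow_right hpp.one_lt (by omega)
    omega
  have hwQ : w ∈ Q := Q.pow_mem he'Q _
  have hWc : Nat.card ↥(Subgroup.zpowers w) = p := by
    rw [Nat.card_zpowers]; exact orderOf_eq_prime hwp hw1
  have hWE : Subgroup.zpowers w ≤ E := Subgroup.zpowers_le.2 (d.hQE.le hwQ)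
  have hWbad : sigmaCore M ⊓ Subgroup.centralizer ((Subgroup.zpowers w : Subgroup G) : Set G) ≠ ⊥ := by
    rw [centralizer_zpowers_eq]
    exact hbad' _
  have hWeq : Subgroup.zpowers w = lineZero M A := by
    by_contra hne
    exact hWbad (hlines _ hWE hWc hne)
  by_cases hj1 : j = 1
  · have : e' = w := by rw [hw, hj1]; simp
    rw [this, ← hWeq]
    exact Subgroup.mem_zpowers w
  -- `j ≥ 2`: contradiction
  exfalso
  have hexp : p ^ (j - 1) = p * p ^ (j - 2) := by
    rw [← pow_succ']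
    congr 1
    omega
  have hwR : w ∈ R₁ := by
    have : w = (e' ^ p) ^ p ^ (j - 2) := by
      rw [hw, ← pow_mul, hexp]
    rw [this]
    exact Subgroup.pow_mem _ (hpow e' he'Q) _
  have hxe'Q : x * e' * x⁻¹ ∈ Q := (Subgroup.mem_normalizer_iff.1 hxN e').1 he'Q
  have hw'R : x * w * x⁻¹ ∈ R₁ := by
    have : x * w * x⁻¹ = ((x * e' * x⁻¹) ^ p) ^ p ^ (j - 2) := by
      rw [← pow_mul, ← hexp, conj_pow, hw]
    rw [this]
    exact Subgroup.pow_mem _ (hpow _ hxe'Q) _
  have hw'p : (x * w * x⁻¹) ^ p = 1 := by rw [conj_pow, hwp]; group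
  have hw'1 : x * w * x⁻¹ ≠ 1 := by
    intro h
    apply hw1
    have : w = x⁻¹ * (x * w * x⁻¹) * x := by group
    rw [this, h]; group
  have hz := zpowers_eq_of_mem_cyclic hR₁ hpp hwR hw'R hwp hw1 hw'p hw'1
  have hxW : x ∈ Subgroup.normalizer ((Subgroup.zpowers w : Subgroup G) : Set G) := by
    rw [Subgroup.mem_normalizer_iff_map_conj_eq, MonoidHom.map_zpowers]
    show Subgroup.zpowers (x * w * x⁻¹) = Subgroup.zpowers w
    exact hz.symm
  have hWA : Subgroup.zpowers w ≤ A := by rw [hWeq]; exact lineZero_le M A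
  exact hxM (d.mem_of_mem_normalizer_bad c hWA hWc hWbad hxW)

end TData

end Cfsg.Agent.Lib.H8.BG12
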