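import Mathlib
import Cfsg.Agent.Lib.H8.BG1213h
import Cfsg.Agent.Lib.H16.SameExp4

/-!
helper8 library: BG Lemma 12.13-type analysis (S1421), part i: the nonabelian case, the subgroup
`T` and the conclusion.
-/

set_option autoImplicit false
set_option linter.style.haveILetI false
set_option linter.unusedSectionVars false
set_option linter.unusedVariables false
set_option maxHeartbeats 800000

open Cfsg

namespace Cfsg.Agent.Lib.H8.BG12

open Cfsg.Agent.Lib.H16.BG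
open Cfsg.Agent.Lib.H7.BG7
open Cfsg.Agent.Lib.H7.BG10
open Cfsg.Agent.Lib.H20.BGS
open Cfsg.Agent.Lib.H19 (IsPiCard)
open Cfsg.Agent.Lib.H8.BG11
open scoped commutatorElement Pointwise

universe u
variable {G : Type u} [Group G] [Finite G]

local notation:max "cj(" g ", " X ")" => Subgroup.map (MulEquiv.toMonoidHom (MulAut.conj g)) X

/-- the exponent of a nontrivial `p`-subgroup. -/
theorem exists_exponent_pGroup {p : ℕ} [Fact p.Prime] {Q : Subgroup G} (hQp : IsPGroup p ↥Q)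
    (hQ1 : Q ≠ ⊥) :
    ∃ e : ℕ, (∀ x ∈ Q, x ^ p ^ (e + 1) = 1) ∧ ∃ y ∈ Q, y ^ p ^ e ≠ 1 := by
  classical
  have hex : ∃ n : ℕ, ∀ x ∈ Q, x ^ p ^ n = 1 := by
    obtain ⟨m, hm⟩ := IsPGroup.iff_card.1 hQp
    refine ⟨m, fun x hx => ?_⟩
    have := pow_card_eq_one' (G := ↥Q) (x := ⟨x, hx⟩)
    rw [hm] at this
    have h2 := congrArg Subtype.val this
    simpa using h2
  have hnspec : ∀ x ∈ Q, x ^ p ^ (Nat.find hex) = 1 := Nat.find_spec hex
  have hn0 : Nat.find hex ≠ 0 := by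
    intro h0
    apply hQ1
    rw [eq_bot_iff]
    intro x hx
    have := hnspec x hx
    rw [h0, pow_zero, pow_one] at this
    exact Subgroup.mem_bot.2 this
  obtain ⟨e, he⟩ : ∃ e, Nat.find hex = e + 1 := Nat.exists_eq_succ_of_ne_zero hn0
  refine ⟨e, he ▸ hnspec, ?_⟩
  have hmin : ¬ ∀ x ∈ Q, x ^ p ^ e = 1 := Nat.find_min hex (by omega)
  push Not at hmin
  exact hmin

/-- a subgroup of order `p` is generated by each of its nonidentity elements. -/
theorem eq_zpowers_of_card_prime {p : ℕ} (hp : p.Prime) {X : Subgroup G} (hXc : Nat.card X = p)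
    {a : G} (ha : a ∈ X) (ha1 : a ≠ 1) : X = Subgroup.zpowers a :=
  le_antisymm (le_zpowers_of_card_prime hp hXc ha ha1) (Subgroup.zpowers_le.2 ha)

/-- an elementary abelian subgroup of order `p²` is not contained in a cyclic subgroup. -/
theorem not_le_cyclic_of_elemAb_sq {p : ℕ} (hp : p.Prime) {A R : Subgroup G}
    (hAe : IsElementaryAbelian p A) (hAc : Nat.card A = p ^ 2) (hR : IsCyclic ↥R) : ¬ A ≤ R := by
  intro hAR
  have hA1 : A ≠ ⊥ := elemAb_sq_ne_bot hp hAc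
  obtain ⟨⟨a₀, ha₀⟩, ha₀1'⟩ := (Subgroup.ne_bot_iff_exists_ne_one).1 hA1
  have ha₀1 : a₀ ≠ 1 := fun h => ha₀1' (Subtype.ext h)
  have hle : A ≤ Subgroup.zpowers a₀ := by
    intro a ha
    by_cases ha1 : a = 1
    · rw [ha1]; exact Subgroup.one_mem _
    · have := zpowers_eq_of_mem_cyclic hR hp (hAR ha) (hAR ha₀) (hAe.2 a ha) ha1 (hAe.2 a₀ ha₀)
        ha₀1
      rw [← this]; exact Subgroup.mem_zpowers a
  haveI : Fact p.Prime := ⟨hp⟩
  have h1 := Subgroup.card_le_of_le hle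
  rw [hAc, Nat.card_zpowers, orderOf_eq_prime (hAe.2 a₀ ha₀) ha₀1] at h1
  have : p ^ 1 < p ^ 2 := Nat.pow_lt_pow_right hp.one_lt (by norm_num)
  rw [pow_one] at this
  omega

namespace TData

variable {M E : Subgroup G} {p : ℕ} [hpf : Fact p.Prime] {Q A : Subgroup G}

/-- **N2**: the cyclic subgroup `T` in the nonabelian case. -/
theorem exists_regular_cyclic_nonabelian (c : Ctx M E) (d : TData M E p Q A)
    (hS : ∀ S : Sylow p G, ¬ IsMulCommutative (S : Subgroup G)) {H₁ : Subgroup G}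
    (hH₁E : H₁ ≤ E) (hH₁Q : H₁ ≤ Subgroup.normalizer (Q : Set G))
    (hH₁p : (Nat.card ↥H₁).Coprime p) :
    ∃ T : Subgroup G, T ≤ Q ∧ H₁ ≤ Subgroup.normalizer (T : Set G) ∧ T ⊓ lineZero M A = ⊥ ∧
      ∃ t ∈ T, ∀ x ∈ Q, orderOf x ∣ orderOf t := by
  classical
  have hpp : p.Prime := d.prime
  have hQp : IsPGroup p ↥Q := d.hQE.isPGroup
  have hQ1 : Q ≠ ⊥ := _root_.ne_bot_of_le_ne_bot d.ne_bot d.hAQ
  obtain ⟨hA₀c, hlines⟩ := d.thm127 c hS
  have hA₀A : lineZero M A ≤ A := lineZero_le M A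
  obtain ⟨e, hexp, y₀, hy₀Q, hy₀1⟩ := exists_exponent_pGroup hQp hQ1
  rcases Nat.eq_zero_or_pos e with he0 | hepos
  · -- `Q` has exponent `p`
    subst he0
    obtain ⟨W', hW'A, hHW', hinf, hsup⟩ :=
      Cfsg.Agent.Lib.L0.BGSC.exists_invariant_compl_elemAb d.hAe hA₀A
        (hH₁E.trans (d.le_normalizer c)) (hH₁E.trans (d.le_normalizer_lineZero c)) hH₁p
    have hW'1 : W' ≠ ⊥ := by
      intro h
      rw [h, sup_bot_eq] at hsup
      have h1 := hA₀c
      rw [hsup, d.hAc] at h1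
      have : p ^ 1 < p ^ 2 := Nat.pow_lt_pow_right hpp.one_lt (by norm_num)
      rw [pow_one] at this
      omega
    obtain ⟨⟨t, htW⟩, ht1'⟩ := (Subgroup.ne_bot_iff_exists_ne_one).1 hW'1
    have ht1 : t ≠ 1 := fun h => ht1' (Subtype.ext h)
    refine ⟨W', hW'A.trans d.hAQ, hHW', by rw [inf_comm]; exact hinf, t, htW, fun x hx => ?_⟩
    rw [orderOf_eq_prime (d.hAe.2 t (hW'A htW)) ht1]
    have := hexp x hx
    rw [zero_add, pow_one] at this
    exact orderOf_dvd_of_pow_eq_one this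
  · -- exponent at least `p²`
    obtain ⟨Sh, x, hQSh, hxSh, hxN, hxM⟩ := d.exists_sylow_above c hS
    obtain ⟨R₁, hR₁, hpow⟩ := d.exists_cyclic_pow c Sh (hS Sh) hQSh
    set V := powSubgroup Q d.hQc (p ^ e) with hV
    have hVA : V ≤ A := by
      rintro _ ⟨y, hy, rfl⟩
      apply (d.hΩ _ (Q.pow_mem hy _)).1
      rw [← pow_mul, ← pow_succ]
      exact hexp y hy
    have hV1 : V ≠ ⊥ := by
      intro h
      apply hy₀1
      have : y₀ ^ p ^ e ∈ V := ⟨y₀, hy₀Q, rfl⟩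
      rw [h] at this
      exact Subgroup.mem_bot.1 this
    have hVR : V ≤ R₁ := by
      rintro _ ⟨y, hy, rfl⟩
      have : y ^ p ^ e = (y ^ p) ^ p ^ (e - 1) := by
        rw [← pow_mul, ← pow_succ']
        congr 2
        omega
      rw [this]
      exact Subgroup.pow_mem _ (hpow y hy) _
    have hVne : V ≠ A := fun h => not_le_cyclic_of_elemAb_sq hpp d.hAe d.hAc hR₁ (h ▸ hVR)
    have hVc : Nat.card V = p := card_eq_of_ne_bot_of_ne hpp d.hAc hVA hV1 hVne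
    have hNV := normalizer_le_normalizer_powSubgroup Q d.hQc (p ^ e)
    have hVA₀ : V ≠ lineZero M A := by
      intro h
      apply hxM
      apply d.mem_of_mem_normalizer_bad c hA₀A hA₀c (lineZero_bad c)
      rw [← h]
      exact hNV hxN
    obtain ⟨T, hTQ, hTcyc, hTc, hVT, hHT⟩ :=
      Cfsg.Agent.Lib.L0.BGSC.exists_invariant_cyclic_of_abelian hQp d.hQc hH₁Q hH₁p
        (hVA.trans d.hAQ) hVc (hH₁Q.trans hNV) hexp hy₀Q ⟨y₀, hy₀Q, rfl⟩ hy₀1
    refine ⟨T, hTQ, hHT, ?_, ?_⟩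
    · by_contra hne
      obtain ⟨⟨a, haT, haA₀⟩, ha1'⟩ := (Subgroup.ne_bot_iff_exists_ne_one).1 hne
      have ha1 : a ≠ 1 := fun h => ha1' (Subtype.ext h)
      obtain ⟨⟨v, hvV⟩, hv1'⟩ := (Subgroup.ne_bot_iff_exists_ne_one).1 hV1
      have hv1 : v ≠ 1 := fun h => hv1' (Subtype.ext h)
      have hz := zpowers_eq_of_mem_cyclic hTcyc hpp haT (hVT hvV) (d.hAe.2 a (hA₀A haA₀)) ha1
        (d.hAe.2 v (hVA hvV)) hv1
      apply hVA₀
      rw [eq_zpowers_of_card_prime hpp hVc hvV hv1, eq_zpowers_of_card_prime hpp hA₀c haA₀ ha1, hz]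
    · haveI := hTcyc
      obtain ⟨g, hg⟩ := IsCyclic.exists_generator (α := ↥T)
      refine ⟨(g : G), g.2, fun x hx => ?_⟩
      have h1 : orderOf g = Nat.card ↥T := orderOf_eq_card_of_forall_mem_zpowers hg
      rw [Subgroup.orderOf_coe, h1, hTc]
      exact orderOf_dvd_of_pow_eq_one (hexp x hx)

end TData

end Cfsg.Agent.Lib.H8.BG12
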