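import Mathlib
import Cfsg.Agent.Lib.H8.BG1213i

/-!
helper8 library: BG Lemma 12.13-type analysis (S1421), part j: the conclusion in the nonabelian
case, and the theorem.
-/

set_option autoImplicit false
set_option linter.style.haveILetI false
set_option linter.unusedSectionVars false
set_option linter.unusedVariables false
set_option maxHeartbeats 1600000

open Cfsg

namespace Cfsg.Agent.Lib.H8.BG12

open Cfsg.Agent.Lib.H16.BG
open Cfsg.Agent.Lib.H7.BG7
open Cfsg.Agent.Lib.H7.BG10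
open Cfsg.Agent.Lib.H20.BGS
open Cfsg.Agent.Lib.H19 (IsPiCard)
open Cfsg.Agent.Lib.H8.BG11
open scoped commutatorElement Pointwise

universe u
variable {G : Type u} [Group G] [Finite G]

local notation:max "cj(" g ", " X ")" => Subgroup.map (MulEquiv.toMonoidHom (MulAut.conj g)) X

namespace TData

variable {M E : Subgroup G} {p : ℕ} [hpf : Fact p.Prime] {Q A : Subgroup G}

/-- the data for another Sylow `p`-subgroup of `E`. -/
theorem of_sylIn (c : Ctx M E) (d : TData M E p Q A) {Q' : Subgroup G} (hQ' : SylIn p Q' E) :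
    TData M E p Q' A := by
  have hQ'M : SylIn p Q' M := sylIn_of_compl c.hσ c.hE d.not_sigma hQ'
  have hAQ' : A ≤ Q' := le_of_sylIn_of_le_normalizer hQ' d.isPGroup d.hAE (d.le_normalizer c)
  have h17 := (c.hT M c.hM p d.hp A d.hAM d.hAe d.hAc).1
  obtain ⟨P, hP⟩ := hQ'M.exists_sylow
  have h2 := (h17 P).2 (by rw [hP]; exact hAQ')
  rw [hP] at h2
  exact ⟨d.hp, hQ', hQ'M, hAQ', d.hAe, d.hAc, sylIn_comm hQ'M (fun P => (h17 P).1), h2⟩

end TData

/-- a subgroup of `E` containing `E'` is normal in `E`. -/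
theorem le_normalizer_of_commutator_le {E N : Subgroup G} (hNE : N ≤ E) (h : ⁅E, E⁆ ≤ N) :
    E ≤ Subgroup.normalizer (N : Set G) := by
  have key : ∀ g ∈ E, ∀ n ∈ N, g * n * g⁻¹ ∈ N := by
    intro g hg n hn
    have h1 : ⁅g, n⁆ ∈ N := h (Subgroup.commutator_mem_commutator hg (hNE hn))
    have h2 : g * n * g⁻¹ = ⁅g, n⁆ * n := by rw [commutatorElement_def]; group
    rw [h2]
    exact N.mul_mem h1 hn
  intro g hg
  rw [Subgroup.mem_normalizer_iff]
  intro n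
  constructor
  · exact key g hg n
  · intro h'
    have := key g⁻¹ (E.inv_mem hg) _ h'
    simpa [mul_assoc] using this

/-- a `{p}`-Hall subgroup is a Sylow subgroup. -/
theorem sylIn_of_isPiHallOf_singleton {p : ℕ} [hp : Fact p.Prime] {Q N : Subgroup G}
    (h : IsPiHallOf ({p} : Set ℕ) Q N) : SylIn p Q N := by
  refine ⟨h.1, ?_, h.2.2 p hp.out (Set.mem_singleton p)⟩
  have huniq : ∀ {r : ℕ}, r.Prime → r ∣ Nat.card ↥Q → r = p := fun hr hrd => h.2.1 _ hr hrd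
  have := Nat.eq_prime_pow_of_unique_prime_dvd Nat.card_pos.ne' huniq
  exact IsPGroup.of_card this

/-- **S1421 in the nonabelian case**. -/
theorem concl_of_nonabelian {M E : Subgroup G} (c : Ctx M E) (hreg : HypReg M E) {p : ℕ}
    [hpf : Fact p.Prime] (hp : p ∈ tau2 M)
    (hS : ∀ S : Sylow p G, ¬ IsMulCommutative (S : Subgroup G)) : Concl M E := by
  classical
  have hpp : p.Prime := hpf.out
  haveI hEs : Group.IsSolvable ↥E := solvable_of_le_ne_top c.hG c.hM.1 c.le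
  obtain ⟨Q₀, A, d₀⟩ := c.exists_tData hp
  have hτ : tau2 M = {p} := tau2_eq_singleton c.hG c.hU c.hC c.h17 M c.hM E c.hE p hp hS A d₀.hAE
    d₀.hAe d₀.hAc
  have hA₀A : TData.lineZero M A ≤ A := TData.lineZero_le M A
  have hEA₀ := d₀.le_normalizer_lineZero c
  refine ⟨⟨TData.lineZero M A, hA₀A.trans d₀.hAE, hEA₀, isMulCommutative_of_le hA₀A d₀.hAe.1, ?_⟩,
    ?_⟩
  · rintro x hx hx1 e ⟨heE, heC⟩
    exact d₀.mem_lineZero_of_bad c hS hreg heE (bad_of_mem_centralizer hx hx1 heC)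
  -- the subgroup `E₀`
  have hE'π : IsPiCard (tau1 M)ᶜ (Nat.card ↥⁅E, E⁆) := by
    intro r hr hrd hr1
    apply hr1.2.2.2.1
    exact hrd.trans (Subgroup.card_dvd_of_le (Subgroup.commutator_mono c.le c.le))
  obtain ⟨N, hN, hE'N⟩ := Cfsg.Agent.Lib.H19.exists_isPiHallOf_ge (π := (tau1 M)ᶜ)
    (commutator_self_le E) hE'π
  have hEN : E ≤ Subgroup.normalizer (N : Set G) := le_normalizer_of_commutator_le hN.1 hE'N
  obtain ⟨D₁, hD₁⟩ := Cfsg.Agent.Lib.H19.exists_isPiHallOf E (tau1 M)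
  haveI hNs : Group.IsSolvable ↥N := solvable_of_le_ne_top c.hG c.hM.1 (hN.1.trans c.le)
  have hcop : Cfsg.Agent.Lib.H1.CoprimeAction D₁ N :=
    ⟨hD₁.1.trans hEN, Cfsg.Agent.Lib.H19.coprime_of_isPiCard hD₁.2.1 hN.2.1, Or.inr hNs⟩
  obtain ⟨Q, hQH, hD₁Q⟩ := Cfsg.Agent.Lib.H19.coprime_exists_invariant_hall hcop {p}
  have hQN : SylIn p Q N := sylIn_of_isPiHallOf_singleton hQH
  have hp1 : p ∉ tau1 M := fun h => hp.2.2.2 h.2.2.2.2
  have hp3 : p ∉ tau3 M := fun h => hp.2.2.2 h.2.2.2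
  have hQE : SylIn p Q E := by
    refine ⟨hQN.le.trans hN.1, hQN.isPGroup, fun hd => ?_⟩
    rw [← Subgroup.relIndex_mul_relIndex Q N E hQN.le hN.1, Nat.Prime.dvd_mul hpp] at hd
    rcases hd with hd | hd
    · exact hQN.2.2 hd
    · exact hN.2.2 p hpp hp1 hd
  have d : TData M E p Q A := d₀.of_sylIn c hQE
  have hD₁p : (Nat.card ↥D₁).Coprime p := by
    rw [Nat.coprime_comm, hpp.coprime_iff_not_dvd]
    exact fun hd => hp1 (hD₁.2.1 p hpp hd)
  obtain ⟨T, hTQ, hD₁T, hTA₀, t, htT, ht⟩ :=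
    d.exists_regular_cyclic_nonabelian c hS hD₁.1 hD₁Q hD₁p
  obtain ⟨E₃, hE₃⟩ := Cfsg.Agent.Lib.H19.exists_isPiHallOf E (tau3 M)
  have hEE₃ : E ≤ Subgroup.normalizer (E₃ : Set G) := (hall_tau3_structure c.hG c.hU c.hM c.hE hE₃).2.2
  -- `E₃ ⊔ D₁` is a Hall `p'`-subgroup of `E`
  have hHall : IsPiHallOf ({p}ᶜ : Set ℕ) (E₃ ⊔ D₁) E := by
    refine ⟨sup_le hE₃.1 hD₁.1, ?_, ?_⟩
    · intro r hr hrd hrp
      have hrp' : r = p := hrp
      subst hrp'
      have h1 : Nat.card ↥(D₁ ⊔ E₃ : Subgroup G) ∣ Nat.card ↥D₁ * Nat.card ↥E₃ :=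
        Cfsg.Agent.Lib.H19.card_sup_dvd_mul_of_le_normalizer (hD₁.1.trans hEE₃)
      rw [sup_comm] at hrd
      rcases (Nat.Prime.dvd_mul hr).1 (hrd.trans h1) with h | h
      · exact hp1 (hD₁.2.1 r hr h)
      · exact hp3 (hE₃.2.1 r hr h)
    · intro r hr hrp hrd
      have hrE : r ∣ Nat.card ↥E :=
        hrd.trans (Subgroup.relIndex_dvd_card _ _)
      rcases mem_tau_of_dvd_card_compl c.hG c.hU c.hM c.hE hr hrE with h | h | h
      · exact hD₁.2.2 r hr h (hrd.trans (Subgroup.relIndex_dvd_of_le_left E le_sup_right))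
      · rw [hτ] at h
        exact hrp h
      · exact hE₃.2.2 r hr h (hrd.trans (Subgroup.relIndex_dvd_of_le_left E le_sup_left))
  obtain ⟨E₀, hE₀E, hexp, hE₀⟩ := Cfsg.Agent.Lib.H16.SameExp.exists_same_exponent_of_normal_hall
    hE₃.1 hEE₃ hD₁.1 hHall (hTQ.trans hQE.le) (hQE.isPGroup.to_le hTQ) hD₁T (by
      rintro x hxE ⟨k, hk⟩
      have hxp : IsPGroup p ↥(Subgroup.zpowers x) := by
        apply IsPGroup.of_card (n := (Nat.card ↥(Subgroup.zpowers x)).factorization p)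
        rw [Nat.card_zpowers]
        obtain ⟨j, hj, hjo⟩ := (Nat.dvd_prime_pow hpp).1 (orderOf_dvd_of_pow_eq_one hk)
        rw [hjo, hpp.factorization_pow]
        simp
      obtain ⟨g, hgE, hgQ⟩ := hQE.exists_conj_le hxp (Subgroup.zpowers_le.2 hxE)
      have hx'Q : g * x * g⁻¹ ∈ Q :=
        hgQ ⟨x, Subgroup.mem_zpowers x, by simp [MulAut.conj_apply]⟩
      refine ⟨t, htT, ?_⟩
      rw [← Cfsg.Agent.Lib.H16.SameExp.orderOf_conj' g x]
      exact ht _ hx'Q)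
  refine ⟨E₀, hE₀E, hexp, ?_⟩
  intro e he he1
  apply regular_of_prime_powers he1
  intro q hq hqd
  by_contra hbad
  set e' := e ^ (orderOf e / q) with he'
  have ho : orderOf e' = q := orderOf_pow_orderOf_div (orderOf_pos e).ne' hqd
  have he'E₀ : e' ∈ E₀ := E₀.pow_mem he _
  have he'1 : e' ≠ 1 := by
    intro h
    rw [h, orderOf_one] at ho
    exact hq.one_lt.ne ho
  have hqτ : q ∈ tau2 M :=
    tau2_of_bad c.hG c.hU c.hM c.hE hreg (hE₀E he'E₀) hbad hq (by rw [ho])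
  rw [hτ] at hqτ
  have hqp : q = p := hqτ
  have he'A₀ : e' ∈ TData.lineZero M A := d.mem_lineZero_of_bad c hS hreg (hE₀E he'E₀) hbad
  obtain ⟨g, hgE₀, hgT⟩ := hE₀ e' he'E₀ (ho.trans hqp)
  have hgA₀ : g * e' * g⁻¹ ∈ TData.lineZero M A :=
    (Subgroup.mem_normalizer_iff.1 (hEA₀ (hE₀E hgE₀)) e').1 he'A₀
  have h1 : g * e' * g⁻¹ ∈ T ⊓ TData.lineZero M A := ⟨hgT, hgA₀⟩
  rw [hTA₀] at h1
  have h2 := Subgroup.mem_bot.1 h1
  apply he'1
  have : e' = g⁻¹ * (g * e' * g⁻¹) * g := by group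
  rw [this, h2]; group

/-- **BG Lemma 12.13-type statement (S1421)**, from the standing hypotheses. -/
theorem concl_of_ctx {M E : Subgroup G} (c : Ctx M E) (hreg : HypReg M E) : Concl M E := by
  by_cases hab : ∀ p ∈ tau2 M, ∀ _ : Fact p.Prime,
      ∃ S : Sylow p G, IsMulCommutative ↥(S : Subgroup G)
  · exact concl_of_abelian c hreg hab
  · push Not at hab
    obtain ⟨p, hp, hpf, hS⟩ := hab
    haveI := hpf
    exact concl_of_nonabelian c hreg hp hS

end Cfsg.Agent.Lib.H8.BG12
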