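import Mathlib
import Cfsg.Prelude.Def_OddOrderLocal
import Cfsg.Prelude.Def_LieExceptional
import Cfsg.Prelude.Def_SolvableStructure
import Cfsg.Agent.Lib.H1.FpfAction
import Cfsg.Agent.Lib.H1.NilpotentBasic
import Cfsg.Agent.Lib.H3.Schmidt2
import Cfsg.Agent.Lib.H7.CoprimeFactor
import Cfsg.Agent.Lib.H8.Nilpotent
import Cfsg.Agent.Lib.L0.DihedralSylow
import Cfsg.Agent.Lib.H7.TypeP
import Cfsg.Agent.Lib.H1.Fitting

/-!
# CN-groups acting without fixed points are nilpotent   (helper8)
-/

set_option autoImplicit false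

namespace Cfsg.Agent.Lib.H8

universe u v

theorem mem_centralizer_singleton' {G : Type*} [Group G] {x c : G} :
    c ∈ Subgroup.centralizer ({x} : Set G) ↔ x * c = c * x := by
  rw [Subgroup.mem_centralizer_iff]
  constructor
  · intro h; exact h x rfl
  · intro h y hy; rw [Set.mem_singleton_iff.mp hy]; exact h

theorem isNilpotent_of_injective' {A B : Type*} [Group A] [Group B] (φ : A →* B)
    (hφ : Function.Injective φ) [Group.IsNilpotent B] : Group.IsNilpotent A :=
  Group.nilpotent_of_mulEquiv (MonoidHom.ofInjective hφ).symm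

/-- a group embedding into a CN-group is a CN-group -/
theorem isCNGroup_of_injective {E G : Type*} [Group E] [Group G] (f : E →* G)
    (hf : Function.Injective f) (hCN : Cfsg.IsCNGroup G) : Cfsg.IsCNGroup E := by
  intro e he
  have hfe : f e ≠ 1 := fun h => he (hf (h.trans (map_one f).symm))
  haveI := hCN (f e) hfe
  let φ : ↥(Subgroup.centralizer ({e} : Set E)) →* ↥(Subgroup.centralizer ({f e} : Set G)) :=
    { toFun := fun x => ⟨f x.1, by
        rw [mem_centralizer_singleton', ← map_mul, ← map_mul,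
          mem_centralizer_singleton'.mp x.2]⟩
      map_one' := Subtype.ext (map_one f)
      map_mul' := fun x y => Subtype.ext (map_mul f x.1 y.1) }
  apply isNilpotent_of_injective' φ
  intro x y hxy
  apply Subtype.ext
  apply hf
  exact congrArg Subtype.val hxy

/-- an element of order `q` in the centre of a nontrivial `q`-subgroup -/
theorem exists_central_order_p {E : Type*} [Group E] [Finite E] (q : ℕ) [Fact q.Prime]
    (Q : Subgroup E) (hQ : IsPGroup q Q) (hQ1 : Q ≠ ⊥) :
    ∃ z ∈ Q, orderOf z = q ∧ ∀ u ∈ Q, z * u = u * z := by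
  haveI : Nontrivial Q := (Subgroup.nontrivial_iff_ne_bot Q).mpr hQ1
  haveI := hQ.center_nontrivial
  have hZq : IsPGroup q (Subgroup.center Q) := hQ.to_subgroup _
  have hdvd : q ∣ Nat.card (Subgroup.center Q) := by
    rcases hZq.card_eq_or_dvd with h | h
    · exfalso
      have := (Subgroup.center Q).one_lt_card_iff_ne_bot.mpr
        ((Subgroup.nontrivial_iff_ne_bot _).mp inferInstance)
      omega
    · exact h
  obtain ⟨x, hx⟩ := exists_prime_orderOf_dvd_card' q hdvd
  refine ⟨((x : Q) : E), (x : Q).2, ?_, ?_⟩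
  · rw [Subgroup.orderOf_coe, Subgroup.orderOf_coe]; exact hx
  · intro u hu
    have h := Subgroup.mem_center_iff.mp x.2 ⟨u, hu⟩
    have h2 := congrArg Subtype.val h
    simp only [Subgroup.coe_mul] at h2
    exact h2.symm

/-- in a finite cyclic group, an element killed by `q` lies in the subgroup generated by any
element of order `q` -/
theorem mem_zpowers_of_isCyclic {A : Type*} [Group A] [Finite A] [IsCyclic A] {q : ℕ}
    (hq : 0 < q) {a b : A} (ha : orderOf a = q) (hb : b ^ q = 1) : b ∈ Subgroup.zpowers a := by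
  classical
  haveI := Fintype.ofFinite A
  by_contra hb'
  have hS : (Finset.univ.filter (fun x : A => x ^ q = 1)).card ≤ q :=
    IsCyclic.card_pow_eq_one_le hq
  have hT : ((Finset.range q).image (fun i => a ^ i)).card = q := by
    rw [Finset.card_image_of_injOn, Finset.card_range]
    intro i hi j hj hij
    have hi' : i < orderOf a := by rw [ha]; exact Finset.mem_range.mp hi
    have hj' : j < orderOf a := by rw [ha]; exact Finset.mem_range.mp hj
    exact pow_injOn_Iio_orderOf hi' hj' hij
  have hbT : b ∉ (Finset.range q).image (fun i => a ^ i) := by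
    intro h
    obtain ⟨i, -, rfl⟩ := Finset.mem_image.mp h
    exact hb' (Subgroup.npow_mem_zpowers a i)
  have hsub : insert b ((Finset.range q).image (fun i => a ^ i)) ⊆
      Finset.univ.filter (fun x : A => x ^ q = 1) := by
    intro x hx
    rw [Finset.mem_filter]
    refine ⟨Finset.mem_univ _, ?_⟩
    rcases Finset.mem_insert.mp hx with rfl | hx
    · exact hb
    · obtain ⟨i, -, rfl⟩ := Finset.mem_image.mp hx
      rw [← pow_mul, mul_comm, pow_mul, ← ha, pow_orderOf_eq_one, one_pow]
  have := Finset.card_le_card hsub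
  rw [Finset.card_insert_of_notMem hbT, hT] at this
  omega

theorem isMulCommutative_closure_pair {G : Type*} [Group G] {a b : G} (h : a * b = b * a) :
    IsMulCommutative (Subgroup.closure ({a, b} : Set G)) := by
  have h1 : ∀ x ∈ Subgroup.closure ({a, b} : Set G), x * a = a * x ∧ x * b = b * x := by
    intro x hx
    have : Subgroup.closure ({a, b} : Set G) ≤ Subgroup.centralizer ({a, b} : Set G) := by
      rw [Subgroup.closure_le]
      intro y hy
      rw [SetLike.mem_coe, Subgroup.mem_centralizer_iff]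
      intro w hw
      rcases hy with rfl | rfl <;> rcases hw with rfl | rfl
      · rfl
      · exact h.symm
      · exact h
      · rfl
    have hx' := Subgroup.mem_centralizer_iff.mp (this hx)
    exact ⟨(hx' a (by simp)).symm, (hx' b (by simp)).symm⟩
  refine ⟨⟨fun x y => ?_⟩⟩
  apply Subtype.ext
  rw [Subgroup.coe_mul, Subgroup.coe_mul]
  have : Subgroup.closure ({a, b} : Set G) ≤ Subgroup.centralizer ({(x : G)} : Set G) := by
    rw [Subgroup.closure_le]
    intro w hw
    rw [SetLike.mem_coe, mem_centralizer_singleton']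
    rcases hw with rfl | rfl
    · exact (h1 x x.2).1
    · exact (h1 x x.2).2
  exact mem_centralizer_singleton'.mp (this y.2)


/-- A CN-group embedded in `G` and acting (by conjugation) without fixed points on a nontrivial
abelian subgroup `V` is nilpotent. -/
theorem nilpotent_of_fpf_cn_aux {G : Type v} [Group G] [Finite G] (V : Subgroup G)
    [IsMulCommutative V] (hV : V ≠ ⊥) :
    ∀ (n : ℕ) (E : Type u) [Group E] [Finite E], Nat.card E = n → Cfsg.IsCNGroup E →
      ∀ (ι : E →* G), Function.Injective ι →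
      (∀ e : E, ι e ∈ Subgroup.normalizer (V : Set G)) →
      (∀ e : E, e ≠ 1 → V ⊓ Subgroup.centralizer {ι e} = ⊥) → Group.IsNilpotent E := by
  intro n
  induction n using Nat.strong_induction_on with
  | _ n ih =>
  intro E _ _ hn hCN ι hι hnorm hfpf
  by_contra hnn
  have hmin : Cfsg.IsMinimalNonNilpotent E := by
    refine ⟨hnn, fun K hK => ?_⟩
    have hlt : Nat.card K < n := by
      rw [← hn]
      apply lt_of_le_of_ne (Subgroup.card_le_card_group K)
      intro h
      exact hK (Subgroup.card_eq_iff_eq_top K |>.mp h)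
    exact ih (Nat.card K) hlt K rfl (isCNGroup_of_injective K.subtype K.subtype_injective hCN)
      (ι.comp K.subtype) (hι.comp K.subtype_injective) (fun e => hnorm e)
      (fun e he => hfpf e (fun h => he (Subtype.ext h)))
  obtain ⟨p, q, hp, hq, hpq, P, Q, hPc, hQn, hPQ, hPn⟩ :=
    Cfsg.Agent.Lib.H3.schmidt_structure hmin
  haveI : Fact p.Prime := ⟨hp⟩
  haveI : Fact q.Prime := ⟨hq⟩
  have hQ1 : (Q : Subgroup E) ≠ ⊥ := by
    intro h
    rw [h, sup_bot_eq] at hPQ
    apply hPn
    rw [hPQ]; infer_instance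
  have hP1 : (P : Subgroup E) ≠ ⊥ := by
    intro h
    apply hPn
    rw [h]; infer_instance
  obtain ⟨z, hzQ, hzo, hzc⟩ := exists_central_order_p q (Q : Subgroup E) Q.isPGroup' hQ1
  have hz1 : z ≠ 1 := by
    intro h
    rw [h, orderOf_one] at hzo
    exact hq.one_lt.ne hzo
  -- an element of order p in P
  obtain ⟨c, hcP, hco⟩ : ∃ c ∈ (P : Subgroup E), orderOf c = p := by
    haveI : Nontrivial (P : Subgroup E) := (Subgroup.nontrivial_iff_ne_bot _).mpr hP1
    have hdvd : p ∣ Nat.card (P : Subgroup E) := by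
      rcases P.isPGroup'.card_eq_or_dvd with h | h
      · exfalso
        have := (P : Subgroup E).one_lt_card_iff_ne_bot.mpr hP1
        omega
      · exact h
    obtain ⟨x, hx⟩ := exists_prime_orderOf_dvd_card' p hdvd
    exact ⟨(x : E), x.2, by rw [Subgroup.orderOf_coe]; exact hx⟩
  have hc1 : c ≠ 1 := by
    intro h
    rw [h, orderOf_one] at hco
    exact hp.one_lt.ne hco
  -- fixed-point-freeness on subgroups of the range
  have hfpf' : ∀ (A : Subgroup G), A ≤ ι.range → ∀ a ∈ A, a ≠ 1 →
      V ⊓ Subgroup.centralizer {a} = ⊥ := by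
    intro A hA a ha ha1
    obtain ⟨e, rfl⟩ := hA ha
    exact hfpf e (fun h => ha1 (by rw [h, map_one]))
  have hnorm' : ∀ (A : Subgroup G), A ≤ ι.range → A ≤ Subgroup.normalizer (V : Set G) := by
    intro A hA a ha
    obtain ⟨e, rfl⟩ := hA ha
    exact hnorm e
  -- uniqueness of the subgroup of order q in Q
  have huniq : ∀ y ∈ (Q : Subgroup E), orderOf y = q → y ∈ Subgroup.zpowers z := by
    intro y hyQ hyo
    have hcomm : ι z * ι y = ι y * ι z := by rw [← map_mul, ← map_mul, hzc y hyQ]
    obtain ⟨A, hAdef⟩ : ∃ A : Subgroup G, A = Subgroup.closure ({ι z, ι y} : Set G) := ⟨_, rfl⟩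
    haveI : IsMulCommutative A := by rw [hAdef]; exact isMulCommutative_closure_pair hcomm
    have hAr : A ≤ ι.range := by
      rw [hAdef, Subgroup.closure_le]
      rintro w (rfl | rfl)
      · exact ⟨z, rfl⟩
      · exact ⟨y, rfl⟩
    have hcyc : IsCyclic A :=
      Cfsg.Agent.Lib.H1.isCyclic_of_fpf_of_comm hV (hnorm' A hAr) (hfpf' A hAr)
    have hzA : ι z ∈ A := by rw [hAdef]; exact Subgroup.subset_closure (by simp)
    have hyA : ι y ∈ A := by rw [hAdef]; exact Subgroup.subset_closure (by simp)
    have h1 : orderOf (⟨ι z, hzA⟩ : A) = q := by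
      rw [Subgroup.orderOf_mk, orderOf_injective ι hι, hzo]
    have h2 : (⟨ι y, hyA⟩ : A) ^ q = 1 := by
      apply Subtype.ext
      rw [Subgroup.coe_pow, Subgroup.coe_one]
      show ι y ^ q = 1
      rw [← map_pow, ← hyo, pow_orderOf_eq_one, map_one]
    have h3 := mem_zpowers_of_isCyclic hq.pos h1 h2
    obtain ⟨k, hk⟩ := Subgroup.mem_zpowers_iff.mp h3
    have hk' : ι z ^ k = ι y := by
      have := congrArg Subtype.val hk
      simpa using this
    rw [Subgroup.mem_zpowers_iff]
    refine ⟨k, hι ?_⟩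
    rw [map_zpow, hk']
  -- c normalizes zpowers z
  have hconj : ∀ w ∈ Subgroup.zpowers z, c * w * c⁻¹ ∈ Subgroup.zpowers z := by
    intro w hw
    obtain ⟨k, rfl⟩ := Subgroup.mem_zpowers_iff.mp hw
    have h1 : c * z * c⁻¹ ∈ Subgroup.zpowers z := by
      apply huniq _ (hQn.conj_mem z hzQ c)
      have h0 := MulEquiv.orderOf_eq (MulAut.conj c) z
      rw [MulAut.conj_apply] at h0
      rw [h0, hzo]
    have h2 : c * z ^ k * c⁻¹ = (c * z * c⁻¹) ^ k := by
      have := map_zpow (MulAut.conj c).toMonoidHom z k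
      simpa [MulAut.conj_apply] using this
    rw [h2]
    exact Subgroup.zpow_mem _ h1 k
  have hcN : Subgroup.zpowers c ≤ Subgroup.normalizer ((Subgroup.zpowers z : Subgroup E) : Set E) := by
    rw [Subgroup.zpowers_le]
    exact Cfsg.Agent.Lib.L0.mem_normalizer_of_forall_conj_mem _ c hconj
  -- c commutes with z
  have hcz : c * z = z * c := by
    obtain ⟨B₀, hB₀⟩ : ∃ B₀ : Subgroup E, B₀ = Subgroup.zpowers z ⊔ Subgroup.zpowers c := ⟨_, rfl⟩
    have hcardB₀ : Nat.card B₀ = q * p := by
      have h1 : Nat.card B₀ ∣ q * p := by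
        have := Cfsg.Agent.Lib.H7.card_sup_dvd_mul_of_le_normalizer hcN
        rwa [Nat.card_zpowers, Nat.card_zpowers, hzo, hco, ← hB₀] at this
      have h2 : q ∣ Nat.card B₀ := by
        have := Subgroup.card_dvd_of_le (show Subgroup.zpowers z ≤ B₀ by rw [hB₀]; exact le_sup_left)
        rwa [Nat.card_zpowers, hzo] at this
      have h3 : p ∣ Nat.card B₀ := by
        have := Subgroup.card_dvd_of_le (show Subgroup.zpowers c ≤ B₀ by rw [hB₀]; exact le_sup_right)
        rwa [Nat.card_zpowers, hco] at this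
      have hcop : q.Coprime p := (Nat.coprime_primes hq hp).mpr (Ne.symm hpq)
      exact Nat.dvd_antisymm h1 (hcop.mul_dvd_of_dvd_of_dvd h2 h3)
    obtain ⟨B, hB⟩ : ∃ B : Subgroup G, B = B₀.map ι := ⟨_, rfl⟩
    have hBr : B ≤ ι.range := by
      rw [hB]; rintro _ ⟨e, -, rfl⟩; exact ⟨e, rfl⟩
    have hcardB : Nat.card B = q * p := by
      rw [hB, Subgroup.card_map_of_injective hι, hcardB₀]
    have hcyc : IsCyclic B :=
      Cfsg.Agent.Lib.H1.isCyclic_of_fpf_of_card_pq hV (hnorm' B hBr) (hfpf' B hBr) hq hp hcardB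
    have hzB : ι z ∈ B := by
      rw [hB]; exact Subgroup.mem_map_of_mem _ (by rw [hB₀]; exact Subgroup.mem_sup_left (Subgroup.mem_zpowers z))
    have hcB : ι c ∈ B := by
      rw [hB]; exact Subgroup.mem_map_of_mem _ (by rw [hB₀]; exact Subgroup.mem_sup_right (Subgroup.mem_zpowers c))
    have hcomm := (IsCyclic.commGroup (α := B)).mul_comm ⟨ι c, hcB⟩ ⟨ι z, hzB⟩
    have hcomm' := congrArg Subtype.val hcomm
    simp only [Subgroup.coe_mul] at hcomm'
    apply hι
    rw [map_mul, map_mul]
    exact hcomm'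
  -- c centralizes Q
  have hnil := hCN z hz1
  have hcQ : ∀ u ∈ (Q : Subgroup E), c * u = u * c := by
    intro u hu
    apply mul_comm_of_coprime_of_mem_nilpotent _ hnil
    · exact mem_centralizer_singleton'.mpr hcz.symm
    · exact mem_centralizer_singleton'.mpr (hzc u hu)
    · rw [hco]
      obtain ⟨k, hk⟩ := Q.isPGroup' ⟨u, hu⟩
      have hk' : u ^ q ^ k = 1 := by
        have := congrArg Subtype.val hk
        simpa using this
      have hd : orderOf u ∣ q ^ k := orderOf_dvd_of_pow_eq_one hk'
      exact Nat.Coprime.coprime_dvd_right hd (((Nat.coprime_primes hp hq).mpr hpq).pow_right k)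
  have hcP' : ∀ u ∈ (P : Subgroup E), c * u = u * c := by
    intro u hu
    have := (IsCyclic.commGroup (α := (P : Subgroup E))).mul_comm ⟨c, hcP⟩ ⟨u, hu⟩
    exact congrArg Subtype.val this
  have htop : Subgroup.centralizer ({c} : Set E) = ⊤ := by
    rw [eq_top_iff, ← hPQ, sup_le_iff]
    exact ⟨fun u hu => mem_centralizer_singleton'.mpr (hcP' u hu),
      fun u hu => mem_centralizer_singleton'.mpr (hcQ u hu)⟩
  have hnilc := hCN c hc1
  rw [htop] at hnilc
  haveI := hnilc
  exact hnn (Group.nilpotent_of_mulEquiv Subgroup.topEquiv)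

/-- A subgroup `E` of a finite CN-group normalizing a nontrivial abelian subgroup `V` and acting
on it without fixed points is nilpotent. -/
theorem nilpotent_of_fpf_cn {G : Type*} [Group G] [Finite G] (hCN : Cfsg.IsCNGroup G)
    (V E : Subgroup G) [IsMulCommutative V] (hV : V ≠ ⊥)
    (hEV : E ≤ Subgroup.normalizer (V : Set G))
    (hfpf : ∀ e ∈ E, e ≠ 1 → V ⊓ Subgroup.centralizer {e} = ⊥) : Group.IsNilpotent E :=
  nilpotent_of_fpf_cn_aux V hV (Nat.card E) E rfl
    (isCNGroup_of_injective E.subtype E.subtype_injective hCN) E.subtype E.subtype_injective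
    (fun e => hEV e.2) (fun e he => hfpf e e.2 (fun h => he (Subtype.ext h)))


theorem fittingHall_isNilpotent {G : Type*} [Group G] [Finite G] :
    Group.IsNilpotent (Cfsg.fittingHall G) := by
  have hle : Cfsg.fittingHall G ≤ Cfsg.fittingSubgroup G :=
    sSup_le (fun N hN => Cfsg.Agent.Lib.H1.le_fittingSubgroup hN.1 hN.2.1)
  haveI := Cfsg.Agent.Lib.H1.fittingSubgroup_isNilpotent (G := G)
  exact Group.nilpotent_of_mulEquiv (Subgroup.subgroupOfEquivOfLe hle)

theorem le_fittingHall {G : Type*} [Group G] {N : Subgroup G} (h1 : N.Normal)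
    (h2 : Group.IsNilpotent N) (h3 : (Nat.card N).Coprime N.index) : N ≤ Cfsg.fittingHall G :=
  le_sSup ⟨h1, h2, h3⟩

/-- In a finite CN-group, the centralizer of a nontrivial normal subgroup `V` of the largest
normal nilpotent Hall subgroup `H` lies in `H`. -/
theorem centralizer_le_fittingHall {G : Type*} [Group G] [Finite G] (hCN : Cfsg.IsCNGroup G)
    (V : Subgroup G) [hVn : V.Normal] (hV1 : V ≠ ⊥) (hVH : V ≤ Cfsg.fittingHall G) :
    Subgroup.centralizer (V : Set G) ≤ Cfsg.fittingHall G := by
  obtain ⟨H, hHdef⟩ : ∃ H : Subgroup G, H = Cfsg.fittingHall G := ⟨_, rfl⟩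
  obtain ⟨C, hCdef⟩ : ∃ C : Subgroup G, C = Subgroup.centralizer (V : Set G) := ⟨_, rfl⟩
  rw [← hHdef, ← hCdef]
  rw [← hHdef] at hVH
  haveI hHn : H.Normal := by rw [hHdef]; infer_instance
  have hHcop : (Nat.card H).Coprime H.index := by
    rw [hHdef]; exact Cfsg.Agent.Lib.H7.fittingHall_coprime
  -- C is nilpotent
  obtain ⟨v, hvV, hv1⟩ : ∃ v ∈ V, v ≠ 1 := by
    by_contra hcon
    push Not at hcon
    exact hV1 ((Subgroup.eq_bot_iff_forall V).mpr hcon)
  have hCnil : Group.IsNilpotent C := by
    have hle : C ≤ Subgroup.centralizer ({v} : Set G) := by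
      rw [hCdef]
      exact Subgroup.centralizer_le (Set.singleton_subset_iff.mpr hvV)
    haveI := hCN v hv1
    exact Group.nilpotent_of_mulEquiv (Subgroup.subgroupOfEquivOfLe hle)
  have hCn : C.Normal := by
    rw [hCdef]
    constructor
    intro c hc g
    rw [Subgroup.mem_centralizer_iff] at hc ⊢
    intro w hw
    have hw' : g⁻¹ * w * g ∈ V := by
      have := hVn.conj_mem w hw g⁻¹
      rwa [inv_inv] at this
    have h1 := hc _ hw'
    calc w * (g * c * g⁻¹) = g * ((g⁻¹ * w * g) * c) * g⁻¹ := by group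
      _ = g * (c * (g⁻¹ * w * g)) * g⁻¹ := by rw [h1]
      _ = g * c * g⁻¹ * w := by group
  -- every prime dividing |C| divides |H|
  have hprimes : ∀ r : ℕ, r.Prime → r ∣ Nat.card C → r ∣ Nat.card H := by
    intro r hr hrC
    by_contra hrH
    haveI : Fact r.Prime := ⟨hr⟩
    obtain ⟨R, hRC, hRr, hRcard, hRall⟩ := sylow_of_nilpotent C hCnil r
    have hR1 : R ≠ ⊥ := by
      intro h
      rw [h, Subgroup.card_bot] at hRcard
      have hpos : 0 < (Nat.card C).factorization r :=
        hr.factorization_pos_of_dvd Nat.card_pos.ne' hrC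
      have : 1 < r ^ (Nat.card C).factorization r := Nat.one_lt_pow hpos.ne' hr.one_lt
      omega
    -- R is normal in G
    have hRn : R.Normal := by
      constructor
      intro x hx g
      apply hRall _ (hCn.conj_mem x (hRC hx) g)
      obtain ⟨k, hk⟩ := hRr ⟨x, hx⟩
      refine ⟨k, ?_⟩
      have hk' : x ^ r ^ k = 1 := by
        have := congrArg Subtype.val hk
        simpa using this
      rw [conj_pow, hk']; group
    -- R commutes with H
    have hRH : Disjoint R H := by
      apply Subgroup.disjoint_of_coprime_natCard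
      obtain ⟨k, hk⟩ := IsPGroup.iff_card.mp hRr
      rw [hk]
      exact Nat.Coprime.pow_left k ((Nat.Prime.coprime_iff_not_dvd hr).mpr hrH)
    have hcommRH : ∀ x ∈ R, ∀ h ∈ H, x * h = h * x := fun x hx h hh =>
      (Subgroup.commute_of_normal_of_disjoint R H hRn hHn hRH x h hx hh).eq
    -- a Sylow r-subgroup of G containing R
    obtain ⟨S, hRS⟩ := hRr.exists_le_sylow
    -- a nontrivial element of R central in S
    haveI hSnil : Group.IsNilpotent (S : Subgroup G) := S.isPGroup'.isNilpotent
    haveI : (R.subgroupOf (S : Subgroup G)).Normal := hRn.subgroupOf _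
    have hne : R.subgroupOf (S : Subgroup G) ≠ ⊥ := by
      intro h
      rw [Subgroup.subgroupOf_eq_bot, disjoint_iff, inf_eq_left.mpr hRS] at h
      exact hR1 h
    have hcen := Cfsg.Agent.Lib.H1.normal_inf_center_ne_bot (R.subgroupOf (S : Subgroup G)) hne
    obtain ⟨x', hx'mem, hx'1⟩ : ∃ x' ∈ R.subgroupOf (S : Subgroup G) ⊓
        Subgroup.center (S : Subgroup G), x' ≠ 1 := by
      by_contra hcon
      push Not at hcon
      exact hcen ((Subgroup.eq_bot_iff_forall _).mpr hcon)
    obtain ⟨hx'R, hx'Z⟩ := hx'mem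
    have hxR : (x' : G) ∈ R := Subgroup.mem_subgroupOf.mp hx'R
    have hx1 : (x' : G) ≠ 1 := fun h => hx'1 (Subtype.ext h)
    have hxS : ∀ g ∈ (S : Subgroup G), (x' : G) * g = g * (x' : G) := by
      intro g hg
      have := Subgroup.mem_center_iff.mp hx'Z ⟨g, hg⟩
      have h2 := congrArg Subtype.val this
      simp only [Subgroup.coe_mul] at h2
      exact h2.symm
    -- the centralizer of x is nilpotent and contains S and H
    have hnilx := hCN (x' : G) hx1
    have hSC : (S : Subgroup G) ≤ C := by
      intro g hg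
      rw [hCdef, Subgroup.mem_centralizer_iff]
      intro w hw
      have hwH : w ∈ H := hVH hw
      have := mul_comm_of_coprime_of_mem_nilpotent _ hnilx
        (mem_centralizer_singleton'.mpr (hxS g hg))
        (mem_centralizer_singleton'.mpr (hcommRH _ hxR w hwH)) (by
          obtain ⟨k, hk⟩ := S.isPGroup' ⟨g, hg⟩
          have hk' : g ^ r ^ k = 1 := by
            have := congrArg Subtype.val hk
            simpa using this
          have hd : orderOf g ∣ r ^ k := orderOf_dvd_of_pow_eq_one hk'
          have hd2 : orderOf w ∣ Nat.card H := by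
            have := orderOf_dvd_natCard (⟨w, hwH⟩ : H)
            rwa [Subgroup.orderOf_mk] at this
          exact Nat.Coprime.coprime_dvd_left hd (Nat.Coprime.coprime_dvd_right hd2
            (Nat.Coprime.pow_left k ((Nat.Prime.coprime_iff_not_dvd hr).mpr hrH))))
      exact this.symm
    -- hence S ≤ R, so S = R is normal
    have hSR : (S : Subgroup G) ≤ R := by
      intro g hg
      apply hRall g (hSC hg)
      obtain ⟨k, hk⟩ := S.isPGroup' ⟨g, hg⟩
      exact ⟨k, by have := congrArg Subtype.val hk; simpa using this⟩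
    have hSeq : (S : Subgroup G) = R := le_antisymm hSR hRS
    have hSH : (S : Subgroup G) ≤ H := by
      rw [hHdef]
      apply le_fittingHall
      · rw [hSeq]; exact hRn
      · exact hSnil
      · exact S.card_coprime_index
    have hdvd : r ∣ Nat.card H := by
      have h1 : Nat.card R ∣ Nat.card H := Subgroup.card_dvd_of_le (hSeq ▸ hSH)
      have h2 : r ∣ Nat.card R := by
        rcases hRr.card_eq_or_dvd with h | h
        · exfalso
          have := R.one_lt_card_iff_ne_bot.mpr hR1
          omega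
        · exact h
      exact h2.trans h1
    exact hrH hdvd
  -- conclude
  rw [← Subgroup.relIndex_eq_one]
  by_contra hne
  obtain ⟨r, hr, hrd⟩ := Nat.exists_prime_and_dvd hne
  have h1 : r ∣ H.index := hrd.trans (Subgroup.relIndex_dvd_index_of_normal H C)
  have h2 : r ∣ Nat.card C := hrd.trans (Subgroup.relIndex_dvd_card H C)
  have h3 := hprimes r hr h2
  exact hr.one_lt.ne' (Nat.eq_one_of_dvd_coprimes hHcop h3 h1)

end Cfsg.Agent.Lib.H8
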