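import Mathlib
import Cfsg.Prelude.Def_OddOrderLocal
import Cfsg.Agent.S4296
import Cfsg.Agent.Lib.H23.DefectZero
import Cfsg.Agent.Lib.H1.PCore
import Cfsg.Agent.Lib.H1.Fitting
import Cfsg.Agent.Lib.H1.Frobenius
import Cfsg.Agent.Lib.H1.NilpotentBasic
import Cfsg.Agent.Lib.H8.Nilpotent
import Cfsg.Agent.Lib.H8.CNFrob

/-!
# Solvable CN-groups (helper8 library)

Structure of nilpotent groups acting without fixed points, and the basic lemmas on solvable
CN-groups without a normal Sylow subgroup.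
-/

set_option autoImplicit false
open Cfsg

namespace Cfsg.Agent.Lib.H8
open Cfsg.Agent.Lib.H22

/-- abelian subgroups of a group acting (via an embedding) without fixed points are cyclic -/
theorem abelian_cyclic_of_fpf {L : Type*} [Group L] [Finite L] (K : Subgroup L) (hK : K ≠ ⊥)
    {R : Type*} [Group R] (φ : R →* L) (hφ : Function.Injective φ)
    (hRK : ∀ x : R, φ x ∈ Subgroup.normalizer (K : Set L))
    (hfpf : ∀ x : R, x ≠ 1 → K ⊓ Subgroup.centralizer {φ x} = ⊥) :
    ∀ B : Subgroup R, (∀ a ∈ B, ∀ b ∈ B, a * b = b * a) → IsCyclic B := by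
  intro B hB
  haveI : IsMulCommutative (B.map φ) := by
    refine ⟨⟨?_⟩⟩
    rintro ⟨_, ⟨x, hx, rfl⟩⟩ ⟨_, ⟨y, hy, rfl⟩⟩
    apply Subtype.ext
    show φ x * φ y = φ y * φ x
    rw [← map_mul, ← map_mul, hB x hx y hy]
  haveI : IsCyclic (B.map φ) := by
    apply Cfsg.Agent.S4296.isCyclic_of_fpf_abelian hK
    · rintro _ ⟨x, -, rfl⟩
      exact hRK x
    · rintro _ ⟨x, -, rfl⟩ hx1
      apply hfpf x
      intro h
      apply hx1
      rw [h, map_one]
  exact isCyclic_of_surjective (B.equivMapOfInjective φ hφ).symm.toMonoidHom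
    (B.equivMapOfInjective φ hφ).symm.surjective

/-- a nilpotent group of odd order acting without fixed points is cyclic -/
theorem isCyclic_of_fpf_nilpotent_odd {L : Type*} [Group L] [Finite L] {K D : Subgroup L}
    (hK : K ≠ ⊥) (hDK : D ≤ Subgroup.normalizer (K : Set L))
    (hfpf : ∀ d ∈ D, d ≠ 1 → K ⊓ Subgroup.centralizer {d} = ⊥)
    (hnil : Group.IsNilpotent D) (hodd : Odd (Nat.card D)) : IsCyclic D := by
  haveI := hnil
  have hcomm : ∀ x y : D, x * y = y * x := by
    apply comm_of_sylow_comm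
    intro p _ P a b
    set φ : P →* L := D.subtype.comp (P : Subgroup D).subtype with hφ
    have hφinj : Function.Injective φ := by
      intro a b hab
      exact Subtype.ext (Subtype.ext hab)
    have hab := abelian_cyclic_of_fpf K hK φ hφinj (fun x => hDK (x : D).2)
      (fun x hx => hfpf _ (x : D).2 (fun h => hx (hφinj (h.trans (map_one φ).symm))))
    have hamo : AtMostOneOrderP p P := atMostOne_of_abelian_cyclic P.isPGroup' hab
    by_cases hp2 : p = 2
    · subst hp2
      obtain ⟨k, hk⟩ := IsPGroup.iff_card.mp P.isPGroup'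
      have hdvd : Nat.card P ∣ Nat.card D := Subgroup.card_subgroup_dvd_card _
      have h1 : Nat.card P = 1 := by
        rcases Nat.eq_zero_or_pos k with h0 | hpos
        · rw [hk, h0, pow_zero]
        · exfalso
          have h2 : 2 ∣ Nat.card D := by
            refine dvd_trans ?_ hdvd
            rw [hk]
            exact dvd_pow_self 2 hpos.ne'
          exact (Nat.not_even_iff_odd.mpr hodd) (even_iff_two_dvd.mpr h2)
      haveI : Subsingleton P := (Nat.card_eq_one_iff_unique.mp h1).1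
      exact Subsingleton.elim _ _
    · haveI : IsCyclic P := isCyclic_of_atMostOne_of_odd hp2 _ P rfl P.isPGroup' hamo
      letI := IsCyclic.commGroup (α := P)
      exact mul_comm a b
  haveI : IsMulCommutative D := ⟨⟨hcomm⟩⟩
  exact Cfsg.Agent.S4296.isCyclic_of_fpf_abelian hK hDK hfpf

/-- structure of a nilpotent group acting without fixed points -/
theorem fpf_nilpotent_structure {L : Type*} [Group L] [Finite L] {K E : Subgroup L}
    (hK : K ≠ ⊥) (hEK : E ≤ Subgroup.normalizer (K : Set L))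
    (hfpf : ∀ d ∈ E, d ≠ 1 → K ⊓ Subgroup.centralizer {d} = ⊥)
    (hnil : Group.IsNilpotent E) :
    IsCyclic E ∨ ∃ C Q : Subgroup L, C ⊔ Q = E ∧ (∀ a ∈ C, ∀ b ∈ Q, a * b = b * a) ∧ IsCyclic C ∧
      Odd (Nat.card C) ∧ ∃ n : ℕ, Nonempty (↥Q ≃* QuaternionGroup (2 ^ n)) := by
  haveI := hnil
  haveI : Fact (Nat.Prime 2) := ⟨Nat.prime_two⟩
  obtain ⟨P, K', ⟨a, hPa⟩, hKcop, hcard, hcomm, -⟩ :=
    Cfsg.Agent.Lib.H23.exists_hall_decomp E 2 Nat.prime_two
  obtain ⟨Q, hQdef⟩ : ∃ Q : Subgroup L, Q = P.map E.subtype := ⟨_, rfl⟩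
  obtain ⟨C, hCdef⟩ : ∃ C : Subgroup L, C = K'.map E.subtype := ⟨_, rfl⟩
  have hQE : Q ≤ E := by rw [hQdef]; exact Subgroup.map_subtype_le _
  have hCE : C ≤ E := by rw [hCdef]; exact Subgroup.map_subtype_le _
  have hsup : C ⊔ Q = E := by
    have hc : Subgroup.IsComplement' P K' := by
      apply Subgroup.isComplement'_of_coprime hcard
      rw [hPa]
      exact Nat.Coprime.pow_left _ hKcop.symm
    have h1 := hc.sup_eq_top
    rw [hCdef, hQdef, sup_comm, ← Subgroup.map_sup, h1, ← MonoidHom.range_eq_map,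
      Subgroup.range_subtype]
  have hCQ : ∀ a ∈ C, ∀ b ∈ Q, a * b = b * a := by
    rw [hCdef, hQdef]
    rintro _ ⟨x, hx, rfl⟩ _ ⟨y, hy, rfl⟩
    have := hcomm y hy x hx
    have h2 := congrArg Subtype.val this
    simpa using h2.symm
  have hCnil : Group.IsNilpotent C := by
    rw [hCdef]
    exact Group.nilpotent_of_mulEquiv (K'.equivMapOfInjective E.subtype E.subtype_injective)
  have hCcard : Nat.card C = Nat.card K' := by
    rw [hCdef]
    exact Subgroup.card_map_of_injective E.subtype_injective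
  have hQcard : Nat.card Q = Nat.card P := by
    rw [hQdef]
    exact Subgroup.card_map_of_injective E.subtype_injective
  have hCodd : Odd (Nat.card C) := by
    rw [hCcard]
    exact Nat.coprime_two_right.mp hKcop
  have hCcyc : IsCyclic C :=
    isCyclic_of_fpf_nilpotent_odd hK (hCE.trans hEK) (fun d hd => hfpf d (hCE hd)) hCnil hCodd
  have hQ2 : IsPGroup 2 Q := IsPGroup.of_card (n := a) (by rw [hQcard, hPa])
  have hamo : AtMostOneOrderP 2 Q := by
    apply atMostOne_of_abelian_cyclic hQ2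
    apply abelian_cyclic_of_fpf K hK Q.subtype Q.subtype_injective
    · intro x; exact hEK (hQE x.2)
    · intro x hx
      exact hfpf _ (hQE x.2) (fun h => hx (Subtype.ext h))
  rcases cyclic_or_quaternion_of_atMostOne hQ2 hamo with hc | ⟨n, -, hn⟩
  · left
    have hCc : C ≤ Subgroup.centralizer (C : Set L) := by
      intro x hx
      rw [Subgroup.mem_centralizer_iff]
      intro y hy
      letI := IsCyclic.commGroup (α := C)
      have := mul_comm (⟨y, hy⟩ : C) ⟨x, hx⟩
      exact congrArg Subtype.val this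
    have hQc : Q ≤ Subgroup.centralizer (Q : Set L) := by
      intro x hx
      rw [Subgroup.mem_centralizer_iff]
      intro y hy
      letI := IsCyclic.commGroup (α := Q)
      have := mul_comm (⟨y, hy⟩ : Q) ⟨x, hx⟩
      exact congrArg Subtype.val this
    have hCQc : C ≤ Subgroup.centralizer (Q : Set L) := by
      intro x hx
      rw [Subgroup.mem_centralizer_iff]
      intro y hy
      exact (hCQ x hx y hy).symm
    have hQCc : Q ≤ Subgroup.centralizer (C : Set L) := by
      intro x hx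
      rw [Subgroup.mem_centralizer_iff]
      intro y hy
      exact hCQ y hy x hx
    have h1 : E ≤ Subgroup.centralizer (C : Set L) := by
      rw [← hsup]; exact sup_le hCc hQCc
    have h2 : E ≤ Subgroup.centralizer (Q : Set L) := by
      rw [← hsup]; exact sup_le hCQc hQc
    have h3 : E ≤ Subgroup.centralizer (E : Set L) := by
      conv_lhs => rw [← hsup]
      exact sup_le (Subgroup.le_centralizer_iff.mp h1) (Subgroup.le_centralizer_iff.mp h2)
    haveI : IsMulCommutative E := by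
      refine ⟨⟨?_⟩⟩
      intro x y
      apply Subtype.ext
      have := (Subgroup.mem_centralizer_iff.mp (h3 y.2)) x x.2
      exact this
    exact Cfsg.Agent.S4296.isCyclic_of_fpf_abelian hK hEK hfpf
  · right
    exact ⟨C, Q, hsup, hCQ, hCcyc, hCodd, n, hn⟩

/-- a Sylow subgroup of `G` lying in a nilpotent normal subgroup is normal in `G` -/
theorem sylow_normal_of_le_normal_nilpotent {G : Type*} [Group G] [Finite G] (N : Subgroup G)
    [hN : N.Normal] (hnil : Group.IsNilpotent N) (p : ℕ) [Fact p.Prime] (P : Sylow p G)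
    (hPN : (P : Subgroup G) ≤ N) : (P : Subgroup G).Normal := by
  haveI := hnil
  let P' : Sylow p N := P.subtype hPN
  haveI h1 : (P' : Subgroup N).Normal :=
    Sylow.normal_of_normalizerCondition Group.normalizerCondition_of_isNilpotent P'
  haveI h2 : (P' : Subgroup N).Characteristic := Sylow.characteristic_of_normal P' h1
  have h3 : ((P' : Subgroup N).map N.subtype).Normal :=
    ConjAct.normal_of_characteristic_of_normal
  have h4 : (P' : Subgroup N).map N.subtype = P := by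
    show ((P : Subgroup G).subgroupOf N).map N.subtype = P
    exact Subgroup.map_subgroupOf_eq_of_le hPN
  rwa [h4] at h3

/-- existence of a complement to a normal `p`-subgroup in an overgroup of index prime to `p` -/
theorem exists_complement_of_coprime_relIndex {G : Type*} [Group G] [Finite G] (p : ℕ)
    [Fact p.Prime] (N T : Subgroup G) [hN : N.Normal] (hNp : IsPGroup p N) (hNT : N ≤ T)
    (hcop : (N.relIndex T).Coprime p) :
    ∃ B : Subgroup G, B ≤ T ∧ N ⊓ B = ⊥ ∧ N ⊔ B = T ∧ (Nat.card B).Coprime p := by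
  haveI : (N.subgroupOf T).Normal := Subgroup.Normal.subgroupOf hN T
  have hcard : Nat.card (N.subgroupOf T) = Nat.card N :=
    Nat.card_congr (Subgroup.subgroupOfEquivOfLe hNT).toEquiv
  obtain ⟨k, hk⟩ := IsPGroup.iff_card.mp hNp
  have hcop' : (Nat.card (N.subgroupOf T)).Coprime (N.subgroupOf T).index := by
    rw [hcard, hk]
    exact Nat.Coprime.pow_left _ hcop.symm
  obtain ⟨B', hB'⟩ := Subgroup.exists_right_complement'_of_coprime hcop'
  refine ⟨B'.map T.subtype, Subgroup.map_subtype_le _, ?_, ?_, ?_⟩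
  · have h1 : N.subgroupOf T ⊓ B' = ⊥ := hB'.disjoint.eq_bot
    rw [eq_bot_iff]
    rintro x ⟨hxN, ⟨y, hy, rfl⟩⟩
    have : y ∈ N.subgroupOf T ⊓ B' := ⟨Subgroup.mem_subgroupOf.mpr hxN, hy⟩
    rw [h1, Subgroup.mem_bot] at this
    rw [this]
    exact Subgroup.mem_bot.mpr rfl
  · have h1 : N.subgroupOf T ⊔ B' = ⊤ := hB'.sup_eq_top
    have h2 := congrArg (Subgroup.map T.subtype) h1
    rw [Subgroup.map_sup, Subgroup.map_subgroupOf_eq_of_le hNT, ← MonoidHom.range_eq_map,
      Subgroup.range_subtype] at h2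
    exact h2
  · have h1 : Nat.card (B'.map T.subtype) = Nat.card B' :=
      Subgroup.card_map_of_injective T.subtype_injective
    have h2 : (N.subgroupOf T).index = Nat.card B' := hB'.symm.index_eq_card
    rw [h1, ← h2]
    exact hcop

/-- a nontrivial subgroup `N` normalized by a nilpotent overgroup `M` contains a nontrivial element
central in `M` -/
theorem exists_central_in_normal {G : Type*} [Group G] (M N : Subgroup G)
    (hM : Group.IsNilpotent M) (hNM : N ≤ M) (hnorm : ∀ m ∈ M, ∀ n ∈ N, m * n * m⁻¹ ∈ N)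
    (hN : N ≠ ⊥) : ∃ z ∈ N, z ≠ 1 ∧ ∀ m ∈ M, z * m = m * z := by
  haveI := hM
  haveI : (N.subgroupOf M).Normal := by
    constructor
    intro n hn m
    rw [Subgroup.mem_subgroupOf] at hn ⊢
    exact hnorm m m.2 n hn
  have hne : N.subgroupOf M ≠ ⊥ := by
    intro h
    apply hN
    rw [eq_bot_iff]
    intro x hx
    have : (⟨x, hNM hx⟩ : M) ∈ N.subgroupOf M := Subgroup.mem_subgroupOf.mpr hx
    rw [h, Subgroup.mem_bot] at this
    exact Subgroup.mem_bot.mpr (congrArg Subtype.val this)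
  have h1 := Cfsg.Agent.Lib.H1.normal_inf_center_ne_bot (N.subgroupOf M) hne
  rw [Ne, Subgroup.eq_bot_iff_forall] at h1
  push Not at h1
  obtain ⟨z, ⟨hzN, hzc⟩, hz1⟩ := h1
  refine ⟨z, Subgroup.mem_subgroupOf.mp hzN, fun h => hz1 (Subtype.ext h), ?_⟩
  intro m hm
  have := (Subgroup.mem_center_iff.mp hzc) ⟨m, hm⟩
  exact (congrArg Subtype.val this).symm

theorem orderOf_coprime_of_pgroups {G : Type*} [Group G] [Finite G] {p : ℕ} [Fact p.Prime]
    {x y : G} (hx : ∃ k : ℕ, x ^ p ^ k = 1) (hy : (orderOf y).Coprime p) :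
    (orderOf x).Coprime (orderOf y) := by
  obtain ⟨k, hk⟩ := hx
  have h1 : orderOf x ∣ p ^ k := orderOf_dvd_of_pow_eq_one hk
  exact Nat.Coprime.coprime_dvd_left h1 (Nat.Coprime.pow_left _ hy.symm)

/-- In a CN-group without nontrivial normal Sylow subgroups at most one `O_p(G)` is nontrivial. -/
theorem cn_pCore_unique {G : Type*} [Group G] [Finite G] (hCN : Cfsg.IsCNGroup G)
    (hB : ∀ (p : ℕ) [Fact p.Prime] (P : Sylow p G), (P : Subgroup G).Normal → (P : Subgroup G) = ⊥)
    (p q : ℕ) [hp : Fact p.Prime] [hq : Fact q.Prime] (hpq : p ≠ q) (h1 : Cfsg.pCore p G ≠ ⊥)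
    (h2 : Cfsg.pCore q G ≠ ⊥) : False := by
  obtain ⟨P⟩ : Nonempty (Sylow p G) := inferInstance
  have hP₀P : Cfsg.pCore p G ≤ P := Cfsg.Agent.Lib.H1.pCore_le_sylow P
  haveI hP₀n : (Cfsg.pCore p G).Normal := Cfsg.Agent.Lib.H1.pCore_normal p G
  haveI hQ₀n : (Cfsg.pCore q G).Normal := Cfsg.Agent.Lib.H1.pCore_normal q G
  have hPp : ∀ x ∈ (P : Subgroup G), ∃ k : ℕ, x ^ p ^ k = 1 := by
    intro x hx
    obtain ⟨k, hk⟩ := P.isPGroup' ⟨x, hx⟩
    exact ⟨k, by simpa using congrArg Subtype.val hk⟩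
  have hQq : ∀ y ∈ Cfsg.pCore q G, ∃ k : ℕ, y ^ q ^ k = 1 := by
    intro y hy
    obtain ⟨k, hk⟩ := (Cfsg.Agent.Lib.H1.pCore_isPGroup q G) ⟨y, hy⟩
    exact ⟨k, by simpa using congrArg Subtype.val hk⟩
  obtain ⟨z, hzP₀, hz1, hzc⟩ := exists_central_in_normal (P : Subgroup G) (Cfsg.pCore p G)
    P.isPGroup'.isNilpotent hP₀P (fun m _ n hn => hP₀n.conj_mem n hn m) h1
  -- P centralizes O_q(G)
  have hcent : ∀ x ∈ (P : Subgroup G), ∀ y ∈ Cfsg.pCore q G, x * y = y * x := by
    intro x hx y hy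
    have hxC : x ∈ Subgroup.centralizer ({z} : Set G) :=
      mem_centralizer_singleton'.mpr (hzc x hx)
    have hyC : y ∈ Subgroup.centralizer ({z} : Set G) :=
      mem_centralizer_singleton'.mpr
        (Cfsg.Agent.Lib.H1.pCore_commute hpq z y hzP₀ hy).eq
    apply mul_comm_of_coprime_of_mem_nilpotent _ (hCN z hz1) hxC hyC
    obtain ⟨k, hk⟩ := hQq y hy
    have h3 : orderOf y ∣ q ^ k := orderOf_dvd_of_pow_eq_one hk
    have h4 : (orderOf y).Coprime p :=
      Nat.Coprime.coprime_dvd_left h3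
        (Nat.Coprime.pow_left _ ((Nat.coprime_primes hq.out hp.out).mpr (Ne.symm hpq)))
    exact orderOf_coprime_of_pgroups (hPp x hx) h4
  -- C = C_G(O_q(G)) is normal and nilpotent
  obtain ⟨y, hyQ, hy1⟩ : ∃ y ∈ Cfsg.pCore q G, y ≠ 1 := by
    rw [Ne, Subgroup.eq_bot_iff_forall] at h2
    push Not at h2
    exact h2
  have hCle : Subgroup.centralizer (Cfsg.pCore q G : Set G) ≤ Subgroup.centralizer ({y} : Set G) :=
    Subgroup.centralizer_le (Set.singleton_subset_iff.mpr hyQ)
  haveI := hCN y hy1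
  have hCnil : Group.IsNilpotent (Subgroup.centralizer (Cfsg.pCore q G : Set G)) :=
    Group.nilpotent_of_mulEquiv (Subgroup.subgroupOfEquivOfLe hCle)
  have hPC : (P : Subgroup G) ≤ Subgroup.centralizer (Cfsg.pCore q G : Set G) := by
    intro x hx
    rw [Subgroup.mem_centralizer_iff]
    intro y hy
    exact (hcent x hx y hy).symm
  have hPn : (P : Subgroup G).Normal :=
    sylow_normal_of_le_normal_nilpotent _ hCnil p P hPC
  have := hB p P hPn
  apply h1
  rw [eq_bot_iff, ← this]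
  exact hP₀P

theorem pCore_pow {G : Type*} [Group G] (p : ℕ) [Fact p.Prime] {x : G} (hx : x ∈ Cfsg.pCore p G) :
    ∃ k : ℕ, x ^ p ^ k = 1 := by
  obtain ⟨k, hk⟩ := (Cfsg.Agent.Lib.H1.pCore_isPGroup p G) ⟨x, hx⟩
  exact ⟨k, by simpa using congrArg Subtype.val hk⟩

/-- In a CN-group with `C_G(O_p(G)) ≤ O_p(G) ≠ 1`, every nontrivial `p'`-element acts on `O_p(G)`
without fixed points. -/
theorem cn_fpf_of_coprime {G : Type*} [Group G] [Finite G] (hCN : Cfsg.IsCNGroup G)
    (p : ℕ) [hp : Fact p.Prime] (h1 : Cfsg.pCore p G ≠ ⊥)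
    (hcent : Subgroup.centralizer (Cfsg.pCore p G : Set G) ≤ Cfsg.pCore p G)
    (u : G) (hu1 : u ≠ 1) (hu : (orderOf u).Coprime p) :
    Cfsg.pCore p G ⊓ Subgroup.centralizer ({u} : Set G) = ⊥ := by
  haveI hP₀n : (Cfsg.pCore p G).Normal := Cfsg.Agent.Lib.H1.pCore_normal p G
  rw [eq_bot_iff]
  rintro x ⟨hxP, hxu⟩
  rw [Subgroup.mem_bot]
  by_contra hx1
  have hxu' : u * x = x * u := mem_centralizer_singleton'.mp hxu
  obtain ⟨z, hzP₀, hz1, hzc⟩ := exists_central_in_normal (Cfsg.pCore p G) (Cfsg.pCore p G)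
    (Cfsg.Agent.Lib.H1.pCore_isPGroup p G).isNilpotent le_rfl
    (fun m _ n hn => hP₀n.conj_mem n hn m) h1
  have hzu : z * u = u * z := by
    apply mul_comm_of_coprime_of_mem_nilpotent _ (hCN x hx1)
      (mem_centralizer_singleton'.mpr (hzc x hxP).symm) (mem_centralizer_singleton'.mpr hxu'.symm)
    exact orderOf_coprime_of_pgroups (pCore_pow p hzP₀) hu
  have huc : u ∈ Subgroup.centralizer (Cfsg.pCore p G : Set G) := by
    rw [Subgroup.mem_centralizer_iff]
    intro y hy
    apply mul_comm_of_coprime_of_mem_nilpotent _ (hCN z hz1)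
      (mem_centralizer_singleton'.mpr (hzc y hy)) (mem_centralizer_singleton'.mpr hzu)
    exact orderOf_coprime_of_pgroups (pCore_pow p hy) hu
  obtain ⟨k, hk⟩ := pCore_pow p (hcent huc)
  have h3 : orderOf u ∣ p ^ k := orderOf_dvd_of_pow_eq_one hk
  have h4 : orderOf u = 1 :=
    Nat.Coprime.eq_one_of_dvd (Nat.Coprime.pow_right k hu) h3
  exact hu1 (orderOf_eq_one_iff.mp h4)

/-- In a CN-group with `C_G(O_p(G)) ≤ O_p(G) ≠ 1`, `p` odd, `O_p(G)` not a Sylow subgroup, and all
`p'`-elements acting without fixed points on `O_p(G)`, there are no involutions. -/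
theorem cn_no_involution {G : Type*} [Group G] [Finite G] (hCN : Cfsg.IsCNGroup G)
    (p : ℕ) [hp : Fact p.Prime] (hp2 : p ≠ 2) (h1 : Cfsg.pCore p G ≠ ⊥)
    (hcent : Subgroup.centralizer (Cfsg.pCore p G : Set G) ≤ Cfsg.pCore p G)
    (hfpf : ∀ u : G, u ≠ 1 → (orderOf u).Coprime p →
      Cfsg.pCore p G ⊓ Subgroup.centralizer ({u} : Set G) = ⊥)
    (P : Sylow p G) (d : G) (hdP : d ∈ P) (hd : d ∉ Cfsg.pCore p G)
    (t : G) (ht : orderOf t = 2) : False := by
  haveI hP₀n : (Cfsg.pCore p G).Normal := Cfsg.Agent.Lib.H1.pCore_normal p G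
  have hP₀P : Cfsg.pCore p G ≤ P := Cfsg.Agent.Lib.H1.pCore_le_sylow P
  have hcop2 : Nat.Coprime 2 p := (Nat.coprime_primes Nat.prime_two hp.out).mpr (Ne.symm hp2)
  -- every involution inverts O_p(G)
  have hinv : ∀ s : G, orderOf s = 2 → s * s = 1 ∧ s⁻¹ = s ∧
      ∀ k ∈ Cfsg.pCore p G, s * k * s⁻¹ = k⁻¹ := by
    intro s hs
    have hss : s * s = 1 := by rw [← pow_two, ← hs, pow_orderOf_eq_one]
    have hs1 : s ≠ 1 := by
      intro h; rw [h, orderOf_one] at hs; omega
    refine ⟨hss, inv_eq_of_mul_eq_one_left hss, ?_⟩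
    exact (Cfsg.Agent.Lib.H1.inverts_of_fpf_involution hss
      (hfpf s hs1 (by rw [hs]; exact hcop2))).1
  obtain ⟨htt, htinv, htk⟩ := hinv t ht
  have ht1 : t ≠ 1 := by
    intro h; rw [h, orderOf_one] at ht; omega
  -- Frattini
  have hfrat : ∀ g : G, ∃ y ∈ Cfsg.pCore p G, ∃ c : G, t * c = c * t ∧ g = y * c := by
    intro g
    have hs : orderOf (g * t * g⁻¹) = 2 := by
      have h := MulEquiv.orderOf_eq (MulAut.conj g) t
      rw [MulAut.conj_apply] at h
      rw [h, ht]
    obtain ⟨hss, hsinv, hsk⟩ := hinv _ hs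
    set s := g * t * g⁻¹ with hsdef
    have hw : t * s ∈ Cfsg.pCore p G := by
      apply hcent
      rw [Subgroup.mem_centralizer_iff]
      intro y hy
      have e1 : s * y * s⁻¹ = y⁻¹ := hsk y hy
      have e2 : t * y⁻¹ * t⁻¹ = y⁻¹⁻¹ := htk _ (inv_mem hy)
      have e3 : (t * s) * y * (t * s)⁻¹ = y := by
        calc (t * s) * y * (t * s)⁻¹ = t * (s * y * s⁻¹) * t⁻¹ := by group
          _ = y := by rw [e1, e2, inv_inv]
      calc y * (t * s) = ((t * s) * y * (t * s)⁻¹) * (t * s) := by rw [e3]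
        _ = t * s * y := by group
    set x := t * s with hxdef
    have hsx : s = t * x := by
      rw [hxdef, ← mul_assoc, htt, one_mul]
    -- n odd
    obtain ⟨n, hn⟩ : ∃ n, Nat.card (Cfsg.pCore p G) = 2 * n + 1 := by
      have hodd : Odd (Nat.card (Cfsg.pCore p G)) := by
        obtain ⟨k, hk⟩ := IsPGroup.iff_card.mp (Cfsg.Agent.Lib.H1.pCore_isPGroup p G)
        rw [hk]
        exact Odd.pow (hp.out.odd_of_ne_two hp2)
      obtain ⟨n, hn⟩ := hodd
      exact ⟨n, hn⟩
    have hxn : x⁻¹ ^ (2 * n + 1) = 1 := by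
      have h := pow_card_eq_one' (G := Cfsg.pCore p G) (x := ⟨x⁻¹, inv_mem hw⟩)
      rw [hn] at h
      exact congrArg Subtype.val h
    set y := x⁻¹ ^ (n + 1) with hydef
    have hyP : y ∈ Cfsg.pCore p G := pow_mem (inv_mem hw) _
    have hyy : y * y = x⁻¹ := by
      rw [hydef, ← pow_add]
      have : n + 1 + (n + 1) = (2 * n + 1) + 1 := by ring
      rw [this, pow_succ, hxn, one_mul]
    have hty : t * y * t⁻¹ = y⁻¹ := htk y hyP
    have hyt : y * t * y⁻¹ = s := by
      have h := htk y⁻¹ (inv_mem hyP)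
      have e1 : y * t = t * y⁻¹ := by
        calc y * t = (t * y⁻¹ * t⁻¹) * t := by rw [h, inv_inv]
          _ = t * y⁻¹ := by group
      calc y * t * y⁻¹ = t * (y * y)⁻¹ := by rw [e1]; group
        _ = s := by rw [hyy, inv_inv, hsx]
    refine ⟨y, hyP, y⁻¹ * g, ?_, by group⟩
    have e2 : (y⁻¹ * g) * t * (y⁻¹ * g)⁻¹ = t := by
      calc (y⁻¹ * g) * t * (y⁻¹ * g)⁻¹ = y⁻¹ * (g * t * g⁻¹) * y := by group
        _ = y⁻¹ * (y * t * y⁻¹) * y := by rw [hyt]
        _ = t := by group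
    calc t * (y⁻¹ * g) = ((y⁻¹ * g) * t * (y⁻¹ * g)⁻¹) * (y⁻¹ * g) := by rw [e2]
      _ = (y⁻¹ * g) * t := by group
  obtain ⟨y, hyP, c, hct, hdc⟩ := hfrat d
  have hcP : c ∈ (P : Subgroup G) := by
    have : c = y⁻¹ * d := by rw [hdc]; group
    rw [this]
    exact mul_mem (inv_mem (hP₀P hyP)) hdP
  have hc1 : c ≠ 1 := by
    intro h
    apply hd
    rw [hdc, h, mul_one]
    exact hyP
  obtain ⟨z, hzP₀, hz1, hzc⟩ := exists_central_in_normal (P : Subgroup G) (Cfsg.pCore p G)
    P.isPGroup'.isNilpotent hP₀P (fun m _ n hn => hP₀n.conj_mem n hn m) h1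
  have hzt : z * t = t * z := by
    apply mul_comm_of_coprime_of_mem_nilpotent _ (hCN c hc1)
      (mem_centralizer_singleton'.mpr (hzc c hcP).symm) (mem_centralizer_singleton'.mpr hct.symm)
    apply orderOf_coprime_of_pgroups (pCore_pow p hzP₀)
    rw [ht]; exact hcop2
  have hz : z ∈ Cfsg.pCore p G ⊓ Subgroup.centralizer ({t} : Set G) :=
    ⟨hzP₀, mem_centralizer_singleton'.mpr hzt.symm⟩
  rw [hfpf t ht1 (by rw [ht]; exact hcop2), Subgroup.mem_bot] at hz
  exact hz1 hz

end Cfsg.Agent.Lib.H8
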