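import Mathlib
import Cfsg.Agent.Lib.H8.CNSolv
import Cfsg.Agent.Lib.H8.CNFrob

/-!
# Groups of Frobenius type, at the level of subgroups of an ambient group (helper8 library)

`IsFrobType K E N`: the subgroup `N` is a semidirect product of a nilpotent normal Hall subgroup
`K` by an abelian subgroup `E` acting on `K` without non-identity fixed points.
-/

set_option autoImplicit false
open scoped commutatorElement

namespace Cfsg.Agent.Lib.H8

/-- the subgroup `N` is `K ⋊ E` with `K` nilpotent normal Hall, `E` abelian acting without fixed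
points -/
structure IsFrobType {G : Type*} [Group G] (K E N : Subgroup G) : Prop where
  K_le : K ≤ N
  E_le : E ≤ N
  inf_eq : K ⊓ E = ⊥
  prod : ∀ m ∈ N, ∃ a ∈ K, ∃ b ∈ E, m = a * b
  normal : N ≤ Subgroup.normalizer (K : Set G)
  K_ne : K ≠ ⊥
  E_ne : E ≠ ⊥
  comm : ∀ a ∈ E, ∀ b ∈ E, a * b = b * a
  nil : Group.IsNilpotent K
  hall : (Nat.card K).Coprime (Nat.card E)
  fpf : ∀ e ∈ E, e ≠ 1 → K ⊓ Subgroup.centralizer ({e} : Set G) = ⊥

/-- if `e` normalizes the finite subgroup `K` and fixes no non-identity element of it, every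
element of the coset `K e` is a `K`-conjugate of `e` -/
theorem frob_coset_conj {G : Type*} [Group G] (K : Subgroup G) [Finite K] {e : G}
    (hn : e ∈ Subgroup.normalizer (K : Set G))
    (hfpf : K ⊓ Subgroup.centralizer ({e} : Set G) = ⊥) {k : G} (hk : k ∈ K) :
    ∃ a ∈ K, k * e = a * e * a⁻¹ := by
  have hmem : ∀ a : K, (a : G) * e * (a : G)⁻¹ * e⁻¹ ∈ K := by
    intro a
    have h1 : e * (a : G)⁻¹ * e⁻¹ ∈ K :=
      (Subgroup.mem_normalizer_iff.mp hn _).mp (K.inv_mem a.2)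
    have : (a : G) * e * (a : G)⁻¹ * e⁻¹ = (a : G) * (e * (a : G)⁻¹ * e⁻¹) := by group
    rw [this]; exact K.mul_mem a.2 h1
  have hinj : Function.Injective (fun a : K => (⟨_, hmem a⟩ : K)) := by
    intro a b hab
    have h1 : (a : G) * e * (a : G)⁻¹ * e⁻¹ = (b : G) * e * (b : G)⁻¹ * e⁻¹ :=
      congrArg Subtype.val hab
    have h3 : (a : G) * e * (a : G)⁻¹ = (b : G) * e * (b : G)⁻¹ := mul_right_cancel h1
    have h2 : e * ((b : G)⁻¹ * a) = ((b : G)⁻¹ * a) * e := by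
      calc e * ((b : G)⁻¹ * a) = (b:G)⁻¹ * ((b : G) * e * (b : G)⁻¹) * a := by group
        _ = (b:G)⁻¹ * ((a : G) * e * (a : G)⁻¹) * a := by rw [h3]
        _ = ((b : G)⁻¹ * a) * e := by group
    have h4 : (b : G)⁻¹ * a ∈ K ⊓ Subgroup.centralizer ({e} : Set G) :=
      ⟨K.mul_mem (K.inv_mem b.2) a.2, mem_centralizer_singleton'.mpr h2⟩
    rw [hfpf, Subgroup.mem_bot] at h4
    apply Subtype.ext
    exact (inv_mul_eq_one.mp h4).symm
  obtain ⟨a, ha⟩ := (Finite.injective_iff_surjective.mp hinj) ⟨k, hk⟩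
  refine ⟨a, a.2, ?_⟩
  have h1 : (a : G) * e * (a : G)⁻¹ * e⁻¹ = k := congrArg Subtype.val ha
  rw [← h1]; group

namespace IsFrobType

variable {G : Type*} [Group G] [Finite G] {K E N : Subgroup G}

omit [Finite G] in
theorem exists_ne_one (h : IsFrobType K E N) : ∃ e ∈ E, e ≠ 1 := by
  by_contra hcon
  push Not at hcon
  exact h.E_ne ((Subgroup.eq_bot_iff_forall E).mpr hcon)

/-- every element of `N` outside `K` is a `K`-conjugate of a non-identity element of `E` -/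
theorem mem_or_conj (h : IsFrobType K E N) {x : G} (hx : x ∈ N) :
    x ∈ K ∨ ∃ a ∈ K, ∃ e ∈ E, e ≠ 1 ∧ x = a * e * a⁻¹ := by
  obtain ⟨k, hk, e, he, rfl⟩ := h.prod x hx
  by_cases he1 : e = 1
  · left; rw [he1, mul_one]; exact hk
  · right
    obtain ⟨a, ha, hae⟩ := frob_coset_conj K (h.normal (h.E_le he)) (h.fpf e he he1) hk
    exact ⟨a, ha, e, he, he1, hae⟩

/-- `C_N(z) ≤ K` for `1 ≠ z ∈ K` -/
theorem centralizer_le (h : IsFrobType K E N) {z x : G} (hz : z ∈ K) (hz1 : z ≠ 1) (hx : x ∈ N)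
    (hc : x * z = z * x) : x ∈ K := by
  rcases h.mem_or_conj hx with hK | ⟨a, ha, e, he, he1, rfl⟩
  · exact hK
  · exfalso
    have h1 : a⁻¹ * z * a ∈ K := K.mul_mem (K.mul_mem (K.inv_mem ha) hz) ha
    have h2 : e * (a⁻¹ * z * a) = (a⁻¹ * z * a) * e := by
      calc e * (a⁻¹ * z * a) = a⁻¹ * ((a * e * a⁻¹) * z) * a := by group
        _ = a⁻¹ * (z * (a * e * a⁻¹)) * a := by rw [hc]
        _ = (a⁻¹ * z * a) * e := by group
    have h3 : a⁻¹ * z * a ∈ K ⊓ Subgroup.centralizer ({e} : Set G) :=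
      ⟨h1, mem_centralizer_singleton'.mpr h2⟩
    rw [h.fpf e he he1, Subgroup.mem_bot] at h3
    apply hz1
    have : z = a * (a⁻¹ * z * a) * a⁻¹ := by group
    rw [this, h3]; group

omit [Finite G] in
/-- `N' ≤ K` -/
theorem commutator_le (h : IsFrobType K E N) : ⁅N, N⁆ ≤ K := by
  rw [Subgroup.commutator_le]
  intro u hu v hv
  obtain ⟨a, ha, b, hb, rfl⟩ := h.prod u hu
  obtain ⟨a', ha', b', hb', rfl⟩ := h.prod v hv
  have hbb : b * b' * b⁻¹ = b' := by rw [h.comm b hb b' hb']; group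
  have e1 : ⁅a * b, a' * b'⁆ = a * (b * a' * b⁻¹) * (b' * a⁻¹ * b'⁻¹) * a'⁻¹ := by
    rw [commutatorElement_def]
    calc a * b * (a' * b') * (a * b)⁻¹ * (a' * b')⁻¹
        = a * (b * a' * b⁻¹) * (b * b' * b⁻¹) * a⁻¹ * b'⁻¹ * a'⁻¹ := by group
      _ = a * (b * a' * b⁻¹) * (b' * a⁻¹ * b'⁻¹) * a'⁻¹ := by rw [hbb]; group
  rw [e1]
  have hbn := h.normal (h.E_le hb)
  have hb'n := h.normal (h.E_le hb')
  exact K.mul_mem (K.mul_mem (K.mul_mem ha ((Subgroup.mem_normalizer_iff.mp hbn a').mp ha'))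
    ((Subgroup.mem_normalizer_iff.mp hb'n a⁻¹).mp (K.inv_mem ha))) (K.inv_mem ha')

/-- `K ≤ N'` -/
theorem le_commutator (h : IsFrobType K E N) : K ≤ ⁅N, N⁆ := by
  obtain ⟨e, he, he1⟩ := h.exists_ne_one
  intro k hk
  obtain ⟨a, ha, hae⟩ := frob_coset_conj K (h.normal (h.E_le he)) (h.fpf e he he1) hk
  have : k = ⁅a, e⁆ := by
    rw [commutatorElement_def, ← hae]; group
  rw [this]
  exact Subgroup.commutator_mem_commutator (h.K_le ha) (h.E_le he)

/-- a nilpotent subgroup of `N` containing `K` equals `K` -/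
theorem nilpotent_le (h : IsFrobType K E N) {L : Subgroup G} (hL : Group.IsNilpotent L)
    (hKL : K ≤ L) (hLN : L ≤ N) : L ≤ K := by
  obtain ⟨z, hzK, hz1, hzc⟩ := exists_central_in_normal L K hL hKL
    (fun m hm n hn => (Subgroup.mem_normalizer_iff.mp (h.normal (hLN hm)) n).mp hn) h.K_ne
  intro x hx
  exact h.centralizer_le hzK hz1 (hLN hx) (hzc x hx).symm

theorem not_le (h : IsFrobType K E N) : ¬ N ≤ K := by
  intro h1
  apply h.E_ne
  rw [eq_bot_iff, ← h.inf_eq]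
  exact le_inf (h.E_le.trans h1) le_rfl

theorem not_nilpotent (h : IsFrobType K E N) : ¬ Group.IsNilpotent N := by
  intro hN
  exact h.not_le (h.nilpotent_le hN h.K_le le_rfl)

/-- a `p`-element of `N` lies in `K` when `p` divides `|K|` -/
theorem pelement_mem (h : IsFrobType K E N) {p : ℕ} (hp : p.Prime) (hpK : p ∣ Nat.card K)
    {x : G} (hx : x ∈ N) {k : ℕ} (hxk : x ^ p ^ k = 1) : x ∈ K := by
  rcases h.mem_or_conj hx with hK | ⟨a, ha, e, he, he1, rfl⟩
  · exact hK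
  · exfalso
    rw [conj_pow] at hxk
    have h1 : e ^ p ^ k = 1 := by
      have : e ^ p ^ k = a⁻¹ * (a * e ^ p ^ k * a⁻¹) * a := by group
      rw [this, hxk]; group
    have h2 : orderOf e ∣ p ^ k := orderOf_dvd_of_pow_eq_one h1
    have h3 : orderOf e ∣ Nat.card E := by
      have := orderOf_dvd_natCard (⟨e, he⟩ : E)
      rwa [Subgroup.orderOf_mk] at this
    have h4 : (p ^ k).Coprime (Nat.card E) :=
      Nat.Coprime.pow_left k (Nat.Coprime.coprime_dvd_left hpK h.hall)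
    have h5 : orderOf e = 1 := Nat.eq_one_of_dvd_coprimes h4 h2 h3
    exact he1 (orderOf_eq_one_iff.mp h5)

/-- a nontrivial `p`-subgroup normalized by `N` forces `p ∣ |K|` -/
theorem dvd_card_of_normal_pgroup (h : IsFrobType K E N) {p : ℕ} [hp : Fact p.Prime]
    {D : Subgroup G} (hDN : D ≤ N) (hnorm : N ≤ Subgroup.normalizer (D : Set G))
    (hDp : IsPGroup p D) (hD1 : D ≠ ⊥) : p ∣ Nat.card K := by
  by_contra hnd
  have hDK : ∀ x ∈ D, x ∈ K → x = 1 := by
    intro x hxD hxK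
    obtain ⟨j, hj⟩ := (IsPGroup.iff_orderOf.mp hDp) ⟨x, hxD⟩
    rw [Subgroup.orderOf_mk] at hj
    have h3 : orderOf x ∣ Nat.card K := by
      have := orderOf_dvd_natCard (⟨x, hxK⟩ : K)
      rwa [Subgroup.orderOf_mk] at this
    have h4 : (p ^ j).Coprime (Nat.card K) :=
      Nat.Coprime.pow_left j ((Nat.Prime.coprime_iff_not_dvd hp.out).mpr hnd)
    have h5 : orderOf x = 1 := Nat.eq_one_of_dvd_coprimes h4 (hj ▸ dvd_rfl) h3
    exact orderOf_eq_one_iff.mp h5
  obtain ⟨d, hdD, hd1⟩ : ∃ d ∈ D, d ≠ 1 := by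
    by_contra hcon
    push Not at hcon
    exact hD1 ((Subgroup.eq_bot_iff_forall D).mpr hcon)
  rcases h.mem_or_conj (hDN hdD) with hK | ⟨a, ha, e, he, he1, hde⟩
  · exact hd1 (hDK d hdD hK)
  · have heD : e ∈ D := by
      have h1 : a⁻¹ ∈ Subgroup.normalizer (D : Set G) :=
        hnorm (N.inv_mem (h.K_le ha))
      have h2 := (Subgroup.mem_normalizer_iff.mp h1 d).mp hdD
      have : e = a⁻¹ * d * a⁻¹⁻¹ := by rw [hde]; group
      rw [this]; exact h2
    apply h.K_ne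
    rw [Subgroup.eq_bot_iff_forall]
    intro k hk
    have h1 : k * e * k⁻¹ * e⁻¹ ∈ K := by
      have h2 : e * k⁻¹ * e⁻¹ ∈ K :=
        (Subgroup.mem_normalizer_iff.mp (h.normal (h.E_le he)) _).mp (K.inv_mem hk)
      have : k * e * k⁻¹ * e⁻¹ = k * (e * k⁻¹ * e⁻¹) := by group
      rw [this]; exact K.mul_mem hk h2
    have h2 : k * e * k⁻¹ * e⁻¹ ∈ D := by
      have h3 := (Subgroup.mem_normalizer_iff.mp (hnorm (h.K_le hk)) e).mp heD
      exact D.mul_mem h3 (D.inv_mem heD)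
    have h3 : k * e * k⁻¹ * e⁻¹ = 1 := hDK _ h2 h1
    have h4 : e * k = k * e := by
      calc e * k = (k * e * k⁻¹ * e⁻¹)⁻¹ * (k * e) := by group
        _ = k * e := by rw [h3]; group
    have h5 : k ∈ K ⊓ Subgroup.centralizer ({e} : Set G) :=
      ⟨hk, mem_centralizer_singleton'.mpr h4⟩
    rw [h.fpf e he he1, Subgroup.mem_bot] at h5
    exact h5

end IsFrobType

end Cfsg.Agent.Lib.H8
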