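import Mathlib
import Cfsg.Agent.Lib.H10.SecTransfer
import Cfsg.Agent.Lib.H16.OddStable
import Cfsg.Agent.S0653
import Cfsg.Agent.Lib.L0.GlaubermanNPC

/-!
# `Z(J(T))` controls transfer in groups of odd order (helper8 library)

`zjW` is the abelian-version `ZJ` as an isomorphism-invariant functor; with Glauberman's ZJ-theorem
(`S0653`), `p`-stability of groups of odd order (helper16) and helper10's reduction to
`p`-constrained sections we get `zj_controls_transfer_of_odd`.
-/

set_option autoImplicit false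
open Cfsg

universe u

namespace Cfsg.Agent.Lib.H8

open Cfsg.Agent.Lib Cfsg.Agent.Lib.H10

/-- the abelian-version `Z(J(Q))` as a functor on groups -/
def zjW : ∀ (Q : Type u) [Group Q], Subgroup Q := fun Q _ => Cfsg.centerThompsonAOf (⊤ : Subgroup Q)

theorem map_subtype_top' {H : Type*} [Group H] (T : Subgroup H) :
    (⊤ : Subgroup T).map T.subtype = T := by
  rw [← MonoidHom.range_eq_map, Subgroup.range_subtype]

theorem inducedFunctor_zjW {H : Type u} [Group H] (T : Subgroup H) :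
    Cfsg.inducedFunctor zjW T = Cfsg.centerThompsonAOf T := by
  show (Cfsg.centerThompsonAOf (⊤ : Subgroup T)).map T.subtype = _
  rw [← H4.ZJ.centerThompsonAOf_map T.subtype ⊤ (T.subtype_injective.injOn), map_subtype_top']

theorem isCharPFunctor_zjW (p : ℕ) [Fact p.Prime] : Cfsg.IsCharPFunctor.{u} p zjW := by
  refine ⟨?_, ?_⟩
  · intro Q _ _ hQ hnt h
    have htop : (⊤ : Subgroup Q) ≠ ⊥ := by
      intro h'
      obtain ⟨x, hx⟩ := exists_ne (1 : Q)
      have : x ∈ (⊥ : Subgroup Q) := by rw [← h']; exact Subgroup.mem_top x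
      exact hx (Subgroup.mem_bot.mp this)
    have hp : IsPGroup p (⊤ : Subgroup Q) := hQ.to_subgroup _
    apply L0.zOf_ne_bot (⊤ : Subgroup Q) hp htop
    rw [eq_bot_iff]
    have h2 := L0.zOf_le_centerThompsonAOf (⊤ : Subgroup Q)
    have h3 : Cfsg.centerThompsonAOf (⊤ : Subgroup Q) = ⊥ := h
    rwa [h3] at h2
  · intro Q R _ _ _ hQ φ
    show (Cfsg.centerThompsonAOf (⊤ : Subgroup Q)).map φ.toMonoidHom =
      Cfsg.centerThompsonAOf (⊤ : Subgroup R)
    rw [← H4.ZJ.centerThompsonAOf_map φ.toMonoidHom ⊤ (φ.injective.injOn)]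
    congr 1
    rw [← MonoidHom.range_eq_map]
    exact MonoidHom.range_eq_top.mpr φ.surjective

theorem odd_card_of_isSec {G H : Type u} [Group G] [Group H] [Finite G] (hodd : Odd (Nat.card G))
    (hsec : IsSec G H) : Odd (Nat.card H) := by
  obtain ⟨K, f, hf⟩ := hsec
  have h1 : Nat.card H ∣ Nat.card K := Subgroup.card_dvd_of_surjective f hf
  have h2 : Nat.card K ∣ Nat.card G := Subgroup.card_subgroup_dvd_card K
  exact Odd.of_dvd_nat hodd (h1.trans h2)

/-- Glauberman's ZJ-theorem in a group of odd order. -/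
theorem zj_normal_of_odd {H : Type u} [Group H] [Finite H] (hodd : Odd (Nat.card H)) (p : ℕ)
    [Fact p.Prime] (hp2 : p ≠ 2)
    (hc : Subgroup.centralizer (Cfsg.pCore p H : Set H) ≤ Cfsg.pCore p H) (S : Sylow p H) :
    (Cfsg.centerThompsonAOf (S : Subgroup H)).Normal := by
  haveI := Cfsg.Agent.S0653.result hp2 hc
    (fun P _ hP a hq => H16.odd_quadratic_mem_pCore hp2 hodd P hP a hq) S
  infer_instance

/-- In a group of odd order, `Z(J(T))` controls `p`-transfer. -/
theorem zj_controls_transfer_of_odd {G : Type u} [Group G] [Finite G] (hodd : Odd (Nat.card G))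
    (p : ℕ) [Fact p.Prime] (hp2 : p ≠ 2) :
    ∃ T : Subgroup G, IsPGroup p T ∧ ¬ p ∣ T.index ∧
      T ⊓ ⁅(⊤ : Subgroup G), ⊤⁆ =
        T ⊓ ⁅Subgroup.normalizer (Cfsg.centerThompsonAOf T : Set G),
          Subgroup.normalizer (Cfsg.centerThompsonAOf T : Set G)⁆ := by
  have h𝓦 : ∀ W ∈ ({zjW} : Set (∀ (Q : Type u) [Group Q], Subgroup Q)),
      Cfsg.IsCharPFunctor.{u} p W := by
    intro W hW
    rw [Set.mem_singleton_iff.1 hW]
    exact isCharPFunctor_zjW p
  have hIF : ∀ (H : Type u) [Group H], IF {zjW} H = {Cfsg.inducedFunctor (G := H) zjW} := by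
    intro H _
    unfold IF
    rw [Set.image_singleton]
  have hloc : ∀ (H : Type u) [Group H] [Finite H], IsSec G H →
      Subgroup.centralizer ((Cfsg.pCore p H : Subgroup H) : Set H) ≤ Cfsg.pCore p H →
      ∀ S : Sylow p H, Cfsg.pCore p H ⊓ ⁅(⊤ : Subgroup H), ⊤⁆ ≤ TF (IF {zjW} H) ⊤ (S : Subgroup H) := by
    intro H _ _ hsec hcon S
    have hoddH := odd_card_of_isSec hodd hsec
    have hn := zj_normal_of_odd hoddH p hp2 hcon S
    rw [hIF]
    unfold TF
    rw [iSup_singleton, inducedFunctor_zjW, Subgroup.normalizer_eq_top_iff.mpr hn, top_inf_eq]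
    exact inf_le_inf_right _ (H1.pCore_le_sylow S)
  have hmain := familyTransfer_of_constrained_sections G {zjW} h𝓦 hloc (Nat.card G) G rfl isSec_self
  obtain ⟨T, -, hTp, hTi, hT⟩ := hmain
  refine ⟨T, hTp, ?_, ?_⟩
  · rwa [Subgroup.relIndex_top_right] at hTi
  · rw [hT, hIF, iSup_singleton, inducedFunctor_zjW, top_inf_eq]

end Cfsg.Agent.Lib.H8
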