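import Mathlib
import Cfsg.Agent.Lib.H8.CNSolv
import Cfsg.Agent.S1473
import Cfsg.Agent.Lib.H24.Garrison
import Cfsg.Agent.Lib.H7.DihedralLemma2
import Cfsg.Agent.Lib.H7.BenderMax2

/-!
# Three-step groups among solvable CN-groups (helper8 library)
-/

set_option autoImplicit false
open Cfsg
open scoped commutatorElement

namespace Cfsg.Agent.Lib.H8

/-- a nontrivial abelian normal subgroup inside a nontrivial nilpotent normal subgroup -/
theorem exists_abelian_normal_sub {G : Type*} [Group G] (N : Subgroup G) [hN : N.Normal]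
    (hnil : Group.IsNilpotent N) (hN1 : N ≠ ⊥) :
    ∃ Z : Subgroup G, Z ≤ N ∧ Z.Normal ∧ IsMulCommutative Z ∧ Z ≠ ⊥ := by
  refine ⟨(Subgroup.center N).map N.subtype, Subgroup.map_subtype_le _,
    ConjAct.normal_of_characteristic_of_normal, ?_, ?_⟩
  · refine ⟨⟨?_⟩⟩
    rintro ⟨_, ⟨x, hx, rfl⟩⟩ ⟨_, ⟨y, hy, rfl⟩⟩
    apply Subtype.ext
    show (x : G) * (y : G) = (y : G) * (x : G)
    have := (Subgroup.mem_center_iff.mp hx) y
    exact (congrArg Subtype.val this).symm
  · obtain ⟨z, hzN, hz1, hzc⟩ := exists_central_in_normal N N hnil le_rfl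
      (fun m _ n hn => hN.conj_mem n hn m) hN1
    intro h
    have : z ∈ (Subgroup.center N).map N.subtype := by
      refine ⟨⟨z, hzN⟩, ?_, rfl⟩
      rw [SetLike.mem_coe, Subgroup.mem_center_iff]
      intro g
      apply Subtype.ext
      exact (hzc g g.2).symm
    rw [h, Subgroup.mem_bot] at this
    exact hz1 this

/-- A solvable CN-group without nontrivial normal Sylow subgroups in which `O_p(G) ≠ 1` contains
its centralizer is a three-step group. -/
theorem cn_three_step {G : Type*} [Group G] [Finite G] [Group.IsSolvable G]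
    (hCN : Cfsg.IsCNGroup G)
    (hB : ∀ (p : ℕ) [Fact p.Prime] (P : Sylow p G), (P : Subgroup G).Normal → (P : Subgroup G) = ⊥)
    (p : ℕ) [hp : Fact p.Prime] (h1 : Cfsg.pCore p G ≠ ⊥)
    (hcent : Subgroup.centralizer (Cfsg.pCore p G : Set G) ≤ Cfsg.pCore p G) :
    Cfsg.IsThreeStepGroup p G := by
  haveI hP₀n : (Cfsg.pCore p G).Normal := Cfsg.Agent.Lib.H1.pCore_normal p G
  have hP₀p : IsPGroup p (Cfsg.pCore p G) := Cfsg.Agent.Lib.H1.pCore_isPGroup p G
  have hfpf := cn_fpf_of_coprime hCN p h1 hcent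
  -- `O_p(G)` is not a Sylow subgroup
  obtain ⟨P⟩ : Nonempty (Sylow p G) := inferInstance
  have hP₀P : Cfsg.pCore p G ≤ P := Cfsg.Agent.Lib.H1.pCore_le_sylow P
  obtain ⟨d, hdP, hd⟩ : ∃ d ∈ (P : Subgroup G), d ∉ Cfsg.pCore p G := by
    by_contra hcon
    push Not at hcon
    have heq : (P : Subgroup G) = Cfsg.pCore p G := le_antisymm hcon hP₀P
    have hPn : (P : Subgroup G).Normal := by rw [heq]; exact hP₀n
    have := hB p P hPn
    exact h1 (by rw [← heq]; exact this)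
  -- the quotient
  obtain ⟨π, hπdef⟩ : ∃ π : G →* G ⧸ Cfsg.pCore p G, π = QuotientGroup.mk' (Cfsg.pCore p G) :=
    ⟨_, rfl⟩
  have hπsurj : Function.Surjective π := by rw [hπdef]; exact QuotientGroup.mk'_surjective _
  have hπker : ∀ x, π x = 1 ↔ x ∈ Cfsg.pCore p G := by
    intro x; rw [hπdef]; exact QuotientGroup.eq_one_iff x
  have hCNq : Cfsg.IsCNGroup (G ⧸ Cfsg.pCore p G) :=
    Cfsg.Agent.S1473.result hCN (Cfsg.pCore p G) inferInstance
  haveI : Nontrivial (G ⧸ Cfsg.pCore p G) := ⟨⟨π d, 1, fun h => hd ((hπker d).mp h)⟩⟩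
  obtain ⟨Fb, hFbdef⟩ : ∃ Fb : Subgroup (G ⧸ Cfsg.pCore p G),
    Fb = Cfsg.fittingSubgroup (G ⧸ Cfsg.pCore p G) := ⟨_, rfl⟩
  have hFb1 : Fb ≠ ⊥ := by rw [hFbdef]; exact Cfsg.Agent.Lib.H24.fittingSubgroup_ne_bot
  haveI hFbn : Fb.Normal := by rw [hFbdef]; exact Cfsg.Agent.Lib.H1.fittingSubgroup_normal _
  haveI hFbnil : Group.IsNilpotent Fb := by
    rw [hFbdef]; exact Cfsg.Agent.Lib.H1.fittingSubgroup_isNilpotent
  have hFbcent : Subgroup.centralizer (Fb : Set (G ⧸ Cfsg.pCore p G)) ≤ Fb := by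
    rw [hFbdef]; exact Cfsg.Agent.Lib.H7.centralizer_fittingSubgroup_le_of_isSolvable _
  have hFbmax : ∀ N : Subgroup (G ⧸ Cfsg.pCore p G), N.Normal → Group.IsNilpotent N → N ≤ Fb := by
    intro N hN hnil; rw [hFbdef]; exact Cfsg.Agent.Lib.H1.le_fittingSubgroup hN hnil
  -- `p ∤ |Fb|`
  have hFbp : ¬ p ∣ Nat.card Fb := by
    intro hdvd
    rw [hFbdef] at hdvd
    have h2 : Cfsg.pCore p (G ⧸ Cfsg.pCore p G) ≠ ⊥ :=
      Cfsg.Agent.Lib.H7.pCore_ne_bot_of_dvd_card_fittingSubgroup p hdvd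
    have hRn : ((Cfsg.pCore p (G ⧸ Cfsg.pCore p G)).comap π).Normal :=
      (Cfsg.Agent.Lib.H1.pCore_normal p _).comap π
    have hRp : IsPGroup p ((Cfsg.pCore p (G ⧸ Cfsg.pCore p G)).comap π) := by
      rintro ⟨x, hx⟩
      obtain ⟨a, ha⟩ := pCore_pow p (Subgroup.mem_comap.mp hx)
      rw [← map_pow, hπker] at ha
      obtain ⟨b, hb⟩ := pCore_pow p ha
      refine ⟨a + b, Subtype.ext ?_⟩
      rw [Subgroup.coe_pow, Subgroup.coe_one, pow_add, pow_mul, hb]
    have hRle := Cfsg.Agent.Lib.H1.le_pCore hRn hRp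
    apply h2
    rw [eq_bot_iff]
    intro y hy
    obtain ⟨x, rfl⟩ := hπsurj y
    rw [Subgroup.mem_bot, hπker]
    exact hRle (Subgroup.mem_comap.mpr hy)
  -- `K`
  obtain ⟨K, hKdef⟩ : ∃ K : Subgroup G, K = Fb.comap π := ⟨_, rfl⟩
  have hmemK : ∀ x, x ∈ K ↔ π x ∈ Fb := by intro x; rw [hKdef, Subgroup.mem_comap]
  haveI hKn : K.Normal := by rw [hKdef]; exact hFbn.comap π
  have hP₀K : Cfsg.pCore p G ≤ K := by
    intro x hx; rw [hmemK, (hπker x).mpr hx]; exact one_mem _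
  have hmapK : K.map π = Fb := by
    rw [hKdef]; exact Subgroup.map_comap_eq_self_of_surjective hπsurj Fb
  have hrel : (Cfsg.pCore p G).relIndex K = Nat.card Fb := by
    have hk : Cfsg.pCore p G = (⊥ : Subgroup (G ⧸ Cfsg.pCore p G)).comap π := by
      rw [MonoidHom.comap_bot, hπdef, QuotientGroup.ker_mk']
    conv_lhs => rw [hk]
    rw [Subgroup.relIndex_comap, hmapK, Subgroup.relIndex_bot_left]
  have hcopK : ((Cfsg.pCore p G).relIndex K).Coprime p := by
    rw [hrel, Nat.coprime_comm]; exact (Nat.Prime.coprime_iff_not_dvd hp.out).mpr hFbp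
  obtain ⟨A, hAK, hAP₀, hsup, hAcop⟩ :=
    exists_complement_of_coprime_relIndex p (Cfsg.pCore p G) K hP₀p hP₀K hcopK
  have hA1 : A ≠ ⊥ := by
    intro h
    rw [h, sup_bot_eq] at hsup
    apply hFb1
    rw [eq_bot_iff]
    intro y hy
    obtain ⟨x, rfl⟩ := hπsurj y
    have : x ∈ K := (hmemK x).mpr hy
    rw [← hsup] at this
    rw [Subgroup.mem_bot, hπker]; exact this
  have hord : ∀ B : Subgroup G, (Nat.card B).Coprime p → ∀ b ∈ B, (orderOf b).Coprime p := by
    intro B hB b hb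
    have : orderOf b ∣ Nat.card B := by
      have := orderOf_dvd_natCard (⟨b, hb⟩ : B)
      rwa [Subgroup.orderOf_mk] at this
    exact Nat.Coprime.coprime_dvd_left this hB
  have hAfpf : ∀ a ∈ A, a ≠ 1 →
      Cfsg.pCore p G ⊓ Subgroup.centralizer ({a} : Set G) = ⊥ :=
    fun a ha ha1 => hfpf a ha1 (hord A hAcop a ha)
  have hnormtop : ∀ B : Subgroup G, B ≤ Subgroup.normalizer (Cfsg.pCore p G : Set G) := by
    intro B; rw [Subgroup.normalizer_eq_top_iff.2 hP₀n]; exact le_top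
  have hπA : ∀ a ∈ A, π a ∈ Fb := fun a ha => (hmemK a).mp (hAK ha)
  have hAnil : Group.IsNilpotent A := by
    let φ : A →* Fb := (π.comp A.subtype).codRestrict Fb (fun a => hπA a a.2)
    apply isNilpotent_of_injective' φ
    rw [injective_iff_map_eq_one]
    intro a ha
    have h2 : π (a : G) = 1 := congrArg Subtype.val ha
    have h3 : (a : G) ∈ Cfsg.pCore p G ⊓ A := ⟨(hπker _).mp h2, a.2⟩
    rw [hAP₀, Subgroup.mem_bot] at h3
    exact Subtype.ext h3
  have hAodd : Odd (Nat.card A) := by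
    by_cases hp2 : p = 2
    · subst hp2; exact Nat.coprime_two_right.mp hAcop
    · by_contra hne
      have heven : 2 ∣ Nat.card A := even_iff_two_dvd.mp (Nat.not_odd_iff_even.mp hne)
      haveI : Fact (Nat.Prime 2) := ⟨Nat.prime_two⟩
      obtain ⟨t, ht⟩ := exists_prime_orderOf_dvd_card' 2 heven
      have ht' : orderOf (t : G) = 2 := by rw [Subgroup.orderOf_coe]; exact ht
      exact cn_no_involution hCN p hp2 h1 hcent hfpf P d hdP hd (t : G) ht'
  have hAcyc : IsCyclic A := isCyclic_of_fpf_nilpotent_odd h1 (hnormtop A) hAfpf hAnil hAodd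
  have hπAeq : A.map π = Fb := by
    rw [← hmapK, ← hsup, Subgroup.map_sup]
    have : (Cfsg.pCore p G).map π = ⊥ := by
      rw [eq_bot_iff]; rintro _ ⟨x, hx, rfl⟩; rw [Subgroup.mem_bot, hπker]; exact hx
    rw [this, bot_sup_eq]
  haveI hFbcyc : IsCyclic Fb := by
    rw [← hπAeq]
    exact isCyclic_of_surjective (π.subgroupMap A) (π.subgroupMap_surjective A)
  have hFbcomm : ∀ x ∈ Fb, ∀ y ∈ Fb, x * y = y * x := by
    intro x hx y hy
    letI := IsCyclic.commGroup (α := Fb)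
    have := mul_comm (⟨x, hx⟩ : Fb) ⟨y, hy⟩
    exact congrArg Subtype.val this
  -- commutators lie in `Fb`
  have hcomm : ∀ x y : G ⧸ Cfsg.pCore p G, ⁅x, y⁆ ∈ Fb := by
    intro x y
    apply hFbcent
    letI : CommGroup (MulAut Fb) :=
      (IsCyclic.mulAutMulEquiv Fb).toMonoidHom.commGroupOfInjective
        (IsCyclic.mulAutMulEquiv Fb).injective
    have h2 : (MulAut.conjNormal ⁅x, y⁆ : MulAut Fb) = 1 := by
      rw [map_commutatorElement, commutatorElement_eq_one_iff_commute]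
      exact Commute.all _ _
    rw [Subgroup.mem_centralizer_iff]
    intro w hw
    have h3 : ((MulAut.conjNormal ⁅x, y⁆ : MulAut Fb) ⟨w, hw⟩ : Fb) = ⟨w, hw⟩ := by
      rw [h2]; rfl
    have h4 := congrArg Subtype.val h3
    rw [MulAut.conjNormal_apply] at h4
    calc w * ⁅x, y⁆ = (⁅x, y⁆ * w * ⁅x, y⁆⁻¹) * ⁅x, y⁆ := by rw [h4]
      _ = ⁅x, y⁆ * w := by group
  -- centralizers of elements of `Fb`
  have hB9 : ∀ m ∈ Fb, m ≠ 1 →
      Subgroup.centralizer ({m} : Set (G ⧸ Cfsg.pCore p G)) ≤ Fb := by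
    intro m hm hm1
    have hCnil := hCNq m hm1
    apply hFbmax _ _ hCnil
    constructor
    intro c hc g
    have : g * c * g⁻¹ = ⁅g, c⁆ * c := by rw [commutatorElement_def]; group
    rw [this]
    apply mul_mem _ hc
    rw [mem_centralizer_singleton']
    exact hFbcomm m hm _ (hcomm g c)
  -- condition (v)
  have hv : ∀ x : G, x ∉ Cfsg.pCore p G ⊔ A → ∀ a ∈ A, a ≠ 1 →
      x * a * x⁻¹ * a⁻¹ ∉ Cfsg.pCore p G := by
    intro x hx a ha ha1 hmem
    apply hx
    rw [hsup]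
    have hπa1 : π a ≠ 1 := by
      intro h
      have : a ∈ Cfsg.pCore p G ⊓ A := ⟨(hπker a).mp h, ha⟩
      rw [hAP₀, Subgroup.mem_bot] at this
      exact ha1 this
    have h2 : π x * π a = π a * π x := by
      have h3 := (hπker _).mpr hmem
      rw [map_mul, map_mul, map_mul, map_inv, map_inv] at h3
      calc π x * π a = (π x * π a * (π x)⁻¹ * (π a)⁻¹) * (π a * π x) := by group
        _ = π a * π x := by rw [h3, one_mul]
    exact (hmemK x).mpr (hB9 (π a) (hπA a ha) hπa1 (mem_centralizer_singleton'.mpr h2.symm))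
  -- `K ≠ ⊤`
  have hdK : d ∉ K := by
    intro hdK
    apply hd
    rw [← hπker]
    obtain ⟨k, hk⟩ := P.isPGroup' ⟨d, hdP⟩
    have hk' : d ^ p ^ k = 1 := by simpa using congrArg Subtype.val hk
    have h2 : orderOf (π d) ∣ p ^ k := by
      apply orderOf_dvd_of_pow_eq_one
      rw [← map_pow, hk', map_one]
    have h3 : orderOf (π d) ∣ Nat.card Fb := by
      have := orderOf_dvd_natCard (⟨π d, (hmemK d).mp hdK⟩ : Fb)
      rwa [Subgroup.orderOf_mk] at this
    have h4 : (Nat.card Fb).Coprime (p ^ k) :=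
      Nat.Coprime.pow_right k ((Nat.Prime.coprime_iff_not_dvd hp.out).mpr hFbp).symm
    have h5 : orderOf (π d) = 1 := Nat.eq_one_of_dvd_coprimes h4 h3 h2
    exact orderOf_eq_one_iff.mp h5
  -- the index of `K` is a power of `p`
  obtain ⟨Z, hZP₀, hZn, hZc, hZ1⟩ := exists_abelian_normal_sub (Cfsg.pCore p G) hP₀p.isNilpotent h1
  have hidx : ∃ n : ℕ, K.index = p ^ n := by
    refine ⟨K.index.primeFactorsList.length,
      Nat.eq_prime_pow_of_unique_prime_dvd Subgroup.index_ne_zero_of_finite ?_⟩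
    intro r hr hrdvd
    by_contra hrp
    haveI : Fact r.Prime := ⟨hr⟩
    obtain ⟨R⟩ : Nonempty (Sylow r G) := inferInstance
    obtain ⟨u, huR, huK⟩ : ∃ u ∈ (R : Subgroup G), u ∉ K := by
      by_contra hcon
      push Not at hcon
      have : K.index ∣ (R : Subgroup G).index := Subgroup.index_dvd_of_le hcon
      exact R.not_dvd_index (hrdvd.trans this)
    obtain ⟨j, hj⟩ : ∃ j : ℕ, u ^ r ^ j = 1 := by
      obtain ⟨j, hj⟩ := R.isPGroup' ⟨u, huR⟩
      exact ⟨j, by simpa using congrArg Subtype.val hj⟩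
    obtain ⟨T, hTdef⟩ : ∃ T : Subgroup G, T = K ⊔ Subgroup.zpowers u := ⟨_, rfl⟩
    have hKT : K ≤ T := by rw [hTdef]; exact le_sup_left
    have huT : u ∈ T := by
      rw [hTdef]; exact (le_sup_right : Subgroup.zpowers u ≤ _) (Subgroup.mem_zpowers u)
    have hcopT : ((Cfsg.pCore p G).relIndex T).Coprime p := by
      rw [← Subgroup.relIndex_mul_relIndex _ _ _ hP₀K hKT]
      apply Nat.Coprime.mul_left hcopK
      have h2 : K.relIndex T = K.relIndex (Subgroup.zpowers u) := by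
        rw [hTdef]; exact Subgroup.relIndex_sup_left _ _
      rw [h2]
      have h3 : K.relIndex (Subgroup.zpowers u) ∣ Nat.card (Subgroup.zpowers u) :=
        Subgroup.relIndex_dvd_card _ _
      rw [Nat.card_zpowers] at h3
      have h4 : orderOf u ∣ r ^ j := orderOf_dvd_of_pow_eq_one hj
      exact Nat.Coprime.coprime_dvd_left (h3.trans h4)
        (Nat.Coprime.pow_left _ ((Nat.coprime_primes hr hp.out).mpr hrp))
    obtain ⟨B, hBT, hBP₀, hBsup, hBcop⟩ :=
      exists_complement_of_coprime_relIndex p (Cfsg.pCore p G) T hP₀p (hP₀K.trans hKT) hcopT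
    have hBfpf : ∀ b ∈ B, b ≠ 1 → Z ⊓ Subgroup.centralizer ({b} : Set G) = ⊥ := by
      intro b hb hb1
      rw [eq_bot_iff, ← hfpf b hb1 (hord B hBcop b hb)]
      exact inf_le_inf_right _ hZP₀
    haveI := hZc
    have hBnil : Group.IsNilpotent B := by
      apply nilpotent_of_fpf_cn hCN Z B hZ1 _ hBfpf
      rw [Subgroup.normalizer_eq_top_iff.2 hZn]; exact le_top
    obtain ⟨a, haA, ha1⟩ : ∃ a ∈ A, a ≠ 1 := by
      rw [Ne, Subgroup.eq_bot_iff_forall] at hA1
      push Not at hA1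
      exact hA1
    have haT : a ∈ Cfsg.pCore p G ⊔ B := by rw [hBsup]; exact hKT (hAK haA)
    rw [← SetLike.mem_coe, Subgroup.normal_mul] at haT
    obtain ⟨y, hy, b, hb, hab⟩ := Set.mem_mul.mp haT
    have hbK : b ∈ K := by
      have : b = y⁻¹ * a := by rw [← hab]; group
      rw [this]; exact mul_mem (inv_mem (hP₀K hy)) (hAK haA)
    have hb1 : b ≠ 1 := by
      intro h
      rw [h, mul_one] at hab
      have : a ∈ Cfsg.pCore p G ⊓ A := ⟨hab ▸ hy, haA⟩
      rw [hAP₀, Subgroup.mem_bot] at this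
      exact ha1 this
    have hBK1 : B ⊓ K ≠ ⊥ := by
      intro h
      have : b ∈ B ⊓ K := ⟨hb, hbK⟩
      rw [h, Subgroup.mem_bot] at this
      exact hb1 this
    obtain ⟨z, hzBK, hz1, hzc⟩ := exists_central_in_normal B (B ⊓ K) hBnil inf_le_left
      (fun m hm n hn => ⟨B.mul_mem (B.mul_mem hm hn.1) (B.inv_mem hm), hKn.conj_mem n hn.2 m⟩) hBK1
    have hπz1 : π z ≠ 1 := by
      intro h
      have : z ∈ Cfsg.pCore p G ⊓ B := ⟨(hπker z).mp h, hzBK.1⟩
      rw [hBP₀, Subgroup.mem_bot] at this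
      exact hz1 this
    have hBK : B ≤ K := by
      intro b' hb'
      rw [hmemK]
      apply hB9 (π z) ((hmemK z).mp hzBK.2) hπz1
      rw [mem_centralizer_singleton', ← map_mul, ← map_mul, hzc b' hb']
    apply huK
    have : T ≤ K := by rw [← hBsup]; exact sup_le hP₀K hBK
    exact this huT
  refine ⟨h1, A, hA1, hAcyc, hAodd, hAcop, ?_, ?_, ?_, hAfpf, hv⟩
  · rw [hsup]; exact hKn
  · rw [hsup]
    intro h
    apply hdK
    rw [h]
    exact Subgroup.mem_top d
  · rw [hsup]; exact hidx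

/-- In a non-nilpotent solvable CN-group without nontrivial normal Sylow subgroups there is a prime
`p` with `C_G(O_p(G)) ≤ O_p(G) ≠ 1`. -/
theorem cn_exists_prime {G : Type*} [Group G] [Finite G] [Group.IsSolvable G]
    (hCN : Cfsg.IsCNGroup G) (hnn : ¬ Group.IsNilpotent G)
    (hB : ∀ (p : ℕ) [Fact p.Prime] (P : Sylow p G), (P : Subgroup G).Normal → (P : Subgroup G) = ⊥) :
    ∃ (p : ℕ) (_ : Fact p.Prime), Cfsg.pCore p G ≠ ⊥ ∧
      Subgroup.centralizer (Cfsg.pCore p G : Set G) ≤ Cfsg.pCore p G := by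
  haveI : Nontrivial G := by
    by_contra h
    rw [not_nontrivial_iff_subsingleton] at h
    exact hnn inferInstance
  have hF1 := Cfsg.Agent.Lib.H24.fittingSubgroup_ne_bot (Q := G)
  have hcard : Nat.card (Cfsg.fittingSubgroup G) ≠ 1 := by
    intro h; exact hF1 (Subgroup.card_eq_one.mp h)
  obtain ⟨p, hp, hpdvd⟩ := Nat.exists_prime_and_dvd hcard
  haveI : Fact p.Prime := ⟨hp⟩
  have h1 := Cfsg.Agent.Lib.H7.pCore_ne_bot_of_dvd_card_fittingSubgroup p hpdvd
  refine ⟨p, ⟨hp⟩, h1, ?_⟩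
  have hFle : Cfsg.fittingSubgroup G ≤ Cfsg.pCore p G := by
    rw [Cfsg.Agent.Lib.H1.fittingSubgroup_eq_iSup_pCore]
    apply iSup_le
    intro q
    haveI : Fact (q : ℕ).Prime := ⟨q.2⟩
    by_cases hqp : (q : ℕ) = p
    · rw [hqp]
    · have : Cfsg.pCore (q : ℕ) G = ⊥ := by
        by_contra h2
        exact cn_pCore_unique hCN hB p q (Ne.symm hqp) h1 h2
      rw [this]; exact bot_le
  calc Subgroup.centralizer (Cfsg.pCore p G : Set G)
      ≤ Subgroup.centralizer (Cfsg.fittingSubgroup G : Set G) := Subgroup.centralizer_le hFle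
    _ ≤ Cfsg.fittingSubgroup G := Cfsg.Agent.Lib.H7.centralizer_fittingSubgroup_le_of_isSolvable G
    _ ≤ Cfsg.pCore p G := hFle

end Cfsg.Agent.Lib.H8
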