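import Mathlib
import Cfsg.Agent.Lib.H8.CNSolv
import Cfsg.Agent.Lib.H8.CNThreeStep
import Cfsg.Agent.S1474

/-!
# Three-step groups inside solvable CN-groups of odd order (helper8 library)
-/

set_option autoImplicit false
open Cfsg
open scoped commutatorElement

namespace Cfsg.Agent.Lib.H8

/-- In a three-step group `O_p` contains its centralizer. -/
theorem threeStep_centralizer_le {X : Type*} [Group X] [Finite X] (p : ℕ) [hp : Fact p.Prime]
    (h3 : Cfsg.IsThreeStepGroup p X) :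
    Subgroup.centralizer (Cfsg.pCore p X : Set X) ≤ Cfsg.pCore p X := by
  obtain ⟨h1, A, hA1, hAcyc, hAodd, hAcop, hLn, hLtop, hidx, hfpf, hv⟩ := h3
  haveI hP₀n : (Cfsg.pCore p X).Normal := Cfsg.Agent.Lib.H1.pCore_normal p X
  obtain ⟨a₀, ha₀A, ha₀1⟩ : ∃ a ∈ A, a ≠ 1 := by
    rw [Ne, Subgroup.eq_bot_iff_forall] at hA1
    push Not at hA1
    exact hA1
  -- elements of `L ∩ C(P₀)` lie in `P₀`
  have hclaim : ∀ d, d ∈ Cfsg.pCore p X ⊔ A → d ∈ Subgroup.centralizer (Cfsg.pCore p X : Set X) →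
      d ∈ Cfsg.pCore p X := by
    intro d hdL hdC
    rw [← SetLike.mem_coe, Subgroup.normal_mul] at hdL
    obtain ⟨y, hy, a', ha', hya⟩ := Set.mem_mul.mp hdL
    obtain ⟨k, hk⟩ := pCore_pow p hy
    have hdy : Commute y⁻¹ d := by
      have := (Subgroup.mem_centralizer_iff.mp hdC) y⁻¹ (inv_mem hy)
      exact this
    have ha'e : a' = y⁻¹ * d := by rw [← hya]; group
    have hpow : a' ^ p ^ k = d ^ p ^ k := by
      rw [ha'e, hdy.mul_pow, inv_pow, hk, inv_one, one_mul]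
    have hpowC : a' ^ p ^ k ∈ Subgroup.centralizer (Cfsg.pCore p X : Set X) := by
      rw [hpow]; exact pow_mem hdC _
    have hpow1 : a' ^ p ^ k = 1 := by
      by_contra hne
      have h2 := hfpf _ (pow_mem ha' _) hne
      apply h1
      rw [eq_bot_iff, ← h2]
      intro x hx
      refine ⟨hx, ?_⟩
      show x ∈ Subgroup.centralizer {a' ^ p ^ k}
      rw [mem_centralizer_singleton']
      exact ((Subgroup.mem_centralizer_iff.mp hpowC) x hx).symm
    have hord : orderOf a' ∣ p ^ k := orderOf_dvd_of_pow_eq_one hpow1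
    have hord2 : orderOf a' ∣ Nat.card A := by
      have := orderOf_dvd_natCard (⟨a', ha'⟩ : A)
      rwa [Subgroup.orderOf_mk] at this
    have hcop : (Nat.card A).Coprime (p ^ k) := Nat.Coprime.pow_right k hAcop
    have ha'1 : a' = 1 := orderOf_eq_one_iff.mp (Nat.eq_one_of_dvd_coprimes hcop hord2 hord)
    rw [← hya, ha'1, mul_one]
    exact hy
  intro c hc
  by_cases hcL : c ∈ Cfsg.pCore p X ⊔ A
  · exact hclaim c hcL hc
  · exfalso
    apply hv c hcL a₀ ha₀A ha₀1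
    have hCn : (Subgroup.centralizer (Cfsg.pCore p X : Set X)).Normal := Subgroup.normal_centralizer
    apply hclaim
    · have h2 : c * a₀ * c⁻¹ ∈ Cfsg.pCore p X ⊔ A :=
        hLn.conj_mem a₀ ((le_sup_right : A ≤ _) ha₀A) c
      exact mul_mem h2 (inv_mem ((le_sup_right : A ≤ _) ha₀A))
    · have h2 : a₀ * c⁻¹ * a₀⁻¹ ∈ Subgroup.centralizer (Cfsg.pCore p X : Set X) :=
        hCn.conj_mem _ (inv_mem hc) a₀
      have h3 : c * a₀ * c⁻¹ * a₀⁻¹ = c * (a₀ * c⁻¹ * a₀⁻¹) := by group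
      rw [h3]
      exact mul_mem hc h2

/-- If `O_p(X)` contains its centralizer then every nilpotent normal subgroup lies in `O_p(X)`. -/
theorem normal_nilpotent_le_pCore {X : Type*} [Group X] [Finite X] (p : ℕ) [hp : Fact p.Prime]
    (hc : Subgroup.centralizer (Cfsg.pCore p X : Set X) ≤ Cfsg.pCore p X)
    (N : Subgroup X) (hN : N.Normal) (hnil : Group.IsNilpotent N) : N ≤ Cfsg.pCore p X := by
  have hNF : N ≤ Cfsg.fittingSubgroup X := Cfsg.Agent.Lib.H1.le_fittingSubgroup hN hnil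
  have hPF : Cfsg.pCore p X ≤ Cfsg.fittingSubgroup X :=
    Cfsg.Agent.Lib.H1.le_fittingSubgroup (Cfsg.Agent.Lib.H1.pCore_normal p X)
      (Cfsg.Agent.Lib.H1.pCore_isPGroup p X).isNilpotent
  have hFnil : Group.IsNilpotent (Cfsg.fittingSubgroup X) :=
    Cfsg.Agent.Lib.H1.fittingSubgroup_isNilpotent
  apply Cfsg.Agent.Lib.H1.le_pCore hN
  rintro ⟨n, hn⟩
  obtain ⟨c₁, c₂, hc₁, hc₂, hdec, ⟨k, hc₁p⟩, hc₂p⟩ :=
    exists_p_decomp n (orderOf_pos n).ne' p hp.out
  have hzN : Subgroup.zpowers n ≤ N := by rw [Subgroup.zpowers_le]; exact hn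
  have hc₂C : c₂ ∈ Subgroup.centralizer (Cfsg.pCore p X : Set X) := by
    rw [Subgroup.mem_centralizer_iff]
    intro y hy
    apply mul_comm_of_coprime_of_mem_nilpotent _ hFnil (hPF hy) (hNF (hzN hc₂))
    exact orderOf_coprime_of_pgroups (pCore_pow p hy) hc₂p
  obtain ⟨j, hj⟩ := pCore_pow p (hc hc₂C)
  have h1 : orderOf c₂ = 1 :=
    Nat.Coprime.eq_one_of_dvd (Nat.Coprime.pow_right j hc₂p) (orderOf_dvd_of_pow_eq_one hj)
  have h2 : c₂ = 1 := orderOf_eq_one_iff.mp h1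
  refine ⟨k, Subtype.ext ?_⟩
  rw [Subgroup.coe_pow, Subgroup.coe_one]
  show n ^ p ^ k = 1
  rw [hdec, h2, mul_one, hc₁p]

/-- The trichotomy for solvable CN-groups of odd order, with the largest normal nilpotent Hall
subgroup as Frobenius kernel and a cyclic complement. -/
theorem cn_solvable_odd_trichotomy {Y : Type*} [Group Y] [Finite Y] [Group.IsSolvable Y]
    (hCN : Cfsg.IsCNGroup Y) (hodd : Odd (Nat.card Y)) :
    Group.IsNilpotent Y ∨
      (Cfsg.fittingHall Y ≠ ⊥ ∧ Cfsg.fittingHall Y ≠ ⊤ ∧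
        ∃ E : Subgroup Y, Subgroup.IsComplement' (Cfsg.fittingHall Y) E ∧
          Cfsg.IsFrobeniusComplement E ∧
          (∀ e ∈ E, e ≠ 1 → Cfsg.fittingHall Y ⊓ Subgroup.centralizer ({e} : Set Y) = ⊥) ∧
          IsCyclic E) ∨
      ∃ (r : ℕ) (_ : Fact r.Prime), Cfsg.IsThreeStepGroup r Y := by
  by_cases hnil : Group.IsNilpotent Y
  · exact Or.inl hnil
  right
  by_cases hA : ∃ (p : ℕ) (_ : Fact p.Prime) (P : Sylow p Y),
      (P : Subgroup Y) ≠ ⊥ ∧ (P : Subgroup Y).Normal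
  · left
    obtain ⟨p, hp, P, hP1, hPn⟩ := hA
    obtain ⟨hH1, hH2, ⟨E, hHE, hFrob, hfpf⟩, hquot⟩ := Cfsg.Agent.S1474.result hCN hnil p P hP1 hPn
    haveI hHn : (Cfsg.fittingHall Y).Normal := inferInstance
    haveI := hquot
    have hEnil : Group.IsNilpotent E := by
      apply isNilpotent_of_injective' ((QuotientGroup.mk' (Cfsg.fittingHall Y)).comp E.subtype)
      rw [injective_iff_map_eq_one]
      intro e he
      have h2 : (e : Y) ∈ Cfsg.fittingHall Y := (QuotientGroup.eq_one_iff (e : Y)).mp he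
      have h3 : (e : Y) ∈ Cfsg.fittingHall Y ⊓ E := ⟨h2, e.2⟩
      rw [hHE.disjoint.eq_bot, Subgroup.mem_bot] at h3
      exact Subtype.ext h3
    have hEnorm : E ≤ Subgroup.normalizer (Cfsg.fittingHall Y : Set Y) := by
      rw [Subgroup.normalizer_eq_top_iff.2 hHn]; exact le_top
    refine ⟨hH1, hH2, E, hHE, hFrob, hfpf, ?_⟩
    rcases fpf_nilpotent_structure hH1 hEnorm hfpf hEnil with hc | ⟨C, Q, -, -, -, -, n, ⟨e⟩⟩
    · exact hc
    · exfalso
      haveI : NeZero (2 ^ n) := ⟨pow_ne_zero _ two_ne_zero⟩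
      have h1 : Nat.card Q = 4 * 2 ^ n := by
        rw [Nat.card_congr e.toEquiv, Nat.card_eq_fintype_card, QuaternionGroup.card]
      have h2 : Nat.card Q ∣ Nat.card Y := Subgroup.card_subgroup_dvd_card Q
      have h3 : Odd (Nat.card Q) := Odd.of_dvd_nat hodd h2
      rw [h1] at h3
      have : Even (4 * 2 ^ n) := ⟨2 * 2 ^ n, by ring⟩
      exact (Nat.not_even_iff_odd.mpr h3) this
  · right
    have hB : ∀ (p : ℕ) [Fact p.Prime] (P : Sylow p Y), (P : Subgroup Y).Normal →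
        (P : Subgroup Y) = ⊥ := by
      intro p hp P hPn
      by_contra h
      exact hA ⟨p, hp, P, h, hPn⟩
    obtain ⟨p, hp, h1, hcent⟩ := cn_exists_prime hCN hnil hB
    exact ⟨p, hp, cn_three_step hCN hB p h1 hcent⟩

/-- Bezout: `s ^ a, s ^ b ∈ H` with `a, b` coprime gives `s ∈ H`. -/
theorem mem_of_pow_mem_of_pow_mem_coprime {X : Type*} [Group X] (H : Subgroup X) {s : X} {a b : ℕ}
    (hab : Nat.Coprime a b) (ha : s ^ a ∈ H) (hb : s ^ b ∈ H) : s ∈ H := by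
  have h1 := Nat.gcd_eq_gcd_ab a b
  rw [hab.gcd_eq_one] at h1
  have h2 : s = (s ^ a) ^ (Nat.gcdA a b) * (s ^ b) ^ (Nat.gcdB a b) := by
    rw [← zpow_natCast, ← zpow_natCast, ← zpow_mul, ← zpow_mul, ← zpow_add, ← h1]
    simp
  rw [h2]
  exact mul_mem (zpow_mem ha _) (zpow_mem hb _)

/-- commutators of a subgroup `N ⊔ B` with `N` normal and `B` commutative lie in `N` -/
theorem commutator_mem_of_sup_comm {Y : Type*} [Group Y] (N B : Subgroup Y) [hN : N.Normal]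
    (hB : ∀ a ∈ B, ∀ b ∈ B, a * b = b * a) {u v : Y} (hu : u ∈ N ⊔ B) (hv : v ∈ N ⊔ B) :
    ⁅u, v⁆ ∈ N := by
  rw [← SetLike.mem_coe, Subgroup.normal_mul] at hu hv
  obtain ⟨n₁, hn₁, b₁, hb₁, rfl⟩ := Set.mem_mul.mp hu
  obtain ⟨n₂, hn₂, b₂, hb₂, rfl⟩ := Set.mem_mul.mp hv
  rw [← QuotientGroup.eq_one_iff (N := N), commutatorElement_def]
  have e1 : ((n₁ : Y) : Y ⧸ N) = 1 := (QuotientGroup.eq_one_iff n₁).mpr hn₁
  have e2 : ((n₂ : Y) : Y ⧸ N) = 1 := (QuotientGroup.eq_one_iff n₂).mpr hn₂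
  simp only [QuotientGroup.mk_mul, QuotientGroup.mk_inv, e1, e2, one_mul]
  have e3 : ((b₁ : Y) : Y ⧸ N) * (b₂ : Y ⧸ N) = (b₂ : Y ⧸ N) * (b₁ : Y ⧸ N) := by
    rw [← QuotientGroup.mk_mul, ← QuotientGroup.mk_mul, hB b₁ hb₁ b₂ hb₂]
  calc (b₁ : Y ⧸ N) * (b₂ : Y ⧸ N) * (b₁ : Y ⧸ N)⁻¹ * (b₂ : Y ⧸ N)⁻¹
      = ((b₁ : Y ⧸ N) * (b₂ : Y ⧸ N)) * ((b₂ : Y ⧸ N) * (b₁ : Y ⧸ N))⁻¹ := by group
    _ = 1 := by rw [e3]; group

/-- A solvable CN-group of odd order containing a three-step group with respect to `p` is itself a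
three-step group with respect to `p`. -/
theorem cn_threeStep_of_embedding {X Y : Type*} [Group X] [Group Y] [Finite Y]
    [Group.IsSolvable Y] (hCN : Cfsg.IsCNGroup Y) (hodd : Odd (Nat.card Y)) (f : X →* Y)
    (hf : Function.Injective f) (p : ℕ) [hp : Fact p.Prime] (h3 : Cfsg.IsThreeStepGroup p X) :
    Cfsg.IsThreeStepGroup p Y := by
  haveI : Finite X := Finite.of_injective f hf
  have hcent := threeStep_centralizer_le p h3
  have hmax := normal_nilpotent_le_pCore p hcent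
  obtain ⟨h1, A, hA1, hAcyc, hAodd, hAcop, hLn, hLtop, ⟨m, hm⟩, hfpf, hv⟩ := h3
  obtain ⟨a₀, ha₀A, ha₀1⟩ : ∃ a ∈ A, a ≠ 1 := by
    rw [Ne, Subgroup.eq_bot_iff_forall] at hA1
    push Not at hA1
    exact hA1
  obtain ⟨x₀, hx₀P, hx₀1⟩ : ∃ x ∈ Cfsg.pCore p X, x ≠ 1 := by
    rw [Ne, Subgroup.eq_bot_iff_forall] at h1
    push Not at h1
    exact h1
  obtain ⟨s, hs⟩ : ∃ s, s ∉ Cfsg.pCore p X ⊔ A := by
    by_contra hcon
    push Not at hcon
    exact hLtop (eq_top_iff.mpr (fun x _ => hcon x))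
  have ha₀ord : (orderOf a₀).Coprime p := by
    have : orderOf a₀ ∣ Nat.card A := by
      have := orderOf_dvd_natCard (⟨a₀, ha₀A⟩ : A)
      rwa [Subgroup.orderOf_mk] at this
    exact Nat.Coprime.coprime_dvd_left this hAcop
  have hcomm_contra : ⁅s, a₀⁆ ∈ Cfsg.pCore p X → False := by
    intro h
    rw [commutatorElement_def] at h
    exact hv s hs a₀ ha₀A ha₀1 h
  rcases cn_solvable_odd_trichotomy hCN hodd with hnil | ⟨hK1, hK2, E, hKE, hFrob, hEfpf, hEcyc⟩ |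
    ⟨r, hr, h3r⟩
  · -- nilpotent
    exfalso
    haveI := hnil
    haveI : Group.IsNilpotent X := isNilpotent_of_injective' f hf
    have hc := commute_of_coprime_orderOf X x₀ a₀
      (orderOf_coprime_of_pgroups (pCore_pow p hx₀P) ha₀ord)
    have : x₀ ∈ Cfsg.pCore p X ⊓ Subgroup.centralizer ({a₀} : Set X) :=
      ⟨hx₀P, mem_centralizer_singleton'.mpr hc.eq.symm⟩
    rw [hfpf a₀ ha₀A ha₀1, Subgroup.mem_bot] at this
    exact hx₀1 this
  · -- Frobenius type
    exfalso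
    have hEcomm : ∀ a ∈ E, ∀ b ∈ E, a * b = b * a := by
      intro a ha b hb
      letI := IsCyclic.commGroup (α := E)
      have := mul_comm (⟨a, ha⟩ : E) ⟨b, hb⟩
      exact congrArg Subtype.val this
    have hsup : Cfsg.fittingHall Y ⊔ E = ⊤ := hKE.sup_eq_top
    have hYK : ∀ u v : Y, ⁅u, v⁆ ∈ Cfsg.fittingHall Y := by
      intro u v
      apply commutator_mem_of_sup_comm (Cfsg.fittingHall Y) E hEcomm
      · rw [hsup]; exact Subgroup.mem_top u
      · rw [hsup]; exact Subgroup.mem_top v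
    have hNn : ((Cfsg.fittingHall Y).comap f).Normal := Subgroup.Normal.comap inferInstance f
    have hNnil : Group.IsNilpotent ((Cfsg.fittingHall Y).comap f) := by
      haveI := fittingHall_isNilpotent (G := Y)
      apply isNilpotent_of_injective' (f.subgroupComap (Cfsg.fittingHall Y))
      intro a b hab
      apply Subtype.ext
      apply hf
      exact congrArg Subtype.val hab
    apply hcomm_contra
    apply hmax _ hNn hNnil
    rw [Subgroup.mem_comap, map_commutatorElement]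
    exact hYK _ _
  · by_cases hrp : r = p
    · subst hrp
      exact h3r
    exfalso
    obtain ⟨h1r, B, hB1, hBcyc, -, hBcop, hLrn, -, ⟨n, hn⟩, -, -⟩ := h3r
    haveI hR₀n : (Cfsg.pCore r Y).Normal := Cfsg.Agent.Lib.H1.pCore_normal r Y
    have hBcomm : ∀ a ∈ B, ∀ b ∈ B, a * b = b * a := by
      intro a ha b hb
      letI := IsCyclic.commGroup (α := B)
      have := mul_comm (⟨a, ha⟩ : B) ⟨b, hb⟩
      exact congrArg Subtype.val this
    -- `N₀ = f⁻¹(O_r(Y)) = 1`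
    have hN₀n : ((Cfsg.pCore r Y).comap f).Normal := Subgroup.Normal.comap inferInstance f
    have hN₀r : ∀ x ∈ (Cfsg.pCore r Y).comap f, ∃ k : ℕ, x ^ r ^ k = 1 := by
      intro x hx
      obtain ⟨k, hk⟩ := pCore_pow r (Subgroup.mem_comap.mp hx)
      refine ⟨k, hf ?_⟩
      rw [map_pow, hk, map_one]
    have hN₀p : IsPGroup r ((Cfsg.pCore r Y).comap f) := by
      rintro ⟨x, hx⟩
      obtain ⟨k, hk⟩ := hN₀r x hx
      exact ⟨k, Subtype.ext (by rw [Subgroup.coe_pow, Subgroup.coe_one]; exact hk)⟩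
    have hN₀le := hmax _ hN₀n hN₀p.isNilpotent
    have hN₀bot : ∀ x ∈ (Cfsg.pCore r Y).comap f, x = 1 := by
      intro x hx
      obtain ⟨k, hk⟩ := hN₀r x hx
      obtain ⟨j, hj⟩ := pCore_pow p (hN₀le hx)
      have hcop : Nat.Coprime (r ^ k) (p ^ j) :=
        Nat.Coprime.pow _ _ ((Nat.coprime_primes hr.out hp.out).mpr hrp)
      exact orderOf_eq_one_iff.mp (Nat.eq_one_of_dvd_coprimes hcop
        (orderOf_dvd_of_pow_eq_one hk) (orderOf_dvd_of_pow_eq_one hj))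
    -- `N₁ = f⁻¹(O_r(Y) B)` is abelian
    have hN₁n : ((Cfsg.pCore r Y ⊔ B).comap f).Normal := Subgroup.Normal.comap hLrn f
    have hN₁comm : ∀ x ∈ (Cfsg.pCore r Y ⊔ B).comap f, ∀ y ∈ (Cfsg.pCore r Y ⊔ B).comap f,
        x * y = y * x := by
      intro x hx y hy
      have h2 : ⁅x, y⁆ ∈ (Cfsg.pCore r Y).comap f := by
        rw [Subgroup.mem_comap, map_commutatorElement]
        exact commutator_mem_of_sup_comm _ B hBcomm (Subgroup.mem_comap.mp hx)
          (Subgroup.mem_comap.mp hy)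
      have h3 := hN₀bot _ h2
      rw [commutatorElement_eq_one_iff_mul_comm] at h3
      exact h3
    have hN₁nil : Group.IsNilpotent ((Cfsg.pCore r Y ⊔ B).comap f) := by
      letI : CommGroup ((Cfsg.pCore r Y ⊔ B).comap f) :=
        { (inferInstance : Group ((Cfsg.pCore r Y ⊔ B).comap f)) with
          mul_comm := fun a b => Subtype.ext (hN₁comm a a.2 b b.2) }
      exact CommGroup.isNilpotent
    have hN₁le := hmax _ hN₁n hN₁nil
    have hs1 : s ^ r ^ n ∈ Cfsg.pCore p X ⊔ A := by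
      apply (le_sup_left : Cfsg.pCore p X ≤ _)
      apply hN₁le
      rw [Subgroup.mem_comap, map_pow, ← hn]
      exact Subgroup.pow_index_mem _ _
    have hs2 : s ^ p ^ m ∈ Cfsg.pCore p X ⊔ A := by
      rw [← hm]
      exact Subgroup.pow_index_mem _ _
    have hcop : Nat.Coprime (r ^ n) (p ^ m) :=
      Nat.Coprime.pow _ _ ((Nat.coprime_primes hr.out hp.out).mpr hrp)
    exact hs (mem_of_pow_mem_of_pow_mem_coprime _ hcop hs1 hs2)

end Cfsg.Agent.Lib.H8
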