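import Mathlib
import Cfsg.Prelude.Def_OddOrder
import Cfsg.Agent.Lib.H8.OddTransfer
import Cfsg.Agent.Lib.H8.ThreeStep

/-!
# Minimal simple CN-groups of odd order: no three-step subgroups (helper8 library)
-/

set_option autoImplicit false
open Cfsg
open scoped commutatorElement

universe u

namespace Cfsg.Agent.Lib.H8

theorem commutator_top_of_simple {G : Type*} [Group G] (hs : IsSimpleGroup G)
    (hnc : ¬ IsMulCommutative G) : ⁅(⊤ : Subgroup G), (⊤ : Subgroup G)⁆ = ⊤ := by
  haveI := hs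
  have hn : (⁅(⊤ : Subgroup G), (⊤ : Subgroup G)⁆).Normal := inferInstance
  rcases hn.eq_bot_or_eq_top with h | h
  · exfalso
    apply hnc
    rw [Subgroup.commutator_eq_bot_iff_le_centralizer] at h
    refine ⟨⟨fun a b => ?_⟩⟩
    have := (Subgroup.mem_centralizer_iff.mp (h (Subgroup.mem_top b))) a (Subgroup.mem_top a)
    exact this
  · exact h

theorem sylow_eq_map_conj {G : Type*} [Group G] [Finite G] {p : ℕ} [Fact p.Prime]
    (P Q : Sylow p G) : ∃ g : G, (Q : Subgroup G) = (P : Subgroup G).map (MulAut.conj g).toMonoidHom := by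
  obtain ⟨g, hg⟩ := MulAction.exists_smul_eq G P Q
  refine ⟨g, ?_⟩
  ext x
  rw [← hg, Sylow.coe_subgroup_smul, Subgroup.mem_pointwise_smul_iff_inv_smul_mem, Subgroup.mem_map]
  constructor
  · intro h
    refine ⟨_, h, ?_⟩
    simp only [MulAut.smul_def, MulEquiv.coe_toMonoidHom, MulAut.conj_apply, MulAut.conj_inv_apply]
    group
  · rintro ⟨y, hy, rfl⟩
    have : (MulAut.conj g)⁻¹ • ((MulAut.conj g).toMonoidHom y) = y := by
      simp only [MulAut.smul_def, MulEquiv.coe_toMonoidHom, MulAut.conj_apply, MulAut.conj_inv_apply]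
      group
    rw [this]
    exact hy

/-- In a minimal simple group of odd order every Sylow `p`-subgroup lies in the derived group of
`N_G(Z(J(P)))`. -/
theorem minSimple_sylow_le_commutator {G : Type u} [Group G] [Finite G]
    (hG : Cfsg.IsMinSimpleOddOrder G) (p : ℕ) [Fact p.Prime] (hp2 : p ≠ 2) (P : Sylow p G) :
    (P : Subgroup G) ≤ ⁅Subgroup.normalizer (Cfsg.centerThompsonAOf (P : Subgroup G) : Set G),
      Subgroup.normalizer (Cfsg.centerThompsonAOf (P : Subgroup G) : Set G)⁆ := by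
  obtain ⟨T, hTp, hTi, hT⟩ := zj_controls_transfer_of_odd hG.1 p hp2
  rw [commutator_top_of_simple hG.2.1 hG.2.2.1, inf_top_eq] at hT
  have hTle : T ≤ ⁅Subgroup.normalizer (Cfsg.centerThompsonAOf T : Set G),
      Subgroup.normalizer (Cfsg.centerThompsonAOf T : Set G)⁆ := by
    have h := inf_eq_left.mp hT.symm
    exact h
  obtain ⟨g, hg⟩ := sylow_eq_map_conj (hTp.toSylow hTi) P
  rw [IsPGroup.toSylow_coe] at hg
  rw [hg, Cfsg.Agent.Lib.H4.ZJ.centerThompsonAOf_map _ T ((MulAut.conj g).injective.injOn),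
    ← Subgroup.map_equiv_normalizer_eq, ← Subgroup.map_commutator]
  exact Subgroup.map_mono hTle

/-- basic facts on proper subgroups of a minimal simple CN-group of odd order -/
theorem minSimple_proper {G : Type u} [Group G] [Finite G]
    (hG : Cfsg.IsMinSimpleOddOrder G) (hCN : Cfsg.IsCNGroup G) (N : Subgroup G) (hN : N ≠ ⊤) :
    Group.IsSolvable N ∧ Cfsg.IsCNGroup N ∧ Odd (Nat.card N) :=
  ⟨hG.2.2.2 N hN, isCNGroup_of_injective N.subtype N.subtype_injective hCN,
    Odd.of_dvd_nat hG.1 (Subgroup.card_subgroup_dvd_card N)⟩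

/-- a minimal simple group is not a `p`-group -/
theorem minSimple_not_isPGroup {G : Type u} [Group G] [Finite G]
    (hG : Cfsg.IsMinSimpleOddOrder G) (p : ℕ) [Fact p.Prime] : ¬ IsPGroup p G := by
  intro h
  haveI := hG.2.1
  haveI : Group.IsNilpotent G := h.isNilpotent
  have hs : Group.IsSolvable G := inferInstance
  apply hG.2.2.1
  exact ⟨⟨IsSimpleGroup.comm_iff_isSolvable.mpr hs⟩⟩

/-- the normalizer of a nontrivial `p`-subgroup of a minimal simple group is proper -/
theorem minSimple_normalizer_ne_top {G : Type u} [Group G] [Finite G]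
    (hG : Cfsg.IsMinSimpleOddOrder G) (p : ℕ) [Fact p.Prime] (Z : Subgroup G) (hZp : IsPGroup p Z)
    (hZ1 : Z ≠ ⊥) : Subgroup.normalizer (Z : Set G) ≠ ⊤ := by
  intro h
  haveI := hG.2.1
  have hn : Z.Normal := Subgroup.normalizer_eq_top_iff.mp h
  rcases hn.eq_bot_or_eq_top with h1 | h1
  · exact hZ1 h1
  · apply minSimple_not_isPGroup hG p
    rw [h1] at hZp
    intro g
    obtain ⟨k, hk⟩ := hZp ⟨g, Subgroup.mem_top g⟩
    exact ⟨k, by simpa using congrArg Subtype.val hk⟩

/-- No subgroup of a minimal simple CN-group of odd order is a three-step group with respect to a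
prime. -/
theorem minSimple_no_threeStep_prime {G : Type u} [Group G] [Finite G]
    (hG : Cfsg.IsMinSimpleOddOrder G) (hCN : Cfsg.IsCNGroup G) (p : ℕ) [hp : Fact p.Prime]
    (M₀ : Subgroup G) (h₀ : Cfsg.IsThreeStepGroup p ↥M₀) : False := by
  classical
  -- `p` is odd
  have hp2 : p ≠ 2 := by
    intro h2
    obtain ⟨x, hx, hx1⟩ : ∃ x ∈ Cfsg.pCore p ↥M₀, x ≠ 1 := by
      have h1 := h₀.1
      rw [Ne, Subgroup.eq_bot_iff_forall] at h1
      push Not at h1
      exact h1
    obtain ⟨k, hk⟩ := pCore_pow p hx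
    have hord : orderOf x ∣ p ^ k := orderOf_dvd_of_pow_eq_one hk
    have hne : orderOf x ≠ 1 := fun h => hx1 (orderOf_eq_one_iff.mp h)
    have hpd : p ∣ orderOf x := by
      obtain ⟨j, -, hj⟩ := (Nat.dvd_prime_pow hp.out).mp hord
      rcases Nat.eq_zero_or_pos j with h0 | hpos
      · rw [h0, pow_zero] at hj; exact absurd hj hne
      · rw [hj]; exact dvd_pow_self p hpos.ne'
    have h3 : p ∣ Nat.card G :=
      (hpd.trans (orderOf_dvd_natCard x)).trans (Subgroup.card_subgroup_dvd_card M₀)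
    rw [h2] at h3
    exact (Nat.not_even_iff_odd.mpr hG.1) (even_iff_two_dvd.mpr h3)
  -- maximal choice
  obtain ⟨M, hM3, hMmax⟩ : ∃ M : Subgroup G, Cfsg.IsThreeStepGroup p ↥M ∧
      ∀ M' : Subgroup G, Cfsg.IsThreeStepGroup p ↥M' →
        (Nat.card M').factorization p ≤ (Nat.card M).factorization p := by
    obtain ⟨M, hM, hmax⟩ := Set.exists_max_image {M : Subgroup G | Cfsg.IsThreeStepGroup p ↥M}
      (fun M => (Nat.card M).factorization p) (Set.toFinite _) ⟨M₀, h₀⟩
    exact ⟨M, hM, fun M' hM' => hmax M' hM'⟩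
  have hoddM : Odd (Nat.card M) := Odd.of_dvd_nat hG.1 (Subgroup.card_subgroup_dvd_card M)
  obtain ⟨SX⟩ : Nonempty (Sylow p ↥M) := inferInstance
  obtain ⟨T, hTdef⟩ : ∃ T : Subgroup G, T = (SX : Subgroup ↥M).map M.subtype := ⟨_, rfl⟩
  have hTM : T ≤ M := by rw [hTdef]; exact Subgroup.map_subtype_le _
  have hTp : IsPGroup p T := by rw [hTdef]; exact SX.isPGroup'.map _
  have hTcard : Nat.card T = p ^ (Nat.card M).factorization p := by
    rw [hTdef, Subgroup.card_map_of_injective M.subtype_injective]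
    exact SX.card_eq_multiplicity
  have hZ₁n : (Cfsg.centerThompsonAOf (SX : Subgroup ↥M)).Normal :=
    zj_normal_of_odd hoddM p hp2 (threeStep_centralizer_le p hM3) SX
  have hZ : Cfsg.centerThompsonAOf T = (Cfsg.centerThompsonAOf (SX : Subgroup ↥M)).map M.subtype := by
    rw [hTdef]
    exact Cfsg.Agent.Lib.H4.ZJ.centerThompsonAOf_map M.subtype _ (M.subtype_injective.injOn)
  obtain ⟨N₁, hN₁def⟩ : ∃ N₁ : Subgroup G,
    N₁ = Subgroup.normalizer (Cfsg.centerThompsonAOf T : Set G) := ⟨_, rfl⟩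
  have hMN₁ : M ≤ N₁ := by
    rw [hN₁def, hZ]
    have h1 := Subgroup.le_normalizer_map M.subtype
      (H := Cfsg.centerThompsonAOf (SX : Subgroup ↥M))
    rw [Subgroup.normalizer_eq_top_iff.mpr hZ₁n, ← MonoidHom.range_eq_map, Subgroup.range_subtype] at h1
    exact h1
  have hNT : Subgroup.normalizer (T : Set G) ≤ N₁ := by
    rw [hN₁def, ← Cfsg.Agent.Lib.H4.ZJ.ZJ_abClass]
    exact Cfsg.Agent.Lib.H4.ZJ.normalizer_le_normalizer_ZJ T
  have hT1 : T ≠ ⊥ := by
    intro h
    apply hM3.1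
    rw [eq_bot_iff]
    intro x hx
    have hx' : (x : G) ∈ T := by
      rw [hTdef]
      exact Subgroup.mem_map_of_mem _ (Cfsg.Agent.Lib.H1.pCore_le_sylow SX hx)
    rw [h, Subgroup.mem_bot] at hx'
    exact Subgroup.mem_bot.mpr (Subtype.ext hx')
  have hZ1 : Cfsg.centerThompsonAOf T ≠ ⊥ := by
    intro h
    apply Cfsg.Agent.Lib.L0.zOf_ne_bot T hTp hT1
    rw [eq_bot_iff, ← h]
    exact Cfsg.Agent.Lib.L0.zOf_le_centerThompsonAOf T
  have hZp : IsPGroup p (Cfsg.centerThompsonAOf T) :=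
    hTp.to_le (Cfsg.Agent.Lib.L0.centerThompsonAOf_le T)
  have hN₁top : N₁ ≠ ⊤ := by
    rw [hN₁def]; exact minSimple_normalizer_ne_top hG p _ hZp hZ1
  obtain ⟨hN₁sol, hN₁CN, hN₁odd⟩ := minSimple_proper hG hCN N₁ hN₁top
  haveI := hN₁sol
  have h3N₁ : Cfsg.IsThreeStepGroup p ↥N₁ :=
    cn_threeStep_of_embedding hN₁CN hN₁odd (Subgroup.inclusion hMN₁)
      (Subgroup.inclusion_injective hMN₁) p hM3
  have hk := hMmax N₁ h3N₁
  -- `T` is a Sylow subgroup of `G`
  obtain ⟨P, hTP⟩ := hTp.exists_le_sylow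
  have hTeq : T = (P : Subgroup G) := by
    by_contra hne
    have hlt : T < (P : Subgroup G) := lt_of_le_of_ne hTP hne
    haveI : Group.IsNilpotent (P : Subgroup G) := P.isPGroup'.isNilpotent
    have hlt' : T.subgroupOf (P : Subgroup G) < ⊤ := by
      rw [lt_top_iff_ne_top]
      intro h
      apply hne
      apply le_antisymm hTP
      rw [← Subgroup.subgroupOf_eq_top]
      exact h
    have hnc := Group.normalizerCondition_of_isNilpotent (G := (P : Subgroup G)) _ hlt'
    obtain ⟨x, hxN, hxT⟩ := SetLike.exists_of_lt hnc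
    have hxNG : (x : G) ∈ Subgroup.normalizer (T : Set G) := by
      rw [Subgroup.mem_normalizer_iff] at hxN ⊢
      intro z
      constructor
      · intro hz
        have := (hxN ⟨z, hTP hz⟩).mp (Subgroup.mem_subgroupOf.mpr hz)
        exact Subgroup.mem_subgroupOf.mp this
      · intro hz
        have hzP : z ∈ (P : Subgroup G) := by
          have : z = (x : G)⁻¹ * ((x : G) * z * (x : G)⁻¹) * (x : G) := by group
          rw [this]
          exact mul_mem (mul_mem (inv_mem x.2) (hTP hz)) x.2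
        have := (hxN ⟨z, hzP⟩).mpr (Subgroup.mem_subgroupOf.mpr hz)
        exact Subgroup.mem_subgroupOf.mp this
    obtain ⟨P₁, hP₁def⟩ : ∃ P₁ : Subgroup G,
      P₁ = (P : Subgroup G) ⊓ Subgroup.normalizer (T : Set G) := ⟨_, rfl⟩
    have hP₁p : IsPGroup p P₁ := by rw [hP₁def]; exact P.isPGroup'.to_le inf_le_left
    have hTP₁ : T < P₁ := by
      rw [hP₁def]
      refine lt_of_le_of_ne (le_inf hTP Subgroup.le_normalizer) ?_
      intro h
      apply hxT
      rw [Subgroup.mem_subgroupOf, h]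
      exact ⟨x.2, hxNG⟩
    have hP₁N₁ : P₁ ≤ N₁ := by rw [hP₁def]; exact inf_le_right.trans hNT
    obtain ⟨b, hb⟩ := IsPGroup.iff_card.mp hP₁p
    have hcardlt := Cfsg.Agent.Lib.L0.card_lt_card_of_lt hTP₁
    rw [hTcard, hb] at hcardlt
    have hab : (Nat.card M).factorization p < b := (Nat.pow_lt_pow_iff_right hp.out.one_lt).mp hcardlt
    have hdvd : p ^ b ∣ Nat.card N₁ := by
      rw [← hb]; exact Subgroup.card_dvd_of_le hP₁N₁
    have hb2 : b ≤ (Nat.card N₁).factorization p :=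
      (hp.out.pow_dvd_iff_le_factorization Nat.card_pos.ne').mp hdvd
    omega
  -- transfer
  have htr := minSimple_sylow_le_commutator hG p hp2 P
  rw [← hTeq, ← hN₁def] at htr
  obtain ⟨-, A', -, -, -, -, hL'n, hL'top, ⟨n', hn'⟩, -, -⟩ := h3N₁
  obtain ⟨L', hL'def⟩ : ∃ L' : Subgroup ↥N₁, L' = Cfsg.pCore p ↥N₁ ⊔ A' := ⟨_, rfl⟩
  rw [← hL'def] at hL'n hL'top hn'
  haveI := hL'n
  -- the Sylow subgroup and `L'` generate `N₁`
  have hTN₁ : T ≤ N₁ := hTM.trans hMN₁
  have hTidx : ¬ p ∣ (T.subgroupOf N₁).index := by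
    have h1 : T.relIndex N₁ * N₁.index = T.index := Subgroup.relIndex_mul_index hTN₁
    intro hd
    apply P.not_dvd_index
    rw [← hTeq, ← h1]
    exact Dvd.dvd.mul_right hd _
  have hsup : T.subgroupOf N₁ ⊔ L' = ⊤ := by
    rw [← Subgroup.index_eq_one]
    have h1 : (T.subgroupOf N₁ ⊔ L').index ∣ (T.subgroupOf N₁).index :=
      Subgroup.index_dvd_of_le le_sup_left
    have h2 : (T.subgroupOf N₁ ⊔ L').index ∣ p ^ n' := by
      rw [← hn']; exact Subgroup.index_dvd_of_le le_sup_right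
    have hcop : Nat.Coprime (T.subgroupOf N₁).index (p ^ n') :=
      Nat.Coprime.pow_right _ ((Nat.Prime.coprime_iff_not_dvd hp.out).mpr hTidx).symm
    exact Nat.eq_one_of_dvd_coprimes hcop h1 h2
  have hTcomm : T.subgroupOf N₁ ≤ commutator ↥N₁ := by
    intro t ht
    have h1 : (t : G) ∈ ⁅N₁, N₁⁆ := htr (Subgroup.mem_subgroupOf.mp ht)
    rw [← Subgroup.map_subtype_commutator] at h1
    obtain ⟨y, hy, hyt⟩ := h1
    have : y = t := Subtype.ext hyt
    rw [← this]; exact hy
  -- the quotient `N₁ / L'` is a nontrivial `p`-group equal to its derived group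
  haveI hQnt : Nontrivial (↥N₁ ⧸ L') := by
    by_contra hcon
    rw [not_nontrivial_iff_subsingleton] at hcon
    apply hL'top
    rw [eq_top_iff]
    intro x _
    rw [← QuotientGroup.eq_one_iff]
    exact Subsingleton.elim _ _
  have hQp : IsPGroup p (↥N₁ ⧸ L') := by
    apply IsPGroup.of_card (n := n')
    rw [← hn', Subgroup.index_eq_card]
  haveI : Group.IsNilpotent (↥N₁ ⧸ L') := hQp.isNilpotent
  have hlt := Group.IsSolvable.commutator_lt_top_of_nontrivial (↥N₁ ⧸ L')
  apply hlt.ne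
  rw [eq_top_iff]
  intro q _
  obtain ⟨y, rfl⟩ := QuotientGroup.mk'_surjective L' q
  have hy : y ∈ T.subgroupOf N₁ ⊔ L' := by rw [hsup]; exact Subgroup.mem_top y
  rw [← SetLike.mem_coe, Subgroup.mul_normal] at hy
  obtain ⟨t, ht, l, hl, rfl⟩ := Set.mem_mul.mp hy
  have h1 : QuotientGroup.mk' L' (t * l) = QuotientGroup.mk' L' t := by
    have e : QuotientGroup.mk' L' l = 1 := (QuotientGroup.eq_one_iff l).mpr hl
    rw [map_mul, e, mul_one]
  rw [h1]
  have h2 : t ∈ commutator ↥N₁ := hTcomm ht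
  have h3 : (commutator ↥N₁).map (QuotientGroup.mk' L') ≤ commutator (↥N₁ ⧸ L') := by
    rw [commutator_def, commutator_def, Subgroup.map_commutator]
    exact Subgroup.commutator_mono le_top le_top
  exact h3 (Subgroup.mem_map_of_mem _ h2)

end Cfsg.Agent.Lib.H8
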