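import Mathlib
import Cfsg.Agent.Lib.H8.MinSimpleCN
import Cfsg.Agent.Lib.H8.FrobType
import Cfsg.Agent.Lib.H7.TypeP
import Cfsg.Agent.Lib.H23.DefectZero

/-!
# Structure of proper subgroups of minimal simple CN-groups of odd order (helper8 library)
-/

set_option autoImplicit false
open Cfsg
open scoped commutatorElement

universe u

namespace Cfsg.Agent.Lib.H8

theorem fittingHallOf_le {G : Type u} [Group G] (N : Subgroup G) : Cfsg.fittingHallOf N ≤ N :=
  Subgroup.map_subtype_le _

theorem fittingHallOf_isNilpotent {G : Type u} [Group G] [Finite G] (N : Subgroup G) :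
    Group.IsNilpotent (Cfsg.fittingHallOf N) := by
  haveI := fittingHall_isNilpotent (G := ↥N)
  exact Group.nilpotent_of_mulEquiv
    ((Cfsg.fittingHall ↥N).equivMapOfInjective N.subtype N.subtype_injective)

theorem le_normalizer_fittingHallOf {G : Type u} [Group G] (N : Subgroup G) :
    N ≤ Subgroup.normalizer (Cfsg.fittingHallOf N : Set G) := by
  have h1 := Subgroup.le_normalizer_map N.subtype (H := Cfsg.fittingHall ↥N)
  rw [Subgroup.normalizer_eq_top_iff.mpr inferInstance, ← MonoidHom.range_eq_map,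
    Subgroup.range_subtype] at h1
  exact h1

/-- universal property of the largest normal nilpotent Hall subgroup -/
theorem le_fittingHallOf {G : Type u} [Group G] {H N : Subgroup G} (hHN : H ≤ N)
    (hnil : Group.IsNilpotent H) (hnorm : N ≤ Subgroup.normalizer (H : Set G))
    (hcop : (Nat.card H).Coprime (H.relIndex N)) : H ≤ Cfsg.fittingHallOf N := by
  have h1 : (H.subgroupOf N).Normal := Subgroup.normal_subgroupOf_of_le_normalizer hnorm
  have h2 : Group.IsNilpotent (H.subgroupOf N) := by
    haveI := hnil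
    exact Group.nilpotent_of_mulEquiv (Subgroup.subgroupOfEquivOfLe hHN).symm
  have h3 : (Nat.card (H.subgroupOf N)).Coprime (H.subgroupOf N).index := by
    rw [Nat.card_congr (Subgroup.subgroupOfEquivOfLe hHN).toEquiv]; exact hcop
  have h4 := le_fittingHall h1 h2 h3
  have h5 : (H.subgroupOf N).map N.subtype ≤ (Cfsg.fittingHall ↥N).map N.subtype :=
    Subgroup.map_mono h4
  rw [Subgroup.map_subgroupOf_eq_of_le hHN] at h5
  exact h5

/-- Every proper subgroup of a minimal simple CN-group of odd order is nilpotent or of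
Frobenius type with kernel its largest normal nilpotent Hall subgroup. -/
theorem minSimple_proper_structure {G : Type u} [Group G] [Finite G]
    (hG : Cfsg.IsMinSimpleOddOrder G) (hCN : Cfsg.IsCNGroup G) (N : Subgroup G) (hN : N ≠ ⊤) :
    Group.IsNilpotent N ∨ ∃ E : Subgroup G, IsFrobType (Cfsg.fittingHallOf N) E N := by
  obtain ⟨hsol, hCN', hodd⟩ := minSimple_proper hG hCN N hN
  haveI := hsol
  rcases cn_solvable_odd_trichotomy hCN' hodd with
    h | ⟨h1, h2, E', hcompl, hFrob, hfpf, hcyc⟩ | ⟨r, hr, h3⟩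
  · exact Or.inl h
  · right
    have hinj := N.subtype_injective
    refine ⟨E'.map N.subtype, ?_⟩
    refine
      { K_le := Subgroup.map_subtype_le _
        E_le := Subgroup.map_subtype_le _
        inf_eq := ?_
        prod := ?_
        normal := le_normalizer_fittingHallOf N
        K_ne := ?_
        E_ne := ?_
        comm := ?_
        nil := fittingHallOf_isNilpotent N
        hall := ?_
        fpf := ?_ }
    · show (Cfsg.fittingHall ↥N).map N.subtype ⊓ E'.map N.subtype = ⊥
      rw [← Subgroup.map_inf _ _ N.subtype hinj, disjoint_iff.mp hcompl.disjoint,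
        Subgroup.map_bot]
    · intro m hm
      obtain ⟨⟨a, b⟩, hab, -⟩ := (Subgroup.isComplement'_def.mp hcompl).existsUnique ⟨m, hm⟩
      refine ⟨((a : ↥N) : G), Subgroup.mem_map_of_mem _ a.2, ((b : ↥N) : G),
        Subgroup.mem_map_of_mem _ b.2, ?_⟩
      exact (congrArg Subtype.val hab).symm
    · show (Cfsg.fittingHall ↥N).map N.subtype ≠ ⊥
      rw [Ne, Subgroup.map_eq_bot_iff_of_injective _ hinj]
      exact h1
    · rw [Ne, Subgroup.map_eq_bot_iff_of_injective _ hinj]
      exact hFrob.1
    · rintro _ ⟨a, ha, rfl⟩ _ ⟨b, hb, rfl⟩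
      haveI := hcyc
      obtain ⟨g, hg⟩ := IsCyclic.exists_generator (α := ↥E')
      obtain ⟨n, hn⟩ := Subgroup.mem_zpowers_iff.mp (hg ⟨a, ha⟩)
      obtain ⟨m, hm⟩ := Subgroup.mem_zpowers_iff.mp (hg ⟨b, hb⟩)
      have h4 : (⟨a, ha⟩ : ↥E') * ⟨b, hb⟩ = ⟨b, hb⟩ * ⟨a, ha⟩ := by
        rw [← hn, ← hm]; exact zpow_mul_comm g n m
      have h5 : a * b = b * a := congrArg Subtype.val h4
      show (a : G) * (b : G) = (b : G) * (a : G)
      exact congrArg Subtype.val h5
    · have e1 : Nat.card (Cfsg.fittingHallOf N) = Nat.card (Cfsg.fittingHall ↥N) :=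
        Subgroup.card_map_of_injective hinj
      have e2 : Nat.card (E'.map N.subtype) = Nat.card E' :=
        Subgroup.card_map_of_injective hinj
      rw [e1, e2, ← hcompl.symm.index_eq_card]
      exact Cfsg.Agent.Lib.H7.fittingHall_coprime
    · rintro _ ⟨e', he', rfl⟩ he1
      have he'1 : e' ≠ 1 := by
        intro h; apply he1; rw [h]; rfl
      rw [eq_bot_iff]
      rintro x ⟨hxK, hxc⟩
      obtain ⟨x', hx', rfl⟩ := hxK
      have h4 : x' ∈ Cfsg.fittingHall ↥N ⊓ Subgroup.centralizer ({e'} : Set ↥N) :=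
        ⟨hx', mem_centralizer_singleton'.mpr
          (Subtype.ext (mem_centralizer_singleton'.mp hxc))⟩
      rw [hfpf e' he' he'1, Subgroup.mem_bot] at h4
      rw [h4]
      exact Subgroup.one_mem _
  · haveI := hr
    exact (minSimple_no_threeStep_prime hG hCN r N h3).elim

/-- a minimal simple group is not nilpotent -/
theorem minSimple_not_nilpotent {G : Type u} [Group G] [Finite G]
    (hG : Cfsg.IsMinSimpleOddOrder G) : ¬ Group.IsNilpotent G := by
  intro h
  haveI := hG.2.1
  haveI := h
  have hs : Group.IsSolvable G := inferInstance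
  apply hG.2.2.1
  exact ⟨⟨IsSimpleGroup.comm_iff_isSolvable.mpr hs⟩⟩

/-- the normalizer of a nontrivial nilpotent subgroup of a minimal simple group is proper -/
theorem minSimple_normalizer_ne_top_of_nilpotent {G : Type u} [Group G] [Finite G]
    (hG : Cfsg.IsMinSimpleOddOrder G) (K : Subgroup G) (hK : Group.IsNilpotent K)
    (hK1 : K ≠ ⊥) : Subgroup.normalizer (K : Set G) ≠ ⊤ := by
  intro h
  haveI := hG.2.1
  have hn : K.Normal := Subgroup.normalizer_eq_top_iff.mp h
  rcases hn.eq_bot_or_eq_top with h1 | h1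
  · exact hK1 h1
  · apply minSimple_not_nilpotent hG
    rw [h1] at hK
    haveI := hK
    exact Group.nilpotent_of_mulEquiv (Subgroup.topEquiv (G := G))

/-- a maximal nilpotent subgroup of a nontrivial CN-group is nontrivial -/
theorem maxNil_ne_bot {G : Type u} [Group G] [Nontrivial G] (hCN : Cfsg.IsCNGroup G)
    (H : Subgroup G) (hmax : ∀ L : Subgroup G, Group.IsNilpotent L → H ≤ L → L = H) : H ≠ ⊥ := by
  intro h
  obtain ⟨x, hx⟩ := exists_ne (1 : G)
  have h1 := hmax _ (hCN x hx) (by rw [h]; exact bot_le)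
  have h2 : x ∈ Subgroup.centralizer ({x} : Set G) := mem_centralizer_singleton'.mpr rfl
  rw [h1, h, Subgroup.mem_bot] at h2
  exact hx h2

/-- normalizers grow in nilpotent subgroups -/
theorem exists_normalizer_of_lt_nilpotent {G : Type u} [Group G] {T L : Subgroup G}
    (hL : Group.IsNilpotent L) (hTL : T < L) :
    ∃ x ∈ L, x ∈ Subgroup.normalizer (T : Set G) ∧ x ∉ T := by
  haveI := hL
  have hlt' : T.subgroupOf L < ⊤ := by
    rw [lt_top_iff_ne_top]
    intro h
    apply hTL.ne
    apply le_antisymm hTL.le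
    rw [← Subgroup.subgroupOf_eq_top]
    exact h
  have hnc := Group.normalizerCondition_of_isNilpotent (G := L) _ hlt'
  obtain ⟨x, hxN, hxT⟩ := SetLike.exists_of_lt hnc
  refine ⟨x, x.2, ?_, fun h => hxT (Subgroup.mem_subgroupOf.mpr h)⟩
  rw [Subgroup.mem_normalizer_iff] at hxN ⊢
  intro z
  constructor
  · intro hz
    have := (hxN ⟨z, hTL.le hz⟩).mp (Subgroup.mem_subgroupOf.mpr hz)
    exact Subgroup.mem_subgroupOf.mp this
  · intro hz
    have hzP : z ∈ L := by
      have : z = (x : G)⁻¹ * ((x : G) * z * (x : G)⁻¹) * (x : G) := by group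
      rw [this]
      exact mul_mem (mul_mem (inv_mem x.2) (hTL.le hz)) x.2
    have := (hxN ⟨z, hzP⟩).mpr (Subgroup.mem_subgroupOf.mpr hz)
    exact Subgroup.mem_subgroupOf.mp this

end Cfsg.Agent.Lib.H8
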