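import Mathlib

/-!
# S4719 Part II (Theorem Q): shared definitions

`Γ` a finite group, `G V : Subgroup Γ`, `V` a four-group normalizing `G`,
`v₂ |G| ≤ a`, `|C_G(v)| ≤ n` for `v ∈ V`, `v ≠ 1`.  Theorem Q: `|G| ≤ qBound a n`.
-/

set_option autoImplicit false

universe u

namespace Cfsg.Agent.Lib.H8.BQ

/-- The standing hypothesis of Theorem Q. -/
structure QHyp {Γ : Type*} [Group Γ] (G V : Subgroup Γ) (a n : ℕ) : Prop where
  norm : V ≤ Subgroup.normalizer (G : Set Γ)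
  card4 : Nat.card V = 4
  exp2 : ∀ v ∈ V, v * v = 1
  val : (Nat.card G).factorization 2 ≤ a
  cent : ∀ v ∈ V, v ≠ 1 → Nat.card ↥(G ⊓ Subgroup.centralizer {v}) ≤ n

/-- `G` has no nontrivial odd-order subgroup normalized by `G` and `V` (i.e. `O(G) = 1`). -/
def OddFree {Γ : Type*} [Group Γ] (G V : Subgroup Γ) : Prop :=
  ∀ Y : Subgroup Γ, Y ≤ G → Odd (Nat.card Y) → G ≤ Subgroup.normalizer (Y : Set Γ) →
    V ≤ Subgroup.normalizer (Y : Set Γ) → Y = ⊥

/-- The statement "Theorem Q holds with bound `F` for the parameters `a n`" in universe `u`. -/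
def QStmt (a n F : ℕ) : Prop :=
  ∀ (Γ : Type u) [Group Γ] [Finite Γ] (G V : Subgroup Γ), QHyp G V a n → Nat.card G ≤ F

/-- The Brauer–Fowler constant `c = 2 n ^ 2`. -/
def cc (n : ℕ) : ℕ := 2 * n ^ 2

/-- The index bound `c ^ (4 c)` for the centralizer of the normal closure. -/
def cC (n : ℕ) : ℕ := cc n ^ (4 * cc n)

/-- The bound of the core step (`O(G) = 1`), given the bound `F` for `a - 1`. -/
def qCore (F a n : ℕ) : ℕ := max (2 * n) (max (cC n * n) (cC n * 2 ^ a * F))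

/-- The bound of Theorem Q. -/
def qBound : ℕ → ℕ → ℕ
  | 0, n => n ^ 3
  | a + 1, n => n ^ 3 * qCore (qBound a n) (a + 1) n

/-- The quotient `N_Γ(X) / X`. -/
abbrev QΓ {Γ : Type u} [Group Γ] (X : Subgroup Γ) : Type u :=
  ↥(Subgroup.normalizer (X : Set Γ)) ⧸ X.subgroupOf (Subgroup.normalizer (X : Set Γ))

/-- The quotient map `N_Γ(X) → N_Γ(X) / X`. -/
def qMap {Γ : Type u} [Group Γ] (X : Subgroup Γ) :
    ↥(Subgroup.normalizer (X : Set Γ)) →* QΓ X :=
  QuotientGroup.mk' (X.subgroupOf (Subgroup.normalizer (X : Set Γ)))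

/-- The image in `N_Γ(X) / X` of (the part inside `N_Γ(X)` of) a subgroup `H` of `Γ`. -/
def qImg {Γ : Type u} [Group Γ] (X H : Subgroup Γ) : Subgroup (QΓ X) :=
  (H.subgroupOf (Subgroup.normalizer (X : Set Γ))).map (qMap X)

end Cfsg.Agent.Lib.H8.BQ
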