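import Cfsg.Agent.Lib.H8.BSWTwoE

/-!
# Brauer–Suzuki–Wall (S3282): the character-theoretic half

`bsw_charData : BSWHyp t K s → ∃ δ q X, BSWCharData K δ q X`.
-/

set_option autoImplicit false

namespace Cfsg.Agent.Lib.H8.BSW

open Cfsg Cfsg.Agent.Lib.L0 Cfsg.Agent.Lib.H8 Cfsg.Agent.Lib.H24 Subgroup
open scoped ComplexConjugate Classical

variable {G : Type*} [Group G] {t : G} {K : Subgroup G} {s : G}

theorem exists_four [Fintype G] [Fintype K] (h : BSWHyp t K s) (h4 : 4 ≤ Fintype.card K) :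
    ∃ (δ : ℤ) (X : IrrCharacter G), Shape h δ X ∧ OrderData K δ X := by
  obtain ⟨σ, hσ1, hσσ, hσu⟩ := exists_sigma' h
  obtain ⟨δ, X, Y, pc, ha⟩ := exists_common h h4 hσ1 hσσ hσu
  obtain ⟨ν₀, hν₀⟩ := exists_nonreal h h4
  have sh := shape_of_common h pc hσ1 hσσ hσu ha hν₀
  have hβ := beta_value h pc hσ1 hσσ hσu ha hν₀
  exact ⟨δ, X, sh, sh.order h4 hβ⟩

/-- The character-theoretic half of the abstract Brauer–Suzuki–Wall theorem. -/
theorem bsw_charData [Finite G] (h : BSWHyp t K s) :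
    ∃ (δ : ℤ) (q : ℕ) (X : G → ℂ), BSWCharData K δ q X := by
  haveI : Fintype G := Fintype.ofFinite G
  haveI : Fintype K := Fintype.ofFinite K
  have heven := even_card_K h
  have hpos : 0 < Fintype.card K := Fintype.card_pos
  have hcases : Fintype.card K = 2 ∨ 4 ≤ Fintype.card K := by omega
  have key : ∃ (δ : ℤ) (X : IrrCharacter G), Shape h δ X ∧ OrderData K δ X := by
    rcases hcases with h2 | h4
    · exact exists_two h h2
    · exact exists_four h h4
  obtain ⟨δ, X, sh, od⟩ := key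
  obtain ⟨q, hq⟩ := sh.charData od
  exact ⟨δ, q, (X : G → ℂ), hq⟩

end Cfsg.Agent.Lib.H8.BSW
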