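/-
S5630 project (Aschbacher, linear case), module M2 (Clifford), part b: semisimplicity of the
restriction to a normalised subgroup, and the permutation of the isotypic components.  (helper8)
-/
import Cfsg.Agent.Lib.H8.AschM2a

set_option autoImplicit false

namespace Cfsg.Agent.Lib.H8.Asch

open Cfsg Cfsg.Geo Cfsg.Agent.Lib.Lead.Asch
open scoped MatrixGroups Matrix Kronecker

variable {F : Type*} [Field F] {n : ℕ}

variable (N : Subgroup (GL (Fin n) F))

/-- An `F`-subspace stable under all of `H` is `⊥` or `⊤` (irreducibility, in `mulVec` form). -/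
theorem eq_bot_or_top_of_invariant {H : Subgroup (GL (Fin n) F)}
    (hirr : ActsIrreducibly (matrixSet H)) (W : Submodule F (Fin n → F))
    (hW : ∀ g ∈ H, ∀ v ∈ W, glEquiv g v ∈ W) : W = ⊥ ∨ W = ⊤ := by
  apply hirr W
  rintro s ⟨g, hg, rfl⟩ _ ⟨v, hv, rfl⟩
  have := hW g hg v hv
  rwa [glEquiv_apply] at this

/-- **Clifford, part 1**: the restriction of an irreducible group to a normalised subgroup is
semisimple. -/
theorem isSemisimpleModule_of_irreducible (hn : 0 < n) {H : Subgroup (GL (Fin n) F)}
    (hirr : ActsIrreducibly (matrixSet H)) (hnorm : NormalizedBy H N) :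
    IsSemisimpleModule (nAlg N) (Fin n → F) := by
  apply IsSemisimpleModule.of_sSup_simples_eq_top
  set S : Submodule (nAlg N) (Fin n → F) := sSup {m | IsSimpleModule (nAlg N) m} with hS
  have hinv : ∀ g ∈ H, ∀ v ∈ S.restrictScalars F, glEquiv g v ∈ S.restrictScalars F := by
    intro g hg v hv
    have hg1 := normalises_of_mem N hnorm hg
    have hg2 := normalises_inv_of_mem N hnorm hg
    have h1 : conjSub N hg1 S ≤ S := by
      have : conjSub N hg1 S = conjIso N hg1 hg2 S := rfl
      rw [this, hS, OrderIso.map_sSup]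
      apply iSup₂_le
      intro m hm
      apply le_sSup
      have : IsSimpleModule (nAlg N) m := hm
      exact isSimpleModule_conjSub N hg1 hg2 m
    exact h1 ⟨v, hv, rfl⟩
  rcases eq_bot_or_top_of_invariant hirr _ hinv with h | h
  · exfalso
    rw [Submodule.restrictScalars_eq_bot_iff] at h
    haveI : Nontrivial (Fin n → F) := by
      haveI : Nonempty (Fin n) := ⟨⟨0, hn⟩⟩
      infer_instance
    obtain ⟨m, hm⟩ := IsAtomic.exists_atom (Submodule (nAlg N) (Fin n → F))
    have hle : m ≤ S := le_sSup (isSimpleModule_iff_isAtom.mpr hm)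
    rw [h] at hle
    exact hm.1 (le_bot_iff.mp hle)
  · rwa [Submodule.restrictScalars_eq_top_iff] at h

/-- Transport of an `nAlg`-linear endomorphism by a normalising element. -/
noncomputable def conjEnd {g : GL (Fin n) F} (hg : Normalises N g)
    (f : (Fin n → F) →ₗ[nAlg N] (Fin n → F)) : (Fin n → F) →ₗ[nAlg N] (Fin n → F) where
  toFun v := glEquiv g (f (glEquiv g⁻¹ v))
  map_add' := by intro v w; simp only [map_add]
  map_smul' := by
    intro a v
    simp only [RingHom.id_apply]
    have h1 : a • v = glEquiv g (twist N hg a • glEquiv g⁻¹ v) := by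
      rw [← twist_smul, glEquiv_apply_inv_apply]
    rw [h1, glEquiv_inv_apply_apply, map_smul, ← twist_smul]

theorem conjEnd_apply {g : GL (Fin n) F} (hg : Normalises N g)
    (f : (Fin n → F) →ₗ[nAlg N] (Fin n → F)) (v : Fin n → F) :
    conjEnd N hg f v = glEquiv g (f (glEquiv g⁻¹ v)) := rfl

theorem map_conjEnd_conjSub {g : GL (Fin n) F} (hg : Normalises N g)
    (f : (Fin n → F) →ₗ[nAlg N] (Fin n → F)) (m : Submodule (nAlg N) (Fin n → F)) :
    (conjSub N hg m).map (conjEnd N hg f) = conjSub N hg (m.map f) := by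
  ext w
  constructor
  · rintro ⟨_, ⟨v, hv, rfl⟩, rfl⟩
    rw [conjEnd_apply, LinearEquiv.coe_coe, glEquiv_inv_apply_apply]
    exact ⟨f v, ⟨v, hv, rfl⟩, rfl⟩
  · rintro ⟨_, ⟨v, hv, rfl⟩, rfl⟩
    refine ⟨glEquiv g v, ⟨v, hv, rfl⟩, ?_⟩
    rw [conjEnd_apply, glEquiv_inv_apply_apply]
    rfl

variable [IsSemisimpleModule (nAlg N) (Fin n → F)]

/-- In a semisimple module, a submodule isomorphic to the simple submodule `S` is the image of `S`
under an endomorphism. -/
theorem exists_end_map_eq (S m : Submodule (nAlg N) (Fin n → F))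
    (e : m ≃ₗ[nAlg N] S) : ∃ f : (Fin n → F) →ₗ[nAlg N] (Fin n → F), S.map f = m := by
  obtain ⟨p, hp⟩ := IsSemisimpleModule.extension_property S.subtype S.subtype_injective
    (m.subtype ∘ₗ (e.symm : S →ₗ[nAlg N] m))
  refine ⟨p, ?_⟩
  ext w
  constructor
  · rintro ⟨s, hs, rfl⟩
    have := LinearMap.congr_fun hp ⟨s, hs⟩
    simp only [LinearMap.coe_comp, Function.comp_apply, Submodule.subtype_apply,
      LinearEquiv.coe_coe] at this
    rw [this]
    exact (e.symm ⟨s, hs⟩).2
  · intro hw
    refine ⟨(e ⟨w, hw⟩ : Fin n → F), (e ⟨w, hw⟩).2, ?_⟩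
    have := LinearMap.congr_fun hp (e ⟨w, hw⟩)
    simp only [LinearMap.coe_comp, Function.comp_apply, Submodule.subtype_apply,
      LinearEquiv.coe_coe, LinearEquiv.symm_apply_apply] at this
    exact this

/-- **Clifford, part 2**: a normalising element maps the isotypic component of `S` into the isotypic
component of `g S`. -/
theorem conjSub_isotypicComponent_le {g : GL (Fin n) F} (hg : Normalises N g)
    (hg' : Normalises N g⁻¹) (S : Submodule (nAlg N) (Fin n → F)) [IsSimpleModule (nAlg N) S] :
    conjSub N hg (isotypicComponent (nAlg N) (Fin n → F) S) ≤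
      isotypicComponent (nAlg N) (Fin n → F) (conjSub N hg S) := by
  haveI := isSimpleModule_conjSub N hg hg' S
  have : conjSub N hg (isotypicComponent (nAlg N) (Fin n → F) S) =
      conjIso N hg hg' (isotypicComponent (nAlg N) (Fin n → F) S) := rfl
  rw [this, isotypicComponent, OrderIso.map_sSup]
  apply iSup₂_le
  rintro m ⟨e⟩
  obtain ⟨f, hf⟩ := exists_end_map_eq N S m e
  rw [conjIso_apply, ← hf, ← map_conjEnd_conjSub]
  exact Submodule.map_le_isotypicComponent _ _

/-- **Clifford, part 2'**: a normalising element maps isotypic components to isotypic components. -/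
theorem conjSub_isotypicComponent {g : GL (Fin n) F} (hg : Normalises N g)
    (hg' : Normalises N g⁻¹) (S : Submodule (nAlg N) (Fin n → F)) [IsSimpleModule (nAlg N) S] :
    conjSub N hg (isotypicComponent (nAlg N) (Fin n → F) S) =
      isotypicComponent (nAlg N) (Fin n → F) (conjSub N hg S) := by
  haveI := isSimpleModule_conjSub N hg hg' S
  apply le_antisymm (conjSub_isotypicComponent_le N hg hg' S)
  have hg'' : Normalises N g⁻¹⁻¹ := by rwa [inv_inv]
  have h1 := conjSub_isotypicComponent_le N hg' hg'' (conjSub N hg S)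
  have h2 := conjSub_mono N hg h1
  rw [conjSub_conjSub_inv N hg hg'] at h2
  have h3 : conjSub N hg' (conjSub N hg S) = S := conjSub_inv_conjSub N hg hg' S
  have h4 : isotypicComponent (nAlg N) (Fin n → F) (conjSub N hg' (conjSub N hg S)) =
      isotypicComponent (nAlg N) (Fin n → F) S :=
    (LinearEquiv.ofEq _ _ h3).isotypicComponent_eq
  rw [h4] at h2
  exact h2

theorem conjSub_mem_isotypicComponents {g : GL (Fin n) F} (hg : Normalises N g)
    (hg' : Normalises N g⁻¹) {c : Submodule (nAlg N) (Fin n → F)}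
    (hc : c ∈ isotypicComponents (nAlg N) (Fin n → F)) :
    conjSub N hg c ∈ isotypicComponents (nAlg N) (Fin n → F) := by
  obtain ⟨S, hS, rfl⟩ := hc
  exact ⟨conjSub N hg S, isSimpleModule_conjSub N hg hg' S, conjSub_isotypicComponent N hg hg' S⟩

end Cfsg.Agent.Lib.H8.Asch
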