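/-
S5630 project (Aschbacher, linear case), module M2 (Clifford), part c: the orbit of an isotypic
component is a decomposition stabilised by `H`; so `H` is in class 2 or the restriction is
isotypic.  (helper8)
-/
import Cfsg.Agent.Lib.H8.AschM2b
import Cfsg.Agent.Lib.Lead.AschDefs2

set_option autoImplicit false

namespace Cfsg.Agent.Lib.H8.Asch

open Cfsg Cfsg.Geo Cfsg.Agent.Lib.Lead.Asch
open scoped MatrixGroups Matrix Kronecker

variable {F : Type*} [Field F] {n : ℕ}

variable (N : Subgroup (GL (Fin n) F)) {H : Subgroup (GL (Fin n) F)} (hnorm : NormalizedBy H N)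

/-- The action of `g ∈ H` on submodules. -/
noncomputable def conjH (g : H) (m : Submodule (nAlg N) (Fin n → F)) :
    Submodule (nAlg N) (Fin n → F) :=
  conjSub N (normalises_of_mem N hnorm g.2) m

theorem conjH_mul (g h : H) (m : Submodule (nAlg N) (Fin n → F)) :
    conjH N hnorm (g * h) m = conjH N hnorm g (conjH N hnorm h m) :=
  conjSub_mul N _ _ _ m

theorem conjH_one (m : Submodule (nAlg N) (Fin n → F)) : conjH N hnorm 1 m = m := by
  ext w
  rw [conjH, mem_conjSub']
  simp

theorem conjH_inv_conjH (g : H) (m : Submodule (nAlg N) (Fin n → F)) :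
    conjH N hnorm g⁻¹ (conjH N hnorm g m) = m := by
  rw [← conjH_mul, inv_mul_cancel, conjH_one]

theorem conjH_conjH_inv (g : H) (m : Submodule (nAlg N) (Fin n → F)) :
    conjH N hnorm g (conjH N hnorm g⁻¹ m) = m := by
  rw [← conjH_mul, mul_inv_cancel, conjH_one]

theorem conjH_mono (g : H) {m m' : Submodule (nAlg N) (Fin n → F)} (h : m ≤ m') :
    conjH N hnorm g m ≤ conjH N hnorm g m' := conjSub_mono N _ h

theorem conjH_sSup (g : H) (s : Set (Submodule (nAlg N) (Fin n → F))) :
    conjH N hnorm g (sSup s) = sSup (conjH N hnorm g '' s) := by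
  have h1 : conjH N hnorm g = conjIso N (normalises_of_mem N hnorm g.2)
      (normalises_inv_of_mem N hnorm g.2) := rfl
  rw [h1, OrderIso.map_sSup, sSup_image]

theorem restrictScalars_conjH (g : H) (m : Submodule (nAlg N) (Fin n → F)) :
    (conjH N hnorm g m).restrictScalars F =
      (m.restrictScalars F).map
        (Matrix.toLin' ((g : GL (Fin n) F) : Matrix (Fin n) (Fin n) F)) :=
  restrictScalars_conjSub N _ m

theorem restrictScalars_conjH' (g : H) (m : Submodule (nAlg N) (Fin n → F)) :
    (conjH N hnorm g m).restrictScalars F =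
      (m.restrictScalars F).map ((glEquiv (g : GL (Fin n) F)) : (Fin n → F) →ₗ[F] (Fin n → F)) :=
  rfl

theorem finrank_conjH (g : H) (m : Submodule (nAlg N) (Fin n → F)) :
    Module.finrank F ((conjH N hnorm g m).restrictScalars F) =
      Module.finrank F (m.restrictScalars F) := by
  rw [restrictScalars_conjH']
  exact LinearEquiv.finrank_map_eq _ _

theorem conjH_mem_isotypicComponents [IsSemisimpleModule (nAlg N) (Fin n → F)] (g : H) {c : Submodule (nAlg N) (Fin n → F)}
    (hc : c ∈ isotypicComponents (nAlg N) (Fin n → F)) :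
    conjH N hnorm g c ∈ isotypicComponents (nAlg N) (Fin n → F) :=
  conjSub_mem_isotypicComponents N _ (normalises_inv_of_mem N hnorm g.2) hc

/-- The orbit of a submodule under `H`. -/
def orbitH (c : Submodule (nAlg N) (Fin n → F)) : Set (Submodule (nAlg N) (Fin n → F)) :=
  Set.range fun g : H => conjH N hnorm g c

theorem conjH_mem_orbitH (g : H) {c c' : Submodule (nAlg N) (Fin n → F)}
    (hc' : c' ∈ orbitH N hnorm c) : conjH N hnorm g c' ∈ orbitH N hnorm c := by
  obtain ⟨h, rfl⟩ := hc'
  exact ⟨g * h, conjH_mul N hnorm g h c⟩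

theorem self_mem_orbitH (c : Submodule (nAlg N) (Fin n → F)) : c ∈ orbitH N hnorm c :=
  ⟨1, conjH_one N hnorm c⟩

variable [IsSemisimpleModule (nAlg N) (Fin n → F)]

theorem orbitH_subset {c : Submodule (nAlg N) (Fin n → F)}
    (hc : c ∈ isotypicComponents (nAlg N) (Fin n → F)) :
    orbitH N hnorm c ⊆ isotypicComponents (nAlg N) (Fin n → F) := by
  rintro _ ⟨g, rfl⟩
  exact conjH_mem_isotypicComponents N hnorm g hc

/-- The permutation of the orbit induced by `g ∈ H`. -/
noncomputable def permOrbit (c : Submodule (nAlg N) (Fin n → F)) (g : H) :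
    Equiv.Perm (orbitH N hnorm c) where
  toFun x := ⟨conjH N hnorm g x.1, conjH_mem_orbitH N hnorm g x.2⟩
  invFun x := ⟨conjH N hnorm g⁻¹ x.1, conjH_mem_orbitH N hnorm g⁻¹ x.2⟩
  left_inv x := Subtype.ext (conjH_inv_conjH N hnorm g x.1)
  right_inv x := Subtype.ext (conjH_conjH_inv N hnorm g x.1)

omit [IsSemisimpleModule (nAlg N) (Fin n → F)] in
/-- The sum of an orbit is everything (irreducibility of `H`). -/
theorem sSup_orbitH_eq_top (hirr : ActsIrreducibly (matrixSet H))
    {c : Submodule (nAlg N) (Fin n → F)} (hc : c ≠ ⊥) : sSup (orbitH N hnorm c) = ⊤ := by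
  set U := sSup (orbitH N hnorm c) with hU
  have hinv : ∀ g ∈ H, ∀ v ∈ U.restrictScalars F, glEquiv g v ∈ U.restrictScalars F := by
    intro g hg v hv
    have h1 : conjH N hnorm ⟨g, hg⟩ U ≤ U := by
      rw [hU, conjH_sSup]
      apply sSup_le
      rintro _ ⟨c', hc', rfl⟩
      exact le_sSup (conjH_mem_orbitH N hnorm _ hc')
    exact h1 ⟨v, hv, rfl⟩
  rcases eq_bot_or_top_of_invariant hirr _ hinv with h | h
  · exfalso
    rw [Submodule.restrictScalars_eq_bot_iff] at h
    have : c ≤ U := le_sSup (self_mem_orbitH N hnorm c)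
    rw [h] at this
    exact hc (le_bot_iff.mp this)
  · rwa [Submodule.restrictScalars_eq_top_iff] at h

/-- **Clifford, part 3**: if the orbit of an isotypic component has at least two members then `H`
stabilises a decomposition (class 2). -/
theorem tame_of_orbit_nontrivial [Fintype F] (hirr : ActsIrreducibly (matrixSet H))
    {c : Submodule (nAlg N) (Fin n → F)} (hc : c ∈ isotypicComponents (nAlg N) (Fin n → F))
    (hnt : (orbitH N hnorm c).Nontrivial) : TameC2 H := by
  classical
  have hcne : c ≠ ⊥ := (bot_lt_isotypicComponents hc).ne'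
  have hsub := orbitH_subset N hnorm hc
  haveI : Finite (orbitH N hnorm c) :=
    Finite.Set.subset (isotypicComponents (nAlg N) (Fin n → F)) hsub
  set t := Nat.card (orbitH N hnorm c) with ht
  let f : Fin t ≃ orbitH N hnorm c := (Finite.equivFin _).symm
  set D : Fin t → Submodule F (Fin n → F) := fun i => (f i).1.restrictScalars F with hD
  have hindepO : sSupIndep (orbitH N hnorm c) :=
    (sSupIndep_isotypicComponents (nAlg N) (Fin n → F)).mono hsub
  have hindep' : iSupIndep (fun i : Fin t => (f i).1) := by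
    have := (sSupIndep_iff _).mp hindepO
    exact this.comp f.injective
  have hDec : IsMDecomposition (Module.finrank F (c.restrictScalars F)) D := by
    refine ⟨?_, ?_, ?_, ?_, ?_⟩
    · haveI : Nontrivial (orbitH N hnorm c) := Set.nontrivial_coe_sort.mpr hnt
      exact Finite.one_lt_card_iff_nontrivial.mpr this
    · rw [Module.finrank_pos_iff]
      have : (c.restrictScalars F) ≠ ⊥ := by
        rwa [Ne, Submodule.restrictScalars_eq_bot_iff]
      exact Submodule.nontrivial_iff_ne_bot.mpr this
    · intro i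
      obtain ⟨g, hg⟩ := (f i).2
      show Module.finrank F ((f i).1.restrictScalars F) = _
      rw [← hg]
      exact finrank_conjH N hnorm g c
    · intro i
      have h1 := hindep' i
      rw [disjoint_iff] at h1 ⊢
      have h2 : (⨆ j, ⨆ (_ : j ≠ i), D j) =
          (⨆ j, ⨆ (_ : j ≠ i), (f j).1).restrictScalars F := by
        simp only [hD, Submodule.restrictScalars_iSup]
      rw [h2, hD, ← Submodule.restrictScalars_inf, h1, Submodule.restrictScalars_bot]
    · have h1 : (⨆ i, D i) = (⨆ i, (f i).1).restrictScalars F := by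
        simp only [hD, Submodule.restrictScalars_iSup]
      rw [h1, Submodule.restrictScalars_eq_top_iff]
      have h2 : (⨆ i, (f i).1) = sSup (orbitH N hnorm c) := by
        rw [sSup_eq_iSup']
        exact f.iSup_comp (g := fun x : orbitH N hnorm c => (x : Submodule (nAlg N) (Fin n → F)))
      rw [h2]
      exact sSup_orbitH_eq_top N hnorm hirr hcne
  refine ⟨t, _, D, hDec, ?_⟩
  intro g hg
  refine ⟨(f.trans (permOrbit N hnorm c ⟨g, hg⟩)).trans f.symm, fun i => ?_⟩
  simp only [hD, Equiv.trans_apply, Equiv.apply_symm_apply]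
  rw [← restrictScalars_conjH N hnorm ⟨g, hg⟩]
  rfl

omit [IsSemisimpleModule (nAlg N) (Fin n → F)] in
/-- **Clifford, part 3'**: if the orbit of an isotypic component is a single component, the module is
isotypic. -/
theorem isotypic_of_orbit_subsingleton [Fintype F] (hirr : ActsIrreducibly (matrixSet H))
    (S : Submodule (nAlg N) (Fin n → F)) [IsSimpleModule (nAlg N) S]
    (hnt : ¬ (orbitH N hnorm (isotypicComponent (nAlg N) (Fin n → F) S)).Nontrivial) :
    IsIsotypicOfType (nAlg N) (Fin n → F) S := by
  apply IsIsotypicOfType.of_isotypicComponent_eq_top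
  set c := isotypicComponent (nAlg N) (Fin n → F) S with hc
  have hcne : c ≠ ⊥ := (bot_lt_isotypicComponent S).ne'
  rw [Set.not_nontrivial_iff] at hnt
  have h1 := sSup_orbitH_eq_top N hnorm hirr hcne
  have h2 : orbitH N hnorm c = {c} :=
    (hnt.eq_singleton_of_mem (self_mem_orbitH N hnorm c))
  rw [h2, sSup_singleton] at h1
  exact h1

include hnorm in
/-- **Clifford**: the restriction of an irreducible group `H` not in class 2 to a subgroup it normalises is
isotypic. -/
theorem exists_isotypic [Fintype F] (hn : 0 < n) (hirr : ActsIrreducibly (matrixSet H))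
    (hntame : ¬ TameC2 H) :
    ∃ S : Submodule (nAlg N) (Fin n → F), IsSimpleModule (nAlg N) S ∧
      IsIsotypicOfType (nAlg N) (Fin n → F) S := by
  haveI : Nontrivial (Fin n → F) := by
    haveI : Nonempty (Fin n) := ⟨⟨0, hn⟩⟩
    infer_instance
  obtain ⟨S, hS⟩ := IsAtomic.exists_atom (Submodule (nAlg N) (Fin n → F))
  haveI : IsSimpleModule (nAlg N) S := isSimpleModule_iff_isAtom.mpr hS
  refine ⟨S, inferInstance, isotypic_of_orbit_subsingleton N hnorm hirr S fun hnt => ?_⟩
  exact hntame (tame_of_orbit_nontrivial N hnorm hirr ⟨S, inferInstance, rfl⟩ hnt)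

end Cfsg.Agent.Lib.H8.Asch
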