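/-
S5630 project (Aschbacher, linear case), by-product M2x of module M2 (needed by M8.3): a subgroup `L₁`
of an irreducible group `L = L₁ ⊔ C` with `C` centralising `L₁` is homogeneous.  (helper8)
-/
import Cfsg.Agent.Lib.H8.AschM2c
import Cfsg.Agent.Lib.H22.AschM2E

set_option autoImplicit false

namespace Cfsg.Agent.Lib.H8.Asch

open Cfsg Cfsg.Geo Cfsg.Agent.Lib.Lead.Asch
open scoped MatrixGroups Matrix Kronecker

variable {F : Type*} [Field F] {n : ℕ}

/-- An element commuting with `N` gives an `nAlg N`-linear endomorphism. -/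
noncomputable def endOfCommute (N : Subgroup (GL (Fin n) F)) (c : GL (Fin n) F)
    (hc : ∀ x ∈ N, x * c = c * x) : (Fin n → F) →ₗ[nAlg N] (Fin n → F) where
  toFun v := glEquiv c v
  map_add' := by intro v w; simp only [map_add]
  map_smul' := by
    intro a v
    simp only [RingHom.id_apply]
    have hle : nAlg N ≤ Subalgebra.centralizer F
        {((glEquiv c : (Fin n → F) ≃ₗ[F] (Fin n → F)) : (Fin n → F) →ₗ[F] (Fin n → F))} := by
      apply Algebra.adjoin_le
      rintro _ ⟨x, hx, rfl⟩
      rw [SetLike.mem_coe, Subalgebra.mem_centralizer_iff]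
      intro g hg
      rw [Set.mem_singleton_iff] at hg
      subst hg
      apply LinearMap.ext
      intro v
      simp only [Module.End.mul_apply, LinearEquiv.coe_coe, glEquiv_apply, Matrix.toLin'_apply,
        Matrix.mulVec_mulVec, ← Units.val_mul, hc x hx]
    have h1 := hle a.2
    rw [Subalgebra.mem_centralizer_iff] at h1
    have h2 := LinearMap.congr_fun (h1 _ (Set.mem_singleton _)) v
    simp only [Module.End.mul_apply, LinearEquiv.coe_coe] at h2
    rw [nAlg_smul_def, nAlg_smul_def]
    exact h2

theorem endOfCommute_apply (N : Subgroup (GL (Fin n) F)) (c : GL (Fin n) F)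
    (hc : ∀ x ∈ N, x * c = c * x) (v : Fin n → F) :
    endOfCommute N c hc v = (c : Matrix (Fin n) (Fin n) F) *ᵥ v := by
  simp [endOfCommute]

/-- `g` and `g⁻¹` map `W` into itself, so `g` stabilises `W`. -/
theorem mem_subspaceStabilizer_of_le (W : Submodule F (Fin n → F)) (g : GL (Fin n) F)
    (h1 : ∀ v ∈ W, (g : Matrix (Fin n) (Fin n) F) *ᵥ v ∈ W)
    (h2 : ∀ v ∈ W, ((g⁻¹ : GL (Fin n) F) : Matrix (Fin n) (Fin n) F) *ᵥ v ∈ W) :
    g ∈ subspaceStabilizer W := by
  intro v
  constructor
  · exact h1 v
  · intro h
    have := h2 _ h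
    simp only [glToMat, Units.coeHom_apply] at this
    rwa [Matrix.mulVec_mulVec, ← Units.val_mul, inv_mul_cancel, Units.val_one,
      Matrix.one_mulVec] at this

/-- **M2x** (needed by M8.3): a subgroup `L₁` of an irreducible group `L = L₁ ⊔ C` with `C`
centralising `L₁` is homogeneous. -/
theorem exists_homogData_of_commuting (hn : 0 < n) (L L₁ C : Subgroup (GL (Fin n) F))
    (hirr : ActsIrreducibly (matrixSet L)) (hL : L = L₁ ⊔ C)
    (hcomm : ∀ x ∈ L₁, ∀ c ∈ C, x * c = c * x) : Nonempty (HomogData L₁) := by
  have hnorm : NormalizedBy L L₁ := by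
    have : L ≤ Subgroup.normalizer (L₁ : Set (GL (Fin n) F)) := by
      rw [hL]
      apply sup_le Subgroup.le_normalizer
      rw [Subgroup.le_normalizer_iff]
      intro c hc x hx
      rw [← hcomm x hx c hc, mul_inv_cancel_right]
      exact hx
    exact Subgroup.le_normalizer_iff.mp this
  haveI := isSemisimpleModule_of_irreducible L₁ hn hirr hnorm
  haveI : Nontrivial (Fin n → F) := by
    haveI : Nonempty (Fin n) := ⟨⟨0, hn⟩⟩
    infer_instance
  obtain ⟨S, hS⟩ := IsAtomic.exists_atom (Submodule (nAlg L₁) (Fin n → F))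
  haveI : IsSimpleModule (nAlg L₁) S := isSimpleModule_iff_isAtom.mpr hS
  set c := isotypicComponent (nAlg L₁) (Fin n → F) S with hc
  have hfi : c.IsFullyInvariant := Submodule.IsFullyInvariant.isotypicComponent _ _ S
  have hcne : c ≠ ⊥ := (bot_lt_isotypicComponent S).ne'
  have hle : L ≤ subspaceStabilizer (c.restrictScalars F) := by
    rw [hL]
    apply sup_le
    · intro x hx
      apply mem_subspaceStabilizer_of_le
      · intro v hv
        have := map_restrictScalars_le L₁ c hx (Submodule.mem_map_of_mem hv)
        rwa [Matrix.toLin'_apply] at this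
      · intro v hv
        have := map_restrictScalars_le L₁ c (L₁.inv_mem hx) (Submodule.mem_map_of_mem hv)
        rwa [Matrix.toLin'_apply] at this
    · intro g hg
      apply mem_subspaceStabilizer_of_le
      · intro v hv
        have := hfi (endOfCommute L₁ g (fun x hx => hcomm x hx g hg)) hv
        rw [Submodule.mem_comap, endOfCommute_apply] at this
        exact this
      · intro v hv
        have := hfi (endOfCommute L₁ g⁻¹ (fun x hx => hcomm x hx g⁻¹ (C.inv_mem hg))) hv
        rw [Submodule.mem_comap, endOfCommute_apply] at this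
        exact this
  have htop : c = ⊤ := by
    have h1 : ∀ g ∈ L, ∀ v ∈ c.restrictScalars F, glEquiv g v ∈ c.restrictScalars F := by
      intro g hg v hv
      rw [glEquiv_apply]
      exact (hle hg v).mp hv
    rcases eq_bot_or_top_of_invariant hirr _ h1 with h | h
    · rw [Submodule.restrictScalars_eq_bot_iff] at h
      exact absurd h hcne
    · rwa [Submodule.restrictScalars_eq_top_iff] at h
  exact Cfsg.Agent.Lib.H22.Asch.homogData_of_isotypic L₁ S
    (IsIsotypicOfType.of_isotypicComponent_eq_top htop)

end Cfsg.Agent.Lib.H8.Asch
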