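/-
S5662 project (Aschbacher, symplectic case), module SM2 (Clifford with a form): an irreducible group
`H` of isometries of a symplectic form `f` in no member of class 2 (nor, for `q` even, class 8)
restricts homogeneously to every subgroup it normalises.  Instance of the generic theorem of
Lib/H8/AschGM2.lean, plus the `q` even twist: a pair of complementary totally singular subspaces
`V₁, V₂` permuted by `H` gives the invariant quadratic form `Q (v₁ + v₂) = f v₁ v₂`.  (helper8)
-/
import Cfsg.Agent.Lib.H8.AschGM2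
import Cfsg.Agent.Lib.H11.AschSDefs

set_option autoImplicit false
set_option linter.unusedSectionVars false

namespace Cfsg.Agent.Lib.H8.AschS

open Cfsg Cfsg.Geo Cfsg.Agent.Lib.Lead.Asch Cfsg.Agent.Lib.H8.Asch Cfsg.Agent.Lib.H11.AschS
open scoped MatrixGroups Matrix Kronecker

variable {F : Type*} [Field F] {n : ℕ} {f : (Fin n → F) → (Fin n → F) → F}

/-- A symplectic form is a non-degenerate reflexive bilinear form. -/
theorem isReflSesq_of_symplectic (hf : IsSymplecticForm f) : IsReflSesq (RingEquiv.refl F) f where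
  add_left := hf.bilinear.add_left
  smul_left := hf.bilinear.smul_left
  add_right := hf.bilinear.add_right
  smul_right := fun c u v => by rw [hf.bilinear.smul_right]; rfl
  refl := fun u v h => by rw [hf.skew, h, neg_zero]
  nondeg := fun w h => by
    by_contra hw
    obtain ⟨x, hx⟩ := (hf.nondegenerate w hw).1
    exact hx (h x)

theorem le_isomGroup_of_fixesForm {H : Subgroup (GL (Fin n) F)} (hH : FixesForm (matrixSet H) f) :
    H ≤ isomGroup f := fun g hg u v => hH _ ⟨g, hg, rfl⟩ u v

section twist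

variable (hf : IsSymplecticForm f) {D : Fin 2 → Submodule F (Fin n → F)} {k : ℕ}
  (hD : IsMDecomposition k D) (hts : ∀ i, IsTotallySingularFor f (D i))

include hD in
theorem isCompl_of_decomposition : IsCompl (D 0) (D 1) := by
  have h1 : Disjoint (D 0) (D 1) :=
    (iSupIndep_pair (i := (0 : Fin 2)) (j := 1) (by decide)
      (by intro i; fin_cases i <;> simp)).mp hD.indep
  refine ⟨h1, ?_⟩
  rw [codisjoint_iff, eq_top_iff, ← hD.iSup_eq_top]
  apply iSup_le
  intro i
  fin_cases i
  · exact le_sup_left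
  · exact le_sup_right

/-- The quadratic form `Q (v₀ + v₁) = f v₀ v₁` attached to a pair of complementary subspaces. -/
noncomputable def pairQ (f : (Fin n → F) → (Fin n → F) → F) (hc : IsCompl (D 0) (D 1))
    (v : Fin n → F) : F :=
  f ((D 0).projectionOnto (D 1) hc v : Fin n → F)
    ((D 1).projectionOnto (D 0) hc.symm v : Fin n → F)

theorem pairQ_add (hc : IsCompl (D 0) (D 1)) {a b : Fin n → F} (ha : a ∈ D 0) (hb : b ∈ D 1) :
    pairQ f hc (a + b) = f a b := by
  have h0 : (D 0).projectionOnto (D 1) hc (a + b) = ⟨a, ha⟩ := by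
    rw [map_add, Submodule.projectionOnto_apply_of_mem_left hc ha,
      Submodule.projectionOnto_apply_of_mem_right hc hb, add_zero]
  have h1 : (D 1).projectionOnto (D 0) hc.symm (a + b) = ⟨b, hb⟩ := by
    rw [map_add, Submodule.projectionOnto_apply_of_mem_right hc.symm ha,
      Submodule.projectionOnto_apply_of_mem_left hc.symm hb, zero_add]
  rw [pairQ, h0, h1]

theorem exists_decomp (hc : IsCompl (D 0) (D 1)) (v : Fin n → F) :
    ∃ a ∈ D 0, ∃ b ∈ D 1, v = a + b := by
  have : v ∈ D 0 ⊔ D 1 := by rw [hc.sup_eq_top]; trivial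
  obtain ⟨a, ha, b, hb, rfl⟩ := Submodule.mem_sup.mp this
  exact ⟨a, ha, b, hb, rfl⟩

end twist

variable [Fintype F]

/-- In even characteristic `-x = x`. -/
theorem neg_eq_self_of_not_odd (hq : ¬ Odd (Fintype.card F)) (x : F) : -x = x := by
  have h2 : ringChar F = 2 := by
    rw [FiniteField.even_card_iff_char_two]
    rcases Nat.even_or_odd (Fintype.card F) with h | h
    · exact Nat.even_iff.mp h
    · exact absurd h hq
  have : CharP F 2 := by
    rw [← h2]
    exact ringChar.charP F
  exact CharTwo.neg_eq x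

/-- The `q` even twist: a pair of complementary totally singular subspaces permuted by `H` gives a
member of class 8. -/
theorem sc8_of_pair (hf : IsSymplecticForm f) (hq : ¬ Odd (Fintype.card F))
    (H : Subgroup (GL (Fin n) F)) (hH : FixesForm (matrixSet H) f)
    {k : ℕ} (D : Fin 2 → Submodule F (Fin n → F)) (hD : IsMDecomposition k D)
    (hts : ∀ i, IsTotallySingularFor f (D i)) (hstab : H ≤ decompositionStabilizer D) :
    SC8 f H := by
  have hc := isCompl_of_decomposition hD
  have hneg := neg_eq_self_of_not_odd hq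
  have hsymm : ∀ u v, f u v = f v u := fun u v => by rw [hf.skew, hneg]
  have hpolar : ∀ u v, QuadraticMap.polar (pairQ f hc) u v = f u v := by
    intro u v
    obtain ⟨a, ha, b, hb, rfl⟩ := exists_decomp hc u
    obtain ⟨a', ha', b', hb', rfl⟩ := exists_decomp hc v
    have h1 : a + b + (a' + b') = (a + a') + (b + b') := by abel
    rw [QuadraticMap.polar, h1, pairQ_add hc ((D 0).add_mem ha ha') ((D 1).add_mem hb hb'),
      pairQ_add hc ha hb, pairQ_add hc ha' hb']
    simp only [hf.bilinear.add_left, hf.bilinear.add_right]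
    rw [hts 0 a ha a' ha', hts 1 b hb b' hb', hsymm b a']
    ring
  refine ⟨pairQ f hc, hq, ⟨?_, ?_, ?_⟩, hpolar, ?_⟩
  · intro c v
    obtain ⟨a, ha, b, hb, rfl⟩ := exists_decomp hc v
    rw [smul_add, pairQ_add hc ((D 0).smul_mem c ha) ((D 1).smul_mem c hb), pairQ_add hc ha hb,
      hf.bilinear.smul_left, hf.bilinear.smul_right]
    ring
  · have : QuadraticMap.polar (pairQ f hc) = f := by
      funext u v
      exact hpolar u v
    rw [this]
    exact hf.bilinear
  · have : QuadraticMap.polar (pairQ f hc) = f := by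
      funext u v
      exact hpolar u v
    rw [this]
    exact hf.nondegenerate
  · intro g hg
    refine ⟨1, fun v => ?_⟩
    rw [Units.val_one, one_mul]
    obtain ⟨π, hπ⟩ := hstab hg
    obtain ⟨a, ha, b, hb, rfl⟩ := exists_decomp hc v
    have hga : (g : Matrix (Fin n) (Fin n) F) *ᵥ a ∈ D (π 0) := by
      rw [← hπ 0]
      exact ⟨a, ha, by simp [Matrix.toLin'_apply]⟩
    have hgb : (g : Matrix (Fin n) (Fin n) F) *ᵥ b ∈ D (π 1) := by
      rw [← hπ 1]
      exact ⟨b, hb, by simp [Matrix.toLin'_apply]⟩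
    have hfix : f ((g : Matrix (Fin n) (Fin n) F) *ᵥ a) ((g : Matrix (Fin n) (Fin n) F) *ᵥ b) =
        f a b := hH _ ⟨g, hg, rfl⟩ a b
    rw [Matrix.mulVec_add, pairQ_add hc ha hb]
    have hπ01 : π 0 = 0 ∧ π 1 = 1 ∨ π 0 = 1 ∧ π 1 = 0 := by
      have hinj := π.injective
      have h0 : π 0 = 0 ∨ π 0 = 1 := by
        generalize π 0 = x
        fin_cases x <;> simp
      have h1 : π 1 = 0 ∨ π 1 = 1 := by
        generalize π 1 = x
        fin_cases x <;> simp
      rcases h0 with h0 | h0 <;> rcases h1 with h1 | h1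
      · exact absurd (hinj (h0.trans h1.symm)) (by decide)
      · exact Or.inl ⟨h0, h1⟩
      · exact Or.inr ⟨h0, h1⟩
      · exact absurd (hinj (h0.trans h1.symm)) (by decide)
    rcases hπ01 with ⟨h0, h1⟩ | ⟨h0, h1⟩
    · rw [h0] at hga
      rw [h1] at hgb
      rw [pairQ_add hc hga hgb, hfix]
    · rw [h0] at hga
      rw [h1] at hgb
      rw [add_comm, pairQ_add hc hgb hga, hsymm, hfix]

/-- **SM2**. -/
theorem exists_homogData_symplectic (hf : IsSymplecticForm f) (hn : 0 < n)
    (H N : Subgroup (GL (Fin n) F)) (hH : FixesForm (matrixSet H) f)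
    (hirr : ActsIrreducibly (matrixSet H)) (hnt : ¬ (SC2a f H ∨ SC2b f H ∨ SC8 f H)) (hNH : N ≤ H)
    (hnorm : NormalizedBy H N) : Nonempty (HomogData N) := by
  rcases exists_homogData_or_decomposition (isReflSesq_of_symplectic hf) hn H N
    (le_isomGroup_of_fixesForm hH) hirr hNH hnorm with h | h | h
  · exact h
  · obtain ⟨t, k, D, hD, hstab, -⟩ := h
    exact absurd (Or.inl ⟨t, k, D, hD, hstab⟩) hnt
  · obtain ⟨k, D, h1, h2, h3, h4⟩ := h
    by_cases hq : Odd (Fintype.card F)
    · exact absurd (Or.inr (Or.inl ⟨k, D, hq, by rw [Fintype.card_fin]; exact h1, h2, h3, h4⟩)) hnt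
    · exact absurd (Or.inr (Or.inr (sc8_of_pair hf hq H hH D h2 h3 h4))) hnt

end Cfsg.Agent.Lib.H8.AschS
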