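/-
S5662 project (Aschbacher, symplectic case), tool ST4: factorisation of the Gram matrix of a
symplectic form along a homogeneous subgroup with absolutely irreducible constituent:
`G = G₁ ⊗ C`, `G₁ᵀ = ε G₁`, `Cᵀ = -ε C`, `ε = ± 1`.  Bilinear analogue of helper20's UT4.  (helper8)
-/
import Cfsg.Agent.Lib.H20.AschUT4
import Cfsg.Agent.Lib.H11.AschSDefs

set_option autoImplicit false
set_option linter.unusedSectionVars false

namespace Cfsg.Agent.Lib.H8.AschS

open Cfsg Cfsg.Geo Cfsg.Agent.Lib.Lead.Asch Cfsg.Agent.Lib.H6.Asch Cfsg.Agent.Lib.H20.Asch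
open scoped MatrixGroups Matrix Kronecker

variable {F : Type*} [Field F]

theorem kron_one_transpose {d k : ℕ} (s : Matrix (Fin d) (Fin d) F) :
    (s ⊗ₖ (1 : Matrix (Fin k) (Fin k) F))ᵀ = sᵀ ⊗ₖ (1 : Matrix (Fin k) (Fin k) F) := by
  ext ⟨a, i⟩ ⟨b, j⟩
  simp only [Matrix.transpose_apply, Matrix.kroneckerMap_apply, Matrix.one_apply]
  simp only [eq_comm]

theorem exists_ne_zero_entry {ι : Type*} (B : Matrix ι ι F) (hB : B ≠ 0) : ∃ x y, B x y ≠ 0 := by
  by_contra hcon
  push Not at hcon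
  exact hB (by ext i j; exact hcon i j)

/-- The algebraic core of ST4: a non-zero skew matrix on `Fin d × Fin k` invariant under `s ⊗ 1` for
`s` in an absolutely irreducible set is a Kronecker product `B ⊗ C` with `Bᵀ = ε B`, `Cᵀ = -ε C`. -/
theorem tensor_form_core_bilin {d k : ℕ} (S : Set (Matrix (Fin d) (Fin d) F))
    (habs : ActsAbsolutelyIrreducibly S) (hinv : ∀ s ∈ S, IsUnit s.det)
    (G : Matrix (Fin d × Fin k) (Fin d × Fin k) F) (hG0 : G ≠ 0) (hGs : Gᵀ = -G)
    (hfix : ∀ s ∈ S, (s ⊗ₖ (1 : Matrix (Fin k) (Fin k) F))ᵀ * G *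
      (s ⊗ₖ (1 : Matrix (Fin k) (Fin k) F)) = G) :
    ∃ (B : Matrix (Fin d) (Fin d) F) (C : Matrix (Fin k) (Fin k) F) (ε : F),
      (ε = 1 ∨ ε = -1) ∧ Bᵀ = ε • B ∧ Cᵀ = (-ε) • C ∧ IsUnit B.det ∧ G = B ⊗ₖ C ∧
      ∀ s ∈ S, sᵀ * B * s = B := by
  -- the blocks are invariant
  have hblk : ∀ i j : Fin k, ∀ s ∈ S, sᵀ * blk G i j * s.map (RingHom.id F) = blk G i j := by
    intro i j s hs
    have h1 := hfix s hs
    rw [kron_one_transpose] at h1
    have h2 := congrArg (fun X => blk X i j) h1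
    simp only [blk_mul_kron_one, Matrix.mul_assoc, blk_kron_one_mul] at h2
    rw [map_id_eq, Matrix.mul_assoc]
    exact h2
  -- a non-zero block
  obtain ⟨i₀, j₀, h0⟩ : ∃ i₀ j₀, blk G i₀ j₀ ≠ 0 := by
    by_contra hcon
    push Not at hcon
    apply hG0
    ext ⟨a, i⟩ ⟨b, j⟩
    have := congrFun (congrFun (hcon i j) a) b
    exact this
  set B₀ := blk G i₀ j₀ with hB₀
  have hB₀det : IsUnit B₀.det :=
    isUnit_det_of_fix (RingHom.id F) S habs.1 hinv B₀ h0 (hblk i₀ j₀)
  have hprop : ∀ i j : Fin k, ∃ c : F, blk G i j = c • B₀ := fun i j =>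
    core (RingHom.id F) S habs.2 hinv B₀ (blk G i j) hB₀det (hblk i₀ j₀) (hblk i j)
  choose C₀ hC₀ using hprop
  -- `B₀ᵀ` is invariant too
  have hfixT : ∀ g ∈ S, gᵀ * B₀ᵀ * g.map (RingHom.id F) = B₀ᵀ := by
    intro g hg
    have h1 := hblk i₀ j₀ g hg
    rw [map_id_eq] at h1 ⊢
    have h2 := congrArg Matrix.transpose h1
    rw [Matrix.transpose_mul, Matrix.transpose_mul, Matrix.transpose_transpose,
      ← Matrix.mul_assoc] at h2
    exact h2
  obtain ⟨ε, hε⟩ := core (RingHom.id F) S habs.2 hinv B₀ B₀ᵀ hB₀det (hblk i₀ j₀) hfixT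
  obtain ⟨x, y, hxy⟩ := exists_ne_zero_entry B₀ h0
  have hεε : ε * ε = 1 := by
    have h1 : B₀ = (ε * ε) • B₀ := by
      have := congrArg Matrix.transpose hε
      rw [Matrix.transpose_transpose, Matrix.transpose_smul, hε, smul_smul] at this
      exact this
    have := congrFun (congrFun h1 x) y
    rw [Matrix.smul_apply, smul_eq_mul] at this
    have h3 : (ε * ε - 1) * B₀ x y = 0 := by rw [sub_mul, one_mul, ← this, sub_self]
    rcases mul_eq_zero.1 h3 with h4 | h4
    · exact sub_eq_zero.1 h4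
    · exact absurd h4 hxy
  have hε1 : ε = 1 ∨ ε = -1 := by
    have : (ε - 1) * (ε + 1) = 0 := by ring_nf; rw [← sub_eq_zero] at hεε; ring_nf at hεε; linear_combination hεε
    rcases mul_eq_zero.1 this with h | h
    · exact Or.inl (sub_eq_zero.1 h)
    · exact Or.inr (eq_neg_of_add_eq_zero_left h)
  have hGe : G = B₀ ⊗ₖ (Matrix.of C₀) := by
    ext ⟨x, i⟩ ⟨y, j⟩
    have h1 : G (x, i) (y, j) = blk G i j x y := rfl
    rw [h1, hC₀ i j, Matrix.kroneckerMap_apply, Matrix.smul_apply, smul_eq_mul, Matrix.of_apply,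
      mul_comm]
  refine ⟨B₀, Matrix.of C₀, ε, hε1, hε, ?_, hB₀det, hGe, fun s hs => ?_⟩
  · ext i j
    have h1 := congrFun (congrFun hGs (x, i)) (y, j)
    rw [Matrix.transpose_apply, Matrix.neg_apply, hGe, Matrix.kroneckerMap_apply,
      Matrix.kroneckerMap_apply] at h1
    have h2 := congrFun (congrFun hε x) y
    rw [Matrix.transpose_apply, Matrix.smul_apply, smul_eq_mul] at h2
    rw [h2] at h1
    rw [Matrix.transpose_apply, Matrix.smul_apply, smul_eq_mul]
    -- ε * B₀ x y * C j i = - (B₀ x y * C i j)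
    have h3 : B₀ x y * (Matrix.of C₀ j i - (-ε) * Matrix.of C₀ i j) = 0 := by
      have : B₀ x y * (ε * (Matrix.of C₀ j i - (-ε) * Matrix.of C₀ i j)) = 0 := by
        have e1 : ε * (Matrix.of C₀ j i - (-ε) * Matrix.of C₀ i j) =
            ε * Matrix.of C₀ j i + (ε * ε) * Matrix.of C₀ i j := by ring
        rw [e1, hεε]
        linear_combination h1
      rcases hε1 with h | h
      · rw [h] at this ⊢
        rw [one_mul] at this
        exact this
      · rw [h] at this ⊢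
        linear_combination -this
    rcases mul_eq_zero.1 h3 with h4 | h4
    · exact absurd h4 hxy
    · exact sub_eq_zero.1 h4
  · have := hblk i₀ j₀ s hs
    rw [map_id_eq] at this
    exact this

variable [Fintype F] {n : ℕ} {f : (Fin n → F) → (Fin n → F) → F}

theorem formOfGram_id_eq {κ : Type} [Fintype κ] (G : Matrix κ κ F) (X Y : κ → F) :
    formOfGram id G X Y = X ⬝ᵥ (G *ᵥ (fun i => (RingHom.id F) (Y i))) := by
  unfold formOfGram dotProduct Matrix.mulVec dotProduct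
  refine Finset.sum_congr rfl fun a _ => ?_
  rw [Finset.mul_sum]
  refine Finset.sum_congr rfl fun b _ => ?_
  simp only [id, RingHom.id_apply]
  rw [mul_assoc]

/-- **ST4**. -/
theorem exists_tensor_form_symplectic (hf : IsSymplecticForm f)
    (N : Subgroup (GL (Fin n) F)) (hN : FixesForm (matrixSet N) f) (D : HomogData N)
    (habs : ActsAbsolutelyIrreducibly (repSet D.ρ)) :
    ∃ (G₁ : Matrix (Fin D.d) (Fin D.d) F) (C : Matrix (Fin D.k) (Fin D.k) F) (ε : F),
      (ε = 1 ∨ ε = -1) ∧ G₁ᵀ = ε • G₁ ∧ Cᵀ = (-ε) • C ∧ IsUnit G₁.det ∧ IsUnit C.det ∧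
      (∀ x : N, ((D.ρ x : GL (Fin D.d) F) : Matrix (Fin D.d) (Fin D.d) F)ᵀ * G₁ *
        ((D.ρ x : GL (Fin D.d) F) : Matrix (Fin D.d) (Fin D.d) F) = G₁) ∧
      ∀ x y : Fin D.d × Fin D.k → F,
        f (((D.P⁻¹ : GL (Fin n) F) : Matrix (Fin n) (Fin n) F) *ᵥ (x ∘ D.e))
          (((D.P⁻¹ : GL (Fin n) F) : Matrix (Fin n) (Fin n) F) *ᵥ (y ∘ D.e)) =
          formOfGram id (G₁ ⊗ₖ C) x y := by
  classical
  have hcard : Fintype.card (Fin D.d × Fin D.k) = n := by
    rw [← Fintype.card_congr D.e]; simp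
  by_cases hn0 : n = 0
  · -- degenerate case
    subst hn0
    have hemp : IsEmpty (Fin D.d × Fin D.k) := D.e.symm.isEmpty
    have hform : ∀ (G : Matrix (Fin D.d × Fin D.k) (Fin D.d × Fin D.k) F)
        (x y : Fin D.d × Fin D.k → F),
        f (((D.P⁻¹ : GL (Fin 0) F) : Matrix (Fin 0) (Fin 0) F) *ᵥ (x ∘ D.e))
          (((D.P⁻¹ : GL (Fin 0) F) : Matrix (Fin 0) (Fin 0) F) *ᵥ (y ∘ D.e)) =
          formOfGram id G x y := by
      intro G x y
      have h1 : (((D.P⁻¹ : GL (Fin 0) F) : Matrix (Fin 0) (Fin 0) F) *ᵥ (x ∘ D.e)) =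
          (((D.P⁻¹ : GL (Fin 0) F) : Matrix (Fin 0) (Fin 0) F) *ᵥ (y ∘ D.e)) :=
        Subsingleton.elim _ _
      rw [h1, hf.alternating]
      simp [formOfGram]
    rw [Fintype.card_prod, Fintype.card_fin, Fintype.card_fin] at hcard
    rcases mul_eq_zero.mp hcard with hd | hk
    · -- `d = 0`: `G₁` is the empty matrix
      haveI : IsEmpty (Fin D.d) := by rw [hd]; infer_instance
      refine ⟨1, 1, -1, Or.inr rfl, Subsingleton.elim _ _, ?_, ?_, ?_, fun x => Subsingleton.elim _ _,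
        hform _⟩
      · rw [neg_neg, one_smul, Matrix.transpose_one]
      · rw [Matrix.det_one]; exact isUnit_one
      · rw [Matrix.det_one]; exact isUnit_one
    · haveI : IsEmpty (Fin D.k) := by rw [hk]; infer_instance
      refine ⟨1, 1, 1, Or.inl rfl, ?_, Subsingleton.elim _ _, ?_, ?_, fun x => ?_, hform _⟩
      · rw [one_smul, Matrix.transpose_one]
      · rw [Matrix.det_one]; exact isUnit_one
      · rw [Matrix.det_one]; exact isUnit_one
      · have hx : x = 1 := Subsingleton.elim _ _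
        rw [hx, map_one]
        simp
  have hnpos : 0 < n := Nat.pos_of_ne_zero hn0
  set T := (transEquiv D.e D.P).symm with hT
  set g : (Fin D.d × Fin D.k → F) → (Fin D.d × Fin D.k → F) → F :=
    fun X Y => f (T X) (T Y) with hg
  have hgB : IsBilinearForm g := by
    refine ⟨fun x y v => ?_, fun c x v => ?_, fun v x y => ?_, fun c v x => ?_⟩
    · simp only [hg]; rw [map_add]; exact hf.bilinear.add_left _ _ _
    · simp only [hg]; rw [map_smul]; exact hf.bilinear.smul_left _ _ _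
    · simp only [hg]; rw [map_add]; exact hf.bilinear.add_right _ _ _
    · simp only [hg]; rw [map_smul]; exact hf.bilinear.smul_right _ _ _
  have hgnd : IsNondegenerateForm g := by
    intro v hv
    have hTv : T v ≠ 0 := fun h => hv (T.map_eq_zero_iff.mp h)
    obtain ⟨⟨x, hx⟩, ⟨y, hy⟩⟩ := hf.nondegenerate (T v) hTv
    refine ⟨⟨T.symm x, ?_⟩, ⟨T.symm y, ?_⟩⟩
    · simp only [hg]; rw [LinearEquiv.apply_symm_apply]; exact hx
    · simp only [hg]; rw [LinearEquiv.apply_symm_apply]; exact hy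
  obtain ⟨G, hG⟩ := exists_rep_of_bilinear g hgB
  have hGdet : IsUnit G.det := hG.isUnit_det hgnd
  have hG0 : G ≠ 0 := by
    intro h0
    have hne : Nonempty (Fin D.d × Fin D.k) := by
      rw [← Fintype.card_pos_iff, hcard]; exact hnpos
    haveI := hne
    rw [h0, Matrix.det_zero] at hGdet
    exact not_isUnit_zero hGdet
  have hGs : Gᵀ = -G := by
    ext a b
    rw [Matrix.transpose_apply, Matrix.neg_apply, ← hG.apply_single, ← hG.apply_single]
    exact hf.skew _ _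
  have hfix : ∀ s ∈ repSet D.ρ, (s ⊗ₖ (1 : Matrix (Fin D.k) (Fin D.k) F))ᵀ * G *
      (s ⊗ₖ (1 : Matrix (Fin D.k) (Fin D.k) F)) = G := by
    rintro _ ⟨x, rfl⟩
    have h1 := hG.matrix_eq ((((D.ρ x : GL (Fin D.d) F) : Matrix (Fin D.d) (Fin D.d) F) ⊗ₖ
        (1 : Matrix (Fin D.k) (Fin D.k) F))) 1 (by
      intro u v
      simp only [hg, hT]
      rw [transEquiv_symm_kron, transEquiv_symm_kron, one_mul]
      exact hN _ ⟨x, x.2, rfl⟩ _ _)
    rw [one_smul, map_id_eq] at h1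
    exact h1
  have hinv : ∀ s ∈ repSet D.ρ, IsUnit s.det := by
    rintro _ ⟨x, rfl⟩
    exact (Matrix.isUnit_iff_isUnit_det _).mp ⟨D.ρ x, rfl⟩
  obtain ⟨B, C, ε, hε, hBs, hCs, hBdet, hGe, hfixB⟩ :=
    tensor_form_core_bilin (repSet D.ρ) habs hinv G hG0 hGs hfix
  have hdpos : 0 < D.d := by
    rcases Nat.eq_zero_or_pos D.d with h | h
    · exfalso
      rw [Fintype.card_prod, Fintype.card_fin, h, zero_mul] at hcard
      omega
    · exact h
  have hCdet : IsUnit C.det := by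
    rw [hGe, Matrix.det_kronecker] at hGdet
    have := (IsUnit.mul_iff.mp hGdet).2
    rw [Fintype.card_fin] at this
    exact (isUnit_pow_iff hdpos.ne').mp this
  refine ⟨B, C, ε, hε, hBs, hCs, hBdet, hCdet, fun x => hfixB _ ⟨x, rfl⟩, fun X Y => ?_⟩
  rw [← transEquiv_symm_apply, ← transEquiv_symm_apply, ← hGe, formOfGram_id_eq]
  exact hG X Y

end Cfsg.Agent.Lib.H8.AschS
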