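/-
S5662 project (Aschbacher, symplectic case), module SM4, part a: tools.  Kronecker similitudes, the
action of `H` in tensor coordinates, forms given by Gram matrices, swapping the tensor factors, and
the class 4 case.  (helper8)
-/
import Cfsg.Agent.Lib.H8.AschST4
import Cfsg.Agent.Lib.H24.AschOBasic

set_option autoImplicit false
set_option linter.unusedSectionVars false

namespace Cfsg.Agent.Lib.H8.AschS

open Cfsg Cfsg.Geo Cfsg.Agent.Lib.Lead.Asch Cfsg.Agent.Lib.H6.Asch Cfsg.Agent.Lib.H20.Asch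
  Cfsg.Agent.Lib.H11.AschS
open scoped MatrixGroups Matrix Kronecker

variable {F : Type*} [Field F]

/-! ### Kronecker products -/

theorem kron_transpose {l m : Type*} (a : Matrix l l F) (b : Matrix m m F) :
    (a ⊗ₖ b)ᵀ = aᵀ ⊗ₖ bᵀ :=
  Matrix.kroneckerMap_transpose _ a b

/-- `A' ⊗ S' = A ⊗ S` with `A, S ≠ 0` forces `A' = c A`, `S' = c⁻¹ S`. -/
theorem kron_eq_kron {l m : Type*} (A A' : Matrix l l F) (S S' : Matrix m m F)
    (hA : A ≠ 0) (hS : S ≠ 0) (h : A' ⊗ₖ S' = A ⊗ₖ S) :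
    ∃ c : F, c ≠ 0 ∧ A' = c • A ∧ S' = c⁻¹ • S := by
  obtain ⟨x, y, hxy⟩ := exists_ne_zero_entry A hA
  obtain ⟨i, j, hij⟩ : ∃ i j, S i j ≠ 0 := by
    by_contra hcon
    push Not at hcon
    exact hS (by ext i j; exact hcon i j)
  have key : ∀ u v p q, A' u v * S' p q = A u v * S p q := by
    intro u v p q
    have := congrFun (congrFun h (u, p)) (v, q)
    simpa [Matrix.kroneckerMap_apply] using this
  have h1 : A' x y * S' i j ≠ 0 := by rw [key]; exact mul_ne_zero hxy hij
  have hA'xy : A' x y ≠ 0 := left_ne_zero_of_mul h1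
  have hS'ij : S' i j ≠ 0 := right_ne_zero_of_mul h1
  refine ⟨S i j / S' i j, div_ne_zero hij hS'ij, ?_, ?_⟩
  · ext u v
    rw [Matrix.smul_apply, smul_eq_mul]
    have := key u v i j
    field_simp
    linear_combination this
  · ext p q
    rw [Matrix.smul_apply, smul_eq_mul, inv_div]
    have h2 := key x y p q
    have h3 := key x y i j
    have : S' p q * (A' x y * S i j) = S' i j * S p q * A' x y := by
      linear_combination S i j * h2 - S p q * h3
    field_simp
    have h4 : S' p q * S i j * A' x y = S' i j * S p q * A' x y := by linear_combination this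
    exact mul_right_cancel₀ hA'xy h4

/-- A Kronecker product preserving `A ⊗ S` acts by similitudes on both factors. -/
theorem kron_similitude {l m : Type*} [Fintype l] [Fintype m] (A a : Matrix l l F)
    (S b : Matrix m m F) (hA : A ≠ 0) (hS : S ≠ 0)
    (h : (a ⊗ₖ b)ᵀ * (A ⊗ₖ S) * (a ⊗ₖ b) = A ⊗ₖ S) :
    ∃ c : F, c ≠ 0 ∧ aᵀ * A * a = c • A ∧ bᵀ * S * b = c⁻¹ • S := by
  rw [kron_transpose, ← Matrix.mul_kronecker_mul, ← Matrix.mul_kronecker_mul] at h
  exact kron_eq_kron A _ S _ hA hS h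

theorem ne_zero_of_isUnit_det {m : ℕ} (hm : 0 < m) (A : Matrix (Fin m) (Fin m) F)
    (hA : IsUnit A.det) : A ≠ 0 := by
  intro h0
  haveI : Nonempty (Fin m) := ⟨⟨0, hm⟩⟩
  rw [h0, Matrix.det_zero] at hA
  exact not_isUnit_zero hA

/-! ### Forms given by Gram matrices -/

theorem formOfGram_eq_formOf {κ : Type} [Fintype κ] [DecidableEq κ] (G : Matrix κ κ F) :
    formOfGram id G = formOf (RingHom.id F) G := by
  funext X Y
  unfold formOfGram formOf dotProduct Matrix.mulVec dotProduct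
  refine Finset.sum_congr rfl fun a _ => ?_
  rw [Finset.mul_sum]
  refine Finset.sum_congr rfl fun b _ => ?_
  simp only [id, RingHom.id_apply]
  rw [mul_assoc]

theorem rep_formOfGram {κ : Type} [Fintype κ] [DecidableEq κ] (G : Matrix κ κ F) :
    Rep (RingHom.id F) G (formOfGram id G) := by
  rw [formOfGram_eq_formOf]
  exact rep_formOf _ G

theorem gramMatrix_formOfGram {m : ℕ} (G : Matrix (Fin m) (Fin m) F) :
    gramMatrix (formOfGram id G) = G := by
  rw [formOfGram_eq_formOf]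
  ext a b
  exact (rep_formOf (RingHom.id F) G).apply_single a b

theorem formOfGram_transpose {κ : Type} [Fintype κ] [DecidableEq κ] (G : Matrix κ κ F)
    (X Y : κ → F) : formOfGram id Gᵀ X Y = formOfGram id G Y X := by
  unfold formOfGram
  rw [Finset.sum_comm]
  refine Finset.sum_congr rfl fun a _ => Finset.sum_congr rfl fun b _ => ?_
  simp only [Matrix.transpose_apply, id]
  ring

theorem formOfGram_smul_matrix {κ : Type} [Fintype κ] (c : F) (G : Matrix κ κ F)
    (X Y : κ → F) : formOfGram id (c • G) X Y = c * formOfGram id G X Y := by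
  unfold formOfGram
  rw [Finset.mul_sum]
  refine Finset.sum_congr rfl fun a _ => ?_
  rw [Finset.mul_sum]
  refine Finset.sum_congr rfl fun b _ => ?_
  simp only [Matrix.smul_apply, smul_eq_mul, id]
  ring

theorem isSymmetricForm_formOfGram {m : ℕ} (S : Matrix (Fin m) (Fin m) F) (hS : Sᵀ = S)
    (hdet : IsUnit S.det) : IsSymmetricForm (formOfGram id S) := by
  refine ⟨(rep_formOfGram S).bilinear, fun u v => ?_, (rep_formOfGram S).nondegenerate hdet⟩
  rw [← formOfGram_transpose, hS]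

theorem isSymplecticForm_formOfGram {m : ℕ} (h2 : (2 : F) ≠ 0) (A : Matrix (Fin m) (Fin m) F)
    (hA : Aᵀ = -A) (hdet : IsUnit A.det) : IsSymplecticForm (formOfGram id A) := by
  have hskew : ∀ u v, formOfGram id A u v = - formOfGram id A v u := by
    intro u v
    rw [← formOfGram_transpose, hA]
    have : (-A) = (-1 : F) • A := by rw [neg_smul, one_smul]
    rw [this, formOfGram_smul_matrix]
    ring
  refine ⟨(rep_formOfGram A).bilinear, hskew, fun v => ?_, (rep_formOfGram A).nondegenerate hdet⟩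
  have h1 := hskew v v
  have h3 : (2 : F) * formOfGram id A v v = 0 := by linear_combination h1
  rcases mul_eq_zero.1 h3 with h4 | h4
  · exact absurd h4 h2
  · exact h4

/-! ### The action of `H` in coordinates -/

section coords

variable {n : ℕ} {f : (Fin n → F) → (Fin n → F) → F} {κ : Type} [Fintype κ] [DecidableEq κ]

/-- `T (h' X) = h (T X)` for the coordinate map `T = (transEquiv e P).symm`. -/
theorem transEquiv_symm_mulVec (e : Fin n ≃ κ) (P : GL (Fin n) F) (h : GL (Fin n) F) (X : κ → F) :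
    (transEquiv e P).symm (((glReindex e (P * h * P⁻¹) : GL κ F) : Matrix κ κ F) *ᵥ X) =
      (h : Matrix (Fin n) (Fin n) F) *ᵥ (transEquiv e P).symm X := by
  rw [LinearEquiv.symm_apply_eq, transEquiv_mulVec, LinearEquiv.apply_symm_apply]

/-- In coordinates every element of `H` is an isometry of the Gram matrix. -/
theorem gram_fix_of_fixesForm (H : Subgroup (GL (Fin n) F)) (hH : FixesForm (matrixSet H) f)
    (e : Fin n ≃ κ) (P : GL (Fin n) F) (G : Matrix κ κ F)
    (hform : ∀ x y : κ → F,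
      f (((P⁻¹ : GL (Fin n) F) : Matrix (Fin n) (Fin n) F) *ᵥ (x ∘ e))
        (((P⁻¹ : GL (Fin n) F) : Matrix (Fin n) (Fin n) F) *ᵥ (y ∘ e)) = formOfGram id G x y)
    (h : GL (Fin n) F) (hh : h ∈ H) :
    ((glReindex e (P * h * P⁻¹) : GL κ F) : Matrix κ κ F)ᵀ * G *
      ((glReindex e (P * h * P⁻¹) : GL κ F) : Matrix κ κ F) = G := by
  have h1 := (rep_formOfGram G).matrix_eq
    ((glReindex e (P * h * P⁻¹) : GL κ F) : Matrix κ κ F) 1 (by
      intro u v
      rw [← hform, ← hform, ← transEquiv_symm_apply, ← transEquiv_symm_apply,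
        ← transEquiv_symm_apply, ← transEquiv_symm_apply, transEquiv_symm_mulVec,
        transEquiv_symm_mulVec, one_mul]
      exact hH _ ⟨h, hh, rfl⟩ _ _)
  rw [one_smul, map_id_eq] at h1
  exact h1

end coords

/-! ### Swapping the factors -/

section swap

variable {n : ℕ} {f : (Fin n → F) → (Fin n → F) → F}

theorem formOfGram_kron_swap {d k : ℕ} (G₁ : Matrix (Fin d) (Fin d) F)
    (C : Matrix (Fin k) (Fin k) F) (x y : Fin k × Fin d → F) :
    formOfGram id (G₁ ⊗ₖ C) (x ∘ Equiv.prodComm (Fin d) (Fin k))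
      (y ∘ Equiv.prodComm (Fin d) (Fin k)) = formOfGram id (C ⊗ₖ G₁) x y := by
  unfold formOfGram
  rw [← Equiv.sum_comp (Equiv.prodComm (Fin d) (Fin k))]
  refine Finset.sum_congr rfl fun a _ => ?_
  rw [← Equiv.sum_comp (Equiv.prodComm (Fin d) (Fin k))]
  refine Finset.sum_congr rfl fun b _ => ?_
  obtain ⟨a1, a2⟩ := a
  obtain ⟨b1, b2⟩ := b
  simp only [Function.comp_apply, Equiv.prodComm_apply, Prod.swap_prod_mk,
    Matrix.kroneckerMap_apply, id]
  ring

theorem hform_swap {d k : ℕ} (e : Fin n ≃ Fin d × Fin k) (P : GL (Fin n) F)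
    (G₁ : Matrix (Fin d) (Fin d) F) (C : Matrix (Fin k) (Fin k) F)
    (hform : ∀ x y : Fin d × Fin k → F,
      f (((P⁻¹ : GL (Fin n) F) : Matrix (Fin n) (Fin n) F) *ᵥ (x ∘ e))
        (((P⁻¹ : GL (Fin n) F) : Matrix (Fin n) (Fin n) F) *ᵥ (y ∘ e)) =
        formOfGram id (G₁ ⊗ₖ C) x y) :
    ∀ x y : Fin k × Fin d → F,
      f (((P⁻¹ : GL (Fin n) F) : Matrix (Fin n) (Fin n) F) *ᵥ
          (x ∘ e.trans (Equiv.prodComm (Fin d) (Fin k))))
        (((P⁻¹ : GL (Fin n) F) : Matrix (Fin n) (Fin n) F) *ᵥ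
          (y ∘ e.trans (Equiv.prodComm (Fin d) (Fin k)))) =
        formOfGram id (C ⊗ₖ G₁) x y := by
  intro x y
  rw [← formOfGram_kron_swap, ← hform]
  rfl

theorem hkron_swap (H : Subgroup (GL (Fin n) F)) {d k : ℕ} (e : Fin n ≃ Fin d × Fin k)
    (P : GL (Fin n) F)
    (hkron : ∀ h ∈ H, glReindex e (P * h * P⁻¹) ∈ kroneckerSubgroup d k F) :
    ∀ h ∈ H, glReindex (e.trans (Equiv.prodComm (Fin d) (Fin k))) (P * h * P⁻¹) ∈
      kroneckerSubgroup k d F := by
  intro h hh
  rw [glReindex_trans]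
  exact prodComm_mem_kronecker _ (hkron h hh)

end swap

/-! ### Class 4 -/

variable [Fintype F] {n : ℕ} {f : (Fin n → F) → (Fin n → F) → F}

/-- Normal form `f = A ⊗ S` with `A` alternating, `S` symmetric of dimension `≥ 3`, `q` odd:
class 4. -/
theorem sc4_of_tensor (hq : Odd (Fintype.card F)) (H : Subgroup (GL (Fin n) F))
    {n₁ n₂ : ℕ} (hn₂ : 3 ≤ n₂) (e : Fin n ≃ Fin n₁ × Fin n₂) (P : GL (Fin n) F)
    (A : Matrix (Fin n₁) (Fin n₁) F) (S : Matrix (Fin n₂) (Fin n₂) F)
    (hA : Aᵀ = -A) (hS : Sᵀ = S) (hAdet : IsUnit A.det) (hSdet : IsUnit S.det)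
    (hform : ∀ x y : Fin n₁ × Fin n₂ → F,
      f (((P⁻¹ : GL (Fin n) F) : Matrix (Fin n) (Fin n) F) *ᵥ (x ∘ e))
        (((P⁻¹ : GL (Fin n) F) : Matrix (Fin n) (Fin n) F) *ᵥ (y ∘ e)) =
        formOfGram id (A ⊗ₖ S) x y)
    (hkron : ∀ h ∈ H, glReindex e (P * h * P⁻¹) ∈ kroneckerSubgroup n₁ n₂ F) : SC4 f H := by
  have h2 : (2 : F) ≠ 0 := Cfsg.Agent.Lib.H24.Asch.two_ne_zero_of_odd hq
  refine ⟨n₁, n₂, e, P⁻¹, formOfGram id A, formOfGram id S, hq, hn₂,
    isSymplecticForm_formOfGram h2 A hA hAdet, isSymmetricForm_formOfGram S hS hSdet,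
    ⟨1, one_ne_zero, fun x y => ?_⟩, le_tensorProductSubgroup H e P hkron⟩
  rw [one_mul, gramMatrix_formOfGram, gramMatrix_formOfGram]
  exact hform x y

end Cfsg.Agent.Lib.H8.AschS
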