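/-
S5662 project (Aschbacher, symplectic case), module SM4, piece E: in even characteristic both
tensor factors of the form have zero diagonal.  Contains the char-2 lemma: the zero set of
`v ↦ vᵀ M v` (`M` symmetric, `2 = 0`) is a subspace of codimension at most 1.  (helper8)
-/
import Cfsg.Agent.Lib.H8.AschSM4a
import Cfsg.Agent.Lib.H8.AschSM2

set_option autoImplicit false
set_option linter.unusedSectionVars false

namespace Cfsg.Agent.Lib.H8.AschS

open Cfsg Cfsg.Geo Cfsg.Agent.Lib.Lead.Asch Cfsg.Agent.Lib.H6.Asch Cfsg.Agent.Lib.H20.Asch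
  Cfsg.Agent.Lib.H11.AschS
open scoped MatrixGroups Matrix Kronecker

variable {F : Type*} [Field F]

/-! ### The quadratic map of a matrix -/

section qf

variable {m : Type*} [Fintype m]

/-- `v ↦ vᵀ M v`. -/
def qf (M : Matrix m m F) (v : m → F) : F := v ⬝ᵥ M *ᵥ v

theorem qf_smul (M : Matrix m m F) (c : F) (v : m → F) : qf M (c • v) = c ^ 2 * qf M v := by
  simp only [qf]
  rw [Matrix.mulVec_smul, smul_dotProduct, dotProduct_smul, smul_eq_mul, smul_eq_mul]
  ring

theorem qf_add (M : Matrix m m F) (u v : m → F) :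
    qf M (u + v) = qf M u + qf M v + (u ⬝ᵥ M *ᵥ v + v ⬝ᵥ M *ᵥ u) := by
  simp only [qf]
  rw [Matrix.mulVec_add, add_dotProduct, dotProduct_add, dotProduct_add]
  ring

theorem dot_symm (M : Matrix m m F) (hM : Mᵀ = M) (u v : m → F) :
    v ⬝ᵥ M *ᵥ u = u ⬝ᵥ M *ᵥ v := by
  rw [Matrix.dotProduct_mulVec, dotProduct_comm, ← Matrix.mulVec_transpose, hM]

theorem qf_add_of_symm (h2 : (2 : F) = 0) (M : Matrix m m F) (hM : Mᵀ = M) (u v : m → F) :
    qf M (u + v) = qf M u + qf M v := by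
  rw [qf_add, dot_symm M hM u v]
  have : u ⬝ᵥ M *ᵥ v + u ⬝ᵥ M *ᵥ v = 2 * (u ⬝ᵥ M *ᵥ v) := by ring
  rw [this, h2, zero_mul, add_zero]

theorem qf_mulVec (M g : Matrix m m F) (v : m → F) : qf M (g *ᵥ v) = qf (gᵀ * M * g) v := by
  simp only [qf]
  rw [Matrix.mulVec_mulVec, Matrix.dotProduct_mulVec, Matrix.vecMul_mulVec,
    ← Matrix.dotProduct_mulVec, ← Matrix.mul_assoc]

theorem qf_smul_matrix (M : Matrix m m F) (c : F) (v : m → F) : qf (c • M) v = c * qf M v := by
  simp only [qf]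
  rw [Matrix.smul_mulVec, dotProduct_smul, smul_eq_mul]

theorem qf_single [DecidableEq m] (M : Matrix m m F) (a : m) : qf M (Pi.single a 1) = M a a := by
  simp only [qf]
  rw [Matrix.mulVec_single_one, single_one_dotProduct]
  rfl

/-- The zero set of `qf M` for a symmetric `M` in characteristic 2, as a subspace. -/
def qfKer (h2 : (2 : F) = 0) (M : Matrix m m F) (hM : Mᵀ = M) : Submodule F (m → F) where
  carrier := {v | qf M v = 0}
  add_mem' := by
    intro a b ha hb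
    show qf M (a + b) = 0
    rw [qf_add_of_symm h2 M hM, show qf M a = 0 from ha, show qf M b = 0 from hb, add_zero]
  zero_mem' := by
    show qf M 0 = 0
    simp [qf]
  smul_mem' := by
    intro c v hv
    show qf M (c • v) = 0
    rw [qf_smul, show qf M v = 0 from hv, mul_zero]

theorem mem_qfKer (h2 : (2 : F) = 0) (M : Matrix m m F) (hM : Mᵀ = M) (v : m → F) :
    v ∈ qfKer h2 M hM ↔ qf M v = 0 := Iff.rfl

theorem sq_surjective [Finite F] (h2 : (2 : F) = 0) (x : F) : ∃ c : F, c ^ 2 = x := by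
  have hinj : Function.Injective (fun c : F => c ^ 2) := by
    intro a b hab
    have hab' : a ^ 2 = b ^ 2 := hab
    have h1 : (a - b) * (a + b) = 0 := by ring_nf; rw [hab']; ring
    rcases mul_eq_zero.1 h1 with h | h
    · exact sub_eq_zero.1 h
    · have : b + b = 0 := by
        have : b + b = 2 * b := by ring
        rw [this, h2, zero_mul]
      have h3 : a = -b := eq_neg_of_add_eq_zero_left h
      rw [h3]
      exact neg_eq_of_add_eq_zero_left this
  exact (Finite.injective_iff_surjective.mp hinj) x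

/-- **Char-2 lemma**: the zero set of `qf M` has codimension at most 1. -/
theorem exists_add_smul_mem_qfKer [Finite F] (h2 : (2 : F) = 0) (M : Matrix m m F) (hM : Mᵀ = M)
    (u : m → F) (hu : qf M u ≠ 0) (v : m → F) : ∃ c : F, v + c • u ∈ qfKer h2 M hM := by
  obtain ⟨c, hc⟩ := sq_surjective h2 (qf M v / qf M u)
  refine ⟨c, ?_⟩
  rw [mem_qfKer, qf_add_of_symm h2 M hM, qf_smul, hc, div_mul_cancel₀ _ hu]
  have : qf M v + qf M v = 2 * qf M v := by ring
  rw [this, h2, zero_mul]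

theorem qfKer_ne_bot [Finite F] (h2 : (2 : F) = 0) {d : ℕ} (hd : 2 ≤ d)
    (M : Matrix (Fin d) (Fin d) F) (hM : Mᵀ = M) : qfKer h2 M hM ≠ ⊥ := by
  intro hbot
  set i0 : Fin d := ⟨0, by omega⟩ with hi0
  set i1 : Fin d := ⟨1, by omega⟩ with hi1
  have h01 : i1 ≠ i0 := by
    intro h
    have := congrArg Fin.val h
    simp [hi0, hi1] at this
  by_cases h0 : qf M (Pi.single i0 1) = 0
  · have hmem : (Pi.single i0 1 : Fin d → F) ∈ qfKer h2 M hM := h0
    rw [hbot, Submodule.mem_bot] at hmem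
    have := congrFun hmem i0
    simp at this
  · obtain ⟨c, hc⟩ := exists_add_smul_mem_qfKer h2 M hM _ h0 (Pi.single i1 1)
    rw [hbot, Submodule.mem_bot] at hc
    have := congrFun hc i1
    simp [Pi.single_eq_of_ne h01] at this

/-- An irreducible set of isometries of a symmetric matrix in characteristic 2 and dimension at
least 2: the matrix has zero diagonal. -/
theorem diag_zero_of_irr [Finite F] (h2 : (2 : F) = 0) {d : ℕ} (hd : 2 ≤ d)
    (S : Set (Matrix (Fin d) (Fin d) F)) (hirr : ActsIrreducibly S)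
    (G₁ : Matrix (Fin d) (Fin d) F) (hG₁ : G₁ᵀ = G₁) (hfix : ∀ s ∈ S, sᵀ * G₁ * s = G₁)
    (a : Fin d) : G₁ a a = 0 := by
  rcases hirr (qfKer h2 G₁ hG₁) (by
    intro s hs
    rintro _ ⟨v, hv, rfl⟩
    rw [Matrix.toLin'_apply, mem_qfKer, qf_mulVec, hfix s hs]
    exact hv) with h | h
  · exact absurd h (qfKer_ne_bot h2 hd G₁ hG₁)
  · have : (Pi.single a 1 : Fin d → F) ∈ qfKer h2 G₁ hG₁ := by rw [h]; trivial
    rw [mem_qfKer, qf_single] at this
    exact this

end qf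

/-! ### The second factor -/

section second

variable {d k : ℕ}

/-- The vectors all of whose rows lie in `W`. -/
def rowsIn (d : ℕ) {k : ℕ} (W : Submodule F (Fin k → F)) : Submodule F (Fin d × Fin k → F) :=
  ⨅ a : Fin d, W.comap (LinearMap.funLeft F F (fun b : Fin k => (a, b)))

theorem mem_rowsIn (W : Submodule F (Fin k → F)) (X : Fin d × Fin k → F) :
    X ∈ rowsIn d W ↔ ∀ a : Fin d, (fun b => X (a, b)) ∈ W := by
  simp only [rowsIn, Submodule.mem_iInf, Submodule.mem_comap]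
  rfl

theorem kron_mulVec_row (a : Matrix (Fin d) (Fin d) F) (b : Matrix (Fin k) (Fin k) F)
    (X : Fin d × Fin k → F) (a' : Fin d) :
    (fun b' => ((a ⊗ₖ b) *ᵥ X) (a', b')) =
      ∑ a'' : Fin d, a a' a'' • (b *ᵥ (fun b'' => X (a'', b''))) := by
  funext b'
  simp only [Matrix.mulVec, dotProduct, Fintype.sum_prod_type, Matrix.kroneckerMap_apply,
    Finset.sum_apply, Pi.smul_apply, smul_eq_mul, Finset.mul_sum]
  refine Finset.sum_congr rfl fun a'' _ => Finset.sum_congr rfl fun b'' _ => ?_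
  ring

theorem kron_mulVec_mem_rowsIn (W : Submodule F (Fin k → F)) (a : Matrix (Fin d) (Fin d) F)
    (b : Matrix (Fin k) (Fin k) F) (hb : ∀ w ∈ W, b *ᵥ w ∈ W) (X : Fin d × Fin k → F)
    (hX : X ∈ rowsIn d W) : (a ⊗ₖ b) *ᵥ X ∈ rowsIn d W := by
  rw [mem_rowsIn] at hX ⊢
  intro a'
  rw [kron_mulVec_row]
  exact Submodule.sum_mem _ fun a'' _ => W.smul_mem _ (hb _ (hX a''))

end second

variable [Fintype F] {n : ℕ} {f : (Fin n → F) → (Fin n → F) → F}

theorem two_eq_zero_of_not_odd (hq : ¬ Odd (Fintype.card F)) : (2 : F) = 0 := by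
  have := neg_eq_self_of_not_odd hq (1 : F)
  have h : (1 : F) + 1 = 0 := by
    nth_rewrite 1 [← this]
    exact neg_add_cancel 1
  rw [← h]
  norm_num

/-- **SM4-E**. -/
theorem alt_of_even (hq : ¬ Odd (Fintype.card F))
    (H N : Subgroup (GL (Fin n) F)) (hH : FixesForm (matrixSet H) f)
    (hirr : ActsIrreducibly (matrixSet H)) (D : HomogData N) (hd : 2 ≤ D.d) (hk : 2 ≤ D.k)
    (G₁ : Matrix (Fin D.d) (Fin D.d) F) (C : Matrix (Fin D.k) (Fin D.k) F)
    (hG₁ : G₁ᵀ = G₁) (hC : Cᵀ = C) (hG₁det : IsUnit G₁.det) (hCdet : IsUnit C.det)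
    (hfix : ∀ x : N, ((D.ρ x : GL (Fin D.d) F) : Matrix (Fin D.d) (Fin D.d) F)ᵀ * G₁ *
        ((D.ρ x : GL (Fin D.d) F) : Matrix (Fin D.d) (Fin D.d) F) = G₁)
    (hform : ∀ x y : Fin D.d × Fin D.k → F,
      f (((D.P⁻¹ : GL (Fin n) F) : Matrix (Fin n) (Fin n) F) *ᵥ (x ∘ D.e))
        (((D.P⁻¹ : GL (Fin n) F) : Matrix (Fin n) (Fin n) F) *ᵥ (y ∘ D.e)) =
        formOfGram id (G₁ ⊗ₖ C) x y)
    (hkron : ∀ h ∈ H, glReindex D.e (D.P * h * D.P⁻¹) ∈ kroneckerSubgroup D.d D.k F) :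
    (∀ a, G₁ a a = 0) ∧ (∀ b, C b b = 0) := by
  classical
  have h2 : (2 : F) = 0 := two_eq_zero_of_not_odd hq
  refine ⟨fun a => diag_zero_of_irr h2 hd (repSet D.ρ) D.irr G₁ hG₁ (by
    rintro _ ⟨x, rfl⟩
    exact hfix x) a, fun b₀ => ?_⟩
  set W₂ := qfKer h2 C hC with hW₂
  set T := (transEquiv D.e D.P).symm with hT
  have hG₁0 : G₁ ≠ 0 := ne_zero_of_isUnit_det (by omega) G₁ hG₁det
  have hC0 : C ≠ 0 := ne_zero_of_isUnit_det (by omega) C hCdet
  -- invariance
  have hinv : ∀ h ∈ H, ∀ X ∈ rowsIn D.d W₂,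
      ((glReindex D.e (D.P * h * D.P⁻¹) : GL (Fin D.d × Fin D.k) F) :
        Matrix (Fin D.d × Fin D.k) (Fin D.d × Fin D.k) F) *ᵥ X ∈ rowsIn D.d W₂ := by
    intro h hh X hX
    obtain ⟨a, b, hab⟩ := hkron h hh
    have h1 := gram_fix_of_fixesForm H hH D.e D.P (G₁ ⊗ₖ C) hform h hh
    rw [hab] at h1 ⊢
    obtain ⟨c, hc0, -, hcb⟩ := kron_similitude G₁ (a : Matrix (Fin D.d) (Fin D.d) F) C
      (b : Matrix (Fin D.k) (Fin D.k) F) hG₁0 hC0 h1
    refine kron_mulVec_mem_rowsIn W₂ _ _ (fun w hw => ?_) X hX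
    rw [hW₂, mem_qfKer, qf_mulVec, hcb, qf_smul_matrix]
    rw [hW₂, mem_qfKer] at hw
    rw [hw, mul_zero]
  have hTinv : ∀ s ∈ matrixSet H,
      ((rowsIn D.d W₂).map T.toLinearMap).map (Matrix.toLin' s) ≤
        (rowsIn D.d W₂).map T.toLinearMap := by
    rintro _ ⟨h, hh, rfl⟩
    rintro _ ⟨_, ⟨X, hX, rfl⟩, rfl⟩
    refine ⟨_, hinv h hh X hX, ?_⟩
    rw [Matrix.toLin'_apply]
    exact transEquiv_symm_mulVec D.e D.P h X
  set a₀ : Fin D.d := ⟨0, by omega⟩ with ha₀
  rcases hirr _ hTinv with hbot | htop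
  · exfalso
    obtain ⟨w, hw, hw0⟩ := Submodule.exists_mem_ne_zero_of_ne_bot (qfKer_ne_bot h2 hk C hC)
    set X₀ : Fin D.d × Fin D.k → F := fun p => if p.1 = a₀ then w p.2 else 0 with hX₀
    have hX₀mem : X₀ ∈ rowsIn D.d W₂ := by
      rw [mem_rowsIn]
      intro a
      by_cases ha : a = a₀
      · have : (fun b => X₀ (a, b)) = w := by
          funext b
          simp [hX₀, ha]
        rw [this]
        exact hw
      · have : (fun b => X₀ (a, b)) = 0 := by
          funext b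
          simp [hX₀, ha]
        rw [this]
        exact W₂.zero_mem
    have h1 : T X₀ ∈ (rowsIn D.d W₂).map T.toLinearMap := ⟨X₀, hX₀mem, rfl⟩
    rw [hbot, Submodule.mem_bot] at h1
    have h3 : X₀ = 0 := T.map_eq_zero_iff.mp h1
    apply hw0
    funext b
    have := congrFun h3 (a₀, b)
    simpa [hX₀] using this
  · have h1 : T (Pi.single (a₀, b₀) 1) ∈ (rowsIn D.d W₂).map T.toLinearMap := by
      rw [htop]; trivial
    obtain ⟨X, hX, hXe⟩ := h1
    have h3 : X = Pi.single (a₀, b₀) 1 := T.injective hXe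
    rw [h3] at hX
    have hX' : (Pi.single (a₀, b₀) 1 : Fin D.d × Fin D.k → F) ∈ rowsIn D.d W₂ := hX
    rw [mem_rowsIn] at hX'
    have h4 := hX' a₀
    have h5 : (fun b => (Pi.single (a₀, b₀) (1 : F) : Fin D.d × Fin D.k → F) (a₀, b)) =
        Pi.single b₀ 1 := by
      funext b
      by_cases hb : b = b₀
      · subst hb; simp
      · have : (a₀, b) ≠ (a₀, b₀) := fun h => hb (Prod.ext_iff.mp h).2
        rw [Pi.single_eq_of_ne this, Pi.single_eq_of_ne hb]
    rw [h5, hW₂, mem_qfKer, qf_single] at h4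
    exact h4

end Cfsg.Agent.Lib.H8.AschS
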