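import Mathlib
import Cfsg.Agent.Lib.H11.S8V0

/-!
# S3590, task U2: `(X - 1) ^ (2 ^ t)` divides the characteristic polynomial
-/

set_option autoImplicit false

namespace Cfsg.Agent.Lib.H8.S8V

open Polynomial Cfsg.Agent.Lib.H11.S8V

section poly

variable {F : Type*} [Field F] [CharP F 2]

/-- In characteristic 2: `∑_{i < 2^t m} X^i = (X - 1)^(2^t - 1) * (∑_{i < m} X^i)^(2^t)`. -/
theorem geom_sum_char_two (t m : ℕ) :
    (∑ i ∈ Finset.range (2 ^ t * m), (X : F[X]) ^ i) =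
      (X - C (1 : F)) ^ (2 ^ t - 1) * (∑ i ∈ Finset.range m, (X : F[X]) ^ i) ^ (2 ^ t) := by
  haveI : Fact (Nat.Prime 2) := ⟨Nat.prime_two⟩
  have hX : (X - C (1 : F) : F[X]) ≠ 0 := X_sub_C_ne_zero 1
  apply mul_left_cancel₀ hX
  have h1 : (X - C (1 : F)) * ∑ i ∈ Finset.range (2 ^ t * m), (X : F[X]) ^ i =
      X ^ (2 ^ t * m) - 1 := by
    rw [map_one]
    exact mul_geom_sum X _
  have h2 : (X - C (1 : F)) * ∑ i ∈ Finset.range m, (X : F[X]) ^ i = X ^ m - 1 := by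
    rw [map_one]
    exact mul_geom_sum X _
  have h3 : (X : F[X]) ^ (2 ^ t * m) - 1 = (X ^ m - 1) ^ (2 ^ t) := by
    rw [sub_pow_char_pow, one_pow, ← pow_mul, mul_comm]
  have hpos : 0 < 2 ^ t := by positivity
  rw [h1, h3, ← h2, mul_pow, ← mul_assoc, ← pow_succ', Nat.sub_add_cancel hpos]

end poly

section linalg

variable {ι : Type*} [Fintype ι] [DecidableEq ι] {F : Type*} [Field F] [CharP F 2]

/-- **U2** -/
theorem pow_dvd_charpoly (A : Matrix ι ι F) (t m : ℕ) (hm : Odd m) (hA : A ^ (2 ^ t * m) = 1)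
    (hS : gsum A (2 ^ t * m) ≠ 0) : (X - C (1 : F)) ^ (2 ^ t) ∣ A.charpoly := by
  by_contra hnd
  apply hS
  set e := 2 ^ t with he
  have hpos : 0 < e := by positivity
  set Φ : F[X] := ∑ i ∈ Finset.range m, (X : F[X]) ^ i with hΦ
  set S : F[X] := ∑ i ∈ Finset.range (e * m), (X : F[X]) ^ i with hSdef
  have hSeq : S = (X - C (1 : F)) ^ (e - 1) * Φ ^ e := geom_sum_char_two t m
  -- `gsum A n = aeval A S`
  have hgs : gsum A (e * m) = aeval A S := by
    rw [gsum_def, hSdef, map_sum]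
    apply Finset.sum_congr rfl
    intro i _
    rw [map_pow, aeval_X]
  rw [hgs]
  -- the minimal polynomial
  set μ := minpoly F A with hμ
  have hμ0 : μ ≠ 0 := minpoly.ne_zero (Matrix.isIntegral A)
  have hμχ : μ ∣ A.charpoly := Matrix.minpoly_dvd_charpoly A
  have hμn : μ ∣ (X - C (1 : F)) ^ e * Φ ^ e := by
    apply minpoly.dvd
    have h1 : (X - C (1 : F)) ^ e * Φ ^ e = (X - C (1 : F)) * S := by
      rw [hSeq, ← mul_assoc, ← pow_succ', Nat.sub_add_cancel hpos]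
    rw [h1, hSdef, map_one, mul_geom_sum, map_sub, map_pow, aeval_X, map_one, hA, sub_self]
  obtain ⟨μ', hμ', hnd'⟩ := exists_eq_pow_rootMultiplicity_mul_and_not_dvd μ hμ0 (1 : F)
  set j := rootMultiplicity (1 : F) μ with hj
  have hje : j ≤ e - 1 := by
    by_contra hlt
    push Not at hlt
    have hej : e ≤ j := by omega
    apply hnd
    calc (X - C (1 : F)) ^ e ∣ (X - C (1 : F)) ^ j := pow_dvd_pow _ hej
      _ ∣ μ := ⟨μ', hμ'⟩
      _ ∣ A.charpoly := hμχ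
  have hcop : IsCoprime μ' ((X - C (1 : F)) ^ e) := by
    apply IsCoprime.pow_right
    exact ((irreducible_X_sub_C (1 : F)).coprime_iff_not_dvd.2 hnd').symm
  have hμ'Φ : μ' ∣ Φ ^ e := by
    apply hcop.dvd_of_dvd_mul_left
    refine dvd_trans ⟨(X - C (1 : F)) ^ j, ?_⟩ hμn
    rw [hμ', mul_comm]
  have hμS : μ ∣ S := by
    rw [hSeq, hμ']
    exact mul_dvd_mul (pow_dvd_pow _ hje) hμ'Φ
  obtain ⟨q, hq⟩ := hμS
  rw [hq, map_mul, hμ, minpoly.aeval, zero_mul]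

end linalg

end Cfsg.Agent.Lib.H8.S8V
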