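import Mathlib
import Cfsg.Prelude.Def_Classical
import Cfsg.Agent.Lib.H11.S8V0
import Cfsg.Agent.Lib.H15.S8OUnipA

/-!
# S3590, task U4: an order-4 unipotent isometry of `quadFormMinus 1` with `1 + u + u² + u³ ≠ 0`
-/

set_option autoImplicit false

namespace Cfsg.Agent.Lib.H8.S8V

open Matrix Cfsg.Agent.Lib.H11.S8V Cfsg.Agent.Lib.H15.S8O
open scoped MatrixGroups

variable {F : Type*} [Field F]

/-- `exists_of_end` of helper15, remembering the matrix. -/
theorem exists_of_end' {ι : Type} [Fintype ι] [DecidableEq ι] (Q : (ι → F) → F)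
    (f : Module.End F (ι → F)) (hQ : ∀ v, Q (f v) = Q v) (k : ℕ)
    (h1 : f ^ (2 ^ (k + 1)) = 1) (h2 : f ^ (2 ^ k) ≠ 1) :
    ∃ u ∈ Cfsg.isometryGroup F Q, orderOf u = 2 ^ (k + 1) ∧
      (u : Matrix ι ι F) = LinearMap.toMatrix' f := by
  have hn : 2 ^ (k + 1) ≠ 0 := by positivity
  let U : (Module.End F (ι → F))ˣ := Units.ofPowEqOne f _ h1 hn
  have hU : (U : Module.End F (ι → F)) = f := rfl
  let Φ : (Module.End F (ι → F))ˣ ≃* GL ι F :=
    Units.mapEquiv (LinearMap.toMatrixAlgEquiv' (R := F) (n := ι)).toMulEquiv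
  have hΦ : ((Φ U : GL ι F) : Matrix ι ι F) = LinearMap.toMatrix' f := rfl
  refine ⟨Φ U, ?_, ?_, hΦ⟩
  · rw [Cfsg.Agent.Lib.H11.IsoReindex.mem_iso_iff']
    intro x
    rw [hΦ, LinearMap.toMatrix'_mulVec, hQ]
  · rw [MulEquiv.orderOf_eq]
    haveI : Fact (Nat.Prime 2) := ⟨Nat.prime_two⟩
    apply orderOf_eq_prime_pow
    · intro h
      apply h2
      have := congrArg (fun V : (Module.End F (ι → F))ˣ => (V : Module.End F (ι → F))) h
      simpa [hU] using this
    · apply Units.ext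
      rw [Units.val_pow_eq_pow_val, hU, h1]
      rfl

/-- `gsum` of the matrix of an endomorphism. -/
theorem gsum_toMatrix' {ι : Type} [Fintype ι] [DecidableEq ι] (f : Module.End F (ι → F)) (n : ℕ) :
    gsum (LinearMap.toMatrix' f) n = LinearMap.toMatrix' (∑ i ∈ Finset.range n, f ^ i) := by
  rw [gsum_def, map_sum]
  apply Finset.sum_congr rfl
  intro i _
  exact (map_pow (LinearMap.toMatrixAlgEquiv' (R := F) (n := ι)) f i).symm

/-- **U4** strengthened T3b -/
theorem exists_u4_minus [Fintype F] [CharP F 2] (a b : F) (ha : a ≠ 0) :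
    ∃ u ∈ Cfsg.isometryGroup F (Cfsg.quadFormMinus 1 F a b), orderOf u = 4 ∧
      gsum (u : Matrix ((Fin 1 ⊕ Fin 1) ⊕ Fin 2) ((Fin 1 ⊕ Fin 1) ⊕ Fin 2) F) 4 ≠ 0 := by
  have h2 : (2 : F) = 0 := CharTwo.two_eq_zero
  have key := exists_of_end' (Cfsg.quadFormMinus 1 F a b) (fB a b) ?_ 1 ?_ ?_
  · obtain ⟨u, hu, hord, hmat⟩ := key
    refine ⟨u, hu, by simpa using hord, ?_⟩
    rw [hmat, gsum_toMatrix']
    intro h
    have h0 : (∑ i ∈ Finset.range 4, fB a b ^ i) = 0 := by
      apply LinearMap.toMatrix'.injective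
      rw [h, map_zero]
    have e3 : ∀ v, (∑ i ∈ Finset.range 4, fB a b ^ i) v =
        v + fB a b v + fB a b (fB a b v) + fB a b (fB a b (fB a b v)) := by
      intro v
      simp [Finset.sum_range_succ, pow_succ, Module.End.mul_apply]
    have h3 := congrFun (LinearMap.congr_fun h0
      (fun s => if s = Sum.inl (Sum.inr 0) then 1 else 0)) (Sum.inl (Sum.inl 0))
    rw [e3, fB_sq] at h3
    simp only [Pi.add_apply, fB_x, LinearMap.zero_apply, Pi.zero_apply] at h3
    simp at h3
    apply ha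
    have : a ^ 2 = 0 := by linear_combination h3 - (b + a ^ 2) * h2
    exact pow_eq_zero_iff (two_ne_zero) |>.1 this
  · intro v
    unfold Cfsg.quadFormMinus
    simp only [Finset.univ_unique, Fin.default_eq_zero, Finset.sum_singleton]
    rw [fB_x, fB_y, fB_z1, fB_z2]
    linear_combination (b * v (Sum.inl (Sum.inr 0)) ^ 2 + a * v (Sum.inr 0) * v (Sum.inl (Sum.inr 0))
      + a ^ 2 * v (Sum.inr 1) * v (Sum.inl (Sum.inr 0)) + a * v (Sum.inr 0) * v (Sum.inr 1)
      + a ^ 2 * v (Sum.inr 1) ^ 2 + b * v (Sum.inr 1) * v (Sum.inl (Sum.inr 0))) * h2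
  · apply LinearMap.ext
    intro v
    have e4 : (fB a b ^ 2 ^ (1 + 1)) v = fB a b (fB a b (fB a b (fB a b v))) := by
      norm_num [pow_succ, Module.End.mul_apply]
    rw [e4, fB_sq, fB_sq, Module.End.one_apply]
    funext s
    rcases s with (i | i) | j
    · have hi : i = 0 := Subsingleton.elim _ _
      subst hi
      simp only [Fin.isValue, one_ne_zero, if_false]
      linear_combination (a ^ 2 * v (Sum.inr 1) + a ^ 2 * v (Sum.inl (Sum.inr 0))) * h2
    · have hi : i = 0 := Subsingleton.elim _ _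
      subst hi
      rfl
    · have hj : j = 0 ∨ j = 1 := by fin_cases j <;> simp
      rcases hj with rfl | rfl
      · simp only [if_true]
        linear_combination (a * v (Sum.inl (Sum.inr 0))) * h2
      · simp only [Fin.isValue, one_ne_zero, if_false]
  · intro h
    have e2 : ∀ v, (fB a b ^ 2 ^ 1) v = fB a b (fB a b v) := by
      intro v
      norm_num [pow_succ, Module.End.mul_apply]
    have h3 := congrFun (LinearMap.congr_fun h
      (fun s => if s = Sum.inl (Sum.inr 0) then 1 else 0)) (Sum.inr 0)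
    rw [e2, fB_sq, Module.End.one_apply] at h3
    simp at h3
    exact ha h3

end Cfsg.Agent.Lib.H8.S8V
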