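import Mathlib

/-!
# S3590, task U1: orders of elements of `N ⋊ Γ` for an elementary abelian 2-group `N`
-/

set_option autoImplicit false

namespace Cfsg.Agent.Lib.H8.S8V

/-- Powers in a semidirect product. -/
theorem sd_pow {N : Type*} [CommGroup N] {Γ : Type*} [Group Γ] (φ : Γ →* MulAut N) (x : N)
    (g : Γ) (k : ℕ) :
    (⟨x, g⟩ : N ⋊[φ] Γ) ^ k = ⟨∏ i ∈ Finset.range k, ((φ g) ^ i) x, g ^ k⟩ := by
  induction k with
  | zero =>
    ext <;> simp
  | succ k ih =>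
    rw [pow_succ, ih]
    apply SemidirectProduct.ext
    · rw [SemidirectProduct.mul_left]
      show (∏ i ∈ Finset.range k, ((φ g) ^ i) x) * (φ (g ^ k)) x = _
      rw [Finset.prod_range_succ, map_pow]
    · rw [SemidirectProduct.mul_right]
      show g ^ k * g = g ^ (k + 1)
      rw [pow_succ]

/-- **U1** orders in `N ⋊ Γ` for an elementary abelian 2-group `N` -/
theorem sd_orderOf {N : Type*} [CommGroup N] (hN : ∀ x : N, x * x = 1) {Γ : Type*} [Group Γ]
    (φ : Γ →* MulAut N) (x : N) (g : Γ) (hg : 0 < orderOf g) :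
    ((∏ i ∈ Finset.range (orderOf g), ((φ g) ^ i) x) = 1 →
      orderOf (⟨x, g⟩ : N ⋊[φ] Γ) = orderOf g) ∧
    ((∏ i ∈ Finset.range (orderOf g), ((φ g) ^ i) x) ≠ 1 →
      orderOf (⟨x, g⟩ : N ⋊[φ] Γ) = 2 * orderOf g) := by
  set n := orderOf g with hn
  set P := ∏ i ∈ Finset.range n, ((φ g) ^ i) x with hP
  have hXn : (⟨x, g⟩ : N ⋊[φ] Γ) ^ n = ⟨P, 1⟩ := by
    rw [sd_pow, hn, pow_orderOf_eq_one]
  have hdvd : n ∣ orderOf (⟨x, g⟩ : N ⋊[φ] Γ) := by
    have := orderOf_map_dvd (SemidirectProduct.rightHom (N := N) (G := Γ) (φ := φ))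
      (⟨x, g⟩ : N ⋊[φ] Γ)
    simpa using this
  constructor
  · intro h1
    apply Nat.dvd_antisymm _ hdvd
    apply orderOf_dvd_of_pow_eq_one
    rw [hXn, h1]
    rfl
  · intro h1
    have hne : (⟨x, g⟩ : N ⋊[φ] Γ) ^ n ≠ 1 := by
      rw [hXn]
      intro h
      apply h1
      have := congrArg SemidirectProduct.left h
      simpa using this
    have h2 : (⟨x, g⟩ : N ⋊[φ] Γ) ^ (2 * n) = 1 := by
      rw [mul_comm, pow_mul, hXn, pow_two]
      ext
      · simp [hN]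
      · simp
    have hd2 : orderOf (⟨x, g⟩ : N ⋊[φ] Γ) ∣ 2 * n := orderOf_dvd_of_pow_eq_one h2
    obtain ⟨k, hk⟩ := hdvd
    rw [hk, mul_comm 2 n] at hd2
    have hk2 : k ∣ 2 := Nat.dvd_of_mul_dvd_mul_left hg hd2
    have hk' : k = 1 ∨ k = 2 := (Nat.dvd_prime Nat.prime_two).1 hk2
    rcases hk' with rfl | rfl
    · exfalso
      apply hne
      rw [mul_one] at hk
      rw [← hk]
      exact pow_orderOf_eq_one _
    · rw [hk, mul_comm]

end Cfsg.Agent.Lib.H8.S8V
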