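import Mathlib

/-!
# S3016 piece Q3-ARITH (helper8): the arithmetic endgame of CASE B at `q = |H| = 3` (pure)

For `χ ∈ B₀`: `d = χ(a)` (integer), `f = χ(1)`, `R` = the average of `χ` over the bad pairs,
class sum `2 d² = f (d + R)`, pointwise bound (Lemma Q3) `R ≥ 2 d - f`, `∑ d R = 0` (ORTH),
`∑ d f = 0` (block orthogonality `a` against `1`).  No congruence is needed.
-/

set_option autoImplicit false

namespace Cfsg.Agent.Lib.H8.SHp

/-- per-character facts: `2 d ≤ f`, `d R ≤ 0`, and `d R < -1` when `d ≤ -1`. -/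
theorem q3_term (D F R : ℝ) (hF : 0 < F) (hDF : D < F) (hcs : 2 * D ^ 2 = F * (D + R))
    (hq3 : 2 * D - F ≤ R) :
    2 * D - F ≤ 0 ∧ D * R ≤ 0 ∧ (D ≤ -1 → D * R < -1) := by
  have hFR : F * R = 2 * D ^ 2 - F * D := by linarith
  have h2 : 2 * D - F ≤ 0 := by
    by_contra h
    push Not at h
    have h3 : F * (2 * D - F) ≤ F * R := mul_le_mul_of_nonneg_left hq3 hF.le
    have h4 : 0 ≤ (2 * D - F) * (D - F) := by nlinarith
    have h5 : (2 * D - F) * (D - F) < 0 := mul_neg_of_pos_of_neg h (by linarith)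
    linarith
  have hkey : F * (D * R) = D ^ 2 * (2 * D - F) := by
    have : F * (D * R) = D * (F * R) := by ring
    rw [this, hFR]
    ring
  refine ⟨h2, ?_, ?_⟩
  · by_contra h
    push Not at h
    have h3 : 0 < F * (D * R) := mul_pos hF h
    have h4 : D ^ 2 * (2 * D - F) ≤ 0 := mul_nonpos_of_nonneg_of_nonpos (sq_nonneg D) h2
    linarith
  · intro hD
    have hD2 : 1 ≤ D ^ 2 := by nlinarith
    have h3 : 2 * D - F < -F := by linarith
    have h4 : D ^ 2 * (2 * D - F) < D ^ 2 * (-F) :=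
      mul_lt_mul_of_pos_left h3 (by linarith)
    have h5 : F * (D * R) < F * (-(D ^ 2)) := by
      rw [hkey]
      calc D ^ 2 * (2 * D - F) < D ^ 2 * (-F) := h4
        _ = F * (-(D ^ 2)) := by ring
    have h6 : D * R < -(D ^ 2) := lt_of_mul_lt_mul_left h5 hF.le
    linarith

/-- **Q3-ARITH**: the CASE B endgame at `q = 3`. -/
theorem endb_q3 {ι : Type*} (s : Finset ι) (i₀ : ι) (hi₀ : i₀ ∈ s) (d f : ι → ℤ) (R : ι → ℝ)
    (hf : ∀ i ∈ s, 0 < f i) (hd0 : d i₀ = 1) (hf0 : f i₀ = 1)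
    (hdf : ∀ i ∈ s, i ≠ i₀ → d i < f i)
    (hcs : ∀ i ∈ s, 2 * (d i : ℝ) ^ 2 = (f i : ℝ) * ((d i : ℝ) + R i))
    (hq3 : ∀ i ∈ s, 2 * (d i : ℝ) - (f i : ℝ) ≤ R i)
    (hsum : ∑ i ∈ s, (d i : ℝ) * R i = 0)
    (hone : ∑ i ∈ s, (d i : ℝ) * (f i : ℝ) = 0) : False := by
  classical
  -- the trivial character
  have hR0 : R i₀ = 1 := by
    have h := hcs i₀ hi₀
    rw [hd0, hf0] at h
    push_cast at h
    linarith
  have hterm0 : (d i₀ : ℝ) * R i₀ = 1 := by
    rw [hd0, hR0]; push_cast; ring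
  -- per-term facts off the trivial character
  have hfacts : ∀ i ∈ s.erase i₀, (d i : ℝ) * R i ≤ 0 ∧ ((d i : ℝ) ≤ -1 → (d i : ℝ) * R i < -1) := by
    intro i hi
    obtain ⟨hne, his⟩ := Finset.mem_erase.1 hi
    have hF : (0 : ℝ) < (f i : ℝ) := by
      have := hf i his
      exact_mod_cast this
    have hDF : (d i : ℝ) < (f i : ℝ) := by
      have := hdf i his hne
      exact_mod_cast this
    obtain ⟨_, h2, h3⟩ := q3_term (d i : ℝ) (f i : ℝ) (R i) hF hDF (hcs i his) (hq3 i his)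
    exact ⟨h2, h3⟩
  have hsum' : ∑ i ∈ s.erase i₀, (d i : ℝ) * R i = -1 := by
    have h1 := Finset.add_sum_erase s (fun i => (d i : ℝ) * R i) hi₀
    beta_reduce at h1
    rw [hsum, hterm0] at h1
    linarith
  -- all `d ≥ 0`
  have hnonneg : ∀ i ∈ s.erase i₀, 0 ≤ d i := by
    intro i₁ hi₁
    by_contra hneg
    push Not at hneg
    have hd1 : (d i₁ : ℝ) ≤ -1 := by
      have : d i₁ ≤ -1 := by omega
      exact_mod_cast this
    have h1 := (hfacts i₁ hi₁).2 hd1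
    have h2 := Finset.add_sum_erase (s.erase i₀) (fun i => (d i : ℝ) * R i) hi₁
    beta_reduce at h2
    have h3 : ∑ i ∈ (s.erase i₀).erase i₁, (d i : ℝ) * R i ≤ 0 :=
      Finset.sum_nonpos (fun i hi => (hfacts i (Finset.mem_of_mem_erase hi)).1)
    rw [hsum'] at h2
    linarith
  -- contradiction with `∑ d f = 0`
  have h1 := Finset.add_sum_erase s (fun i => (d i : ℝ) * (f i : ℝ)) hi₀
  beta_reduce at h1
  rw [hone, hd0, hf0] at h1
  have h2 : 0 ≤ ∑ i ∈ s.erase i₀, (d i : ℝ) * (f i : ℝ) := by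
    refine Finset.sum_nonneg (fun i hi => ?_)
    have hdi : (0 : ℝ) ≤ (d i : ℝ) := by
      have := hnonneg i hi
      exact_mod_cast this
    have hfi : (0 : ℝ) ≤ (f i : ℝ) := by
      have := hf i (Finset.mem_of_mem_erase hi)
      exact_mod_cast this.le
    exact mul_nonneg hdi hfi
  push_cast at h1
  linarith

end Cfsg.Agent.Lib.H8.SHp
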