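import Cfsg.Agent.Lib.H8.BSWTheta
import Cfsg.Agent.Lib.H8.GenChar

/-!
# Brauer–Suzuki–Wall (S3282): the functional `Lf F Θ = ∑_χ F χ ⟨Θ, χ⟩` and small norms
-/

set_option autoImplicit false

namespace Cfsg.Agent.Lib.H8.BSW

open Cfsg Cfsg.Agent.Lib.L0 Cfsg.Agent.Lib.H8 Cfsg.Agent.Lib.H24
open scoped ComplexConjugate

variable {G : Type*} [Group G] [Fintype G]

/-- `Lf F Θ = ∑_χ F χ ⟨Θ, χ⟩`. -/
noncomputable def Lf (F : IrrCharacter G → ℂ) (Θ : G → ℂ) : ℂ :=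
  ∑ᶠ χ : IrrCharacter G, F χ * classInner Θ (χ : G → ℂ)

theorem Lf_eq_sum [Fintype (IrrCharacter G)] (F : IrrCharacter G → ℂ) (Θ : G → ℂ) :
    Lf F Θ = ∑ χ : IrrCharacter G, F χ * classInner Θ (χ : G → ℂ) := by
  unfold Lf
  rw [finsum_eq_sum_of_fintype]

theorem Lf_add (F : IrrCharacter G → ℂ) (Θ₁ Θ₂ : G → ℂ) :
    Lf F (Θ₁ + Θ₂) = Lf F Θ₁ + Lf F Θ₂ := by
  have := Fintype.ofFinite (IrrCharacter G)
  simp only [Lf_eq_sum, classInner_add_left, mul_add, Finset.sum_add_distrib]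

theorem Lf_sub (F : IrrCharacter G → ℂ) (Θ₁ Θ₂ : G → ℂ) :
    Lf F (Θ₁ - Θ₂) = Lf F Θ₁ - Lf F Θ₂ := by
  have := Fintype.ofFinite (IrrCharacter G)
  simp only [Lf_eq_sum, classInner_sub_left, mul_sub, Finset.sum_sub_distrib]

theorem Lf_smul (F : IrrCharacter G → ℂ) (c : ℂ) (Θ : G → ℂ) :
    Lf F (c • Θ) = c * Lf F Θ := by
  have := Fintype.ofFinite (IrrCharacter G)
  simp only [Lf_eq_sum, classInner_smul_left, Finset.mul_sum]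
  refine Finset.sum_congr rfl fun χ _ => ?_
  ring

theorem Lf_irr (F : IrrCharacter G → ℂ) (ψ : IrrCharacter G) : Lf F (ψ : G → ℂ) = F ψ := by
  classical
  have := Fintype.ofFinite (IrrCharacter G)
  rw [Lf_eq_sum]
  have h1 : ∀ χ : IrrCharacter G, F χ * classInner (ψ : G → ℂ) (χ : G → ℂ)
      = if ψ = χ then F χ else 0 := by
    intro χ
    by_cases hc : ψ = χ
    · subst hc
      rw [if_pos rfl, irr_classInner_self ψ.2, mul_one]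
    · rw [if_neg hc, irr_classInner_ne ψ.2 χ.2 (fun h => hc (Subtype.ext h)), mul_zero]
  simp only [h1, Finset.sum_ite_eq, Finset.mem_univ, if_true]

/-- the principal character as an element of `IrrCharacter G` -/
noncomputable def oneIrr (G : Type*) [Group G] : IrrCharacter G := ⟨1, Cfsg.Agent.Lib.L0.isIrrCharacter_one⟩

theorem Lf_one (F : IrrCharacter G → ℂ) : Lf F (1 : G → ℂ) = F (oneIrr G) :=
  Lf_irr F (oneIrr G)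

/-- A sum of integer squares equal to three has exactly three nonzero terms, each `±1`. -/
theorem int_sq_sum_eq_three {ι : Type*} [DecidableEq ι] (s : Finset ι) (f : ι → ℤ)
    (h : ∑ i ∈ s, f i ^ 2 = 3) :
    ∃ i₀ ∈ s, ∃ i₁ ∈ s, ∃ i₂ ∈ s, i₀ ≠ i₁ ∧ i₀ ≠ i₂ ∧ i₁ ≠ i₂ ∧
      (f i₀ = 1 ∨ f i₀ = -1) ∧ (f i₁ = 1 ∨ f i₁ = -1) ∧ (f i₂ = 1 ∨ f i₂ = -1) ∧
      ∀ j ∈ s, j ≠ i₀ → j ≠ i₁ → j ≠ i₂ → f j = 0 := by
  have hex : ∃ i₀ ∈ s, f i₀ ≠ 0 := by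
    by_contra hno
    push Not at hno
    rw [Finset.sum_eq_zero (fun i hi => by rw [hno i hi]; ring)] at h
    norm_num at h
  obtain ⟨i₀, hi₀, hne⟩ := hex
  rw [← Finset.add_sum_erase s _ hi₀] at h
  have hnn : 0 ≤ ∑ i ∈ s.erase i₀, f i ^ 2 := Finset.sum_nonneg (fun i _ => sq_nonneg _)
  have hle : f i₀ ^ 2 ≤ 3 := by linarith
  have h1 : f i₀ = 1 ∨ f i₀ = -1 := by
    have hb1 : f i₀ ≤ 1 := by nlinarith
    have hb2 : -1 ≤ f i₀ := by nlinarith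
    omega
  have hsq : f i₀ ^ 2 = 1 := by rcases h1 with h | h <;> rw [h] <;> norm_num
  have hrest : ∑ i ∈ s.erase i₀, f i ^ 2 = 2 := by linarith
  obtain ⟨i₁, hi₁, i₂, hi₂, h12, hv1, hv2, hz⟩ := int_sq_sum_eq_two (s.erase i₀) f hrest
  refine ⟨i₀, hi₀, i₁, Finset.mem_of_mem_erase hi₁, i₂, Finset.mem_of_mem_erase hi₂,
    (Finset.ne_of_mem_erase hi₁).symm, (Finset.ne_of_mem_erase hi₂).symm, h12, h1, hv1, hv2, ?_⟩
  intro j hj hj0 hj1 hj2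
  exact hz j (Finset.mem_erase.mpr ⟨hj0, hj⟩) hj1 hj2

/-- A generalized character of norm two is `ε₁ ξ₁ + ε₂ ξ₂` with `ξ₁ ≠ ξ₂` irreducible. -/
theorem genChar_norm_two' {θ : G → ℂ} (hθ : IsGeneralizedCharacter G θ)
    (h2 : classInner θ θ = 2) :
    ∃ (ξ₁ ξ₂ : IrrCharacter G) (ε₁ ε₂ : ℤ), ξ₁ ≠ ξ₂ ∧ (ε₁ = 1 ∨ ε₁ = -1) ∧ (ε₂ = 1 ∨ ε₂ = -1) ∧
      θ = (ε₁ : ℂ) • (ξ₁ : G → ℂ) + (ε₂ : ℂ) • (ξ₂ : G → ℂ) := by
  classical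
  haveI : Fintype (IrrCharacter G) := Fintype.ofFinite _
  have hc : ∀ ξ : IrrCharacter G, ∃ c : ℤ, classInner θ (ξ : G → ℂ) = c :=
    fun ξ => genChar_classInner_irr_int hθ ξ.2
  choose c hc using hc
  have hn := genChar_norm hθ c hc
  rw [h2] at hn
  have hn' : ∑ ξ : IrrCharacter G, c ξ ^ 2 = 2 := by exact_mod_cast hn.symm
  obtain ⟨ξ₀, -, ξ₁, -, hne, hv0, hv1, hz⟩ := int_sq_sum_eq_two Finset.univ c hn'
  have hexp := genChar_expansion hθ c hc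
  rw [← Finset.add_sum_erase _ _ (Finset.mem_univ ξ₀),
    ← Finset.add_sum_erase _ _ (Finset.mem_erase.mpr ⟨hne.symm, Finset.mem_univ ξ₁⟩),
    Finset.sum_eq_zero (fun ξ hξ => by
      have h1 := Finset.ne_of_mem_erase hξ
      have h0 := Finset.ne_of_mem_erase (Finset.mem_of_mem_erase hξ)
      rw [hz ξ (Finset.mem_univ _) h0 h1]; simp), add_zero] at hexp
  exact ⟨ξ₀, ξ₁, c ξ₀, c ξ₁, hne, hv0, hv1, hexp⟩

/-- A generalized character of norm three is `ε₁ ξ₁ + ε₂ ξ₂ + ε₃ ξ₃` with distinct irreducible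
`ξ_i`. -/
theorem genChar_norm_three' {θ : G → ℂ} (hθ : IsGeneralizedCharacter G θ)
    (h3 : classInner θ θ = 3) :
    ∃ (ξ₁ ξ₂ ξ₃ : IrrCharacter G) (ε₁ ε₂ ε₃ : ℤ), ξ₁ ≠ ξ₂ ∧ ξ₁ ≠ ξ₃ ∧ ξ₂ ≠ ξ₃ ∧
      (ε₁ = 1 ∨ ε₁ = -1) ∧ (ε₂ = 1 ∨ ε₂ = -1) ∧ (ε₃ = 1 ∨ ε₃ = -1) ∧
      θ = (ε₁ : ℂ) • (ξ₁ : G → ℂ) + (ε₂ : ℂ) • (ξ₂ : G → ℂ) + (ε₃ : ℂ) • (ξ₃ : G → ℂ) := by
  classical
  haveI : Fintype (IrrCharacter G) := Fintype.ofFinite _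
  have hc : ∀ ξ : IrrCharacter G, ∃ c : ℤ, classInner θ (ξ : G → ℂ) = c :=
    fun ξ => genChar_classInner_irr_int hθ ξ.2
  choose c hc using hc
  have hn := genChar_norm hθ c hc
  rw [h3] at hn
  have hn' : ∑ ξ : IrrCharacter G, c ξ ^ 2 = 3 := by exact_mod_cast hn.symm
  obtain ⟨ξ₀, -, ξ₁, -, ξ₂, -, h01, h02, h12, hv0, hv1, hv2, hz⟩ :=
    int_sq_sum_eq_three Finset.univ c hn'
  have hexp := genChar_expansion hθ c hc
  rw [← Finset.add_sum_erase _ _ (Finset.mem_univ ξ₀),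
    ← Finset.add_sum_erase _ _ (Finset.mem_erase.mpr ⟨h01.symm, Finset.mem_univ ξ₁⟩),
    ← Finset.add_sum_erase _ _ (Finset.mem_erase.mpr ⟨h12.symm,
      Finset.mem_erase.mpr ⟨h02.symm, Finset.mem_univ ξ₂⟩⟩),
    Finset.sum_eq_zero (fun ξ hξ => by
      have h2 := Finset.ne_of_mem_erase hξ
      have h1 := Finset.ne_of_mem_erase (Finset.mem_of_mem_erase hξ)
      have h0 := Finset.ne_of_mem_erase (Finset.mem_of_mem_erase (Finset.mem_of_mem_erase hξ))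
      rw [hz ξ (Finset.mem_univ _) h0 h1 h2]; simp), add_zero, ← add_assoc] at hexp
  exact ⟨ξ₀, ξ₁, ξ₂, c ξ₀, c ξ₁, c ξ₂, h01, h02, h12, hv0, hv1, hv2, hexp⟩

end Cfsg.Agent.Lib.H8.BSW
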