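import Mathlib

/-!
# S1951: bridge from the complex class-sum identity (CLASSSUM) and the count `(p-2)|K| ≤ (p-1) N_sing`
(REGCOUNT) to the rational lower bound `hlow` of ARITH.
-/

namespace Cfsg.Agent.Lib.H8.AEB

open Finset

/-- the complex identity `t * N = k * ∑ d³ / f` is a rational identity -/
theorem rat_of_complex {ι : Type*} (s : Finset ι) (d f : ι → ℤ) (N k t : ℕ)
    (hN : (t : ℂ) * (N : ℂ) = (k : ℂ) * ∑ i ∈ s, (d i : ℂ) ^ 3 / (f i : ℂ)) :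
    (t : ℚ) * (N : ℚ) = (k : ℚ) * ∑ i ∈ s, (d i : ℚ) ^ 3 / (f i : ℚ) := by
  have h : (((t : ℚ) * (N : ℚ) : ℚ) : ℂ) =
      (((k : ℚ) * ∑ i ∈ s, (d i : ℚ) ^ 3 / (f i : ℚ) : ℚ) : ℂ) := by
    push_cast
    exact hN
  exact_mod_cast h

/-- **BRIDGE** (Finset form): CLASSSUM + REGCOUNT give the lower bound of ARITH. -/
theorem hlow_of_complex {ι : Type*} (s : Finset ι) (d f : ι → ℤ) (N k t p : ℕ) (hk : 0 < k)
    (hp : 2 ≤ p)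
    (hN : (t : ℂ) * (N : ℂ) = (k : ℂ) * ∑ i ∈ s, (d i : ℂ) ^ 3 / (f i : ℂ))
    (hreg : (p - 2) * k ≤ (p - 1) * N) :
    (t : ℚ) * ((p : ℚ) - 2) / ((p : ℚ) - 1) ≤ ∑ i ∈ s, (d i : ℚ) ^ 3 / (f i : ℚ) := by
  have hQ := rat_of_complex s d f N k t hN
  have hkQ : (0 : ℚ) < (k : ℚ) := by exact_mod_cast hk
  have hp1 : (0 : ℚ) < (p : ℚ) - 1 := by
    have : (2 : ℚ) ≤ (p : ℚ) := by exact_mod_cast hp
    linarith
  have hregQ : ((p : ℚ) - 2) * (k : ℚ) ≤ ((p : ℚ) - 1) * (N : ℚ) := by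
    have h1 : (((p - 2) * k : ℕ) : ℚ) ≤ (((p - 1) * N : ℕ) : ℚ) := by exact_mod_cast hreg
    rw [Nat.cast_mul, Nat.cast_mul, Nat.cast_sub hp, Nat.cast_sub (by omega : 1 ≤ p)] at h1
    simpa using h1
  have hsum : ∑ i ∈ s, (d i : ℚ) ^ 3 / (f i : ℚ) = (t : ℚ) * (N : ℚ) / (k : ℚ) := by
    rw [hQ]
    field_simp
  rw [hsum, div_le_div_iff₀ hp1 hkQ]
  have ht : (0 : ℚ) ≤ (t : ℚ) := Nat.cast_nonneg t
  nlinarith [mul_le_mul_of_nonneg_left hregQ ht]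

/-- **BRIDGE** (`finsum` form over a set `B` of a finite index type, complex degrees `χ1`). -/
theorem hlow_of_finsum {ι : Type*} [Finite ι] (B : Set ι) (d f : ι → ℤ) (χ1 : ι → ℂ)
    (hf : ∀ i ∈ B, χ1 i = (f i : ℂ)) (N k t p : ℕ) (hk : 0 < k) (hp : 2 ≤ p)
    (hN : (t : ℂ) * (N : ℂ) = (k : ℂ) * ∑ᶠ i ∈ B, (d i : ℂ) ^ 3 / χ1 i)
    (hreg : (p - 2) * k ≤ (p - 1) * N) :
    (t : ℚ) * ((p : ℚ) - 2) / ((p : ℚ) - 1) ≤
      ∑ i ∈ (Set.toFinite B).toFinset, (d i : ℚ) ^ 3 / (f i : ℚ) := by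
  refine hlow_of_complex _ d f N k t p hk hp ?_ hreg
  rw [hN, finsum_mem_eq_finite_toFinset_sum _ (Set.toFinite B)]
  congr 1
  refine Finset.sum_congr rfl fun i hi => ?_
  rw [hf i ((Set.Finite.mem_toFinset _).1 hi)]

/-- integer sums from complex `finsum`s: `∑ᶠ i ∈ B, d i * d i = t` gives `∑ d i ^ 2 = t`. -/
theorem int_sum_of_finsum {ι : Type*} [Finite ι] (B : Set ι) (g : ι → ℤ) (c : ℤ)
    (h : ∑ᶠ i ∈ B, (g i : ℂ) = (c : ℂ)) :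
    ∑ i ∈ (Set.toFinite B).toFinset, g i = c := by
  rw [finsum_mem_eq_finite_toFinset_sum _ (Set.toFinite B)] at h
  have : ((∑ i ∈ (Set.toFinite B).toFinset, g i : ℤ) : ℂ) = (c : ℂ) := by
    push_cast
    exact h
  exact_mod_cast this

end Cfsg.Agent.Lib.H8.AEB
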