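import Mathlib
import Cfsg.Agent.Lib.H23.KWSING
import Cfsg.Agent.Lib.H9.AECS2
import Cfsg.Agent.Lib.H25.AEPSI
import Cfsg.Agent.Lib.H2.AECOUNT
import Cfsg.Agent.Lib.H19.AEINT2
import Cfsg.Agent.Lib.H15.AECONST
import Cfsg.Agent.Lib.H3.AEREG
import Cfsg.Agent.Lib.H18.ZPARITH
import Cfsg.Agent.Lib.H4.PCOMPLcore
import Cfsg.Agent.Lib.L0.PRegCongP
import Cfsg.Agent.Lib.H8.AEBRIDGE

/-!
# S1951: assembly of the landed pieces (INT, CONST, COUNT, PSI, CLASSSUM, PCOMPL, REGCOUNT, BRIDGE, ARITH)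
-/

set_option autoImplicit false
open Cfsg

namespace Cfsg.Agent.Lib.H8.AEF

theorem s1951_core {G : Type*} [Group G] [Finite G] [IsSimpleGroup G]
    {p : ℕ} [Fact p.Prime] (P : Sylow p G)
    (hP1 : (P : Subgroup G) ≠ ⊥) (hPe : Cfsg.IsElementaryAbelian p (P : Subgroup G))
    (hconj : ∀ x ∈ (P : Subgroup G), ∀ y ∈ (P : Subgroup G), x ≠ 1 → y ≠ 1 → ∃ g : G, g * x * g⁻¹ = y)
    (hb : ∀ x ∈ (P : Subgroup G), orderOf x = p → Cfsg.HasNormalPComplement p ↥(Subgroup.centralizer ({x} : Set G)))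
    (hc : ∀ x y : G, orderOf x = p → orderOf y = p → Cfsg.IsPSolvable p ↥(Subgroup.closure ({x, y} : Set G))) :
    p = 2 := by
  classical
  by_contra hp2
  have hp : p.Prime := Fact.out
  haveI : Fintype G := Fintype.ofFinite G
  haveI : Finite (IrrCharacter G) := Cfsg.Agent.Lib.H24.finite_irr
  -- the element `a`
  obtain ⟨a, haP, ha1⟩ : ∃ a ∈ (P : Subgroup G), a ≠ 1 := by
    by_contra hcon
    push Not at hcon
    exact hP1 ((Subgroup.eq_bot_iff_forall _).2 hcon)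
  have hao : orderOf a = p := orderOf_eq_prime (hPe.2 a haP) ha1
  have hap : ∃ k : ℕ, orderOf a = p ^ k := ⟨1, by rw [hao, pow_one]⟩
  have hH : Cfsg.Agent.Lib.H23.KW.Hyp p P a := ⟨hPe, hconj, hb, haP, ha1⟩
  obtain ⟨M, hM⟩ := Cfsg.Agent.Lib.L0.PRegP.exists_isPModular hp
  haveI hMp : M.IsPrime := Cfsg.Agent.Lib.H23.isPrime_of_isPModular hM
  -- `t = |P| = p ^ n`
  obtain ⟨n, hn⟩ : ∃ n : ℕ, Nat.card (P : Subgroup G) = p ^ n := IsPGroup.iff_card.1 P.isPGroup'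
  have hn1 : 1 ≤ n := by
    rcases Nat.eq_zero_or_pos n with h0 | h0
    · exfalso
      rw [h0, pow_zero] at hn
      exact hP1 ((Subgroup.eq_bot_iff_card _).2 hn)
    · exact h0
  have hP2 : 2 ≤ Nat.card (P : Subgroup G) := by
    rw [hn]
    calc 2 ≤ p := hp.two_le
      _ = p ^ 1 := (pow_one p).symm
      _ ≤ p ^ n := Nat.pow_le_pow_right hp.pos hn1
  -- INT
  have hconjIs : ∀ x ∈ (P : Subgroup G), x ≠ 1 → IsConj a x := fun x hx hx1 =>
    isConj_iff.2 (hconj a haP x hx ha1 hx1)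
  obtain ⟨d, f, hd, hf1, hfm, htriv⟩ :=
    Cfsg.Agent.Lib.H19.AE.ae_int_fun (P : Subgroup G) hP2 a ha1 hconjIs
  set B : Set (IrrCharacter G) := principalBlock M G with hB
  -- CONST
  have hconst : ∀ χ ∈ B, ∀ g : G, p ∣ orderOf g → (χ : G → ℂ) g = (χ : G → ℂ) a :=
    fun χ hχ g hg => hH.const_on_singular hM χ hχ hg
  -- COUNT
  have hcount := Cfsg.Agent.Lib.H2.AE.card_pSingular_mul_card P hP1 hPe hconj hb
  -- `χ a⁻¹ = d χ`
  have hinv : ∀ χ : IrrCharacter G, (χ : G → ℂ) a⁻¹ = (d χ : ℂ) := by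
    intro χ
    rw [Cfsg.Agent.Lib.L0.isCharacter_apply_inv (Cfsg.Agent.Lib.L0.isCharacter_of_irr χ.2), hd χ]
    simp
  -- PSI
  have hpsi_self := Cfsg.Agent.Lib.H25.AE.psi_self_eq hM a ha1 hap (Nat.card (P : Subgroup G))
    hconst hcount
  have hpsi_one := Cfsg.Agent.Lib.H25.AE.psi_one_eq_zero (G := G) hM a ha1 hap
  let S : Set G := {g | p ∣ orderOf g}
  have hΨ : ∀ g : G, ∑ᶠ χ ∈ B, (d χ : ℂ) * (χ : G → ℂ) g =
      if g ∈ S then ((Nat.card (P : Subgroup G) : ℕ) : ℂ) else 0 := by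
    intro g
    split_ifs with hg
    · rw [← hpsi_self]
      refine finsum_mem_congr rfl fun χ hχ => ?_
      rw [hconst χ hχ g hg, hinv χ, hd χ]
    · rw [← Cfsg.Agent.Lib.H25.AE.psi_eq_zero_of_regular hM a ha1 hap g hg]
      refine finsum_mem_congr rfl fun χ _ => ?_
      rw [hinv χ, mul_comm]
  -- CLASSSUM
  have hns := Cfsg.Agent.Lib.H9.AECS.nsing_eq B d a ((Nat.card (P : Subgroup G) : ℕ) : ℂ) S
    (fun χ _ => hd χ) hΨ
  -- `cls a` = the elements of order `p`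
  have hcls : Cfsg.Agent.Lib.H9.AECS.cls a = Cfsg.Agent.Lib.H3.AE.ordP G p := by
    ext y
    rw [Cfsg.Agent.Lib.H9.AECS.mem_cls]
    simp only [Cfsg.Agent.Lib.H3.AE.ordP, Finset.mem_filter, Finset.mem_univ, true_and]
    constructor
    · intro h
      obtain ⟨g, hg⟩ := isConj_iff.1 h
      have hoc : orderOf (g * a * g⁻¹) = orderOf a := by
        have := orderOf_injective (MulAut.conj g).toMonoidHom (MulEquiv.injective _) a
        simpa [MulAut.conj_apply] using this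
      rw [← hg, hoc, hao]
    · intro hy
      have hy1 : y ≠ 1 := by
        rintro rfl
        rw [orderOf_one] at hy
        exact hp.one_lt.ne hy
      exact isConj_iff.2 (hH.exists_conj_of_pElement ⟨1, by rw [hy, pow_one]⟩ hy1)
  have hfilt : (Cfsg.Agent.Lib.H9.AECS.cls a).filter (fun y => a⁻¹ * y ∈ S) =
      (Cfsg.Agent.Lib.H3.AE.ordP G p).filter (fun y => p ∣ orderOf (a⁻¹ * y)) := by
    rw [hcls]
    ext y
    simp [S]
  -- REGCOUNT
  have hPc : ∀ x ∈ (P : Subgroup G), ∀ y ∈ (P : Subgroup G), x * y = y * x := fun x hx y hy =>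
    congrArg Subtype.val (hPe.1.is_comm.comm ⟨x, hx⟩ ⟨y, hy⟩)
  have hreg := Cfsg.Agent.Lib.H3.AE.singcount hp a
    (Cfsg.Agent.Lib.H4.PC.regular_unique P hPc hc hao)
  rw [← hfilt, ← hcls] at hreg
  -- BRIDGE
  have hk : 0 < (Cfsg.Agent.Lib.H9.AECS.cls a).card :=
    Finset.card_pos.2 ⟨a, Cfsg.Agent.Lib.H9.AECS.mem_cls.2 (IsConj.refl a)⟩
  have hlow := Cfsg.Agent.Lib.H8.AEB.hlow_of_finsum B d f (fun χ => (χ : G → ℂ) 1)
    (fun χ _ => hf1 χ) _ _ (Nat.card (P : Subgroup G)) p hk hp.two_le hns hreg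
  -- ARITH
  set s : Finset (IrrCharacter G) := (Set.toFinite B).toFinset with hs
  have hi₀ : Cfsg.Agent.Lib.H24.trivialIrr G ∈ s :=
    (Set.Finite.mem_toFinset _).2 Cfsg.Agent.Lib.H23.trivialIrr_mem_principalBlock
  have hcardZ : ((Nat.card (P : Subgroup G) : ℕ) : ℤ) = (p : ℤ) ^ n := by
    rw [hn]; push_cast; rfl
  refine Cfsg.Agent.Lib.H18.ZP.arith_false s (Cfsg.Agent.Lib.H24.trivialIrr G) hi₀ d f p n hp hp2 hn1
    (htriv _ rfl).1 (htriv _ rfl).2 ?_ ?_ ?_ ?_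
  · intro χ _ hne
    have hne' : (χ : G → ℂ) ≠ (fun _ => (1 : ℂ)) := by
      intro h
      exact hne (Subtype.ext h)
    obtain ⟨m, hm, hfm'⟩ := hfm χ hne'
    exact ⟨m, hm, by rw [hfm', hcardZ]⟩
  · rw [← hcardZ]
    refine Cfsg.Agent.Lib.H8.AEB.int_sum_of_finsum B (fun χ => d χ ^ 2) _ ?_
    rw [Int.cast_natCast, ← hpsi_self]
    refine finsum_mem_congr rfl fun χ _ => ?_
    rw [hinv χ, hd χ]
    push_cast
    ring
  · refine Cfsg.Agent.Lib.H8.AEB.int_sum_of_finsum B (fun χ => d χ * f χ) 0 ?_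
    rw [Int.cast_zero, ← hpsi_one]
    refine finsum_mem_congr rfl fun χ _ => ?_
    rw [hinv χ, hf1 χ]
    push_cast
    ring
  · have e : ((Nat.card (P : Subgroup G) : ℕ) : ℚ) = (p : ℚ) ^ n := by
      rw [hn]; push_cast; rfl
    rw [e] at hlow
    exact hlow

end Cfsg.Agent.Lib.H8.AEF
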