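import Cfsg.Agent.Lib.H8.CYEQUI
import Cfsg.Agent.Lib.H12.CYDefs
import Cfsg.Agent.Lib.H6.CYPSI

/-!
# S1950 piece EQUI + COUNT in the `hequi` shape of `H6.CY.star_identity` (helper8)

`E := fusE p z`, `cls = H9.AECS.cls`, `pSection = H6.CY.pSection`.
-/

set_option autoImplicit false

namespace Cfsg.Agent.Lib.H8.CYE

open Cfsg Cfsg.Agent.Lib.H12.CY Cfsg.Agent.Lib.H6.CY

variable {G : Type*} [Group G] {p : ℕ} [hp : Fact p.Prime]

theorem mem_EE_iff (z : G) (t : ZMod p) : t ∈ EE z ↔ t ∈ fusE p z := by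
  rw [mem_fusE]; rfl

/-- **EQUI + COUNT** in the `hequi` shape of `H6.CY.star_identity`, hypothesis in K-form. -/
theorem equi_count [Fintype G] [DecidableEq G] (z : G) (hz : orderOf z = p)
    (hK : ∀ y : G, orderOf y = p → ∃ K : Subgroup G, KForm p z y K) (a b c : ZMod p)
    (hb : b ≠ 0) (hc : c ≠ 0)
    [DecidablePred (fun j : ZMod p => ∃ t ∈ fusE p z, j * a + b = c * t)]
    [DecidablePred (· ∈ pSection p (z ^ c.val))] :
    (fusE p z).card * ((Cfsg.Agent.Lib.H9.AECS.cls (z ^ b.val)).filter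
        (fun y => z ^ a.val * y ∈ pSection p (z ^ c.val))).card =
      (Cfsg.Agent.Lib.H9.AECS.cls (z ^ b.val)).card *
        ((fusE p z).filter (fun j => ∃ t ∈ fusE p z, j * a + b = c * t)).card := by
  have h := count_ncard z hz hK a b c hb hc
  have e1 : (EE z : Set (ZMod p)).ncard = (fusE p z).card := by
    rw [← Set.ncard_coe_finset]
    congr 1
    ext t
    rw [Finset.mem_coe]
    exact mem_EE_iff z t
  have e2 : {y : G | IsConj (zp z b) y ∧
      ∃ x, IsPPart p (zp z a * y) x ∧ IsConj x (zp z c)}.ncard =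
      ((Cfsg.Agent.Lib.H9.AECS.cls (z ^ b.val)).filter
        (fun y => z ^ a.val * y ∈ pSection p (z ^ c.val))).card := by
    rw [← Set.ncard_coe_finset]
    congr 1
    ext y
    rw [Finset.mem_coe, Finset.mem_filter, Cfsg.Agent.Lib.H9.AECS.mem_cls, mem_pSection]
    rfl
  have e3 : {y : G | IsConj (zp z b) y}.ncard =
      (Cfsg.Agent.Lib.H9.AECS.cls (z ^ b.val)).card := by
    rw [← Set.ncard_coe_finset]
    congr 1
    ext y
    rw [Finset.mem_coe, Cfsg.Agent.Lib.H9.AECS.mem_cls]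
    rfl
  have e4 : {j : ZMod p | j ∈ EE z ∧ ∃ t ∈ EE z, j * a + b = c * t}.ncard =
      ((fusE p z).filter (fun j => ∃ t ∈ fusE p z, j * a + b = c * t)).card := by
    rw [← Set.ncard_coe_finset]
    congr 1
    ext j
    rw [Finset.mem_coe, Finset.mem_filter]
    simp only [Set.mem_ofPred_eq, mem_EE_iff]
  rw [e1, e2, e3, e4] at h
  exact h

end Cfsg.Agent.Lib.H8.CYE
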