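import Mathlib
import Cfsg.Agent.Lib.H3.DF0
import Cfsg.Agent.Lib.H13.DFD4
import Cfsg.Agent.Lib.H25.DFD5
import Cfsg.Agent.Lib.H3.DFD6a

/-!
# S4316 piece D6b: `T` is normalized by `G`
-/

set_option autoImplicit false

universe u

namespace Cfsg.Agent.Lib.H8.DF

open Subgroup Cfsg.Agent.Lib.H3.DF
open scoped commutatorElement
open Cfsg.Agent.Lib.H13.DF (le_of_inf_HB_le le_of_HB_le)
open Cfsg.Agent.Lib.H25.DF (exists_commutator_mem_Kc)

variable {Γ : Type u} [Group Γ] [Finite Γ]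

/-- D6b. `T` is normalized by `G`. -/
theorem le_normalizer_TT {q m : ℕ} [Fact q.Prime] {G A : Subgroup Γ} (h : DHyp q m G A) :
    G ≤ normalizer (TT G A : Set Γ) := by
  classical
  obtain ⟨-, hKT, -, hAKc, -⟩ := TT_facts h
  apply le_of_HB_le h (normalizer (TT G A : Set Γ))
  intro B hB x hx
  apply Subgroup.mem_normalizer_fintype
  intro t ht
  -- the subgroup of all `t` with `x t x⁻¹ ∈ T`
  let W : Subgroup Γ := (TT G A).comap (MulAut.conj x).toMonoidHom
  have hWmem : ∀ y : Γ, y ∈ W ↔ x * y * x⁻¹ ∈ TT G A := by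
    intro y
    show (MulAut.conj x).toMonoidHom y ∈ TT G A ↔ _
    simp [MulAut.conj_apply]
  have hTW : TT G A ≤ W := by
    unfold TT
    apply iSup_le
    intro a
    apply iSup_le
    intro ha
    obtain ⟨ha1, haA⟩ := Cfsg.Agent.Lib.H16.mem_nz.1 ha
    -- `K_a ≤ W` by D4a
    apply le_of_inf_HB_le h haA ha1 (Kc G a) W
    · -- `K_a ≤ C_G(a)`
      unfold Kc
      rw [Subgroup.commutator_le]
      intro g₁ hg₁ g₂ hg₂
      exact (Gc G a).mul_mem ((Gc G a).mul_mem ((Gc G a).mul_mem hg₁ hg₂)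
        ((Gc G a).inv_mem hg₁)) ((Gc G a).inv_mem hg₂)
    · exact hAKc a haA
    · intro B' hB' haB' k hk
      obtain ⟨c', hc'A, hc'1, hcomm⟩ := exists_commutator_mem_Kc h hB hB'
      rw [hWmem]
      have h1 : ⁅x, k⁆ ∈ TT G A := hKT c' hc'A hc'1 (hcomm x hx k hk.2)
      have h2 : k ∈ TT G A := hKT a haA ha1 hk.1
      have h3 : x * k * x⁻¹ = ⁅x, k⁆ * k := by
        rw [commutatorElement_def]; group
      rw [h3]
      exact (TT G A).mul_mem h1 h2
  exact (hWmem t).1 (hTW ht)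

end Cfsg.Agent.Lib.H8.DF
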