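import Mathlib
import Cfsg.Agent.Lib.H1.SchurZassenhaus
import Cfsg.Agent.Lib.H1.Glauberman
import Cfsg.Agent.Lib.H1.Complement
import Cfsg.Agent.Lib.H1.PCore

/-!
# Conjugacy classes of a normal subgroup fixed by a coprime element

For `K ⊴ G` and `y : G` of order coprime to `|K|`:
* `exists_conj_fixed_of_coprime`: a `K`-class stable under `y` contains a `y`-fixed element;
* `exists_conj_commute_of_coprime`: two `K`-conjugate elements centralized by `y` are conjugate
  under `C_K(y)`;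
* `card_fixed_conjClasses_of_coprime`: if `C_K(y)` is commutative, the number of `K`-classes
  stable under `y` is `|C_K(y)|`.
-/

set_option autoImplicit false
open Pointwise

namespace Cfsg.Agent.Lib.H8

universe u

section
variable {G : Type u} [Group G]

theorem isSolvable_zpowers (g : G) : Group.IsSolvable (Subgroup.zpowers g) := by
  apply isSolvable_of_comm
  rintro ⟨a, ha⟩ ⟨b, hb⟩
  obtain ⟨i, rfl⟩ := Subgroup.mem_zpowers_iff.mp ha
  obtain ⟨j, rfl⟩ := Subgroup.mem_zpowers_iff.mp hb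
  exact Subtype.ext (zpow_mul_comm g i j)

theorem mem_normalizer_inf_of_mem {K C : Subgroup G} [hK : K.Normal] {h : G} (hh : h ∈ C) :
    h ∈ Subgroup.normalizer ((K ⊓ C : Subgroup G) : Set G) := by
  rw [Subgroup.mem_normalizer_iff]
  intro x
  constructor
  · rintro ⟨hxK, hxC⟩
    exact ⟨hK.conj_mem x hxK h, C.mul_mem (C.mul_mem hh hxC) (C.inv_mem hh)⟩
  · rintro ⟨hxK, hxC⟩
    have e : x = h⁻¹ * (h * x * h⁻¹) * h⁻¹⁻¹ := by group
    rw [e]
    exact ⟨hK.conj_mem _ hxK _, C.mul_mem (C.mul_mem (C.inv_mem hh) hxC) (C.inv_mem (C.inv_mem hh))⟩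

end

section
variable {G : Type u} [Group G] [Finite G]

/-- A `K`-class stable under the coprime element `y` contains a `y`-fixed element. -/
theorem exists_conj_fixed_of_coprime {K : Subgroup G} [hK : K.Normal] {y : G}
    (hcop : (Nat.card K).Coprime (orderOf y)) {c k : G} (hk : k ∈ K)
    (h : y * c * y⁻¹ = k * c * k⁻¹) :
    ∃ n ∈ K, y * (n * c * n⁻¹) * y⁻¹ = n * c * n⁻¹ := by
  classical
  obtain ⟨z, hz⟩ : ∃ z : G, z = k⁻¹ * y := ⟨_, rfl⟩
  have hzc : z * c = c * z := by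
    have h1 : z * c * z⁻¹ = c := by
      rw [hz]
      calc k⁻¹ * y * c * (k⁻¹ * y)⁻¹ = k⁻¹ * (y * c * y⁻¹) * k := by group
        _ = c := by rw [h]; group
    calc z * c = (z * c * z⁻¹) * z := by group
      _ = c * z := by rw [h1]
  have hπ : (QuotientGroup.mk' K) z = (QuotientGroup.mk' K) y := by
    have h1 : (QuotientGroup.mk' K) k = 1 := (QuotientGroup.eq_one_iff k).mpr hk
    rw [hz, map_mul, map_inv, h1, inv_one, one_mul]
  have hmem : ∀ j : ℕ, (z ^ j)⁻¹ * y ^ j ∈ K := fun j => by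
    have h1 : (QuotientGroup.mk' K) (z ^ j) = (QuotientGroup.mk' K) (y ^ j) := by
      rw [map_pow, map_pow, hπ]
    exact QuotientGroup.eq.mp h1
  set m := orderOf y with hm
  have hzmK : z ^ m ∈ K := by
    have h1 := hmem m
    rw [hm, pow_orderOf_eq_one, mul_one] at h1
    rw [hm]
    exact inv_inv (z ^ orderOf y) ▸ K.inv_mem h1
  set t := orderOf (z ^ m) with ht
  have htK : t ∣ Nat.card K := Subgroup.orderOf_dvd_natCard K hzmK
  have hmt : m.Coprime t := (Nat.Coprime.coprime_dvd_left htK hcop).symm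
  obtain ⟨s, hs1, hs0⟩ := Nat.chineseRemainder hmt 1 0
  have hts : t ∣ s := (Nat.modEq_zero_iff_dvd).mp hs0
  obtain ⟨z', hz'⟩ : ∃ z' : G, z' = z ^ s := ⟨_, rfl⟩
  have hz'm : z' ^ m = 1 := by
    rw [hz', ← pow_mul, mul_comm, pow_mul]
    exact orderOf_dvd_iff_pow_eq_one.mp hts
  have hz'ord : orderOf z' ∣ m := orderOf_dvd_of_pow_eq_one hz'm
  have hys : y ^ s = y := by
    have h1 : y ^ s = y ^ 1 := pow_eq_pow_iff_modEq.mpr hs1
    rw [h1, pow_one]
  have hz'y : z'⁻¹ * y ∈ K := by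
    have h1 := hmem s
    rw [hys] at h1
    rw [hz']; exact h1
  have hz'c : z' * c = c * z' := by
    rw [hz']
    exact (Commute.pow_left (show Commute z c from hzc) s).eq
  -- the two complements
  have hcopB : (Nat.card K).Coprime (Nat.card (Subgroup.zpowers z')) := by
    rw [Nat.card_zpowers]
    exact Nat.Coprime.coprime_dvd_right hz'ord hcop
  have hcopY : (Nat.card K).Coprime (Nat.card (Subgroup.zpowers y)) := by
    rw [Nat.card_zpowers]; exact hcop
  have hnorm : ∀ H : Subgroup G, H ≤ Subgroup.normalizer (K : Set G) := by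
    intro H
    rw [Subgroup.normalizer_eq_top]; exact le_top
  have hsup : K ⊔ Subgroup.zpowers z' = K ⊔ Subgroup.zpowers y := by
    apply le_antisymm
    · refine sup_le le_sup_left ?_
      rw [Subgroup.zpowers_le]
      have e : z' = y * (z'⁻¹ * y)⁻¹ := by group
      rw [e, sup_comm]
      exact Subgroup.mul_mem_sup (Subgroup.mem_zpowers y) (K.inv_mem hz'y)
    · refine sup_le le_sup_left ?_
      rw [Subgroup.zpowers_le]
      have e : y = z' * (z'⁻¹ * y) := by group
      rw [e, sup_comm]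
      exact Subgroup.mul_mem_sup (Subgroup.mem_zpowers z') hz'y
  obtain ⟨n, hnK, hn⟩ := Cfsg.Agent.Lib.H1.sz_conj_internal (N := K)
    (H := Subgroup.zpowers z') (K := Subgroup.zpowers y) (hnorm _) (hnorm _) hcopB
    (Subgroup.disjoint_of_coprime_natCard hcopB) (Subgroup.disjoint_of_coprime_natCard hcopY)
    hsup (Or.inr (isSolvable_zpowers z'))
  have hy : y ∈ MulAut.conj n • Subgroup.zpowers z' := by
    rw [hn]; exact Subgroup.mem_zpowers y
  rw [Cfsg.Agent.Lib.H1.mem_conj_smul_iff] at hy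
  have hB : Subgroup.zpowers z' ≤ Subgroup.centralizer ({c} : Set G) := by
    rw [Subgroup.zpowers_le, Subgroup.mem_centralizer_singleton_iff]
    exact hz'c
  have hyc := Subgroup.mem_centralizer_singleton_iff.mp (hB hy)
  refine ⟨n, hnK, ?_⟩
  calc y * (n * c * n⁻¹) * y⁻¹ = n * (n⁻¹ * y * n * c) * n⁻¹ * y⁻¹ := by group
    _ = n * (c * (n⁻¹ * y * n)) * n⁻¹ * y⁻¹ := by rw [hyc]
    _ = n * c * n⁻¹ := by group

/-- Two `K`-conjugate elements centralized by the coprime element `y` are conjugate under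
`C_K(y)`. -/
theorem exists_conj_commute_of_coprime {K : Subgroup G} [hK : K.Normal] {y : G}
    (hcop : (Nat.card K).Coprime (orderOf y)) {c k : G} (hk : k ∈ K)
    (h1 : y * c = c * y) (h2 : y * (k * c * k⁻¹) = (k * c * k⁻¹) * y) :
    ∃ n ∈ K, n * y = y * n ∧ n * c * n⁻¹ = k * c * k⁻¹ := by
  classical
  set Cc := Subgroup.centralizer ({c} : Set G) with hCc
  set H := Subgroup.zpowers y with hH
  have hHC : H ≤ Cc := by
    rw [hH, Subgroup.zpowers_le, hCc, Subgroup.mem_centralizer_singleton_iff]; exact h1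
  have hHC' : H ≤ Subgroup.centralizer ({k * c * k⁻¹} : Set G) := by
    rw [hH, Subgroup.zpowers_le, Subgroup.mem_centralizer_singleton_iff]; exact h2
  have hconjC : ∀ h ∈ H, k⁻¹ * h * k ∈ Cc := by
    intro h hh
    have e := Subgroup.mem_centralizer_singleton_iff.mp (hHC' hh)
    rw [hCc, Subgroup.mem_centralizer_singleton_iff]
    calc k⁻¹ * h * k * c = k⁻¹ * (h * (k * c * k⁻¹)) * k := by group
      _ = k⁻¹ * ((k * c * k⁻¹) * h) * k := by rw [e]
      _ = c * (k⁻¹ * h * k) := by group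
  set H' := MulAut.conj k⁻¹ • H with hH'
  have hH'C : H' ≤ Cc := by
    rw [hH', Cfsg.Agent.Lib.H1.conj_smul_le_iff]
    intro h hh
    rw [inv_inv]; exact hconjC h hh
  set N := K ⊓ Cc with hN
  have hcopN : (Nat.card N).Coprime (Nat.card H) := by
    rw [hH, Nat.card_zpowers]
    exact Nat.Coprime.coprime_dvd_left (Subgroup.card_dvd_of_le inf_le_left) hcop
  have hcopN' : (Nat.card N).Coprime (Nat.card H') := by
    rw [hH', Cfsg.Agent.Lib.H1.card_conj_smul]; exact hcopN
  have hcomm : ∀ h ∈ H, k⁻¹ * h * k * h⁻¹ ∈ N := by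
    intro h hh
    refine ⟨?_, Cc.mul_mem (hconjC h hh) (Cc.inv_mem (hHC hh))⟩
    have e : k⁻¹ * h * k * h⁻¹ = k⁻¹ * (h * k * h⁻¹) := by group
    rw [e]
    exact K.mul_mem (K.inv_mem hk) (hK.conj_mem k hk h)
  have hsup : N ⊔ H = N ⊔ H' := by
    apply le_antisymm
    · refine sup_le le_sup_left ?_
      intro h hh
      have e : h = (k⁻¹ * h * k * h⁻¹)⁻¹ * (k⁻¹ * h * k⁻¹⁻¹) := by group
      rw [e]
      exact Subgroup.mul_mem_sup (N.inv_mem (hcomm h hh))
        (Cfsg.Agent.Lib.H1.conj_mem_conj_smul hh)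
    · refine sup_le le_sup_left ?_
      rw [hH', Cfsg.Agent.Lib.H1.conj_smul_le_iff]
      intro h hh
      have e : k⁻¹ * h * k⁻¹⁻¹ = (k⁻¹ * h * k * h⁻¹) * h := by group
      rw [e]
      exact Subgroup.mul_mem_sup (hcomm h hh) hh
  obtain ⟨n, hnN, hn⟩ := Cfsg.Agent.Lib.H1.sz_conj_internal (N := N) (H := H) (K := H')
    (fun h hh => mem_normalizer_inf_of_mem (hHC hh))
    (fun h hh => mem_normalizer_inf_of_mem (hH'C hh)) hcopN
    (Subgroup.disjoint_of_coprime_natCard hcopN) (Subgroup.disjoint_of_coprime_natCard hcopN')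
    hsup (Or.inr (isSolvable_zpowers y))
  have hkn : MulAut.conj (k * n) • H = H := by
    rw [← Cfsg.Agent.Lib.H1.conj_smul_conj_smul, hn, hH', Cfsg.Agent.Lib.H1.conj_smul_conj_smul,
      mul_inv_cancel, map_one, one_smul]
  have hknK : k * n ∈ K := K.mul_mem hk hnN.1
  have hdKH : Disjoint K H := by
    apply Subgroup.disjoint_of_coprime_natCard
    rw [hH, Nat.card_zpowers]; exact hcop
  have hcent := Cfsg.Agent.Lib.H1.mem_centralizer_of_conj_smul_eq hdKH hknK hkn
  rw [Subgroup.mem_centralizer_iff] at hcent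
  have hy := hcent y (Subgroup.mem_zpowers y)
  refine ⟨k * n, hknK, hy.symm, ?_⟩
  have hnc := Subgroup.mem_centralizer_singleton_iff.mp hnN.2
  calc k * n * c * (k * n)⁻¹ = k * (n * c) * n⁻¹ * k⁻¹ := by group
    _ = k * (c * n) * n⁻¹ * k⁻¹ := by rw [hnc]
    _ = k * c * k⁻¹ := by group

/-- If `C_K(y)` is commutative (and `y` has order coprime to `|K|`), the number of conjugacy
classes of `K` stable under conjugation by `y` is `|C_K(y)|`. -/
theorem card_fixed_conjClasses_of_coprime {K : Subgroup G} [hK : K.Normal] {y : G}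
    (hcop : (Nat.card K).Coprime (orderOf y))
    (hcomm : ∀ a ∈ K ⊓ Subgroup.centralizer ({y} : Set G),
      ∀ b ∈ K ⊓ Subgroup.centralizer ({y} : Set G), a * b = b * a) :
    Nat.card {C : ConjClasses K //
        ConjClasses.map (MulAut.conjNormal y : K ≃* K).toMonoidHom C = C} =
      Nat.card (K ⊓ Subgroup.centralizer ({y} : Set G) : Subgroup G) := by
  classical
  set Z := K ⊓ Subgroup.centralizer ({y} : Set G) with hZ
  have hfix : ∀ w : Z, ConjClasses.map (MulAut.conjNormal y : K ≃* K).toMonoidHom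
      (ConjClasses.mk (⟨(w : G), w.2.1⟩ : K)) = ConjClasses.mk (⟨(w : G), w.2.1⟩ : K) := by
    intro w
    have e : (MulAut.conjNormal y : K ≃* K) ⟨(w : G), w.2.1⟩ = ⟨(w : G), w.2.1⟩ := by
      apply Subtype.ext
      rw [MulAut.conjNormal_apply]
      have hw := Subgroup.mem_centralizer_singleton_iff.mp w.2.2
      show y * (w : G) * y⁻¹ = (w : G)
      rw [← hw]; group
    show ConjClasses.mk ((MulAut.conjNormal y : K ≃* K) ⟨(w : G), w.2.1⟩) = _
    rw [e]
  set F : Z → {C : ConjClasses K //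
      ConjClasses.map (MulAut.conjNormal y : K ≃* K).toMonoidHom C = C} :=
    fun w => ⟨ConjClasses.mk ⟨(w : G), w.2.1⟩, hfix w⟩ with hF
  have hinj : Function.Injective F := by
    intro w w' hww
    have h1 : ConjClasses.mk (⟨(w : G), w.2.1⟩ : K) = ConjClasses.mk (⟨(w' : G), w'.2.1⟩ : K) :=
      congrArg Subtype.val hww
    obtain ⟨k, hk⟩ := isConj_iff.mp (ConjClasses.mk_eq_mk_iff_isConj.mp h1)
    have hk' : (k : G) * (w : G) * (k : G)⁻¹ = (w' : G) := congrArg Subtype.val hk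
    have hw := Subgroup.mem_centralizer_singleton_iff.mp w.2.2
    have hw' := Subgroup.mem_centralizer_singleton_iff.mp w'.2.2
    obtain ⟨n, hnK, hny, hnc⟩ := exists_conj_commute_of_coprime (K := K) (y := y) hcop
      (c := (w : G)) (k := (k : G)) k.2 hw.symm (by rw [hk']; exact hw'.symm)
    have hnZ : n ∈ Z := ⟨hnK, Subgroup.mem_centralizer_singleton_iff.mpr hny⟩
    have e := hcomm n hnZ (w : G) w.2
    apply Subtype.ext
    rw [← hk', ← hnc, e]; group
  have hsurj : Function.Surjective F := by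
    rintro ⟨C, hC⟩
    obtain ⟨c, rfl⟩ := ConjClasses.mk_surjective C
    have h1 : ConjClasses.mk ((MulAut.conjNormal y : K ≃* K) c) = ConjClasses.mk c := hC
    obtain ⟨k, hk⟩ := isConj_iff.mp (ConjClasses.mk_eq_mk_iff_isConj.mp h1)
    have hk' : (k : G) * (y * (c : G) * y⁻¹) * (k : G)⁻¹ = (c : G) := by
      have := congrArg Subtype.val hk
      simpa [MulAut.conjNormal_apply] using this
    have hyc : y * (c : G) * y⁻¹ = (k : G)⁻¹ * (c : G) * ((k : G)⁻¹)⁻¹ := by
      calc y * (c : G) * y⁻¹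
          = (k : G)⁻¹ * ((k : G) * (y * (c : G) * y⁻¹) * (k : G)⁻¹) * ((k : G)⁻¹)⁻¹ := by group
        _ = (k : G)⁻¹ * (c : G) * ((k : G)⁻¹)⁻¹ := by rw [hk']
    obtain ⟨n, hnK, hn⟩ := exists_conj_fixed_of_coprime (K := K) (y := y) hcop
      (c := (c : G)) (k := (k : G)⁻¹) (K.inv_mem k.2) hyc
    have hwK : n * (c : G) * n⁻¹ ∈ K := hK.conj_mem _ c.2 n
    have hwy : n * (c : G) * n⁻¹ ∈ Subgroup.centralizer ({y} : Set G) := by
      rw [Subgroup.mem_centralizer_singleton_iff]
      calc n * (c : G) * n⁻¹ * y = (y * (n * (c : G) * n⁻¹) * y⁻¹) * y := by rw [hn]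
        _ = y * (n * (c : G) * n⁻¹) := by group
    refine ⟨⟨n * (c : G) * n⁻¹, ⟨hwK, hwy⟩⟩, ?_⟩
    apply Subtype.ext
    show ConjClasses.mk (⟨n * (c : G) * n⁻¹, hwK⟩ : K) = ConjClasses.mk c
    rw [ConjClasses.mk_eq_mk_iff_isConj]
    apply IsConj.symm
    rw [isConj_iff]
    exact ⟨⟨n, hnK⟩, Subtype.ext rfl⟩
  exact (Nat.card_congr (Equiv.ofBijective F ⟨hinj, hsurj⟩)).symm

end

end Cfsg.Agent.Lib.H8
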