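import Mathlib
import Cfsg.Agent.Lib.H7.S3814Defs

/-!
# S3814, block (MP) = shape (II) : cut (helper8, sub-architect)

Setting: a finite group `G`, subgroups `V W X`, `X` an `{r,s}`-group normalising the commutative
groups `V`, `W` of order coprime to `|X|`, both Sylows of `X` contain `C_t × C_t`,
(h1) no `x ≠ 1` of `X` has nontrivial fixed points on both `V` and `W`,
(h2) no element of order `r s` of `X` has a nontrivial fixed point on `V` or on `W`.
Lemma (MP): impossible.  All statements are symmetric under `V ↔ W` (`Hyp.swapVW`) and under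
`r ↔ s` (`Hyp.swapRS`), so each piece is stated in ONE orientation only.
Nothing here is proved except the symmetries and trivial remarks.
-/

set_option autoImplicit false

namespace Cfsg.Agent.Lib.H8.S3814MP

open Cfsg.Agent.H7.S3814Defs

universe u

variable {G : Type u} [Group G]

/-- `x` has a nontrivial fixed point on `U` (conjugation action): `C_U(x) ≠ 1`
("`x` is `U`-coloured"). -/
def Col (x : G) (U : Subgroup G) : Prop := ∃ v ∈ U, v ≠ 1 ∧ x * v = v * x

theorem col_iff_not_fpf (x : G) (U : Subgroup G) : Col x U ↔ ¬ Fpf x U := by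
  unfold Col Fpf
  constructor
  · rintro ⟨v, hv, h1, hc⟩ h
    exact h1 (h v hv hc)
  · intro h
    by_contra hne
    apply h
    intro v hv hc
    by_contra h1
    exact hne ⟨v, hv, h1, hc⟩

/-- `a, b` generate a `C_t × C_t`. -/
def IsRank2Pair (t : ℕ) (a b : G) : Prop :=
  orderOf a = t ∧ orderOf b = t ∧ a * b = b * a ∧ b ∉ Subgroup.zpowers a

/-- The hypotheses of lemma (MP). -/
structure Hyp (r s : ℕ) (V W X : Subgroup G) : Prop where
  hr : r.Prime
  hs : s.Prime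
  hrs : r ≠ s
  solv : Group.IsSolvable ↥X
  normV : X ≤ Subgroup.normalizer (V : Set G)
  normW : X ≤ Subgroup.normalizer (W : Set G)
  commV : ∀ a ∈ V, ∀ b ∈ V, a * b = b * a
  commW : ∀ a ∈ W, ∀ b ∈ W, a * b = b * a
  neV : V ≠ ⊥
  neW : W ≠ ⊥
  cardX : ∃ i j : ℕ, Nat.card ↥X = r ^ i * s ^ j
  copV : (Nat.card ↥V).Coprime (Nat.card ↥X)
  copW : (Nat.card ↥W).Coprime (Nat.card ↥X)
  rk_r : ∃ a ∈ X, ∃ b ∈ X, IsRank2Pair r a b
  rk_s : ∃ a ∈ X, ∃ b ∈ X, IsRank2Pair s a b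
  h1 : ∀ x ∈ X, x ≠ 1 → Col x V → Col x W → False
  h2 : ∀ x ∈ X, orderOf x = r * s → ¬ Col x V ∧ ¬ Col x W

theorem Hyp.swapVW {r s : ℕ} {V W X : Subgroup G} (h : Hyp r s V W X) : Hyp r s W V X where
  hr := h.hr
  hs := h.hs
  hrs := h.hrs
  solv := h.solv
  normV := h.normW
  normW := h.normV
  commV := h.commW
  commW := h.commV
  neV := h.neW
  neW := h.neV
  cardX := h.cardX
  copV := h.copW
  copW := h.copV
  rk_r := h.rk_r
  rk_s := h.rk_s
  h1 := fun x hx hx1 hW hV => h.h1 x hx hx1 hV hW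
  h2 := fun x hx ho => ⟨(h.h2 x hx ho).2, (h.h2 x hx ho).1⟩

theorem Hyp.swapRS {r s : ℕ} {V W X : Subgroup G} (h : Hyp r s V W X) : Hyp s r V W X where
  hr := h.hs
  hs := h.hr
  hrs := h.hrs.symm
  solv := h.solv
  normV := h.normV
  normW := h.normW
  commV := h.commV
  commW := h.commW
  neV := h.neV
  neW := h.neW
  cardX := by
    obtain ⟨i, j, hij⟩ := h.cardX
    exact ⟨j, i, by rw [hij, mul_comm]⟩
  copV := h.copV
  copW := h.copW
  rk_r := h.rk_s
  rk_s := h.rk_r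
  h1 := h.h1
  h2 := fun x hx ho => h.h2 x hx (by rw [ho, mul_comm])

/-! ## Pieces.  Common context of every piece:
`∀ {G : Type u} [Group G] [Finite G] {r s : ℕ} {V W X : Subgroup G}, Hyp r s V W X → …` -/

/-- (LINE) coprime generation, relative form: a `C_t × C_t = ⟨a, b⟩ ≤ X` normalising a nontrivial
subgroup `U ≤ V` has a nonidentity element with a nontrivial fixed point on `U`.
[Landed `Cfsg.Agent.S0058.result` with `A := closure {a, b}`, `K := U`.] -/
def LineProp : Prop :=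
  ∀ {G : Type u} [Group G] [Finite G] {r s : ℕ} {V W X : Subgroup G}, Hyp r s V W X →
    ∀ {t : ℕ} {a b : G}, t.Prime → a ∈ X → b ∈ X → IsRank2Pair t a b →
    ∀ U : Subgroup G, U ≤ V → U ≠ ⊥ → (∀ u ∈ U, a * u * a⁻¹ ∈ U) → (∀ u ∈ U, b * u * b⁻¹ ∈ U) →
      ∃ e ∈ Subgroup.closure ({a, b} : Set G), e ≠ 1 ∧ Col e U

/-- PIECE LINE: `LineProp` from the earlier pieces it uses. -/
def LineStmt : Prop := LineProp.{u}

/-- (NCF) a `C_t × C_t ≤ X` has no common nontrivial fixed point on `V`.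
[Else every `e ≠ 1` of it is `V`-coloured; (LINE) for `W` (`swapVW`, `U := W`) gives a
`W`-coloured one; (h1).] -/
def NcfProp : Prop :=
  ∀ {G : Type u} [Group G] [Finite G] {r s : ℕ} {V W X : Subgroup G}, Hyp r s V W X →
    ∀ {t : ℕ} {a b : G}, t.Prime → a ∈ X → b ∈ X → IsRank2Pair t a b →
    ∀ v ∈ V, a * v = v * a → b * v = v * b → v = 1

/-- PIECE NCF: `NcfProp` from the earlier pieces it uses. -/
def NcfStmt : Prop := LineProp.{u} → NcfProp.{u}

/-- (K1) `X` has no elementary abelian subgroup of rank 3.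
[(LINE) on `V` for `(f, g)`… : take a `V`-coloured `e' ≠ 1` in `⟨e,f,g⟩`, a rank-2 pair `(f',g')`
with `e' ∉ ⟨f',g'⟩`, (LINE) with `U := C_V(e')` gives `y ∈ ⟨f',g'⟩`, `y ≠ 1`, with a common fixed
point of `e'` and `y`: against (NCF) for the pair `(e', y)`.] -/
def K1Prop : Prop :=
  ∀ {G : Type u} [Group G] [Finite G] {r s : ℕ} {V W X : Subgroup G}, Hyp r s V W X →
    ∀ {t : ℕ} {e f g : G}, t.Prime → e ∈ X → f ∈ X → g ∈ X →
    orderOf e = t → orderOf f = t → orderOf g = t →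
    e * f = f * e → e * g = g * e → f * g = g * f →
    f ∉ Subgroup.zpowers e → g ∉ Subgroup.closure ({e, f} : Set G) → False

/-- PIECE K1: `K1Prop` from the earlier pieces it uses. -/
def K1Stmt : Prop := LineProp.{u} → NcfProp.{u} → K1Prop.{u}

/-- (K2) a `V`-coloured subgroup `⟨x⟩` of order `r` is normalised by no `C_s × C_s ≤ X`.
[`U := C_V(x)` is `c,d`-invariant; (LINE) gives `y ∈ ⟨c,d⟩`, `y ≠ 1` (order `s`) and `v ≠ 1` fixed by
`x` and `y`; if `y x = x y` then `x y` has order `r s` and fixes `v`: (h2); otherwise `y` is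
fixed-point-free on `⟨x⟩`, `¬ Col y W` by (h1), T1 (`K := zpowers x`, `h := y`, acting on `W`) makes
`x` centralise `W ≠ ⊥`: `Col x W` and `Col x V`, (h1).] -/
def K2Prop : Prop :=
  ∀ {G : Type u} [Group G] [Finite G] {r s : ℕ} {V W X : Subgroup G}, Hyp r s V W X →
    ∀ {x : G}, x ∈ X → orderOf x = r → Col x V →
    ∀ {c d : G}, c ∈ X → d ∈ X → IsRank2Pair s c d →
    c * x * c⁻¹ ∈ Subgroup.zpowers x → d * x * d⁻¹ ∈ Subgroup.zpowers x → False

/-- PIECE K2: `K2Prop` from the earlier pieces it uses. -/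
def K2Stmt : Prop := LineProp.{u} → K2Prop.{u}

/-- Context of (K3): `A = ⟨a,b⟩ = C_r × C_r` normalised by `T = ⟨c,d⟩ = C_s × C_s`, all in `X`. -/
structure K3Ctx (r s : ℕ) (X : Subgroup G) (a b c d : G) : Prop where
  ha : a ∈ X
  hb : b ∈ X
  hc : c ∈ X
  hd : d ∈ X
  pab : IsRank2Pair r a b
  pcd : IsRank2Pair s c d
  nca : c * a * c⁻¹ ∈ Subgroup.closure ({a, b} : Set G)
  ncb : c * b * c⁻¹ ∈ Subgroup.closure ({a, b} : Set G)
  nda : d * a * d⁻¹ ∈ Subgroup.closure ({a, b} : Set G)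
  ndb : d * b * d⁻¹ ∈ Subgroup.closure ({a, b} : Set G)

/-- (K3a) every `y ≠ 1` of `T` centralises some `e ≠ 1` of `A`.
[Else `y` (order `s`) is fixed-point-free on `A`; T1 (`K := A`, `h := y`) on `V`: `C_V(y) = 1` would
make `A` centralise `V`, against (NCF); so `Col y V`; same on `W`; (h1).] -/
def K3aProp : Prop :=
  ∀ {G : Type u} [Group G] [Finite G] {r s : ℕ} {V W X : Subgroup G}, Hyp r s V W X →
    ∀ {a b c d : G}, K3Ctx r s X a b c d →
    ∀ y ∈ Subgroup.closure ({c, d} : Set G), y ≠ 1 →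
      ∃ e ∈ Subgroup.closure ({a, b} : Set G), e ≠ 1 ∧ y * e = e * y

/-- PIECE K3A: `K3aProp` from the earlier pieces it uses. -/
def K3aStmt : Prop := NcfProp.{u} → K3aProp.{u}

/-- (K3b) `T` does not centralise `A`.
[Else take `e ∈ A`, `e ≠ 1`, `Col e V` ((LINE), `U := V`); `U' := C_V(e)` is `T`-invariant; (LINE)
for `(c,d)` on `U'` gives `y ≠ 1` in `T` and `v ≠ 1` fixed by `e` and `y`; `e y` has order `r s`:
(h2).] -/
def K3bProp : Prop :=
  ∀ {G : Type u} [Group G] [Finite G] {r s : ℕ} {V W X : Subgroup G}, Hyp r s V W X →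
    ∀ {a b c d : G}, K3Ctx r s X a b c d →
    ¬ ∀ y ∈ Subgroup.closure ({c, d} : Set G), ∀ e ∈ Subgroup.closure ({a, b} : Set G),
      y * e = e * y

/-- PIECE K3B: `K3bProp` from the earlier pieces it uses. -/
def K3bStmt : Prop := LineProp.{u} → K3bProp.{u}

/-- (K3c) `T` is not faithful on `A`: some `y ≠ 1` of `T` centralises `A`.
[Assume faithful. `y₁ ≠ 1` in `T`: `L₁ := C_A(y₁)` has order `r` by (K3a), is `T`-invariant;
`T` acts on `A / L₁` (order `r`) through a cyclic group, so some `y₂ ≠ 1` of `T` acts trivially on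
`A / L₁`; coprime action: `A = C_A(y₂) L₁`; `y₂` does not centralise `L₁` (faithful), so
`L₂ := C_A(y₂)` has order `r`, `A = L₁ × L₂`, `y₁` is nontrivial on `L₂`; then `y₁ y₂ ≠ 1` is
fixed-point-free on `A`, against (K3a).] -/
def K3cProp : Prop :=
  ∀ {G : Type u} [Group G] [Finite G] {r s : ℕ} {V W X : Subgroup G}, Hyp r s V W X →
    ∀ {a b c d : G}, K3Ctx r s X a b c d →
    (∀ y ∈ Subgroup.closure ({c, d} : Set G), y ≠ 1 →
      ∃ e ∈ Subgroup.closure ({a, b} : Set G), e ≠ 1 ∧ y * e = e * y) →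
    ∃ y ∈ Subgroup.closure ({c, d} : Set G), y ≠ 1 ∧
      ∀ e ∈ Subgroup.closure ({a, b} : Set G), y * e = e * y

/-- PIECE K3C: `K3cProp` from the earlier pieces it uses. -/
def K3cStmt : Prop := K3cProp.{u}

/-- (K3d) the end of (K3): given `y₀ ≠ 1` in `T` centralising `A` and `t₁ ∈ T` not centralising
`A`: contradiction.
[`(t₁, y₀)` is a rank-2 pair generating a subgroup of `T` (so it normalises `A`).  (LINE):
`e ∈ A`, `e ≠ 1`, `Col e V`.  The `s` subgroups `⟨t₁^i e t₁^-i⟩` are pairwise different (else `t₁`,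
hence `(t₁, y₀)`, normalises the coloured `⟨e_i⟩`: (K2) in the `swapRS` orientation…no: (K2) as
stated, `x := e_i`, pair `(t₁, y₀)`).  For `v ≠ 1` in `C_V(e)`: `w := ∏_i t₁^i v t₁^-i` is fixed by
`t₁`, and `w ≠ 1`: the norm `N(u) := ∏_{k<r} e^k u e^-k` is an endomorphism of `V`, `N(v) = v^r`,
`N(t₁^i v t₁^-i) ∈ C_V(e) ∩ C_V(e_i) = 1` for `i ≠ 0` by (NCF), so `N(w) = v^r ≠ 1`.  Hence
`Col t₁ V`; the same with `W`; (h1).] -/
def K3dProp : Prop :=
  ∀ {G : Type u} [Group G] [Finite G] {r s : ℕ} {V W X : Subgroup G}, Hyp r s V W X →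
    ∀ {a b c d : G}, K3Ctx r s X a b c d →
    ∀ y₀ ∈ Subgroup.closure ({c, d} : Set G), y₀ ≠ 1 →
    (∀ e ∈ Subgroup.closure ({a, b} : Set G), y₀ * e = e * y₀) →
    ∀ t₁ ∈ Subgroup.closure ({c, d} : Set G),
    (¬ ∀ e ∈ Subgroup.closure ({a, b} : Set G), t₁ * e = e * t₁) → False

/-- PIECE K3D: `K3dProp` from the earlier pieces it uses. -/
def K3dStmt : Prop := LineProp.{u} → NcfProp.{u} → K2Prop.{u} → K3dProp.{u}

/-- (K3) no `C_r × C_r ≤ X` is normalised by a `C_s × C_s ≤ X`. -/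
def K3Prop : Prop :=
  ∀ {G : Type u} [Group G] [Finite G] {r s : ℕ} {V W X : Subgroup G}, Hyp r s V W X →
    ∀ {a b c d : G}, K3Ctx r s X a b c d → False

/-- PIECE K3: `K3Prop` from the earlier pieces it uses. -/
def K3Stmt : Prop := K3Prop.{u}

/-- (K4) a normal elementary abelian `r`-subgroup `A` of `X` has order at most `r` and its
nonidentity elements are neutral.
[Two independent elements: if `A = ⟨a,b⟩` use (K3) with the pair of `rk_s`, otherwise a third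
independent element and (K1).  Neutral: (K2) and (K2) for `swapVW`.] -/
def K4Prop : Prop :=
  ∀ {G : Type u} [Group G] [Finite G] {r s : ℕ} {V W X : Subgroup G}, Hyp r s V W X →
    ∀ A : Subgroup G, A ≤ X → (∀ x ∈ X, ∀ a ∈ A, x * a * x⁻¹ ∈ A) →
    (∀ a ∈ A, ∀ b ∈ A, a * b = b * a) → (∀ a ∈ A, a ^ r = 1) →
      (∀ a ∈ A, ∀ b ∈ A, a ≠ 1 → b ∈ Subgroup.zpowers a) ∧
      (∀ a ∈ A, a ≠ 1 → ¬ Col a V ∧ ¬ Col a W)

/-- PIECE K4: `K4Prop` from the earlier pieces it uses. -/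
def K4Stmt : Prop := K1Prop.{u} → K2Prop.{u} → K3Prop.{u} → K4Prop.{u}

/-- (Q) if the `r`-subgroup `D ≤ X` has a neutral central element `z` of order `r`, then every
element of order `r` of `D` is central in `D`.
[`x ∉ ⟨z⟩`, `E := ⟨x,z⟩`.  `g ∈ N_D(E)`: `g x g⁻¹ = x z^j`; if `j ≠ 0` the `r` subgroups
`⟨x z^k⟩` are conjugate, so have one colour, but (LINE) on `V` and on `W` gives a `V`-coloured and a
`W`-coloured one among them (`⟨z⟩` is neutral): (h1).  So `N_D(E) = C_D(E) =: C`.  If `C < D`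
take `g ∈ N_D(C) \ C` (normaliser condition): `z, x, g x g⁻¹` is a rank-3 triple: (K1).] -/
def QProp : Prop :=
  ∀ {G : Type u} [Group G] [Finite G] {r s : ℕ} {V W X : Subgroup G}, Hyp r s V W X →
    ∀ D : Subgroup G, D ≤ X → IsPGroup r ↥D →
    ∀ z ∈ D, orderOf z = r → (∀ d ∈ D, d * z = z * d) → ¬ Col z V → ¬ Col z W →
    ∀ x ∈ D, orderOf x = r → ∀ d ∈ D, d * x = x * d

/-- PIECE Q: `QProp` from the earlier pieces it uses. -/
def QStmt : Prop := LineProp.{u} → K1Prop.{u} → QProp.{u}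

/-- (UNIQ) a normal `r`-subgroup `D` of `X` has at most one subgroup of order `r`, and it is
neutral.  [`A := {z ∈ Z(D) | z^r = 1}` is normal in `X`; (K4); `D ≠ 1` gives `z`; (Q).] -/
def UniqProp : Prop :=
  ∀ {G : Type u} [Group G] [Finite G] {r s : ℕ} {V W X : Subgroup G}, Hyp r s V W X →
    ∀ D : Subgroup G, D ≤ X → (∀ x ∈ X, ∀ d ∈ D, x * d * x⁻¹ ∈ D) → IsPGroup r ↥D →
    ∀ x ∈ D, orderOf x = r →
      (∀ y ∈ D, orderOf y = r → y ∈ Subgroup.zpowers x) ∧ ¬ Col x V ∧ ¬ Col x W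

/-- PIECE UNIQ: `UniqProp` from the earlier pieces it uses. -/
def UniqStmt : Prop := K4Prop.{u} → QProp.{u} → UniqProp.{u}

/-- (CENT) if `⟨b⟩` is a normal subgroup of order `s` of `X` with `b` neutral, every element of
order `r` of `X` centralises `b`.
[Else `x` is fixed-point-free on `⟨b⟩`; T1 (`K := zpowers b`, `h := x`) on `V`: `C_V(x) = 1` would
make `b` centralise `V ≠ ⊥`, but `b` is neutral; so `Col x V`; same for `W`; (h1).] -/
def CentProp : Prop :=
  ∀ {G : Type u} [Group G] [Finite G] {r s : ℕ} {V W X : Subgroup G}, Hyp r s V W X →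
    ∀ b ∈ X, orderOf b = s → (∀ x ∈ X, x * b * x⁻¹ ∈ Subgroup.zpowers b) →
    ¬ Col b V → ¬ Col b W → ∀ x ∈ X, orderOf x = r → x * b = b * x

/-- PIECE CENT: `CentProp` from the earlier pieces it uses. -/
def CentStmt : Prop := CentProp.{u}

/-- `R₀ = O_r(X) ≠ 1`, `S₀ = O_s(X)` cyclic, `C_X(R₀ S₀) ≤ R₀ S₀`: the labelled Fitting data of the
endgame. -/
structure Good (r s : ℕ) (X R₀ S₀ : Subgroup G) : Prop where
  hR : R₀ ≤ X
  hS : S₀ ≤ X
  nR : ∀ x ∈ X, ∀ y ∈ R₀, x * y * x⁻¹ ∈ R₀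
  nS : ∀ x ∈ X, ∀ y ∈ S₀, x * y * x⁻¹ ∈ S₀
  pR : IsPGroup r ↥R₀
  pS : IsPGroup s ↥S₀
  neR : R₀ ≠ ⊥
  cycS : IsCyclic ↥S₀
  selfc : ∀ x ∈ X, (∀ y ∈ R₀, x * y = y * x) → (∀ y ∈ S₀, x * y = y * x) → x ∈ R₀ ⊔ S₀

/-- (FIT) the labelling: in one of the two orientations `O_r(X) ≠ 1` and `O_s(X)` is cyclic.
[`R := O_r(X)`, `S := O_s(X)` (largest normal `r`- resp. `s`-subgroups of `X`), `F(X) = R × S ≠ 1` because
`X ≠ 1` is a solvable `{r,s}`-group, `C_X(F(X)) ≤ F(X)` (landed: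
`centralizer_fittingSubgroup_le_of_isSolvable`, Lib/H7/DihedralLemma2).  By (UNIQ) in both
orientations `R`, `S` have at most one subgroup of prime order, so `O_t(X)` is cyclic whenever `t` is
odd (landed: Lib/H22/UniqueOrderP `isCyclic_of_atMostOne_of_odd`).  Choose the orientation `(r', s')`
with `O_{r'}(X) ≠ 1` and (`s'` odd or `O_{s'}(X) = 1`): if `r, s` are both odd take any `r'` with
`O_{r'}(X) ≠ 1`; if `s = 2`: `(2, r)` when `O_2(X) ≠ 1`, else `(r, 2)`; if `r = 2` symmetric.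
NO cyclic-or-quaternion classification is needed.] -/
def FitProp : Prop :=
  ∀ {G : Type u} [Group G] [Finite G] {r s : ℕ} {V W X : Subgroup G}, Hyp r s V W X →
    (∃ R₀ S₀ : Subgroup G, Good r s X R₀ S₀) ∨ (∃ R₀ S₀ : Subgroup G, Good s r X R₀ S₀)

/-- (ENDCORE) the endgame for labelled Fitting data.
[Every `x ∈ X` of order `r` centralises `S₀`: trivial if `S₀ = 1`; else `b` of order `s` in the
cyclic `S₀` generates its unique subgroup of order `s`, which is normal in `X`; `b` is neutral by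
(UNIQ) for `swapRS`; (CENT): `x b = b x`; a coprime automorphism of a cyclic `s`-group that is
trivial on the subgroup of order `s` is trivial.  Let `(a, b')` be the rank-2 pair of `rk_r`, `R` a
Sylow `r`-subgroup of `X` containing `⟨a, b'⟩`; `R₀ ≤ R`; `z ∈ R₀` of order `r`: `⟨z⟩` is the only
subgroup of order `r` of `R₀` (UNIQ), so it is normal in `X` and `z ∈ Z(R)`; `z` neutral (UNIQ);
(Q) with `D := R`: `a, b'` centralise `R₀`.  So `a, b' ∈ C_X(R₀ S₀) ≤ R₀ S₀`, hence `a, b' ∈ R₀`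
(`r`-elements of `R₀ × S₀`), against (UNIQ).] -/
def EndCoreProp : Prop :=
  ∀ {G : Type u} [Group G] [Finite G] {r s : ℕ} {V W X : Subgroup G}, Hyp r s V W X →
    ∀ R₀ S₀ : Subgroup G, Good r s X R₀ S₀ → False

/-- PIECE FIT. -/
def FitStmt : Prop := UniqProp.{u} → FitProp.{u}

/-- PIECE ENDCORE. -/
def EndCoreStmt : Prop := UniqProp.{u} → QProp.{u} → CentProp.{u} → EndCoreProp.{u}

/-- Lemma (MP). -/
def MPStmt : Prop :=
  ∀ {G : Type u} [Group G] [Finite G] {r s : ℕ} {V W X : Subgroup G}, Hyp r s V W X → False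

/-- (F2) in the form the bridge uses: a counterexample contains `C_t × C_t` for every `t ∈ σ`. -/
def F2Stmt : Prop :=
  ∀ (G : Type u) [Group G] (σ : Finset ℕ), IsCex G σ → ∀ t ∈ σ, Rank2 (⊤ : Subgroup G) t

/-- (BRIDGE) shape (II) of helper7's cut from (MP).
[`σ = {p, q, r, s}`; `Hyp r s V W X`: `X` solvable (subgroup), normalises the normal `V`, `W`;
`card X = r^i s^j` by `sgrp` + `coprimeP/Q`; `card V` is a power of `p`; `rk_r`: the `C_r × C_r` of
(F2) is an `r`-subgroup of `G`, `X` contains a Sylow `r`-subgroup of `G` (index `card (V ⊔ W)`),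
Sylow conjugacy; (h1): a power `x'` of prime order `t` of `x` and fixed `v ∈ V`, `w ∈ W` give the
element `x' v w` of order `t p q`; (h2): `x v` has order `r s p`.] -/
def BridgeStmt : Prop := MPStmt.{u} → F2Stmt.{u} → ShapeIIStmt.{u}

/-- Assembly of (K3). -/
theorem k3_of (ha : K3aProp.{u}) (hb : K3bProp.{u}) (hc : K3cProp.{u}) (hd : K3dProp.{u}) :
    K3Prop.{u} := by
  intro G _ _ r s V W X h a b c d ctx
  obtain ⟨y₀, hy₀, hy₀1, hy₀c⟩ := hc h ctx (ha h ctx)
  have hnc := hb h ctx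
  rw [not_forall] at hnc
  obtain ⟨t₁, ht₁⟩ := hnc
  rw [Classical.not_imp] at ht₁
  exact hd h ctx y₀ hy₀ hy₀1 hy₀c t₁ ht₁.1 ht₁.2

/-- Assembly of (MP) from all pieces. -/
theorem mp_of (hL : LineStmt.{u}) (hN : NcfStmt.{u}) (hK1 : K1Stmt.{u}) (hK2 : K2Stmt.{u})
    (h3a : K3aStmt.{u}) (h3b : K3bStmt.{u}) (h3c : K3cStmt.{u}) (h3d : K3dStmt.{u})
    (hK4 : K4Stmt.{u}) (hQ : QStmt.{u}) (hU : UniqStmt.{u}) (hC : CentStmt.{u})
    (hF : FitStmt.{u}) (hE : EndCoreStmt.{u}) : MPStmt.{u} := by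
  have l : LineProp.{u} := hL
  have n : NcfProp.{u} := hN l
  have k1 : K1Prop.{u} := hK1 l n
  have k2 : K2Prop.{u} := hK2 l
  have k3 : K3Prop.{u} := k3_of (h3a n) (h3b l) h3c (h3d l n k2)
  have k4 : K4Prop.{u} := hK4 k1 k2 k3
  have q : QProp.{u} := hQ l k1
  have uq : UniqProp.{u} := hU k4 q
  have c : CentProp.{u} := hC
  intro G _ _ r s V W X h
  rcases hF uq h with ⟨R₀, S₀, hg⟩ | ⟨R₀, S₀, hg⟩
  · exact hE uq q c h R₀ S₀ hg
  · exact hE uq q c h.swapRS R₀ S₀ hg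

end Cfsg.Agent.Lib.H8.S3814MP
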