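import Cfsg.Agent.S0215
import Cfsg.Agent.Lib.H22.PPrimeCore

/-!
# S3017 piece ZST = (α) (helper8): an involution `a` with `a · gag⁻¹` of odd order for all `g`
is central when `O(G) = 1` (Glauberman's `Z*`-theorem, landed S0215).
-/

set_option autoImplicit false

namespace Cfsg.Agent.Lib.H8.SH

open Cfsg

variable {G : Type*} [Group G] [Finite G]

/-- the `Z*` step: commutators with `a` lie in `O(G)`. -/
theorem zst_commutator_mem (a : G) (ha : orderOf a = 2)
    (hodd : ∀ g : G, Odd (orderOf (a * (g * a * g⁻¹)))) (g : G) :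
    a * g * a⁻¹ * g⁻¹ ∈ Cfsg.oddCore G := by
  haveI : Fact (Nat.Prime 2) := ⟨Nat.prime_two⟩
  have hpa : IsPGroup 2 (Subgroup.zpowers a) :=
    IsPGroup.of_card (n := 1) (by rw [Nat.card_zpowers, ha, pow_one])
  obtain ⟨P, hP⟩ := hpa.exists_le_sylow
  have haP : a ∈ P := hP (Subgroup.mem_zpowers a)
  have ha2 : a * a = 1 := by rw [← sq, ← ha]; exact pow_orderOf_eq_one a
  have hiso : ∀ g : G, g * a * g⁻¹ ∈ P → g * a * g⁻¹ = a := by
    intro g hg
    have hmem : a * (g * a * g⁻¹) ∈ (P : Subgroup G) := mul_mem haP hg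
    obtain ⟨k, hk⟩ := P.isPGroup' ⟨_, hmem⟩
    have h1 : (a * (g * a * g⁻¹)) ^ (2 ^ k) = 1 := by
      have := congrArg Subtype.val hk
      simpa using this
    have h2 : orderOf (a * (g * a * g⁻¹)) ∣ 2 ^ k := orderOf_dvd_of_pow_eq_one h1
    have hcop : Nat.Coprime (orderOf (a * (g * a * g⁻¹))) (2 ^ k) :=
      Nat.Coprime.pow_right k (Nat.coprime_two_right.mpr (hodd g))
    have h3 : orderOf (a * (g * a * g⁻¹)) = 1 := Nat.Coprime.eq_one_of_dvd hcop h2
    have h4 : a * (g * a * g⁻¹) = 1 := orderOf_eq_one_iff.1 h3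
    calc g * a * g⁻¹ = a * a * (g * a * g⁻¹) := by rw [ha2, one_mul]
      _ = a * (a * (g * a * g⁻¹)) := by group
      _ = a := by rw [h4, mul_one]
  obtain ⟨N, hNn, hNodd, hN⟩ := Cfsg.Agent.S0215.result P a ha haP hiso
  exact Cfsg.Agent.Lib.H22.le_pPrimeCore 2 N hNn (Nat.coprime_two_right.mpr hNodd) (hN g)

/-- **ZST = (α)**: with `O(G) = 1` the involution `a` is central. -/
theorem zst_core (hO : Cfsg.oddCore G = ⊥) (a : G) (ha : orderOf a = 2)
    (hodd : ∀ g : G, Odd (orderOf (a * (g * a * g⁻¹)))) : a ∈ Subgroup.center G := by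
  rw [Subgroup.mem_center_iff]
  intro g
  have h := zst_commutator_mem a ha hodd g
  rw [hO, Subgroup.mem_bot] at h
  calc g * a = (a * g * a⁻¹ * g⁻¹)⁻¹ * (a * g) := by group
    _ = a * g := by rw [h, inv_one, one_mul]

end Cfsg.Agent.Lib.H8.SH
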