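import Mathlib

/-!
# S3016 piece ENDB-ARITH at odd `p` (helper8): the arithmetic endgame of CASE B (pure)

`q = |H| ≥ 5`, `3 ≤ p ≤ q`; for `χ ∈ B₀`: `d = χ(a)` (integer, constant on `H#`), `f = χ(1)`,
`R = (q-1) d²/f - (q-2) d` (class sum), `p R ≥ 4 (f + (p-1) d) - 3 p f` (eigenvalue bound at odd `p`:
`Re χ(xy) ≥ 4m - 3f` with `m = (f + (p-1) d)/p` the multiplicity of the eigenvalue `1`),
`∑ d R = 0`, `q ∣ f - d` (multiplicity of a nontrivial character of `H`).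
-/

set_option autoImplicit false

namespace Cfsg.Agent.Lib.H8.SHp

/-- from the odd-`p` eigenvalue bound and the class-sum identity:
`(p (q-1) d - (3p-4) f)(d - f) ≥ 0`, hence `p (q-1) d ≤ (3p-4) f` when `d < f`. -/
theorem le_of_eigen_odd (p q d f R : ℝ) (hf : 0 < f)
    (hcs : (q - 1) * d ^ 2 = f * ((q - 2) * d + R))
    (heig : 4 * (f + (p - 1) * d) - 3 * p * f ≤ p * R) (hdf : d < f) :
    p * (q - 1) * d ≤ (3 * p - 4) * f := by
  have h1 : 0 ≤ (p * (q - 1) * d - (3 * p - 4) * f) * (d - f) := by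
    have h2 : f * (4 * (f + (p - 1) * d) - 3 * p * f) ≤ f * (p * R) :=
      mul_le_mul_of_nonneg_left heig hf.le
    have h3 : f * (p * R) = p * ((q - 1) * d ^ 2) - p * (f * ((q - 2) * d)) := by
      rw [hcs]; ring
    nlinarith
  by_contra hcon
  push Not at hcon
  have h3 : (p * (q - 1) * d - (3 * p - 4) * f) * (d - f) < 0 :=
    mul_neg_of_pos_of_neg (by linarith) (by linarith)
  linarith

/-- the integer inequality behind ENDB at odd `p` -/
theorem endb_key_odd (p q d f : ℤ) (hp : 3 ≤ p) (hpq : p ≤ q) (hq : 5 ≤ q) (hf : 0 < f)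
    (hle : p * (q - 1) * d ≤ (3 * p - 4) * f)
    (hcong : q ∣ f - d) (hd : d ≠ 0) : f < d ^ 2 * ((q - 2) * f - (q - 1) * d) := by
  rcases lt_or_gt_of_ne hd with hneg | hpos
  · have hd2 : 1 ≤ d ^ 2 := by nlinarith
    have h1 : 3 * f ≤ (q - 2) * f := by nlinarith
    have h2 : 4 ≤ -((q - 1) * d) := by nlinarith
    have hX : f < (q - 2) * f - (q - 1) * d := by linarith
    have hX0 : 0 ≤ (q - 2) * f - (q - 1) * d := by linarith
    calc f < (q - 2) * f - (q - 1) * d := hX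
      _ ≤ d ^ 2 * ((q - 2) * f - (q - 1) * d) := le_mul_of_one_le_left hX0 hd2
  · have hd1 : 1 ≤ d := hpos
    have hd2 : 1 ≤ d ^ 2 := by nlinarith
    -- `p X ≥ (p (q-5) + 4) f`
    have hpX : (p * (q - 5) + 4) * f ≤ p * ((q - 2) * f - (q - 1) * d) := by nlinarith
    rcases hq.lt_or_eq with hq6 | hq5
    · have hq6' : 6 ≤ q := hq6
      have h1 : (p + 4) * f ≤ (p * (q - 5) + 4) * f := by
        have : p + 4 ≤ p * (q - 5) + 4 := by nlinarith
        exact mul_le_mul_of_nonneg_right this hf.le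
      have hX : f < (q - 2) * f - (q - 1) * d := by
        by_contra hcon
        push Not at hcon
        have : p * ((q - 2) * f - (q - 1) * d) ≤ p * f :=
          mul_le_mul_of_nonneg_left hcon (by linarith)
        nlinarith
      have hX0 : 0 ≤ (q - 2) * f - (q - 1) * d := by linarith
      calc f < (q - 2) * f - (q - 1) * d := hX
        _ ≤ d ^ 2 * ((q - 2) * f - (q - 1) * d) := le_mul_of_one_le_left hX0 hd2
    · subst hq5
      have hp5 : p ≤ 5 := hpq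
      have hpX' : 4 * f ≤ p * (3 * f - 4 * d) := by nlinarith
      have hX0 : 0 < 3 * f - 4 * d := by
        by_contra hcon
        push Not at hcon
        have : p * (3 * f - 4 * d) ≤ 0 := mul_nonpos_of_nonneg_of_nonpos (by linarith) hcon
        linarith
      rcases hd1.lt_or_eq with hd2' | hd1'
      · have hd4 : 4 ≤ d ^ 2 := by nlinarith
        have h3 : 4 * (3 * f - 4 * d) ≤ d ^ 2 * (3 * f - 4 * d) :=
          mul_le_mul_of_nonneg_right hd4 hX0.le
        have h4 : p * (3 * f - 4 * d) ≤ 5 * (3 * f - 4 * d) :=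
          mul_le_mul_of_nonneg_right hp5 hX0.le
        have h5 : ((5 : ℤ) - 2) * f - (5 - 1) * d = 3 * f - 4 * d := by ring
        rw [h5]
        linarith
      · subst hd1'
        have hf6 : 6 ≤ f := by
          have hf2 : 2 ≤ f := by
            by_contra hcon
            push Not at hcon
            have hf1 : f = 1 := by omega
            subst hf1
            nlinarith
          omega
        nlinarith

/-- the summation endgame: every nonzero term `> 1`, the trivial term `-1`, total `0`. -/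
theorem endb_sum {ι : Type*} (s : Finset ι) (i₀ : ι) (hi₀ : i₀ ∈ s) (q : ℕ)
    (d f : ι → ℤ) (hf : ∀ i ∈ s, 0 < f i) (hd0 : d i₀ = 1) (hf0 : f i₀ = 1)
    (hkey : ∀ i ∈ s, i ≠ i₀ → d i ≠ 0 →
      f i < d i ^ 2 * (((q : ℤ) - 2) * f i - ((q : ℤ) - 1) * d i))
    (hsum : ∑ i ∈ s, (d i : ℚ) * (((q : ℚ) - 1) * (d i : ℚ) ^ 2 / (f i : ℚ) - ((q : ℚ) - 2) * (d i : ℚ)) = 0) :
    False := by
  classical
  set u : ι → ℚ := fun i =>
    (d i : ℚ) ^ 2 * (((q : ℚ) - 2) * (f i : ℚ) - ((q : ℚ) - 1) * (d i : ℚ)) / (f i : ℚ) with hu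
  have ht : ∀ i ∈ s, (d i : ℚ) * (((q : ℚ) - 1) * (d i : ℚ) ^ 2 / (f i : ℚ) -
      ((q : ℚ) - 2) * (d i : ℚ)) = -u i := by
    intro i hi
    have hfi : (f i : ℚ) ≠ 0 := by
      have := hf i hi
      exact_mod_cast this.ne'
    simp only [hu]
    field_simp
    ring
  have h0 : u i₀ = -1 := by
    simp only [hu, hd0, hf0]
    push_cast
    ring
  have hu_cases : ∀ i ∈ s.erase i₀, u i = 0 ∨ 1 < u i := by
    intro i hi
    obtain ⟨hne, his⟩ := Finset.mem_erase.1 hi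
    by_cases hd : d i = 0
    · left
      simp only [hu, hd]
      push_cast
      ring
    · right
      have hk := hkey i his hne hd
      have hfi : (0 : ℚ) < (f i : ℚ) := by
        have := hf i his
        exact_mod_cast this
      simp only [hu]
      rw [lt_div_iff₀ hfi, one_mul]
      have : ((f i : ℤ) : ℚ) < ((d i ^ 2 * (((q : ℤ) - 2) * f i - ((q : ℤ) - 1) * d i) : ℤ) : ℚ) := by
        exact_mod_cast hk
      push_cast at this
      exact this
  have hsum' : ∑ i ∈ s.erase i₀, u i = 1 := by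
    have h1 : ∑ i ∈ s, -u i = 0 := by
      rw [← hsum]
      exact Finset.sum_congr rfl (fun i hi => (ht i hi).symm)
    rw [Finset.sum_neg_distrib, neg_eq_zero, ← Finset.add_sum_erase s u hi₀, h0] at h1
    linarith
  have hnn : ∀ i ∈ s.erase i₀, 0 ≤ u i := by
    intro i hi
    rcases hu_cases i hi with h | h
    · rw [h]
    · linarith
  by_cases hall : ∀ i ∈ s.erase i₀, u i = 0
  · rw [Finset.sum_eq_zero hall] at hsum'
    exact zero_ne_one hsum'
  · push Not at hall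
    obtain ⟨i₁, hi₁, hne⟩ := hall
    have h1 : 1 < u i₁ := by
      rcases hu_cases i₁ hi₁ with h | h
      · exact absurd h hne
      · exact h
    have h2 : u i₁ ≤ ∑ i ∈ s.erase i₀, u i := Finset.single_le_sum hnn hi₁
    rw [hsum'] at h2
    linarith

/-- **ENDB-ARITH at odd `p`** (integer form): the CASE B endgame for `q ≥ 5`. -/
theorem endb_arith_odd {ι : Type*} (s : Finset ι) (i₀ : ι) (hi₀ : i₀ ∈ s) (p q : ℕ)
    (hp : 3 ≤ p) (hpq : p ≤ q) (hq : 5 ≤ q)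
    (d f : ι → ℤ) (hf : ∀ i ∈ s, 0 < f i) (hd0 : d i₀ = 1) (hf0 : f i₀ = 1)
    (hle : ∀ i ∈ s, i ≠ i₀ → (p : ℤ) * ((q : ℤ) - 1) * d i ≤ (3 * (p : ℤ) - 4) * f i)
    (hcong : ∀ i ∈ s, i ≠ i₀ → (q : ℤ) ∣ f i - d i)
    (hsum : ∑ i ∈ s, (d i : ℚ) * (((q : ℚ) - 1) * (d i : ℚ) ^ 2 / (f i : ℚ) - ((q : ℚ) - 2) * (d i : ℚ)) = 0) :
    False := by
  refine endb_sum s i₀ hi₀ q d f hf hd0 hf0 ?_ hsum
  intro i hi hne hd
  exact endb_key_odd (p : ℤ) (q : ℤ) (d i) (f i) (by exact_mod_cast hp) (by exact_mod_cast hpq)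
    (by exact_mod_cast hq) (hf i hi) (hle i hi hne) (hcong i hi hne) hd

/-- **ENDB at odd `p`** with the class-sum and eigenvalue inputs (`R` explicit, real form). -/
theorem endb_core_odd {ι : Type*} (s : Finset ι) (i₀ : ι) (hi₀ : i₀ ∈ s) (p q : ℕ)
    (hp : 3 ≤ p) (hpq : p ≤ q) (hq : 5 ≤ q)
    (d f : ι → ℤ) (R : ι → ℝ) (hf : ∀ i ∈ s, 0 < f i) (hd0 : d i₀ = 1) (hf0 : f i₀ = 1)
    (hdf : ∀ i ∈ s, i ≠ i₀ → d i < f i)
    (hcs : ∀ i ∈ s, ((q : ℝ) - 1) * (d i : ℝ) ^ 2 = (f i : ℝ) * (((q : ℝ) - 2) * (d i : ℝ) + R i))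
    (heig : ∀ i ∈ s, 4 * ((f i : ℝ) + ((p : ℝ) - 1) * (d i : ℝ)) - 3 * (p : ℝ) * (f i : ℝ) ≤
      (p : ℝ) * R i)
    (hcong : ∀ i ∈ s, i ≠ i₀ → (q : ℤ) ∣ f i - d i)
    (hsum : ∑ i ∈ s, (d i : ℝ) * R i = 0) : False := by
  refine endb_arith_odd s i₀ hi₀ p q hp hpq hq d f hf hd0 hf0 ?_ hcong ?_
  · intro i hi hne
    have hfi : (0 : ℝ) < (f i : ℝ) := by
      have := hf i hi
      exact_mod_cast this
    have hdfi : (d i : ℝ) < (f i : ℝ) := by
      have := hdf i hi hne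
      exact_mod_cast this
    have h1 := le_of_eigen_odd (p : ℝ) (q : ℝ) (d i : ℝ) (f i : ℝ) (R i) hfi (hcs i hi)
      (heig i hi) hdfi
    have h2 : (((p : ℤ) * ((q : ℤ) - 1) * d i : ℤ) : ℝ) ≤ (((3 * (p : ℤ) - 4) * f i : ℤ) : ℝ) := by
      push_cast
      exact h1
    exact_mod_cast h2
  · have hR : ∀ i ∈ s, R i = ((q : ℝ) - 1) * (d i : ℝ) ^ 2 / (f i : ℝ) - ((q : ℝ) - 2) * (d i : ℝ) := by
      intro i hi
      have hfi : (f i : ℝ) ≠ 0 := by
        have := hf i hi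
        exact_mod_cast this.ne'
      have h := hcs i hi
      field_simp
      linarith
    have h1 : ∑ i ∈ s, (d i : ℝ) * (((q : ℝ) - 1) * (d i : ℝ) ^ 2 / (f i : ℝ) -
        ((q : ℝ) - 2) * (d i : ℝ)) = 0 := by
      rw [← hsum]
      exact Finset.sum_congr rfl (fun i hi => by rw [hR i hi])
    have h2 : ((∑ i ∈ s, (d i : ℚ) * (((q : ℚ) - 1) * (d i : ℚ) ^ 2 / (f i : ℚ) -
        ((q : ℚ) - 2) * (d i : ℚ)) : ℚ) : ℝ) = ((0 : ℚ) : ℝ) := by
      push_cast
      exact h1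
    exact_mod_cast h2

end Cfsg.Agent.Lib.H8.SHp
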