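/-
Aschbacher projects: GENERIC "Clifford with a form" (final statement).
`H` irreducible, contained in the isometry group of a non-degenerate reflexive `σ`-sesquilinear form `f`
on `F^n`, normalising `N ≤ H`.  Then `N` is homogeneous (`HomogData N`), or `H` stabilises a
non-degenerate orthogonal decomposition (and permutes its members transitively), or `H` stabilises a
pair of complementary totally singular subspaces.  (helper8; the step isotypic ⇒ HomogData is helper22's
M2-E)
-/
import Cfsg.Agent.Lib.H8.AschGM2d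
import Cfsg.Agent.Lib.H22.AschM2E

set_option autoImplicit false
set_option linter.unusedSectionVars false

namespace Cfsg.Agent.Lib.H8.Asch

open Cfsg Cfsg.Geo Cfsg.Agent.Lib.Lead.Asch
open scoped MatrixGroups Matrix Kronecker

variable {F : Type*} [Field F] {n : ℕ}

variable (N : Subgroup (GL (Fin n) F)) {H : Subgroup (GL (Fin n) F)} (hnorm : NormalizedBy H N)

/-- The isotypic components as `F`-subspaces. -/
def compsF : Set (Submodule F (Fin n → F)) :=
  Submodule.restrictScalars F '' isotypicComponents (nAlg N) (Fin n → F)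

theorem compsF_finite : (compsF N).Finite :=
  Set.Finite.image _ (Set.toFinite _)

theorem sSup_compsF [IsSemisimpleModule (nAlg N) (Fin n → F)] : sSup (compsF N) = ⊤ := by
  rw [compsF, ← Submodule.restrictScalars_sSup, sSup_isotypicComponents,
    Submodule.restrictScalars_top]

theorem sSupIndep_compsF : sSupIndep (compsF N) := by
  rintro _ ⟨c, hc, rfl⟩
  have h1 := sSupIndep_isotypicComponents (nAlg N) (Fin n → F) hc
  have h2 : compsF N \ {c.restrictScalars F} =
      Submodule.restrictScalars F '' (isotypicComponents (nAlg N) (Fin n → F) \ {c}) := by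
    rw [compsF, Set.image_sdiff (Submodule.restrictScalars_injective F _ _), Set.image_singleton]
  rw [h2, ← Submodule.restrictScalars_sSup, disjoint_iff, ← Submodule.restrictScalars_inf,
    disjoint_iff.mp h1, Submodule.restrictScalars_bot]

theorem compsF_ne_bot {c : Submodule F (Fin n → F)} (hc : c ∈ compsF N) : c ≠ ⊥ := by
  obtain ⟨c, hc, rfl⟩ := hc
  rw [Ne, Submodule.restrictScalars_eq_bot_iff]
  exact (bot_lt_isotypicComponents hc).ne'

/-- The orbit of an isotypic component under an irreducible group is the set of all components. -/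
theorem orbitH_eq [IsSemisimpleModule (nAlg N) (Fin n → F)]
    (hirr : ActsIrreducibly (matrixSet H))
    {c : Submodule (nAlg N) (Fin n → F)} (hc : c ∈ isotypicComponents (nAlg N) (Fin n → F)) :
    orbitH N hnorm c = isotypicComponents (nAlg N) (Fin n → F) := by
  apply Set.Subset.antisymm (orbitH_subset N hnorm hc)
  intro c₁ hc₁
  by_contra hno
  have htop := sSup_orbitH_eq_top N hnorm hirr (bot_lt_isotypicComponents hc).ne'
  have hsub : orbitH N hnorm c ⊆ isotypicComponents (nAlg N) (Fin n → F) \ {c₁} := by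
    intro x hx
    refine ⟨orbitH_subset N hnorm hc hx, ?_⟩
    rintro rfl
    exact hno hx
  have h1 := sSupIndep_isotypicComponents (nAlg N) (Fin n → F) hc₁
  have h2 : (⊤ : Submodule (nAlg N) (Fin n → F)) ≤
      sSup (isotypicComponents (nAlg N) (Fin n → F) \ {c₁}) := by
    rw [← htop]
    exact sSup_le_sSup hsub
  rw [top_le_iff] at h2
  rw [h2, disjoint_top] at h1
  exact (bot_lt_isotypicComponents hc₁).ne' h1

include hnorm in
theorem map_mem_compsF [IsSemisimpleModule (nAlg N) (Fin n → F)] {g : GL (Fin n) F} (hg : g ∈ H)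
    {c : Submodule F (Fin n → F)} (hc : c ∈ compsF N) : gmap g c ∈ compsF N := by
  obtain ⟨c, hc, rfl⟩ := hc
  refine ⟨conjH N hnorm ⟨g, hg⟩ c, conjH_mem_isotypicComponents N hnorm _ hc, ?_⟩
  exact restrictScalars_conjH N hnorm ⟨g, hg⟩ c

include hnorm in
theorem exists_map_eq_compsF [IsSemisimpleModule (nAlg N) (Fin n → F)]
    (hirr : ActsIrreducibly (matrixSet H))
    {c c' : Submodule F (Fin n → F)} (hc : c ∈ compsF N) (hc' : c' ∈ compsF N) :
    ∃ g ∈ H, gmap g c = c' := by
  obtain ⟨c, hc, rfl⟩ := hc
  obtain ⟨c', hc', rfl⟩ := hc'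
  have h1 : c' ∈ orbitH N hnorm c := by rw [orbitH_eq N hnorm hirr hc]; exact hc'
  obtain ⟨g, hg⟩ := h1
  refine ⟨g, g.2, ?_⟩
  rw [← hg]
  exact (restrictScalars_conjH N hnorm g c).symm

/-- The isotypic components of `N` form a system of components for `H`. -/
theorem compSys_compsF {σ : F ≃+* F} {f : (Fin n → F) → (Fin n → F) → F} (hf : IsReflSesq σ f)
    [IsSemisimpleModule (nAlg N) (Fin n → F)] (hH : H ≤ isomGroup f)
    (hirr : ActsIrreducibly (matrixSet H)) (hNH : N ≤ H) (hnorm : NormalizedBy H N) :
    CompSys hf H (compsF N) where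
  isom := hH
  fin := compsF_finite N
  indep := sSupIndep_compsF N
  top := sSup_compsF N
  ne := fun c hc => compsF_ne_bot N hc
  perp := by
    rintro _ ⟨c, hc, rfl⟩
    obtain ⟨s, hs, hs2⟩ := gperpSub_eq_sSup hf N (hNH.trans hH) hc
    refine ⟨Submodule.restrictScalars F '' s, Set.image_mono hs, ?_⟩
    rw [← Submodule.restrictScalars_sSup, ← hs2, restrictScalars_gperpSub]
  map := fun g hg c hc => map_mem_compsF N hnorm hg hc
  trans := fun c hc c' hc' => exists_map_eq_compsF N hnorm hirr hc hc'

/-- **Generic Clifford with a form.** -/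
theorem exists_homogData_or_decomposition {σ : F ≃+* F} {f : (Fin n → F) → (Fin n → F) → F}
    (hf : IsReflSesq σ f) (hn : 0 < n) (H N : Subgroup (GL (Fin n) F)) (hH : H ≤ isomGroup f)
    (hirr : ActsIrreducibly (matrixSet H)) (hNH : N ≤ H) (hnorm : NormalizedBy H N) :
    Nonempty (HomogData N) ∨
    (∃ (t k : ℕ) (D : Fin t → Submodule F (Fin n → F)), IsNondegenerateMDecomposition f k D ∧
      H ≤ decompositionStabilizer D ∧ ∀ i j, ∃ g ∈ H, gmap g (D i) = D j) ∨
    (∃ (k : ℕ) (D : Fin 2 → Submodule F (Fin n → F)), 2 * k = n ∧ IsMDecomposition k D ∧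
      (∀ i, IsTotallySingularFor f (D i)) ∧ H ≤ decompositionStabilizer D) := by
  haveI := isSemisimpleModule_of_irreducible N hn hirr hnorm
  by_cases h2 : (isotypicComponents (nAlg N) (Fin n → F)).Nontrivial
  · right
    exact (compSys_compsF N hf hH hirr hNH hnorm).decomposition
      (h2.image (Submodule.restrictScalars_injective F _ _))
  · left
    haveI : Nontrivial (Fin n → F) := by
      haveI : Nonempty (Fin n) := ⟨⟨0, hn⟩⟩
      infer_instance
    obtain ⟨S, hS⟩ := IsAtomic.exists_atom (Submodule (nAlg N) (Fin n → F))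
    haveI : IsSimpleModule (nAlg N) S := isSimpleModule_iff_isAtom.mpr hS
    have hmem : isotypicComponent (nAlg N) (Fin n → F) S ∈
        isotypicComponents (nAlg N) (Fin n → F) := ⟨S, inferInstance, rfl⟩
    rw [Set.not_nontrivial_iff] at h2
    have h3 : isotypicComponents (nAlg N) (Fin n → F) =
        {isotypicComponent (nAlg N) (Fin n → F) S} := h2.eq_singleton_of_mem hmem
    have h4 := sSup_isotypicComponents (nAlg N) (Fin n → F)
    rw [h3, sSup_singleton] at h4
    exact Cfsg.Agent.Lib.H22.Asch.homogData_of_isotypic N S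
      (IsIsotypicOfType.of_isotypicComponent_eq_top h4)

end Cfsg.Agent.Lib.H8.Asch
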