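/-
EO project (Aschbacher for the even-dimensional orthogonal groups, architect helper26), module EM2 in
definition-independent form: Clifford theory with a QUADRATIC form, all `q` (odd and even), any
dimension `n ≥ 3`.  An irreducible group `H` of isometries of a non-degenerate quadratic form `Q`
restricts homogeneously to every subgroup it normalises, unless it permutes the members of an
orthogonal decomposition into isometric non-degenerate blocks, or the two members of a pair of
complementary totally singular subspaces.  Instance of the generic Clifford-with-form theorem of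
Lib/H8/AschGM2.lean for the polar form, plus: the members of a pair of totally ISOTROPIC
complementary subspaces permuted by `H` are totally SINGULAR for `Q` (char-2 lemma).  (helper8)
-/
import Cfsg.Agent.Lib.H24.AschOM2
import Cfsg.Agent.Lib.H8.AschSM2
import Cfsg.Agent.Lib.H8.AschSM4E

set_option autoImplicit false
set_option linter.unusedSectionVars false

namespace Cfsg.Agent.Lib.H8.AschE

open Cfsg Cfsg.Geo Cfsg.Agent.Lib.Lead.Asch Cfsg.Agent.Lib.H8.Asch Cfsg.Agent.Lib.H24.Asch
open scoped MatrixGroups Matrix Kronecker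

variable {F : Type*} [Field F] {n : ℕ}

/-! ### The singular part of a totally isotropic subspace -/

theorem quad_zero {Q : (Fin n → F) → F} (hQ : IsNondegenerateQuadraticForm Q) : Q 0 = 0 := by
  have := hQ.smul 0 0
  rw [zero_smul] at this
  rw [this]
  ring

theorem quad_add (Q : (Fin n → F) → F) (u v : Fin n → F) :
    Q (u + v) = Q u + Q v + QuadraticMap.polar Q u v := by
  unfold QuadraticMap.polar
  ring

/-- The singular vectors of a totally isotropic subspace form a subspace. -/
def singPart (Q : (Fin n → F) → F) (hQ : IsNondegenerateQuadraticForm Q)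
    (W : Submodule F (Fin n → F)) (hW : IsTotallySingularFor (QuadraticMap.polar Q) W) :
    Submodule F (Fin n → F) where
  carrier := {v | v ∈ W ∧ Q v = 0}
  add_mem' := by
    rintro a b ⟨ha, ha0⟩ ⟨hb, hb0⟩
    exact ⟨W.add_mem ha hb, by rw [quad_add Q, ha0, hb0, hW a ha b hb]; ring⟩
  zero_mem' := ⟨W.zero_mem, quad_zero hQ⟩
  smul_mem' := by
    rintro c v ⟨hv, hv0⟩
    exact ⟨W.smul_mem c hv, by rw [hQ.smul, hv0, mul_zero]⟩

theorem mem_singPart {Q : (Fin n → F) → F} (hQ : IsNondegenerateQuadraticForm Q)
    (W : Submodule F (Fin n → F)) (hW : IsTotallySingularFor (QuadraticMap.polar Q) W)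
    (v : Fin n → F) : v ∈ singPart Q hQ W hW ↔ v ∈ W ∧ Q v = 0 := Iff.rfl

theorem singPart_le {Q : (Fin n → F) → F} (hQ : IsNondegenerateQuadraticForm Q)
    (W : Submodule F (Fin n → F)) (hW : IsTotallySingularFor (QuadraticMap.polar Q) W) :
    singPart Q hQ W hW ≤ W := fun _ hv => hv.1

/-- The singular part has codimension at most one (characteristic 2, finite field). -/
theorem exists_add_smul_mem_singPart [Finite F] (h2 : (2 : F) = 0) {Q : (Fin n → F) → F}
    (hQ : IsNondegenerateQuadraticForm Q) (W : Submodule F (Fin n → F))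
    (hW : IsTotallySingularFor (QuadraticMap.polar Q) W) (u : Fin n → F) (hu : u ∈ W)
    (hu0 : Q u ≠ 0) (v : Fin n → F) (hv : v ∈ W) : ∃ c : F, v + c • u ∈ singPart Q hQ W hW := by
  obtain ⟨c, hc⟩ := Cfsg.Agent.Lib.H8.AschS.sq_surjective h2 (Q v / Q u)
  refine ⟨c, W.add_mem hv (W.smul_mem c hu), ?_⟩
  rw [quad_add Q, hQ.smul, hc, div_mul_cancel₀ _ hu0, hW v hv _ (W.smul_mem c hu), add_zero]
  have : Q v + Q v = 2 * Q v := by ring
  rw [this, h2, zero_mul]

/-- In dimension at least two the singular part of a totally isotropic subspace is non-zero. -/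
theorem singPart_ne_bot [Finite F] {Q : (Fin n → F) → F}
    (hQ : IsNondegenerateQuadraticForm Q) (W : Submodule F (Fin n → F))
    (hW : IsTotallySingularFor (QuadraticMap.polar Q) W) (hdim : 2 ≤ Module.finrank F W) :
    singPart Q hQ W hW ≠ ⊥ := by
  intro hbot
  have hWne : W ≠ ⊥ := by
    intro h
    rw [h, finrank_bot] at hdim
    omega
  by_cases hall : ∀ u ∈ W, Q u = 0
  · obtain ⟨w, hw, hw0⟩ := Submodule.exists_mem_ne_zero_of_ne_bot hWne
    have : w ∈ singPart Q hQ W hW := ⟨hw, hall w hw⟩
    rw [hbot, Submodule.mem_bot] at this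
    exact hw0 this
  · push Not at hall
    obtain ⟨u, hu, hu0⟩ := hall
    by_cases h2 : (2 : F) = 0
    · have hle : W ≤ Submodule.span F {u} := by
        intro v hv
        obtain ⟨c, hc⟩ := exists_add_smul_mem_singPart h2 hQ W hW u hu hu0 v hv
        rw [hbot, Submodule.mem_bot] at hc
        have : v = (-c) • u := by
          rw [neg_smul]
          exact eq_neg_of_add_eq_zero_left hc
        rw [this]
        exact Submodule.smul_mem _ _ (Submodule.mem_span_singleton_self u)
      have h1 := Submodule.finrank_mono hle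
      have h3 := finrank_span_singleton (K := F) (show u ≠ 0 by
        rintro rfl
        exact hu0 (quad_zero hQ))
      omega
    · apply hu0
      have h1 := polar_self hQ u
      rw [hW u hu u hu] at h1
      exact (mul_eq_zero.1 h1.symm).resolve_left h2

/-! ### The pair of totally isotropic subspaces -/

variable [Fintype F]

/-- The members of a pair of complementary totally isotropic subspaces permuted by an irreducible
group of isometries of `Q` are totally singular for `Q` (dimension at least 3). -/
theorem totallySingularQuad_of_pair (Q : (Fin n → F) → F) (hQ : IsNondegenerateQuadraticForm Q)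
    (hn : 3 ≤ n) (H : Subgroup (GL (Fin n) F)) (hH : H ≤ isometryGroup F Q)
    (hirr : ActsIrreducibly (matrixSet H)) (k : ℕ) (D : Fin 2 → Submodule F (Fin n → F))
    (hk : 2 * k = n) (hD : IsMDecomposition k D)
    (hts : ∀ i, IsTotallySingularFor (QuadraticMap.polar Q) (D i))
    (hstab : H ≤ decompositionStabilizer D) : ∀ i, IsTotallySingularQuad Q (D i) := by
  have hc := Cfsg.Agent.Lib.H8.AschS.isCompl_of_decomposition hD
  set Z : Submodule F (Fin n → F) := singPart Q hQ (D 0) (hts 0) ⊔ singPart Q hQ (D 1) (hts 1)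
    with hZ
  have hmemZ : ∀ i, singPart Q hQ (D i) (hts i) ≤ Z := by
    intro i
    fin_cases i
    · exact le_sup_left
    · exact le_sup_right
  have hmap : ∀ g ∈ H, ∀ i, ∀ v ∈ singPart Q hQ (D i) (hts i),
      (g : Matrix (Fin n) (Fin n) F) *ᵥ v ∈ Z := by
    intro g hg i v hv
    obtain ⟨π, hπ⟩ := hstab hg
    refine hmemZ (π i) ⟨?_, ?_⟩
    · rw [← hπ i]
      exact ⟨v, hv.1, by simp [Matrix.toLin'_apply]⟩
    · rw [(mem_isometryGroup_iff Q g).1 (hH hg)]
      exact hv.2
  have hZinv : ∀ s ∈ matrixSet H, Z.map (Matrix.toLin' s) ≤ Z := by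
    rintro _ ⟨g, hg, rfl⟩
    rw [hZ, Submodule.map_sup]
    refine sup_le ?_ ?_
    · rintro _ ⟨v, hv, rfl⟩
      rw [Matrix.toLin'_apply]
      exact hmap g hg 0 v hv
    · rintro _ ⟨v, hv, rfl⟩
      rw [Matrix.toLin'_apply]
      exact hmap g hg 1 v hv
  have hk2 : 2 ≤ k := by omega
  rcases hirr Z hZinv with hbot | htop
  · exfalso
    have h0 : singPart Q hQ (D 0) (hts 0) = ⊥ := by
      rw [eq_bot_iff, ← hbot]
      exact hmemZ 0
    exact singPart_ne_bot hQ (D 0) (hts 0) (by rw [hD.finrank_eq]; exact hk2) h0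
  · intro i v hv
    have hvZ : v ∈ Z := by rw [htop]; trivial
    obtain ⟨a, ha, b, hb, hab⟩ := Submodule.mem_sup.mp hvZ
    fin_cases i
    · -- `b = v - a ∈ D 0 ⊓ D 1`
      have hb0 : b ∈ D 0 := by
        have : b = v - a := by rw [← hab]; abel
        rw [this]
        exact (D 0).sub_mem hv ha.1
      have : b = 0 := by
        have := hc.disjoint.le_bot (Submodule.mem_inf.mpr ⟨hb0, hb.1⟩)
        exact (Submodule.mem_bot F).mp this
      rw [this, add_zero] at hab
      rw [← hab]
      exact ha.2
    · have ha1 : a ∈ D 1 := by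
        have : a = v - b := by rw [← hab]; abel
        rw [this]
        exact (D 1).sub_mem hv hb.1
      have : a = 0 := by
        have := hc.disjoint.le_bot (Submodule.mem_inf.mpr ⟨ha.1, ha1⟩)
        exact (Submodule.mem_bot F).mp this
      rw [this, zero_add] at hab
      rw [← hab]
      exact hb.2

/-- **EM2** (definition-independent form): Clifford theory with a quadratic form. -/
theorem clifford_quad (Q : (Fin n → F) → F) (hQ : IsNondegenerateQuadraticForm Q) (hn : 3 ≤ n)
    (H N : Subgroup (GL (Fin n) F)) (hH : H ≤ isometryGroup F Q)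
    (hirr : ActsIrreducibly (matrixSet H)) (hNH : N ≤ H) (hnorm : NormalizedBy H N) :
    Nonempty (HomogData N) ∨
    (∃ (t k : ℕ) (D : Fin t → Submodule F (Fin n → F)), IsOrthogonalMDecomposition Q k D ∧
      H ≤ decompositionStabilizer D) ∨
    (∃ (k : ℕ) (D : Fin 2 → Submodule F (Fin n → F)), 2 * k = n ∧ IsMDecomposition k D ∧
      (∀ i, IsTotallySingularQuad Q (D i)) ∧ H ≤ decompositionStabilizer D) := by
  rcases exists_homogData_or_decomposition (isReflSesq_polar Q hQ) (by omega) H N
    (hH.trans (isometryGroup_le_isomGroup Q)) hirr hNH hnorm with h | h | h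
  · exact Or.inl h
  · obtain ⟨t, k, D, hD, hHD, htr⟩ := h
    refine Or.inr (Or.inl ⟨t, k, D, ⟨hD, fun i j => ?_⟩, hHD⟩)
    obtain ⟨g, hg, hgij⟩ := htr i j
    exact areIsometricFor_of_gmap Q g (hH hg) _ _ hgij
  · obtain ⟨k, D, hk, hD, hts, hHD⟩ := h
    exact Or.inr (Or.inr ⟨k, D, hk, hD,
      totallySingularQuad_of_pair Q hQ hn H hH hirr k D hk hD hts hHD, hHD⟩)

end Cfsg.Agent.Lib.H8.AschE
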