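/-
EO phase 2 (helper21's project), task EO2-X2: q odd, `polar Q ≅ f₁ ⊗ f₂` (symmetric ⊗ symmetric) with the second
factor of plus type forces `Q` of plus type: `U = P ((F^{n₁} ⊗ U₂) ∘ e)` with `U₂` totally singular of
dimension `n₂ / 2`.  (helper8)
-/
import Cfsg.Agent.Lib.H29.Tensor

set_option autoImplicit false
set_option linter.unusedSectionVars false

namespace Cfsg.Agent.Lib.H8.EOP2

open Cfsg Cfsg.Geo Module
open scoped MatrixGroups Matrix Kronecker

variable {F : Type*} [Field F] [Fintype F] {n : ℕ}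

/-- `Q v = polar Q v v / 2`, in the form `2 * Q v = polar Q v v`. -/
theorem two_mul_quad (Q : (Fin n → F) → F) (hQ : IsNondegenerateQuadraticForm Q) (v : Fin n → F) :
    2 * Q v = QuadraticMap.polar Q v v := by
  unfold QuadraticMap.polar
  have h : v + v = (2 : F) • v := (two_smul F v).symm
  rw [h, hQ.smul]
  ring

/-- the Kronecker form on a matrix of coordinates all of whose rows lie in a totally isotropic subspace of the second
factor vanishes -/
theorem formOfGram_kron_rows {n₁ n₂ : ℕ} (G₁ : Matrix (Fin n₁) (Fin n₁) F) (G₂ : Matrix (Fin n₂) (Fin n₂) F)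
    (X Y : Fin n₁ × Fin n₂ → F)
    (h : ∀ a a', formOfGram id G₂ (fun b => X (a, b)) (fun b => Y (a', b)) = 0) :
    formOfGram id (G₁ ⊗ₖ G₂) X Y = 0 := by
  unfold formOfGram
  simp only [Fintype.sum_prod_type, Matrix.kroneckerMap_apply, id]
  apply Finset.sum_eq_zero
  intro a _
  rw [Finset.sum_comm]
  apply Finset.sum_eq_zero
  intro a' _
  have h1 := h a a'
  unfold formOfGram at h1
  simp only [id] at h1
  have : ∑ b, ∑ b', X (a, b) * (G₁ a a' * G₂ b b') * Y (a', b') =
      G₁ a a' * ∑ b, ∑ b', X (a, b) * G₂ b b' * Y (a', b') := by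
    rw [Finset.mul_sum]
    refine Finset.sum_congr rfl fun b _ => ?_
    rw [Finset.mul_sum]
    refine Finset.sum_congr rfl fun b' _ => ?_
    ring
  rw [this, h1, mul_zero]

/-- **EO2-X2**. -/
theorem plus_of_sym_tensor_plus (hodd : Odd (Fintype.card F)) (Q : (Fin n → F) → F)
    (hQ : IsNondegenerateQuadraticForm Q)
    (n₁ n₂ : ℕ) (e : Fin n ≃ Fin n₁ × Fin n₂) (P : GL (Fin n) F)
    (f₁ : (Fin n₁ → F) → (Fin n₁ → F) → F) (f₂ : (Fin n₂ → F) → (Fin n₂ → F) → F)
    (h₁ : IsSymmetricForm f₁) (h₂ : IsSymmetricForm f₂)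
    (hT : IsTensorFormStructure id (QuadraticMap.polar Q) f₁ f₂ e P)
    (hpl : IsPlusTypeOn (fun v : Fin n₂ → F => f₂ v v) ⊤) :
    IsPlusTypeOn Q ⊤ := by
  classical
  -- `2 ≠ 0`
  have h2 : (2 : F) ≠ 0 := by
    intro h
    have h3 : ringChar F = 2 := CharP.ringChar_of_prime_eq_zero Nat.prime_two (by exact_mod_cast h)
    have := FiniteField.even_card_of_char_two h3
    rw [← Nat.not_even_iff_odd, Nat.even_iff] at hodd
    exact hodd this
  obtain ⟨c, -, hc⟩ := hT
  obtain ⟨U₂, -, hU₂, hdim₂⟩ := hpl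
  have hb₂ := h₂.bilinear
  -- polarisation: `f₂` vanishes on `U₂ × U₂`
  have hU₂' : ∀ u ∈ U₂, ∀ u' ∈ U₂, f₂ u u' = 0 := by
    intro u hu u' hu'
    have h := hU₂ (u + u') (U₂.add_mem hu hu')
    simp only at h
    rw [hb₂.add_left, hb₂.add_right, hb₂.add_right] at h
    have e1 : f₂ u u = 0 := hU₂ u hu
    have e2 : f₂ u' u' = 0 := hU₂ u' hu'
    rw [e1, e2, h₂.symm u' u] at h
    have h' : 2 * f₂ u u' = 0 := by linear_combination h
    rcases mul_eq_zero.mp h' with h'' | h''
    · exact absurd h'' h2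
    · exact h''
  -- the linear map `(Fin n₁ → U₂) → V`
  let Ψ : (Fin n₁ → ↥U₂) →ₗ[F] (Fin n → F) :=
    { toFun := fun w => (P : Matrix (Fin n) (Fin n) F) *ᵥ
        ((fun a : Fin n₁ × Fin n₂ => ((w a.1 : ↥U₂) : Fin n₂ → F) a.2) ∘ e)
      map_add' := fun w w' => by
        rw [← Matrix.mulVec_add]
        congr 1
      map_smul' := fun r w => by
        rw [RingHom.id_apply, ← Matrix.mulVec_smul]
        congr 1 }
  have hΨ : ∀ w, Ψ w = (P : Matrix (Fin n) (Fin n) F) *ᵥ
      ((fun a : Fin n₁ × Fin n₂ => ((w a.1 : ↥U₂) : Fin n₂ → F) a.2) ∘ e) := fun w => rfl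
  have hinj : Function.Injective Ψ := by
    intro w w' hww
    rw [hΨ, hΨ] at hww
    have h1 := congrArg (fun v => ((P⁻¹ : GL (Fin n) F) : Matrix (Fin n) (Fin n) F) *ᵥ v) hww
    simp only [Matrix.mulVec_mulVec, ← Units.val_mul, inv_mul_cancel, Units.val_one,
      Matrix.one_mulVec] at h1
    funext a
    apply Subtype.ext
    funext b
    have := congrFun h1 (e.symm (a, b))
    simpa using this
  refine ⟨LinearMap.range Ψ, le_top, ?_, ?_⟩
  · -- totally singular
    rintro _ ⟨w, rfl⟩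
    have h := two_mul_quad Q hQ (Ψ w)
    rw [hΨ, hc] at h
    rw [formOfGram_kron_rows] at h
    · rw [mul_zero] at h
      rcases mul_eq_zero.mp h with h' | h'
      · exact absurd h' h2
      · rw [hΨ]; exact h'
    · intro a a'
      have := Cfsg.Agent.Lib.H29.Tensor.form_eq_gram hb₂ ((w a : ↥U₂) : Fin n₂ → F)
        ((w a' : ↥U₂) : Fin n₂ → F)
      rw [hU₂' _ (w a).2 _ (w a').2] at this
      exact this.symm
  · -- dimension
    rw [LinearMap.finrank_range_of_inj hinj, Module.finrank_pi_fintype, Finset.sum_const,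
      Finset.card_univ, Fintype.card_fin, smul_eq_mul, finrank_top,
      Module.finrank_fintype_fun_eq_card, Fintype.card_fin]
    rw [finrank_top, Module.finrank_fintype_fun_eq_card, Fintype.card_fin] at hdim₂
    have hn : n = n₁ * n₂ := by
      have := Fintype.card_congr e
      simpa using this
    rw [hn]
    calc 2 * (n₁ * finrank F ↥U₂) = n₁ * (2 * finrank F ↥U₂) := by ring
      _ = n₁ * n₂ := by rw [hdim₂]

end Cfsg.Agent.Lib.H8.EOP2
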