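import Mathlib

/-!
# S3685 / S3385, blueprint `tools/blueprints/S3685.md`, section (9d) FINAL (piece L3C), hypothesis form

`Chain3 P y` collects what sections (9a)-(9c) (+ LOC) give in the case `l = 3`:
a chain of subgroups `P j` (`j : ℤ`) with central involutions `y j`.  `Chain3.false` is (9d).
-/

set_option autoImplicit false
open scoped Pointwise

namespace Cfsg.Agent.Lib.H8.Sims

variable {G : Type*} [Group G]

/-- The output of (9a)-(9c), as hypotheses on `P : ℤ → Subgroup G` and `y : ℤ → G`. -/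
structure Chain3 (P : ℤ → Subgroup G) (y : ℤ → G) : Prop where
  selfnorm : ∀ j (x : G), MulAut.conj x • P j = P j → x ∈ P j
  canon : ∀ i j (x : G), MulAut.conj x • P i = P j → x * y i * x⁻¹ = y j
  ysq : ∀ j, y j * y j = 1
  ycen : ∀ j, ∀ x ∈ P j, x * y j = y j * x
  ymem : ∀ i j : ℤ, |i - j| ≤ 3 → y j ∈ P i
  ynot : ∀ j, y j ∉ P (j + 4) ∧ y j ∉ P (j - 4)
  yrel : ∀ j, y j * y (j + 4) * (y j)⁻¹ * (y (j + 4))⁻¹ = y (j + 2)
  yne : ∀ j, y j ≠ y (j + 1)
  idxR : ∀ j, (P j ⊓ P (j + 1)).relIndex (P j) = 3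
  idxL : ∀ j, (P j ⊓ P (j - 1)).relIndex (P j) = 3
  selfp : ∀ j, ∃ g ∈ P j, MulAut.conj g • P (j + 1) = P (j - 1)
  pne : ∀ j, P (j - 1) ≠ P (j + 1)
  qnorm : ∀ j, ∀ x ∈ P j, MulAut.conj x • (P (j - 1) ⊓ P j ⊓ P (j + 1)) = P (j - 1) ⊓ P j ⊓ P (j + 1)
  t3 : ∀ j, ∃ t ∈ P j, orderOf t = 3
  no3 : ∀ j, ∀ t ∈ P j ⊓ P (j + 1), orderOf t ≠ 3

theorem mem_cj {g x : G} {X : Subgroup G} : x ∈ MulAut.conj g • X ↔ g⁻¹ * x * g ∈ X := by
  rw [Subgroup.mem_pointwise_smul_iff_inv_smul_mem, MulAut.smul_def, MulAut.conj_inv_apply]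

theorem cj_mul (a b : G) (X : Subgroup G) :
    MulAut.conj (a * b) • X = MulAut.conj a • MulAut.conj b • X := by
  rw [map_mul, mul_smul]

theorem cj_self {X : Subgroup G} {g : G} (hg : g ∈ X) : MulAut.conj g • X = X :=
  Subgroup.conj_smul_eq_self_of_mem hg

theorem cj_one (X : Subgroup G) : MulAut.conj (1 : G) • X = X := by
  rw [map_one, one_smul]

theorem cj_inv_cj (a : G) (X : Subgroup G) : MulAut.conj a⁻¹ • MulAut.conj a • X = X := by
  rw [← cj_mul, inv_mul_cancel, cj_one]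

theorem cj_cj_inv (a : G) (X : Subgroup G) : MulAut.conj a • MulAut.conj a⁻¹ • X = X := by
  rw [← cj_mul, mul_inv_cancel, cj_one]

theorem cj_eq_iff {a : G} {X Y : Subgroup G} : MulAut.conj a • X = Y ↔ X = MulAut.conj a⁻¹ • Y := by
  constructor
  · rintro rfl; rw [cj_inv_cj]
  · rintro rfl; rw [cj_cj_inv]

/-- at most three `K`-conjugates of `P'` when `K ⊓ P'` has index 3 in `K`. -/
theorem conj_pigeon {K P' : Subgroup G} (hidx : (K ⊓ P').relIndex K = 3)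
    {x₁ x₂ x₃ x₄ : G} (h₁ : x₁ ∈ K) (h₂ : x₂ ∈ K) (h₃ : x₃ ∈ K) (h₄ : x₄ ∈ K)
    (h12 : MulAut.conj x₁ • P' ≠ MulAut.conj x₂ • P') (h13 : MulAut.conj x₁ • P' ≠ MulAut.conj x₃ • P')
    (h23 : MulAut.conj x₂ • P' ≠ MulAut.conj x₃ • P') :
    MulAut.conj x₄ • P' = MulAut.conj x₁ • P' ∨ MulAut.conj x₄ • P' = MulAut.conj x₂ • P' ∨
      MulAut.conj x₄ • P' = MulAut.conj x₃ • P' := by
  classical
  have key : ∀ a b : G, a ∈ K → b ∈ K → a⁻¹ * b ∈ K ⊓ P' → MulAut.conj a • P' = MulAut.conj b • P' := by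
    intro a b _ _ hab
    have : MulAut.conj (a⁻¹ * b) • P' = P' := cj_self hab.2
    rw [cj_mul] at this
    rw [cj_eq_iff, inv_inv] at this
    exact this.symm
  set T := (K ⊓ P').subgroupOf K with hT
  have hcard : Nat.card (↥K ⧸ T) = 3 := hidx
  haveI : Finite (↥K ⧸ T) := Nat.finite_of_card_ne_zero (by rw [hcard]; norm_num)
  haveI := Fintype.ofFinite (↥K ⧸ T)
  have hcard' : Fintype.card (↥K ⧸ T) = 3 := by rw [← Nat.card_eq_fintype_card]; exact hcard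
  let f : Fin 4 → ↥K ⧸ T := fun i =>
    QuotientGroup.mk (![(⟨x₁, h₁⟩ : ↥K), ⟨x₂, h₂⟩, ⟨x₃, h₃⟩, ⟨x₄, h₄⟩] i)
  obtain ⟨i, j, hij, hf⟩ := Fintype.exists_ne_map_eq_of_card_lt f (by rw [hcard']; simp)
  have hq : ∀ (a b : ↥K), (QuotientGroup.mk a : ↥K ⧸ T) = QuotientGroup.mk b →
      MulAut.conj (a : G) • P' = MulAut.conj (b : G) • P' := by
    intro a b hab
    rw [QuotientGroup.eq] at hab
    have hab' : ((a⁻¹ * b : ↥K) : G) ∈ K ⊓ P' :=
      ⟨(a⁻¹ * b).2, by simpa [hT, Subgroup.mem_subgroupOf] using hab⟩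
    exact key a b a.2 b.2 (by simpa using hab')
  have := hq _ _ hf
  fin_cases i <;> fin_cases j <;> simp at hij <;> simp at this <;>
    first
    | exact absurd this h12
    | exact absurd this.symm h12
    | exact absurd this h13
    | exact absurd this.symm h13
    | exact absurd this h23
    | exact absurd this.symm h23
    | exact Or.inl this.symm
    | exact Or.inl this
    | exact Or.inr (Or.inl this.symm)
    | exact Or.inr (Or.inl this)
    | exact Or.inr (Or.inr this.symm)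
    | exact Or.inr (Or.inr this)


/-- commutator with a central factor on the left -/
theorem comm_mul_left_of_commute {ε u v : G} (hu : Commute ε u) (hv : Commute ε v) :
    (ε * u) * v * (ε * u)⁻¹ * v⁻¹ = u * v * u⁻¹ * v⁻¹ := by
  have h1 : ε * (u * v * u⁻¹) = (u * v * u⁻¹) * ε := ((hu.mul_right hv).mul_right hu.inv_right).eq
  calc (ε * u) * v * (ε * u)⁻¹ * v⁻¹ = (ε * (u * v * u⁻¹)) * ε⁻¹ * v⁻¹ := by group
    _ = ((u * v * u⁻¹) * ε) * ε⁻¹ * v⁻¹ := by rw [h1]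
    _ = u * v * u⁻¹ * v⁻¹ := by group

/-- commutator with a central factor on the right -/
theorem comm_mul_right_of_commute {ε u v : G} (hu : Commute ε u) (hv : Commute ε v) :
    u * (ε * v) * u⁻¹ * (ε * v)⁻¹ = u * v * u⁻¹ * v⁻¹ := by
  have h1 : ε * (u * v * u⁻¹) = (u * v * u⁻¹) * ε := ((hu.mul_right hv).mul_right hu.inv_right).eq
  have h2 : u * ε = ε * u := hu.eq.symm
  calc u * (ε * v) * u⁻¹ * (ε * v)⁻¹ = (u * ε) * v * u⁻¹ * v⁻¹ * ε⁻¹ := by group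
    _ = (ε * (u * v * u⁻¹)) * v⁻¹ * ε⁻¹ := by rw [h2]; group
    _ = ((u * v * u⁻¹) * ε) * v⁻¹ * ε⁻¹ := by rw [h1]
    _ = u * v * u⁻¹ * (ε * v⁻¹ * ε⁻¹) := by group
    _ = u * v * u⁻¹ * v⁻¹ := by
        have : ε * v⁻¹ * ε⁻¹ = v⁻¹ := by
          have := hv.inv_right.eq
          rw [this]; group
        rw [this]

/-- self-normalizing transported to a conjugate -/
theorem mem_of_cj_cj {X : Subgroup G} (hsn : ∀ x : G, MulAut.conj x • X = X → x ∈ X) {x a : G}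
    (h : MulAut.conj x • MulAut.conj a • X = MulAut.conj a • X) : a⁻¹ * x * a ∈ X := by
  apply hsn
  rw [cj_mul, cj_mul, h, cj_inv_cj]

namespace Chain3

variable {P : ℤ → Subgroup G} {y : ℤ → G}

theorem yinv (C : Chain3 P y) (j : ℤ) : (y j)⁻¹ = y j :=
  inv_eq_of_mul_eq_one_right (C.ysq j)

theorem y_ne_one (C : Chain3 P y) (j : ℤ) : y j ≠ 1 := by
  intro h
  exact (C.ynot j).1 (h ▸ (P (j + 4)).one_mem)

/-- `y` is canonical on all conjugates. -/
theorem canon' (C : Chain3 P y) {i j : ℤ} {a b : G}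
    (h : MulAut.conj a • P i = MulAut.conj b • P j) : a * y i * a⁻¹ = b * y j * b⁻¹ := by
  have h1 : MulAut.conj (b⁻¹ * a) • P i = P j := by
    rw [cj_mul, h, cj_inv_cj]
  have h2 := C.canon i j (b⁻¹ * a) h1
  have : a * y i * a⁻¹ = b * ((b⁻¹ * a) * y i * (b⁻¹ * a)⁻¹) * b⁻¹ := by group
  rw [this, h2]

/-- the mirror image `j ↦ 5 - j`. -/
theorem mirror (C : Chain3 P y) : Chain3 (fun j => P (5 - j)) (fun j => y (5 - j)) where
  selfnorm j x h := C.selfnorm _ x h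
  canon i j x h := C.canon _ _ x h
  ysq j := C.ysq _
  ycen j := C.ycen _
  ymem i j h := C.ymem _ _ (by
    have : (5 - i) - (5 - j) = -(i - j) := by ring
    rw [this, abs_neg]; exact h)
  ynot j := by
    have h := C.ynot (5 - j)
    have e1 : (5:ℤ) - (j + 4) = 5 - j - 4 := by ring
    have e2 : (5:ℤ) - (j - 4) = 5 - j + 4 := by ring
    simp only [e1, e2]
    exact ⟨h.2, h.1⟩
  yrel j := by
    have h := C.yrel (5 - (j + 4))
    have e1 : (5:ℤ) - (j + 4) + 4 = 5 - j := by ring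
    have e2 : (5:ℤ) - (j + 4) + 2 = 5 - (j + 2) := by ring
    rw [e1, e2] at h
    show y (5 - j) * y (5 - (j + 4)) * (y (5 - j))⁻¹ * (y (5 - (j + 4)))⁻¹ = y (5 - (j + 2))
    have h3 : y (5 - j) * y (5 - (j + 4)) * (y (5 - j))⁻¹ * (y (5 - (j + 4)))⁻¹
        = (y (5 - (j + 4)) * y (5 - j) * (y (5 - (j + 4)))⁻¹ * (y (5 - j))⁻¹)⁻¹ := by group
    rw [h3, h, C.yinv]
  yne j := by
    have h := C.yne (5 - (j + 1))
    have e1 : (5:ℤ) - (j + 1) + 1 = 5 - j := by ring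
    rw [e1] at h
    exact fun h' => h h'.symm
  idxR j := by
    have h := C.idxL (5 - j)
    have e1 : (5:ℤ) - (j + 1) = 5 - j - 1 := by ring
    show (P (5 - j) ⊓ P (5 - (j + 1))).relIndex (P (5 - j)) = 3
    rw [e1]; exact h
  idxL j := by
    have h := C.idxR (5 - j)
    have e1 : (5:ℤ) - (j - 1) = 5 - j + 1 := by ring
    show (P (5 - j) ⊓ P (5 - (j - 1))).relIndex (P (5 - j)) = 3
    rw [e1]; exact h
  selfp j := by
    obtain ⟨g, hg, h⟩ := C.selfp (5 - j)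
    have e1 : (5:ℤ) - (j + 1) = 5 - j - 1 := by ring
    have e2 : (5:ℤ) - (j - 1) = 5 - j + 1 := by ring
    refine ⟨g⁻¹, (P (5 - j)).inv_mem hg, ?_⟩
    show MulAut.conj g⁻¹ • P (5 - (j + 1)) = P (5 - (j - 1))
    rw [e1, e2, ← h, cj_inv_cj]
  pne j := by
    have h := C.pne (5 - j)
    have e1 : (5:ℤ) - (j + 1) = 5 - j - 1 := by ring
    have e2 : (5:ℤ) - (j - 1) = 5 - j + 1 := by ring
    show P (5 - (j - 1)) ≠ P (5 - (j + 1))
    rw [e1, e2]; exact fun h' => h h'.symm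
  qnorm j x hx := by
    have h := C.qnorm (5 - j) x hx
    have e1 : (5:ℤ) - (j + 1) = 5 - j - 1 := by ring
    have e2 : (5:ℤ) - (j - 1) = 5 - j + 1 := by ring
    show MulAut.conj x • (P (5 - (j - 1)) ⊓ P (5 - j) ⊓ P (5 - (j + 1))) =
      P (5 - (j - 1)) ⊓ P (5 - j) ⊓ P (5 - (j + 1))
    rw [e1, e2]
    have e3 : P (5 - j + 1) ⊓ P (5 - j) ⊓ P (5 - j - 1) = P (5 - j - 1) ⊓ P (5 - j) ⊓ P (5 - j + 1) := by
      rw [inf_comm (P (5 - j + 1)) (P (5 - j)), inf_comm, ← inf_assoc]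
    rw [e3]; exact h
  t3 j := C.t3 _
  no3 j t ht := by
    have e1 : (5:ℤ) - (j + 1) + 1 = 5 - j := by ring
    apply C.no3 (5 - (j + 1)) t
    rw [e1]
    exact ⟨ht.2, ht.1⟩


/-- Step 2 of (9d): an element of order 3 of `P 2` cycling `P 1 → P 3 → P1' → P 1`. -/
theorem exists_cycle (C : Chain3 P y) :
    ∃ t ∈ P 2, t ^ 3 = 1 ∧ MulAut.conj t • P 1 = P 3 ∧
      MulAut.conj t • P 3 = MulAut.conj (y 5) • P 1 ∧
      MulAut.conj t • MulAut.conj (y 5) • P 1 = P 1 := by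
  have hy52 : y 5 ∈ P 2 := C.ymem 2 5 (by norm_num)
  have hy53 : y 5 ∈ P 3 := C.ymem 3 5 (by norm_num)
  have hy51 : y 5 ∉ P 1 := by have := (C.ynot 5).2; norm_num at this; exact this
  have hne13 : P 1 ≠ P 3 := by have := C.pne 2; norm_num at this; exact this
  set P1' := MulAut.conj (y 5) • P 1 with hP1'
  have h1a : P1' ≠ P 1 := fun h => hy51 (C.selfnorm 1 _ h)
  have h1b : P1' ≠ P 3 := by
    intro h
    have : MulAut.conj (y 5) • P 1 = MulAut.conj (y 5) • P 3 := by rw [← hP1', h, cj_self hy53]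
    exact hne13 (smul_left_cancel _ this)
  obtain ⟨g2, hg2, hg2'⟩ := C.selfp 2
  norm_num at hg2'
  have hidx : (P 2 ⊓ P 3).relIndex (P 2) = 3 := by have := C.idxR 2; norm_num at this; exact this
  -- the three `P 2`-conjugates of `P 3`
  have e3 : MulAut.conj (1 : G) • P 3 = P 3 := cj_one _
  have e1 : MulAut.conj g2 • P 3 = P 1 := hg2'
  have e1' : MulAut.conj (y 5 * g2) • P 3 = P1' := by rw [cj_mul, e1]
  have hthree : ∀ x ∈ P 2, MulAut.conj x • P 3 = P 3 ∨ MulAut.conj x • P 3 = P 1 ∨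
      MulAut.conj x • P 3 = P1' := by
    intro x hx
    have := conj_pigeon hidx (P 2).one_mem hg2 ((P 2).mul_mem hy52 hg2) hx
      (by rw [e3, e1]; exact hne13.symm) (by rw [e3, e1']; exact h1b.symm)
      (by rw [e1, e1']; exact h1a.symm)
    rwa [e3, e1, e1'] at this
  -- images under an element of `P 2`
  have himg : ∀ t ∈ P 2, ∀ X : Subgroup G, (X = P 3 ∨ X = P 1 ∨ X = P1') →
      (MulAut.conj t • X = P 3 ∨ MulAut.conj t • X = P 1 ∨ MulAut.conj t • X = P1') := by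
    intro t ht X hX
    rcases hX with rfl | rfl | rfl
    · exact hthree t ht
    · have := hthree (t * g2) ((P 2).mul_mem ht hg2)
      rwa [cj_mul, e1] at this
    · have := hthree (t * (y 5 * g2)) ((P 2).mul_mem ht ((P 2).mul_mem hy52 hg2))
      rwa [cj_mul, e1'] at this
  -- no fixed points for elements of order 3
  have hfix : ∀ t ∈ P 2, orderOf t = 3 →
      MulAut.conj t • P 3 ≠ P 3 ∧ MulAut.conj t • P 1 ≠ P 1 ∧ MulAut.conj t • P1' ≠ P1' := by
    intro t ht ht3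
    refine ⟨fun h => ?_, fun h => ?_, fun h => ?_⟩
    · have := C.no3 2 t ⟨ht, by norm_num; exact C.selfnorm 3 t h⟩
      exact this ht3
    · have := C.no3 1 t ⟨C.selfnorm 1 t h, by norm_num; exact ht⟩
      exact this ht3
    · have h1 : (y 5)⁻¹ * t * y 5 ∈ P 1 := mem_of_cj_cj (C.selfnorm 1) h
      have h2 : (y 5)⁻¹ * t * y 5 ∈ P 2 :=
        (P 2).mul_mem ((P 2).mul_mem ((P 2).inv_mem hy52) ht) hy52
      have h3 : orderOf ((y 5)⁻¹ * t * y 5) = 3 := by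
        have : (y 5)⁻¹ * t * y 5 = MulAut.conj (y 5)⁻¹ t := by simp
        rw [this, MulEquiv.orderOf_eq, ht3]
      exact C.no3 1 _ ⟨h1, by norm_num; exact h2⟩ h3
  -- the permutation induced by an element of order 3
  have hperm : ∀ t ∈ P 2, orderOf t = 3 →
      (MulAut.conj t • P 1 = P 3 ∧ MulAut.conj t • P 3 = P1' ∧ MulAut.conj t • P1' = P 1) ∨
      (MulAut.conj t • P 1 = P1' ∧ MulAut.conj t • P1' = P 3 ∧ MulAut.conj t • P 3 = P 1) := by
    intro t ht ht3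
    obtain ⟨f3, f1, f1'⟩ := hfix t ht ht3
    have ht2 : orderOf (t * t) = 3 := by
      have : t * t = t ^ 2 := (pow_two t).symm
      rw [this, orderOf_pow' t (by norm_num), ht3]; norm_num
    obtain ⟨g3, g1, g1'⟩ := hfix (t * t) ((P 2).mul_mem ht ht) ht2
    have i1 := himg t ht (P 1) (Or.inr (Or.inl rfl))
    have i3 := himg t ht (P 3) (Or.inl rfl)
    have i1' := himg t ht P1' (Or.inr (Or.inr rfl))
    have inj : ∀ {X Y : Subgroup G}, MulAut.conj t • X = MulAut.conj t • Y → X = Y :=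
      fun h => smul_left_cancel _ h
    rcases i1 with i1 | i1 | i1
    · -- t P1 = P3
      left
      refine ⟨i1, ?_⟩
      rcases i3 with i3 | i3 | i3
      · exact absurd i3 f3
      · exfalso; apply g1; rw [cj_mul, i1, i3]
      · refine ⟨i3, ?_⟩
        rcases i1' with i1' | i1' | i1'
        · exfalso; exact h1a (inj (i1'.trans i1.symm))
        · exact i1'
        · exact absurd i1' f1'
    · exact absurd i1 f1
    · -- t P1 = P1'
      right
      refine ⟨i1, ?_⟩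
      rcases i1' with i1' | i1' | i1'
      · refine ⟨i1', ?_⟩
        rcases i3 with i3 | i3 | i3
        · exact absurd i3 f3
        · exact i3
        · exfalso; exact hne13 (inj (i1.trans i3.symm))
      · exfalso; apply g1; rw [cj_mul, i1, i1']
      · exact absurd i1' f1'
  obtain ⟨t0, ht0, ht03⟩ := C.t3 2
  rcases hperm t0 ht0 ht03 with ⟨a1, a2, a3⟩ | ⟨a1, a2, a3⟩
  · exact ⟨t0, ht0, by rw [← ht03, pow_orderOf_eq_one], a1, a2, a3⟩
  · refine ⟨t0⁻¹, (P 2).inv_mem ht0, ?_, ?_, ?_, ?_⟩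
    · rw [inv_pow, ← ht03, pow_orderOf_eq_one, inv_one]
    · rw [← a3, cj_inv_cj]
    · rw [← a2, cj_inv_cj]
    · rw [← a1, cj_inv_cj]


/-- (9d), first half: `(y 0 * y 5) ^ 4 = y 2`. -/
theorem half (C : Chain3 P y) : (y 0 * y 5) ^ 4 = y 2 := by
  -- memberships
  have hy52 : y 5 ∈ P 2 := C.ymem 2 5 (by norm_num)
  have hy01 : y 0 ∈ P 1 := C.ymem 1 0 (by norm_num)
  have hy02 : y 0 ∈ P 2 := C.ymem 2 0 (by norm_num)
  have hy03 : y 0 ∈ P 3 := C.ymem 3 0 (by norm_num)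
  have hy42 : y 4 ∈ P 2 := C.ymem 2 4 (by norm_num)
  have hy04 : y 0 ∉ P 4 := by have := (C.ynot 0).1; norm_num at this; exact this
  have hne02 : P 0 ≠ P 2 := by have := C.pne 1; norm_num at this; exact this
  have hne24 : P 2 ≠ P 4 := by have := C.pne 3; norm_num at this; exact this
  have hrel : y 0 * y 4 * (y 0)⁻¹ * (y 4)⁻¹ = y 2 := by have := C.yrel 0; norm_num at this; exact this
  have hcen2 : ∀ x ∈ P 2, Commute (y 2) x := fun x hx => (C.ycen 2 x hx).symm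
  obtain ⟨t, ht, ht3, t1, t3, t1'⟩ := C.exists_cycle
  set P1' := MulAut.conj (y 5) • P 1 with hP1'
  have ht2 : MulAut.conj t • P 2 = P 2 := cj_self ht
  have htinv : t⁻¹ ∈ P 2 := (P 2).inv_mem ht
  obtain ⟨g1, hg1, hg1'⟩ := C.selfp 1
  norm_num at hg1'
  obtain ⟨g3, hg3, hg3'⟩ := C.selfp 3
  norm_num at hg3'
  -- Step 3: `t y_0 t⁻¹ = ε y_4` with `ε ∈ {1, y_2}`
  have hstep3 : ∃ ε : G, (ε = 1 ∨ ε = y 2) ∧ t * y 0 * t⁻¹ = ε * y 4 := by
    have hx3 : t * g1 * t⁻¹ ∈ P 3 := by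
      rw [← t1, mem_cj]
      have : t⁻¹ * (t * g1 * t⁻¹) * t = g1 := by group
      rw [this]; exact hg1
    have hx : t * g1 * t⁻¹ * g3 ∈ P 3 := (P 3).mul_mem hx3 hg3
    have htP0 : MulAut.conj t • P 0 = MulAut.conj (t * g1 * t⁻¹ * g3) • P 4 := by
      rw [cj_mul (t * g1 * t⁻¹) g3, hg3', ← hg1']
      have : t * g1 * t⁻¹ = t * (g1 * t⁻¹) := by group
      rw [this, cj_mul t, cj_mul g1, cj_self htinv]
    have hidx : (P 3 ⊓ P 4).relIndex (P 3) = 3 := by have := C.idxR 3; norm_num at this; exact this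
    have e4 : MulAut.conj (1 : G) • P 4 = P 4 := cj_one _
    have d1 : MulAut.conj (y 0) • P 4 ≠ P 4 := fun h => hy04 (C.selfnorm 4 _ h)
    have d2 : MulAut.conj (y 0) • P 4 ≠ P 2 := by
      intro h
      have : MulAut.conj (y 0) • P 4 = MulAut.conj (y 0) • P 2 := by rw [h, cj_self hy02]
      exact hne24 (smul_left_cancel _ this).symm
    have := conj_pigeon hidx (P 3).one_mem hg3 hy03 hx
      (by rw [e4, hg3']; exact hne24.symm) (by rw [e4]; exact d1.symm)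
      (by rw [hg3']; exact d2.symm)
    rw [← htP0, e4, hg3'] at this
    rcases this with h | h | h
    · refine ⟨1, Or.inl rfl, ?_⟩
      rw [one_mul]; exact C.canon 0 4 t h
    · exfalso
      have : MulAut.conj t • P 0 = MulAut.conj t • P 2 := by rw [h, ht2]
      exact hne02 (smul_left_cancel _ this)
    · refine ⟨y 2, Or.inr rfl, ?_⟩
      have := C.canon' h
      rw [this, ← hrel]; group
  obtain ⟨ε, hε, ha⟩ := hstep3
  have hεc : ∀ x ∈ P 2, Commute ε x := by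
    intro x hx
    rcases hε with rfl | rfl
    · exact Commute.one_left x
    · exact hcen2 x hx
  have hεsq : ε * ε = 1 := by
    rcases hε with rfl | rfl
    · simp
    · exact C.ysq 2
  -- Step 4
  set z := t * y 4 * t⁻¹ with hz
  have hz2 : z ∈ P 2 := (P 2).mul_mem ((P 2).mul_mem ht hy42) htinv
  have hty2 : t * y 2 * t⁻¹ = y 2 := by
    have := (hcen2 t ht).eq
    rw [← this]; group
  have hE1 : y 4 * z * (y 4)⁻¹ * z⁻¹ = y 2 := by
    have h1 : (t * y 0 * t⁻¹) * z * (t * y 0 * t⁻¹)⁻¹ * z⁻¹ = t * (y 0 * y 4 * (y 0)⁻¹ * (y 4)⁻¹) * t⁻¹ := by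
      rw [hz]; group
    rw [hrel, hty2, ha] at h1
    rw [← h1]
    exact (comm_mul_left_of_commute (hεc _ hy42) (hεc _ hz2)).symm
  have htz : t * z * t⁻¹ = ε * y 0 := by
    have h1 : t * z * t⁻¹ = t⁻¹ * y 4 * t := by
      have e : t * t = t⁻¹ := by
        have : t * t * t = 1 := by rw [← ht3, pow_succ, pow_two]
        exact eq_inv_of_mul_eq_one_left this
      rw [hz]
      calc t * (t * y 4 * t⁻¹) * t⁻¹ = (t * t) * y 4 * (t * t)⁻¹ := by group
        _ = t⁻¹ * y 4 * t := by rw [e, inv_inv]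
    rw [h1]
    have h2 : y 4 = ε * (t * y 0 * t⁻¹) := by
      rw [ha, ← mul_assoc, hεsq, one_mul]
    have h3 : t⁻¹ * ε = ε * t⁻¹ := (hεc _ htinv).eq.symm
    calc t⁻¹ * y 4 * t = t⁻¹ * (ε * (t * y 0 * t⁻¹)) * t := by rw [← h2]
      _ = (t⁻¹ * ε) * (t * y 0 * t⁻¹) * t := by group
      _ = (ε * t⁻¹) * (t * y 0 * t⁻¹) * t := by rw [h3]
      _ = ε * y 0 := by group
  have hE2 : z * y 0 * z⁻¹ * (y 0)⁻¹ = y 2 := by
    have h1 : (t * y 4 * t⁻¹) * (t * z * t⁻¹) * (t * y 4 * t⁻¹)⁻¹ * (t * z * t⁻¹)⁻¹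
        = t * (y 4 * z * (y 4)⁻¹ * z⁻¹) * t⁻¹ := by group
    rw [hE1, hty2, ← hz, htz] at h1
    rw [← h1]
    exact (comm_mul_right_of_commute (hεc _ hz2) (hεc _ hy02)).symm
  -- Step 5: neighbours of P1'
  have hy0P1' : y 0 ∈ P1' := by
    rw [hP1', mem_cj]
    have hq : MulAut.conj (y 5)⁻¹ • (P 1 ⊓ P 2 ⊓ P 3) = P 1 ⊓ P 2 ⊓ P 3 := by
      have := C.qnorm 2 ((y 5)⁻¹) ((P 2).inv_mem hy52)
      simpa only [show (2:ℤ) - 1 = 1 by norm_num, show (2:ℤ) + 1 = 3 by norm_num] using this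
    have hy0q : y 0 ∈ P 1 ⊓ P 2 ⊓ P 3 := ⟨⟨hy01, hy02⟩, hy03⟩
    have : (y 5)⁻¹ * y 0 * y 5 ∈ MulAut.conj (y 5)⁻¹ • (P 1 ⊓ P 2 ⊓ P 3) := by
      rw [mem_cj]
      have : (y 5)⁻¹⁻¹ * ((y 5)⁻¹ * y 0 * y 5) * (y 5)⁻¹ = y 0 := by group
      rw [this]; exact hy0q
    rw [hq] at this
    exact this.1.1
  have hy2ne : y 2 ≠ 1 := C.y_ne_one 2
  -- the three neighbours `P 2`, `Na`, `Nb` of `P1'`
  set Na := MulAut.conj t • P 4 with hNa
  set Nb := MulAut.conj (y 0) • Na with hNb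
  have hNa2 : Na ≠ P 2 := by
    intro h
    have : MulAut.conj t • P 4 = MulAut.conj t • P 2 := by rw [← hNa, h, ht2]
    exact hne24 (smul_left_cancel _ this).symm
  have hNb2 : Nb ≠ P 2 := by
    intro h
    have : MulAut.conj (y 0) • Na = MulAut.conj (y 0) • P 2 := by rw [← hNb, h, cj_self hy02]
    exact hNa2 (smul_left_cancel _ this)
  have hNab : Nb ≠ Na := by
    intro h
    have h1 : t⁻¹ * y 0 * t ∈ P 4 := mem_of_cj_cj (C.selfnorm 4) h
    have h2 := C.ycen 4 _ h1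
    -- y0 commutes with z
    have h3 : y 0 * z = z * y 0 := by
      have : y 0 * z = t * ((t⁻¹ * y 0 * t) * y 4) * t⁻¹ := by rw [hz]; group
      rw [this, h2, hz]; group
    apply hy2ne
    rw [← hE2, ← h3]; group
  -- pull back along `y 5` to conjugates of `P 2` under `P 1`
  have hy5sq : y 5 * y 5 = 1 := C.ysq 5
  have hy5inv : (y 5)⁻¹ = y 5 := C.yinv 5
  have hy5P2 : MulAut.conj (y 5) • P 2 = P 2 := cj_self hy52
  have hidx1 : (P 1 ⊓ P 2).relIndex (P 1) = 3 := by have := C.idxR 1; norm_num at this; exact this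
  -- elements of `P 1`
  have hwa' : (y 5)⁻¹ * (t * g3⁻¹ * t⁻¹) * y 5 ∈ P 1 := by
    have : t * g3⁻¹ * t⁻¹ ∈ P1' := by
      rw [← t3, mem_cj]
      have : t⁻¹ * (t * g3⁻¹ * t⁻¹) * t = g3⁻¹ := by group
      rw [this]; exact (P 3).inv_mem hg3
    rwa [hP1', mem_cj] at this
  have hy0' : (y 5)⁻¹ * y 0 * y 5 ∈ P 1 := by rwa [hP1', mem_cj] at hy0P1'
  set wa := (y 5)⁻¹ * (t * g3⁻¹ * t⁻¹) * y 5 with hwa
  set wb := (y 5)⁻¹ * y 0 * y 5 * wa with hwb
  have hwb' : wb ∈ P 1 := (P 1).mul_mem hy0' hwa'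
  have eNa : MulAut.conj (y 5) • MulAut.conj wa • P 2 = Na := by
    have hP4 : P 4 = MulAut.conj g3⁻¹ • P 2 := by rw [← hg3', cj_inv_cj]
    have e : y 5 * wa = t * (g3⁻¹ * (t⁻¹ * y 5)) := by rw [hwa]; group
    rw [← cj_mul, e, cj_mul t, cj_mul g3⁻¹, cj_mul t⁻¹, hy5P2, cj_self htinv, ← hP4]
  have eNb : MulAut.conj (y 5) • MulAut.conj wb • P 2 = Nb := by
    have e : y 5 * wb = y 0 * (y 5 * wa) := by rw [hwb]; group
    rw [← cj_mul, e, cj_mul (y 0), cj_mul (y 5), eNa]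
  have e2 : MulAut.conj (y 5) • MulAut.conj (1 : G) • P 2 = P 2 := by rw [cj_one, hy5P2]
  have inj5 : ∀ {X Y : Subgroup G}, MulAut.conj (y 5) • X = MulAut.conj (y 5) • Y → X = Y :=
    fun h => smul_left_cancel _ h
  have hpig := conj_pigeon hidx1 (P 1).one_mem hwa' hwb' hg1
    (fun h => hNa2 (by rw [← eNa, ← h, e2]))
    (fun h => hNb2 (by rw [← eNb, ← h, e2]))
    (fun h => hNab (by rw [← eNa, ← eNb, h]))
  have hy5P0 : MulAut.conj (y 5) • P 0 ≠ P 2 := by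
    intro h
    have : MulAut.conj (y 5) • P 0 = MulAut.conj (y 5) • P 2 := by rw [h, hy5P2]
    exact hne02 (inj5 this)
  have hcases : MulAut.conj (y 5) • P 0 = Na ∨ MulAut.conj (y 5) • P 0 = Nb := by
    rw [hg1'] at hpig
    rcases hpig with h | h | h
    · exfalso; apply hy5P0; rw [h, e2]
    · left; rw [h, eNa]
    · right; rw [h, eNb]
  -- Step 6
  set b := y 5 * y 0 * (y 5)⁻¹ with hb
  have hb2 : b * b = 1 := by
    have : b * b = y 5 * (y 0 * y 0) * (y 5)⁻¹ := by rw [hb]; group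
    rw [this, C.ysq 0]; group
  have hbinv : b⁻¹ = b := inv_eq_of_mul_eq_one_right hb2
  have hy0inv : (y 0)⁻¹ = y 0 := C.yinv 0
  have hpow : (y 0 * y 5) ^ 4 = y 0 * b * (y 0)⁻¹ * b⁻¹ := by
    have h1 : y 0 * y 5 * (y 0 * y 5) = y 0 * b := by
      rw [hb, hy5inv]; group
    have h2 : (y 0 * y 5) ^ 4 = (y 0 * y 5 * (y 0 * y 5)) * (y 0 * y 5 * (y 0 * y 5)) := by
      rw [show (4:ℕ) = 2 + 2 from rfl, pow_add, pow_two]
    rw [h2, h1, hy0inv, hbinv]; group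
  have hE2' : y 0 * z * (y 0)⁻¹ * z⁻¹ = y 2 := by
    have : y 0 * z * (y 0)⁻¹ * z⁻¹ = (z * y 0 * z⁻¹ * (y 0)⁻¹)⁻¹ := by group
    rw [this, hE2, C.yinv 2]
  rw [hpow]
  rcases hcases with h | h
  · have hbz : b = z := by
      have := C.canon' (show MulAut.conj (y 5) • P 0 = MulAut.conj t • P 4 from h)
      rw [hb, this]
    rw [hbz, hE2']
  · have hbz : b = y 0 * z * (y 0)⁻¹ := by
      have h' : MulAut.conj (y 5) • P 0 = MulAut.conj (y 0 * t) • P 4 := by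
        rw [h, hNb, hNa, cj_mul]
      have := C.canon' h'
      rw [hb, this, hz]; group
    rw [hbz]
    have : y 0 * (y 0 * z * (y 0)⁻¹) * (y 0)⁻¹ * (y 0 * z * (y 0)⁻¹)⁻¹
        = y 0 * (y 0 * z * (y 0)⁻¹ * z⁻¹) * (y 0)⁻¹ := by group
    rw [this, hE2']
    have := (hcen2 _ hy02).eq
    rw [← this]; group

/-- (9d): the configuration of the case `l = 3` is contradictory. -/
theorem «false» (C : Chain3 P y) : False := by
  have h1 := C.half
  have h2 := C.mirror.half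
  simp only [sub_zero, sub_self] at h2
  norm_num at h2
  -- h2 : (y 5 * y 0)^4 = y 3
  have h3 : (y 5 * y 0) ^ 4 = y 5 * (y 0 * y 5) ^ 4 * (y 5)⁻¹ := by
    have : y 5 * y 0 = y 5 * (y 0 * y 5) * (y 5)⁻¹ := by group
    rw [this, conj_pow]
  have hy52 : y 5 ∈ P 2 := C.ymem 2 5 (by norm_num)
  have h4 : y 5 * y 2 * (y 5)⁻¹ = y 2 := by
    have := C.ycen 2 _ hy52
    rw [this]; group
  rw [h3, h1, h4] at h2
  have := C.yne 2
  norm_num at this
  exact this h2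

end Chain3

end Cfsg.Agent.Lib.H8.Sims
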