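import Cfsg.Agent.Lib.H14.FCDefs

/-!
# S4427 piece INTEG (helper8): a monic annihilating polynomial with local coefficients

`E ∈ ℂ[G]` with coefficients in the local ring `R = localRing M` is the image of an element `E'`
of `R[G]`, which is integral over `R` because `R[G]` is a finite `R`-module.
-/

set_option autoImplicit false

namespace Cfsg.Agent.Lib.H8.FC

open Cfsg MonoidAlgebra Cfsg.Agent.Lib.H23 Cfsg.Agent.Lib.H24 Cfsg.Agent.Lib.L0
open Cfsg.Agent.Lib.H14.FC
open scoped ComplexConjugate

section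
variable {G : Type*} [Group G] [Fintype G]

theorem exists_monic_annihilator {M : Ideal AlgInt} [M.IsPrime] (E : MonoidAlgebra ℂ G)
    (hE : E ∈ intCoeff (G := G) M) :
    ∃ P : Polynomial ℂ, P.Monic ∧ (∀ i, MemLocalRing M (P.coeff i)) ∧ Polynomial.aeval E P = 0 := by
  classical
  let R : Subring ℂ := localRing M
  let E' : MonoidAlgebra R G :=
    MonoidAlgebra.ofCoeff (Finsupp.equivFunOnFinite.symm (fun g => (⟨E.coeff g, hE g⟩ : R)))
  let φ : MonoidAlgebra R G →+* MonoidAlgebra ℂ G := MonoidAlgebra.mapRingHom G R.subtype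
  have hφ : φ E' = E := by
    apply MonoidAlgebra.ext
    ext g
    simp [φ, E']
  have hint : IsIntegral R E' := Algebra.IsIntegral.isIntegral E'
  obtain ⟨P', hm, hP'⟩ := hint
  have hcomp : φ.comp (algebraMap R (MonoidAlgebra R G)) =
      (algebraMap ℂ (MonoidAlgebra ℂ G)).comp R.subtype := by
    ext r
    simp [φ, MonoidAlgebra.coe_algebraMap]
  refine ⟨P'.map R.subtype, hm.map _, ?_, ?_⟩
  · intro i
    rw [Polynomial.coeff_map]
    exact (P'.coeff i).2
  · rw [Polynomial.aeval_def, Polynomial.eval₂_map, ← hcomp, ← hφ, ← Polynomial.hom_eval₂, hP',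
      map_zero]

end

end Cfsg.Agent.Lib.H8.FC
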