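import Cfsg.Agent.Lib.H14.FCDefs

/-!
# S4427 piece ROOTS (helper8): the local ring at `M` is integrally closed in `ℂ`

Write the coefficients of `P` (below the leading one) over a common denominator `B ∉ M`; then
`B * z` is a root of the monic polynomial `scaleRoots P B`, whose coefficients are algebraic
integers, so `B * z` is integral over `AlgInt`, hence over `ℤ`; `z = (B z) / B`.
-/

set_option autoImplicit false

namespace Cfsg.Agent.Lib.H8.FC

open Cfsg MonoidAlgebra Cfsg.Agent.Lib.H23 Cfsg.Agent.Lib.H24 Cfsg.Agent.Lib.L0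
open Cfsg.Agent.Lib.H14.FC
open scoped ComplexConjugate

theorem memLocalRing_of_isRoot {M : Ideal AlgInt} [M.IsPrime] (P : Polynomial ℂ) (hPm : P.Monic)
    (hPc : ∀ i, MemLocalRing M (P.coeff i)) (z : ℂ) (hz : P.IsRoot z) : MemLocalRing M z := by
  classical
  have hM : M.IsPrime := inferInstance
  choose a b hb hab using hPc
  set n := P.natDegree with hn
  set B : AlgInt := ∏ i ∈ Finset.range n, b i with hBdef
  have hB : B ∉ M := by
    intro h
    rcases (Ideal.IsPrime.prod_mem_iff).1 h with ⟨i, _, hi⟩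
    exact hb i hi
  have hB0 : (B : ℂ) ≠ 0 := by
    intro h
    apply hB
    have : B = 0 := Subtype.ext h
    rw [this]
    exact M.zero_mem
  -- below the leading coefficient, `B * coeff` is an algebraic integer
  have hcoef : ∀ i, i < n → IsIntegral ℤ ((B : ℂ) * P.coeff i) := by
    intro i hi
    have hbi : (b i : ℂ) ≠ 0 := by
      intro h
      apply hb i
      have : b i = 0 := Subtype.ext h
      rw [this]
      exact M.zero_mem
    have hBi : B = b i * ∏ j ∈ (Finset.range n).erase i, b j :=
      (Finset.mul_prod_erase _ _ (Finset.mem_range.2 hi)).symm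
    have heq : (B : ℂ) * P.coeff i =
        (((∏ j ∈ (Finset.range n).erase i, b j) * a i : AlgInt) : ℂ) := by
      rw [← hab i, hBi]
      push_cast
      field_simp
    rw [heq]
    exact ((∏ j ∈ (Finset.range n).erase i, b j) * a i).2
  -- the scaled polynomial
  set Q : Polynomial ℂ := P.scaleRoots (B : ℂ) with hQ
  have hQm : Q.Monic := (Polynomial.monic_scaleRoots_iff _).2 hPm
  have hQc : ∀ i, IsIntegral ℤ (Q.coeff i) := by
    intro i
    rw [hQ, Polynomial.coeff_scaleRoots]
    rcases lt_trichotomy i n with hi | hi | hi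
    · obtain ⟨k, hk⟩ : ∃ k, P.natDegree - i = k + 1 := ⟨P.natDegree - i - 1, by omega⟩
      have : P.coeff i * (B : ℂ) ^ (k + 1) = ((B : ℂ) * P.coeff i) * (B : ℂ) ^ k := by
        rw [pow_succ]
        ring
      rw [hk, this]
      exact (hcoef i hi).mul (B.2.pow _)
    · subst hi
      have : P.coeff n = 1 := hPm
      rw [this, ← hn, Nat.sub_self, pow_zero, mul_one]
      exact isIntegral_one
    · rw [Polynomial.coeff_eq_zero_of_natDegree_lt hi, zero_mul]
      exact isIntegral_zero
  have hQroot : Polynomial.eval ((B : ℂ) * z) Q = 0 := by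
    rw [hQ, Polynomial.scaleRoots_eval_mul, hz.eq_zero, mul_zero]
  -- lift `Q` to `AlgInt[X]`
  have hlift : Q ∈ Polynomial.lifts (algebraMap AlgInt ℂ) := by
    rw [Polynomial.lifts_iff_coeff_lifts]
    intro i
    exact ⟨⟨Q.coeff i, hQc i⟩, rfl⟩
  obtain ⟨Q', hQ'map, -, hQ'm⟩ := Polynomial.lifts_and_natDegree_eq_and_monic hlift hQm
  have hint : IsIntegral AlgInt ((B : ℂ) * z) := by
    refine ⟨Q', hQ'm, ?_⟩
    rw [← Polynomial.eval_map, hQ'map]
    exact hQroot
  have hintZ : IsIntegral ℤ ((B : ℂ) * z) := isIntegral_trans _ hint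
  refine ⟨⟨(B : ℂ) * z, hintZ⟩, B, hB, ?_⟩
  show (B : ℂ) * z / (B : ℂ) = z
  field_simp

end Cfsg.Agent.Lib.H8.FC
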