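import Mathlib

/-! S4923 farm-out, piece NC (helper8): `N_G(⟨g⟩)/C_G(g)` has order 2 when `o(g) = 2^(n-1)`,
the Sylow 2-subgroups have order `2^n`, and some `t` normalizes `⟨g⟩` without centralizing `g`. -/

set_option autoImplicit false

namespace Cfsg.Agent.Lib.H8.FV

/-- conjugating `g` into `⟨g⟩` means normalizing `⟨g⟩` (finite group). -/
theorem mem_normalizer_zpowers_of_conj_mem {G : Type*} [Group G] [Finite G] (g x : G)
    (hx : x * g * x⁻¹ ∈ Subgroup.zpowers g) :
    x ∈ Subgroup.normalizer ((Subgroup.zpowers g : Subgroup G) : Set G) := by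
  classical
  -- the conjugate subgroup is zpowers (x g x⁻¹) ≤ zpowers g, same card
  have hmap : (Subgroup.zpowers g).map (MulAut.conj x).toMonoidHom
      = Subgroup.zpowers (x * g * x⁻¹) := by
    rw [MonoidHom.map_zpowers]
    rfl
  have hle : (Subgroup.zpowers g).map (MulAut.conj x).toMonoidHom ≤ Subgroup.zpowers g := by
    rw [hmap, Subgroup.zpowers_le]; exact hx
  have hcard : Nat.card (Subgroup.zpowers g) ≤
      Nat.card ((Subgroup.zpowers g).map (MulAut.conj x).toMonoidHom) := by
    rw [hmap, Nat.card_zpowers, Nat.card_zpowers]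
    have : orderOf (x * g * x⁻¹) = orderOf g := by
      have := orderOf_injective (MulAut.conj x).toMonoidHom (MulAut.conj x).injective g
      simpa using this
    rw [this]
  have heq : (Subgroup.zpowers g).map (MulAut.conj x).toMonoidHom = Subgroup.zpowers g :=
    Subgroup.eq_of_le_of_card_ge hle hcard
  rw [Subgroup.mem_normalizer_iff]
  intro h
  constructor
  · intro hh
    have : (MulAut.conj x).toMonoidHom h ∈ (Subgroup.zpowers g).map (MulAut.conj x).toMonoidHom :=
      Subgroup.mem_map_of_mem _ hh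
    rw [heq] at this
    simpa using this
  · intro hh
    rw [← heq] at hh
    obtain ⟨y, hy, hyx⟩ := Subgroup.mem_map.1 hh
    have : y = h := by
      have h2 : x * y * x⁻¹ = x * h * x⁻¹ := by simpa using hyx
      have h3 := mul_right_cancel h2
      exact mul_left_cancel h3
    rwa [← this]

/-- **NC** (`N_G(⟨g⟩)/C_G(g)` has order 2).  Mathlib only. -/
theorem nc {G : Type*} [Group G] [Finite G] (P : Sylow 2 G) (n : ℕ) (hn : 1 ≤ n)
    (hP : Nat.card P = 2 ^ n) (g t : G) (hg : orderOf g = 2 ^ (n - 1))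
    (ht : t * g * t⁻¹ ∈ Subgroup.zpowers g) (hne : t * g * t⁻¹ ≠ g) :
    (∀ x : G, x * g * x⁻¹ ∈ Subgroup.zpowers g →
        x * g * x⁻¹ = g ∨ x * g * x⁻¹ = t * g * t⁻¹) ∧
      2 ∣ (Subgroup.centralizer ({g} : Set G)).index := by
  classical
  haveI : Fact (Nat.Prime 2) := ⟨Nat.prime_two⟩
  set H : Subgroup G := Subgroup.zpowers g with hH
  set N : Subgroup G := Subgroup.normalizer (H : Set G) with hN
  set φ : N →* MulAut H := H.normalizerMonoidHom with hφ
  have hcardH : Nat.card H = 2 ^ (n - 1) := by rw [hH, Nat.card_zpowers, hg]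
  -- centralizer H = centralizer {g}
  have hcent : Subgroup.centralizer (H : Set G) = Subgroup.centralizer ({g} : Set G) := by
    rw [hH, Subgroup.zpowers_eq_closure, Subgroup.centralizer_closure]
  -- H ≤ centralizer H
  have hHle : H ≤ Subgroup.centralizer (H : Set G) := by
    rw [hcent]
    intro x hx
    rw [hH, Subgroup.mem_zpowers_iff] at hx
    obtain ⟨j, rfl⟩ := hx
    rw [Subgroup.mem_centralizer_iff]
    intro y hy
    rw [Set.mem_singleton_iff] at hy
    subst hy
    exact (Commute.zpow_right (Commute.refl y) j).eq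
  have hCleN : Subgroup.centralizer (H : Set G) ≤ N := by
    intro x hx
    rw [hN, Subgroup.mem_normalizer_iff]
    intro h
    rw [Subgroup.mem_centralizer_iff] at hx
    constructor
    · intro hh
      have := hx h hh
      rw [← this, mul_inv_cancel_right]; exact hh
    · intro hh
      have h1 := hx _ hh
      -- x * h * x⁻¹ commutes with x: (x h x⁻¹) x = x (x h x⁻¹) → h = x h x⁻¹
      have h2 : h = x * h * x⁻¹ := by
        have : x * h * x⁻¹ * x = x * (x * h * x⁻¹) := h1
        rw [inv_mul_cancel_right] at this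
        have := mul_left_cancel this
        exact this
      rw [h2]; exact hh
  -- kernel
  have hker : φ.ker = (Subgroup.centralizer (H : Set G)).subgroupOf N :=
    Subgroup.normalizerMonoidHom_ker H
  have hcardker : Nat.card φ.ker = Nat.card (Subgroup.centralizer (H : Set G)) := by
    rw [hker]
    exact Nat.card_congr (Subgroup.subgroupOfEquivOfLe hCleN).toEquiv
  -- card of range is a power of 2
  have hrange_dvd : Nat.card φ.range ∣ 2 ^ (n - 1) := by
    have h1 : Nat.card φ.range ∣ Nat.card (MulAut H) := Subgroup.card_subgroup_dvd_card _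
    haveI : IsCyclic H := by rw [hH]; infer_instance
    have h2 : Nat.card (MulAut H) = Nat.totient (Nat.card H) := IsCyclic.card_mulAut H
    rw [h2, hcardH] at h1
    refine h1.trans ?_
    rcases Nat.eq_zero_or_pos (n - 1) with h0 | h0
    · rw [h0]; simp
    · rw [Nat.totient_prime_pow Nat.prime_two h0]
      have : 2 ^ (n - 1) = 2 ^ (n - 1 - 1) * 2 := by
        rw [← pow_succ]; congr 1; omega
      rw [this]
      exact Nat.mul_dvd_mul dvd_rfl (by norm_num)
  obtain ⟨j, hj, hrj⟩ := (Nat.dvd_prime_pow Nat.prime_two).1 hrange_dvd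
  -- card N = card ker * card range
  have hcardN : Nat.card φ.ker * Nat.card φ.range = Nat.card N := by
    rw [← Subgroup.index_ker]; exact Subgroup.card_mul_index _
  -- 2^(n-1) ∣ card centralizer
  have hdvdC : 2 ^ (n - 1) ∣ Nat.card (Subgroup.centralizer (H : Set G)) := by
    rw [← hcardH]; exact Subgroup.card_dvd_of_le hHle
  have hdvdG : 2 ^ (n - 1 + j) ∣ Nat.card G := by
    have h1 : 2 ^ (n - 1 + j) ∣ Nat.card N := by
      rw [← hcardN, hcardker, hrj, pow_add]
      exact Nat.mul_dvd_mul hdvdC dvd_rfl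
    exact h1.trans (Subgroup.card_subgroup_dvd_card N)
  have hfac : (Nat.card G).factorization 2 = n := by
    have h1 := P.card_eq_multiplicity
    rw [hP] at h1
    exact (Nat.pow_right_injective le_rfl h1).symm
  have hjle : j ≤ 1 := by
    have h1 : n - 1 + j ≤ (Nat.card G).factorization 2 :=
      (Nat.Prime.pow_dvd_iff_le_factorization Nat.prime_two Nat.card_pos.ne').1 hdvdG
    rw [hfac] at h1
    omega
  -- t ∈ N with φ t ≠ 1
  have htN : t ∈ N := mem_normalizer_zpowers_of_conj_mem g t ht
  have hgH : g ∈ H := Subgroup.mem_zpowers g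
  have happ : ∀ (x : G) (hx : x ∈ N), ((φ ⟨x, hx⟩) ⟨g, hgH⟩ : G) = x * g * x⁻¹ := by
    intro x hx
    rfl
  have hφt : φ ⟨t, htN⟩ ≠ 1 := by
    intro h
    apply hne
    rw [← happ t htN, h]
    rfl
  -- card range = 2
  have hr2 : Nat.card φ.range = 2 := by
    rw [hrj]
    have hj0 : j ≠ 0 := by
      intro hj0
      rw [hj0, pow_zero] at hrj
      have hsub : Subsingleton φ.range := (Nat.card_eq_one_iff_unique.1 hrj).1
      apply hφt
      have := Subsingleton.elim (⟨φ ⟨t, htN⟩, ⟨_, rfl⟩⟩ : φ.range) 1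
      exact congrArg Subtype.val this
    have : j = 1 := by omega
    rw [this, pow_one]
  refine ⟨?_, ?_⟩
  · intro x hx
    have hxN : x ∈ N := mem_normalizer_zpowers_of_conj_mem g x hx
    by_cases h1 : φ ⟨x, hxN⟩ = 1
    · left
      rw [← happ x hxN, h1]
      rfl
    · right
      obtain ⟨y, -, hy⟩ := (Nat.card_eq_two_iff' (1 : φ.range)).1 hr2
      have hx' : (⟨φ ⟨x, hxN⟩, ⟨_, rfl⟩⟩ : φ.range) = y := hy _ (by
        intro h; apply h1; exact congrArg Subtype.val h)
      have ht' : (⟨φ ⟨t, htN⟩, ⟨_, rfl⟩⟩ : φ.range) = y := hy _ (by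
        intro h; apply hφt; exact congrArg Subtype.val h)
      have hxt : φ ⟨x, hxN⟩ = φ ⟨t, htN⟩ := congrArg Subtype.val (hx'.trans ht'.symm)
      rw [← happ x hxN, ← happ t htN, hxt]
  · have h1 : (Subgroup.centralizer (H : Set G)).relIndex N = 2 := by
      rw [Subgroup.relIndex, ← hker, Subgroup.index_ker, hr2]
    have h2 := Subgroup.relIndex_mul_index hCleN
    rw [h1, hcent] at h2
    exact ⟨N.index, h2.symm⟩

end Cfsg.Agent.Lib.H8.FV
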