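import Mathlib
import Cfsg.Prelude.Def_Blocks
import Cfsg.Prelude.Def_Characters
import Cfsg.Agent.Lib.H23.CentralMul
import Cfsg.Agent.Lib.H23.FullyRamified
import Cfsg.Agent.Lib.H24.CharBasic

/-!
# S4561 piece BOUND (helper8): `χ(1)² ≤ |G : Z(G)|` for an irreducible character `χ`.
-/

set_option autoImplicit false

namespace Cfsg.Agent.Lib.H8.GAG

open Cfsg
open scoped ComplexConjugate

/-- `Σ_g ‖χ(g)‖² = |G|` for an irreducible character. -/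
theorem sum_normSq_irr {G : Type*} [Group G] [Fintype G] (χ : IrrCharacter G) :
    ∑ g : G, ‖(χ : G → ℂ) g‖ ^ 2 = (Nat.card G : ℝ) := by
  have h := Cfsg.Agent.Lib.H24.irr_orthonormal χ χ
  rw [if_pos rfl] at h
  unfold classInner at h
  have hG : (Nat.card G : ℂ) ≠ 0 := by exact_mod_cast Nat.card_pos.ne'
  have h2 : ∑ g : G, (χ : G → ℂ) g * conj ((χ : G → ℂ) g) = (Nat.card G : ℂ) := by
    field_simp at h
    exact h
  have h3 : ∀ g : G, (χ : G → ℂ) g * conj ((χ : G → ℂ) g) = ((‖(χ : G → ℂ) g‖ ^ 2 : ℝ) : ℂ) := by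
    intro g
    rw [Complex.mul_conj, Complex.normSq_eq_norm_sq]
  simp only [h3] at h2
  rw [← Complex.ofReal_sum] at h2
  exact_mod_cast h2

/-- `‖χ(z)‖ = ‖χ(1)‖` for central `z`. -/
theorem norm_irr_center {G : Type*} [Group G] [Fintype G] (χ : IrrCharacter G) {z : G}
    (hz : z ∈ Subgroup.center G) : ‖(χ : G → ℂ) z‖ ^ 2 = ‖(χ : G → ℂ) 1‖ ^ 2 := by
  have hS := sum_normSq_irr χ
  have hpos : (0 : ℝ) < Nat.card G := by exact_mod_cast Nat.card_pos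
  -- translation invariance
  have h1 : ∑ g : G, ‖(χ : G → ℂ) (g * z)‖ ^ 2 = ∑ g : G, ‖(χ : G → ℂ) g‖ ^ 2 :=
    Equiv.sum_comp (Equiv.mulRight z) (fun g => ‖(χ : G → ℂ) g‖ ^ 2)
  have h2 : ∀ g : G, ‖(χ : G → ℂ) (g * z)‖ ^ 2 * ‖(χ : G → ℂ) 1‖ ^ 2 =
      ‖(χ : G → ℂ) z‖ ^ 2 * ‖(χ : G → ℂ) g‖ ^ 2 := by
    intro g
    have := congrArg (fun c : ℂ => ‖c‖ ^ 2) (Cfsg.Agent.Lib.H23.irr_mul_center χ g hz)
    simpa [norm_mul, mul_pow] using this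
  have h3 : (∑ g : G, ‖(χ : G → ℂ) (g * z)‖ ^ 2) * ‖(χ : G → ℂ) 1‖ ^ 2 =
      ‖(χ : G → ℂ) z‖ ^ 2 * ∑ g : G, ‖(χ : G → ℂ) g‖ ^ 2 := by
    rw [Finset.sum_mul, Finset.mul_sum]
    exact Finset.sum_congr rfl (fun g _ => h2 g)
  rw [h1, hS] at h3
  have h4 : (Nat.card G : ℝ) * (‖(χ : G → ℂ) 1‖ ^ 2 - ‖(χ : G → ℂ) z‖ ^ 2) = 0 := by linarith
  rcases mul_eq_zero.1 h4 with h | h
  · exact absurd h hpos.ne'
  · linarith

/-- **BOUND**: `χ(1)² ≤ |G : Z(G)|`. -/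
theorem charDegree_sq_le_index_center {G : Type*} [Group G] [Finite G] (χ : IrrCharacter G) :
    (charDegree (χ : G → ℂ)) ^ 2 ≤ (Subgroup.center G).index := by
  classical
  have : Fintype G := Fintype.ofFinite G
  set d := charDegree (χ : G → ℂ) with hd
  have hd1 : ((d : ℕ) : ℂ) = (χ : G → ℂ) 1 := Cfsg.Agent.Lib.H24.charDegree_irr χ
  have hn1 : ‖(χ : G → ℂ) 1‖ ^ 2 = (d : ℝ) ^ 2 := by
    rw [← hd1]
    simp
  have h3 := Cfsg.Agent.Lib.H23.sum_normSq_subgroup_le (Subgroup.center G) (χ : G → ℂ)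
  rw [sum_normSq_irr χ] at h3
  have h4 : ∑ n : Subgroup.center G, ‖(χ : G → ℂ) n‖ ^ 2 =
      (Nat.card (Subgroup.center G) : ℝ) * (d : ℝ) ^ 2 := by
    rw [Finset.sum_congr rfl (fun (n : Subgroup.center G) _ => (norm_irr_center χ n.2).trans hn1),
      Finset.sum_const, Finset.card_univ, Nat.card_eq_fintype_card, nsmul_eq_mul]
  rw [h4] at h3
  have h5 : Nat.card (Subgroup.center G) * d ^ 2 ≤
      Nat.card (Subgroup.center G) * (Subgroup.center G).index := by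
    rw [Subgroup.card_mul_index]
    exact_mod_cast h3
  exact Nat.le_of_mul_le_mul_left h5 Nat.card_pos

end Cfsg.Agent.Lib.H8.GAG
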