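import Mathlib
import Cfsg.Prelude.Def_SporadicCombinatorics

/-!
# The hexacode made explicit over any field of order 4   (helper8)
-/

set_option autoImplicit false

namespace Cfsg.Agent.Lib.H8.Hexa
open Cfsg

/-- addition table of the field of order 4 on indices `0,1,ω,ω²` -/
def addT (a b : Fin 4) : Fin 4 := ![![0, 1, 2, 3], ![1, 0, 3, 2], ![2, 3, 0, 1], ![3, 2, 1, 0]] a b
/-- multiplication table -/
def mulT (a b : Fin 4) : Fin 4 := ![![0, 0, 0, 0], ![0, 1, 2, 3], ![0, 2, 3, 1], ![0, 3, 1, 2]] a b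
def u1 : Fin 6 → Fin 4 := ![2, 3, 3, 2, 3, 2]
def u2 : Fin 6 → Fin 4 := ![3, 2, 2, 3, 3, 2]
def u3 : Fin 6 → Fin 4 := ![3, 2, 3, 2, 2, 3]

/-- the index word with coefficient indices `t` -/
def cw (t : Fin 4 × Fin 4 × Fin 4) (m : Fin 6) : Fin 4 :=
  addT (addT (mulT t.1 (u1 m)) (mulT t.2.1 (u2 m))) (mulT t.2.2 (u3 m))

/-- index weight -/
def wtc (t : Fin 4 × Fin 4 × Fin 4) : ℕ := (Finset.univ.filter fun m => cw t m ≠ 0).card

theorem cw_injective : ∀ t t' : Fin 4 × Fin 4 × Fin 4, (∀ m, cw t m = cw t' m) → t = t' := by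
  decide +kernel

theorem wtc_cases : ∀ t : Fin 4 × Fin 4 × Fin 4, t = 0 ∨ wtc t = 4 ∨ wtc t = 6 := by
  decide +kernel

theorem wtc_count4 : (Finset.univ.filter fun t : Fin 4 × Fin 4 × Fin 4 => wtc t = 4).card = 45 := by
  decide +kernel

theorem wtc_count6 : (Finset.univ.filter fun t : Fin 4 × Fin 4 × Fin 4 => wtc t = 6).card = 18 := by
  decide +kernel

theorem cw_zero : ∀ m, cw 0 m = 0 := by decide

section
variable {F : Type*} [Field F] (ω : F)

/-- the enumeration `0, 1, ω, ω²` -/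
def e : Fin 4 → F := ![0, 1, ω, ω ^ 2]

variable {ω}
variable (hω : ω ^ 2 + ω + 1 = 0) (h2 : (2 : F) = 0)
include hω h2

theorem e_add (a b : Fin 4) : e ω (addT a b) = e ω a + e ω b := by
  fin_cases a <;> fin_cases b
  · show (0 : F) = (0 : F) + (0 : F)
    linear_combination (0) * hω + (0) * h2
  · show (1 : F) = (0 : F) + (1 : F)
    linear_combination (0) * hω + (0) * h2
  · show ω = (0 : F) + ω
    linear_combination (0) * hω + (0) * h2
  · show ω ^ 2 = (0 : F) + ω ^ 2
    linear_combination (0) * hω + (0) * h2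
  · show (1 : F) = (1 : F) + (0 : F)
    linear_combination (0) * hω + (0) * h2
  · show (0 : F) = (1 : F) + (1 : F)
    linear_combination (0) * hω + ((-1)) * h2
  · show ω ^ 2 = (1 : F) + ω
    linear_combination ((1)) * hω + ((-1) + (-1) * ω) * h2
  · show ω = (1 : F) + ω ^ 2
    linear_combination ((-1)) * hω + ((1) * ω) * h2
  · show ω = ω + (0 : F)
    linear_combination (0) * hω + (0) * h2
  · show ω ^ 2 = ω + (1 : F)
    linear_combination ((1)) * hω + ((-1) + (-1) * ω) * h2
  · show (0 : F) = ω + ω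
    linear_combination (0) * hω + ((-1) * ω) * h2
  · show (1 : F) = ω + ω ^ 2
    linear_combination ((-1)) * hω + ((1)) * h2
  · show ω ^ 2 = ω ^ 2 + (0 : F)
    linear_combination (0) * hω + (0) * h2
  · show ω = ω ^ 2 + (1 : F)
    linear_combination ((-1)) * hω + ((1) * ω) * h2
  · show (1 : F) = ω ^ 2 + ω
    linear_combination ((-1)) * hω + ((1)) * h2
  · show (0 : F) = ω ^ 2 + ω ^ 2
    linear_combination ((-2)) * hω + ((1) + (1) * ω) * h2

theorem e_mul (a b : Fin 4) : e ω (mulT a b) = e ω a * e ω b := by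
  fin_cases a <;> fin_cases b
  · show (0 : F) = (0 : F) * (0 : F)
    linear_combination (0) * hω + (0) * h2
  · show (0 : F) = (0 : F) * (1 : F)
    linear_combination (0) * hω + (0) * h2
  · show (0 : F) = (0 : F) * ω
    linear_combination (0) * hω + (0) * h2
  · show (0 : F) = (0 : F) * ω ^ 2
    linear_combination (0) * hω + (0) * h2
  · show (0 : F) = (1 : F) * (0 : F)
    linear_combination (0) * hω + (0) * h2
  · show (1 : F) = (1 : F) * (1 : F)
    linear_combination (0) * hω + (0) * h2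
  · show ω = (1 : F) * ω
    linear_combination (0) * hω + (0) * h2
  · show ω ^ 2 = (1 : F) * ω ^ 2
    linear_combination (0) * hω + (0) * h2
  · show (0 : F) = ω * (0 : F)
    linear_combination (0) * hω + (0) * h2
  · show ω = ω * (1 : F)
    linear_combination (0) * hω + (0) * h2
  · show ω ^ 2 = ω * ω
    linear_combination (0) * hω + (0) * h2
  · show (1 : F) = ω * ω ^ 2
    linear_combination ((1) + (-1) * ω) * hω + (0) * h2
  · show (0 : F) = ω ^ 2 * (0 : F)
    linear_combination (0) * hω + (0) * h2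
  · show ω ^ 2 = ω ^ 2 * (1 : F)
    linear_combination (0) * hω + (0) * h2
  · show (1 : F) = ω ^ 2 * ω
    linear_combination ((1) + (-1) * ω) * hω + (0) * h2
  · show ω = ω ^ 2 * ω ^ 2
    linear_combination ((1) * ω + (-1) * ω ^ 2) * hω + (0) * h2

theorem e_injective : Function.Injective (e ω) := by
  have h1 : (1 : F) ≠ 0 := one_ne_zero
  have hw0 : ω ≠ 0 := by
    rintro rfl
    apply h1
    linear_combination hω
  have hw1 : ω ≠ 1 := by
    rintro rfl
    apply h1
    linear_combination hω - h2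
  have hw2 : ω ^ 2 = ω + 1 := by linear_combination hω - (ω + 1) * h2
  have hq0 : ω ^ 2 ≠ 0 := pow_ne_zero 2 hw0
  have hq1 : ω ^ 2 ≠ 1 := by
    rw [hw2]; intro h; apply hw0; linear_combination h
  have hqw : ω ^ 2 ≠ ω := by
    rw [hw2]; intro h; apply h1; linear_combination h
  intro a b hab
  fin_cases a <;> fin_cases b
  · rfl
  · exact absurd (show (0 : F) = 1 from hab) h1.symm
  · exact absurd (show (0 : F) = ω from hab) hw0.symm
  · exact absurd (show (0 : F) = ω ^ 2 from hab) hq0.symm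
  · exact absurd (show (1 : F) = 0 from hab) h1
  · rfl
  · exact absurd (show (1 : F) = ω from hab) hw1.symm
  · exact absurd (show (1 : F) = ω ^ 2 from hab) hq1.symm
  · exact absurd (show ω = 0 from hab) hw0
  · exact absurd (show ω = 1 from hab) hw1
  · rfl
  · exact absurd (show ω = ω ^ 2 from hab) hqw.symm
  · exact absurd (show ω ^ 2 = 0 from hab) hq0
  · exact absurd (show ω ^ 2 = 1 from hab) hq1
  · exact absurd (show ω ^ 2 = ω from hab) hqw
  · rfl

theorem e_eq_zero_iff (a : Fin 4) : e ω a = 0 ↔ a = 0 := by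
  constructor
  · intro h
    exact e_injective hω h2 (h.trans (rfl : (0 : F) = e ω 0))
  · rintro rfl; rfl

/-- the word with coefficient indices `t` -/
def word (ω : F) (t : Fin 4 × Fin 4 × Fin 4) : Fin 6 → F := fun m => e ω (cw t m)

omit hω h2 in
theorem v1_eq : (![ω, ω ^ 2, ω ^ 2, ω, ω ^ 2, ω] : Fin 6 → F) = fun m => e ω (u1 m) := by
  funext m; fin_cases m <;> rfl

omit hω h2 in
theorem v2_eq : (![ω ^ 2, ω, ω, ω ^ 2, ω ^ 2, ω] : Fin 6 → F) = fun m => e ω (u2 m) := by
  funext m; fin_cases m <;> rfl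

omit hω h2 in
theorem v3_eq : (![ω ^ 2, ω, ω ^ 2, ω, ω, ω ^ 2] : Fin 6 → F) = fun m => e ω (u3 m) := by
  funext m; fin_cases m <;> rfl

theorem word_eq (t : Fin 4 × Fin 4 × Fin 4) (m : Fin 6) :
    e ω t.1 * e ω (u1 m) + e ω t.2.1 * e ω (u2 m) + e ω t.2.2 * e ω (u3 m) = word ω t m := by
  unfold word cw
  rw [e_add hω h2, e_add hω h2, e_mul hω h2, e_mul hω h2, e_mul hω h2]

theorem word_injective : Function.Injective (word ω) := by
  intro t t' h
  apply cw_injective
  intro m
  exact e_injective hω h2 (congrFun h m)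

omit hω h2 in
theorem word_zero : word ω 0 = 0 := by
  funext m
  show e ω (cw 0 m) = 0
  rw [cw_zero]; rfl

theorem wt_word [DecidableEq F] (t : Fin 4 × Fin 4 × Fin 4) :
    (Finset.univ.filter fun i => word ω t i ≠ 0).card = wtc t := by
  unfold wtc
  congr 1
  apply Finset.filter_congr
  intro i _
  exact not_congr (e_eq_zero_iff hω h2 _)

end

section
variable {F : Type*} [Field F] [Fintype F]

theorem two_eq_zero_of_card (hF : Fintype.card F = 4) : (2 : F) = 0 := by
  have h4 : (4 : F) = 0 := by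
    have := card_nsmul_eq_zero (G := F) (x := (1 : F))
    rw [hF] at this
    simpa using this
  have h : (2 : F) ^ 2 = 0 := by rw [← h4]; norm_num
  exact (pow_eq_zero_iff (by norm_num)).mp h

variable {ω : F} (hF : Fintype.card F = 4) (hω : ω ^ 2 + ω + 1 = 0)
include hF hω

theorem e_surjective : Function.Surjective (e ω) :=
  ((Fintype.bijective_iff_injective_and_card (e ω)).mpr
    ⟨e_injective hω (two_eq_zero_of_card hF), by rw [hF]; rfl⟩).2

theorem mem_hexacode_iff (x : Fin 6 → F) : x ∈ hexacode F ω ↔ ∃ t, word ω t = x := by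
  have h2 := two_eq_zero_of_card hF
  unfold hexacode
  rw [Submodule.mem_span_triple, v1_eq, v2_eq, v3_eq]
  constructor
  · rintro ⟨a, b, c, rfl⟩
    obtain ⟨i, rfl⟩ := e_surjective hF hω a
    obtain ⟨j, rfl⟩ := e_surjective hF hω b
    obtain ⟨k, rfl⟩ := e_surjective hF hω c
    refine ⟨(i, j, k), ?_⟩
    funext m
    rw [← word_eq hω h2]
    simp only [Pi.add_apply, Pi.smul_apply, smul_eq_mul]
  · rintro ⟨⟨i, j, k⟩, rfl⟩
    refine ⟨e ω i, e ω j, e ω k, ?_⟩
    funext m
    rw [← word_eq hω h2]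
    simp only [Pi.add_apply, Pi.smul_apply, smul_eq_mul]

theorem card_hexacode : Nat.card ↥(hexacode F ω) = 64 := by
  have h2 := two_eq_zero_of_card hF
  have hbij : Function.Bijective
      (fun t : Fin 4 × Fin 4 × Fin 4 =>
        (⟨word ω t, (mem_hexacode_iff hF hω _).mpr ⟨t, rfl⟩⟩ : ↥(hexacode F ω))) := by
    constructor
    · intro t t' h
      exact word_injective hω h2 (congrArg Subtype.val h)
    · rintro ⟨x, hx⟩
      obtain ⟨t, rfl⟩ := (mem_hexacode_iff hF hω x).mp hx
      exact ⟨t, rfl⟩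
  rw [← Nat.card_congr (Equiv.ofBijective _ hbij), Nat.card_eq_fintype_card]
  rfl

theorem ncard_hexacode_filter (P : (Fin 6 → F) → Prop) [DecidablePred P] :
    {x : Fin 6 → F | x ∈ hexacode F ω ∧ P x}.ncard
      = (Finset.univ.filter (fun t : Fin 4 × Fin 4 × Fin 4 => P (word ω t))).card := by
  have h2 := two_eq_zero_of_card hF
  have : {x : Fin 6 → F | x ∈ hexacode F ω ∧ P x}
      = word ω '' ((Finset.univ.filter (fun t : Fin 4 × Fin 4 × Fin 4 => P (word ω t)) :
          Finset (Fin 4 × Fin 4 × Fin 4)) : Set (Fin 4 × Fin 4 × Fin 4)) := by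
    ext x
    constructor
    · rintro ⟨hx, hP⟩
      obtain ⟨t, rfl⟩ := (mem_hexacode_iff hF hω x).mp hx
      refine ⟨t, ?_, rfl⟩
      rw [Finset.mem_coe, Finset.mem_filter]
      exact ⟨Finset.mem_univ _, hP⟩
    · rintro ⟨t, ht, rfl⟩
      rw [Finset.mem_coe, Finset.mem_filter] at ht
      exact ⟨(mem_hexacode_iff hF hω _).mpr ⟨t, rfl⟩, ht.2⟩
  rw [this, Set.ncard_image_of_injective _ (word_injective hω h2), Set.ncard_coe_finset]

end

end Cfsg.Agent.Lib.H8.Hexa
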