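import Cfsg.Agent.Lib.H14.SuzM.Base
import Cfsg.Agent.Lib.H17.M22M.AbsTools
import Cfsg.Agent.Lib.H28.StemTools

set_option autoImplicit false
set_option maxRecDepth 100000

/-!
# S2048 (helper14 architect), piece UC: `core_of_cert`

The certificate applied to a stem extension of `Suz` in which `G₂(4)` lifts isomorphically.
-/

namespace Cfsg.Agent.Lib.H8.SuzM

open Cfsg.Agent.Lib.H14.SuzM
open scoped commutatorElement

/-- the relator words of helper17's list are trivial under `sg` -/
theorem uc_wv_sg_relW {w : List ℕ} (hw : w ∈ Cfsg.Agent.Lib.H17.SuzGlue.relW) : wv sg w = 1 := by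
  have h := Cfsg.Agent.Lib.H17.SuzGlue.relW_trivial w hw
  rw [List.map_map] at h
  exact h

theorem uc_sg_mul_self (i : ℕ) : sg i * sg i = 1 :=
  Cfsg.Agent.Lib.H17.SuzGlue.of_mul_self _

/-- the braid relation between the letters `1` and `6` -/
theorem uc_sg_braid : sg 1 * sg 6 * sg 1 = sg 6 * sg 1 * sg 6 := by
  have h : wv sg [1, 6, 1, 6, 1, 6] = 1 := uc_wv_sg_relW (by decide)
  simp only [wv_cons, wv_nil, mul_one] at h
  -- h : sg 1 * (sg 6 * (sg 1 * (sg 6 * (sg 1 * sg 6)))) = 1
  have h1 := uc_sg_mul_self 1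
  have h6 := uc_sg_mul_self 6
  have e1 : (sg 6 * sg 1 * sg 6)⁻¹ = sg 6 * sg 1 * sg 6 := by
    rw [inv_eq_iff_mul_eq_one]
    calc sg 6 * sg 1 * sg 6 * (sg 6 * sg 1 * sg 6)
        = sg 6 * sg 1 * (sg 6 * sg 6) * sg 1 * sg 6 := by group
      _ = sg 6 * (sg 1 * sg 1) * sg 6 := by rw [h6]; group
      _ = 1 := by rw [h1, mul_one, h6]
  rw [← e1, eq_inv_iff_mul_eq_one]
  calc sg 1 * sg 6 * sg 1 * (sg 6 * sg 1 * sg 6)
      = sg 1 * (sg 6 * (sg 1 * (sg 6 * (sg 1 * sg 6)))) := by group
    _ = 1 := h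

section generic

variable {E : Type*} [Group E]

/-- words in letters `< 6` have values in `HK` -/
theorem uc_wv_mem_HK (g : ℕ → E) (w : List ℕ) (hw : ∀ x ∈ w, x < 6) : wv g w ∈ HK g := by
  induction w with
  | nil => rw [wv_nil]; exact Subgroup.one_mem _
  | cons x w ih =>
    rw [wv_cons]
    refine Subgroup.mul_mem _ ?_ (ih (fun y hy => hw y (List.mem_cons_of_mem _ hy)))
    have hx : x < 6 := hw x (List.mem_cons_self)
    apply Subgroup.subset_closure
    interval_cases x <;> simp

/-- an involution `a` and an element `b` with `a b a = b a b`: `b` is an involution and `(ab)^3 = 1` -/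
theorem uc_braid_invol {a b : E} (ha : a * a = 1) (hbr : a * b * a = b * a * b) :
    b * b = 1 ∧ a * (b * (a * (b * (a * b)))) = 1 := by
  have hainv : a⁻¹ = a := inv_eq_of_mul_eq_one_right ha
  have hb : b = (a * b) * a * (a * b)⁻¹ := by
    have : (a * b) * a * (a * b)⁻¹ = (a * b * a) * b⁻¹ * a⁻¹ := by group
    rw [this, hbr]; group
  have hbb : b * b = 1 := by
    have h1 : b * b = (a * b) * (a * a) * (a * b)⁻¹ := by
      calc b * b = ((a * b) * a * (a * b)⁻¹) * ((a * b) * a * (a * b)⁻¹) := by rw [← hb]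
        _ = (a * b) * (a * a) * (a * b)⁻¹ := by group
    rw [h1, ha]; group
  refine ⟨hbb, ?_⟩
  calc a * (b * (a * (b * (a * b)))) = (a * b * a) * (b * a * b) := by group
    _ = (b * a * b) * (b * a * b) := by rw [hbr]
    _ = b * a * (b * b) * a * b := by group
    _ = b * (a * a) * b := by rw [hbb]; group
    _ = 1 := by rw [ha, mul_one, hbb]

end generic

/-- **UC**. -/
theorem core_of_cert (exactL relL : List (List ℕ))
    (hex : ∀ w ∈ exactL, (∀ x ∈ w, x < 6) ∨ w = [1, 6, 1, 6, 1, 6])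
    (hW : ∀ w ∈ exactL ++ relL, wv sg w = 1)
    (hmain : ∀ (E : Type) [Group E] (g : ℕ → E) (A : Subgroup E), Setting7 g exactL relL A →
      ∃ ζ : E, ζ ∈ A ∧ ζ ^ 3 = 1 ∧ Finite (E ⧸ HK g) ∧
        Nat.card (E ⧸ HK g) ≤ 1782 * Nat.card (Subgroup.zpowers ζ))
    (hfin : Finite G) (hidx : (KS : Subgroup G).index = 1782)
    (E : Type) [Group E] [Finite E] (τ : E →* G) (hτ : Cfsg.IsStemExtension τ)
    (K' : Subgroup E) (hK : K' ⊓ τ.ker = ⊥) (hKK : K'.map τ = KS) : Nat.card τ.ker ∣ 3 := by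
  obtain ⟨hs, hc, hd⟩ := hτ
  have hdisj : ∀ x ∈ K', τ x = 1 → x = 1 := by
    intro x hx hx1
    have h : x ∈ K' ⊓ τ.ker := ⟨hx, MonoidHom.mem_ker.mpr hx1⟩
    rw [hK] at h
    exact Subgroup.mem_bot.mp h
  have hsgK : ∀ i, i < 6 → sg i ∈ KS := by
    intro i hi
    show sg i ∈ Subgroup.closure {sg 0, sg 1, sg 2, sg 3, sg 4, sg 5}
    apply Subgroup.subset_closure
    interval_cases i <;> simp
  -- lifts of all letters
  have key : ∀ i : ℕ, ∃ x : E, τ x = sg i ∧ (i < 6 → x ∈ K') := by
    intro i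
    by_cases hi : i < 6
    · have h1 : sg i ∈ K'.map τ := by rw [hKK]; exact hsgK i hi
      obtain ⟨x, hx, hxi⟩ := Subgroup.mem_map.mp h1
      exact ⟨x, hxi, fun _ => hx⟩
    · obtain ⟨x, hx⟩ := hs (sg i)
      exact ⟨x, hx, fun h => absurd h hi⟩
  choose g0 hg0τ hg0K using key
  -- the normalised lift of the seventh letter
  set y : E := g0 6 with hy
  set c : E := g0 1 * y * g0 1 * (y * g0 1 * y)⁻¹ with hcdef
  have hcker : c ∈ τ.ker := by
    rw [MonoidHom.mem_ker, hcdef, map_mul, map_inv, map_mul, map_mul, map_mul, map_mul, hg0τ 1, hy,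
      hg0τ 6, uc_sg_braid, mul_inv_cancel]
  have hccen : ∀ x : E, c * x = x * c := fun x =>
    (Subgroup.mem_center_iff.mp (hc hcker) x).symm
  set g6 : E := y * c with hg6
  have hg6τ : τ g6 = sg 6 := by
    rw [hg6, map_mul, MonoidHom.mem_ker.mp hcker, mul_one, hy, hg0τ 6]
  have hinv0 : ∀ i, i < 6 → g0 i * g0 i = 1 := by
    intro i hi
    apply hdisj _ (K'.mul_mem (hg0K i hi) (hg0K i hi))
    rw [map_mul, hg0τ i, uc_sg_mul_self]
  have hbr : g0 1 * g6 * g0 1 = g6 * g0 1 * g6 := by
    have e1 : g0 1 * y * g0 1 = c * (y * g0 1 * y) := by rw [hcdef]; group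
    have eL : g0 1 * g6 * g0 1 = y * g0 1 * y * c * c := by
      calc g0 1 * g6 * g0 1 = g0 1 * y * (c * g0 1) := by rw [hg6]; group
        _ = g0 1 * y * (g0 1 * c) := by rw [hccen]
        _ = (g0 1 * y * g0 1) * c := by group
        _ = c * (y * g0 1 * y) * c := by rw [e1]
        _ = (y * g0 1 * y) * c * c := by rw [hccen (y * g0 1 * y)]
        _ = y * g0 1 * y * c * c := by group
    have eR : g6 * g0 1 * g6 = y * g0 1 * y * c * c := by
      calc g6 * g0 1 * g6 = y * (c * g0 1) * (y * c) := by rw [hg6]; group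
        _ = y * (g0 1 * c) * (y * c) := by rw [hccen]
        _ = y * g0 1 * (c * y) * c := by group
        _ = y * g0 1 * (y * c) * c := by rw [hccen y]
        _ = y * g0 1 * y * c * c := by group
    rw [eL, eR]
  obtain ⟨hg6inv, hbraid6⟩ := uc_braid_invol (hinv0 1 (by norm_num)) hbr
  -- the assignment
  set g : ℕ → E := fun i => if i = 6 then g6 else g0 i with hgdef
  have hg_lt : ∀ i, i < 6 → g i = g0 i := by
    intro i hi
    have : i ≠ 6 := by omega
    simp [hgdef, this]
  have hg_6 : g 6 = g6 := by simp [hgdef]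
  have hgτ : ∀ i, τ (g i) = sg i := by
    intro i
    by_cases hi : i = 6
    · subst hi; rw [hg_6, hg6τ]
    · simp only [hgdef, if_neg hi]; exact hg0τ i
  have hgK : ∀ i, i < 6 → g i ∈ K' := fun i hi => by rw [hg_lt i hi]; exact hg0K i hi
  have hHK : HK g ≤ K' := by
    unfold HK
    rw [Subgroup.closure_le]
    intro x hx
    simp only [Set.mem_insert_iff, Set.mem_singleton_iff] at hx
    rcases hx with rfl | rfl | rfl | rfl | rfl | rfl
    · exact hgK 0 (by norm_num)
    · exact hgK 1 (by norm_num)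
    · exact hgK 2 (by norm_num)
    · exact hgK 3 (by norm_num)
    · exact hgK 4 (by norm_num)
    · exact hgK 5 (by norm_num)
  have hτwv : ∀ w : List ℕ, τ (wv g w) = wv sg w := by
    intro w
    rw [map_wv]
    congr 1
    funext x
    exact hgτ x
  have S7 : Setting7 g exactL relL τ.ker :=
    { central := hc
      disj := fun x hx hxA => hdisj x (hHK hx) (MonoidHom.mem_ker.mp hxA)
      invol := by
        intro i hi
        by_cases h6 : i = 6
        · subst h6; rw [hg_6]; exact hg6inv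
        · have hi6 : i < 6 := by omega
          rw [hg_lt i hi6]; exact hinv0 i hi6
      exact := by
        intro w hw
        rcases hex w hw with h | rfl
        · apply hdisj _ (hHK (uc_wv_mem_HK g w h))
          rw [hτwv]
          exact hW w (List.mem_append_left _ hw)
        · simp only [wv_cons, wv_nil, mul_one]
          rw [hg_6, hg_lt 1 (by norm_num)]
          exact hbraid6
      rel := by
        intro w hw
        rw [MonoidHom.mem_ker, hτwv]
        exact hW w (List.mem_append_right _ hw)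
      gen := by
        apply Cfsg.Agent.Lib.H17.M22M.closure_lift_eq_top τ hc hd
        rw [eq_top_iff, ← Cfsg.Agent.Lib.H17.SuzGlue.closure_gens]
        apply Subgroup.closure_mono
        rintro _ ⟨x, hx, rfl⟩
        exact ⟨g x, ⟨x, hx, rfl⟩, hgτ x⟩ }
  obtain ⟨ζ, hζA, hζ3, hfinQ, hq⟩ := hmain E g τ.ker S7
  -- counting
  have hcardHK : Nat.card ↥(HK g) = Nat.card ↥(KS : Subgroup G) := by
    let ρ : ↥(HK g) →* G := τ.comp (HK g).subtype
    have hρinj : Function.Injective ρ := by
      rw [injective_iff_map_eq_one]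
      intro x hx
      exact Subtype.ext (hdisj x.1 (hHK x.2) hx)
    have hrange : ρ.range = KS := by
      show (τ.comp (HK g).subtype).range = KS
      rw [MonoidHom.range_comp, Subgroup.range_subtype]
      show (HK g).map τ = HK sg
      unfold HK
      rw [MonoidHom.map_closure]
      congr 1
      simp only [Set.image_insert_eq, Set.image_singleton, hgτ]
    rw [← hrange]
    exact Nat.card_congr (MonoidHom.ofInjective hρinj).toEquiv
  have h1 : Nat.card E = Nat.card (E ⧸ HK g) * Nat.card ↥(HK g) :=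
    Subgroup.card_eq_card_quotient_mul_card_subgroup _
  have h2 : Nat.card E = Nat.card τ.ker * Nat.card G :=
    Cfsg.Agent.Lib.H28.StemTools.card_eq_card_ker_mul τ hs
  have h3 : Nat.card G = 1782 * Nat.card ↥(KS : Subgroup G) := by
    rw [← hidx, mul_comm]
    exact (Subgroup.card_mul_index _).symm
  have hKSpos : 0 < Nat.card ↥(KS : Subgroup G) := Nat.card_pos
  have h4 : Nat.card τ.ker * (1782 * Nat.card ↥(KS : Subgroup G)) ≤
      Nat.card (Subgroup.zpowers ζ) * (1782 * Nat.card ↥(KS : Subgroup G)) := by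
    calc Nat.card τ.ker * (1782 * Nat.card ↥(KS : Subgroup G)) = Nat.card E := by rw [h2, h3]
      _ = Nat.card (E ⧸ HK g) * Nat.card ↥(KS : Subgroup G) := by rw [h1, hcardHK]
      _ ≤ (1782 * Nat.card (Subgroup.zpowers ζ)) * Nat.card ↥(KS : Subgroup G) :=
          Nat.mul_le_mul_right _ hq
      _ = _ := by ring
  have h5 : Nat.card τ.ker ≤ Nat.card (Subgroup.zpowers ζ) :=
    Nat.le_of_mul_le_mul_right h4 (by positivity)
  have hle : Subgroup.zpowers ζ ≤ τ.ker := by
    rw [Subgroup.zpowers_le]; exact hζA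
  have heq : Subgroup.zpowers ζ = τ.ker := Subgroup.eq_of_le_of_card_ge hle h5
  rw [← heq, Nat.card_zpowers]
  exact orderOf_dvd_of_pow_eq_one hζ3

end Cfsg.Agent.Lib.H8.SuzM
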