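import Mathlib
import Cfsg.Prelude.Def_Characters

/-!
# Brauer–Suzuki–Wall (abstract form, S3282): hypotheses and the interface between the two halves

* `BSWHyp t K s` : the hypotheses of S3282 bundled.
* `invPairs y` : number of ordered pairs of involutions with product `y`.
* `BSWCharData t K s δ q X` : the output of the character-theoretic half (order formula, the
  exceptional "Steinberg-like" character `X`, and the involution-pair counting formula off the
  conjugates of `K`).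
* `BSWConclusion` : the conclusion of S3282.
-/

set_option autoImplicit false

namespace Cfsg.Agent.Lib.H8

open scoped ComplexConjugate

variable {G : Type*} [Group G]

/-- Hypotheses of the abstract Brauer–Suzuki–Wall theorem (S3282). -/
structure BSWHyp (t : G) (K : Subgroup G) (s : G) : Prop where
  ht : orderOf t = 2
  hKab : IsMulCommutative ↥K
  hKH : K ≤ Subgroup.centralizer ({t} : Set G)
  htK : t ∈ K
  hs : orderOf s = 2
  hsH : s ∈ Subgroup.centralizer ({t} : Set G)
  hsK : s ∉ K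
  hH : K ⊔ Subgroup.zpowers s = Subgroup.centralizer ({t} : Set G)
  hCK : K ⊓ Subgroup.centralizer ({s} : Set G) = Subgroup.zpowers t
  hinv : ∀ x ∈ K, s * x * s⁻¹ = x⁻¹
  hTI : ∀ g : G, g ∉ Subgroup.centralizer ({t} : Set G) →
    K ⊓ K.map (MulAut.conj g).toMonoidHom = ⊥
  hconj : ∀ x y : G, orderOf x = 2 → orderOf y = 2 → IsConj x y

/-- Number of ordered pairs of involutions with product `y`. -/
noncomputable def invPairs (y : G) : ℕ :=
  Nat.card {p : G × G // orderOf p.1 = 2 ∧ orderOf p.2 = 2 ∧ p.1 * p.2 = y}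

/-- Output of the character-theoretic half of the proof of S3282. Here `n = |K|`,
`q = 2 n + δ`, `|G| = n q (q + δ)`, `X` is an irreducible character of degree `q` taking the
value `δ` on every conjugate of a non-identity element of `K`, and for `y` not conjugate to a
non-identity element of `K` the number `N(y)` of ordered pairs of involutions with product `y`
satisfies `2 N(y) = q (1 + δ) + (q - 1) conj (X y)`. -/
def BSWCharData (K : Subgroup G) (δ : ℤ) (q : ℕ) (X : G → ℂ) : Prop :=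
  (δ = 1 ∨ δ = -1) ∧ (q : ℤ) = 2 * (Nat.card K : ℤ) + δ ∧
  (Nat.card G : ℤ) = (Nat.card K : ℤ) * q * (q + δ) ∧
  Cfsg.IsIrrCharacter G X ∧ X 1 = (q : ℂ) ∧
  (∀ k ∈ K, k ≠ 1 → ∀ g : G, X (g * k * g⁻¹) = (δ : ℂ)) ∧
  (∀ y : G, (∀ k ∈ K, k ≠ 1 → ∀ g : G, g * k * g⁻¹ ≠ y) →
    2 * (invPairs y : ℂ) = (q : ℂ) * (1 + (δ : ℂ)) + ((q : ℂ) - 1) * conj (X y))

/-- The conclusion of S3282. -/
def BSWConclusion (G : Type*) [Group G] : Prop :=
  ∃ Q D : Subgroup G, 2 * Nat.card G = Nat.card ↥Q * (Nat.card ↥Q + 1) * (Nat.card ↥Q - 1) ∧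
    (∀ x ∈ Q, x ≠ 1 → Subgroup.centralizer ({x} : Set G) = Q) ∧
    IsMulCommutative ↥D ∧ 2 * Nat.card ↥D + 1 = Nat.card ↥Q ∧ Q ⊓ D = ⊥ ∧
    Subgroup.normalizer (Q : Set G) = Q ⊔ D ∧
    ∀ X : Subgroup G, X ≤ D → X ≠ ⊥ →
      Subgroup.normalizer (X : Set G) = Subgroup.normalizer (D : Set G) ∧
      ∃ u : G, orderOf u = 2 ∧ u ∉ D ∧ (∀ d ∈ D, u * d * u⁻¹ = d⁻¹) ∧
        Subgroup.normalizer (D : Set G) = D ⊔ Subgroup.zpowers u

end Cfsg.Agent.Lib.H8
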