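/-
S5663 project (Aschbacher, unitary case), module UM2 (Clifford with a form): an irreducible subgroup
`H` of `GU_n(q)` in no member of class 2 restricts homogeneously to every subgroup it normalises.
Instance of the generic theorem of Lib/H8/AschGM2.lean for `hermForm n F q`.  (helper8)
-/
import Cfsg.Agent.Lib.H8.AschGM2
import Cfsg.Agent.Lib.Lead.AschUDefs
import Cfsg.Agent.Lib.H4.Herm

set_option autoImplicit false
set_option linter.unusedSectionVars false

namespace Cfsg.Agent.Lib.H8.Asch

open Cfsg Cfsg.Geo Cfsg.Agent.Lib.Lead.Asch Cfsg.Agent.Lib.H4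
open scoped MatrixGroups Matrix Kronecker

variable {F : Type*} [Field F] [Fintype F] {n q : ℕ}

/-- When `|F| = q ^ 2` the form `hermForm n F q` is a non-degenerate reflexive sesquilinear form for the
automorphism `x ↦ x ^ q`. -/
theorem exists_isReflSesq_hermForm (hF : Fintype.card F = q ^ 2) :
    ∃ σ : F ≃+* F, (∀ x, σ x = x ^ q) ∧ IsReflSesq σ (hermForm n F q) := by
  obtain ⟨φ, hφ, hφ2⟩ := exists_frob hF
  let σ : F ≃+* F := RingEquiv.ofRingHom φ φ (RingHom.ext hφ2) (RingHom.ext hφ2)
  have hσ : ∀ x, σ x = x ^ q := hφ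
  have hq0 : q ≠ 0 := by
    rintro rfl
    have : 0 < Fintype.card F := Fintype.card_pos
    omega
  refine ⟨σ, hσ, ⟨hermForm_add_left n, hermForm_smul_left n, hermForm_add_right n hF, ?_, ?_, ?_⟩⟩
  · intro c u v
    rw [hermForm_smul_right, hσ]
  · intro u v h
    rw [← hermForm_conj n hF, h, zero_pow hq0]
  · intro w h
    funext i
    have := h (Pi.single i 1)
    simp only [hermForm, Pi.single_apply, ite_mul, one_mul, zero_mul, Finset.sum_ite_eq',
      Finset.mem_univ, if_true] at this
    exact pow_eq_zero_iff hq0 |>.mp this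

/-- **UM2**. -/
theorem exists_homogData_unitary (hF : Fintype.card F = q ^ 2) (hn : 0 < n)
    (H N : Subgroup (GL (Fin n) F)) (hH : H ≤ GU n F q)
    (hirr : ActsIrreducibly (matrixSet H)) (hnt : ¬ UC2 q H) (hNH : N ≤ H)
    (hnorm : NormalizedBy H N) : Nonempty (HomogData N) := by
  obtain ⟨σ, -, hf⟩ := exists_isReflSesq_hermForm (n := n) hF
  rcases exists_homogData_or_decomposition hf hn H N hH hirr hNH hnorm with h | h | h
  · exact h
  · obtain ⟨t, k, D, hD, hstab, -⟩ := h
    exact absurd (Or.inl ⟨t, k, D, hD, hstab⟩) hnt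
  · obtain ⟨k, D, h1, h2, h3, h4⟩ := h
    exact absurd (Or.inr ⟨k, D, h1, h2, h3, h4⟩) hnt

end Cfsg.Agent.Lib.H8.Asch
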