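import Mathlib
import Cfsg.Agent.Lib.H16.RTWDefs

/-!
# S3174 (2-groups of Rudvalis type): basic commutator calculus in `W` (helper8)

Facts (B1), (B2) of the blueprint `tools/blueprints/S3174.md`: for `x, y, v ∈ W` the commutator
is bimultiplicative with values in the central elementary abelian subgroup `Z₃`.
-/

set_option autoImplicit false

namespace Cfsg.Agent.Lib.H8.RTW

open scoped commutatorElement
open Cfsg.Agent.Lib.H16.RTW

variable {T : Type*} [Group T] [Finite T]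

local notation "Z₂" => Subgroup.upperCentralSeries T 2
local notation "Z₃" => Subgroup.upperCentralSeries T 3

omit [Finite T] in
theorem z2_le_z3 : Z₂ ≤ Z₃ := Subgroup.upperCentralSeries_mono T (by norm_num)

theorem z3_commute (c : Ctx T) {e u : T} (he : e ∈ Z₃) (hu : u ∈ c.W) : Commute e u := by
  have h := hu
  rw [c.hW, Subgroup.mem_centralizer_iff] at h
  exact h e he

theorem conj_mem_W (c : Ctx T) {u : T} (hu : u ∈ c.W) (t : T) : t * u * t⁻¹ ∈ c.W :=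
  c.hWn.conj_mem u hu t

omit [Finite T] in
theorem conj_mem_z3 {e : T} (he : e ∈ Z₃) (t : T) : t * e * t⁻¹ ∈ Z₃ :=
  (inferInstance : (Z₃).Normal).conj_mem e he t

omit [Finite T] in
theorem conj_mem_z2 {e : T} (he : e ∈ Z₂) (t : T) : t * e * t⁻¹ ∈ Z₂ :=
  (inferInstance : (Z₂).Normal).conj_mem e he t

omit [Finite T] in
theorem conj_mem_z2_iff {e : T} (t : T) : t * e * t⁻¹ ∈ Z₂ ↔ e ∈ Z₂ := by
  constructor
  · intro h
    have := conj_mem_z2 h t⁻¹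
    simpa [mul_assoc] using this
  · intro h; exact conj_mem_z2 h t

omit [Finite T] in
theorem comm_z3_mem_z2 {e : T} (he : e ∈ Z₃) (t : T) : ⁅e, t⁆ ∈ Z₂ := by
  have h := (Subgroup.mem_upperCentralSeries_succ_iff (n := 2)).1 he t
  simpa [commutatorElement_def] using h

omit [Finite T] in
theorem comm_z3_mem_z2' {e : T} (he : e ∈ Z₃) (t : T) : ⁅t, e⁆ ∈ Z₂ := by
  rw [← commutatorElement_inv]; exact inv_mem (comm_z3_mem_z2 he t)

theorem comm_mem_W (c : Ctx T) {u : T} (hu : u ∈ c.W) (t : T) : ⁅u, t⁆ ∈ c.W := by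
  have h : ⁅u, t⁆ = u * (t * u⁻¹ * t⁻¹) := by simp [commutatorElement_def, mul_assoc]
  rw [h]; exact mul_mem hu (conj_mem_W c (inv_mem hu) t)

theorem comm_mem_W' (c : Ctx T) {u : T} (hu : u ∈ c.W) (t : T) : ⁅t, u⁆ ∈ c.W := by
  rw [← commutatorElement_inv]; exact inv_mem (comm_mem_W c hu t)

theorem comm_z3_left (c : Ctx T) {e v : T} (he : e ∈ Z₃) (hv : v ∈ c.W) : ⁅e, v⁆ = 1 :=
  commutatorElement_eq_one_iff_commute.2 (z3_commute c he hv)

theorem comm_z3_right (c : Ctx T) {e v : T} (he : e ∈ Z₃) (hv : v ∈ c.W) : ⁅v, e⁆ = 1 :=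
  commutatorElement_eq_one_iff_commute.2 (z3_commute c he hv).symm

theorem z3_inv_self (c : Ctx T) {e : T} (he : e ∈ Z₃) : e⁻¹ = e := by
  have h := c.hexp e he
  rw [pow_two] at h
  exact inv_eq_of_mul_eq_one_left h

theorem comm_mul_left (c : Ctx T) {x y v : T} (hx : x ∈ c.W) (hy : y ∈ c.W) (hv : v ∈ c.W) :
    ⁅x * y, v⁆ = ⁅x, v⁆ * ⁅y, v⁆ := by
  have h1 : ⁅x * y, v⁆ = x * ⁅y, v⁆ * x⁻¹ * ⁅x, v⁆ := by
    simp only [commutatorElement_def]; group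
  have h2 : Commute ⁅y, v⁆ x := z3_commute c (c.hcomm y hy v hv) hx
  have h3 : Commute ⁅y, v⁆ ⁅x, v⁆ := z3_commute c (c.hcomm y hy v hv) (comm_mem_W c hx v)
  rw [h1, ← h2.eq, mul_inv_cancel_right, h3.eq]

theorem comm_mul_right (c : Ctx T) {x y v : T} (hx : x ∈ c.W) (hy : y ∈ c.W) (hv : v ∈ c.W) :
    ⁅x, y * v⁆ = ⁅x, y⁆ * ⁅x, v⁆ := by
  have h1 : ⁅x, y * v⁆ = ⁅x, y⁆ * (y * ⁅x, v⁆ * y⁻¹) := by
    simp only [commutatorElement_def]; group
  have h2 : Commute ⁅x, v⁆ y := z3_commute c (c.hcomm x hx v hv) hy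
  rw [h1, ← h2.eq, mul_inv_cancel_right]

theorem comm_inv_left (c : Ctx T) {x v : T} (hx : x ∈ c.W) (hv : v ∈ c.W) :
    ⁅x⁻¹, v⁆ = ⁅x, v⁆⁻¹ := by
  have h := comm_mul_left c hx (inv_mem hx) hv
  rw [mul_inv_cancel, commutatorElement_one_left] at h
  exact (inv_eq_of_mul_eq_one_right h.symm).symm

theorem comm_symm (c : Ctx T) {x v : T} (hx : x ∈ c.W) (hv : v ∈ c.W) : ⁅x, v⁆ = ⁅v, x⁆ := by
  rw [← commutatorElement_inv, z3_inv_self c (c.hcomm v hv x hx)]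

theorem comm_inv_left' (c : Ctx T) {x v : T} (hx : x ∈ c.W) (hv : v ∈ c.W) :
    ⁅x⁻¹, v⁆ = ⁅x, v⁆ := by
  rw [comm_inv_left c hx hv, z3_inv_self c (c.hcomm x hx v hv)]

theorem comm_inv_right' (c : Ctx T) {x v : T} (hx : x ∈ c.W) (hv : v ∈ c.W) :
    ⁅x, v⁻¹⁆ = ⁅x, v⁆ := by
  rw [comm_symm c hx (inv_mem hv), comm_inv_left' c hv hx, comm_symm c hv hx]

theorem mul_sq (c : Ctx T) {x y : T} (hx : x ∈ c.W) (hy : y ∈ c.W) :
    (x * y) ^ 2 = x ^ 2 * y ^ 2 * ⁅y, x⁆ := by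
  have h1 : (x * y) ^ 2 = x ^ 2 * ⁅x⁻¹, y⁆ * y ^ 2 := by
    simp only [commutatorElement_def, pow_two]; group
  have h2 : ⁅x⁻¹, y⁆ = ⁅y, x⁆ := by
    rw [comm_inv_left' c hx hy, comm_symm c hx hy]
  have h3 : Commute ⁅y, x⁆ (y ^ 2) := z3_commute c (c.hcomm y hy x hx) (pow_mem hy 2)
  rw [h1, h2, mul_assoc, h3.eq, ← mul_assoc]

omit [Finite T] in
theorem conj_comm (t x y : T) : t * ⁅x, y⁆ * t⁻¹ = ⁅t * x * t⁻¹, t * y * t⁻¹⁆ := by
  simp only [commutatorElement_def]; group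

/-- (B2): `|Z₃ : Z₂| = 2`. -/
theorem mul_mem_z2_iff (c : Ctx T) {e e' : T} (he : e ∈ Z₃) (he' : e' ∈ Z₃) :
    e * e' ∈ Z₂ ↔ (e ∈ Z₂ ↔ e' ∈ Z₂) := by
  have hidx : ((Z₂).subgroupOf Z₃).index = 2 := by
    have h1 : Nat.card ↥((Z₂).subgroupOf Z₃) = 4 := by
      rw [Nat.card_congr (Subgroup.subgroupOfEquivOfLe (z2_le_z3 (T := T))).toEquiv, c.c2]
    have h2 := Subgroup.card_mul_index ((Z₂).subgroupOf Z₃)
    rw [h1, c.c3] at h2
    omega
  have h := Subgroup.mul_mem_iff_of_index_two hidx (a := (⟨e, he⟩ : ↥Z₃)) (b := ⟨e', he'⟩)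
  simpa [Subgroup.mem_subgroupOf] using h

/-- Closure principle: a subset of `W` with pairwise commutators and squares in `Z₂` generates a
subgroup with the same property. -/
theorem closure_small (c : Ctx T) (S : Set T) (hSW : S ⊆ (c.W : Set T))
    (hS1 : ∀ x ∈ S, ∀ y ∈ S, ⁅x, y⁆ ∈ Z₂) (hS2 : ∀ x ∈ S, x ^ 2 ∈ Z₂) :
    Subgroup.closure S ≤ c.W ∧ (∀ x ∈ Subgroup.closure S, x ^ 2 ∈ Z₂) ∧
      ∀ x ∈ Subgroup.closure S, ∀ y ∈ Subgroup.closure S, ⁅x, y⁆ ∈ Z₂ := by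
  have hXW : Subgroup.closure S ≤ c.W := (Subgroup.closure_le _).2 hSW
  -- for fixed `x ∈ W`, the set `{v ∈ W | ⁅x, v⁆ ∈ Z₂}` is a subgroup
  let C : T → Subgroup T := fun x =>
    { carrier := {v | v ∈ c.W ∧ (x ∈ c.W → ⁅x, v⁆ ∈ Z₂)}
      mul_mem' := by
        rintro a b ⟨ha, ha'⟩ ⟨hb, hb'⟩
        refine ⟨mul_mem ha hb, fun hx => ?_⟩
        rw [comm_mul_right c hx ha hb]
        exact mul_mem (ha' hx) (hb' hx)
      one_mem' := ⟨one_mem _, fun _ => by rw [commutatorElement_one_right]; exact one_mem _⟩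
      inv_mem' := by
        rintro a ⟨ha, ha'⟩
        refine ⟨inv_mem ha, fun hx => ?_⟩
        rw [comm_inv_right' c hx ha]
        exact ha' hx }
  have hcomm : ∀ x ∈ Subgroup.closure S, ∀ y ∈ Subgroup.closure S, ⁅x, y⁆ ∈ Z₂ := by
    -- first: x ∈ S, y ∈ closure S
    have h1 : ∀ x ∈ S, ∀ y ∈ Subgroup.closure S, ⁅x, y⁆ ∈ Z₂ := by
      intro x hx y hy
      have : Subgroup.closure S ≤ C x :=
        (Subgroup.closure_le _).2 fun v hv => ⟨hSW hv, fun _ => hS1 x hx v hv⟩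
      exact (this hy).2 (hSW hx)
    intro x hx y hy
    have : Subgroup.closure S ≤ C y :=
      (Subgroup.closure_le _).2 fun v hv => ⟨hSW hv, fun _ => by
        rw [← commutatorElement_inv]; exact inv_mem (h1 v hv y hy)⟩
    have h2 := (this hx).2 (hXW hy)
    rw [← commutatorElement_inv]; exact inv_mem h2
  refine ⟨hXW, ?_, hcomm⟩
  intro x hx
  induction hx using Subgroup.closure_induction with
  | mem x hx => exact hS2 x hx
  | one => simp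
  | mul x y hx hy ihx ihy =>
    rw [mul_sq c (hXW hx) (hXW hy)]
    exact mul_mem (mul_mem ihx ihy) (hcomm y hy x hx)
  | inv x hx ihx =>
    rw [inv_pow]; exact inv_mem ihx

end Cfsg.Agent.Lib.H8.RTW
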