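import Mathlib
import Cfsg.Agent.Lib.H16.RTWDefs
import Cfsg.Agent.Lib.H8.RTWBasic
import Cfsg.Agent.Lib.H16.RTWF2
import Cfsg.Agent.Lib.H25.RTWKPAR

/-!
# S3174 piece KEY (helper8): `⁅⁅w, z⁆, ᵗw⁆ ∈ Z₂`.
`key_comm_of` takes F2 (`comm_conj_mem`) and KPAR (`key_parity`) as hypotheses.
-/

set_option autoImplicit false

namespace Cfsg.Agent.Lib.H8.RTW

open scoped commutatorElement
open Cfsg.Agent.Lib.H16.RTW

variable {T : Type*} [Group T] [Finite T]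

local notation "Z₂" => Subgroup.upperCentralSeries T 2
local notation "Z₃" => Subgroup.upperCentralSeries T 3

set_option maxRecDepth 100000 in
/-- The case check in `UT3`, for Boolean functions. -/
theorem ut3_bool : ∀ f : UT3 → Bool, (∀ g : UT3, g.a = 0 → f g = true) → (∀ g, f g⁻¹ = f g) →
    Even (Finset.univ.filter (fun g => f g = false)).card →
    ∀ g : UT3, f ((⟨0, 0, 1⟩ : UT3) * g) = f g := by
  decide +kernel

/-- The case check in `UT3`. -/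
theorem ut3_key (kb : UT3 → Prop) (h0 : ∀ g : UT3, g.a = 0 → kb g) (hinv : ∀ g, kb g⁻¹ ↔ kb g)
    (hev : Even (Nat.card {g : UT3 // ¬ kb g})) :
    ∀ g : UT3, kb ((⟨0, 0, 1⟩ : UT3) * g) ↔ kb g := by
  classical
  have h := ut3_bool (fun g => decide (kb g)) (fun g hg => by simpa using h0 g hg)
    (fun g => by simpa using hinv g) (by
      rw [Nat.card_eq_fintype_card, Fintype.card_subtype] at hev
      convert hev using 3
      simp)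
  intro g
  simpa using h g

/-- (k1): `⁅w, ᵗw⁆` depends only on `φ t`. -/
theorem comm_conj_congr (c : Ctx T) (k : Coord c) {w : T} (hw : w ∈ c.W) {t t' : T}
    (h : k.φ t = k.φ t') : ⁅w, t' * w * t'⁻¹⁆ = ⁅w, t * w * t⁻¹⁆ := by
  set s : T := t⁻¹ * t' with hs
  have hsW : s ∈ c.W := by
    rw [← k.hker, MonoidHom.mem_ker, hs, map_mul, map_inv, h, inv_mul_cancel]
  have h1 : t' * w * t'⁻¹ = (t * ⁅s, w⁆ * t⁻¹) * (t * w * t⁻¹) := by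
    simp only [commutatorElement_def, hs]; group
  have he : t * ⁅s, w⁆ * t⁻¹ ∈ Z₃ := conj_mem_z3 (c.hcomm s hsW w hw) t
  rw [h1, comm_mul_right c hw (c.hZW he) (conj_mem_W c hw t), comm_z3_right c he hw, one_mul]

omit [Finite T] in
/-- (k2): symmetry under `t ↦ t⁻¹`. -/
theorem comm_conj_inv_iff (w t : T) :
    ⁅w, t⁻¹ * w * t⁻¹⁻¹⁆ ∈ Z₂ ↔ ⁅w, t * w * t⁻¹⁆ ∈ Z₂ := by
  have h1 : ⁅w, t⁻¹ * w * t⁻¹⁻¹⁆ = t⁻¹ * ⁅w, t * w * t⁻¹⁆⁻¹ * t⁻¹⁻¹ := by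
    simp only [commutatorElement_def]; group
  rw [h1, conj_mem_z2_iff, inv_mem_iff]

/-- **KEY**, with F2 and KPAR as hypotheses. -/
theorem key_comm_of (c : Ctx T) (k : Coord c)
    (hF2 : ∀ t : T, (k.φ t).a = 0 → ∀ u ∈ c.W, ⁅u, t * u * t⁻¹⁆ ∈ Z₂)
    (w : T) (hw : w ∈ c.W)
    (hKP : ∀ rep : UT3 → T, (∀ g, k.φ (rep g) = g) →
      Even (Nat.card {g : UT3 // ⁅w, rep g * w * (rep g)⁻¹⁆ ∉ Z₂}))
    (z : T) (hz : k.φ z = ⟨0, 0, 1⟩) (t : T) :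
    ⁅⁅w, z⁆, t * w * t⁻¹⁆ ∈ Subgroup.upperCentralSeries T 2 := by
  -- a section of `φ`
  let rep : UT3 → T := Function.surjInv k.hsurj
  have hrep : ∀ g, k.φ (rep g) = g := Function.surjInv_eq k.hsurj
  let kb : UT3 → Prop := fun g => ⁅w, rep g * w * (rep g)⁻¹⁆ ∈ Z₂
  have hkb : ∀ t : T, ⁅w, t * w * t⁻¹⁆ ∈ Z₂ ↔ kb (k.φ t) := by
    intro t
    show _ ↔ ⁅w, rep (k.φ t) * w * (rep (k.φ t))⁻¹⁆ ∈ Z₂
    rw [comm_conj_congr c k hw (t := t) (t' := rep (k.φ t)) (hrep _).symm]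
  have hcase := ut3_key kb
    (fun g hg => hF2 (rep g) (by rw [hrep]; exact hg) w hw)
    (fun g => by
      rw [← hrep g, ← map_inv, ← hkb, ← hkb]
      exact comm_conj_inv_iff w (rep g))
    (hKP rep hrep)
  -- the final computation
  have hy : z * w⁻¹ * z⁻¹ ∈ c.W := conj_mem_W c (inv_mem hw) z
  have hv : t * w * t⁻¹ ∈ c.W := conj_mem_W c hw t
  have h0 : ⁅w, z⁆ = w * (z * w⁻¹ * z⁻¹) := by simp [commutatorElement_def, mul_assoc]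
  have h1 : z * w⁻¹ * z⁻¹ = (z * w * z⁻¹)⁻¹ := by group
  have h2 : ⁅z * w * z⁻¹, t * w * t⁻¹⁆ = z * ⁅w, (z⁻¹ * t) * w * (z⁻¹ * t)⁻¹⁆ * z⁻¹ := by
    simp only [commutatorElement_def]; group
  rw [h0, comm_mul_left c hw hy hv, h1, comm_inv_left' c (conj_mem_W c hw z) hv, h2,
    mul_mem_z2_iff c (c.hcomm w hw _ hv) (conj_mem_z3 (c.hcomm w hw _ (conj_mem_W c hw _)) z),
    conj_mem_z2_iff, hkb, hkb, map_mul, map_inv, hz]
  have h3 : ((⟨0, 0, 1⟩ : UT3))⁻¹ = ⟨0, 0, 1⟩ := by decide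
  rw [h3, hcase]

/-- **KEY** (exact signature of `tools/blueprints/S3174_sigs.lean`). -/
theorem key_comm (c : Ctx T) (k : Coord c)
    (hZ4 : ∀ y ∈ Subgroup.upperCentralSeries T 4, y ∈ c.W ∧ ∀ v ∈ c.W, y * v = v * y)
    (w : T) (hw : w ∈ c.W) (z : T) (hz : k.φ z = ⟨0, 0, 1⟩) (t : T) :
    ⁅⁅w, z⁆, t * w * t⁻¹⁆ ∈ Subgroup.upperCentralSeries T 2 :=
  key_comm_of c k (fun t ht u hu => comm_conj_mem c k t ht u hu) w hw
    (fun rep hrep => Cfsg.Agent.Lib.H25.RTW.key_parity c k hZ4 w hw rep hrep) z hz t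

end Cfsg.Agent.Lib.H8.RTW
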