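import Mathlib
import Cfsg.Agent.Lib.H16.RTWDefs
import Cfsg.Agent.Lib.H8.RTWBasic
import Cfsg.Agent.Lib.H8.RTWKEY
import Cfsg.Agent.Lib.H13.RTWSPAN

/-!
# S3174 piece F3 (helper8): `⁅W, z⁆` is central in `W` modulo `Z₂`.
`comm_z_central_of` takes BIL (`eq_of_gen_mem`) and KEY (`key_comm`) as hypotheses.
-/

set_option autoImplicit false

namespace Cfsg.Agent.Lib.H8.RTW

open scoped commutatorElement
open Cfsg.Agent.Lib.H16.RTW

variable {T : Type*} [Group T] [Finite T]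

local notation "Z₂" => Subgroup.upperCentralSeries T 2
local notation "Z₃" => Subgroup.upperCentralSeries T 3

/-- `R = {x ∈ W | ∀ v ∈ W, ⁅x, v⁆ ∈ Z₂}`, the preimage in `W` of the centre of `W / Z₂`. -/
def Rsub (c : Ctx T) : Subgroup T where
  carrier := {x | x ∈ c.W ∧ ∀ v ∈ c.W, ⁅x, v⁆ ∈ Z₂}
  mul_mem' := by
    rintro a b ⟨ha, ha'⟩ ⟨hb, hb'⟩
    refine ⟨mul_mem ha hb, fun v hv => ?_⟩
    rw [comm_mul_left c ha hb hv]
    exact mul_mem (ha' v hv) (hb' v hv)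
  one_mem' := ⟨one_mem _, fun v _ => by rw [commutatorElement_one_left]; exact one_mem _⟩
  inv_mem' := by
    rintro a ⟨ha, ha'⟩
    refine ⟨inv_mem ha, fun v hv => ?_⟩
    rw [comm_inv_left' c ha hv]
    exact ha' v hv

theorem mem_Rsub (c : Ctx T) {x : T} : x ∈ Rsub c ↔ x ∈ c.W ∧ ∀ v ∈ c.W, ⁅x, v⁆ ∈ Z₂ := Iff.rfl

theorem z3_le_Rsub (c : Ctx T) : Z₃ ≤ Rsub c := by
  intro e he
  refine ⟨c.hZW he, fun v hv => ?_⟩
  rw [comm_z3_left c he hv]; exact one_mem _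

/-- `R` is invariant under conjugation by `T`. -/
theorem conj_mem_Rsub (c : Ctx T) {x : T} (hx : x ∈ Rsub c) (t : T) : t * x * t⁻¹ ∈ Rsub c := by
  refine ⟨conj_mem_W c hx.1 t, fun v hv => ?_⟩
  have h1 : ⁅t * x * t⁻¹, v⁆ = t * ⁅x, t⁻¹ * v * t⁆ * t⁻¹ := by
    simp only [commutatorElement_def]; group
  rw [h1]
  refine conj_mem_z2 (hx.2 _ ?_) t
  have := conj_mem_W c hv t⁻¹
  simpa using this

/-- **F3**, with BIL and KEY as hypotheses. -/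
theorem comm_z_central_of (c : Ctx T) (k : Coord c) (w : T) (hw : w ∈ c.W)
    (hBIL : ∀ Q : Subgroup T, Z₃ ≤ Q → (∀ t : T, t * w * t⁻¹ ∈ Q) → c.W ≤ Q)
    (z : T) (hz : k.φ z = ⟨0, 0, 1⟩)
    (hKEY : ∀ t : T, ⁅⁅w, z⁆, t * w * t⁻¹⁆ ∈ Z₂) :
    ∀ u ∈ c.W, ∀ v ∈ c.W, ⁅⁅u, z⁆, v⁆ ∈ Subgroup.upperCentralSeries T 2 := by
  have hwz : ⁅w, z⁆ ∈ c.W := comm_mem_W c hw z
  -- Step 1: `⁅w, z⁆ ∈ R`
  have step1 : ⁅w, z⁆ ∈ Rsub c := by
    refine ⟨hwz, ?_⟩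
    let Q₁ : Subgroup T :=
      { carrier := {v | v ∈ c.W ∧ ⁅⁅w, z⁆, v⁆ ∈ Z₂}
        mul_mem' := by
          rintro a b ⟨ha, ha'⟩ ⟨hb, hb'⟩
          refine ⟨mul_mem ha hb, ?_⟩
          rw [comm_mul_right c hwz ha hb]
          exact mul_mem ha' hb'
        one_mem' := ⟨one_mem _, by rw [commutatorElement_one_right]; exact one_mem _⟩
        inv_mem' := by
          rintro a ⟨ha, ha'⟩
          refine ⟨inv_mem ha, ?_⟩
          rw [comm_inv_right' c hwz ha]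
          exact ha' }
    have hQ₁ : c.W ≤ Q₁ := by
      refine hBIL Q₁ ?_ ?_
      · intro e he
        refine ⟨c.hZW he, ?_⟩
        rw [comm_z3_right c he hwz]; exact one_mem _
      · intro t
        exact ⟨conj_mem_W c hw t, hKEY t⟩
    intro v hv
    exact (hQ₁ hv).2
  -- Step 2: `Q₂ = {u ∈ W | ⁅u, z⁆ ∈ R}` is a subgroup containing `Z₃` and all `ᵗw`
  let Q₂ : Subgroup T :=
    { carrier := {u | u ∈ c.W ∧ ⁅u, z⁆ ∈ Rsub c}
      mul_mem' := by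
        rintro a b ⟨ha, ha'⟩ ⟨hb, hb'⟩
        refine ⟨mul_mem ha hb, ?_⟩
        have h1 : ⁅a * b, z⁆ = a * ⁅b, z⁆ * a⁻¹ * ⁅a, z⁆ := by
          simp only [commutatorElement_def]; group
        rw [h1]
        exact mul_mem (conj_mem_Rsub c hb' a) ha'
      one_mem' := ⟨one_mem _, by rw [commutatorElement_one_left]; exact one_mem _⟩
      inv_mem' := by
        rintro a ⟨ha, ha'⟩
        refine ⟨inv_mem ha, ?_⟩
        have h1 : ⁅a⁻¹, z⁆ = a⁻¹ * ⁅a, z⁆⁻¹ * a⁻¹⁻¹ := by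
          simp only [commutatorElement_def]; group
        rw [h1]
        exact conj_mem_Rsub c (inv_mem ha') a⁻¹ }
  have hQ₂ : c.W ≤ Q₂ := by
    refine hBIL Q₂ ?_ ?_
    · intro e he
      exact ⟨c.hZW he, z3_le_Rsub c (z2_le_z3 (comm_z3_mem_z2 he z))⟩
    · intro t
      refine ⟨conj_mem_W c hw t, ?_⟩
      -- `t⁻¹ z t = z s'` with `s' ∈ W`
      set s' : T := z⁻¹ * (t⁻¹ * z * t) with hs'
      have hs'W : s' ∈ c.W := by
        rw [← k.hker, MonoidHom.mem_ker]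
        simp only [hs', map_mul, map_inv, hz]
        generalize k.φ t = g
        revert g; decide
      have h1 : ⁅t * w * t⁻¹, z⁆ = t * ⁅w, z * s'⁆ * t⁻¹ := by
        simp only [commutatorElement_def, hs']; group
      have h2 : ⁅w, z * s'⁆ = ⁅w, z⁆ * (z * ⁅w, s'⁆ * z⁻¹) := by
        simp only [commutatorElement_def]; group
      rw [h1, h2]
      refine conj_mem_Rsub c (mul_mem step1 ?_) t
      exact z3_le_Rsub c (conj_mem_z3 (c.hcomm w hw s' hs'W) z)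
  intro u hu v hv
  exact (hQ₂ hu).2.2 v hv

/-- **F3** (exact signature of `tools/blueprints/S3174_sigs.lean`). -/
theorem comm_z_central (c : Ctx T) (k : Coord c)
    (hZ4 : ∀ y ∈ Subgroup.upperCentralSeries T 4, y ∈ c.W ∧ ∀ v ∈ c.W, y * v = v * y)
    (w : T) (hw : w ∈ c.W) (hwM : w ∉ c.M) (hwt : ∀ t : T, t ∉ c.W → t * w * t⁻¹ ∈ c.M)
    (z : T) (hz : k.φ z = ⟨0, 0, 1⟩) :
    ∀ u ∈ c.W, ∀ v ∈ c.W, ⁅⁅u, z⁆, v⁆ ∈ Subgroup.upperCentralSeries T 2 :=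
  comm_z_central_of c k w hw
    (fun Q hZQ hQ => Cfsg.Agent.Lib.H13.RTW.eq_of_gen_mem c w hw hwM hwt Q hZQ hQ) z hz
    (fun t => key_comm c k hZ4 w hw z hz t)

end Cfsg.Agent.Lib.H8.RTW
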