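import Mathlib
import Cfsg.Agent.Lib.H16.RTWDefs
import Cfsg.Agent.Lib.H8.RTWBasic
import Cfsg.Agent.Lib.H16.RTWF2

/-!
# S3174 piece FINSQ (helper8): the subgroup `X = ⟨Z₃, ⁅W, z⁆, w · ᵇw⟩` has squares and commutators in `Z₂`.
`exists_small_frattini_of` takes F2 (`comm_conj_mem`) as a hypothesis.
-/

set_option autoImplicit false

namespace Cfsg.Agent.Lib.H8.RTW

open scoped commutatorElement
open Cfsg.Agent.Lib.H16.RTW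

variable {T : Type*} [Group T] [Finite T]

local notation "Z₂" => Subgroup.upperCentralSeries T 2
local notation "Z₃" => Subgroup.upperCentralSeries T 3

/-- For `u ∈ W` and `t ∈ T` with `⁅u, ᵗu⁆ ∈ Z₂`: `(u · ᵗu)² ∈ Z₂`. -/
theorem sq_mul_conj_mem (c : Ctx T) {u : T} (hu : u ∈ c.W) (t : T)
    (h : ⁅u, t * u * t⁻¹⁆ ∈ Z₂) : (u * (t * u * t⁻¹)) ^ 2 ∈ Z₂ := by
  have hy : t * u * t⁻¹ ∈ c.W := conj_mem_W c hu t
  rw [mul_sq c hu hy]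
  refine mul_mem ?_ ?_
  · -- u² · ᵗ(u²) = ⁅t, u²⁆ as (u²)⁻¹ = u² and Z₃ is abelian
    have hu2 : u ^ 2 ∈ Z₃ := c.hsq u hu
    have h1 : (t * u * t⁻¹) ^ 2 = t * u ^ 2 * t⁻¹ := by
      simp only [pow_two]; group
    have h2 : Commute (u ^ 2) (t * u ^ 2 * t⁻¹) :=
      z3_commute c hu2 (c.hZW (conj_mem_z3 hu2 t))
    have h3 : u ^ 2 * (t * u ^ 2 * t⁻¹) = ⁅t, u ^ 2⁆ := by
      rw [h2.eq, commutatorElement_def, z3_inv_self c hu2]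
    rw [h1, h3]
    exact comm_z3_mem_z2' hu2 t
  · rw [← commutatorElement_inv]; exact inv_mem h

/-- For `u ∈ W` and `t ∈ T` with `⁅u, ᵗu⁆ ∈ Z₂`: `⁅u, t⁆² ∈ Z₂`. -/
theorem sq_comm_mem (c : Ctx T) {u : T} (hu : u ∈ c.W) (t : T)
    (h : ⁅u, t * u * t⁻¹⁆ ∈ Z₂) : ⁅u, t⁆ ^ 2 ∈ Z₂ := by
  have hy : t * u⁻¹ * t⁻¹ ∈ c.W := conj_mem_W c (inv_mem hu) t
  have h0 : ⁅u, t⁆ = u * (t * u⁻¹ * t⁻¹) := by simp [commutatorElement_def, mul_assoc]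
  rw [h0, mul_sq c hu hy]
  refine mul_mem ?_ ?_
  · have hu2 : u ^ 2 ∈ Z₃ := c.hsq u hu
    have h1 : (t * u⁻¹ * t⁻¹) ^ 2 = t * (u ^ 2)⁻¹ * t⁻¹ := by
      simp only [pow_two]; group
    have h3 : u ^ 2 * (t * (u ^ 2)⁻¹ * t⁻¹) = ⁅u ^ 2, t⁆ := by
      rw [commutatorElement_def]; group
    rw [h1, h3]
    exact comm_z3_mem_z2 hu2 t
  · have h4 : t * u⁻¹ * t⁻¹ = (t * u * t⁻¹)⁻¹ := by group
    rw [h4, comm_inv_left' c (conj_mem_W c hu t) hu, ← commutatorElement_inv]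
    exact inv_mem h

/-- **FINSQ**, with F2 as a hypothesis. -/
theorem exists_small_frattini_of (c : Ctx T) (k : Coord c)
    (hF2 : ∀ t : T, (k.φ t).a = 0 → ∀ u ∈ c.W, ⁅u, t * u * t⁻¹⁆ ∈ Z₂)
    (w : T) (hw : w ∈ c.W)
    (z : T) (hz : k.φ z = ⟨0, 0, 1⟩) (b : T) (hb : k.φ b = ⟨0, 1, 0⟩)
    (hF3 : ∀ u ∈ c.W, ∀ v ∈ c.W, ⁅⁅u, z⁆, v⁆ ∈ Subgroup.upperCentralSeries T 2) :
    ∃ X : Subgroup T, X ≤ c.W ∧ Subgroup.upperCentralSeries T 3 ≤ X ∧ (∀ u ∈ c.W, ⁅u, z⁆ ∈ X) ∧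
      w * (b * w * b⁻¹) ∈ X ∧ (∀ x ∈ X, x ^ 2 ∈ Subgroup.upperCentralSeries T 2) ∧
      ∀ x ∈ X, ∀ y ∈ X, ⁅x, y⁆ ∈ Subgroup.upperCentralSeries T 2 := by
  have hza : (k.φ z).a = 0 := by rw [hz]
  have hba : (k.φ b).a = 0 := by rw [hb]
  set s₀ : T := w * (b * w * b⁻¹) with hs₀
  have hs₀W : s₀ ∈ c.W := mul_mem hw (conj_mem_W c hw b)
  let S : Set T := {x | x ∈ Z₃ ∨ (∃ u ∈ c.W, x = ⁅u, z⁆) ∨ x = s₀}
  have hSW : S ⊆ (c.W : Set T) := by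
    rintro x (hx | ⟨u, hu, rfl⟩ | rfl)
    · exact c.hZW hx
    · exact comm_mem_W c hu z
    · exact hs₀W
  have hone : (1 : T) ∈ Z₂ := one_mem _
  have hS1 : ∀ x ∈ S, ∀ y ∈ S, ⁅x, y⁆ ∈ Z₂ := by
    intro x hx y hy
    have hxW := hSW hx
    have hyW := hSW hy
    rcases hx with hx | ⟨u, hu, rfl⟩ | rfl
    · rw [comm_z3_left c hx hyW]; exact hone
    · exact hF3 u hu y hyW
    · rcases hy with hy | ⟨u, hu, rfl⟩ | rfl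
      · rw [comm_z3_right c hy hxW]; exact hone
      · rw [← commutatorElement_inv]; exact inv_mem (hF3 u hu _ hxW)
      · rw [commutatorElement_self]; exact hone
  have hS2 : ∀ x ∈ S, x ^ 2 ∈ Z₂ := by
    rintro x (hx | ⟨u, hu, rfl⟩ | rfl)
    · rw [c.hexp x hx]; exact hone
    · exact sq_comm_mem c hu z (hF2 z hza u hu)
    · exact sq_mul_conj_mem c hw b (hF2 b hba w hw)
  obtain ⟨h1, h2, h3⟩ := closure_small c S hSW hS1 hS2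
  refine ⟨Subgroup.closure S, h1, ?_, ?_, ?_, h2, h3⟩
  · intro e he; exact Subgroup.subset_closure (Or.inl he)
  · intro u hu; exact Subgroup.subset_closure (Or.inr (Or.inl ⟨u, hu, rfl⟩))
  · exact Subgroup.subset_closure (Or.inr (Or.inr rfl))

/-- **FINSQ** (exact signature of `tools/blueprints/S3174_sigs.lean`). -/
theorem exists_small_frattini (c : Ctx T) (k : Coord c) (w : T) (hw : w ∈ c.W)
    (z : T) (hz : k.φ z = ⟨0, 0, 1⟩) (b : T) (hb : k.φ b = ⟨0, 1, 0⟩)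
    (hF3 : ∀ u ∈ c.W, ∀ v ∈ c.W, ⁅⁅u, z⁆, v⁆ ∈ Subgroup.upperCentralSeries T 2) :
    ∃ X : Subgroup T, X ≤ c.W ∧ Subgroup.upperCentralSeries T 3 ≤ X ∧ (∀ u ∈ c.W, ⁅u, z⁆ ∈ X) ∧
      w * (b * w * b⁻¹) ∈ X ∧ (∀ x ∈ X, x ^ 2 ∈ Subgroup.upperCentralSeries T 2) ∧
      ∀ x ∈ X, ∀ y ∈ X, ⁅x, y⁆ ∈ Subgroup.upperCentralSeries T 2 :=
  exists_small_frattini_of c k (fun t ht u hu => comm_conj_mem c k t ht u hu) w hw z hz b hb hF3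

end Cfsg.Agent.Lib.H8.RTW
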