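import Mathlib
import Cfsg.Agent.Lib.H8.SU3F
import Cfsg.Agent.Lib.H8.SU3G

set_option autoImplicit false

/-!
# `SU_3(q)` is generated by two conjugate regular unipotent elements: the generic case (helper8)
-/

namespace Cfsg.Agent.Lib.H8.SU3Gen

open Matrix

variable {F : Type*} [Field F] [Fintype F] {q : ℕ}

/-- the conclusion of the theorem -/
def Goal (F : Type*) [Field F] (q : ℕ) : Prop :=
  ∃ u g : ↥(Cfsg.SU 3 F q),
    (IsNilpotent (((u : Matrix.SpecialLinearGroup (Fin 3) F) : Matrix (Fin 3) (Fin 3) F) - 1) ∧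
      (((u : Matrix.SpecialLinearGroup (Fin 3) F) : Matrix (Fin 3) (Fin 3) F) - 1) ^ (3 - 1) ≠ 0) ∧
    Subgroup.closure ({u, g * u * g⁻¹} : Set ↥(Cfsg.SU 3 F q)) = ⊤

/-- the generic case: a norm one element whose cube generates the field -/
theorem goal_of_eps (hF : Fintype.card F = q ^ 2) (hq2 : q ≠ 2) {ε : F} (hε : ε * ε ^ q = 1)
    (hε1 : 1 + ε ≠ 0) (hcl : Subfield.closure {ε ^ 3} = ⊤) : Goal F q := by
  obtain ⟨σ, hσq, hσ⟩ := exists_sigma hF
  obtain ⟨fr, ω, hω⟩ := exists_frame_omega hF σ hσq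
  have hε' : ε * σ ε = 1 := by rw [hσq]; exact hε
  obtain ⟨hσa, hab, hd, ha0, h10, h20, h21, h00, h11, hd0⟩ := matched σ hε' hε1
  set a : F := -(1 + ε) ^ 2 / ε with ha
  set b : F := -((2 * ε ^ 2 + ε + 1) * (1 + ε)) / ε ^ 2 with hb
  set d : F := -ε / (1 + ε) with hd'
  set x : SUJ σ := uJ σ hσ a b hab with hx
  have hxm : mat x = uM σ a b := rfl
  obtain ⟨g, hg⟩ := exists_conj σ hσ hω ha0 hσa hab hd x hxm
  set z : SUJ σ := g * x * g⁻¹ with hz
  have hsm : mat (z * x * z) = vM σ 1 d * uM σ a b * vM σ 1 d := by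
    rw [mat_mul, mat_mul, hg, hxm]
  refine ⟨Psi σ hσ hσq fr x, Psi σ hσ hσq fr g, regular_Psi σ hσ hσq fr x hxm ha0, ?_⟩
  refine closure_eq_top_of_data σ hσ hσq fr hF hq2 hω x g (z * x * z) hxm ha0 ?_ ?_ ?_ ?_ ?_ ?_
  · rw [hg]
    simpa [vM] using hd0
  · have hxK : x ∈ Subgroup.closure ({x, z} : Set (SUJ σ)) := Subgroup.subset_closure (by simp)
    have hzK : z ∈ Subgroup.closure ({x, z} : Set (SUJ σ)) := Subgroup.subset_closure (by simp)
    exact Subgroup.mul_mem _ (Subgroup.mul_mem _ hzK hxK) hzK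
  · rw [hsm]; exact h10
  · rw [hsm]; exact h20
  · rw [hsm]; exact h21
  · rw [hsm, h00, h11]
    have hε0 : ε ≠ 0 := by
      rintro rfl
      simp at hε
    have hσε : σ ε = ε⁻¹ := eq_inv_of_mul_eq_one_right hε'
    have : ε * σ (ε ^ 2)⁻¹ = ε ^ 3 := by
      rw [map_inv₀, map_pow, hσε]
      field_simp
    rw [this]
    exact hcl

/-- a good norm one element exists for `q ∉ {2, 5, 8}` -/
theorem exists_eps (hF : Fintype.card F = q ^ 2) (hq3 : 3 ≤ q) (hq5 : q ≠ 5) (hq8 : q ≠ 8) :
    ∃ ε : F, ε * ε ^ q = 1 ∧ 1 + ε ≠ 0 ∧ Subfield.closure {ε ^ 3} = ⊤ := by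
  classical
  obtain ⟨ζ, hζ⟩ := IsCyclic.exists_generator (α := Fˣ)
  have hord : orderOf ζ = q ^ 2 - 1 := by
    rw [orderOf_eq_card_of_forall_mem_zpowers hζ, Nat.card_eq_fintype_card, Fintype.card_units, hF]
  have hpow : ∀ k : ℕ, (ζ : F) ^ k = 1 → (q ^ 2 - 1) ∣ k := by
    intro k hk
    rw [← hord]
    apply orderOf_dvd_of_pow_eq_one
    apply Units.ext
    rw [Units.val_pow_eq_pow_val, hk, Units.val_one]
  have hζ1 : (ζ : F) ^ (q ^ 2 - 1) = 1 := by
    have := FiniteField.pow_card_sub_one_eq_one (ζ : F) ζ.ne_zero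
    rwa [hF] at this
  have hfac : q ^ 2 - 1 = (q - 1) * (q + 1) := by
    zify [show 1 ≤ q ^ 2 from Nat.one_le_pow _ _ (by omega), show 1 ≤ q by omega]
    ring
  have hq1 : 0 < q - 1 := by omega
  refine ⟨(ζ : F) ^ (q - 1), ?_, ?_, ?_⟩
  · rw [← pow_succ', ← pow_mul, ← hfac, hζ1]
  · intro h
    have h1 : ((ζ : F) ^ (q - 1)) ^ 2 = 1 := by
      have : (ζ : F) ^ (q - 1) = -1 := by linear_combination h
      rw [this]; norm_num
    rw [← pow_mul] at h1
    have hd := hpow _ h1
    rw [hfac] at hd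
    have hd2 : (q + 1) ∣ 2 := by
      have : (q - 1) * (q + 1) ∣ (q - 1) * 2 := hd
      exact Nat.dvd_of_mul_dvd_mul_left hq1 this
    have := Nat.le_of_dvd (by norm_num) hd2
    omega
  · set K := Subfield.closure {((ζ : F) ^ (q - 1)) ^ 3} with hK
    have hmem : ((ζ : F) ^ (q - 1)) ^ 3 ∈ K := Subfield.subset_closure (Set.mem_singleton _)
    have hcard : Fintype.card F = Fintype.card K ^ Module.finrank K F := Module.card_eq_pow_finrank
    set k := Fintype.card K with hk
    set m := Module.finrank K F with hm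
    have hk2 : 2 ≤ k := Fintype.one_lt_card
    have h1 : (((ζ : F) ^ (q - 1)) ^ 3) ^ (k - 1) = 1 := by
      have hne : (⟨((ζ : F) ^ (q - 1)) ^ 3, hmem⟩ : K) ≠ 0 := by
        intro h
        have := congrArg Subtype.val h
        simp at this
      have := FiniteField.pow_card_sub_one_eq_one (⟨((ζ : F) ^ (q - 1)) ^ 3, hmem⟩ : K) hne
      have := congrArg Subtype.val this
      simpa using this
    rw [← pow_mul, ← pow_mul] at h1
    have hd := hpow _ h1
    rw [hfac] at hd
    have hd2 : (q + 1) ∣ 3 * (k - 1) := by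
      have : (q - 1) * (q + 1) ∣ (q - 1) * (3 * (k - 1)) := hd
      exact Nat.dvd_of_mul_dvd_mul_left hq1 this
    have hle : q + 1 ≤ 3 * (k - 1) := Nat.le_of_dvd (by omega) hd2
    rw [hF] at hcard
    have hm1 : m = 1 := by
      by_contra hne
      have hm0 : m ≠ 0 := by
        intro h0
        rw [h0, pow_zero] at hcard
        nlinarith
      by_cases hm2 : m = 2
      · rw [hm2] at hcard
        have hkq : q = k := Nat.pow_left_injective (by norm_num) hcard
        rw [← hkq] at hd2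
        have h6 : (q + 1) ∣ 6 := by
          have h3 : (q + 1) ∣ 3 * (q + 1) := Dvd.intro_left 3 rfl
          have : 3 * (q + 1) - 3 * (q - 1) = 6 := by omega
          rw [← this]
          exact Nat.dvd_sub h3 hd2
        have hle6 := Nat.le_of_dvd (by norm_num) h6
        have : q + 1 ∈ Nat.divisors 6 := Nat.mem_divisors.mpr ⟨h6, by norm_num⟩
        have h6d : Nat.divisors 6 = {1, 2, 3, 6} := by decide
        rw [h6d] at this
        simp at this
        omega
      · have hm3 : 3 ≤ m := by omega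
        have hge : k ^ 3 ≤ q ^ 2 := by
          rw [hcard]
          exact Nat.pow_le_pow_right (by omega) hm3
        have hk8 : k ≤ 8 := by
          by_contra h9
          have h9' : 9 ≤ k := by omega
          have hq3k : q < 3 * k := by omega
          have h1 : q ^ 2 < (3 * k) ^ 2 := Nat.pow_lt_pow_left hq3k (by norm_num)
          have h2 : (3 * k) ^ 2 ≤ k ^ 3 := by
            have := Nat.mul_le_mul_right (k ^ 2) h9'
            nlinarith
          omega
        have hq20 : q ≤ 20 := by omega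
        interval_cases k <;> interval_cases q <;> omega
    rw [hm1, pow_one] at hcard
    have hbij : Function.Bijective (Subtype.val : K → F) :=
      (Fintype.bijective_iff_injective_and_card _).mpr ⟨Subtype.val_injective, by rw [hF, hcard]⟩
    rw [eq_top_iff]
    intro y _
    obtain ⟨⟨y', hy'⟩, rfl⟩ := hbij.2 y
    exact hy'

end Cfsg.Agent.Lib.H8.SU3Gen
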