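import Mathlib
import Cfsg.Agent.Lib.H8.SU3H

set_option autoImplicit false

/-!
# Tools for the special cases `q = 5` and `q = 8` (helper8)
-/

namespace Cfsg.Agent.Lib.H8.SU3Gen

open Matrix

variable {F : Type*} [Field F]

theorem mat3_ext {a11 a12 a13 a21 a22 a23 a31 a32 a33 b11 b12 b13 b21 b22 b23 b31 b32 b33 : F}
    (h11 : a11 = b11) (h12 : a12 = b12) (h13 : a13 = b13) (h21 : a21 = b21) (h22 : a22 = b22)
    (h23 : a23 = b23) (h31 : a31 = b31) (h32 : a32 = b32) (h33 : a33 = b33) :
    (!![a11, a12, a13; a21, a22, a23; a31, a32, a33] : Matrix (Fin 3) (Fin 3) F) =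
      !![b11, b12, b13; b21, b22, b23; b31, b32, b33] := by
  rw [h11, h12, h13, h21, h22, h23, h31, h32, h33]

section fin

variable [Fintype F] {q : ℕ}

/-- the special cases: `x = u(a,b)`, `z = w x w⁻¹` and a word `s` in `x, z` lying in the Borel
subgroup -/
theorem goal_of_word (hF : Fintype.card F = q ^ 2) (hq2 : q ≠ 2) (σ : F →+* F)
    (hσq : ∀ x, σ x = x ^ q) (hσ : ∀ x, σ (σ x) = x) {a b : F} (hab : b + σ b + a * σ a = 0)
    (ha : a ≠ 0) (hb : b ≠ 0)
    (s : SUJ σ) (hsK : s ∈ Subgroup.closure ({uJ σ hσ a b hab,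
      wJ σ * uJ σ hσ a b hab * (wJ σ)⁻¹} : Set (SUJ σ)))
    (hs10 : mat s 1 0 = 0) (hs20 : mat s 2 0 = 0) (hs21 : mat s 2 1 = 0)
    (hν : Subfield.closure {mat s 0 0 * σ (mat s 1 1)} = ⊤) : Goal F q := by
  obtain ⟨fr, ω, hω⟩ := exists_frame_omega hF σ hσq
  have hxm : mat (uJ σ hσ a b hab) = uM σ a b := rfl
  refine ⟨Psi σ hσ hσq fr (uJ σ hσ a b hab), Psi σ hσ hσq fr (wJ σ),
    regular_Psi σ hσ hσq fr _ hxm ha, ?_⟩
  refine closure_eq_top_of_data σ hσ hσq fr hF hq2 hω _ (wJ σ) s hxm ha ?_ hsK hs10 hs20 hs21 hν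
  have hz : mat (wJ σ * uJ σ hσ a b hab * (wJ σ)⁻¹) = vM σ a b := by
    rw [mat_mul, mat_mul, mat_inv, hxm]
    show wM F * uM σ a b * dag σ (wM F) = vM σ a b
    rw [dag_wM, wM_uM_wM]
  rw [hz]
  simpa [vM] using hb

theorem mat_conj_w (σ : F →+* F) (hσ : ∀ x, σ (σ x) = x) {a b : F}
    (hab : b + σ b + a * σ a = 0) :
    mat (wJ σ * uJ σ hσ a b hab * (wJ σ)⁻¹) = vM σ a b := by
  rw [mat_mul, mat_mul, mat_inv]
  show wM F * uM σ a b * dag σ (wM F) = vM σ a b
  rw [dag_wM, wM_uM_wM]

/-- generic subfield argument -/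
theorem closure_eq_top_of_card {y : F}
    (h : ∀ K : Subfield F, y ∈ K → Nat.card K = Fintype.card F) :
    Subfield.closure {y} = ⊤ := by
  classical
  have hmem : y ∈ Subfield.closure {y} := Subfield.subset_closure (Set.mem_singleton _)
  have hcard := h _ hmem
  rw [Nat.card_eq_fintype_card] at hcard
  have hbij : Function.Bijective (Subtype.val : Subfield.closure {y} → F) :=
    (Fintype.bijective_iff_injective_and_card _).mpr ⟨Subtype.val_injective, hcard⟩
  rw [eq_top_iff]
  intro x _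
  obtain ⟨⟨x', hx'⟩, rfl⟩ := hbij.2 x
  exact hx'

theorem pow_card_subfield (K : Subfield F) {y : F} (hy : y ∈ K) : y ^ Nat.card K = y := by
  classical
  rw [Nat.card_eq_fintype_card]
  have := FiniteField.pow_card (⟨y, hy⟩ : K)
  have := congrArg Subtype.val this
  simpa using this

/-- in a field with 25 elements, an element with `y^5 ≠ y` generates -/
theorem closure_eq_top_25 (hF : Fintype.card F = 25) {y : F} (hy : y ^ 5 ≠ y) :
    Subfield.closure {y} = ⊤ := by
  classical
  apply closure_eq_top_of_card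
  intro K hyK
  have hcard : Fintype.card F = Fintype.card K ^ Module.finrank K F := Module.card_eq_pow_finrank
  have hk2 : 2 ≤ Fintype.card K := Fintype.one_lt_card
  have hpow := pow_card_subfield K hyK
  rw [Nat.card_eq_fintype_card] at hpow ⊢
  set k := Fintype.card K with hk
  set m := Module.finrank K F with hm
  rw [hF] at hcard ⊢
  have hm0 : m ≠ 0 := by
    intro h0; rw [h0, pow_zero] at hcard; omega
  by_cases hm1 : m = 1
  · rw [hm1, pow_one] at hcard; exact hcard.symm
  · exfalso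
    have hm2 : 2 ≤ m := by omega
    have hk5 : k ≤ 5 := by
      by_contra h6
      have : 6 ^ 2 ≤ k ^ m := by
        calc 6 ^ 2 ≤ k ^ 2 := Nat.pow_le_pow_left (by omega) 2
          _ ≤ k ^ m := Nat.pow_le_pow_right (by omega) hm2
      omega
    have hm5 : m ≤ 4 := by
      by_contra h5
      have : 2 ^ 5 ≤ k ^ m := by
        calc 2 ^ 5 ≤ 2 ^ m := Nat.pow_le_pow_right (by norm_num) (by omega)
          _ ≤ k ^ m := Nat.pow_le_pow_left hk2 m
      omega
    have hk5' : k = 5 := by
      interval_cases k <;> interval_cases m <;> omega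
    rw [hk5'] at hpow
    exact hy hpow

/-- in a field with 64 elements, an element with `y^8 ≠ y` and `y^4 ≠ y` generates -/
theorem closure_eq_top_64 (hF : Fintype.card F = 64) {y : F} (hy8 : y ^ 8 ≠ y) (hy4 : y ^ 4 ≠ y) :
    Subfield.closure {y} = ⊤ := by
  classical
  apply closure_eq_top_of_card
  intro K hyK
  have hcard : Fintype.card F = Fintype.card K ^ Module.finrank K F := Module.card_eq_pow_finrank
  have hk2 : 2 ≤ Fintype.card K := Fintype.one_lt_card
  have hpow := pow_card_subfield K hyK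
  rw [Nat.card_eq_fintype_card] at hpow ⊢
  set k := Fintype.card K with hk
  set m := Module.finrank K F with hm
  rw [hF] at hcard ⊢
  have hm0 : m ≠ 0 := by
    intro h0; rw [h0, pow_zero] at hcard; omega
  by_cases hm1 : m = 1
  · rw [hm1, pow_one] at hcard; exact hcard.symm
  · exfalso
    have hm2 : 2 ≤ m := by omega
    have hk8 : k ≤ 8 := by
      by_contra h9
      have : 9 ^ 2 ≤ k ^ m := by
        calc 9 ^ 2 ≤ k ^ 2 := Nat.pow_le_pow_left (by omega) 2
          _ ≤ k ^ m := Nat.pow_le_pow_right (by omega) hm2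
      omega
    have hm6 : m ≤ 6 := by
      by_contra h7
      have : 2 ^ 7 ≤ k ^ m := by
        calc 2 ^ 7 ≤ 2 ^ m := Nat.pow_le_pow_right (by norm_num) (by omega)
          _ ≤ k ^ m := Nat.pow_le_pow_left hk2 m
      omega
    have hcases : k = 2 ∨ k = 4 ∨ k = 8 := by
      interval_cases k <;> interval_cases m <;> omega
    rcases hcases with h | h | h
    · rw [h] at hpow
      apply hy4
      calc y ^ 4 = (y ^ 2) ^ 2 := by ring
        _ = y := by rw [hpow, hpow]
    · rw [h] at hpow; exact hy4 hpow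
    · rw [h] at hpow; exact hy8 hpow

end fin

end Cfsg.Agent.Lib.H8.SU3Gen
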