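import Mathlib
import Cfsg.Agent.Lib.H8.SU3W

set_option autoImplicit false

/-! # The word for `SU_3(5)` (generated by /tmp/su3/gen5.py; helper8) -/

namespace Cfsg.Agent.Lib.H8.SU3Gen

open Matrix

variable {F : Type*} [Field F]

theorem w5_step1 (i : F) (hi : i ^ 2 = 2) (h5 : (5 : F) = 0) :
    (!![1, 0, 0; 1, 1, 0; 2 + 3*i, (-1), 1] : Matrix (Fin 3) (Fin 3) F) * !![1, 0, 0; 1, 1, 0; 2 + 3*i, (-1), 1] =
      !![1, 0, 0; 2, 1, 0; 3 + i, 3, 1] := by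
  rw [Matrix.mul_fin_three]
  exact mat3_ext
    (by ring)
    (by ring)
    (by ring)
    (by ring)
    (by ring)
    (by ring)
    (by linear_combination (i) * h5)
    (by linear_combination ((-1)) * h5)
    (by ring)

theorem w5_step2 (i : F) (hi : i ^ 2 = 2) (h5 : (5 : F) = 0) :
    (!![1, 0, 0; 2, 1, 0; 3 + i, 3, 1] : Matrix (Fin 3) (Fin 3) F) * !![1, 1, 2 + 3*i; 0, 1, (-1); 0, 0, 1] =
      !![1, 1, 2 + 3*i; 2, 3, 3 + i; 3 + i, 1 + i, i] := by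
  rw [Matrix.mul_fin_three]
  exact mat3_ext
    (by ring)
    (by ring)
    (by ring)
    (by ring)
    (by ring)
    (by linear_combination (i) * h5)
    (by ring)
    (by linear_combination (1) * h5)
    (by linear_combination (3) * hi + (2 + 2*i) * h5)

theorem w5_step3 (i : F) (hi : i ^ 2 = 2) (h5 : (5 : F) = 0) :
    (!![1, 1, 2 + 3*i; 2, 3, 3 + i; 3 + i, 1 + i, i] : Matrix (Fin 3) (Fin 3) F) * !![1, 1, 2 + 3*i; 0, 1, (-1); 0, 0, 1] =
      !![1, 2, 3 + i; 2, 0, 4 + 2*i; 3 + i, 4 + 2*i, 1 + i] := by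
  rw [Matrix.mul_fin_three]
  exact mat3_ext
    (by ring)
    (by ring)
    (by linear_combination (i) * h5)
    (by ring)
    (by linear_combination (1) * h5)
    (by linear_combination (i) * h5)
    (by ring)
    (by ring)
    (by linear_combination (3) * hi + (2 + 2*i) * h5)

theorem w5_step4 (i : F) (hi : i ^ 2 = 2) (h5 : (5 : F) = 0) :
    (!![1, 2, 3 + i; 2, 0, 4 + 2*i; 3 + i, 4 + 2*i, 1 + i] : Matrix (Fin 3) (Fin 3) F) * !![1, 1, 2 + 3*i; 0, 1, (-1); 0, 0, 1] =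
      !![1, 3, 3 + 4*i; 2, 2, 3 + 3*i; 3 + i, 2 + 3*i, 4] := by
  rw [Matrix.mul_fin_three]
  exact mat3_ext
    (by ring)
    (by ring)
    (by ring)
    (by ring)
    (by ring)
    (by linear_combination (1 + i) * h5)
    (by ring)
    (by linear_combination (1) * h5)
    (by linear_combination (3) * hi + (1 + 2*i) * h5)

theorem w5_step5 (i : F) (hi : i ^ 2 = 2) (h5 : (5 : F) = 0) :
    (!![1, 3, 3 + 4*i; 2, 2, 3 + 3*i; 3 + i, 2 + 3*i, 4] : Matrix (Fin 3) (Fin 3) F) * !![1, 0, 0; 1, 1, 0; 2 + 3*i, (-1), 1] =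
      !![4 + 2*i, i, 3 + 4*i; 3, 4 + 2*i, 3 + 3*i; 3 + i, 3 + 3*i, 4] := by
  rw [Matrix.mul_fin_three]
  exact mat3_ext
    (by linear_combination (12) * hi + (6 + 3*i) * h5)
    (by linear_combination ((-1)*i) * h5)
    (by ring)
    (by linear_combination (9) * hi + (5 + 3*i) * h5)
    (by linear_combination ((-1) + (-1)*i) * h5)
    (by ring)
    (by linear_combination (2 + 3*i) * h5)
    (by linear_combination ((-1)) * h5)
    (by ring)

theorem w5_step6 (i : F) (hi : i ^ 2 = 2) (h5 : (5 : F) = 0) :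
    (!![4 + 2*i, i, 3 + 4*i; 3, 4 + 2*i, 3 + 3*i; 3 + i, 3 + 3*i, 4] : Matrix (Fin 3) (Fin 3) F) * !![1, 1, 2 + 3*i; 0, 1, (-1); 0, 0, 1] =
      !![4 + 2*i, 4 + 3*i, 3 + 4*i; 3, 2 + 2*i, 0; 3 + i, 1 + 4*i, 3 + 3*i] := by
  rw [Matrix.mul_fin_three]
  exact mat3_ext
    (by ring)
    (by ring)
    (by linear_combination (6) * hi + (4 + 3*i) * h5)
    (by ring)
    (by linear_combination (1) * h5)
    (by linear_combination (1 + 2*i) * h5)
    (by ring)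
    (by linear_combination (1) * h5)
    (by linear_combination (3) * hi + (2 + i) * h5)

theorem w5_step7 (i : F) (hi : i ^ 2 = 2) (h5 : (5 : F) = 0) :
    (!![4 + 2*i, 4 + 3*i, 3 + 4*i; 3, 2 + 2*i, 0; 3 + i, 1 + 4*i, 3 + 3*i] : Matrix (Fin 3) (Fin 3) F) * !![1, 1, 2 + 3*i; 0, 1, (-1); 0, 0, 1] =
      !![4 + 2*i, 3, 4 + 2*i; 3, 2*i, 4 + 2*i; 3 + i, 4, 4] := by
  rw [Matrix.mul_fin_three]
  exact mat3_ext
    (by ring)
    (by linear_combination (1 + i) * h5)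
    (by linear_combination (6) * hi + (3 + 3*i) * h5)
    (by ring)
    (by linear_combination (1) * h5)
    (by linear_combination (i) * h5)
    (by ring)
    (by linear_combination (i) * h5)
    (by linear_combination (3) * hi + (2 + 2*i) * h5)

theorem w5_step8 (i : F) (hi : i ^ 2 = 2) (h5 : (5 : F) = 0) :
    (!![4 + 2*i, 3, 4 + 2*i; 3, 2*i, 4 + 2*i; 3 + i, 4, 4] : Matrix (Fin 3) (Fin 3) F) * !![1, 1, 2 + 3*i; 0, 1, (-1); 0, 0, 1] =
      !![4 + 2*i, 2 + 2*i, 1 + 3*i; 3, 3 + 2*i, 4*i; 3 + i, 2 + i, 2 + i] := by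
  rw [Matrix.mul_fin_three]
  exact mat3_ext
    (by ring)
    (by linear_combination (1) * h5)
    (by linear_combination (6) * hi + (4 + 3*i) * h5)
    (by ring)
    (by ring)
    (by linear_combination (2 + i) * h5)
    (by ring)
    (by linear_combination (1) * h5)
    (by linear_combination (3) * hi + (2 + 2*i) * h5)

theorem w5_step9 (i : F) (hi : i ^ 2 = 2) (h5 : (5 : F) = 0) :
    (!![4 + 2*i, 2 + 2*i, 1 + 3*i; 3, 3 + 2*i, 4*i; 3 + i, 2 + i, 2 + i] : Matrix (Fin 3) (Fin 3) F) * !![1, 0, 0; 1, 1, 0; 2 + 3*i, (-1), 1] =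
      !![1 + 3*i, 1 + 4*i, 1 + 3*i; 0, 3 + 3*i, 4*i; 0, 0, 2 + i] := by
  rw [Matrix.mul_fin_three]
  exact mat3_ext
    (by linear_combination (9) * hi + (5 + 2*i) * h5)
    (by linear_combination ((-1)*i) * h5)
    (by ring)
    (by linear_combination (12) * hi + (6 + 2*i) * h5)
    (by linear_combination ((-1)*i) * h5)
    (by ring)
    (by linear_combination (3) * hi + (3 + 2*i) * h5)
    (by ring)
    (by ring)

theorem w5_word (i : F) (hi : i ^ 2 = 2) (h5 : (5 : F) = 0) :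
    (!![1, 0, 0; 1, 1, 0; 2 + 3*i, (-1), 1] : Matrix (Fin 3) (Fin 3) F) * !![1, 0, 0; 1, 1, 0; 2 + 3*i, (-1), 1] * !![1, 1, 2 + 3*i; 0, 1, (-1); 0, 0, 1] * !![1, 1, 2 + 3*i; 0, 1, (-1); 0, 0, 1] * !![1, 1, 2 + 3*i; 0, 1, (-1); 0, 0, 1] * !![1, 0, 0; 1, 1, 0; 2 + 3*i, (-1), 1] * !![1, 1, 2 + 3*i; 0, 1, (-1); 0, 0, 1] * !![1, 1, 2 + 3*i; 0, 1, (-1); 0, 0, 1] * !![1, 1, 2 + 3*i; 0, 1, (-1); 0, 0, 1] * !![1, 0, 0; 1, 1, 0; 2 + 3*i, (-1), 1] =
      !![1 + 3*i, 1 + 4*i, 1 + 3*i; 0, 3 + 3*i, 4*i; 0, 0, 2 + i] := by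
  rw [w5_step1 i hi h5, w5_step2 i hi h5, w5_step3 i hi h5, w5_step4 i hi h5, w5_step5 i hi h5, w5_step6 i hi h5, w5_step7 i hi h5, w5_step8 i hi h5, w5_step9 i hi h5]

end Cfsg.Agent.Lib.H8.SU3Gen
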