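import Mathlib
import Cfsg.Agent.Lib.H8.SU3W5

set_option autoImplicit false

/-!
# `SU_3(5)` is generated by two conjugate regular unipotent elements (helper8)
-/

namespace Cfsg.Agent.Lib.H8.SU3Gen

open Matrix

variable {F : Type*} [Field F] [Fintype F]

/-- a field with 25 elements has characteristic 5 and contains a square root of 2 -/
theorem exists_sqrt_two (hF : Fintype.card F = 25) : (5 : F) = 0 ∧ ∃ i : F, i ^ 2 = 2 := by
  classical
  obtain ⟨p, hp⟩ := CharP.exists F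
  obtain ⟨n, hpp, hcard⟩ := FiniteField.card F p
  have hp5 : p = 5 := by
    rw [hF] at hcard
    have hdvd : p ∣ 25 := by
      rw [hcard]; exact dvd_pow_self p n.ne_zero
    have : p ∣ 5 ^ 2 := by norm_num; exact hdvd
    exact (Nat.prime_dvd_prime_iff_eq hpp (by norm_num)).mp (hpp.dvd_of_dvd_pow this)
  subst hp5
  have h5 : (5 : F) = 0 := by
    have := CharP.cast_eq_zero F 5
    exact_mod_cast this
  refine ⟨h5, ?_⟩
  obtain ⟨ζ, hζ⟩ := IsCyclic.exists_generator (α := Fˣ)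
  have hord : orderOf ζ = 24 := by
    rw [orderOf_eq_card_of_forall_mem_zpowers hζ, Nat.card_eq_fintype_card, Fintype.card_units, hF]
  have hpow : ∀ k : ℕ, (ζ : F) ^ k = 1 → 24 ∣ k := by
    intro k hk
    rw [← hord]
    apply orderOf_dvd_of_pow_eq_one
    apply Units.ext
    rw [Units.val_pow_eq_pow_val, hk, Units.val_one]
  have hζ24 : (ζ : F) ^ 24 = 1 := by
    have := FiniteField.pow_card_sub_one_eq_one (ζ : F) ζ.ne_zero
    rwa [hF] at this
  obtain ⟨j, hj⟩ : ∃ j : F, j = (ζ : F) ^ 3 := ⟨_, rfl⟩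
  have hj8 : j ^ 8 = 1 := by rw [hj, ← pow_mul]; exact hζ24
  have hj4 : j ^ 4 ≠ 1 := by
    rw [hj, ← pow_mul]
    intro h
    have := hpow _ h
    omega
  have hj4' : j ^ 4 = -1 := by
    have h0 : (j ^ 4 - 1) * (j ^ 4 + 1) = 0 := by linear_combination hj8
    rcases mul_eq_zero.mp h0 with h | h
    · exact absurd (sub_eq_zero.mp h) hj4
    · linear_combination h
  have h2 : (j ^ 2 - 2) * (j ^ 2 + 2) = 0 := by linear_combination hj4' - h5
  rcases mul_eq_zero.mp h2 with h | h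
  · exact ⟨j, by linear_combination h⟩
  · refine ⟨j ^ 3, ?_⟩
    linear_combination (j ^ 2) * hj4' + (-1 : F) * h

/-- the case `q = 5` -/
theorem goal5 (hF : Fintype.card F = 5 ^ 2) : Goal F 5 := by
  obtain ⟨σ, hσq, hσ⟩ := exists_sigma hF
  obtain ⟨h5, i, hi⟩ := exists_sqrt_two (F := F) (by rw [hF]; norm_num)
  have hσi : σ i = -i := by
    rw [hσq]
    linear_combination (i ^ 3 + 2 * i) * hi + i * h5
  have hab : (2 + 3 * i) + σ (2 + 3 * i) + 1 * σ 1 = 0 := by
    rw [map_add, map_mul, map_ofNat, map_ofNat, hσi, map_one]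
    linear_combination h5
  have h1ne : (1 : F) ≠ 0 := one_ne_zero
  have hb : (2 + 3 * i : F) ≠ 0 := by
    intro h
    apply h1ne
    linear_combination (2 - 3 * i) * h + (9 : F) * hi + (3 : F) * h5
  set x : SUJ σ := uJ σ hσ 1 (2 + 3 * i) hab with hx
  set z : SUJ σ := wJ σ * x * (wJ σ)⁻¹ with hz
  have hxm : mat x = !![1, 1, 2 + 3*i; 0, 1, (-1); 0, 0, 1] := by
    show uM σ 1 (2 + 3 * i) = _
    unfold uM
    rw [map_one]
  have hzm : mat z = !![1, 0, 0; 1, 1, 0; 2 + 3*i, (-1), 1] := by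
    rw [hz, hx, mat_conj_w]
    unfold vM
    rw [map_one]
  have hsm : mat (z * z * x * x * x * z * x * x * x * z) =
      !![1 + 3*i, 1 + 4*i, 1 + 3*i; 0, 3 + 3*i, 4*i; 0, 0, 2 + i] := by
    simp only [mat_mul]
    rw [hxm, hzm]
    exact w5_word i hi h5
  have hxK : x ∈ Subgroup.closure ({x, z} : Set (SUJ σ)) := Subgroup.subset_closure (by simp)
  have hzK : z ∈ Subgroup.closure ({x, z} : Set (SUJ σ)) := Subgroup.subset_closure (by simp)
  refine goal_of_word hF (by norm_num) σ hσq hσ hab one_ne_zero hb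
    (z * z * x * x * x * z * x * x * x * z) ?_ ?_ ?_ ?_ ?_
  · exact Subgroup.mul_mem _ (Subgroup.mul_mem _ (Subgroup.mul_mem _ (Subgroup.mul_mem _
      (Subgroup.mul_mem _ (Subgroup.mul_mem _ (Subgroup.mul_mem _ (Subgroup.mul_mem _
      (Subgroup.mul_mem _ hzK hzK) hxK) hxK) hxK) hzK) hxK) hxK) hxK) hzK
  · rw [hsm]; rfl
  · rw [hsm]; rfl
  · rw [hsm]; rfl
  · rw [hsm]
    have hν : (!![1 + 3*i, 1 + 4*i, 1 + 3*i; 0, 3 + 3*i, 4*i; 0, 0, 2 + i] :
        Matrix (Fin 3) (Fin 3) F) 0 0 * σ ((!![1 + 3*i, 1 + 4*i, 1 + 3*i; 0, 3 + 3*i, 4*i;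
          0, 0, 2 + i] : Matrix (Fin 3) (Fin 3) F) 1 1) = i := by
      show (1 + 3 * i) * σ (3 + 3 * i) = i
      rw [map_add, map_mul, map_ofNat, hσi]
      linear_combination (-9 : F) * hi + (-3 + i) * h5
    rw [hν]
    apply closure_eq_top_25 (by rw [hF]; norm_num)
    intro h
    have hi5 : i ^ 5 = -i := by rw [← hσq, hσi]
    have h2i : 2 * i = 0 := by linear_combination hi5 - h
    apply h1ne
    linear_combination (-i) * h2i + 2 * hi + h5

end Cfsg.Agent.Lib.H8.SU3Gen
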