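import Mathlib
import Cfsg.Agent.Lib.H8.SU3H

set_option autoImplicit false

/-!
# The local generation statement in `SU_3(q)` for S2282 (helper8)

`Local3 σ`: there are `x = u(a,b)`, a split torus element `t = diag(ν₁,1,ν₁⁻¹)` and
`h = w · diag(ν,1,σ(ν)⁻¹)` such that the two commutators `x₁ = x (t x t⁻¹)⁻¹` and
`k₂ = x (h x h⁻¹)⁻¹` generate `SU_3(q)` (antidiagonal model `SUJ σ`).
-/

namespace Cfsg.Agent.Lib.H8.SU3Gen

open Matrix

variable {F : Type*} [Field F] {q : ℕ}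

section psi

variable (σ : F →+* F) (hσ : ∀ x, σ (σ x) = x) (hσq : ∀ x, σ x = x ^ q) (fr : Frame σ)

theorem Psi_injective : Function.Injective (Psi σ hσ hσq fr) := by
  intro k l h
  apply mat_injective
  rw [mat_of_Psi σ hσ hσq fr k, mat_of_Psi σ hσ hσq fr l, h]

variable [Fintype F]

include hσ hσq in
/-- **generation criterion** inside the antidiagonal model -/
theorem SUJ_eq_top_of_data (hF : Fintype.card F = q ^ 2) (hq2 : q ≠ 2) (K : Subgroup (SUJ σ))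
    {x z s : SUJ σ} (hx : x ∈ K) (hz : z ∈ K) (hs : s ∈ K) {a b : F} (hxm : mat x = uM σ a b)
    (ha : a ≠ 0) (hz20 : mat z 2 0 ≠ 0)
    (hs10 : mat s 1 0 = 0) (hs20 : mat s 2 0 = 0) (hs21 : mat s 2 1 = 0)
    (hν : Subfield.closure {mat s 0 0 * σ (mat s 1 1)} = ⊤) : K = ⊤ := by
  have hq0 : q ≠ 0 := by
    rintro rfl
    simp at hF
  obtain ⟨fr, ω, hω⟩ := exists_frame_omega hF σ hσq
  have hmap : K.map (Psi σ hσ hσq fr) = ⊤ := by
    rw [eq_top_iff,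
      ← Cfsg.Agent.Lib.H11.UGen.su_closure_eq_top hF 3 (le_refl 3) (fun h => hq2 h.2),
      Subgroup.closure_le]
    rintro A ⟨v, c, hv, hA⟩
    obtain ⟨k, rfl⟩ := Psi_surjective σ hσ hσq fr hq0 A
    refine Subgroup.mem_map_of_mem _ ?_
    refine tv_mem σ hσ K hω hx hz hs hxm ha hz20 hs10 hs20 hs21 hν k (fr.P' *ᵥ v) c ?_ ?_
    · rw [hJ_P' σ hσ hσq fr, hv]
    · rw [mat_of_Psi σ hσ hσq fr k]
      have : smat (Psi σ hσ hσq fr k) = Cfsg.unitaryTransvection 3 q v c := hA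
      rw [this, conj_unitaryTransvection σ hσ hσq fr]
  rw [eq_top_iff]
  intro k _
  have hk : Psi σ hσ hσq fr k ∈ K.map (Psi σ hσ hσq fr) := by rw [hmap]; trivial
  obtain ⟨k', hk', hkk'⟩ := hk
  have := Psi_injective σ hσ hσq fr hkk'
  rw [← this]; exact hk'

end psi

/-- the local generation statement -/
def Local3 (σ : F →+* F) : Prop :=
  ∃ a b ν₁ ν : F, a ≠ 0 ∧ b + σ b + a * σ a = 0 ∧ σ ν₁ = ν₁ ∧ ν₁ ≠ 0 ∧ ν ≠ 0 ∧
    (σ ν = ν ∨ Nat.card F = 9) ∧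
    ∀ (K : Subgroup (SUJ σ)) (x₁ k₂ : SUJ σ),
      mat x₁ = uM σ a b * uM σ (-(ν₁ * a)) (ν₁ ^ 2 * σ b) →
      mat k₂ = uM σ a b * vM σ (-(ν * a)) (ν * σ ν * σ b) →
      x₁ ∈ K → k₂ ∈ K → K = ⊤

/-- the generic word `k₂ x₁ k₂` -/
theorem generic_word (σ : F →+* F) {δ D E b ν₁ ν : F} (hD : D = 1 + δ ^ 2)
    (hE : E = δ ^ 2 - δ + 1) (hD0 : D ≠ 0) (hE0 : E ≠ 0) (hδ0 : δ ≠ 0) (hb : b = -1 / D)
    (hν₁ : ν₁ = (δ - 1) ^ 2 / E) (hν : ν = D * E / δ ^ 2) (hsb : σ b = -δ ^ 2 / D)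
    (hσν : σ ν = ν) (hσν₁ : σ ν₁ = ν₁) :
    let X1 : Matrix (Fin 3) (Fin 3) F := uM σ 1 b * uM σ (-(ν₁ * 1)) (ν₁ ^ 2 * σ b)
    let K2 : Matrix (Fin 3) (Fin 3) F := uM σ 1 b * vM σ (-(ν * 1)) (ν * σ ν * σ b)
    (K2 * X1 * K2) 1 0 = 0 ∧ (K2 * X1 * K2) 2 0 = 0 ∧ (K2 * X1 * K2) 2 1 = 0 ∧
    (K2 * X1 * K2) 0 0 = δ ^ 2 ∧ (K2 * X1 * K2) 1 1 = (δ ^ 4)⁻¹ := by
  intro X1 K2
  refine ⟨?_, ?_, ?_, ?_, ?_⟩
  all_goals
    simp only [X1, K2, vM, uM, Matrix.mul_apply, Fin.sum_univ_three, map_one, map_neg, mul_one]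
    simp
    rw [hσν, hσν₁, hsb, hb, hν₁, hν]
    field_simp
    rw [hD, hE]
    ring

section fin

variable [Fintype F]

/-- the local statement from a good norm one element -/
theorem local3_of_delta (hF : Fintype.card F = q ^ 2) (hq2 : q ≠ 2) (σ : F →+* F)
    (hσq : ∀ x, σ x = x ^ q) (hσ : ∀ x, σ (σ x) = x) {δ : F} (hδ : δ * σ δ = 1)
    (hD0 : 1 + δ ^ 2 ≠ 0) (hE0 : δ ^ 2 - δ + 1 ≠ 0) (hδ1 : δ ≠ 1)
    (hcl : Subfield.closure {δ ^ 6} = ⊤) : Local3 σ := by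
  have hδ0 : δ ≠ 0 := by
    rintro rfl
    simp at hδ
  have hσδ : σ δ = δ⁻¹ := eq_inv_of_mul_eq_one_right hδ
  obtain ⟨D, hD⟩ : ∃ D : F, D = 1 + δ ^ 2 := ⟨_, rfl⟩
  obtain ⟨E, hE⟩ : ∃ E : F, E = δ ^ 2 - δ + 1 := ⟨_, rfl⟩
  have hD0' : D ≠ 0 := by rw [hD]; exact hD0
  have hE0' : E ≠ 0 := by rw [hE]; exact hE0
  have hσD : σ D = D / δ ^ 2 := by
    rw [hD, map_add, map_one, map_pow, hσδ]
    field_simp
    ring
  have hσE : σ E = E / δ ^ 2 := by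
    rw [hE, map_add, map_sub, map_one, map_pow, hσδ]
    field_simp
    ring
  obtain ⟨b, hb⟩ : ∃ b : F, b = -1 / D := ⟨_, rfl⟩
  obtain ⟨ν₁, hν₁⟩ : ∃ ν₁ : F, ν₁ = (δ - 1) ^ 2 / E := ⟨_, rfl⟩
  obtain ⟨ν, hν⟩ : ∃ ν : F, ν = D * E / δ ^ 2 := ⟨_, rfl⟩
  have hsb : σ b = -δ ^ 2 / D := by
    rw [hb, map_div₀, map_neg, map_one, hσD]
    field_simp
  have hσν₁ : σ ν₁ = ν₁ := by
    rw [hν₁, map_div₀, map_pow, map_sub, map_one, hσE, hσδ]
    field_simp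
    ring
  have hσν : σ ν = ν := by
    rw [hν, map_div₀, map_mul, map_pow, hσD, hσE, hσδ]
    field_simp
  have hν0 : ν ≠ 0 := by
    rw [hν]
    exact div_ne_zero (mul_ne_zero hD0' hE0') (pow_ne_zero 2 hδ0)
  have hν₁0 : ν₁ ≠ 0 := by
    rw [hν₁]
    exact div_ne_zero (pow_ne_zero 2 (sub_ne_zero.mpr hδ1)) hE0'
  have hb0 : b ≠ 0 := by
    rw [hb]
    exact div_ne_zero (neg_ne_zero.mpr one_ne_zero) hD0'
  have hσb0 : σ b ≠ 0 := fun h => hb0 ((map_eq_zero σ).mp h)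
  have hab : b + σ b + 1 * σ 1 = 0 := by
    rw [hsb, hb, map_one]
    field_simp
    rw [hD]
    ring
  obtain ⟨h10, h20, h21, h00, h11⟩ :=
    generic_word σ hD hE hD0' hE0' hδ0 hb hν₁ hν hsb hσν hσν₁
  refine ⟨1, b, ν₁, ν, one_ne_zero, hab, hσν₁, hν₁0, hν0, Or.inl hσν, ?_⟩
  intro K x₁ k₂ hx₁ hk₂ hx₁K hk₂K
  have hx₁' : mat x₁ = uM σ (1 + -(ν₁ * 1)) (b + ν₁ ^ 2 * σ b - 1 * σ (-(ν₁ * 1))) := by
    rw [hx₁, uM_mul]
  have ha' : (1 + -(ν₁ * 1) : F) ≠ 0 := by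
    have : (1 + -(ν₁ * 1) : F) = δ / E := by
      rw [hν₁]
      field_simp
      rw [hE]
      ring
    rw [this]
    exact div_ne_zero hδ0 hE0'
  have hsm : mat (k₂ * x₁ * k₂) =
      (uM σ 1 b * vM σ (-(ν * 1)) (ν * σ ν * σ b)) *
        (uM σ 1 b * uM σ (-(ν₁ * 1)) (ν₁ ^ 2 * σ b)) *
        (uM σ 1 b * vM σ (-(ν * 1)) (ν * σ ν * σ b)) := by
    rw [mat_mul, mat_mul, hx₁, hk₂]
  refine SUJ_eq_top_of_data σ hσ hσq hF hq2 K hx₁K hk₂K
    (K.mul_mem (K.mul_mem hk₂K hx₁K) hk₂K) hx₁' ha' ?_ ?_ ?_ ?_ ?_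
  · rw [hk₂]
    have : (uM σ 1 b * vM σ (-(ν * 1)) (ν * σ ν * σ b)) 2 0 = ν * σ ν * σ b := by
      simp [uM, vM, Matrix.mul_apply, Fin.sum_univ_three]
    rw [this, hσν]
    exact mul_ne_zero (mul_ne_zero hν0 hν0) hσb0
  · rw [hsm]; exact h10
  · rw [hsm]; exact h20
  · rw [hsm]; exact h21
  · rw [hsm, h00, h11]
    have : δ ^ 2 * σ (δ ^ 4)⁻¹ = δ ^ 6 := by
      rw [map_inv₀, map_pow, hσδ]
      field_simp
    rw [this]
    exact hcl

set_option synthInstance.maxSize 4000 in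
set_option synthInstance.maxHeartbeats 400000 in
set_option maxRecDepth 100000 in
theorem arith6 : ∀ k < 36, ∀ q < 204, (2 ≤ k ∧ 4 ≤ q ∧ k ^ 3 ≤ q ^ 2 ∧ (q + 1) ∣ 6 * (k - 1) ∧
    k ∣ q ^ 2) → (k = 4 ∧ q = 8) ∨ (k = 7 ∧ q = 35) := by
  decide

/-- a good norm one element exists for `q ∉ {2, 3, 5, 8, 11}` -/
theorem exists_delta (hF : Fintype.card F = q ^ 2) (hq3 : 3 ≤ q) (hq3' : q ≠ 3) (hq5 : q ≠ 5)
    (hq8 : q ≠ 8) (hq11 : q ≠ 11) :
    ∃ δ : F, δ * δ ^ q = 1 ∧ 1 + δ ^ 2 ≠ 0 ∧ δ ^ 2 - δ + 1 ≠ 0 ∧ δ ≠ 1 ∧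
      Subfield.closure {δ ^ 6} = ⊤ := by
  classical
  obtain ⟨ζ, hζ⟩ := IsCyclic.exists_generator (α := Fˣ)
  have hord : orderOf ζ = q ^ 2 - 1 := by
    rw [orderOf_eq_card_of_forall_mem_zpowers hζ, Nat.card_eq_fintype_card, Fintype.card_units, hF]
  have hpow : ∀ k : ℕ, (ζ : F) ^ k = 1 → (q ^ 2 - 1) ∣ k := by
    intro k hk
    rw [← hord]
    apply orderOf_dvd_of_pow_eq_one
    apply Units.ext
    rw [Units.val_pow_eq_pow_val, hk, Units.val_one]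
  have hζ1 : (ζ : F) ^ (q ^ 2 - 1) = 1 := by
    have := FiniteField.pow_card_sub_one_eq_one (ζ : F) ζ.ne_zero
    rwa [hF] at this
  have hfac : q ^ 2 - 1 = (q - 1) * (q + 1) := by
    zify [show 1 ≤ q ^ 2 from Nat.one_le_pow _ _ (by omega), show 1 ≤ q by omega]
    ring
  have hq1 : 0 < q - 1 := by omega
  set δ : F := (ζ : F) ^ (q - 1) with hδdef
  -- `δ ^ m = 1` forces `q + 1 ∣ m`
  have hdvd : ∀ m : ℕ, δ ^ m = 1 → (q + 1) ∣ m := by
    intro m hm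
    rw [hδdef, ← pow_mul] at hm
    have hd := hpow _ hm
    rw [hfac] at hd
    exact Nat.dvd_of_mul_dvd_mul_left hq1 hd
  refine ⟨δ, ?_, ?_, ?_, ?_, ?_⟩
  · rw [hδdef, ← pow_succ', ← pow_mul, ← hfac, hζ1]
  · intro h
    have h4 : δ ^ 4 = 1 := by
      have : δ ^ 2 = -1 := by linear_combination h
      calc δ ^ 4 = (δ ^ 2) ^ 2 := by ring
        _ = 1 := by rw [this]; ring
    have := Nat.le_of_dvd (by norm_num) (hdvd 4 h4)
    omega
  · intro h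
    have h6 : δ ^ 6 = 1 := by
      have h3 : δ ^ 3 = -1 := by linear_combination (δ + 1) * h
      calc δ ^ 6 = (δ ^ 3) ^ 2 := by ring
        _ = 1 := by rw [h3]; ring
    have hd := hdvd 6 h6
    have hle := Nat.le_of_dvd (by norm_num) hd
    have : q + 1 ∈ Nat.divisors 6 := Nat.mem_divisors.mpr ⟨hd, by norm_num⟩
    have h6d : Nat.divisors 6 = {1, 2, 3, 6} := by decide
    rw [h6d] at this
    simp at this
    omega
  · intro h
    have := Nat.le_of_dvd (by norm_num) (hdvd 1 (by rw [h, one_pow]))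
    omega
  · set K := Subfield.closure {δ ^ 6} with hK
    have hmem : δ ^ 6 ∈ K := Subfield.subset_closure (Set.mem_singleton _)
    have hcard : Fintype.card F = Fintype.card K ^ Module.finrank K F := Module.card_eq_pow_finrank
    set k := Fintype.card K with hk
    set m := Module.finrank K F with hm
    have hk2 : 2 ≤ k := Fintype.one_lt_card
    have hδ0 : δ ≠ 0 := pow_ne_zero _ ζ.ne_zero
    have h1 : (δ ^ 6) ^ (k - 1) = 1 := by
      have hne : (⟨δ ^ 6, hmem⟩ : K) ≠ 0 := by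
        intro h
        have := congrArg Subtype.val h
        simp [hδ0] at this
      have := FiniteField.pow_card_sub_one_eq_one (⟨δ ^ 6, hmem⟩ : K) hne
      have := congrArg Subtype.val this
      simpa using this
    rw [← pow_mul] at h1
    have hd2 : (q + 1) ∣ 6 * (k - 1) := hdvd _ h1
    have hle : q + 1 ≤ 6 * (k - 1) := Nat.le_of_dvd (by omega) hd2
    rw [hF] at hcard
    have hm1 : m = 1 := by
      by_contra hne
      have hm0 : m ≠ 0 := by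
        intro h0
        rw [h0, pow_zero] at hcard
        nlinarith
      by_cases hm2 : m = 2
      · rw [hm2] at hcard
        have hkq : q = k := Nat.pow_left_injective (by norm_num) hcard
        rw [← hkq] at hd2
        have h12 : (q + 1) ∣ 12 := by
          have h3 : (q + 1) ∣ 6 * (q + 1) := Dvd.intro_left 6 rfl
          have : 6 * (q + 1) - 6 * (q - 1) = 12 := by omega
          rw [← this]
          exact Nat.dvd_sub h3 hd2
        have : q + 1 ∈ Nat.divisors 12 := Nat.mem_divisors.mpr ⟨h12, by norm_num⟩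
        have h12d : Nat.divisors 12 = {1, 2, 3, 4, 6, 12} := by decide
        rw [h12d] at this
        simp at this
        omega
      · have hm3 : 3 ≤ m := by omega
        have hge : k ^ 3 ≤ q ^ 2 := by
          rw [hcard]
          exact Nat.pow_le_pow_right (by omega) hm3
        have hk35 : k < 36 := by
          by_contra h36
          have h36' : 36 ≤ k := by omega
          have hq6k : q < 6 * k := by omega
          have h1 : q ^ 2 < (6 * k) ^ 2 := Nat.pow_lt_pow_left hq6k (by norm_num)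
          have h2 : (6 * k) ^ 2 ≤ k ^ 3 := by
            have := Nat.mul_le_mul_right (k ^ 2) h36'
            nlinarith
          omega
        have hq204 : q < 204 := by omega
        have hkdvd : k ∣ q ^ 2 := by
          rw [hcard]
          exact dvd_pow_self k hm0
        have hq4 : 4 ≤ q := by omega
        rcases arith6 k hk35 q hq204 ⟨hk2, hq4, hge, hd2, hkdvd⟩ with ⟨_, h8⟩ | ⟨h7, h35⟩
        · exact hq8 h8
        · rw [h7, h35] at hcard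
          have hdv : 7 ^ 3 ∣ 7 ^ m := pow_dvd_pow 7 hm3
          rw [← hcard] at hdv
          norm_num at hdv
    rw [hm1, pow_one] at hcard
    have hbij : Function.Bijective (Subtype.val : K → F) :=
      (Fintype.bijective_iff_injective_and_card _).mpr ⟨Subtype.val_injective, by rw [hF, hcard]⟩
    rw [eq_top_iff]
    intro y _
    obtain ⟨⟨y', hy'⟩, rfl⟩ := hbij.2 y
    exact hy'

/-- the local statement for `q ∉ {2, 3, 5, 8, 11}` -/
theorem local3_generic (hF : Fintype.card F = q ^ 2) (hq3 : 3 ≤ q) (hq3' : q ≠ 3) (hq5 : q ≠ 5)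
    (hq8 : q ≠ 8) (hq11 : q ≠ 11) (σ : F →+* F) (hσq : ∀ x, σ x = x ^ q)
    (hσ : ∀ x, σ (σ x) = x) : Local3 σ := by
  obtain ⟨δ, hδ, hD0, hE0, hδ1, hcl⟩ := exists_delta hF hq3 hq3' hq5 hq8 hq11
  exact local3_of_delta hF (by omega) σ hσq hσ (by rw [hσq]; exact hδ) hD0 hE0 hδ1 hcl

end fin

end Cfsg.Agent.Lib.H8.SU3Gen
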