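import Mathlib
import Cfsg.Agent.Lib.H8.SU3W

set_option autoImplicit false

/-! # The word for `SU_3(8)` (generated by /tmp/su3/gen8.py; helper8) -/

namespace Cfsg.Agent.Lib.H8.SU3Gen

open Matrix

variable {F : Type*} [Field F]

theorem w8_step1 (η ω : F) (hη : η ^ 3 = η + 1) (hω : ω ^ 2 = ω + 1) (h2 : (2 : F) = 0) :
    (!![1, 0, 0; η, 1, 0; 1 + η^2*ω, (-1)*η, 1] : Matrix (Fin 3) (Fin 3) F) * !![1, 0, 0; η, 1, 0; 1 + η^2*ω, (-1)*η, 1] =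
      !![1, 0, 0; 0, 1, 0; η^2, 0, 1] := by
  rw [Matrix.mul_fin_three]
  exact mat3_ext
    (by ring)
    (by ring)
    (by ring)
    (by linear_combination (η) * h2)
    (by ring)
    (by ring)
    (by linear_combination (1 + (-1)*η^2 + η^2*ω) * h2)
    (by linear_combination ((-1)*η) * h2)
    (by ring)

theorem w8_step2 (η ω : F) (hη : η ^ 3 = η + 1) (hω : ω ^ 2 = ω + 1) (h2 : (2 : F) = 0) :
    (!![1, 0, 0; 0, 1, 0; η^2, 0, 1] : Matrix (Fin 3) (Fin 3) F) * !![1, η, 1 + η^2*ω; 0, 1, (-1)*η; 0, 0, 1] =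
      !![1, η, 1 + η^2*ω; 0, 1, η; η^2, 1 + η, 1 + η*ω + η^2 + η^2*ω] := by
  rw [Matrix.mul_fin_three]
  exact mat3_ext
    (by ring)
    (by ring)
    (by ring)
    (by ring)
    (by ring)
    (by linear_combination ((-1)*η) * h2)
    (by ring)
    (by linear_combination (1) * hη)
    (by linear_combination (η*ω) * hη)

theorem w8_step3 (η ω : F) (hη : η ^ 3 = η + 1) (hω : ω ^ 2 = ω + 1) (h2 : (2 : F) = 0) :
    (!![1, η, 1 + η^2*ω; 0, 1, η; η^2, 1 + η, 1 + η*ω + η^2 + η^2*ω] : Matrix (Fin 3) (Fin 3) F) * !![1, 0, 0; η, 1, 0; 1 + η^2*ω, (-1)*η, 1] =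
      !![η + η*ω + η^2*ω, ω + η*ω, 1 + η^2*ω; ω + η*ω, 1 + η^2, η; ω + η, ω + η + η*ω + η^2*ω, 1 + η*ω + η^2 + η^2*ω] := by
  rw [Matrix.mul_fin_three]
  exact mat3_ext
    (by linear_combination (η*ω^2) * hη + (η + η^2) * hω + (1 + η^2 + η^2*ω) * h2)
    (by linear_combination ((-1)*ω) * hη + ((-1)*ω + (-1)*η*ω) * h2)
    (by ring)
    (by linear_combination (ω) * hη + (η) * h2)
    (by linear_combination ((-1)*η^2) * h2)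
    (by ring)
    (by linear_combination (ω^2 + η*ω + η*ω^2) * hη + (1 + 2*η + η^2) * hω + (1 + η + 2*η*ω + 2*η^2 + 2*η^2*ω) * h2)
    (by linear_combination ((-1) + (-1)*ω) * hη + ((-1)*ω + (-1)*η + (-1)*η*ω + (-1)*η^2*ω) * h2)
    (by ring)

theorem w8_step4 (η ω : F) (hη : η ^ 3 = η + 1) (hω : ω ^ 2 = ω + 1) (h2 : (2 : F) = 0) :
    (!![η + η*ω + η^2*ω, ω + η*ω, 1 + η^2*ω; ω + η*ω, 1 + η^2, η; ω + η, ω + η + η*ω + η^2*ω, 1 + η*ω + η^2 + η^2*ω] : Matrix (Fin 3) (Fin 3) F) * !![1, η, 1 + η^2*ω; 0, 1, (-1)*η; 0, 0, 1] =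
      !![η + η*ω + η^2*ω, η^2 + η^2*ω, η + η*ω + η^2; ω + η*ω, 1 + η*ω + η^2 + η^2*ω, η^2 + η^2*ω; ω + η, ω + η + η^2 + η^2*ω, 1 + ω + η + η^2 + η^2*ω] := by
  rw [Matrix.mul_fin_three]
  exact mat3_ext
    (by ring)
    (by linear_combination (ω) * hη + (ω + η*ω) * h2)
    (by linear_combination (ω + ω^2 + η*ω^2) * hη + (1 + 2*η + η^2) * hω + (1 + ω + η + η*ω + η^2*ω) * h2)
    (by ring)
    (by ring)
    (by linear_combination ((-1) + ω^2) * hη + (1 + η + η^2) * hω + (ω + η*ω) * h2)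
    (by ring)
    (by linear_combination (η*ω) * h2)
    (by linear_combination (η^2) * hω)

theorem w8_step5 (η ω : F) (hη : η ^ 3 = η + 1) (hω : ω ^ 2 = ω + 1) (h2 : (2 : F) = 0) :
    (!![η + η*ω + η^2*ω, η^2 + η^2*ω, η + η*ω + η^2; ω + η*ω, 1 + η*ω + η^2 + η^2*ω, η^2 + η^2*ω; ω + η, ω + η + η^2 + η^2*ω, 1 + ω + η + η^2 + η^2*ω] : Matrix (Fin 3) (Fin 3) F) * !![1, 0, 0; η, 1, 0; 1 + η^2*ω, (-1)*η, 1] =
      !![ω + η^2, 1 + η, η + η*ω + η^2; 1 + η, ω + η + η^2 + η^2*ω, η^2 + η^2*ω; η*ω + η^2*ω, 1 + η + η^2*ω, 1 + ω + η + η^2 + η^2*ω] := by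
  rw [Matrix.mul_fin_three]
  exact mat3_ext
    (by linear_combination (1 + 2*ω + ω^2 + η*ω) * hη + (1 + η) * hω + (1 + ω + 2*η + 3*η*ω + η^2*ω) * h2)
    (by linear_combination ((-1)) * hη + ((-1) + (-1)*η) * h2)
    (by ring)
    (by linear_combination (1 + ω + η*ω + η*ω^2) * hη + (η + η^2) * hω + (ω + η + 2*η*ω + η^2 + 2*η^2*ω) * h2)
    (by linear_combination ((-1) + (-1)*ω) * hη + ((-1)*ω + (-1)*η) * h2)
    (by ring)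
    (by linear_combination (1 + 2*ω + η*ω + η*ω^2) * hη + (η + 2*η^2) * hω + (1 + 2*ω + 2*η + 2*η*ω + 2*η^2 + 2*η^2*ω) * h2)
    (by linear_combination ((-1) + (-1)*ω) * hη + ((-1) + (-1)*η + (-1)*η*ω) * h2)
    (by ring)

theorem w8_step6 (η ω : F) (hη : η ^ 3 = η + 1) (hω : ω ^ 2 = ω + 1) (h2 : (2 : F) = 0) :
    (!![ω + η^2, 1 + η, η + η*ω + η^2; 1 + η, ω + η + η^2 + η^2*ω, η^2 + η^2*ω; η*ω + η^2*ω, 1 + η + η^2*ω, 1 + ω + η + η^2 + η^2*ω] : Matrix (Fin 3) (Fin 3) F) * !![1, η, 1 + η^2*ω; 0, 1, (-1)*η; 0, 0, 1] =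
      !![ω + η^2, η*ω, ω; 1 + η, ω + η^2*ω, η*ω; η*ω + η^2*ω, 1 + ω + η + η*ω, ω + η^2 + η^2*ω] := by
  rw [Matrix.mul_fin_three]
  exact mat3_ext
    (by ring)
    (by linear_combination (1) * hη + (1 + η) * h2)
    (by linear_combination (η*ω) * hη + (η^2) * hω + (η*ω + η^2 + η^2*ω) * h2)
    (by ring)
    (by linear_combination (η + η^2) * h2)
    (by linear_combination ((-1)) * hη + ((-1)*η*ω + η^2*ω) * h2)
    (by ring)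
    (by linear_combination (ω) * hη + (η^2*ω) * h2)
    (by linear_combination ((-1)*ω + ω^2 + η*ω^2) * hη + (1 + 2*η + η^2) * hω + (1 + η + η*ω + η^2*ω) * h2)

theorem w8_step7 (η ω : F) (hη : η ^ 3 = η + 1) (hω : ω ^ 2 = ω + 1) (h2 : (2 : F) = 0) :
    (!![ω + η^2, η*ω, ω; 1 + η, ω + η^2*ω, η*ω; η*ω + η^2*ω, 1 + ω + η + η*ω, ω + η^2 + η^2*ω] : Matrix (Fin 3) (Fin 3) F) * !![1, η, 1 + η^2*ω; 0, 1, (-1)*η; 0, 0, 1] =
      !![ω + η^2, 1 + η, η*ω + η^2*ω; 1 + η, ω + η + η^2 + η^2*ω, 1 + η + η^2*ω; η*ω + η^2*ω, 1 + η + η^2*ω, 1 + η + η^2] := by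
  rw [Matrix.mul_fin_three]
  exact mat3_ext
    (by ring)
    (by linear_combination (1) * hη + (η*ω) * h2)
    (by linear_combination (η*ω) * hη + (η^2) * hω + (ω + η^2) * h2)
    (by ring)
    (by ring)
    (by ring)
    (by ring)
    (by linear_combination (ω) * hη + (ω + η*ω) * h2)
    (by linear_combination (ω^2 + η*ω^2) * hη + (1 + 2*η + η^2) * hω + (ω + η*ω + η^2*ω) * h2)

theorem w8_step8 (η ω : F) (hη : η ^ 3 = η + 1) (hω : ω ^ 2 = ω + 1) (h2 : (2 : F) = 0) :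
    (!![ω + η^2, 1 + η, η*ω + η^2*ω; 1 + η, ω + η + η^2 + η^2*ω, 1 + η + η^2*ω; η*ω + η^2*ω, 1 + η + η^2*ω, 1 + η + η^2] : Matrix (Fin 3) (Fin 3) F) * !![1, 0, 0; η, 1, 0; 1 + η^2*ω, (-1)*η, 1] =
      !![1 + η + η*ω + η^2, 1 + ω + η + η*ω + η^2*ω, η*ω + η^2*ω; 1 + η^2*ω, η*ω + η^2*ω, 1 + η + η^2*ω; 1 + η^2*ω, η + η^2 + η^2*ω, 1 + η + η^2] := by
  rw [Matrix.mul_fin_three]
  exact mat3_ext
    (by linear_combination (ω^2 + η*ω^2) * hη + (1 + 2*η + η^2) * hω + (ω + η + η*ω + η^2 + η^2*ω) * h2)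
    (by linear_combination ((-1)*ω) * hη + ((-1)*ω + (-1)*η*ω + (-1)*η^2*ω) * h2)
    (by ring)
    (by linear_combination (1 + 2*ω + η*ω^2) * hη + (η + η^2) * hω + (1 + ω + 2*η + 2*η*ω + η^2 + η^2*ω) * h2)
    (by linear_combination ((-1)*ω) * hη + ((-1)*η*ω) * h2)
    (by ring)
    (by linear_combination (2*ω + η*ω) * hη + (ω + η + 2*η*ω + η^2 + η^2*ω) * h2)
    (by linear_combination ((-1)) * hη + ((-1)*η + (-1)*η^2) * h2)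
    (by ring)

theorem w8_step9 (η ω : F) (hη : η ^ 3 = η + 1) (hω : ω ^ 2 = ω + 1) (h2 : (2 : F) = 0) :
    (!![1 + η + η*ω + η^2, 1 + ω + η + η*ω + η^2*ω, η*ω + η^2*ω; 1 + η^2*ω, η*ω + η^2*ω, 1 + η + η^2*ω; 1 + η^2*ω, η + η^2 + η^2*ω, 1 + η + η^2] : Matrix (Fin 3) (Fin 3) F) * !![1, 0, 0; η, 1, 0; 1 + η^2*ω, (-1)*η, 1] =
      !![η^2 + η^2*ω, 1 + η, η*ω + η^2*ω; η*ω + η^2 + η^2*ω, ω + η + η^2 + η^2*ω, 1 + η + η^2*ω; 1 + η*ω + η^2*ω, 1 + η + η^2*ω, 1 + η + η^2] := by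
  rw [Matrix.mul_fin_three]
  exact mat3_ext
    (by linear_combination (ω + ω^2 + η*ω^2) * hη + (1 + 2*η + η^2) * hω + (1 + ω + 2*η + 3*η*ω + η^2 + η^2*ω) * h2)
    (by linear_combination ((-1)*ω) * hη)
    (by ring)
    (by linear_combination (2*ω + η*ω^2) * hη + (η + η^2) * hω + (1 + ω + η + η*ω + 2*η^2*ω) * h2)
    (by linear_combination ((-1)*ω) * hη + ((-1)*ω + (-1)*η + (-1)*η^2) * h2)
    (by ring)
    (by linear_combination (1 + 2*ω + η*ω) * hη + (1 + ω + η + η*ω + η^2 + η^2*ω) * h2)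
    (by linear_combination ((-1)) * hη + ((-1) + (-1)*η) * h2)
    (by ring)

theorem w8_step10 (η ω : F) (hη : η ^ 3 = η + 1) (hω : ω ^ 2 = ω + 1) (h2 : (2 : F) = 0) :
    (!![η^2 + η^2*ω, 1 + η, η*ω + η^2*ω; η*ω + η^2 + η^2*ω, ω + η + η^2 + η^2*ω, 1 + η + η^2*ω; 1 + η*ω + η^2*ω, 1 + η + η^2*ω, 1 + η + η^2] : Matrix (Fin 3) (Fin 3) F) * !![1, η, 1 + η^2*ω; 0, 1, (-1)*η; 0, 0, 1] =
      !![η^2 + η^2*ω, ω + η*ω, η*ω + η^2; η*ω + η^2 + η^2*ω, 1 + η*ω + η^2, 1 + η^2; 1 + η*ω + η^2*ω, 1 + ω + η*ω, 1 + η^2 + η^2*ω] := by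
  rw [Matrix.mul_fin_three]
  exact mat3_ext
    (by ring)
    (by linear_combination (1 + ω) * hη + (1 + η) * h2)
    (by linear_combination (η*ω + η*ω^2) * hη + (η + η^2) * hω + (η*ω + 2*η^2*ω) * h2)
    (by ring)
    (by linear_combination (1 + ω) * hη + (ω + η + η^2*ω) * h2)
    (by linear_combination ((-1) + (-1)*ω + ω^2 + η*ω + η*ω^2) * hη + (1 + 2*η + η^2) * hω + (η + η*ω + 2*η^2*ω) * h2)
    (by ring)
    (by linear_combination (ω) * hη + (η + η^2*ω) * h2)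
    (by linear_combination ((-1)*ω + ω^2 + η*ω^2) * hη + (1 + 2*η + η^2) * hω + (1 + η + η*ω + η^2*ω) * h2)

theorem w8_step11 (η ω : F) (hη : η ^ 3 = η + 1) (hω : ω ^ 2 = ω + 1) (h2 : (2 : F) = 0) :
    (!![η^2 + η^2*ω, ω + η*ω, η*ω + η^2; η*ω + η^2 + η^2*ω, 1 + η*ω + η^2, 1 + η^2; 1 + η*ω + η^2*ω, 1 + ω + η*ω, 1 + η^2 + η^2*ω] : Matrix (Fin 3) (Fin 3) F) * !![1, 0, 0; η, 1, 0; 1 + η^2*ω, (-1)*η, 1] =
      !![1 + ω + η + η^2*ω, 1 + ω + η + η*ω + η^2*ω, η*ω + η^2; 0, η*ω + η^2, 1 + η^2; 0, 0, 1 + η^2 + η^2*ω] := by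
  rw [Matrix.mul_fin_three]
  exact mat3_ext
    (by linear_combination (ω^2 + η*ω) * hη + (1 + η) * hω + (2*η*ω + η^2 + η^2*ω) * h2)
    (by linear_combination ((-1)) * hη + ((-1) + (-1)*η + (-1)*η^2*ω) * h2)
    (by ring)
    (by linear_combination (1 + η*ω) * hη + (1 + η + η*ω + η^2 + 2*η^2*ω) * h2)
    (by linear_combination ((-1)) * hη + ((-1)*η) * h2)
    (by ring)
    (by linear_combination (η*ω + η*ω^2) * hη + (η + η^2) * hω + (1 + η + 2*η*ω + η^2 + 3*η^2*ω) * h2)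
    (by linear_combination ((-1) + (-1)*ω) * hη + ((-1)*η) * h2)
    (by ring)

theorem w8_word (η ω : F) (hη : η ^ 3 = η + 1) (hω : ω ^ 2 = ω + 1) (h2 : (2 : F) = 0) :
    (!![1, 0, 0; η, 1, 0; 1 + η^2*ω, (-1)*η, 1] : Matrix (Fin 3) (Fin 3) F) * !![1, 0, 0; η, 1, 0; 1 + η^2*ω, (-1)*η, 1] * !![1, η, 1 + η^2*ω; 0, 1, (-1)*η; 0, 0, 1] * !![1, 0, 0; η, 1, 0; 1 + η^2*ω, (-1)*η, 1] * !![1, η, 1 + η^2*ω; 0, 1, (-1)*η; 0, 0, 1] * !![1, 0, 0; η, 1, 0; 1 + η^2*ω, (-1)*η, 1] * !![1, η, 1 + η^2*ω; 0, 1, (-1)*η; 0, 0, 1] * !![1, η, 1 + η^2*ω; 0, 1, (-1)*η; 0, 0, 1] * !![1, 0, 0; η, 1, 0; 1 + η^2*ω, (-1)*η, 1] * !![1, 0, 0; η, 1, 0; 1 + η^2*ω, (-1)*η, 1] * !![1, η, 1 + η^2*ω; 0, 1, (-1)*η; 0, 0, 1] * !![1, 0, 0; η, 1, 0; 1 + η^2*ω, (-1)*η, 1] =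
      !![1 + ω + η + η^2*ω, 1 + ω + η + η*ω + η^2*ω, η*ω + η^2; 0, η*ω + η^2, 1 + η^2; 0, 0, 1 + η^2 + η^2*ω] := by
  rw [w8_step1 η ω hη hω h2, w8_step2 η ω hη hω h2, w8_step3 η ω hη hω h2, w8_step4 η ω hη hω h2, w8_step5 η ω hη hω h2, w8_step6 η ω hη hω h2, w8_step7 η ω hη hω h2, w8_step8 η ω hη hω h2, w8_step9 η ω hη hω h2, w8_step10 η ω hη hω h2, w8_step11 η ω hη hω h2]

end Cfsg.Agent.Lib.H8.SU3Gen
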