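import Mathlib
import Cfsg.Agent.Lib.H8.SU3W8

set_option autoImplicit false

/-!
# `SU_3(8)` is generated by two conjugate regular unipotent elements (helper8)
-/

namespace Cfsg.Agent.Lib.H8.SU3Gen

open Matrix

variable {F : Type*} [Field F] [Fintype F]

/-- a field with 64 elements is `𝔽₂(η, ω)` with `η³ = η + 1`, `ω² = ω + 1` -/
theorem exists_gens64 (hF : Fintype.card F = 64) :
    (2 : F) = 0 ∧ ∃ η ω : F, η ^ 3 = η + 1 ∧ ω ^ 2 = ω + 1 := by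
  classical
  obtain ⟨p, hp⟩ := CharP.exists F
  obtain ⟨n, hpp, hcard⟩ := FiniteField.card F p
  have hp2 : p = 2 := by
    rw [hF] at hcard
    have hdvd : p ∣ 64 := by
      rw [hcard]; exact dvd_pow_self p n.ne_zero
    have : p ∣ 2 ^ 6 := by norm_num; exact hdvd
    exact (Nat.prime_dvd_prime_iff_eq hpp Nat.prime_two).mp (hpp.dvd_of_dvd_pow this)
  subst hp2
  have h2 : (2 : F) = 0 := by
    have := CharP.cast_eq_zero F 2
    exact_mod_cast this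
  refine ⟨h2, ?_⟩
  obtain ⟨ζ, hζ⟩ := IsCyclic.exists_generator (α := Fˣ)
  have hord : orderOf ζ = 63 := by
    rw [orderOf_eq_card_of_forall_mem_zpowers hζ, Nat.card_eq_fintype_card, Fintype.card_units, hF]
  have hpow : ∀ k : ℕ, (ζ : F) ^ k = 1 → 63 ∣ k := by
    intro k hk
    rw [← hord]
    apply orderOf_dvd_of_pow_eq_one
    apply Units.ext
    rw [Units.val_pow_eq_pow_val, hk, Units.val_one]
  have hζ63 : (ζ : F) ^ 63 = 1 := by
    have := FiniteField.pow_card_sub_one_eq_one (ζ : F) ζ.ne_zero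
    rwa [hF] at this
  -- `ω`
  obtain ⟨ω, hωd⟩ : ∃ ω : F, ω = (ζ : F) ^ 21 := ⟨_, rfl⟩
  have hω3 : ω ^ 3 = 1 := by rw [hωd, ← pow_mul]; exact hζ63
  have hω1 : ω ≠ 1 := by
    rw [hωd]
    intro h
    have := hpow _ h
    omega
  have hω : ω ^ 2 = ω + 1 := by
    have h0 : (ω - 1) * (ω ^ 2 + ω + 1) = 0 := by linear_combination hω3
    rcases mul_eq_zero.mp h0 with h | h
    · exact absurd (sub_eq_zero.mp h) hω1
    · linear_combination h - (ω + 1) * h2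
  -- `η`
  obtain ⟨θ, hθd⟩ : ∃ θ : F, θ = (ζ : F) ^ 9 := ⟨_, rfl⟩
  have hθ7 : θ ^ 7 = 1 := by rw [hθd, ← pow_mul]; exact hζ63
  have hθ1 : θ ≠ 1 := by
    rw [hθd]
    intro h
    have := hpow _ h
    omega
  have hsum : θ ^ 6 + θ ^ 5 + θ ^ 4 + θ ^ 3 + θ ^ 2 + θ + 1 = 0 := by
    have h0 : (θ - 1) * (θ ^ 6 + θ ^ 5 + θ ^ 4 + θ ^ 3 + θ ^ 2 + θ + 1) = 0 := by
      linear_combination hθ7
    rcases mul_eq_zero.mp h0 with h | h
    · exact absurd (sub_eq_zero.mp h) hθ1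
    · exact h
  have hfac : (θ ^ 3 + θ + 1) * (θ ^ 3 + θ ^ 2 + 1) = 0 := by
    linear_combination hsum + (θ ^ 3) * h2
  rcases mul_eq_zero.mp hfac with h | h
  · exact ⟨θ, ω, by linear_combination h - (θ + 1) * h2, hω⟩
  · refine ⟨θ ^ 6, ω, ?_, hω⟩
    linear_combination ((-187) + 128*θ + (-87)*θ^2 + 59*θ^3 + (-41)*θ^4 + 28*θ^5 + (-19)*θ^6 + 13*θ^7 + (-9)*θ^8 + 6*θ^9 + (-4)*θ^10 + 3*θ^11 + (-2)*θ^12 + θ^13 + (-1)*θ^14 + θ^15) * h + (93 + (-64)*θ + 137*θ^2) * h2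

/-- the case `q = 8` -/
theorem goal8 (hF : Fintype.card F = 8 ^ 2) : Goal F 8 := by
  obtain ⟨σ, hσq, hσ⟩ := exists_sigma hF
  obtain ⟨h2, η, ω, hη, hω⟩ := exists_gens64 (F := F) (by rw [hF]; norm_num)
  have hση : σ η = η := by
    rw [hσq]
    linear_combination (2 + η + η^2 + η^3 + η^5) * hη + (1 + η + η^2) * h2
  have hσω : σ ω = ω + 1 := by
    rw [hσq]
    linear_combination (13 + 8*ω + 5*ω^2 + 3*ω^3 + 2*ω^4 + ω^5 + ω^6) * hω + (6 + 10*ω) * h2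
  have hab : (1 + η^2*ω) + σ (1 + η^2*ω) + η * σ η = 0 := by
    rw [map_add, map_mul, map_pow, map_one, hση, hσω]
    linear_combination (1 + η^2 + η^2*ω) * h2
  have h1ne : (1 : F) ≠ 0 := one_ne_zero
  have hη0 : η ≠ 0 := by
    rintro rfl
    apply h1ne
    linear_combination (-1 : F) * hη
  have hb : (1 + η^2*ω : F) ≠ 0 := by
    intro h
    apply h1ne
    have h1 : (1 + η^2*ω) * (1 + ω + η + η^2*ω) = 1 := by
      linear_combination (ω + η*ω^2) * hη + (η + 2*η^2) * hω + (ω + η + η*ω + η^2 + 2*η^2*ω) * h2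
    rw [h, zero_mul] at h1
    exact h1.symm
  set x : SUJ σ := uJ σ hσ η (1 + η^2*ω) hab with hx
  set z : SUJ σ := wJ σ * x * (wJ σ)⁻¹ with hz
  have hxm : mat x = !![1, η, 1 + η^2*ω; 0, 1, (-1)*η; 0, 0, 1] := by
    show uM σ η (1 + η^2*ω) = _
    unfold uM
    rw [hση, neg_one_mul]
  have hzm : mat z = !![1, 0, 0; η, 1, 0; 1 + η^2*ω, (-1)*η, 1] := by
    rw [hz, hx, mat_conj_w]
    unfold vM
    rw [hση, neg_one_mul]
  have hsm : mat (z * z * x * z * x * z * x * x * z * z * x * z) =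
      !![1 + ω + η + η^2*ω, 1 + ω + η + η*ω + η^2*ω, η*ω + η^2; 0, η*ω + η^2, 1 + η^2;
        0, 0, 1 + η^2 + η^2*ω] := by
    simp only [mat_mul]
    rw [hxm, hzm]
    exact w8_word η ω hη hω h2
  have hxK : x ∈ Subgroup.closure ({x, z} : Set (SUJ σ)) := Subgroup.subset_closure (by simp)
  have hzK : z ∈ Subgroup.closure ({x, z} : Set (SUJ σ)) := Subgroup.subset_closure (by simp)
  refine goal_of_word hF (by norm_num) σ hσq hσ hab hη0 hb
    (z * z * x * z * x * z * x * x * z * z * x * z) ?_ ?_ ?_ ?_ ?_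
  · exact Subgroup.mul_mem _ (Subgroup.mul_mem _ (Subgroup.mul_mem _ (Subgroup.mul_mem _
      (Subgroup.mul_mem _ (Subgroup.mul_mem _ (Subgroup.mul_mem _ (Subgroup.mul_mem _
      (Subgroup.mul_mem _ (Subgroup.mul_mem _ (Subgroup.mul_mem _ hzK hzK) hxK) hzK) hxK) hzK)
      hxK) hxK) hzK) hzK) hxK) hzK
  · rw [hsm]; rfl
  · rw [hsm]; rfl
  · rw [hsm]; rfl
  · rw [hsm]
    have hν : (!![1 + ω + η + η^2*ω, 1 + ω + η + η*ω + η^2*ω, η*ω + η^2; 0, η*ω + η^2, 1 + η^2;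
        0, 0, 1 + η^2 + η^2*ω] : Matrix (Fin 3) (Fin 3) F) 0 0 *
        σ ((!![1 + ω + η + η^2*ω, 1 + ω + η + η*ω + η^2*ω, η*ω + η^2; 0, η*ω + η^2, 1 + η^2;
        0, 0, 1 + η^2 + η^2*ω] : Matrix (Fin 3) (Fin 3) F) 1 1) = η^2*ω := by
      show (1 + ω + η + η^2*ω) * σ (η*ω + η^2) = η^2*ω
      rw [map_add, map_mul, map_pow, hση, hσω]
      linear_combination (1 + ω + ω^2 + η*ω) * hη + (1 + 2*η) * hω + (1 + ω + 2*η + 3*η*ω + η^2 + η^2*ω) * h2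
    rw [hν]
    apply closure_eq_top_64 (by rw [hF]; norm_num)
    · intro h
      have h8 : (η^2*ω) ^ 8 = η^2 * (ω + 1) := by
        rw [← hσq, map_mul, map_pow, hση, hσω]
      have hd : η ^ 2 = 0 := by linear_combination h - h8
      exact hη0 (pow_eq_zero_iff (two_ne_zero) |>.mp hd)
    · intro h
      have h4 : (η^2*ω) ^ 4 = η*ω := by
        linear_combination (2*ω^4 + η*ω^4 + η^2*ω^4 + η^3*ω^4 + η^5*ω^4) * hη + (4 + 2*ω + 2*ω^2 + 6*η + 3*η*ω + 3*η*ω^2 + 4*η^2 + 2*η^2*ω + 2*η^2*ω^2) * hω + (2 + 3*ω + 3*η + 4*η*ω + 2*η^2 + 3*η^2*ω) * h2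
      have hd : η*ω + (-1)*η^2*ω = 0 := by linear_combination h - h4
      have h1 : (η*ω + (-1)*η^2*ω) * (1 + ω + η + η*ω) = 1 := by
        linear_combination ((-1)*ω + (-1)*ω^2) * hη + ((-1)) * hω + ((-1) + (-1)*ω) * h2
      rw [hd, zero_mul] at h1
      exact h1ne h1.symm

end Cfsg.Agent.Lib.H8.SU3Gen
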