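import Mathlib
import Cfsg.Agent.Lib.H17.AGH13Defs

/-!
# S4150 / H13 piece E4 (helper8): soundness of the depth-first enumeration `dfs`.
-/

set_option autoImplicit false

namespace Cfsg.Agent.Lib.H8.AG

open Cfsg.Agent.Lib.H17.AG

theorem eraseN_eq_erase (l : List Nat) (a : Nat) : eraseN l a = l.erase a := by
  induction l with
  | nil => rfl
  | cons b t ih =>
    by_cases hba : b = a
    · subst hba
      simp [eraseN, Nat.beq_refl]
    · have h1 : Nat.beq b a = false := by
        cases hb : Nat.beq b a with
        | false => rfl
        | true => exact absurd (Nat.eq_of_beq_eq_true hb) hba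
      have h2 : (b == a) = false := by simpa using hba
      simp [eraseN, h1, h2, ih]

theorem allIdx_true (f : Nat → Nat → Bool) (l : List Nat) (p : Nat) (h : allIdx f l p = true) :
    ∀ a ∈ l, ∃ q, f q a = true := by
  induction l generalizing p with
  | nil => intro a ha; simp at ha
  | cons b t ih =>
    intro a ha
    simp only [allIdx, Bool.and_eq_true] at h
    rcases List.mem_cons.mp ha with rfl | ha'
    · exact ⟨p, h.1⟩
    · exact ih (Nat.succ p) h.2 a ha'

/-- E4. Soundness of the enumeration. -/
theorem dfs_sound (C : Nat) (n X cur : Nat) (rem : List Nat) (idx : Nat) (hlen : rem.length = n)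
    (h : dfs C n X cur rem idx = true) :
    ∀ l : List Nat, l.Perm rem → ∃ idx', leafCheck C idx' (pathX X cur l) = true := by
  induction n generalizing X cur rem idx with
  | zero =>
    intro l hl
    have hrem : rem = [] := List.length_eq_zero_iff.mp hlen
    subst hrem
    have hl' : l = [] := List.Perm.eq_nil hl
    subst hl'
    exact ⟨idx, by simpa [dfs, pathX] using h⟩
  | succ n ih =>
    intro l hl
    have hllen : l.length = n + 1 := by rw [hl.length_eq, hlen]
    match l, hl, hllen with
    | [], _, hll => simp at hll
    | a :: t, hl, _ =>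
      have ha : a ∈ rem := hl.subset (List.mem_cons_self)
      have hperm : t.Perm (rem.erase a) := (List.cons_perm_iff_perm_erase.mp hl).2
      simp only [dfs] at h
      obtain ⟨q, hq⟩ := allIdx_true _ rem 0 h a ha
      have hlen' : (eraseN rem a).length = n := by
        rw [eraseN_eq_erase, List.length_erase_of_mem ha, hlen]; rfl
      have := ih (Nat.add X (Nat.mul a (Nat.pow 16 cur))) a (eraseN rem a) _ hlen' hq t
        (by rw [eraseN_eq_erase]; exact hperm)
      obtain ⟨idx', hidx'⟩ := this
      exact ⟨idx', by simpa [pathX] using hidx'⟩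

end Cfsg.Agent.Lib.H8.AG
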