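import Mathlib
import Cfsg.Agent.Lib.H5.M21.Main
import Cfsg.Agent.Lib.H18.SchurTransport

/-!
# S2088 pieces for helper17 (by helper8)

* `psl34_of_A21` (P2 TRANSPORT): a Schur multiplier of the three-point stabiliser `A21` of `M₂₄`
  is a Schur multiplier of `PSL₃(F)` for every field `F` with four elements.
* `exists_hom_344` (P3 HOM): three commuting elements of orders dividing `3, 4, 4` give a homomorphism
  from `ZMod 3 × ZMod 4 × ZMod 4` onto the subgroup they generate.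
-/

set_option autoImplicit false

namespace Cfsg.Agent.Lib.H8.L34

open Cfsg

/-- **P2 TRANSPORT**. -/
theorem psl34_of_A21 {A : Type} [CommGroup A]
    (h : Cfsg.HasSchurMultiplier (↥Cfsg.Agent.Lib.H5.M21.A21) A)
    {F : Type*} [Field F] [Fintype F] (hF : Fintype.card F = 4) :
    Cfsg.HasSchurMultiplier (Matrix.ProjectiveSpecialLinearGroup (Fin 3) F) A := by
  obtain ⟨e2⟩ := Cfsg.Agent.Lib.H5.M21.nonempty_A21_mulEquiv
  have e : Cfsg.Agent.Lib.H3.F4.F4 ≃+* F :=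
    FiniteField.ringEquivOfCardEq (by rw [hF, Cfsg.Agent.Lib.H3.F4.F4.card_eq])
  exact Cfsg.Agent.Lib.H18.SchurTransport.hasSchurMultiplier_of_group_mulEquiv
    (e2.trans (Cfsg.Agent.Lib.H5.M21.pslEquiv e)) h

/-- **P3 HOM**. -/
theorem exists_hom_344 {K : Type*} [Group K] (z0 z1 z2 : K) (h0 : z0 ^ 3 = 1) (h1 : z1 ^ 4 = 1)
    (h2 : z2 ^ 4 = 1) (c01 : Commute z0 z1) (c02 : Commute z0 z2) (c12 : Commute z1 z2) :
    ∃ f : Multiplicative (ZMod 3 × ZMod 4 × ZMod 4) →* K,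
      (∀ t, f t = z0 ^ (Multiplicative.toAdd t).1.val * z1 ^ (Multiplicative.toAdd t).2.1.val *
        z2 ^ (Multiplicative.toAdd t).2.2.val) ∧
      f.range = Subgroup.closure {z0, z1, z2} := by
  have hmul : ∀ s t : Multiplicative (ZMod 3 × ZMod 4 × ZMod 4),
      z0 ^ (Multiplicative.toAdd (s * t)).1.val * z1 ^ (Multiplicative.toAdd (s * t)).2.1.val *
        z2 ^ (Multiplicative.toAdd (s * t)).2.2.val =
      (z0 ^ (Multiplicative.toAdd s).1.val * z1 ^ (Multiplicative.toAdd s).2.1.val *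
        z2 ^ (Multiplicative.toAdd s).2.2.val) *
      (z0 ^ (Multiplicative.toAdd t).1.val * z1 ^ (Multiplicative.toAdd t).2.1.val *
        z2 ^ (Multiplicative.toAdd t).2.2.val) := by
    intro s t
    rw [toAdd_mul]
    simp only [Prod.fst_add, Prod.snd_add, ZMod.val_add]
    rw [← pow_eq_pow_mod _ h0, ← pow_eq_pow_mod _ h1, ← pow_eq_pow_mod _ h2, pow_add, pow_add,
      pow_add]
    set a := (Multiplicative.toAdd s).1.val
    set a' := (Multiplicative.toAdd t).1.val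
    set b := (Multiplicative.toAdd s).2.1.val
    set b' := (Multiplicative.toAdd t).2.1.val
    set c := (Multiplicative.toAdd s).2.2.val
    set c' := (Multiplicative.toAdd t).2.2.val
    have e1 : Commute (z0 ^ a') (z1 ^ b) := (c01.pow_pow a' b)
    have e2 : Commute (z0 ^ a') (z2 ^ c) := (c02.pow_pow a' c)
    have e3 : Commute (z1 ^ b') (z2 ^ c) := (c12.pow_pow b' c)
    calc z0 ^ a * z0 ^ a' * (z1 ^ b * z1 ^ b') * (z2 ^ c * z2 ^ c')
        = z0 ^ a * (z0 ^ a' * z1 ^ b) * z1 ^ b' * (z2 ^ c * z2 ^ c') := by simp only [mul_assoc]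
      _ = z0 ^ a * (z1 ^ b * z0 ^ a') * z1 ^ b' * (z2 ^ c * z2 ^ c') := by rw [e1.eq]
      _ = z0 ^ a * z1 ^ b * z0 ^ a' * (z1 ^ b' * z2 ^ c) * z2 ^ c' := by simp only [mul_assoc]
      _ = z0 ^ a * z1 ^ b * z0 ^ a' * (z2 ^ c * z1 ^ b') * z2 ^ c' := by rw [e3.eq]
      _ = z0 ^ a * z1 ^ b * (z0 ^ a' * z2 ^ c) * z1 ^ b' * z2 ^ c' := by simp only [mul_assoc]
      _ = z0 ^ a * z1 ^ b * (z2 ^ c * z0 ^ a') * z1 ^ b' * z2 ^ c' := by rw [e2.eq]
      _ = z0 ^ a * z1 ^ b * z2 ^ c * (z0 ^ a' * z1 ^ b' * z2 ^ c') := by simp only [mul_assoc]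
  let f : Multiplicative (ZMod 3 × ZMod 4 × ZMod 4) →* K :=
    MonoidHom.mk' (fun t => z0 ^ (Multiplicative.toAdd t).1.val *
      z1 ^ (Multiplicative.toAdd t).2.1.val * z2 ^ (Multiplicative.toAdd t).2.2.val) hmul
  have hf : ∀ t, f t = z0 ^ (Multiplicative.toAdd t).1.val * z1 ^ (Multiplicative.toAdd t).2.1.val *
        z2 ^ (Multiplicative.toAdd t).2.2.val := fun t => rfl
  refine ⟨f, hf, ?_⟩
  apply le_antisymm
  · rintro _ ⟨t, rfl⟩
    rw [hf]
    have m0 : z0 ∈ Subgroup.closure ({z0, z1, z2} : Set K) := Subgroup.subset_closure (by simp)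
    have m1 : z1 ∈ Subgroup.closure ({z0, z1, z2} : Set K) := Subgroup.subset_closure (by simp)
    have m2 : z2 ∈ Subgroup.closure ({z0, z1, z2} : Set K) := Subgroup.subset_closure (by simp)
    exact Subgroup.mul_mem _ (Subgroup.mul_mem _ (Subgroup.pow_mem _ m0 _) (Subgroup.pow_mem _ m1 _))
      (Subgroup.pow_mem _ m2 _)
  · have v13 : (1 : ZMod 3).val = 1 := rfl
    have v14 : (1 : ZMod 4).val = 1 := rfl
    have v03 : (0 : ZMod 3).val = 0 := rfl
    have v04 : (0 : ZMod 4).val = 0 := rfl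
    rw [Subgroup.closure_le]
    intro x hx
    simp only [Set.mem_insert_iff, Set.mem_singleton_iff] at hx
    rcases hx with rfl | rfl | rfl
    · refine ⟨Multiplicative.ofAdd ((1 : ZMod 3), (0 : ZMod 4), (0 : ZMod 4)), ?_⟩
      rw [hf]
      simp [v13, v04]
    · refine ⟨Multiplicative.ofAdd ((0 : ZMod 3), (1 : ZMod 4), (0 : ZMod 4)), ?_⟩
      rw [hf]
      simp [v14, v03, v04]
    · refine ⟨Multiplicative.ofAdd ((0 : ZMod 3), (0 : ZMod 4), (1 : ZMod 4)), ?_⟩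
      rw [hf]
      simp [v14, v03, v04]

end Cfsg.Agent.Lib.H8.L34
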