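import Mathlib

set_option autoImplicit false

/-!
# `SU_n` with respect to the antidiagonal Hermitian form (helper8)

`σ` is an involutive ring endomorphism of the field `F`.  The form on `F^n` is
`h(x, y) = ∑ i, x i * σ (y (rev i))`; a matrix `M` is an isometry iff `dagn σ M * M = 1` where
`dagn σ M = J (σ M)ᵀ J`, `J` the antidiagonal permutation matrix.
-/

namespace Cfsg.Agent.Lib.H8.SUN

open Matrix

variable {F : Type*} [Field F]

/-- the antidiagonal Gram matrix -/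
def Jn (n : ℕ) (F : Type*) [Field F] : Matrix (Fin n) (Fin n) F :=
  Matrix.of fun i j => if i = Fin.rev j then 1 else 0

theorem Jn_apply {n : ℕ} (i j : Fin n) : Jn n F i j = if i = Fin.rev j then 1 else 0 := rfl

theorem Jn_mul_apply {n k : ℕ} (X : Matrix (Fin n) (Fin k) F) (i : Fin n) (j : Fin k) :
    (Jn n F * X) i j = X (Fin.rev i) j := by
  rw [Matrix.mul_apply, Finset.sum_eq_single (Fin.rev i)]
  · simp [Jn_apply]
  · intro b _ hb
    have : ¬ i = Fin.rev b := fun h => hb (by rw [h, Fin.rev_rev])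
    simp [Jn_apply, this]
  · simp

theorem mul_Jn_apply {n k : ℕ} (X : Matrix (Fin k) (Fin n) F) (i : Fin k) (j : Fin n) :
    (X * Jn n F) i j = X i (Fin.rev j) := by
  rw [Matrix.mul_apply, Finset.sum_eq_single (Fin.rev j)]
  · simp [Jn_apply]
  · intro b _ hb
    simp [Jn_apply, hb]
  · simp

theorem Jn_mul_Jn (n : ℕ) : Jn n F * Jn n F = 1 := by
  ext i j
  rw [Jn_mul_apply, Jn_apply, Matrix.one_apply]
  by_cases h : i = j
  · simp [h]
  · have : ¬ Fin.rev i = Fin.rev j := fun h' => h (Fin.rev_injective h')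
    simp [h, this]

theorem Jn_mulVec {n : ℕ} (x : Fin n → F) (i : Fin n) : (Jn n F *ᵥ x) i = x (Fin.rev i) := by
  rw [Matrix.mulVec, dotProduct, Finset.sum_eq_single (Fin.rev i)]
  · simp [Jn_apply]
  · intro b _ hb
    have : ¬ i = Fin.rev b := fun h => hb (by rw [h, Fin.rev_rev])
    simp [Jn_apply, this]
  · simp

/-- conjugate transpose (rectangular) -/
def cstn (σ : F →+* F) {m k : ℕ} (X : Matrix (Fin m) (Fin k) F) : Matrix (Fin k) (Fin m) F :=
  (X.map σ)ᵀ

theorem cstn_apply (σ : F →+* F) {m k : ℕ} (X : Matrix (Fin m) (Fin k) F) (i : Fin k) (j : Fin m) :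
    cstn σ X i j = σ (X j i) := rfl

theorem cstn_mul (σ : F →+* F) {m k l : ℕ} (X : Matrix (Fin m) (Fin k) F)
    (Y : Matrix (Fin k) (Fin l) F) : cstn σ (X * Y) = cstn σ Y * cstn σ X := by
  unfold cstn
  rw [Matrix.map_mul, Matrix.transpose_mul]

theorem cstn_cstn (σ : F →+* F) (hσ : ∀ x, σ (σ x) = x) {m k : ℕ} (X : Matrix (Fin m) (Fin k) F) :
    cstn σ (cstn σ X) = X := by
  ext i j
  simp [cstn_apply, hσ]

theorem cstn_Jn (σ : F →+* F) (n : ℕ) : cstn σ (Jn n F) = Jn n F := by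
  ext i j
  rw [cstn_apply, Jn_apply, Jn_apply]
  by_cases h : j = Fin.rev i
  · have h' : i = Fin.rev j := by rw [h, Fin.rev_rev]
    rw [if_pos h, if_pos h', map_one]
  · have h' : ¬ i = Fin.rev j := fun h' => h (by rw [h', Fin.rev_rev])
    rw [if_neg h, if_neg h', map_zero]

theorem cstn_one (σ : F →+* F) (n : ℕ) : cstn σ (1 : Matrix (Fin n) (Fin n) F) = 1 := by
  ext i j
  rw [cstn_apply, Matrix.one_apply, Matrix.one_apply]
  by_cases h : i = j
  · simp [h]
  · have : ¬ j = i := fun h' => h h'.symm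
    simp [h, this]

theorem cstn_add (σ : F →+* F) {m k : ℕ} (X Y : Matrix (Fin m) (Fin k) F) :
    cstn σ (X + Y) = cstn σ X + cstn σ Y := by
  ext i j; simp [cstn_apply]

theorem cstn_sub (σ : F →+* F) {m k : ℕ} (X Y : Matrix (Fin m) (Fin k) F) :
    cstn σ (X - Y) = cstn σ X - cstn σ Y := by
  ext i j; simp [cstn_apply]

theorem cstn_smul (σ : F →+* F) {m k : ℕ} (c : F) (X : Matrix (Fin m) (Fin k) F) :
    cstn σ (c • X) = σ c • cstn σ X := by
  ext i j; simp [cstn_apply]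

/-- the adjoint with respect to the antidiagonal form -/
def dagn (σ : F →+* F) {n : ℕ} (M : Matrix (Fin n) (Fin n) F) : Matrix (Fin n) (Fin n) F :=
  Jn n F * cstn σ M * Jn n F

theorem dagn_apply (σ : F →+* F) {n : ℕ} (M : Matrix (Fin n) (Fin n) F) (i j : Fin n) :
    dagn σ M i j = σ (M (Fin.rev j) (Fin.rev i)) := by
  unfold dagn
  rw [mul_Jn_apply, Jn_mul_apply, cstn_apply]

theorem dagn_one (σ : F →+* F) (n : ℕ) : dagn σ (1 : Matrix (Fin n) (Fin n) F) = 1 := by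
  unfold dagn
  rw [cstn_one, Matrix.mul_one, Jn_mul_Jn]

theorem dagn_mul (σ : F →+* F) {n : ℕ} (M N : Matrix (Fin n) (Fin n) F) :
    dagn σ (M * N) = dagn σ N * dagn σ M := by
  unfold dagn
  rw [cstn_mul]
  calc Jn n F * (cstn σ N * cstn σ M) * Jn n F
      = Jn n F * cstn σ N * 1 * cstn σ M * Jn n F := by
        simp only [Matrix.mul_assoc, Matrix.one_mul]
    _ = Jn n F * cstn σ N * Jn n F * (Jn n F * cstn σ M * Jn n F) := by
        rw [← Jn_mul_Jn n]; simp only [Matrix.mul_assoc]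

theorem dagn_dagn (σ : F →+* F) (hσ : ∀ x, σ (σ x) = x) {n : ℕ} (M : Matrix (Fin n) (Fin n) F) :
    dagn σ (dagn σ M) = M := by
  ext i j
  rw [dagn_apply, dagn_apply, hσ, Fin.rev_rev, Fin.rev_rev]

theorem dagn_add (σ : F →+* F) {n : ℕ} (M N : Matrix (Fin n) (Fin n) F) :
    dagn σ (M + N) = dagn σ M + dagn σ N := by
  ext i j; simp [dagn_apply]

theorem dagn_sub (σ : F →+* F) {n : ℕ} (M N : Matrix (Fin n) (Fin n) F) :
    dagn σ (M - N) = dagn σ M - dagn σ N := by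
  ext i j; simp [dagn_apply]

theorem dagn_smul (σ : F →+* F) {n : ℕ} (c : F) (M : Matrix (Fin n) (Fin n) F) :
    dagn σ (c • M) = σ c • dagn σ M := by
  ext i j; simp [dagn_apply]

theorem dagn_neg (σ : F →+* F) {n : ℕ} (M : Matrix (Fin n) (Fin n) F) :
    dagn σ (-M) = -dagn σ M := by
  ext i j; simp [dagn_apply]

/-- the isometry group of the antidiagonal form inside `SL_n` -/
def SUJn (σ : F →+* F) (n : ℕ) : Subgroup (SpecialLinearGroup (Fin n) F) where
  carrier := {M | dagn σ M.1 * M.1 = 1}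
  one_mem' := by
    show dagn σ (1 : Matrix (Fin n) (Fin n) F) * 1 = 1
    rw [dagn_one, mul_one]
  mul_mem' := by
    intro A B hA hB
    show dagn σ (A.1 * B.1) * (A.1 * B.1) = 1
    rw [dagn_mul, Matrix.mul_assoc, ← Matrix.mul_assoc (dagn σ A.1), hA, Matrix.one_mul, hB]
  inv_mem' := by
    intro A hA
    show dagn σ (A⁻¹).1 * (A⁻¹).1 = 1
    have h1 : A.1 * (A⁻¹).1 = 1 := by
      have h := congrArg Subtype.val (mul_inv_cancel A)
      exact h
    calc dagn σ (A⁻¹).1 * (A⁻¹).1 = dagn σ (A⁻¹).1 * (dagn σ A.1 * A.1) * (A⁻¹).1 := by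
          rw [hA, Matrix.mul_one]
      _ = dagn σ (A.1 * (A⁻¹).1) * (A.1 * (A⁻¹).1) := by
          rw [dagn_mul]; simp only [Matrix.mul_assoc]
      _ = 1 := by rw [h1, dagn_one, Matrix.mul_one]

theorem mem_SUJn {σ : F →+* F} {n : ℕ} {M : SpecialLinearGroup (Fin n) F} :
    M ∈ SUJn σ n ↔ dagn σ M.1 * M.1 = 1 := Iff.rfl

/-- the matrix of an element of `SUJn` -/
def matn {σ : F →+* F} {n : ℕ} (k : SUJn σ n) : Matrix (Fin n) (Fin n) F :=
  (k : SpecialLinearGroup (Fin n) F).1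

theorem matn_mul {σ : F →+* F} {n : ℕ} (k l : SUJn σ n) : matn (k * l) = matn k * matn l := rfl

theorem matn_one {σ : F →+* F} {n : ℕ} : matn (1 : SUJn σ n) = 1 := rfl

theorem matn_injective {σ : F →+* F} {n : ℕ} : Function.Injective (matn (σ := σ) (n := n)) := by
  intro k l h
  apply Subtype.ext
  apply Subtype.ext
  exact h

theorem dagn_matn_mul {σ : F →+* F} {n : ℕ} (k : SUJn σ n) : dagn σ (matn k) * matn k = 1 := k.2

theorem matn_mul_dagn {σ : F →+* F} {n : ℕ} (k : SUJn σ n) : matn k * dagn σ (matn k) = 1 :=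
  mul_eq_one_comm.mp (dagn_matn_mul k)

theorem matn_inv {σ : F →+* F} {n : ℕ} (k : SUJn σ n) : matn k⁻¹ = dagn σ (matn k) := by
  have h1 : matn k⁻¹ * matn k = 1 := by rw [← matn_mul, inv_mul_cancel, matn_one]
  calc matn k⁻¹ = matn k⁻¹ * (matn k * dagn σ (matn k)) := by rw [matn_mul_dagn, Matrix.mul_one]
    _ = dagn σ (matn k) := by rw [← Matrix.mul_assoc, h1, Matrix.one_mul]

theorem det_matn {σ : F →+* F} {n : ℕ} (k : SUJn σ n) : (matn k).det = 1 :=
  (k : SpecialLinearGroup (Fin n) F).2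

/-- build an element of `SUJn` -/
def mkJn (σ : F →+* F) {n : ℕ} (M : Matrix (Fin n) (Fin n) F) (hdet : M.det = 1)
    (h : dagn σ M * M = 1) : SUJn σ n := ⟨⟨M, hdet⟩, h⟩

@[simp] theorem matn_mkJn (σ : F →+* F) {n : ℕ} (M : Matrix (Fin n) (Fin n) F) (hdet : M.det = 1)
    (h : dagn σ M * M = 1) : matn (mkJn σ M hdet h) = M := rfl

theorem matn_pow {σ : F →+* F} {n : ℕ} (k : SUJn σ n) (m : ℕ) : matn (k ^ m) = matn k ^ m := by
  induction m with
  | zero => rw [pow_zero, pow_zero, matn_one]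
  | succ m ih => rw [pow_succ, pow_succ, matn_mul, ih]

/-! ### the form, rank one operators, transvections -/

/-- the antidiagonal Hermitian form -/
def hJn (σ : F →+* F) {n : ℕ} (x y : Fin n → F) : F := ∑ i, x i * σ (y (Fin.rev i))

/-- the row vector `h(·, w)` -/
def dualn (σ : F →+* F) {n : ℕ} (w : Fin n → F) : Fin n → F := fun j => σ (w (Fin.rev j))

theorem hJn_eq_dot (σ : F →+* F) {n : ℕ} (x y : Fin n → F) : hJn σ x y = x ⬝ᵥ dualn σ y := rfl

theorem hJn_add_left (σ : F →+* F) {n : ℕ} (x x' y : Fin n → F) :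
    hJn σ (x + x') y = hJn σ x y + hJn σ x' y := by
  rw [hJn_eq_dot, hJn_eq_dot, hJn_eq_dot, add_dotProduct]

theorem hJn_smul_left (σ : F →+* F) {n : ℕ} (c : F) (x y : Fin n → F) :
    hJn σ (c • x) y = c * hJn σ x y := by
  rw [hJn_eq_dot, hJn_eq_dot, smul_dotProduct, smul_eq_mul]

theorem hJn_add_right (σ : F →+* F) {n : ℕ} (x y y' : Fin n → F) :
    hJn σ x (y + y') = hJn σ x y + hJn σ x y' := by
  unfold hJn
  rw [← Finset.sum_add_distrib]
  apply Finset.sum_congr rfl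
  intro i _
  simp [mul_add]

theorem hJn_smul_right (σ : F →+* F) {n : ℕ} (c : F) (x y : Fin n → F) :
    hJn σ x (c • y) = σ c * hJn σ x y := by
  unfold hJn
  rw [Finset.mul_sum]
  apply Finset.sum_congr rfl
  intro i _
  simp; ring

theorem hJn_neg_left (σ : F →+* F) {n : ℕ} (x y : Fin n → F) : hJn σ (-x) y = -hJn σ x y := by
  have := hJn_smul_left σ (-1) x y
  simpa using this

theorem hJn_neg_right (σ : F →+* F) {n : ℕ} (x y : Fin n → F) : hJn σ x (-y) = -hJn σ x y := by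
  have := hJn_smul_right σ (-1) x y
  simpa using this

theorem hJn_sub_left (σ : F →+* F) {n : ℕ} (x x' y : Fin n → F) :
    hJn σ (x - x') y = hJn σ x y - hJn σ x' y := by
  rw [sub_eq_add_neg, hJn_add_left, hJn_neg_left, sub_eq_add_neg]

theorem hJn_sub_right (σ : F →+* F) {n : ℕ} (x y y' : Fin n → F) :
    hJn σ x (y - y') = hJn σ x y - hJn σ x y' := by
  rw [sub_eq_add_neg, hJn_add_right, hJn_neg_right, sub_eq_add_neg]

theorem hJn_zero_left (σ : F →+* F) {n : ℕ} (y : Fin n → F) : hJn σ 0 y = 0 := by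
  simp [hJn]

theorem hJn_zero_right (σ : F →+* F) {n : ℕ} (x : Fin n → F) : hJn σ x 0 = 0 := by
  simp [hJn]

theorem hJn_symm (σ : F →+* F) (hσ : ∀ x, σ (σ x) = x) {n : ℕ} (x y : Fin n → F) :
    σ (hJn σ x y) = hJn σ y x := by
  unfold hJn
  rw [map_sum, ← Equiv.sum_comp Fin.revPerm]
  apply Finset.sum_congr rfl
  intro i _
  simp [hσ, mul_comm]

theorem dualn_mulVec (σ : F →+* F) {n : ℕ} (M : Matrix (Fin n) (Fin n) F)
    (w : Fin n → F) : dualn σ (M *ᵥ w) = dualn σ w ᵥ* dagn σ M := by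
  ext j
  unfold dualn
  rw [Matrix.mulVec, dotProduct, map_sum, Matrix.vecMul, dotProduct,
    ← Equiv.sum_comp Fin.revPerm]
  apply Finset.sum_congr rfl
  intro i _
  simp [dagn_apply, mul_comm]

theorem hJn_mulVec_left (σ : F →+* F) (hσ : ∀ x, σ (σ x) = x) {n : ℕ}
    (M : Matrix (Fin n) (Fin n) F) (x y : Fin n → F) :
    hJn σ (M *ᵥ x) y = hJn σ x (dagn σ M *ᵥ y) := by
  rw [hJn_eq_dot, hJn_eq_dot, dualn_mulVec σ, dagn_dagn σ hσ, dotProduct_comm,
    Matrix.dotProduct_mulVec, dotProduct_comm]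

theorem hJn_mulVec_right (σ : F →+* F) (hσ : ∀ x, σ (σ x) = x) {n : ℕ}
    (M : Matrix (Fin n) (Fin n) F) (x y : Fin n → F) :
    hJn σ x (M *ᵥ y) = hJn σ (dagn σ M *ᵥ x) y := by
  rw [hJn_mulVec_left σ hσ, dagn_dagn σ hσ]

/-- isometries preserve the form -/
theorem hJn_isom (σ : F →+* F) (hσ : ∀ x, σ (σ x) = x) {n : ℕ} {M : Matrix (Fin n) (Fin n) F}
    (hM : dagn σ M * M = 1) (x y : Fin n → F) : hJn σ (M *ᵥ x) (M *ᵥ y) = hJn σ x y := by
  rw [hJn_mulVec_left σ hσ, Matrix.mulVec_mulVec, hM, Matrix.one_mulVec]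

/-- the rank one operator `x ↦ h(x, w) u` -/
def th (σ : F →+* F) {n : ℕ} (u w : Fin n → F) : Matrix (Fin n) (Fin n) F :=
  Matrix.vecMulVec u (dualn σ w)

theorem th_apply (σ : F →+* F) {n : ℕ} (u w : Fin n → F) (i j : Fin n) :
    th σ u w i j = u i * σ (w (Fin.rev j)) := rfl

theorem th_mulVec (σ : F →+* F) {n : ℕ} (u w x : Fin n → F) :
    th σ u w *ᵥ x = hJn σ x w • u := by
  ext i
  rw [Matrix.mulVec, dotProduct, Pi.smul_apply, smul_eq_mul, hJn, Finset.sum_mul]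
  apply Finset.sum_congr rfl
  intro j _
  rw [th_apply]; ring

theorem mul_th (σ : F →+* F) {n : ℕ} (M : Matrix (Fin n) (Fin n) F) (u w : Fin n → F) :
    M * th σ u w = th σ (M *ᵥ u) w := by
  ext i j
  rw [Matrix.mul_apply, th_apply, Matrix.mulVec, dotProduct, Finset.sum_mul]
  apply Finset.sum_congr rfl
  intro k _
  rw [th_apply]; ring

theorem th_mul (σ : F →+* F) (hσ : ∀ x, σ (σ x) = x) {n : ℕ} (M : Matrix (Fin n) (Fin n) F)
    (u w : Fin n → F) : th σ u w * M = th σ u (dagn σ M *ᵥ w) := by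
  ext i j
  rw [Matrix.mul_apply, th_apply, Matrix.mulVec, dotProduct, map_sum, Finset.mul_sum,
    ← Equiv.sum_comp Fin.revPerm]
  apply Finset.sum_congr rfl
  intro k _
  rw [th_apply]
  simp [dagn_apply, hσ]
  ring

theorem th_mul_th (σ : F →+* F) {n : ℕ} (u w u' w' : Fin n → F) :
    th σ u w * th σ u' w' = hJn σ u' w • th σ u w' := by
  rw [mul_th, th_mulVec]
  ext i j
  simp [th_apply]
  ring

theorem dagn_th (σ : F →+* F) (hσ : ∀ x, σ (σ x) = x) {n : ℕ} (u w : Fin n → F) :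
    dagn σ (th σ u w) = th σ w u := by
  ext i j
  rw [dagn_apply, th_apply, th_apply, Fin.rev_rev, map_mul, hσ, mul_comm]

theorem th_add_left (σ : F →+* F) {n : ℕ} (u u' w : Fin n → F) :
    th σ (u + u') w = th σ u w + th σ u' w := by
  ext i j; simp [th_apply]; ring

theorem th_add_right (σ : F →+* F) {n : ℕ} (u w w' : Fin n → F) :
    th σ u (w + w') = th σ u w + th σ u w' := by
  ext i j; simp [th_apply]; ring

theorem th_smul_left (σ : F →+* F) {n : ℕ} (c : F) (u w : Fin n → F) :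
    th σ (c • u) w = c • th σ u w := by
  ext i j; simp [th_apply]; ring

theorem th_smul_right (σ : F →+* F) {n : ℕ} (c : F) (u w : Fin n → F) :
    th σ u (c • w) = σ c • th σ u w := by
  ext i j; simp [th_apply]; ring

theorem th_neg_left (σ : F →+* F) {n : ℕ} (u w : Fin n → F) : th σ (-u) w = -th σ u w := by
  ext i j; simp [th_apply]

theorem th_neg_right (σ : F →+* F) {n : ℕ} (u w : Fin n → F) : th σ u (-w) = -th σ u w := by
  ext i j; simp [th_apply]

theorem th_zero_left (σ : F →+* F) {n : ℕ} (w : Fin n → F) : th σ 0 w = 0 := by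
  ext i j; simp [th_apply]

theorem th_zero_right (σ : F →+* F) {n : ℕ} (u : Fin n → F) : th σ u 0 = 0 := by
  ext i j; simp [th_apply]

/-- conjugating a rank one operator by an isometry -/
theorem conj_th (σ : F →+* F) (hσ : ∀ x, σ (σ x) = x) {n : ℕ} (M : Matrix (Fin n) (Fin n) F)
    (u w : Fin n → F) :
    M * th σ u w * dagn σ M = th σ (M *ᵥ u) (M *ᵥ w) := by
  rw [mul_th, th_mul σ hσ, dagn_dagn σ hσ]

theorem det_one_add_th (σ : F →+* F) {n : ℕ} (c : F) (u w : Fin n → F) :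
    (1 + c • th σ u w).det = 1 + c * hJn σ u w := by
  have : c • th σ u w =
      Matrix.replicateCol (Fin 1) (c • u) * Matrix.replicateRow (Fin 1) (dualn σ w) := by
    ext i j
    simp [th_apply, Matrix.mul_apply, dualn, mul_assoc]
  have h2 := Matrix.det_one_add_replicateCol_mul_replicateRow (ι := Fin 1) (c • u) (dualn σ w)
  have h3 : (1 + c • th σ u w).det = 1 + dualn σ w ⬝ᵥ c • u := by
    rw [this]
    convert h2
  rw [h3, hJn_eq_dot, dotProduct_smul, dotProduct_comm, smul_eq_mul]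

/-- the unitary transvection `x ↦ x + c h(x, v) v` -/
def tJn (σ : F →+* F) {n : ℕ} (v : Fin n → F) (c : F) : Matrix (Fin n) (Fin n) F :=
  1 + c • th σ v v

theorem tJn_mulVec (σ : F →+* F) {n : ℕ} (v : Fin n → F) (c : F) (x : Fin n → F) :
    tJn σ v c *ᵥ x = x + (c * hJn σ x v) • v := by
  unfold tJn
  rw [Matrix.add_mulVec, Matrix.one_mulVec, Matrix.smul_mulVec, th_mulVec, smul_smul]

theorem det_tJn (σ : F →+* F) {n : ℕ} {v : Fin n → F} (hv : hJn σ v v = 0) (c : F) :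
    (tJn σ v c).det = 1 := by
  unfold tJn
  rw [det_one_add_th, hv, mul_zero, add_zero]

theorem dagn_tJn (σ : F →+* F) (hσ : ∀ x, σ (σ x) = x) {n : ℕ} (v : Fin n → F) (c : F) :
    dagn σ (tJn σ v c) = tJn σ v (σ c) := by
  unfold tJn
  rw [dagn_add, dagn_one, dagn_smul, dagn_th σ hσ]

theorem tJn_mul_tJn (σ : F →+* F) {n : ℕ} {v : Fin n → F} (hv : hJn σ v v = 0) (c c' : F) :
    tJn σ v c * tJn σ v c' = tJn σ v (c + c') := by
  unfold tJn
  rw [Matrix.add_mul, Matrix.mul_add, Matrix.mul_add, Matrix.one_mul, Matrix.mul_one, Matrix.one_mul,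
    Matrix.smul_mul, Matrix.mul_smul, th_mul_th, hv, zero_smul, smul_zero, smul_zero, add_zero,
    add_smul, add_assoc, add_comm (c' • th σ v v)]

theorem tJn_unitary (σ : F →+* F) (hσ : ∀ x, σ (σ x) = x) {n : ℕ} {v : Fin n → F}
    (hv : hJn σ v v = 0) {c : F} (hc : c + σ c = 0) : dagn σ (tJn σ v c) * tJn σ v c = 1 := by
  rw [dagn_tJn σ hσ, tJn_mul_tJn σ hv, add_comm, hc]
  unfold tJn
  rw [zero_smul, add_zero]

/-- conjugating a transvection by an isometry -/
theorem conj_tJn (σ : F →+* F) (hσ : ∀ x, σ (σ x) = x) {n : ℕ} {M : Matrix (Fin n) (Fin n) F}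
    (hM : M * dagn σ M = 1) (v : Fin n → F) (c : F) :
    M * tJn σ v c * dagn σ M = tJn σ (M *ᵥ v) c := by
  unfold tJn
  rw [Matrix.mul_add, Matrix.add_mul, Matrix.mul_one, hM, Matrix.mul_smul, Matrix.smul_mul,
    conj_th σ hσ]

theorem tJn_smul (σ : F →+* F) {n : ℕ} (r : F) (v : Fin n → F) (c : F) :
    tJn σ (r • v) c = tJn σ v (c * (r * σ r)) := by
  unfold tJn
  rw [th_smul_left, th_smul_right, smul_smul, smul_smul]
  congr 2
  ring

theorem tJn_zero (σ : F →+* F) {n : ℕ} (v : Fin n → F) : tJn σ v 0 = 1 := by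
  unfold tJn
  rw [zero_smul, add_zero]

end Cfsg.Agent.Lib.H8.SUN
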