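import Mathlib
import Cfsg.Agent.Lib.H8.SUN1

set_option autoImplicit false

/-!
# Eichler elements and sub-frame embeddings for the antidiagonal unitary model (helper8)
-/

namespace Cfsg.Agent.Lib.H8.SUN

open Matrix

variable {F : Type*} [Field F]

/-! ### Eichler elements `x ↦ x + h(x,u) b - h(x,b) u + s h(x,u) u` -/

/-- the Eichler element attached to an isotropic `u`, a vector `b ⊥ u` and `s` with
`s + σ s + h(b,b) = 0` -/
def Rn (σ : F →+* F) {n : ℕ} (u b : Fin n → F) (s : F) : Matrix (Fin n) (Fin n) F :=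
  1 + th σ b u - th σ u b + s • th σ u u

theorem Rn_zero (σ : F →+* F) {n : ℕ} (u : Fin n → F) (s : F) : Rn σ u 0 s = tJn σ u s := by
  unfold Rn tJn
  rw [th_zero_left, th_zero_right, add_zero, sub_zero]

theorem Rn_mulVec (σ : F →+* F) {n : ℕ} (u b : Fin n → F) (s : F) (x : Fin n → F) :
    Rn σ u b s *ᵥ x = x + hJn σ x u • b - hJn σ x b • u + (s * hJn σ x u) • u := by
  unfold Rn
  rw [Matrix.add_mulVec, Matrix.sub_mulVec, Matrix.add_mulVec, Matrix.one_mulVec,
    Matrix.smul_mulVec, th_mulVec, th_mulVec, th_mulVec, smul_smul]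

theorem one_add_mul_one_add {R : Type*} [Ring R] (A B : R) :
    (1 + A) * (1 + B) = 1 + A + B + A * B := by
  noncomm_ring

theorem Rn_eq (σ : F →+* F) {n : ℕ} (u b : Fin n → F) (s : F) :
    Rn σ u b s = 1 + (th σ b u - th σ u b + s • th σ u u) := by
  unfold Rn
  abel

/-- multiplication of Eichler elements with the same isotropic vector -/
theorem Rn_mul (σ : F →+* F) {n : ℕ} {u b b' : Fin n → F} (hu : hJn σ u u = 0)
    (hb : hJn σ u b = 0) (hb' : hJn σ b' u = 0) (s s' : F) :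
    Rn σ u b s * Rn σ u b' s' = Rn σ u (b + b') (s + s' - hJn σ b' b) := by
  have e1 : th σ b u * th σ b' u = 0 := by rw [th_mul_th, hb', zero_smul]
  have e2 : th σ b u * th σ u b' = 0 := by rw [th_mul_th, hu, zero_smul]
  have e3 : th σ b u * th σ u u = 0 := by rw [th_mul_th, hu, zero_smul]
  have e4 : th σ u b * th σ b' u = hJn σ b' b • th σ u u := by rw [th_mul_th]
  have e5 : th σ u b * th σ u b' = 0 := by rw [th_mul_th, hb, zero_smul]
  have e6 : th σ u b * th σ u u = 0 := by rw [th_mul_th, hb, zero_smul]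
  have e7 : th σ u u * th σ b' u = 0 := by rw [th_mul_th, hb', zero_smul]
  have e8 : th σ u u * th σ u b' = 0 := by rw [th_mul_th, hu, zero_smul]
  have e9 : th σ u u * th σ u u = 0 := by rw [th_mul_th, hu, zero_smul]
  have key : (th σ b u - th σ u b + s • th σ u u) * (th σ b' u - th σ u b' + s' • th σ u u) =
      -(hJn σ b' b • th σ u u) := by
    simp only [Matrix.add_mul, Matrix.sub_mul, Matrix.mul_add, Matrix.mul_sub, Matrix.smul_mul,
      Matrix.mul_smul, e1, e2, e3, e4, e5, e6, e7, e8, e9, smul_zero, sub_zero, zero_sub, add_zero,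
      sub_self]
  rw [Rn_eq, Rn_eq, Rn_eq, one_add_mul_one_add, key, th_add_left, th_add_right, sub_smul, add_smul]
  abel

theorem dagn_Rn (σ : F →+* F) (hσ : ∀ x, σ (σ x) = x) {n : ℕ} (u b : Fin n → F) (s : F) :
    dagn σ (Rn σ u b s) = Rn σ u (-b) (σ s) := by
  unfold Rn
  rw [dagn_add, dagn_sub, dagn_add, dagn_one, dagn_smul, dagn_th σ hσ, dagn_th σ hσ,
    dagn_th σ hσ, th_neg_left, th_neg_right]
  abel

/-- Eichler elements are isometries -/
theorem Rn_unitary (σ : F →+* F) (hσ : ∀ x, σ (σ x) = x) {n : ℕ} {u b : Fin n → F} {s : F}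
    (hu : hJn σ u u = 0) (hb : hJn σ u b = 0) (hs : s + σ s + hJn σ b b = 0) :
    dagn σ (Rn σ u b s) * Rn σ u b s = 1 := by
  have hb' : hJn σ b u = 0 := by rw [← hJn_symm σ hσ, hb, map_zero]
  have h1 : hJn σ u (-b) = 0 := by rw [hJn_neg_right, hb, neg_zero]
  rw [dagn_Rn σ hσ, Rn_mul σ hu h1 hb', neg_add_cancel, hJn_neg_right]
  have : σ s + s - -hJn σ b b = 0 := by linear_combination hs
  rw [this]
  unfold Rn
  rw [th_zero_left, th_zero_right, zero_smul, add_zero, sub_zero, add_zero]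

/-- conjugating an Eichler element by an isometry -/
theorem conj_Rn (σ : F →+* F) (hσ : ∀ x, σ (σ x) = x) {n : ℕ} {M : Matrix (Fin n) (Fin n) F}
    (hM : M * dagn σ M = 1) (u b : Fin n → F) (s : F) :
    M * Rn σ u b s * dagn σ M = Rn σ (M *ᵥ u) (M *ᵥ b) s := by
  unfold Rn
  simp only [Matrix.mul_add, Matrix.mul_sub, Matrix.add_mul, Matrix.sub_mul, Matrix.mul_one, hM,
    Matrix.mul_smul, Matrix.smul_mul, conj_th σ hσ]

/-- the determinant of an Eichler element -/
theorem det_Rn (σ : F →+* F) (hσ : ∀ x, σ (σ x) = x) {n : ℕ} {u b : Fin n → F}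
    (hu : hJn σ u u = 0) (hb : hJn σ u b = 0) (hb' : hJn σ b u = 0) (s : F) :
    (Rn σ u b s).det = 1 := by
  have h1 : Rn σ u b s = (1 + (1 : F) • th σ b u) * (1 + (1 : F) • th σ u (σ s • u - b)) := by
    unfold Rn
    have h2 : th σ u (σ s • u - b) = s • th σ u u - th σ u b := by
      rw [sub_eq_add_neg, th_add_right, th_smul_right, th_neg_right, sub_eq_add_neg, hσ]
    rw [one_smul, one_smul, Matrix.add_mul, Matrix.mul_add, Matrix.mul_add, Matrix.one_mul,
      Matrix.mul_one, Matrix.one_mul, th_mul_th, hu, zero_smul, add_zero, h2]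
    abel
  rw [h1, Matrix.det_mul, det_one_add_th, det_one_add_th, hb', hJn_sub_right, hJn_smul_right, hu,
    hb]
  simp

end Cfsg.Agent.Lib.H8.SUN
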