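import Mathlib
import Cfsg.Agent.Lib.H8.SUN2

set_option autoImplicit false

/-!
# Sub-frame embeddings `SUJn σ k → SUJn σ n` (helper8)

A `k`-frame in `F^n` is an `n × k` matrix `P` whose columns have Gram matrix `Jn k`.  The embedding
sends `M` to `1 + P (M - 1) P⋆`, acting as `M` on the span of the frame and trivially on its
orthogonal complement.
-/

namespace Cfsg.Agent.Lib.H8.SUN

open Matrix

variable {F : Type*} [Field F]

/-- a `k`-frame in `F^n` for the antidiagonal form -/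
structure SubFrame (σ : F →+* F) (n k : ℕ) where
  P : Matrix (Fin n) (Fin k) F
  hP : cstn σ P * Jn n F * P = Jn k F

namespace SubFrame

variable {σ : F →+* F} {n k : ℕ} (fr : SubFrame σ n k)

/-- the adjoint of the frame matrix -/
def Ps : Matrix (Fin k) (Fin n) F := Jn k F * cstn σ fr.P * Jn n F

theorem Ps_mul_P : fr.Ps * fr.P = 1 := by
  unfold Ps
  rw [Matrix.mul_assoc, Matrix.mul_assoc, ← Matrix.mul_assoc (cstn σ fr.P), fr.hP, Jn_mul_Jn]

theorem Ps_apply (i : Fin k) (l : Fin n) : fr.Ps i l = σ (fr.P (Fin.rev l) (Fin.rev i)) := by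
  unfold Ps
  rw [mul_Jn_apply, Jn_mul_apply, cstn_apply]

/-- the `i`-th frame vector -/
def col (i : Fin k) : Fin n → F := fun l => fr.P l i

theorem hJn_col (i j : Fin k) : hJn σ (fr.col j) (fr.col i) = if i = Fin.rev j then 1 else 0 := by
  have h := congrFun (congrFun fr.hP i) j
  rw [Jn_apply] at h
  rw [← h, Matrix.mul_apply]
  unfold hJn col
  apply Finset.sum_congr rfl
  intro l _
  rw [mul_Jn_apply, cstn_apply]
  ring

/-- the embedded matrix -/
def emb (M : Matrix (Fin k) (Fin k) F) : Matrix (Fin n) (Fin n) F := 1 + fr.P * (M - 1) * fr.Ps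

theorem emb_one : fr.emb 1 = 1 := by
  unfold emb
  rw [sub_self, Matrix.mul_zero, Matrix.zero_mul, add_zero]

theorem emb_mul (M N : Matrix (Fin k) (Fin k) F) : fr.emb (M * N) = fr.emb M * fr.emb N := by
  unfold emb
  rw [one_add_mul_one_add]
  have h1 : fr.P * (M - 1) * fr.Ps * (fr.P * (N - 1) * fr.Ps) =
      fr.P * ((M - 1) * (N - 1)) * fr.Ps := by
    calc fr.P * (M - 1) * fr.Ps * (fr.P * (N - 1) * fr.Ps)
        = fr.P * (M - 1) * (fr.Ps * fr.P) * (N - 1) * fr.Ps := by simp only [Matrix.mul_assoc]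
      _ = fr.P * ((M - 1) * (N - 1)) * fr.Ps := by
        rw [fr.Ps_mul_P, Matrix.mul_one]; simp only [Matrix.mul_assoc]
  rw [h1, add_assoc, add_assoc, ← Matrix.add_mul, ← Matrix.add_mul, ← Matrix.mul_add,
    ← Matrix.mul_add]
  congr 3
  noncomm_ring

theorem emb_mul_P (M : Matrix (Fin k) (Fin k) F) : fr.emb M * fr.P = fr.P * M := by
  unfold emb
  rw [Matrix.add_mul, Matrix.one_mul, Matrix.mul_assoc, fr.Ps_mul_P, Matrix.mul_one,
    Matrix.mul_sub, Matrix.mul_one]
  abel

theorem det_emb (M : Matrix (Fin k) (Fin k) F) : (fr.emb M).det = M.det := by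
  unfold emb
  rw [Matrix.mul_assoc, Matrix.det_one_add_mul_comm, Matrix.mul_assoc, fr.Ps_mul_P, Matrix.mul_one,
    add_sub_cancel]

theorem cstn_Ps (hσ : ∀ x, σ (σ x) = x) : cstn σ fr.Ps = Jn n F * fr.P * Jn k F := by
  unfold Ps
  rw [cstn_mul, cstn_mul, cstn_cstn σ hσ, cstn_Jn, cstn_Jn, Matrix.mul_assoc]

theorem dagn_emb (hσ : ∀ x, σ (σ x) = x) (M : Matrix (Fin k) (Fin k) F) :
    dagn σ (fr.emb M) = fr.emb (dagn σ M) := by
  unfold emb
  rw [dagn_add, dagn_one]
  congr 1
  have h1 : dagn σ (fr.P * (M - 1) * fr.Ps) =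
      Jn n F * (cstn σ fr.Ps * cstn σ (M - 1) * cstn σ fr.P) * Jn n F := by
    unfold dagn
    rw [cstn_mul, cstn_mul, Matrix.mul_assoc (cstn σ fr.Ps)]
  rw [h1, fr.cstn_Ps hσ]
  have h2 : dagn σ M - 1 = Jn k F * cstn σ (M - 1) * Jn k F := by
    rw [cstn_sub, cstn_one, Matrix.mul_sub, Matrix.sub_mul, Matrix.mul_one, Jn_mul_Jn]
    rfl
  rw [h2]
  unfold Ps
  calc Jn n F * (Jn n F * fr.P * Jn k F * cstn σ (M - 1) * cstn σ fr.P) * Jn n F
      = (Jn n F * Jn n F) * fr.P * Jn k F * cstn σ (M - 1) * cstn σ fr.P * Jn n F := by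
        simp only [Matrix.mul_assoc]
    _ = fr.P * (Jn k F * cstn σ (M - 1) * (Jn k F * Jn k F)) * cstn σ fr.P * Jn n F := by
        rw [Jn_mul_Jn, Jn_mul_Jn, Matrix.one_mul, Matrix.mul_one]; simp only [Matrix.mul_assoc]
    _ = fr.P * (Jn k F * cstn σ (M - 1) * Jn k F) * (Jn k F * cstn σ fr.P * Jn n F) := by
        simp only [Matrix.mul_assoc]

/-- the embedding as a group homomorphism -/
def iota (hσ : ∀ x, σ (σ x) = x) : SUJn σ k →* SUJn σ n where
  toFun M := mkJn σ (fr.emb (matn M)) (by rw [fr.det_emb, det_matn])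
    (by rw [fr.dagn_emb hσ, ← fr.emb_mul, dagn_matn_mul, fr.emb_one])
  map_one' := by
    apply matn_injective
    rw [matn_mkJn, matn_one, matn_one, fr.emb_one]
  map_mul' := by
    intro A B
    apply matn_injective
    rw [matn_mkJn, matn_mul, matn_mul, matn_mkJn, matn_mkJn, fr.emb_mul]

@[simp] theorem matn_iota (hσ : ∀ x, σ (σ x) = x) (M : SUJn σ k) :
    matn (fr.iota hσ M) = fr.emb (matn M) := rfl

/-- moving the frame by an isometry -/
def smul (g : Matrix (Fin n) (Fin n) F) (hg : dagn σ g * g = 1) : SubFrame σ n k where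
  P := g * fr.P
  hP := by
    have h1 : cstn σ g * Jn n F * g = Jn n F := by
      calc cstn σ g * Jn n F * g = Jn n F * (Jn n F * cstn σ g * Jn n F * g) := by
            simp only [← Matrix.mul_assoc, Jn_mul_Jn, Matrix.one_mul]
        _ = Jn n F := by
            rw [show Jn n F * cstn σ g * Jn n F * g = dagn σ g * g from rfl, hg, Matrix.mul_one]
    rw [cstn_mul]
    calc cstn σ fr.P * cstn σ g * Jn n F * (g * fr.P)
        = cstn σ fr.P * (cstn σ g * Jn n F * g) * fr.P := by simp only [Matrix.mul_assoc]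
      _ = Jn k F := by rw [h1, fr.hP]

theorem smul_P (g : Matrix (Fin n) (Fin n) F) (hg : dagn σ g * g = 1) :
    (fr.smul g hg).P = g * fr.P := rfl

theorem smul_Ps (g : Matrix (Fin n) (Fin n) F) (hg : dagn σ g * g = 1) :
    (fr.smul g hg).Ps = fr.Ps * dagn σ g := by
  unfold Ps dagn
  rw [smul_P, cstn_mul]
  calc Jn k F * (cstn σ fr.P * cstn σ g) * Jn n F
      = Jn k F * cstn σ fr.P * (1 : Matrix (Fin n) (Fin n) F) * cstn σ g * Jn n F := by
        simp only [Matrix.mul_assoc, Matrix.one_mul]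
    _ = Jn k F * cstn σ fr.P * Jn n F * (Jn n F * cstn σ g * Jn n F) := by
        rw [← Jn_mul_Jn n]; simp only [Matrix.mul_assoc]

/-- conjugating an embedded matrix by an isometry moves the frame -/
theorem conj_emb (g : Matrix (Fin n) (Fin n) F) (hg : dagn σ g * g = 1)
    (M : Matrix (Fin k) (Fin k) F) :
    g * fr.emb M * dagn σ g = (fr.smul g hg).emb M := by
  have hg' : g * dagn σ g = 1 := mul_eq_one_comm.mp hg
  unfold emb
  rw [smul_Ps, smul_P, Matrix.mul_add, Matrix.add_mul, Matrix.mul_one, hg']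
  simp only [Matrix.mul_assoc]

/-- if `g` maps the frame to itself via `Mg`, conjugation by `g` is conjugation by `Mg` -/
theorem conj_emb_of_mul (g : Matrix (Fin n) (Fin n) F)
    (hg : dagn σ g * g = 1) (Mg : Matrix (Fin k) (Fin k) F) (hMg : Mg * dagn σ Mg = 1)
    (h : g * fr.P = fr.P * Mg) (M : Matrix (Fin k) (Fin k) F) :
    g * fr.emb M * dagn σ g = fr.emb (Mg * M * dagn σ Mg) := by
  rw [fr.conj_emb g hg]
  unfold emb
  have h1 : (fr.smul g hg).Ps = dagn σ Mg * fr.Ps := by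
    unfold Ps
    rw [smul_P, h, cstn_mul]
    unfold dagn
    calc Jn k F * (cstn σ Mg * cstn σ fr.P) * Jn n F
        = Jn k F * cstn σ Mg * (1 : Matrix (Fin k) (Fin k) F) * cstn σ fr.P * Jn n F := by
          simp only [Matrix.mul_assoc, Matrix.one_mul]
      _ = Jn k F * cstn σ Mg * Jn k F * (Jn k F * cstn σ fr.P * Jn n F) := by
          rw [← Jn_mul_Jn k]; simp only [Matrix.mul_assoc]
  rw [h1, smul_P, h]
  congr 1
  have h2 : Mg * M * dagn σ Mg - 1 = Mg * (M - 1) * dagn σ Mg := by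
    rw [Matrix.mul_sub, Matrix.sub_mul, Matrix.mul_one, hMg]
  rw [h2]
  simp only [Matrix.mul_assoc]

/-- expansion of the embedded matrix in rank one operators -/
theorem emb_eq_sum (M : Matrix (Fin k) (Fin k) F) :
    fr.emb M = 1 + ∑ i, ∑ j, (M - 1) i j • th σ (fr.col i) (fr.col (Fin.rev j)) := by
  unfold emb
  congr 1
  ext a b
  rw [Matrix.mul_apply, Matrix.sum_apply]
  simp only [Matrix.mul_apply, Matrix.sum_apply, Matrix.smul_apply, th_apply, col, fr.Ps_apply,
    Finset.sum_mul, smul_eq_mul]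
  rw [Finset.sum_comm]
  apply Finset.sum_congr rfl
  intro i _
  apply Finset.sum_congr rfl
  intro j _
  ring

/-- the embedding fixes vectors orthogonal to the frame -/
theorem emb_mulVec_of_perp (M : Matrix (Fin k) (Fin k) F) {v : Fin n → F}
    (hv : ∀ i, hJn σ v (fr.col i) = 0) : fr.emb M *ᵥ v = v := by
  rw [fr.emb_eq_sum, Matrix.add_mulVec, Matrix.one_mulVec, Matrix.sum_mulVec]
  simp only [Matrix.sum_mulVec, Matrix.smul_mulVec, th_mulVec, hv, zero_smul, smul_zero,
    Finset.sum_const_zero, add_zero]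

/-- the embedding acts as `M` on the frame vectors -/
theorem emb_mulVec_col (M : Matrix (Fin k) (Fin k) F) (j : Fin k) :
    fr.emb M *ᵥ fr.col j = fun l => (fr.P * M) l j := by
  have h := fr.emb_mul_P M
  ext l
  have := congrFun (congrFun h l) j
  rw [Matrix.mul_apply] at this
  rw [← this]
  rfl

end SubFrame

end Cfsg.Agent.Lib.H8.SUN
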