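import Mathlib
import Cfsg.Agent.Lib.H7.T648Defs
import Cfsg.Agent.Lib.H7.T648Model
import Cfsg.Agent.Lib.H18.L648Defs
import Cfsg.Agent.Lib.H8.GenChar

/-!
# S3702, helper18's side, piece GENCHAR (helper8): the `Fc i` are generalized characters
-/

set_option autoImplicit false

namespace Cfsg.Agent.Lib.H8.L648

open Cfsg Cfsg.Agent.Lib.H7.T648 Cfsg.Agent.Lib.H18 Cfsg.Agent.Lib.H18.L648
open scoped ComplexConjugate

/-- `toC (psiZ D g) = sz * psi D g` -/
theorem toC_psiZ (D : Mono) (hsz : (D.sz : ℂ) ≠ 0) (g : M648) :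
    Z12.toC (psiZ D g) = (D.sz : ℂ) * psi D g := by
  unfold psi
  field_simp

theorem Fc_genChar (h : ∀ d : Fin 14, IsCharacter M648 (psi (monoL d))) (i : Fin 9) :
    IsGeneralizedCharacter M648 (Fc i) := by
  have g0 : IsGeneralizedCharacter M648 (psi mOne) :=
    isGeneralizedCharacter_of_isCharacter (h 0)
  have g1 : IsGeneralizedCharacter M648 (psi mSgn) :=
    isGeneralizedCharacter_of_isCharacter (h 1)
  have g2 : IsGeneralizedCharacter M648 (psi mC2) :=
    isGeneralizedCharacter_of_isCharacter (h 2)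
  have g3 : IsGeneralizedCharacter M648 (psi mC3p) :=
    isGeneralizedCharacter_of_isCharacter (h 3)
  have g4 : IsGeneralizedCharacter M648 (psi mC3) :=
    isGeneralizedCharacter_of_isCharacter (h 4)
  have g5 : IsGeneralizedCharacter M648 (psi (mP 0)) :=
    isGeneralizedCharacter_of_isCharacter (h 5)
  have g6 : IsGeneralizedCharacter M648 (psi (mP 1)) :=
    isGeneralizedCharacter_of_isCharacter (h 6)
  have g7 : IsGeneralizedCharacter M648 (psi (mP 2)) :=
    isGeneralizedCharacter_of_isCharacter (h 7)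
  have g8 : IsGeneralizedCharacter M648 (psi (mP 3)) :=
    isGeneralizedCharacter_of_isCharacter (h 8)
  have g9 : IsGeneralizedCharacter M648 (psi (mF 0)) :=
    isGeneralizedCharacter_of_isCharacter (h 9)
  have g10 : IsGeneralizedCharacter M648 (psi (mF 1)) :=
    isGeneralizedCharacter_of_isCharacter (h 10)
  have g11 : IsGeneralizedCharacter M648 (psi (mT 0)) :=
    isGeneralizedCharacter_of_isCharacter (h 11)
  have g12 : IsGeneralizedCharacter M648 (psi (mT 1)) :=
    isGeneralizedCharacter_of_isCharacter (h 12)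
  have g13 : IsGeneralizedCharacter M648 (psi (mT 2)) :=
    isGeneralizedCharacter_of_isCharacter (h 13)
  have s24 : ((24 : ℕ) : ℂ) ≠ 0 := by norm_num
  have s12 : ((12 : ℕ) : ℂ) ≠ 0 := by norm_num
  have s8 : ((8 : ℕ) : ℂ) ≠ 0 := by norm_num
  have s4 : ((4 : ℕ) : ℂ) ≠ 0 := by norm_num
  have s3 : ((3 : ℕ) : ℂ) ≠ 0 := by norm_num
  have s2 : ((2 : ℕ) : ℂ) ≠ 0 := by norm_num
  have t0 : ∀ g, Z12.toC (psiZ mOne g) = 24 * psi mOne g := fun g => by
    rw [toC_psiZ mOne s24]; norm_num [mOne]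
  have t1 : ∀ g, Z12.toC (psiZ mSgn g) = 24 * psi mSgn g := fun g => by
    rw [toC_psiZ mSgn s24]; norm_num [mSgn]
  have t2 : ∀ g, Z12.toC (psiZ mC2 g) = 12 * psi mC2 g := fun g => by
    rw [toC_psiZ mC2 s12]; norm_num [mC2]
  have t3 : ∀ g, Z12.toC (psiZ mC3p g) = 8 * psi mC3p g := fun g => by
    rw [toC_psiZ mC3p s8]; norm_num [mC3p]
  have t4 : ∀ g, Z12.toC (psiZ mC3 g) = 8 * psi mC3 g := fun g => by
    rw [toC_psiZ mC3 s8]; norm_num [mC3]
  have tP : ∀ k g, Z12.toC (psiZ (mP k) g) = 4 * psi (mP k) g := fun k g => by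
    rw [toC_psiZ (mP k) s4]; norm_num [mP]
  have tF : ∀ k g, Z12.toC (psiZ (mF k) g) = 2 * psi (mF k) g := fun k g => by
    rw [toC_psiZ (mF k) s2]; norm_num [mF]
  have tT : ∀ k g, Z12.toC (psiZ (mT k) g) = 3 * psi (mT k) g := fun k g => by
    rw [toC_psiZ (mT k) s3]; norm_num [mT]
  fin_cases i
  · have e : Fc 0 = psi (mP 1) - psi (mP 3) := by
      funext g
      show Z12.toC (6 * psiZ (mP 1) g - 6 * psiZ (mP 3) g) / 24 = _
      simp only [map_sub, map_mul, map_ofNat, tP, Pi.sub_apply]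
      ring
    show IsGeneralizedCharacter M648 (Fc 0)
    rw [e]
    exact isGeneralizedCharacter_sub g6 g8
  · have e : Fc 1 = psi (mT 1) - psi (mT 2) := by
      funext g
      show Z12.toC (8 * psiZ (mT 1) g - 8 * psiZ (mT 2) g) / 24 = _
      simp only [map_sub, map_mul, map_ofNat, tT, Pi.sub_apply]
      ring
    show IsGeneralizedCharacter M648 (Fc 1)
    rw [e]
    exact isGeneralizedCharacter_sub g12 g13
  · have e : Fc 2 = psi (mP 1) - psi mC3 - psi mC3p := by
      funext g
      show Z12.toC (6 * psiZ (mP 1) g - 3 * psiZ mC3 g - 3 * psiZ mC3p g) / 24 = _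
      simp only [map_sub, map_mul, map_ofNat, tP, t3, t4, Pi.sub_apply]
      ring
    show IsGeneralizedCharacter M648 (Fc 2)
    rw [e]
    exact isGeneralizedCharacter_sub (isGeneralizedCharacter_sub g6 g4) g3
  · have e : Fc 3 = psi (mT 1) - psi mC2 - psi mC3 - psi mC3p := by
      funext g
      show Z12.toC (8 * psiZ (mT 1) g - 2 * psiZ mC2 g - 3 * psiZ mC3 g - 3 * psiZ mC3p g) / 24 = _
      simp only [map_sub, map_mul, map_ofNat, tT, t2, t3, t4, Pi.sub_apply]
      ring
    show IsGeneralizedCharacter M648 (Fc 3)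
    rw [e]
    exact isGeneralizedCharacter_sub
      (isGeneralizedCharacter_sub (isGeneralizedCharacter_sub g12 g2) g4) g3
  · have e : Fc 4 = psi (mP 0) - psi mOne - psi mC2 - psi mC3p := by
      funext g
      show Z12.toC (6 * psiZ (mP 0) g - psiZ mOne g - 2 * psiZ mC2 g - 3 * psiZ mC3p g) / 24 = _
      simp only [map_sub, map_mul, map_ofNat, tP, t0, t2, t3, Pi.sub_apply]
      ring
    show IsGeneralizedCharacter M648 (Fc 4)
    rw [e]
    exact isGeneralizedCharacter_sub
      (isGeneralizedCharacter_sub (isGeneralizedCharacter_sub g5 g0) g2) g3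
  · have e : Fc 5 = psi (mP 2) - psi mSgn - psi mC2 - psi mC3 := by
      funext g
      show Z12.toC (6 * psiZ (mP 2) g - psiZ mSgn g - 2 * psiZ mC2 g - 3 * psiZ mC3 g) / 24 = _
      simp only [map_sub, map_mul, map_ofNat, tP, t1, t2, t4, Pi.sub_apply]
      ring
    show IsGeneralizedCharacter M648 (Fc 5)
    rw [e]
    exact isGeneralizedCharacter_sub
      (isGeneralizedCharacter_sub (isGeneralizedCharacter_sub g7 g1) g2) g4
  · have e : Fc 6 = psi (mT 0) - psi mOne - psi mSgn - psi mC3 - psi mC3p := by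
      funext g
      show Z12.toC (8 * psiZ (mT 0) g - psiZ mOne g - psiZ mSgn g - 3 * psiZ mC3 g
        - 3 * psiZ mC3p g) / 24 = _
      simp only [map_sub, map_mul, map_ofNat, tT, t0, t1, t3, t4, Pi.sub_apply]
      ring
    show IsGeneralizedCharacter M648 (Fc 6)
    rw [e]
    exact isGeneralizedCharacter_sub (isGeneralizedCharacter_sub
      (isGeneralizedCharacter_sub (isGeneralizedCharacter_sub g11 g0) g1) g4) g3
  · have e : Fc 7 = psi (mF 0) - psi (mT 1) - psi mOne - psi mC3 := by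
      funext g
      show Z12.toC (12 * psiZ (mF 0) g - 8 * psiZ (mT 1) g - psiZ mOne g - 3 * psiZ mC3 g) / 24 = _
      simp only [map_sub, map_mul, map_ofNat, tF, tT, t0, t4, Pi.sub_apply]
      ring
    show IsGeneralizedCharacter M648 (Fc 7)
    rw [e]
    exact isGeneralizedCharacter_sub
      (isGeneralizedCharacter_sub (isGeneralizedCharacter_sub g9 g12) g0) g4
  · have e : Fc 8 = psi (mF 1) - psi (mT 1) - psi mSgn - psi mC3p := by
      funext g
      show Z12.toC (12 * psiZ (mF 1) g - 8 * psiZ (mT 1) g - psiZ mSgn g - 3 * psiZ mC3p g) / 24 = _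
      simp only [map_sub, map_mul, map_ofNat, tF, tT, t1, t3, Pi.sub_apply]
      ring
    show IsGeneralizedCharacter M648 (Fc 8)
    rw [e]
    exact isGeneralizedCharacter_sub
      (isGeneralizedCharacter_sub (isGeneralizedCharacter_sub g10 g12) g1) g3

end Cfsg.Agent.Lib.H8.L648
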