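import Mathlib
import Cfsg.Agent.Lib.H7.T648Defs
import Cfsg.Agent.Lib.H7.T648Model
import Cfsg.Agent.Lib.H18.L648Defs

/-!
# S3702, helper18's side, piece MONO-A (helper8): `mOne`, `mSgn`, `mC2` satisfy `MonoOK`
-/

set_option autoImplicit false

namespace Cfsg.Agent.Lib.H8.L648

open Cfsg Cfsg.Agent.Lib.H7.T648 Cfsg.Agent.Lib.H18 Cfsg.Agent.Lib.H18.L648
open scoped ComplexConjugate

theorem monoOK_one : MonoOK mOne := by
  refine ⟨fun _ => rfl, rfl, fun _ _ _ _ => rfl, rfl, fun _ _ _ _ => rfl, by decide⟩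

/-- `sgm` is additive mod 2 (all 36 pairs of permutations) -/
theorem sgm_mul : ∀ p q : Equiv.Perm (Fin 3),
    6 * sgm (p * q) % 12 = (6 * sgm p + 6 * sgm q) % 12 := by
  decide

theorem monoOK_sgn : MonoOK mSgn := by
  refine ⟨fun _ => rfl, rfl, fun _ _ _ _ => rfl, rfl, fun x y _ _ => ?_, by decide⟩
  show 6 * sgm (x * y).p % 12 = (6 * sgm x.p + 6 * sgm y.p) % 12
  rw [M648.mul_p]
  exact sgm_mul x.p y.p

/-- `p ↦ p 0` is additive mod 3 on the even permutations -/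
theorem c2_mul : ∀ p q : Equiv.Perm (Fin 3), Equiv.Perm.sign p = 1 → Equiv.Perm.sign q = 1 →
    4 * ((p * q) 0).val % 12 = (4 * (p 0).val + 4 * (q 0).val) % 12 := by
  decide

theorem monoOK_c2 : MonoOK mC2 := by
  refine ⟨fun _ => rfl, rfl, fun x y hx hy => ?_, rfl, fun x y hx hy => ?_, by decide⟩
  · have hx' : Equiv.Perm.sign x.p = 1 := of_decide_eq_true hx
    have hy' : Equiv.Perm.sign y.p = 1 := of_decide_eq_true hy
    show decide (Equiv.Perm.sign (x * y).p = 1) = true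
    rw [M648.mul_p, Equiv.Perm.sign_mul, hx', hy']
    rfl
  · have hx' : Equiv.Perm.sign x.p = 1 := of_decide_eq_true hx
    have hy' : Equiv.Perm.sign y.p = 1 := of_decide_eq_true hy
    show 4 * ((x * y).p 0).val % 12 = (4 * (x.p 0).val + 4 * (y.p 0).val) % 12
    rw [M648.mul_p]
    exact c2_mul x.p y.p hx' hy'

end Cfsg.Agent.Lib.H8.L648
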