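import Mathlib
import Cfsg.Agent.Lib.H7.T648Defs
import Cfsg.Agent.Lib.H7.T648Model
import Cfsg.Agent.Lib.H18.L648Defs

/-!
# S3702, helper18's side, piece TABF (helper8): from the tables of the `psiZ` to the tables of the `FZ`
-/

set_option autoImplicit false

namespace Cfsg.Agent.Lib.H8.L648

open Cfsg Cfsg.Agent.Lib.H7.T648 Cfsg.Agent.Lib.H18 Cfsg.Agent.Lib.H18.L648
open scoped ComplexConjugate

/-- the class-level identities (kernel `decide` in `Z12`) -/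
theorem tabF_cls : ∀ c : Fin 14,
    (6 * Ptab 6 c - 6 * Ptab 8 c = Ftab 0 c) ∧
    (8 * Ptab 12 c - 8 * Ptab 13 c = Ftab 1 c) ∧
    (6 * Ptab 6 c - 3 * Ptab 4 c - 3 * Ptab 3 c = Ftab 2 c) ∧
    (8 * Ptab 12 c - 2 * Ptab 2 c - 3 * Ptab 4 c - 3 * Ptab 3 c = Ftab 3 c) ∧
    (6 * Ptab 5 c - Ptab 0 c - 2 * Ptab 2 c - 3 * Ptab 3 c = Ftab 4 c) ∧
    (6 * Ptab 7 c - Ptab 1 c - 2 * Ptab 2 c - 3 * Ptab 4 c = Ftab 5 c) ∧
    (8 * Ptab 11 c - Ptab 0 c - Ptab 1 c - 3 * Ptab 4 c - 3 * Ptab 3 c = Ftab 6 c) ∧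
    (12 * Ptab 9 c - 8 * Ptab 12 c - Ptab 0 c - 3 * Ptab 4 c = Ftab 7 c) ∧
    (12 * Ptab 10 c - 8 * Ptab 12 c - Ptab 1 c - 3 * Ptab 3 c = Ftab 8 c) := by
  decide

theorem tabF (hP : ∀ (d : Fin 14) (x : M648), psiZ (monoL d) x = Ptab d (cls x)) (i : Fin 9)
    (x : M648) : FZ i x = Ftab i (cls x) := by
  have h0 : psiZ mOne x = Ptab 0 (cls x) := hP 0 x
  have h1 : psiZ mSgn x = Ptab 1 (cls x) := hP 1 x
  have h2 : psiZ mC2 x = Ptab 2 (cls x) := hP 2 x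
  have h3 : psiZ mC3p x = Ptab 3 (cls x) := hP 3 x
  have h4 : psiZ mC3 x = Ptab 4 (cls x) := hP 4 x
  have h5 : psiZ (mP 0) x = Ptab 5 (cls x) := hP 5 x
  have h6 : psiZ (mP 1) x = Ptab 6 (cls x) := hP 6 x
  have h7 : psiZ (mP 2) x = Ptab 7 (cls x) := hP 7 x
  have h8 : psiZ (mP 3) x = Ptab 8 (cls x) := hP 8 x
  have h9 : psiZ (mF 0) x = Ptab 9 (cls x) := hP 9 x
  have h10 : psiZ (mF 1) x = Ptab 10 (cls x) := hP 10 x
  have h11 : psiZ (mT 0) x = Ptab 11 (cls x) := hP 11 x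
  have h12 : psiZ (mT 1) x = Ptab 12 (cls x) := hP 12 x
  have h13 : psiZ (mT 2) x = Ptab 13 (cls x) := hP 13 x
  obtain ⟨e0, e1, e2, e3, e4, e5, e6, e7, e8⟩ := tabF_cls (cls x)
  fin_cases i
  · show 6 * psiZ (mP 1) x - 6 * psiZ (mP 3) x = _
    rw [h6, h8]; exact e0
  · show 8 * psiZ (mT 1) x - 8 * psiZ (mT 2) x = _
    rw [h12, h13]; exact e1
  · show 6 * psiZ (mP 1) x - 3 * psiZ mC3 x - 3 * psiZ mC3p x = _
    rw [h6, h4, h3]; exact e2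
  · show 8 * psiZ (mT 1) x - 2 * psiZ mC2 x - 3 * psiZ mC3 x - 3 * psiZ mC3p x = _
    rw [h12, h2, h4, h3]; exact e3
  · show 6 * psiZ (mP 0) x - psiZ mOne x - 2 * psiZ mC2 x - 3 * psiZ mC3p x = _
    rw [h5, h0, h2, h3]; exact e4
  · show 6 * psiZ (mP 2) x - psiZ mSgn x - 2 * psiZ mC2 x - 3 * psiZ mC3 x = _
    rw [h7, h1, h2, h4]; exact e5
  · show 8 * psiZ (mT 0) x - psiZ mOne x - psiZ mSgn x - 3 * psiZ mC3 x - 3 * psiZ mC3p x = _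
    rw [h11, h0, h1, h4, h3]; exact e6
  · show 12 * psiZ (mF 0) x - 8 * psiZ (mT 1) x - psiZ mOne x - 3 * psiZ mC3 x = _
    rw [h9, h12, h0, h4]; exact e7
  · show 12 * psiZ (mF 1) x - 8 * psiZ (mT 1) x - psiZ mSgn x - 3 * psiZ mC3p x = _
    rw [h10, h12, h1, h3]; exact e8

end Cfsg.Agent.Lib.H8.L648
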