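/-
S2524 (Tiep-Zalesskii gap for `Sp_2n(q)`, `q` odd; architect helper19, top layer helper8).
Basic calculus of the `Q`-eigenprojections `proj ρ tEl (Φ Y)` of a representation `ρ` of `Sp_2n(F)`:
concrete Siegel relations, conjugation by the Levi factor, multiplicities along congruence orbits.
-/
import Cfsg.Agent.Lib.H5.LS2S2
import Cfsg.Agent.Lib.H20.WeilDefs
import Cfsg.Agent.Lib.H4.RepChar

set_option autoImplicit false
set_option linter.unusedSectionVars false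

namespace Cfsg.Agent.Lib.H8.TZ

open Matrix Module Cfsg.Agent.Lib.H12.LS2 Cfsg.Agent.Lib.H5.LS2 Cfsg.Agent.Lib.H20.Weil Cfsg.Agent.Lib.H4

variable {F : Type*} [Field F] {n : ℕ}

theorem tEl_add (X X' : Symm n F) :
    (tEl (X + X') : Matrix.symplecticGroup (Fin n) F) = tEl X * tEl X' := by
  apply Subtype.ext
  rw [Submonoid.coe_mul, tEl_val, tEl_val, tEl_val, Matrix.fromBlocks_multiply]
  simp [add_comm]

theorem tEl_injective :
    Function.Injective (tEl : Symm n F → Matrix.symplecticGroup (Fin n) F) := by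
  intro X X' h
  have h' := congrArg Subtype.val h
  rw [tEl_val, tEl_val, Matrix.fromBlocks_inj] at h'
  exact Subtype.ext h'.2.1

theorem lEl_conj_tEl (g : GL (Fin n) F) (X : Symm n F) :
    (lEl g : Matrix.symplecticGroup (Fin n) F) * tEl X * (lEl g)⁻¹ = tEl (sact g X) := by
  rw [mul_inv_eq_iff_eq_mul]
  apply Subtype.ext
  rw [Submonoid.coe_mul, Submonoid.coe_mul, tEl_val, tEl_val, lEl_val, Matrix.fromBlocks_multiply,
    Matrix.fromBlocks_multiply, sact_val]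
  have h1 : g.1ᵀ * ((g⁻¹ : GL (Fin n) F).1)ᵀ = 1 := by
    rw [← Matrix.transpose_mul, ← Units.val_mul, inv_mul_cancel, Units.val_one, Matrix.transpose_one]
  have h2 : g.1 * (X : Matrix (Fin n) (Fin n) F) * g.1ᵀ * ((g⁻¹ : GL (Fin n) F).1)ᵀ
      = g.1 * (X : Matrix (Fin n) (Fin n) F) := by
    rw [Matrix.mul_assoc, h1, Matrix.mul_one]
  rw [h2]
  simp

theorem lEl_mul (g h : GL (Fin n) F) :
    (lEl (g * h) : Matrix.symplecticGroup (Fin n) F) = lEl g * lEl h :=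
  map_mul (lHom n) g h

theorem lEl_one : (lEl (1 : GL (Fin n) F) : Matrix.symplecticGroup (Fin n) F) = 1 :=
  map_one (lHom n)

theorem lEl_inv (g : GL (Fin n) F) :
    (lEl g⁻¹ : Matrix.symplecticGroup (Fin n) F) = (lEl g)⁻¹ :=
  map_inv (lHom n) g

/-- the congruence action `Y ↦ gᵀ Y g` on symmetric matrices -/
def cact (g : GL (Fin n) F) (Y : Symm n F) : Symm n F :=
  ⟨g.1ᵀ * (Y : Matrix (Fin n) (Fin n) F) * g.1, by
    have h := mul_mul_transpose_mem g.1ᵀ Y.2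
    rwa [Matrix.transpose_transpose] at h⟩

theorem cact_val (g : GL (Fin n) F) (Y : Symm n F) :
    ((cact g Y : Symm n F) : Matrix (Fin n) (Fin n) F) = g.1ᵀ * (Y : Matrix (Fin n) (Fin n) F) * g.1 := rfl

theorem cact_one (Y : Symm n F) : cact (1 : GL (Fin n) F) Y = Y := by
  apply Subtype.ext
  rw [cact_val]
  simp

theorem cact_mul (g h : GL (Fin n) F) (Y : Symm n F) : cact (g * h) Y = cact h (cact g Y) := by
  apply Subtype.ext
  rw [cact_val, cact_val, cact_val, Units.val_mul, Matrix.transpose_mul]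
  simp only [Matrix.mul_assoc]

theorem cact_zero (g : GL (Fin n) F) : cact g (0 : Symm n F) = 0 := by
  apply Subtype.ext
  rw [cact_val]
  simp

theorem cact_eq_zero_iff (g : GL (Fin n) F) (Y : Symm n F) : cact g Y = 0 ↔ Y = 0 := by
  constructor
  · intro h
    have h1 : cact g⁻¹ (cact g Y) = cact g⁻¹ 0 := by rw [h]
    rwa [← cact_mul, mul_inv_cancel, cact_one, cact_zero] at h1
  · rintro rfl
    exact cact_zero g

/-- the congruence orbit of a symmetric matrix -/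
def orbS (Y : Symm n F) : Set (Symm n F) :=
  {Z | ∃ g : GL (Fin n) F, (Z : Matrix (Fin n) (Fin n) F) = g.1ᵀ * (Y : Matrix (Fin n) (Fin n) F) * g.1}

theorem mem_orbS (Y Z : Symm n F) : Z ∈ orbS Y ↔ ∃ g : GL (Fin n) F, Z = cact g Y := by
  constructor
  · rintro ⟨g, hg⟩
    exact ⟨g, Subtype.ext hg⟩
  · rintro ⟨g, rfl⟩
    exact ⟨g, rfl⟩

theorem mem_orbS_self (Y : Symm n F) : Y ∈ orbS Y := (mem_orbS Y Y).2 ⟨1, (cact_one Y).symm⟩

theorem orbS_symm {Y Z : Symm n F} (h : Z ∈ orbS Y) : Y ∈ orbS Z := by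
  obtain ⟨g, rfl⟩ := (mem_orbS Y Z).1 h
  refine (mem_orbS _ _).2 ⟨g⁻¹, ?_⟩
  rw [← cact_mul, mul_inv_cancel, cact_one]

theorem orbS_trans {Y Z Z' : Symm n F} (h : Z ∈ orbS Y) (h' : Z' ∈ orbS Z) : Z' ∈ orbS Y := by
  obtain ⟨g, rfl⟩ := (mem_orbS Y Z).1 h
  obtain ⟨g', rfl⟩ := (mem_orbS _ Z').1 h'
  exact (mem_orbS _ _).2 ⟨g * g', (cact_mul g g' Y).symm⟩

theorem orbS_zero : orbS (0 : Symm n F) = {0} := by
  ext Z
  rw [mem_orbS, Set.mem_singleton_iff]
  constructor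
  · rintro ⟨g, rfl⟩
    exact cact_zero g
  · rintro rfl
    exact ⟨1, (cact_zero 1).symm⟩

/-! ## eigenprojections -/

variable [Fintype (Symm n F)]
  {V : Type*} [AddCommGroup V] [Module ℂ V] [FiniteDimensional ℂ V]
  (χ : AddChar F ℂ) (Φ : Symm n F ≃ AddChar (Symm n F) ℂ)
  (hΦ : ∀ Y X : Symm n F, Φ Y X =
    χ (Matrix.trace ((X : Matrix (Fin n) (Fin n) F) * (Y : Matrix (Fin n) (Fin n) F))))
  (ρ : Matrix.symplecticGroup (Fin n) F →* Module.End ℂ V)

/-- the `Q`-eigenprojection of `ρ` for the symmetric matrix `Y` -/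
noncomputable abbrev PY (Y : Symm n F) : Module.End ℂ V := RepChar.proj ρ tEl (Φ Y)

/-- the additive automorphism `X ↦ g X gᵀ` of the symmetric matrices -/
def sactEquiv (g : GL (Fin n) F) : Symm n F ≃+ Symm n F where
  toFun := sact g
  invFun := sact g⁻¹
  left_inv := fun X => by rw [← sact_mul, inv_mul_cancel, sact_one]
  right_inv := fun X => by rw [← sact_mul, mul_inv_cancel, sact_one]
  map_add' := sact_add g

include hΦ in
theorem Phi_cact (g : GL (Fin n) F) (Y X : Symm n F) : Φ (cact g Y) X = Φ Y (sact g X) := by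
  rw [hΦ, hΦ, cact_val, sact_val]
  congr 1
  calc Matrix.trace ((X : Matrix (Fin n) (Fin n) F) * (g.1ᵀ * (Y : Matrix (Fin n) (Fin n) F) * g.1))
      = Matrix.trace (((X : Matrix (Fin n) (Fin n) F) * g.1ᵀ * (Y : Matrix (Fin n) (Fin n) F)) * g.1) := by
        simp only [Matrix.mul_assoc]
    _ = Matrix.trace (g.1 * ((X : Matrix (Fin n) (Fin n) F) * g.1ᵀ * (Y : Matrix (Fin n) (Fin n) F))) :=
        Matrix.trace_mul_comm _ _
    _ = _ := by simp only [Matrix.mul_assoc]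

include hΦ in
theorem Phi_zero : Φ (0 : Symm n F) = 1 := by
  apply DFunLike.ext
  intro X
  rw [hΦ]
  simp

include hΦ in
/-- conjugating the eigenprojection by a Levi element -/
theorem PY_cact (g : GL (Fin n) F) (Y : Symm n F) :
    PY Φ ρ (cact g Y) = ρ (lEl g⁻¹) * PY Φ ρ Y * ρ (lEl g) := by
  have h := RepChar.conj_proj ρ tEl (Φ Y) (lEl g⁻¹) (sactEquiv g⁻¹) (fun X => lEl_conj_tEl g⁻¹ X)
  have h2 : (Φ Y).compAddMonoidHom ((sactEquiv g⁻¹).symm : Symm n F →+ Symm n F) = Φ (cact g Y) := by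
    apply DFunLike.ext
    intro X
    rw [Phi_cact χ Φ hΦ]
    show Φ Y ((sactEquiv g⁻¹).symm X) = Φ Y (sact g X)
    have h5 : (sactEquiv g⁻¹).symm X = sact g X := by
      show sact g⁻¹⁻¹ X = sact g X
      rw [inv_inv]
    rw [h5]
  rw [h2] at h
  rw [← lEl_inv, inv_inv] at h
  exact h.symm

include hΦ in
theorem PY_cact_ne_zero (g : GL (Fin n) F) (Y : Symm n F) (h : PY Φ ρ Y ≠ 0) :
    PY Φ ρ (cact g Y) ≠ 0 := by
  intro h0
  apply h
  have h1 := PY_cact χ Φ hΦ ρ g Y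
  rw [h0] at h1
  have h2 : ρ (lEl g) * (ρ (lEl g⁻¹) * PY Φ ρ Y * ρ (lEl g)) * ρ (lEl g⁻¹) = 0 := by
    rw [← h1]; simp
  have h3 : ρ (lEl g) * ρ (lEl g⁻¹) = 1 := by
    rw [← map_mul, ← lEl_mul, mul_inv_cancel, lEl_one, map_one]
  calc PY Φ ρ Y = (ρ (lEl g) * ρ (lEl g⁻¹)) * PY Φ ρ Y * (ρ (lEl g) * ρ (lEl g⁻¹)) := by
        rw [h3, one_mul, mul_one]
    _ = ρ (lEl g) * (ρ (lEl g⁻¹) * PY Φ ρ Y * ρ (lEl g)) * ρ (lEl g⁻¹) := by
        simp only [mul_assoc]
    _ = 0 := h2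

include hΦ in
theorem PY_ne_zero_of_mem_orbS {Y Z : Symm n F} (hZ : Z ∈ orbS Y) (h : PY Φ ρ Y ≠ 0) :
    PY Φ ρ Z ≠ 0 := by
  obtain ⟨g, rfl⟩ := (mem_orbS Y Z).1 hZ
  exact PY_cact_ne_zero χ Φ hΦ ρ g Y h

include hΦ in
theorem finrank_PY_cact (g : GL (Fin n) F) (Y : Symm n F) :
    finrank ℂ (LinearMap.range (PY Φ ρ (cact g Y))) = finrank ℂ (LinearMap.range (PY Φ ρ Y)) := by
  have h1 := RepChar.trace_proj_eq_finrank ρ tEl tEl_add (Φ (cact g Y))
  have h2 := RepChar.trace_proj_eq_finrank ρ tEl tEl_add (Φ Y)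
  have h3 : LinearMap.trace ℂ V (PY Φ ρ (cact g Y)) = LinearMap.trace ℂ V (PY Φ ρ Y) := by
    rw [PY_cact χ Φ hΦ, LinearMap.trace_mul_comm, ← mul_assoc, ← map_mul, ← lEl_mul, mul_inv_cancel,
      lEl_one, map_one, one_mul]
  have h4 : (finrank ℂ (LinearMap.range (PY Φ ρ (cact g Y))) : ℂ) =
      (finrank ℂ (LinearMap.range (PY Φ ρ Y)) : ℂ) := by
    rw [← h1, ← h2]; exact h3
  exact Nat.cast_injective h4

include hΦ in
theorem finrank_PY_of_mem_orbS {Y Z : Symm n F} (hZ : Z ∈ orbS Y) :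
    finrank ℂ (LinearMap.range (PY Φ ρ Z)) = finrank ℂ (LinearMap.range (PY Φ ρ Y)) := by
  obtain ⟨g, rfl⟩ := (mem_orbS Y Z).1 hZ
  exact finrank_PY_cact χ Φ hΦ ρ g Y

/-- the dimension formula along `Φ` -/
theorem finrank_eq_sum_PY :
    finrank ℂ V = ∑ Y : Symm n F, finrank ℂ (LinearMap.range (PY Φ ρ Y)) := by
  classical
  rw [RepChar.finrank_eq_sum ρ tEl tEl_add]
  let _ : Fintype (AddChar (Symm n F) ℂ) := inferInstance
  exact (Equiv.sum_comp Φ (fun ψ => finrank ℂ (LinearMap.range (RepChar.proj ρ tEl ψ)))).symm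

include hΦ in
/-- two different orbits in the support: the multiplicities add up -/
theorem two_orbits_le (Y Y' : Symm n F) (hYY' : Y' ∉ orbS Y) :
    Nat.card (orbS Y) * finrank ℂ (LinearMap.range (PY Φ ρ Y)) +
      Nat.card (orbS Y') * finrank ℂ (LinearMap.range (PY Φ ρ Y')) ≤ finrank ℂ V := by
  classical
  rw [finrank_eq_sum_PY Φ ρ]
  let O1 : Finset (Symm n F) := Finset.univ.filter (fun Z => Z ∈ orbS Y)
  let O2 : Finset (Symm n F) := Finset.univ.filter (fun Z => Z ∈ orbS Y')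
  have hd : Disjoint O1 O2 := by
    rw [Finset.disjoint_left]
    intro Z h1 h2
    have h1' : Z ∈ orbS Y := (Finset.mem_filter.1 h1).2
    have h2' : Z ∈ orbS Y' := (Finset.mem_filter.1 h2).2
    exact hYY' (orbS_trans h1' (orbS_symm h2'))
  have hc1 : Nat.card (orbS Y) = O1.card := by
    rw [Nat.card_eq_fintype_card]
    exact Fintype.card_subtype _
  have hc2 : Nat.card (orbS Y') = O2.card := by
    rw [Nat.card_eq_fintype_card]
    exact Fintype.card_subtype _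
  have hs1 : ∑ Z ∈ O1, finrank ℂ (LinearMap.range (PY Φ ρ Z)) =
      O1.card * finrank ℂ (LinearMap.range (PY Φ ρ Y)) := by
    rw [Finset.sum_congr rfl (fun Z hZ => finrank_PY_of_mem_orbS χ Φ hΦ ρ (Finset.mem_filter.1 hZ).2),
      Finset.sum_const, smul_eq_mul]
  have hs2 : ∑ Z ∈ O2, finrank ℂ (LinearMap.range (PY Φ ρ Z)) =
      O2.card * finrank ℂ (LinearMap.range (PY Φ ρ Y')) := by
    rw [Finset.sum_congr rfl (fun Z hZ => finrank_PY_of_mem_orbS χ Φ hΦ ρ (Finset.mem_filter.1 hZ).2),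
      Finset.sum_const, smul_eq_mul]
  rw [hc1, hc2, ← hs1, ← hs2, ← Finset.sum_union hd]
  exact Finset.sum_le_sum_of_subset (Finset.subset_univ _)

include hΦ in
/-- one orbit -/
theorem one_orbit_le (Y : Symm n F) :
    Nat.card (orbS Y) * finrank ℂ (LinearMap.range (PY Φ ρ Y)) ≤ finrank ℂ V := by
  classical
  rw [finrank_eq_sum_PY Φ ρ]
  let O1 : Finset (Symm n F) := Finset.univ.filter (fun Z => Z ∈ orbS Y)
  have hc1 : Nat.card (orbS Y) = O1.card := by
    rw [Nat.card_eq_fintype_card]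
    exact Fintype.card_subtype _
  have hs1 : ∑ Z ∈ O1, finrank ℂ (LinearMap.range (PY Φ ρ Z)) =
      O1.card * finrank ℂ (LinearMap.range (PY Φ ρ Y)) := by
    rw [Finset.sum_congr rfl (fun Z hZ => finrank_PY_of_mem_orbS χ Φ hΦ ρ (Finset.mem_filter.1 hZ).2),
      Finset.sum_const, smul_eq_mul]
  rw [hc1, ← hs1]
  exact Finset.sum_le_sum_of_subset (Finset.subset_univ _)

theorem PY_ne_zero_iff (Y : Symm n F) :
    PY Φ ρ Y ≠ 0 ↔ finrank ℂ (LinearMap.range (PY Φ ρ Y)) ≠ 0 := by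
  constructor
  · exact RepChar.finrank_range_ne_zero ρ tEl
  · intro h h0
    apply h
    rw [h0, LinearMap.range_zero]
    exact finrank_bot ℂ V

/-- a vector lies in the range of the eigenprojection iff it is a `Q`-eigenvector -/
theorem mem_range_PY_iff (Y : Symm n F) (v : V) :
    v ∈ LinearMap.range (PY Φ ρ Y) ↔ ∀ X, ρ (tEl X) v = Φ Y X • v := by
  constructor
  · rintro ⟨u, rfl⟩ X
    have h := RepChar.map_mul_proj ρ tEl tEl_add (Φ Y) X
    have h2 := LinearMap.congr_fun h u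
    simpa using h2
  · intro h
    refine ⟨v, ?_⟩
    show RepChar.proj ρ tEl (Φ Y) v = v
    unfold RepChar.proj
    rw [LinearMap.smul_apply, LinearMap.sum_apply]
    have h1 : ∀ X : Symm n F, ((Φ Y) (-X) • ρ (tEl X)) v = v := by
      intro X
      rw [LinearMap.smul_apply, h X, smul_smul, ← AddChar.map_add_eq_mul, neg_add_cancel,
        AddChar.map_zero_eq_one, one_smul]
    rw [Finset.sum_congr rfl (fun X _ => h1 X), Finset.sum_const, Finset.card_univ, ← Nat.cast_smul_eq_nsmul ℂ,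
      smul_smul, inv_mul_cancel₀ RepChar.card_ne_zero, one_smul]

end Cfsg.Agent.Lib.H8.TZ
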