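/-
S2524 (Tiep-Zalesskii gap for `Sp_2n(q)`, `q` odd; architect helper19, top layer helper8).  Piece **(DIM)**:
* `R1` : the rank-one property of a representation (`Q`-characters `ψ_Y` occur only for `Y = c v vᵀ`);
* `r1_of_lt` : a representation of dimension `< gap` has `R1` (orbit lemma (O) of helper25 + LS-R);
* `dim_package` : a non-trivial representation with `2 dim ≤ q^n + 1` has `R1`, multiplicities `≤ 1`, support in one congruence
  orbit, and some `b • E_**` (`b ≠ 0`) in its support.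
-/
import Cfsg.Agent.Lib.H8.TZBasic
import Cfsg.Agent.Lib.H20.WeilMain
import Cfsg.Agent.Lib.H25.SymOrbit2

set_option autoImplicit false
set_option linter.unusedSectionVars false

namespace Cfsg.Agent.Lib.H8.TZ

open Matrix Module Cfsg.Agent.Lib.H12.LS2 Cfsg.Agent.Lib.H5.LS2 Cfsg.Agent.Lib.H20.Weil Cfsg.Agent.Lib.H4

variable {F : Type*} [Field F] [Fintype F] {n : ℕ}

/-- `b • E_**` as a symmetric matrix -/
def Y0 (star : Fin n) (b : F) : Symm n F :=
  ⟨b • Matrix.vecMulVec (Pi.single star (1 : F)) (Pi.single star (1 : F)), by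
    show (b • Matrix.vecMulVec (Pi.single star (1 : F)) (Pi.single star (1 : F)))ᵀ = _
    rw [Matrix.transpose_smul, Matrix.transpose_vecMulVec]⟩

theorem Y0_val (star : Fin n) (b : F) :
    ((Y0 star b : Symm n F) : Matrix (Fin n) (Fin n) F) =
      b • Matrix.vecMulVec (Pi.single star (1 : F)) (Pi.single star (1 : F)) := rfl

theorem Y0_val_single (star : Fin n) (b : F) :
    ((Y0 star b : Symm n F) : Matrix (Fin n) (Fin n) F) = b • Matrix.single star star (1 : F) := by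
  rw [Y0_val]
  congr 1
  ext i j
  rw [Matrix.vecMulVec_apply, Matrix.single_apply, Pi.single_apply, Pi.single_apply]
  by_cases hi : i = star
  · by_cases hj : j = star
    · subst hi; subst hj; simp
    · subst hi
      have hj' : ¬ (i = j) := fun h => hj h.symm
      simp [hj, hj']
  · have hi' : ¬ (star = i) := fun h => hi h.symm
    simp [hi, hi']

theorem Y0_ne_zero (star : Fin n) {b : F} (hb : b ≠ 0) : Y0 star b ≠ 0 := by
  intro h
  have h1 : ((Y0 star b : Symm n F) : Matrix (Fin n) (Fin n) F) star star = 0 := by rw [h]; rfl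
  rw [Y0_val, Matrix.smul_apply, Matrix.vecMulVec_apply, Pi.single_eq_same, mul_one, smul_eq_mul, mul_one] at h1
  exact hb h1

/-- the transpose of an invertible matrix, as an invertible matrix -/
def glT (h : GL (Fin n) F) : GL (Fin n) F :=
  ⟨h.1ᵀ, (h⁻¹ : GL (Fin n) F).1ᵀ,
    by rw [← Matrix.transpose_mul, ← Units.val_mul, inv_mul_cancel, Units.val_one, Matrix.transpose_one],
    by rw [← Matrix.transpose_mul, ← Units.val_mul, mul_inv_cancel, Units.val_one, Matrix.transpose_one]⟩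

theorem glT_val (h : GL (Fin n) F) : (glT h).1 = h.1ᵀ := rfl

/-- a rank-one symmetric matrix `c v vᵀ` is congruent to `c E_**` -/
theorem rank_one_mem_orbS (star : Fin n) (c : F) (v : Fin n → F) (hv : v ≠ 0) (Y : Symm n F)
    (hY : (Y : Matrix (Fin n) (Fin n) F) = c • Matrix.vecMulVec v v) : Y0 star c ∈ orbS Y := by
  have he : (Pi.single star (1 : F) : Fin n → F) ≠ 0 := by
    intro h
    have := congrFun h star
    simp at this
  obtain ⟨h, hh⟩ := Cfsg.Agent.Lib.H16.Weil.exists_gl_map (Pi.single star (1 : F)) v he hv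
  refine ⟨glT h, ?_⟩
  rw [glT_val, Matrix.transpose_transpose, hY, Y0_val, Matrix.mul_smul, Matrix.smul_mul]
  congr 1
  rw [Matrix.mul_vecMulVec, Matrix.vecMulVec_mul, hh, Matrix.vecMul_transpose, hh]

/-! ## the rank-one property -/

variable [Fintype (Symm n F)]
  {V : Type*} [AddCommGroup V] [Module ℂ V] [FiniteDimensional ℂ V]
  (χ : AddChar F ℂ) (Φ : Symm n F ≃ AddChar (Symm n F) ℂ)
  (hΦ : ∀ Y X : Symm n F, Φ Y X =
    χ (Matrix.trace ((X : Matrix (Fin n) (Fin n) F) * (Y : Matrix (Fin n) (Fin n) F))))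
  (ρ : Matrix.symplecticGroup (Fin n) F →* Module.End ℂ V)

/-- the rank-one property (R1) -/
def R1 : Prop :=
  ∀ Y : Symm n F, PY Φ ρ Y ≠ 0 →
    ∃ (c : F) (v : Fin n → F), (Y : Matrix (Fin n) (Fin n) F) = c • Matrix.vecMulVec v v

include hΦ in
/-- (O) + LS-R: a representation of dimension below the gap has the rank-one property -/
theorem r1_of_lt (h2 : (2 : F) ≠ 0)
    (hlt : 2 * (Fintype.card F + 1) * finrank ℂ V <
      (Fintype.card F ^ n - 1) * (Fintype.card F ^ n - Fintype.card F)) : R1 Φ ρ := by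
  intro Y hY
  by_contra hcon
  have h1 := Cfsg.Agent.Lib.H25.SymOrbit2.symm_orbit_card_ge_two h2 n Y hcon
  have h3 := one_orbit_le χ Φ hΦ ρ Y
  have h4 : 1 ≤ finrank ℂ (LinearMap.range (PY Φ ρ Y)) :=
    Nat.one_le_iff_ne_zero.2 ((PY_ne_zero_iff Φ ρ Y).1 hY)
  have h5 : Nat.card (orbS Y) ≤ finrank ℂ V :=
    le_trans (Nat.le_mul_of_pos_right _ h4) h3
  have h6 : Nat.card {Z : Symm n F // ∃ g : GL (Fin n) F,
      (Z : Matrix (Fin n) (Fin n) F) = g.1ᵀ * (Y : Matrix (Fin n) (Fin n) F) * g.1} = Nat.card (orbS Y) := rfl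
  rw [h6] at h1
  have h7 : 2 * (Fintype.card F + 1) * Nat.card (orbS Y) ≤ 2 * (Fintype.card F + 1) * finrank ℂ V :=
    Nat.mul_le_mul_left _ h5
  omega

/-- a non-trivial representation of `Sp_2n(q)` (`n ≥ 2`, `q` odd) is non-trivial on the Siegel radical -/
theorem exists_tEl_ne_one (h2 : (2 : F) ≠ 0) (hn : 2 ≤ n) (hρ : ∃ g, ρ g ≠ 1) :
    ∃ X : Symm n F, ρ (tEl X) ≠ 1 := by
  classical
  refine ⟨X00 n hn, ?_⟩
  have ht0 : (tEl (0 : Symm n F) : Matrix.symplecticGroup (Fin n) F) = 1 := by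
    have h := tEl_add (0 : Symm n F) 0
    rw [add_zero] at h
    exact mul_eq_left.1 h.symm
  have hq3 := three_le_card h2
  have hperf : commutator (Matrix.symplecticGroup (Fin n) F) = ⊤ := by
    apply Cfsg.Agent.Lib.H2.Sp.perfect
    by_cases h3 : 3 ≤ n
    · exact Or.inl h3
    · exact Or.inr (Or.inl ⟨by omega, hq3⟩)
  intro h
  rcases Cfsg.Agent.Lib.H2.Sp.normal_dichotomy hn hperf ρ.ker with hk | hk
  · have h3 : tEl (X00 n hn) ∈ ρ.ker := h
    have h4 := hk h3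
    have hcen := Cfsg.Agent.Lib.H2.Sp.center_eq (F := F) n (by omega)
    rw [← SetLike.mem_coe, hcen] at h4
    have h5 : (tEl (X00 n hn + X00 n hn) : Matrix.symplecticGroup (Fin n) F) = 1 := by
      rw [tEl_add]
      rcases h4 with h4 | h4
      · rw [h4, one_mul]
      · rw [Set.mem_singleton_iff] at h4
        rw [h4]
        apply Subtype.ext
        simp [Cfsg.Agent.Lib.H2.Sp.negOne]
    rw [← ht0] at h5
    have h6 := tEl_injective h5
    have h7 : ((X00 n hn + X00 n hn : Symm n F) : Matrix (Fin n) (Fin n) F) ⟨0, by omega⟩ ⟨0, by omega⟩ = 0 := by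
      rw [h6]; rfl
    rw [AddSubgroup.coe_add, Matrix.add_apply] at h7
    have h8 : ((X00 n hn : Symm n F) : Matrix (Fin n) (Fin n) F) ⟨0, by omega⟩ ⟨0, by omega⟩ = 1 := by
      show Matrix.single (⟨0, by omega⟩ : Fin n) (⟨0, by omega⟩ : Fin n) (1 : F) _ _ = 1
      rw [Matrix.single_apply_same]
    rw [h8] at h7
    exact h2 (by rw [← h7]; norm_num)
  · obtain ⟨g0, hg0⟩ := hρ
    apply hg0
    have : g0 ∈ ρ.ker := by rw [hk]; trivial
    exact this

include hΦ in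
/-- a non-trivial representation has a non-zero symmetric matrix in its support -/
theorem exists_support (h2 : (2 : F) ≠ 0) (hn : 2 ≤ n) (hρ : ∃ g, ρ g ≠ 1) :
    ∃ Y : Symm n F, Y ≠ 0 ∧ PY Φ ρ Y ≠ 0 := by
  obtain ⟨ψ, hψ1, hψ0⟩ := RepChar.exists_ne_one ρ tEl tEl_add (exists_tEl_ne_one ρ h2 hn hρ)
  refine ⟨Φ.symm ψ, ?_, ?_⟩
  · intro h
    apply hψ1
    have h1 : Φ (Φ.symm ψ) = ψ := Φ.apply_symm_apply ψ
    rw [h, Phi_zero χ Φ hΦ] at h1
    exact h1.symm
  · show RepChar.proj ρ tEl (Φ (Φ.symm ψ)) ≠ 0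
    rw [Φ.apply_symm_apply]
    exact hψ0

theorem pow_ge_sq (hn : 2 ≤ n) : Fintype.card F * Fintype.card F ≤ Fintype.card F ^ n := by
  have h1 : 1 ≤ Fintype.card F := Fintype.card_pos
  calc Fintype.card F * Fintype.card F = Fintype.card F ^ 2 := by ring
    _ ≤ Fintype.card F ^ n := Nat.pow_le_pow_right h1 hn

/-- `(q+1)(q^n+1) < (q^n-1)(q^n-q)` for `n ≥ 2`, `q ≥ 3` -/
theorem gap_arith (q Q : ℕ) (hq : 3 ≤ q) (hQ : q * q ≤ Q) : (q + 1) * (Q + 1) < (Q - 1) * (Q - q) := by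
  have h1 : 9 ≤ Q := by nlinarith
  have h2 : q ≤ Q := by nlinarith
  obtain ⟨a, rfl⟩ : ∃ a, Q = a + 1 := ⟨Q - 1, by omega⟩
  obtain ⟨b, hb⟩ : ∃ b, a + 1 = b + q := ⟨a + 1 - q, by omega⟩
  have e1 : a + 1 - 1 = a := by omega
  have e2 : a + 1 - q = b := by omega
  rw [e1, e2]
  have h3 : 2 * q + 3 ≤ a + 1 := by nlinarith
  nlinarith

include hΦ in
/-- **(DIM)** -/
theorem dim_package (h2 : (2 : F) ≠ 0) (hn : 2 ≤ n) (hρ : ∃ g, ρ g ≠ 1)
    (hdim : 2 * finrank ℂ V ≤ Fintype.card F ^ n + 1) (star : Fin n) :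
    R1 Φ ρ ∧ (∀ Y : Symm n F, finrank ℂ (LinearMap.range (PY Φ ρ Y)) ≤ 1) ∧
    (∀ Y Y' : Symm n F, Y ≠ 0 → Y' ≠ 0 → PY Φ ρ Y ≠ 0 → PY Φ ρ Y' ≠ 0 → Y' ∈ orbS Y) ∧
    ∃ b : F, b ≠ 0 ∧ PY Φ ρ (Y0 star b) ≠ 0 := by
  classical
  have hq3 := three_le_card h2
  have hQ := pow_ge_sq (F := F) hn
  set q := Fintype.card F with hq
  set Q := q ^ n with hQdef
  have hQ9 : 9 ≤ Q := by nlinarith
  have hqQ : q ≤ Q := by nlinarith
  have hga := gap_arith q Q hq3 hQ
  -- (R1)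
  have hR1 : R1 Φ ρ := by
    apply r1_of_lt χ Φ hΦ ρ h2
    calc 2 * (q + 1) * finrank ℂ V = (q + 1) * (2 * finrank ℂ V) := by ring
      _ ≤ (q + 1) * (Q + 1) := Nat.mul_le_mul_left _ hdim
      _ < (Q - 1) * (Q - q) := hga
  -- lower bound for orbits
  have horb : ∀ Y : Symm n F, Y ≠ 0 → Q - 1 ≤ 2 * Nat.card (orbS Y) := fun Y hY =>
    Cfsg.Agent.Lib.H16.Weil.symm_orbit_card_ge h2 n Y hY
  have hmult : ∀ Y : Symm n F, PY Φ ρ Y ≠ 0 → 1 ≤ finrank ℂ (LinearMap.range (PY Φ ρ Y)) := fun Y hY =>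
    Nat.one_le_iff_ne_zero.2 ((PY_ne_zero_iff Φ ρ Y).1 hY)
  -- multiplicity one on non-zero matrices
  have hw2' : ∀ Y : Symm n F, Y ≠ 0 → finrank ℂ (LinearMap.range (PY Φ ρ Y)) ≤ 1 := by
    intro Y hY
    by_contra hcon
    push Not at hcon
    have h3 := one_orbit_le χ Φ hΦ ρ Y
    have h4 := horb Y hY
    have h5 : Nat.card (orbS Y) * 2 ≤ finrank ℂ V :=
      le_trans (Nat.mul_le_mul_left _ hcon) h3
    omega
  -- one orbit
  have hw3 : ∀ Y Y' : Symm n F, Y ≠ 0 → Y' ≠ 0 → PY Φ ρ Y ≠ 0 → PY Φ ρ Y' ≠ 0 → Y' ∈ orbS Y := by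
    intro Y Y' hY hY' hPY hPY'
    by_contra hcon
    have h3 := two_orbits_le χ Φ hΦ ρ Y Y' hcon
    have h4 := horb Y hY
    have h5 := horb Y' hY'
    have h6 : Nat.card (orbS Y) ≤ Nat.card (orbS Y) * finrank ℂ (LinearMap.range (PY Φ ρ Y)) :=
      Nat.le_mul_of_pos_right _ (hmult Y hPY)
    have h7 : Nat.card (orbS Y') ≤ Nat.card (orbS Y') * finrank ℂ (LinearMap.range (PY Φ ρ Y')) :=
      Nat.le_mul_of_pos_right _ (hmult Y' hPY')
    omega
  obtain ⟨Y1, hY1, hPY1⟩ := exists_support χ Φ hΦ ρ h2 hn hρ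
  refine ⟨hR1, ?_, hw3, ?_⟩
  · intro Y
    by_cases hY : Y = 0
    · subst hY
      have hnot : (0 : Symm n F) ∉ orbS Y1 := by
        intro h0
        obtain ⟨g, hg⟩ := (mem_orbS _ _).1 h0
        exact hY1 ((cact_eq_zero_iff g Y1).1 hg.symm)
      have h3 := two_orbits_le χ Φ hΦ ρ Y1 0 hnot
      have h4 := horb Y1 hY1
      have h6 : Nat.card (orbS Y1) ≤ Nat.card (orbS Y1) * finrank ℂ (LinearMap.range (PY Φ ρ Y1)) :=
        Nat.le_mul_of_pos_right _ (hmult Y1 hPY1)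
      have h7 : Nat.card (orbS (0 : Symm n F)) = 1 := by
        rw [orbS_zero]
        exact Nat.card_unique
      rw [h7, one_mul] at h3
      omega
    · exact hw2' Y hY
  · obtain ⟨c, v, hcv⟩ := hR1 Y1 hPY1
    have hc : c ≠ 0 := by
      rintro rfl
      apply hY1
      apply Subtype.ext
      rw [hcv, zero_smul]
      rfl
    have hv : v ≠ 0 := by
      rintro rfl
      apply hY1
      apply Subtype.ext
      rw [hcv]
      simp
    exact ⟨c, hc, PY_ne_zero_of_mem_orbS χ Φ hΦ ρ (rank_one_mem_orbS star c v hv Y1 hcv) hPY1⟩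

end Cfsg.Agent.Lib.H8.TZ
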