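/-
S2524 (Tiep-Zalesskii gap for `Sp_2n(q)`, `q` odd; architect helper19, top layer helper8).
The eta-argument and the CLASSIFICATION: given two irreducible modules `W⁺`, `W⁻` with `2 dim W⁺ = q^n + 1`, `2 dim W⁻ + 1 = q^n`
(the Weil components) every irreducible non-trivial module with the rank-one property has the character of one of
`W⁺, W⁺ ∘ τ, W⁻, W⁻ ∘ τ` (`τ` = helper20's diagonal automorphism for a non-square `δ`), by Theorem U.
-/
import Cfsg.Agent.Lib.H8.TZDim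
import Cfsg.Agent.Lib.H20.SpTau

set_option autoImplicit false
set_option linter.unusedSectionVars false

namespace Cfsg.Agent.Lib.H8.TZ

open Matrix Module Cfsg.Agent.Lib.H12.LS2 Cfsg.Agent.Lib.H5.LS2 Cfsg.Agent.Lib.H20.Weil Cfsg.Agent.Lib.H4

variable {F : Type*} [Field F] [Fintype F] {n : ℕ}

/-! ## the element `m1` -/

/-- `diag(1, …, -1, …, 1)` with `-1` at the index `star` -/
def m1g (star : Fin n) : GL (Fin n) F :=
  ⟨Matrix.diagonal (Function.update (1 : Fin n → F) star (-1)),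
    Matrix.diagonal (Function.update (1 : Fin n → F) star (-1)), by
      rw [Matrix.diagonal_mul_diagonal, ← Matrix.diagonal_one]
      congr 1
      funext i
      by_cases hi : i = star
      · subst hi; simp
      · simp [Function.update_of_ne hi], by
      rw [Matrix.diagonal_mul_diagonal, ← Matrix.diagonal_one]
      congr 1
      funext i
      by_cases hi : i = star
      · subst hi; simp
      · simp [Function.update_of_ne hi]⟩

theorem m1g_val (star : Fin n) :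
    ((m1g star : GL (Fin n) F) : Matrix (Fin n) (Fin n) F) =
      Matrix.diagonal (Function.update (1 : Fin n → F) star (-1)) := rfl


theorem m1g_inv (star : Fin n) : (m1g star : GL (Fin n) F)⁻¹ = m1g star := rfl

theorem m1g_mul_self (star : Fin n) : (m1g star : GL (Fin n) F) * m1g star = 1 := by
  conv_lhs => rw [← m1g_inv star]
  exact inv_mul_cancel _

theorem cact_m1g_Y0 (star : Fin n) (a : F) : cact (m1g star) (Y0 star a) = Y0 star a := by
  apply Subtype.ext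
  rw [cact_val, Y0_val, m1g_val, Matrix.diagonal_transpose]
  ext i j
  rw [Matrix.mul_diagonal, Matrix.diagonal_mul, Matrix.smul_apply, Matrix.vecMulVec_apply, Pi.single_apply,
    Pi.single_apply]
  by_cases hi : i = star
  · by_cases hj : j = star
    · subst hi; subst hj; simp
    · simp [hj]
  · simp [hi]

/-! ## square classes -/

theorem Y0_mem_orbS_of_sq (star : Fin n) (b s : F) (hs : s ≠ 0) :
    Y0 star (b * s ^ 2) ∈ orbS (Y0 star b) := by
  apply orbS_symm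
  have he : (Pi.single star (1 : F) : Fin n → F) ≠ 0 := by
    intro h
    have := congrFun h star
    simp at this
  apply rank_one_mem_orbS star b (s • Pi.single star (1 : F)) (smul_ne_zero hs he)
  rw [Y0_val, Matrix.smul_vecMulVec, Matrix.vecMulVec_smul, smul_smul, smul_smul]
  congr 1
  ring

theorem sq_of_Y0_mem_orbS (star : Fin n) (a b : F) (h : Y0 star a ∈ orbS (Y0 star b)) :
    ∃ s : F, a = b * s ^ 2 := by
  obtain ⟨g, hg⟩ := h
  refine ⟨g.1 star star, ?_⟩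
  have h1 := congrFun (congrFun hg star) star
  rw [Y0_val, Y0_val, Matrix.smul_apply, Matrix.vecMulVec_apply, Pi.single_eq_same, Matrix.mul_smul,
    Matrix.smul_mul, Matrix.smul_apply, Matrix.mul_vecMulVec, Matrix.vecMulVec_mul, Matrix.vecMulVec_apply,
    Matrix.mulVec_single_one, Matrix.single_one_vecMul] at h1
  simp only [smul_eq_mul, mul_one, Matrix.col_apply, Matrix.row_apply, Matrix.transpose_apply] at h1
  rw [h1]
  ring

theorem ringChar_ne_two (h2 : (2 : F) ≠ 0) : ringChar F ≠ 2 := by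
  intro h
  apply h2
  have h1 := ringChar.Nat.cast_ringChar (R := F)
  rw [h] at h1
  exact_mod_cast h1

/-- the product of two non-squares of a finite field of odd order is a square -/
theorem isSquare_mul_of_not (h2 : (2 : F) ≠ 0) {x y : F} (hx : ¬ IsSquare x) (hy : ¬ IsSquare y) :
    IsSquare (x * y) := by
  classical
  have hc := ringChar_ne_two h2
  have h1 := (quadraticChar_neg_one_iff_not_isSquare (F := F) (a := x)).2 hx
  have h3 := (quadraticChar_neg_one_iff_not_isSquare (F := F) (a := y)).2 hy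
  have hxy : x * y ≠ 0 := by
    apply mul_ne_zero
    · rintro rfl; exact hx ⟨0, by simp⟩
    · rintro rfl; exact hy ⟨0, by simp⟩
  rw [← quadraticChar_one_iff_isSquare hxy, map_mul, h1, h3]
  norm_num

/-! ## the twist by the diagonal automorphism -/

variable [Fintype (Symm n F)]
  {V : Type*} [AddCommGroup V] [Module ℂ V] [FiniteDimensional ℂ V]
  (χ : AddChar F ℂ) (Φ : Symm n F ≃ AddChar (Symm n F) ℂ)
  (hΦ : ∀ Y X : Symm n F, Φ Y X =
    χ (Matrix.trace ((X : Matrix (Fin n) (Fin n) F) * (Y : Matrix (Fin n) (Fin n) F))))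
  (ρ : Matrix.symplecticGroup (Fin n) F →* Module.End ℂ V)

/-- `ρ ∘ τ_δ` -/
noncomputable def twist (δ : Fˣ) : Matrix.symplecticGroup (Fin n) F →* Module.End ℂ V :=
  ρ.comp (spTau n δ).toMonoidHom

theorem twist_apply (δ : Fˣ) (g : Matrix.symplecticGroup (Fin n) F) :
    twist ρ δ g = ρ (spTau n δ g) := rfl

theorem twist_tEl (δ : Fˣ) (X : Symm n F) :
    twist ρ δ (tEl X) = ρ (tEl (smulSymm ((δ⁻¹ : Fˣ) : F) X)) := by
  rw [twist_apply, spTau_tEl]

theorem twist_lEl (δ : Fˣ) (g : GL (Fin n) F) : twist ρ δ (lEl g) = ρ (lEl g) := by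
  rw [twist_apply, spTau_lEl]

theorem smulSymm_smulSymm (a b : F) (X : Symm n F) : smulSymm a (smulSymm b X) = smulSymm (a * b) X := by
  apply Subtype.ext
  rw [smulSymm_val, smulSymm_val, smulSymm_val, smul_smul]

theorem smulSymm_one (X : Symm n F) : smulSymm (1 : F) X = X := by
  apply Subtype.ext
  rw [smulSymm_val, one_smul]

include hΦ in
theorem Phi_smulSymm (a : F) (Y X : Symm n F) : Φ Y (smulSymm a X) = Φ (smulSymm a Y) X := by
  rw [hΦ, hΦ, smulSymm_val, smulSymm_val, Matrix.smul_mul, Matrix.mul_smul]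

include hΦ in
theorem range_PY_twist (δ : Fˣ) (Y : Symm n F) :
    LinearMap.range (PY Φ (twist ρ δ) Y) = LinearMap.range (PY Φ ρ (smulSymm (δ : F) Y)) := by
  ext v
  rw [mem_range_PY_iff, mem_range_PY_iff]
  constructor
  · intro h X
    have h1 := h (smulSymm (δ : F) X)
    rw [twist_tEl, smulSymm_smulSymm, Phi_smulSymm χ Φ hΦ] at h1
    have h3 : ((δ⁻¹ : Fˣ) : F) * (δ : F) = 1 := by
      rw [← Units.val_mul, inv_mul_cancel, Units.val_one]
    rw [h3, smulSymm_one] at h1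
    exact h1
  · intro h X
    have h1 := h (smulSymm ((δ⁻¹ : Fˣ) : F) X)
    rw [twist_tEl, h1, ← Phi_smulSymm χ Φ hΦ, smulSymm_smulSymm]
    have h3 : (δ : F) * ((δ⁻¹ : Fˣ) : F) = 1 := by
      rw [← Units.val_mul, mul_inv_cancel, Units.val_one]
    rw [h3, smulSymm_one]

include hΦ in
theorem PY_twist_ne_zero_iff (δ : Fˣ) (Y : Symm n F) :
    PY Φ (twist ρ δ) Y ≠ 0 ↔ PY Φ ρ (smulSymm (δ : F) Y) ≠ 0 := by
  have h1 : PY Φ (twist ρ δ) Y = 0 ↔ LinearMap.range (PY Φ (twist ρ δ) Y) = ⊥ := LinearMap.range_eq_bot.symm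
  have h3 : PY Φ ρ (smulSymm (δ : F) Y) = 0 ↔ LinearMap.range (PY Φ ρ (smulSymm (δ : F) Y)) = ⊥ :=
    LinearMap.range_eq_bot.symm
  rw [Ne, Ne, h1, h3, range_PY_twist χ Φ hΦ]

theorem twist_irr (δ : Fˣ)
    (h : ∀ U : Submodule ℂ V, (∀ g, ∀ w ∈ U, ρ g w ∈ U) → U = ⊥ ∨ U = ⊤) :
    ∀ U : Submodule ℂ V, (∀ g, ∀ w ∈ U, twist ρ δ g w ∈ U) → U = ⊥ ∨ U = ⊤ := by
  intro U hU
  apply h U
  intro g w hw
  have h1 := hU ((spTau n δ).symm g) w hw
  rwa [twist_apply, MulEquiv.apply_symm_apply] at h1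

theorem twist_nontrivial (δ : Fˣ) (h : ∃ g, ρ g ≠ 1) : ∃ g, twist ρ δ g ≠ 1 := by
  obtain ⟨g, hg⟩ := h
  refine ⟨(spTau n δ).symm g, ?_⟩
  rwa [twist_apply, MulEquiv.apply_symm_apply]

theorem smulSymm_Y0 (star : Fin n) (d a : F) : smulSymm d (Y0 star a) = Y0 star (d * a) := by
  apply Subtype.ext
  rw [smulSymm_val, Y0_val, Y0_val, smul_smul]

include hΦ in
/-- every `a E_**` lies in the support of `ρ` or of its twist -/
theorem supp_dichotomy (h2 : (2 : F) ≠ 0) (star : Fin n) (δ : Fˣ) (hδ : ¬ IsSquare (δ : F))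
    (b : F) (hb : b ≠ 0) (hsupp : PY Φ ρ (Y0 star b) ≠ 0) (a : F) (ha : a ≠ 0) :
    PY Φ ρ (Y0 star a) ≠ 0 ∨ PY Φ (twist ρ δ) (Y0 star a) ≠ 0 := by
  by_cases hsq : IsSquare (a / b)
  · left
    obtain ⟨s, hs⟩ := hsq
    have hs0 : s ≠ 0 := by
      rintro rfl
      rw [mul_zero] at hs
      exact (div_ne_zero ha hb) hs
    have h1 : a = b * s ^ 2 := by
      field_simp at hs
      rw [hs]
    rw [h1]
    exact PY_ne_zero_of_mem_orbS χ Φ hΦ ρ (Y0_mem_orbS_of_sq star b s hs0) hsupp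
  · right
    rw [PY_twist_ne_zero_iff χ Φ hΦ, smulSymm_Y0]
    obtain ⟨s, hs⟩ := isSquare_mul_of_not h2 hδ hsq
    have hs0 : s ≠ 0 := by
      rintro rfl
      rw [mul_zero] at hs
      exact (mul_ne_zero δ.ne_zero (div_ne_zero ha hb)) hs
    have h1 : (δ : F) * a = b * s ^ 2 := by
      field_simp at hs
      rw [hs]
    rw [h1]
    exact PY_ne_zero_of_mem_orbS χ Φ hΦ ρ (Y0_mem_orbS_of_sq star b s hs0) hsupp

/-! ## `m1`-eigenvectors in the `Y0`-eigenspace -/

theorem rho_m1_sq (star : Fin n) : ρ (lEl (m1g star)) * ρ (lEl (m1g star)) = 1 := by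
  rw [← map_mul, ← lEl_mul, m1g_mul_self, lEl_one, map_one]

include hΦ in
theorem rho_m1_comm (star : Fin n) (a : F) :
    ρ (lEl (m1g star)) * PY Φ ρ (Y0 star a) = PY Φ ρ (Y0 star a) * ρ (lEl (m1g star)) := by
  have h := PY_cact χ Φ hΦ ρ (m1g star) (Y0 star a)
  rw [cact_m1g_Y0, m1g_inv] at h
  calc ρ (lEl (m1g star)) * PY Φ ρ (Y0 star a)
      = ρ (lEl (m1g star)) * (ρ (lEl (m1g star)) * PY Φ ρ (Y0 star a) * ρ (lEl (m1g star))) := by rw [← h]
    _ = (ρ (lEl (m1g star)) * ρ (lEl (m1g star))) * PY Φ ρ (Y0 star a) * ρ (lEl (m1g star)) := by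
        simp only [mul_assoc]
    _ = PY Φ ρ (Y0 star a) * ρ (lEl (m1g star)) := by rw [rho_m1_sq, one_mul]

include hΦ in
/-- an `m1`-eigenvector (eigenvalue `±1`) in a non-zero `Y0`-eigenspace -/
theorem exists_eigvec (star : Fin n) (a : F) (hne : PY Φ ρ (Y0 star a) ≠ 0) :
    ∃ v : V, v ≠ 0 ∧ (∀ X, ρ (tEl X) v = Φ (Y0 star a) X • v) ∧
      ∃ η : ℂ, (η = 1 ∨ η = -1) ∧ ρ (lEl (m1g star)) v = η • v := by
  have hr : LinearMap.range (PY Φ ρ (Y0 star a)) ≠ ⊥ := fun h => hne (LinearMap.range_eq_bot.1 h)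
  obtain ⟨u, hu, hu0⟩ := Submodule.exists_mem_ne_zero_of_ne_bot hr
  set E := ρ (lEl (m1g star)) with hE
  have hEE : ∀ x : V, E (E x) = x := by
    intro x
    have := LinearMap.congr_fun (rho_m1_sq ρ star) x
    exact this
  have hEu : E u ∈ LinearMap.range (PY Φ ρ (Y0 star a)) := by
    obtain ⟨x, rfl⟩ := hu
    refine ⟨E x, ?_⟩
    have := LinearMap.congr_fun (rho_m1_comm χ Φ hΦ ρ star a) x
    exact this.symm
  by_cases h0 : u + E u = 0
  · refine ⟨u, hu0, (mem_range_PY_iff Φ ρ _ u).1 hu, -1, Or.inr rfl, ?_⟩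
    rw [neg_one_smul]
    exact (eq_neg_of_add_eq_zero_right h0)
  · refine ⟨u + E u, h0, (mem_range_PY_iff Φ ρ _ _).1 (Submodule.add_mem _ hu hEu), 1, Or.inl rfl, ?_⟩
    rw [one_smul, map_add, hEE, add_comm]

/-! ## intertwiners between irreducible modules -/

section Schur

variable {G : Type*} [Group G] {W : Type*} [AddCommGroup W] [Module ℂ W] [FiniteDimensional ℂ W]
  (ρW : G →* Module.End ℂ W) (ρV : G →* Module.End ℂ V)

theorem bijective_of_irr
    (hW : ∀ U : Submodule ℂ W, (∀ g, ∀ w ∈ U, ρW g w ∈ U) → U = ⊥ ∨ U = ⊤)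
    (hV : ∀ U : Submodule ℂ V, (∀ g, ∀ w ∈ U, ρV g w ∈ U) → U = ⊥ ∨ U = ⊤)
    (Θ : W →ₗ[ℂ] V) (hΘ0 : Θ ≠ 0) (hΘ : ∀ g, Θ ∘ₗ ρW g = ρV g ∘ₗ Θ) : Function.Bijective Θ := by
  have hΘ' : ∀ g w, Θ (ρW g w) = ρV g (Θ w) := fun g w => LinearMap.congr_fun (hΘ g) w
  constructor
  · rw [← LinearMap.ker_eq_bot]
    rcases hW (LinearMap.ker Θ) (fun g w hw => by
      rw [LinearMap.mem_ker] at hw ⊢
      rw [hΘ', hw, map_zero]) with h | h
    · exact h
    · exfalso
      apply hΘ0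
      exact LinearMap.ker_eq_top.1 h
  · rw [← LinearMap.range_eq_top]
    rcases hV (LinearMap.range Θ) (fun g v hv => by
      obtain ⟨w, rfl⟩ := hv
      exact ⟨ρW g w, hΘ' g w⟩) with h | h
    · exfalso
      apply hΘ0
      exact LinearMap.range_eq_bot.1 h
    · exact h

theorem trace_eq_of_bijective (Θ : W →ₗ[ℂ] V) (hb : Function.Bijective Θ)
    (hΘ : ∀ g, Θ ∘ₗ ρW g = ρV g ∘ₗ Θ) (g : G) :
    LinearMap.trace ℂ V (ρV g) = LinearMap.trace ℂ W (ρW g) := by
  let e : W ≃ₗ[ℂ] V := LinearEquiv.ofBijective Θ hb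
  have h1 : ρV g = e.conj (ρW g) := by
    apply LinearMap.ext
    intro v
    rw [LinearEquiv.conj_apply]
    show ρV g v = e (ρW g (e.symm v))
    have h2 : e (ρW g (e.symm v)) = ρV g (e (e.symm v)) := LinearMap.congr_fun (hΘ g) (e.symm v)
    rw [h2, LinearEquiv.apply_symm_apply]
  rw [h1, LinearMap.trace_conj']

theorem finrank_eq_of_bijective (Θ : W →ₗ[ℂ] V) (hb : Function.Bijective Θ) :
    finrank ℂ W = finrank ℂ V :=
  LinearEquiv.finrank_eq (LinearEquiv.ofBijective Θ hb)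

theorem no_fixed_of_irr
    (hV : ∀ U : Submodule ℂ V, (∀ g, ∀ w ∈ U, ρV g w ∈ U) → U = ⊥ ∨ U = ⊤)
    (hnt : ∃ g, ρV g ≠ 1) : ∀ v : V, (∀ g, ρV g v = v) → v = 0 := by
  intro v hv
  let U : Submodule ℂ V :=
    { carrier := {x | ∀ g, ρV g x = x}
      add_mem' := fun {x y} hx hy g => by rw [map_add, hx g, hy g]
      zero_mem' := fun g => map_zero _
      smul_mem' := fun c x hx g => by rw [map_smul, hx g] }
  have hU : ∀ g, ∀ w ∈ U, ρV g w ∈ U := by
    intro g w hw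
    have : ρV g w = w := hw g
    rw [this]
    exact hw
  rcases hV U hU with h | h
  · have h1 : v ∈ U := hv
    rw [h] at h1
    exact (Submodule.mem_bot ℂ).1 h1
  · exfalso
    obtain ⟨g, hg⟩ := hnt
    apply hg
    apply LinearMap.ext
    intro x
    have h1 : x ∈ U := by rw [h]; trivial
    exact h1 g

end Schur

/-! ## characters and supports -/

/-- the multiplicity of `ψ_Y` is determined by the character -/
theorem finrank_PY_eq_of_trace_eq {W : Type*} [AddCommGroup W] [Module ℂ W] [FiniteDimensional ℂ W]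
    (ρW : Matrix.symplecticGroup (Fin n) F →* Module.End ℂ W)
    (h : ∀ g, LinearMap.trace ℂ V (ρ g) = LinearMap.trace ℂ W (ρW g)) (Y : Symm n F) :
    finrank ℂ (LinearMap.range (PY Φ ρ Y)) = finrank ℂ (LinearMap.range (PY Φ ρW Y)) := by
  have h1 := RepChar.trace_proj_eq_finrank ρ tEl tEl_add (Φ Y)
  have h3 := RepChar.trace_proj_eq_finrank ρW tEl tEl_add (Φ Y)
  have h4 : LinearMap.trace ℂ V (RepChar.proj ρ tEl (Φ Y)) = LinearMap.trace ℂ W (RepChar.proj ρW tEl (Φ Y)) := by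
    unfold RepChar.proj
    rw [map_smul, map_smul, map_sum, map_sum]
    congr 1
    refine Finset.sum_congr rfl fun X _ => ?_
    rw [map_smul, map_smul, h]
  have h5 : (finrank ℂ (LinearMap.range (PY Φ ρ Y)) : ℂ) = (finrank ℂ (LinearMap.range (PY Φ ρW Y)) : ℂ) := by
    rw [← h1, ← h3]; exact h4
  exact Nat.cast_injective h5

include hΦ in
/-- a module with `2 dim ≤ q^n + 1` and its twist by a non-square have different characters -/
theorem trace_twist_ne (h2 : (2 : F) ≠ 0) (hn : 2 ≤ n) (star : Fin n) (δ : Fˣ) (hδ : ¬ IsSquare (δ : F))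
    (hρ : ∃ g, ρ g ≠ 1) (hdim : 2 * finrank ℂ V ≤ Fintype.card F ^ n + 1) :
    ¬ ∀ g, LinearMap.trace ℂ V (ρ g) = LinearMap.trace ℂ V (twist ρ δ g) := by
  intro h
  obtain ⟨-, -, hw3, b, hb, hsupp⟩ := dim_package χ Φ hΦ ρ h2 hn hρ hdim star
  have h1 := finrank_PY_eq_of_trace_eq Φ ρ (twist ρ δ) h (Y0 star b)
  have h3 : PY Φ (twist ρ δ) (Y0 star b) ≠ 0 := by
    rw [PY_ne_zero_iff, ← h1, ← PY_ne_zero_iff]
    exact hsupp
  rw [PY_twist_ne_zero_iff χ Φ hΦ, smulSymm_Y0] at h3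
  have h4 := hw3 (Y0 star b) (Y0 star (δ * b)) (Y0_ne_zero star hb)
    (Y0_ne_zero star (mul_ne_zero δ.ne_zero hb)) hsupp h3
  obtain ⟨s, hs⟩ := sq_of_Y0_mem_orbS star _ _ h4
  apply hδ
  refine ⟨s, ?_⟩
  have h5 : (δ : F) * b = s * s * b := by rw [hs]; ring
  exact mul_right_cancel₀ hb h5

end Cfsg.Agent.Lib.H8.TZ
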