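/-
S2524 route U (architect helper19), piece (C2) `hnormal` of helper20's `UGlue.kv`: a normal subgroup of `Sp_2(m+1)(F)` (`m ≥ 1`, `q` odd)
containing the Heisenberg group `Hs m F` is everything.  Also the conversion lemmas between helper8's `Y0`, `m1g` and helper11's
`symE`, `m1`.
-/
import Cfsg.Agent.Lib.H8.TZClass
import Cfsg.Agent.Lib.H11.S2524G0
import Cfsg.Agent.Lib.H2.SpSimple

set_option autoImplicit false
set_option linter.unusedSectionVars false

namespace Cfsg.Agent.Lib.H8.TZ

open Matrix Cfsg.Agent.Lib.H12.LS2 Cfsg.Agent.Lib.H5.LS2 Cfsg.Agent.Lib.H11.SpU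

variable {F : Type*} [Field F] [Fintype F] {m : ℕ}

theorem m1g_last_eq : (m1g (Fin.last m) : GL (Fin (m + 1)) F) = glT1 (m := m) (-1) := by
  apply Units.ext
  rw [m1g_val, glT1_val]
  ext i j
  refine Fin.lastCases ?_ (fun i' => ?_) i <;> refine Fin.lastCases ?_ (fun j' => ?_) j <;>
    simp [Matrix.diagonal_apply, Matrix.one_apply, Fin.castSucc_ne_last, (Fin.castSucc_ne_last _).symm]

theorem lEl_m1g_last_eq :
    (lEl (m1g (Fin.last m)) : Matrix.symplecticGroup (Fin (m + 1)) F) = m1 m F := by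
  rw [m1g_last_eq]; rfl

theorem Y0_last_eq (a : F) : Y0 (Fin.last m) a = symE (Fin.last m) a := by
  apply Subtype.ext
  rw [Y0_val_single, symE_val]
  ext i j
  simp [Matrix.single_apply]

/-- **(C2)** a normal subgroup containing the Heisenberg group `Hs` is everything -/
theorem eq_top_of_normal_of_Hs_le (h2 : (2 : F) ≠ 0) (hm : 1 ≤ m)
    (N : Subgroup (Matrix.symplecticGroup (Fin (m + 1)) F)) (hN : N.Normal) (hH : Hs m F ≤ N) : N = ⊤ := by
  have hq3 := Cfsg.Agent.Lib.H20.Weil.three_le_card h2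
  have hperf : commutator (Matrix.symplecticGroup (Fin (m + 1)) F) = ⊤ := by
    apply Cfsg.Agent.Lib.H2.Sp.perfect
    by_cases h3 : 3 ≤ m + 1
    · exact Or.inl h3
    · exact Or.inr (Or.inl ⟨by omega, hq3⟩)
  rcases Cfsg.Agent.Lib.H2.Sp.normal_dichotomy (by omega) hperf N with hk | hk
  · exfalso
    have h1 : (tEl (symE (Fin.last m) (1 : F)) : Matrix.symplecticGroup (Fin (m + 1)) F) ∈ N := by
      apply hH
      apply As_le_Hs
      apply U1_le_As
      exact mem_U1.2 ⟨1, rfl⟩
    have h4 := hk h1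
    have hcen := Cfsg.Agent.Lib.H2.Sp.center_eq (F := F) (m + 1) (by omega)
    rw [← SetLike.mem_coe, hcen] at h4
    have h5 := congrArg Subtype.val (show (tEl (symE (Fin.last m) (1 : F)) :
      Matrix.symplecticGroup (Fin (m + 1)) F) = tEl (symE (Fin.last m) (1 : F)) from rfl)
    rcases h4 with h4 | h4
    · have h6 := congrArg Subtype.val h4
      rw [tEl_val] at h6
      have h7 := congrFun (congrFun h6 (Sum.inl (Fin.last m))) (Sum.inr (Fin.last m))
      simp [Matrix.fromBlocks_apply₁₂] at h7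
    · rw [Set.mem_singleton_iff] at h4
      have h6 := congrArg Subtype.val h4
      rw [tEl_val] at h6
      have h7 := congrFun (congrFun h6 (Sum.inl (Fin.last m))) (Sum.inl (Fin.last m))
      simp [Cfsg.Agent.Lib.H2.Sp.negOne] at h7
      apply h2
      have h8 : (1 : F) + 1 = 0 := by
        nth_rewrite 1 [h7]
        exact neg_add_cancel 1
      rw [← h8]; norm_num
  · exact hk

end Cfsg.Agent.Lib.H8.TZ
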