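import Mathlib

/-!
# S4025 piece LC: the number of subgroups of order `p²` of an elementary abelian group of order `p^n`
(helper8, for architect helper19)
-/

set_option autoImplicit false

namespace Cfsg.Agent.Lib.H8.EOC

open Module

/-- The number of planes of a finite vector space, by double counting linearly independent pairs. -/
theorem card_planes {K V : Type*} [Field K] [Fintype K] [AddCommGroup V] [Module K V] [Finite V]
    (h2 : 2 ≤ Module.finrank K V) :
    Nat.card {W : Submodule K V // Module.finrank K W = 2} *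
        ((Fintype.card K ^ 2 - 1) * (Fintype.card K ^ 2 - Fintype.card K)) =
      (Fintype.card K ^ Module.finrank K V - 1) *
        (Fintype.card K ^ Module.finrank K V - Fintype.card K) := by
  classical
  haveI : Fintype V := Fintype.ofFinite V
  haveI : Finite (Submodule K V) :=
    Finite.of_injective (fun W : Submodule K V => (W : Set V)) SetLike.coe_injective
  haveI : Fintype {W : Submodule K V // Module.finrank K W = 2} := Fintype.ofFinite _
  have hV := card_linearIndependent (K := K) (V := V) (k := 2) h2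
  rw [Fin.prod_univ_two] at hV
  simp only [Fin.val_zero, pow_zero, Fin.val_one, pow_one] at hV
  -- the span map
  let f : {s : Fin 2 → V // LinearIndependent K s} → {W : Submodule K V // Module.finrank K W = 2} :=
    fun s => ⟨Submodule.span K (Set.range s.1), by rw [finrank_span_eq_card s.2]; simp⟩
  have hsig := Nat.card_congr (Equiv.sigmaFiberEquiv f)
  rw [Nat.card_sigma] at hsig
  -- each fibre
  have hfib : ∀ W : {W : Submodule K V // Module.finrank K W = 2},
      Nat.card {s : {s : Fin 2 → V // LinearIndependent K s} // f s = W} =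
        (Fintype.card K ^ 2 - 1) * (Fintype.card K ^ 2 - Fintype.card K) := by
    intro W
    have hW := card_linearIndependent (K := K) (V := W.1) (k := 2) (by rw [W.2])
    rw [Fin.prod_univ_two, W.2] at hW
    simp only [Fin.val_zero, pow_zero, Fin.val_one, pow_one] at hW
    rw [← hW]
    apply Nat.card_congr
    refine
      { toFun := fun s => ⟨fun i => ⟨s.1.1 i, ?_⟩, ?_⟩
        invFun := fun t => ⟨⟨fun i => (t.1 i : V), ?_⟩, ?_⟩
        left_inv := ?_
        right_inv := ?_ }
    · have h1 : Submodule.span K (Set.range s.1.1) = W.1 := congrArg Subtype.val s.2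
      rw [← h1]
      exact Submodule.subset_span ⟨i, rfl⟩
    · apply LinearIndependent.of_comp W.1.subtype
      exact s.1.2
    · exact t.2.map' W.1.subtype (Submodule.ker_subtype _)
    · apply Subtype.ext
      show Submodule.span K (Set.range fun i => (t.1 i : V)) = W.1
      have h1 : Submodule.span K (Set.range t.1) = ⊤ := by
        apply LinearIndependent.span_eq_top_of_card_eq_finrank' t.2
        rw [W.2]; simp
      have h2 : (Set.range fun i => (t.1 i : V)) = W.1.subtype '' Set.range t.1 := by
        ext x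
        simp
      rw [h2, ← Submodule.map_span, h1, Submodule.map_subtype_top]
    · intro s
      rfl
    · intro t
      rfl
  rw [← hV, ← hsig]
  simp only [hfib, Finset.sum_const, Finset.card_univ, smul_eq_mul, Nat.card_eq_fintype_card]

/-- LC for a `ZMod p`-module. -/
theorem lc_add_aux {V : Type*} [AddCommGroup V] [Finite V] {p : ℕ} [Fact p.Prime] [Module (ZMod p) V]
    (n : ℕ) (hn : 2 ≤ n) (hcard : Nat.card V = p ^ n) :
    Nat.card {H : AddSubgroup V // Nat.card H = p ^ 2} * ((p ^ 2 - 1) * (p ^ 2 - p)) =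
      (p ^ n - 1) * (p ^ n - p) := by
  classical
  have hp : p.Prime := Fact.out
  have hp2 : 2 ≤ p := hp.two_le
  haveI : Fintype V := Fintype.ofFinite V
  have hq : Fintype.card (ZMod p) = p := ZMod.card p
  have hfin : Module.finrank (ZMod p) V = n := by
    have h1 := Module.card_eq_pow_finrank (K := ZMod p) (V := V)
    rw [hq, ← Nat.card_eq_fintype_card, hcard] at h1
    exact (Nat.pow_right_injective hp2 h1).symm
  have key := card_planes (K := ZMod p) (V := V) (by rw [hfin]; omega)
  rw [hq, hfin] at key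
  rw [← key]
  congr 1
  apply Nat.card_congr
  refine Equiv.subtypeEquiv (AddSubgroup.toZModSubmodule p).toEquiv ?_
  intro H
  have hc : Nat.card ↥(AddSubgroup.toZModSubmodule p H) = Nat.card ↥H := rfl
  have h1 : Nat.card ↥(AddSubgroup.toZModSubmodule p H) =
      p ^ Module.finrank (ZMod p) ↥(AddSubgroup.toZModSubmodule p H) := by
    haveI : Fintype ↥(AddSubgroup.toZModSubmodule p H) := Fintype.ofFinite _
    rw [Nat.card_eq_fintype_card, Module.card_eq_pow_finrank (K := ZMod p), hq]
  show Nat.card ↥H = p ^ 2 ↔ Module.finrank (ZMod p) ↥(AddSubgroup.toZModSubmodule p H) = 2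
  rw [← hc, h1]
  constructor
  · intro h; exact Nat.pow_right_injective hp2 h
  · intro h; rw [h]

/-- **LC** (count of the subgroups of order `p²`), additive form. -/
theorem lc_add {V : Type*} [AddCommGroup V] [Finite V] {p : ℕ} [Fact p.Prime] (n : ℕ)
    (hcard : Nat.card V = p ^ n) (hexp : ∀ v : V, p • v = 0) :
    Nat.card {H : AddSubgroup V // Nat.card H = p ^ 2} * ((p ^ 2 - 1) * (p ^ 2 - p)) =
      (p ^ n - 1) * (p ^ n - p) := by
  classical
  have hp : p.Prime := Fact.out
  have hp2 : 2 ≤ p := hp.two_le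
  by_cases hn : n < 2
  · -- no subgroup of order `p²`
    have hempty : IsEmpty {H : AddSubgroup V // Nat.card H = p ^ 2} := by
      constructor
      rintro ⟨H, hH⟩
      have h1 : Nat.card H ≤ Nat.card V := Nat.card_le_card_of_injective _ Subtype.val_injective
      rw [hH, hcard] at h1
      have h2 : p ^ n < p ^ 2 := Nat.pow_lt_pow_right hp2 hn
      omega
    rw [Nat.card_eq_zero.2 (Or.inl hempty), zero_mul]
    interval_cases n
    · simp
    · simp
  · exact @lc_add_aux V _ _ p _ (AddCommGroup.zmodModule hexp) n (by omega) hcard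

/-- LC, multiplicative form for a commutative group. -/
theorem lc_mul {Q : Type*} [CommGroup Q] [Finite Q] {p : ℕ} [Fact p.Prime] (n : ℕ)
    (hcard : Nat.card Q = p ^ n) (hexp : ∀ a : Q, a ^ p = 1) :
    Nat.card {H : Subgroup Q // Nat.card H = p ^ 2} * ((p ^ 2 - 1) * (p ^ 2 - p)) =
      (p ^ n - 1) * (p ^ n - p) := by
  have h1 := lc_add (V := Additive Q) (p := p) n (by rw [← hcard]; rfl) (by
    intro v
    have := hexp (Additive.toMul v)
    exact congrArg Additive.ofMul this)
  rw [← h1]
  congr 1
  apply Nat.card_congr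
  refine Equiv.subtypeEquiv (Subgroup.toAddSubgroup (G := Q)).toEquiv ?_
  intro H
  have hc : Nat.card ↥(Subgroup.toAddSubgroup H) = Nat.card ↥H := rfl
  show Nat.card ↥H = p ^ 2 ↔ Nat.card ↥(Subgroup.toAddSubgroup H) = p ^ 2
  rw [hc]

/-- **LC**, subgroup form. -/
theorem lc_sub {X : Type*} [Group X] [Finite X] {p : ℕ} [Fact p.Prime] (n : ℕ) (Q : Subgroup X)
    (hQcard : Nat.card Q = p ^ n) (hQab : ∀ a ∈ Q, ∀ b ∈ Q, a * b = b * a)
    (hQexp : ∀ a ∈ Q, a ^ p = 1) :
    Nat.card {A : Subgroup X // A ≤ Q ∧ Nat.card A = p ^ 2} * ((p ^ 2 - 1) * (p ^ 2 - p)) =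
      (p ^ n - 1) * (p ^ n - p) := by
  let inst : CommGroup ↥Q :=
    { (inferInstance : Group ↥Q) with
      mul_comm := fun a b => Subtype.ext (hQab a a.2 b b.2) }
  have h1 := @lc_mul ↥Q inst _ p _ n hQcard (fun a => Subtype.ext (hQexp a a.2))
  rw [← h1]
  congr 1
  apply Nat.card_congr
  -- `{A // A ≤ Q ∧ card A = p²} ≃ {H : Subgroup Q // card H = p²}`
  refine
    { toFun := fun A => ⟨(Subgroup.MapSubtype.orderIso Q).symm ⟨A.1, A.2.1⟩, ?_⟩
      invFun := fun H => ⟨((Subgroup.MapSubtype.orderIso Q) H.1).1, ((Subgroup.MapSubtype.orderIso Q) H.1).2, ?_⟩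
      left_inv := ?_
      right_inv := ?_ }
  · rw [Subgroup.MapSubtype.orderIso_symm_apply]
    show Nat.card ↥(A.1.subgroupOf Q) = p ^ 2
    exact (Nat.card_congr (Subgroup.subgroupOfEquivOfLe A.2.1).toEquiv).trans A.2.2
  · show Nat.card ↥(Subgroup.map Q.subtype H.1) = p ^ 2
    exact (Nat.card_congr (H.1.equivMapOfInjective Q.subtype Q.subtype_injective).toEquiv).symm.trans H.2
  · intro A
    apply Subtype.ext
    show ((Subgroup.MapSubtype.orderIso Q) ((Subgroup.MapSubtype.orderIso Q).symm ⟨A.1, A.2.1⟩)).1 = A.1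
    rw [OrderIso.apply_symm_apply]
  · intro H
    apply Subtype.ext
    show (Subgroup.MapSubtype.orderIso Q).symm ⟨((Subgroup.MapSubtype.orderIso Q) H.1).1, _⟩ = H.1
    exact (Subgroup.MapSubtype.orderIso Q).symm_apply_apply H.1

end Cfsg.Agent.Lib.H8.EOC
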