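import Mathlib
import Cfsg.Agent.Lib.H26.NGPDefs
import Cfsg.Agent.Lib.H10.PGroup

set_option autoImplicit false

/-! S1904 piece UP (architect helper26): a normal subgroup properly containing `N` contains an element
outside `N` which is central modulo `N`. -/

open Cfsg.Agent.Lib.H26.NGP

namespace Cfsg.Agent.Lib.H8.NGP

universe u

variable {X : Type u} [Group X] [Finite X]

theorem exists_upper_notMem (hX : IsPGroup 2 X) (N M : Subgroup X) (hN : N.Normal) (hM : M.Normal)
    (hNM : N ≤ M) (hne : ¬ M ≤ N) : ∃ w ∈ M, w ∈ upper N hN ∧ w ∉ N := by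
  haveI := hN
  haveI := hM
  have hPq : IsPGroup 2 (X ⧸ N) := hX.to_quotient N
  let M' : Subgroup (X ⧸ N) := M.map (QuotientGroup.mk' N)
  haveI hM'n : M'.Normal := Subgroup.Normal.map hM _ (QuotientGroup.mk'_surjective N)
  have hM'ne : M' ≠ ⊥ := by
    intro hbot
    apply hne
    intro m hm
    have : QuotientGroup.mk' N m ∈ M' := Subgroup.mem_map_of_mem _ hm
    rw [hbot, Subgroup.mem_bot, QuotientGroup.mk'_apply, QuotientGroup.eq_one_iff] at this
    exact this
  obtain ⟨xb, hxbM, hxb1, hxbZ⟩ :=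
    Cfsg.Agent.Lib.H10.exists_ne_one_mem_center_of_normal hPq M' hM'ne
  obtain ⟨w, hwM, rfl⟩ := Subgroup.mem_map.mp hxbM
  refine ⟨w, hwM, ?_, ?_⟩
  · intro g
    rw [cm_def, ← QuotientGroup.eq_one_iff]
    have hc := Subgroup.mem_center_iff.mp hxbZ (QuotientGroup.mk' N g)
    simp only [QuotientGroup.mk'_apply] at hc
    simp only [QuotientGroup.mk_mul, QuotientGroup.mk_inv]
    rw [← hc]
    simp
  · intro hw
    apply hxb1
    rw [QuotientGroup.mk'_apply, QuotientGroup.eq_one_iff]
    exact hw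

end Cfsg.Agent.Lib.H8.NGP
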