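import Mathlib
import Cfsg.Prelude.Def_Blocks
import Cfsg.Agent.Lib.H23.BlockVanish
import Cfsg.Agent.Lib.H23.BlockOsima

/-!
# S4443 piece (ORTH) (helper8)

For a `p`-subgroup `S`, a block `B` and a `p`-regular `y`:
`∑_{χ ∈ B} ⟨χ|_S, 1_S⟩ conj χ(y) = |G : S| β_B(y)`  (`β_B = blockCoeff B`): expanding the
multiplicity, only `s = 1` survives by weak block orthogonality (helper23).
-/

set_option autoImplicit false

namespace Cfsg.Agent.Lib.H8.RB

open Cfsg MonoidAlgebra Cfsg.Agent.Lib.H23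
open scoped ComplexConjugate

variable {G : Type*} [Group G] [Fintype G] {p : ℕ} {M : Ideal AlgInt}

/-- Weak block orthogonality with the `p`-singular element in the first slot. -/
theorem weak_block_orthogonality' [Fintype (IrrCharacter G)] (hM : IsPModular p M)
    (χ₀ : IrrCharacter G) [DecidablePred (· ∈ blockOf M (χ₀ : G → ℂ))] (s y : G)
    (hs : p ∣ orderOf s) (hy : ¬ p ∣ orderOf y) :
    ∑ χ : IrrCharacter G, (if χ ∈ blockOf M (χ₀ : G → ℂ) then
      (χ : G → ℂ) s * conj ((χ : G → ℂ) y) else 0) = 0 := by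
  have h := weak_block_orthogonality hM χ₀ y s hy hs
  have h2 := congrArg conj h
  rw [map_zero, map_sum] at h2
  refine Eq.trans (Finset.sum_congr rfl fun χ _ => ?_) h2
  split_ifs
  · rw [map_mul, Complex.conj_conj, mul_comm]
  · rw [map_zero]

/-- (ORTH) `∑_{χ ∈ B} ⟨χ|_S, 1_S⟩ conj χ(y) = |G : S| β_B(y)` for a `p`-subgroup `S` and a
`p`-regular `y`. -/
theorem sum_mult_mul_conj [Fintype (IrrCharacter G)] (hM : IsPModular p M) (S : Subgroup G)
    [Fintype S] (hS : IsPGroup p S)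
    (χ₀ : IrrCharacter G) [DecidablePred (· ∈ blockOf M (χ₀ : G → ℂ))] (y : G)
    (hy : ¬ p ∣ orderOf y) :
    ∑ χ : IrrCharacter G, (if χ ∈ blockOf M (χ₀ : G → ℂ) then
      classInner (fun s : S => (χ : G → ℂ) s) (fun _ => (1 : ℂ)) * conj ((χ : G → ℂ) y) else 0) =
      (S.index : ℂ) * blockCoeff (blockOf M (χ₀ : G → ℂ)) y := by
  classical
  have hp : p.Prime := prime_of_isPModular hM
  haveI : Fact p.Prime := ⟨hp⟩
  have hS0 : (Nat.card S : ℂ) ≠ 0 := Nat.cast_ne_zero.2 Nat.card_pos.ne'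
  have hG0 : (Nat.card G : ℂ) ≠ 0 := Nat.cast_ne_zero.2 Nat.card_pos.ne'
  -- expand the multiplicities
  have h1 : ∀ χ : IrrCharacter G, (if χ ∈ blockOf M (χ₀ : G → ℂ) then
      classInner (fun s : S => (χ : G → ℂ) s) (fun _ => (1 : ℂ)) * conj ((χ : G → ℂ) y) else 0) =
      (Nat.card S : ℂ)⁻¹ * ∑ s : S, (if χ ∈ blockOf M (χ₀ : G → ℂ) then
        (χ : G → ℂ) s * conj ((χ : G → ℂ) y) else 0) := by
    intro χ
    split_ifs
    · unfold classInner
      rw [mul_assoc, Finset.sum_mul]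
      congr 1
      refine Finset.sum_congr rfl fun s _ => ?_
      rw [map_one, mul_one]
    · simp
  rw [Finset.sum_congr rfl fun χ _ => h1 χ, ← Finset.mul_sum, Finset.sum_comm]
  -- only `s = 1` survives
  have h2 : ∀ s : S, s ≠ 1 → ∑ χ : IrrCharacter G, (if χ ∈ blockOf M (χ₀ : G → ℂ) then
      (χ : G → ℂ) s * conj ((χ : G → ℂ) y) else 0) = 0 := by
    intro s hs1
    refine weak_block_orthogonality' hM χ₀ (s : G) y ?_ hy
    obtain ⟨k, hk⟩ := IsPGroup.iff_orderOf.1 hS s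
    have hk' : orderOf (s : G) = p ^ k := by rw [Subgroup.orderOf_coe]; exact hk
    rw [hk']
    rcases Nat.eq_zero_or_pos k with h0 | hpos
    · exfalso
      rw [h0, pow_zero] at hk
      exact hs1 (orderOf_eq_one_iff.1 hk)
    · exact dvd_pow_self p hpos.ne'
  rw [Finset.sum_eq_single (1 : S) (fun s _ hs1 => h2 s hs1)
    (fun h => absurd (Finset.mem_univ _) h)]
  rw [blockCoeff_eq_sum]
  have hidx : (S.index : ℂ) = (Nat.card G : ℂ) * (Nat.card S : ℂ)⁻¹ := by
    rw [← Subgroup.card_mul_index S]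
    push_cast
    field_simp
  rw [hidx]
  simp only [Subgroup.coe_one]
  field_simp

end Cfsg.Agent.Lib.H8.RB
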