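import Mathlib
import Cfsg.Prelude.Def_Blocks
import Cfsg.Agent.Lib.L0.BlockSeparated

/-!
# S4443 piece (PAIR) (helper8)

For `x, y : G` and a subgroup `S`: the number of pairs `(u, v)` with `u ~ x`, `v ~ y`,
`v u⁻¹ ∈ S`, times `|G : S|`, equals
`|G : C_G(x)| ∑_χ ω_χ(y) ⟨χ|_S, 1_S⟩ conj χ(x)`
(character expansion of the coefficients of `K_y K_{x⁻¹}`, lead's `coeff_classSum_mul_inv`).
-/

set_option autoImplicit false

namespace Cfsg.Agent.Lib.H8.RB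

open Cfsg MonoidAlgebra Cfsg.Agent.Lib.H23 Cfsg.Agent.Lib.H24 Cfsg.Agent.Lib.L0
  Cfsg.Agent.Lib.L0.BlockSeparated
open scoped ComplexConjugate

variable {G : Type*} [Group G] [Fintype G]

/-- The pairs `(u, v)`, `u ~ x`, `v ~ y`, `v u⁻¹ ∈ S`, correspond to the pairs `(s, h)`, `s ∈ S`,
`h ~ y`, `s⁻¹ h ~ x`. -/
def pairEquiv (x y : G) (S : Subgroup G) :
    {uv : G × G // IsConj x uv.1 ∧ IsConj y uv.2 ∧ uv.2 * uv.1⁻¹ ∈ S} ≃
      {sh : S × G // IsConj y sh.2 ∧ IsConj x ((sh.1 : G)⁻¹ * sh.2)} where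
  toFun uv := ⟨(⟨uv.1.2 * uv.1.1⁻¹, uv.2.2.2⟩, uv.1.2), uv.2.2.1, by
    have h : (uv.1.2 * uv.1.1⁻¹)⁻¹ * uv.1.2 = uv.1.1 := by group
    show IsConj x ((uv.1.2 * uv.1.1⁻¹)⁻¹ * uv.1.2)
    rw [h]
    exact uv.2.1⟩
  invFun sh := ⟨((sh.1.1 : G)⁻¹ * sh.1.2, sh.1.2), sh.2.2, sh.2.1, by
    have h : sh.1.2 * ((sh.1.1 : G)⁻¹ * sh.1.2)⁻¹ = (sh.1.1 : G) := by group
    show sh.1.2 * ((sh.1.1 : G)⁻¹ * sh.1.2)⁻¹ ∈ S
    rw [h]
    exact sh.1.1.2⟩
  left_inv uv := by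
    apply Subtype.ext
    apply Prod.ext
    · show (uv.1.2 * uv.1.1⁻¹)⁻¹ * uv.1.2 = uv.1.1
      group
    · rfl
  right_inv sh := by
    apply Subtype.ext
    apply Prod.ext
    · apply Subtype.ext
      show sh.1.2 * ((sh.1.1 : G)⁻¹ * sh.1.2)⁻¹ = (sh.1.1 : G)
      group
    · rfl

/-- The number of pairs as a sum of coefficients of `K_y K_{x⁻¹}` over `S`. -/
theorem card_pairs_eq_sum_coeff (x y : G) (S : Subgroup G) [Fintype S] :
    (Nat.card {uv : G × G // IsConj x uv.1 ∧ IsConj y uv.2 ∧ uv.2 * uv.1⁻¹ ∈ S} : ℂ) =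
      ∑ s : S, (classSum y * classSum x⁻¹).coeff (s : G) := by
  classical
  have h1 : ∀ s : S, (classSum y * classSum x⁻¹).coeff (s : G) =
      ∑ h : G, (if IsConj y h ∧ IsConj x ((s : G)⁻¹ * h) then (1 : ℂ) else 0) := by
    intro s
    rw [coeff_mul_eq_sum]
    refine Finset.sum_congr rfl fun h _ => ?_
    rw [coeff_classSum, coeff_classSum]
    have hiff : IsConj x⁻¹ (h⁻¹ * (s : G)) ↔ IsConj x ((s : G)⁻¹ * h) := by
      have h2 : h⁻¹ * (s : G) = ((s : G)⁻¹ * h)⁻¹ := by group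
      rw [h2]
      exact isConj_inv_iff
    by_cases hy : IsConj y h
    · by_cases hx : IsConj x ((s : G)⁻¹ * h)
      · rw [if_pos hy, if_pos (hiff.2 hx), if_pos ⟨hy, hx⟩, mul_one]
      · rw [if_pos hy, if_neg (fun hh => hx (hiff.1 hh)),
          if_neg (show ¬ (IsConj y h ∧ IsConj x ((s : G)⁻¹ * h)) from fun hh => hx hh.2), mul_zero]
    · rw [if_neg hy,
        if_neg (show ¬ (IsConj y h ∧ IsConj x ((s : G)⁻¹ * h)) from fun hh => hy hh.1), zero_mul]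
  rw [Finset.sum_congr rfl fun s _ => h1 s, ← Finset.sum_product', Finset.sum_boole,
    Nat.card_congr (pairEquiv x y S), Nat.card_eq_fintype_card, Fintype.card_subtype,
    Finset.univ_product_univ]

/-- (PAIR). -/
theorem card_pairs_mul_index [Fintype (IrrCharacter G)] (x y : G) (S : Subgroup G) [Fintype S] :
    (Nat.card {uv : G × G // IsConj x uv.1 ∧ IsConj y uv.2 ∧ uv.2 * uv.1⁻¹ ∈ S} : ℂ) *
        (S.index : ℂ) =
      ((Subgroup.centralizer ({x} : Set G)).index : ℂ) *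
        ∑ χ : IrrCharacter G, centralChar (χ : G → ℂ) y *
          classInner (fun s : S => (χ : G → ℂ) s) (fun _ => (1 : ℂ)) * conj ((χ : G → ℂ) x) := by
  classical
  have hS0 : (Nat.card S : ℂ) ≠ 0 := Nat.cast_ne_zero.2 Nat.card_pos.ne'
  have hG0 : (Nat.card G : ℂ) ≠ 0 := Nat.cast_ne_zero.2 Nat.card_pos.ne'
  have hidx : (S.index : ℂ) = (Nat.card G : ℂ) * (Nat.card S : ℂ)⁻¹ := by
    rw [← Subgroup.card_mul_index S]
    push_cast
    field_simp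
  -- `∑_{s ∈ S} conj χ(s) = |S| ⟨χ|_S, 1⟩`
  have hm : ∀ χ : IrrCharacter G, ∑ s : S, conj ((χ : G → ℂ) (s : G)) =
      (Nat.card S : ℂ) * classInner (fun s : S => (χ : G → ℂ) s) (fun _ => (1 : ℂ)) := by
    intro χ
    unfold classInner
    rw [← mul_assoc, mul_inv_cancel₀ hS0, one_mul]
    rw [← Equiv.sum_comp (Equiv.inv S)]
    refine Finset.sum_congr rfl fun s _ => ?_
    rw [map_one, mul_one]
    show conj ((χ : G → ℂ) ((s⁻¹ : S) : G)) = (χ : G → ℂ) (s : G)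
    rw [Subgroup.coe_inv, irr_inv, Complex.conj_conj]
  have h3 : ∀ s : S, (classSum y * classSum x⁻¹).coeff (s : G) = (Nat.card G : ℂ)⁻¹ *
      ∑ χ : IrrCharacter G, centralChar (χ : G → ℂ) y *
        (((Subgroup.centralizer ({x} : Set G)).index : ℂ) * conj ((χ : G → ℂ) x)) *
        conj ((χ : G → ℂ) (s : G)) := fun s => coeff_classSum_mul_inv y x (s : G)
  rw [card_pairs_eq_sum_coeff, Finset.sum_congr rfl fun s _ => h3 s,
    ← Finset.mul_sum, Finset.sum_comm]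
  have h2 : ∀ χ : IrrCharacter G, ∑ s : S, centralChar (χ : G → ℂ) y *
      (((Subgroup.centralizer ({x} : Set G)).index : ℂ) * conj ((χ : G → ℂ) x)) *
        conj ((χ : G → ℂ) (s : G)) =
      ((Subgroup.centralizer ({x} : Set G)).index : ℂ) * (Nat.card S : ℂ) *
        (centralChar (χ : G → ℂ) y *
          classInner (fun s : S => (χ : G → ℂ) s) (fun _ => (1 : ℂ)) * conj ((χ : G → ℂ) x)) := by
    intro χ
    rw [← Finset.mul_sum, hm χ]
    ring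
  rw [Finset.sum_congr rfl fun χ _ => h2 χ, ← Finset.mul_sum, hidx]
  field_simp

end Cfsg.Agent.Lib.H8.RB
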