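import Mathlib
import Cfsg.Prelude.Def_Blocks
import Cfsg.Agent.Lib.H8.RBPAIR
import Cfsg.Agent.Lib.H8.RBORTH

/-!
# S4443 pieces (PAIR) and (ORTH) in the exact signatures of `tools/blueprints/S4443_sigs.lean`
(helper8)
-/

set_option autoImplicit false

namespace Cfsg.Agent.Lib.H8.RB

open Cfsg MonoidAlgebra Cfsg.Agent.Lib.H23 Cfsg.Agent.Lib.H24
open scoped ComplexConjugate

section chars
variable {G : Type*} [Group G] [Fintype G]

/-- A multiplicity `m` given through `∑_{u ∈ S} conj χ(u) = |S| m` is `⟨χ|_S, 1_S⟩`. -/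
theorem classInner_restrict_eq_of_sum (S : Subgroup G) [Fintype S] (χ : IrrCharacter G) (m : ℂ)
    (hm : ∑ u : S, conj ((χ : G → ℂ) u) = (Nat.card S : ℂ) * m) :
    classInner (fun s : S => (χ : G → ℂ) s) (fun _ => (1 : ℂ)) = m := by
  have hS0 : (Nat.card S : ℂ) ≠ 0 := Nat.cast_ne_zero.2 Nat.card_pos.ne'
  have h1 : ∑ s : S, conj ((χ : G → ℂ) (s : G)) =
      (Nat.card S : ℂ) * classInner (fun s : S => (χ : G → ℂ) s) (fun _ => (1 : ℂ)) := by
    unfold classInner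
    rw [← mul_assoc, mul_inv_cancel₀ hS0, one_mul]
    rw [← Equiv.sum_comp (Equiv.inv S)]
    refine Finset.sum_congr rfl fun s _ => ?_
    rw [map_one, mul_one]
    show conj ((χ : G → ℂ) ((s⁻¹ : S) : G)) = (χ : G → ℂ) (s : G)
    rw [Subgroup.coe_inv, irr_inv, Complex.conj_conj]
  rw [hm] at h1
  exact (mul_left_cancel₀ hS0 h1).symm

/-- (PAIR), exact signature. -/
theorem pair_count [Fintype (IrrCharacter G)] (S : Subgroup G) [Fintype S] (m : IrrCharacter G → ℕ)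
    (hm : ∀ χ : IrrCharacter G, ∑ u : S, conj ((χ : G → ℂ) u) = (Nat.card S : ℂ) * m χ) (a b : G) :
    (Nat.card {yz : G × G // IsConj a yz.1 ∧ IsConj b yz.2 ∧ yz.2 * yz.1⁻¹ ∈ S} : ℂ) * (S.index : ℂ) =
      ((Subgroup.centralizer ({a} : Set G)).index : ℂ) *
        ∑ χ : IrrCharacter G, centralChar (χ : G → ℂ) b * (m χ : ℂ) * conj ((χ : G → ℂ) a) := by
  rw [card_pairs_mul_index a b S]
  congr 1
  refine Finset.sum_congr rfl fun χ _ => ?_
  rw [classInner_restrict_eq_of_sum S χ (m χ : ℂ) (hm χ)]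

end chars

section blocks
variable {G : Type*} [Group G] [Fintype G] {p : ℕ} [Fact p.Prime] {M : Ideal Cfsg.AlgInt}

/-- (ORTH), exact signature. -/
theorem sum_mult_conj_eq [Fintype (IrrCharacter G)] (hM : Cfsg.IsPModular p M) (S : Subgroup G)
    [Fintype S] (hS : IsPGroup p S) (m : IrrCharacter G → ℕ)
    (hm : ∀ χ : IrrCharacter G, ∑ u : S, conj ((χ : G → ℂ) u) = (Nat.card S : ℂ) * m χ)
    (χ₀ : IrrCharacter G) (y : G) (hy : ¬ p ∣ orderOf y) :
    ∑ᶠ χ ∈ blockOf M (χ₀ : G → ℂ), (m χ : ℂ) * conj ((χ : G → ℂ) y) =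
      (S.index : ℂ) * blockCoeff (blockOf M (χ₀ : G → ℂ)) y := by
  classical
  rw [finsum_mem_eq_sum_ite, ← sum_mult_mul_conj hM S hS χ₀ y hy]
  refine Finset.sum_congr rfl fun χ _ => ?_
  rw [classInner_restrict_eq_of_sum S χ (m χ : ℂ) (hm χ)]

end blocks

end Cfsg.Agent.Lib.H8.RB
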