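import Mathlib
import Cfsg.Agent.Lib.H4.ReeSpecDefs
import Cfsg.Agent.Lib.H16.PGL2SpecB
import Cfsg.Agent.Lib.H16.PGL2SpecA

/-!
# S3626 piece ORD (helper8): element orders in `Mq K ≅ 2 × L₂(q)`

Also contains self-contained copies of the pieces INV, SL2 and KER-a, which ORD uses.
-/

set_option autoImplicit false

namespace Cfsg.Agent.Lib.H8.RS

open Matrix Cfsg.Agent.Lib.H4.ReeSpec

section field

variable {K : Type*} [Field K] [CharP K 3]

omit [CharP K 3] in
theorem ord_two_ne_zero [CharP K 3] : (2 : K) ≠ 0 := by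
  intro h
  have h' : ((2 : ℕ) : K) = 0 := by exact_mod_cast h
  have := (CharP.cast_eq_zero_iff K 3 2).1 h'
  omega

/-- INV (copy): in characteristic `3` the only elements of `SL(2,K)` with square `1` are `±1`. -/
theorem ord_sl2_sq_eq_one (A : Matrix.SpecialLinearGroup (Fin 2) K) (h : A ^ 2 = 1) :
    A = 1 ∨ A = -1 := by
  have h2 : (2 : K) ≠ 0 := ord_two_ne_zero
  have hA : (A : M2 K) * (A : M2 K) = 1 := by
    have := congrArg (fun B : Matrix.SpecialLinearGroup (Fin 2) K => (B : M2 K)) h
    simpa [pow_two] using this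
  have hdet : (A : M2 K) 0 0 * (A : M2 K) 1 1 - (A : M2 K) 0 1 * (A : M2 K) 1 0 = 1 := by
    have := A.2
    rwa [Matrix.det_fin_two] at this
  have e00 := congrFun (congrFun hA 0) 0
  have e01 := congrFun (congrFun hA 0) 1
  have e10 := congrFun (congrFun hA 1) 0
  have e11 := congrFun (congrFun hA 1) 1
  simp only [Matrix.mul_apply, Fin.sum_univ_two, Matrix.one_apply_eq, Matrix.one_apply_ne,
    ne_eq, zero_ne_one, one_ne_zero, not_false_eq_true, Fin.isValue] at e00 e01 e10 e11
  set a := (A : M2 K) 0 0 with ha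
  set b := (A : M2 K) 0 1 with hb
  set c := (A : M2 K) 1 0 with hc
  set d := (A : M2 K) 1 1 with hd
  have hs : a + d ≠ 0 := by
    intro hs
    have hd' : d = -a := by linear_combination hs
    have : (2 : K) = 0 := by
      rw [hd'] at hdet
      linear_combination -e00 - hdet
    exact h2 this
  have hb0 : b = 0 := by
    have : b * (a + d) = 0 := by linear_combination e01
    rcases mul_eq_zero.1 this with h | h
    · exact h
    · exact absurd h hs
  have hc0 : c = 0 := by
    have : c * (a + d) = 0 := by linear_combination e10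
    rcases mul_eq_zero.1 this with h | h
    · exact h
    · exact absurd h hs
  have had : a * d = 1 := by rw [hb0] at hdet; linear_combination hdet
  have haa : a * a = 1 := by rw [hb0] at e00; linear_combination e00
  have hda : d = a := by
    have : a * (d - a) = 0 := by linear_combination had - haa
    rcases mul_eq_zero.1 this with h | h
    · rw [h] at haa; simp at haa
    · linear_combination h
  have ha1 : a = 1 ∨ a = -1 := by
    have : (a - 1) * (a + 1) = 0 := by linear_combination haa
    rcases mul_eq_zero.1 this with h | h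
    · left; linear_combination h
    · right; linear_combination h
  rcases ha1 with h1 | h1
  · left
    apply Matrix.SpecialLinearGroup.ext
    intro i j
    fin_cases i <;> fin_cases j
    · simpa using (ha.symm.trans h1)
    · simpa using (hb.symm.trans hb0)
    · simpa using (hc.symm.trans hc0)
    · simpa using (hd.symm.trans (hda.trans h1))
  · right
    apply Matrix.SpecialLinearGroup.ext
    intro i j
    fin_cases i <;> fin_cases j
    · simpa using (ha.symm.trans h1)
    · simpa using (hb.symm.trans hb0)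
    · simpa using (hc.symm.trans hc0)
    · simpa using (hd.symm.trans (hda.trans h1))

/-- SL2 (copy): every `A ∈ SL(2,K)`, `|K| = q`, satisfies `A³ = ±1` or `A^(q-1) = 1` or
`A^(q+1) = 1`. -/
theorem ord_sl2_cases [Fintype K] (A : Matrix.SpecialLinearGroup (Fin 2) K) :
    A ^ 3 = 1 ∨ A ^ 3 = -1 ∨ A ^ (Fintype.card K - 1) = 1 ∨ A ^ (Fintype.card K + 1) = 1 := by
  have hdet : (A : M2 K).det ≠ 0 := by rw [A.2]; exact one_ne_zero
  rcases Cfsg.Agent.Lib.H16.PGL2Spec.pow_scalar_cases 3 (A : M2 K) hdet with ⟨c, hc⟩ | h | h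
  · have hc2 : c ^ 2 = 1 := by
      have h1 : ((A : M2 K) ^ 3).det = 1 := by rw [Matrix.det_pow, A.2, one_pow]
      rw [hc, Matrix.det_smul, Matrix.det_one, mul_one, Fintype.card_fin] at h1
      exact h1
    have hc1 : c = 1 ∨ c = -1 := by
      have : (c - 1) * (c + 1) = 0 := by linear_combination hc2
      rcases mul_eq_zero.1 this with h | h
      · left; linear_combination h
      · right; linear_combination h
    rcases hc1 with h1 | h1
    · left
      apply Subtype.ext
      rw [Matrix.SpecialLinearGroup.coe_pow, hc, h1, one_smul]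
      rfl
    · right; left
      apply Subtype.ext
      rw [Matrix.SpecialLinearGroup.coe_pow, hc, h1]
      simp
  · right; right; left
    apply Subtype.ext
    rw [Matrix.SpecialLinearGroup.coe_pow, h]
    rfl
  · right; right; right
    apply Subtype.ext
    rw [Matrix.SpecialLinearGroup.coe_pow, h, A.2, one_smul]
    rfl

/-- KER-a (copy): `(1, -1)` acts trivially. -/
theorem ord_rho_neg_one : rho K ((1, -1) : G0 K) = 1 := by
  apply MulEquiv.ext
  intro X
  show Multiplicative.ofAdd (act ((1, -1) : G0 K) (Multiplicative.toAdd X)) = X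
  have : act ((1, -1) : G0 K) (Multiplicative.toAdd X) = Multiplicative.toAdd X := by
    unfold act
    have hc : cube ((-1 : Matrix.SpecialLinearGroup (Fin 2) K) : M2 K) = -1 := by
      ext i j
      rw [cube_apply]
      fin_cases i <;> fin_cases j <;> simp <;> norm_num
    simp only [hc]
    simp
  rw [this]
  rfl

theorem ord_units_pow_even (e : ℤˣ) {n : ℕ} (hn : Even n) : e ^ n = 1 := by
  obtain ⟨k, rfl⟩ := hn
  rw [← two_mul, pow_mul, Int.units_sq, one_pow]

theorem ord_arith (m : ℕ) :
    Even (3 ^ (2 * m + 1) - 1) ∧ Even ((3 ^ (2 * m + 1) + 1) / 2) ∧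
      (3 ^ (2 * m + 1) + 1) / 2 * 2 = 3 ^ (2 * m + 1) + 1 := by
  have h9 : 9 ^ m % 4 = 1 := by
    rw [Nat.pow_mod]
    norm_num
  have hq : 3 ^ (2 * m + 1) = 9 ^ m * 3 := by
    rw [pow_succ, pow_mul]
    norm_num
  rw [hq]
  refine ⟨?_, ?_, ?_⟩
  · rw [Nat.even_iff]; omega
  · rw [Nat.even_iff]; omega
  · omega

/-- **ORD**: every element of `Mq K ≅ 2 × L₂(q)` has order dividing `q - 1`, `(q + 1)/2` or `6`. -/
theorem Mq_pow_cases [Fintype K] {m : ℕ} (hK : Fintype.card K = 3 ^ (2 * m + 1)) (x : Mq K) :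
    x ^ (3 ^ (2 * m + 1) - 1) = 1 ∨ x ^ ((3 ^ (2 * m + 1) + 1) / 2) = 1 ∨ x ^ 6 = 1 := by
  obtain ⟨g, hg⟩ := x.2
  obtain ⟨ha1, ha2, ha3⟩ := ord_arith m
  have key : ∀ n : ℕ, g.1 ^ n = 1 → (g.2 ^ n = 1 ∨ g.2 ^ n = -1) → x ^ n = 1 := by
    intro n h1 h2
    apply Subtype.ext
    rw [SubgroupClass.coe_pow, ← hg, ← map_pow]
    have hgn : g ^ n = (1, g.2 ^ n) := Prod.ext (by simpa using h1) rfl
    rw [hgn]
    rcases h2 with h | h
    · rw [h]; exact map_one _
    · rw [h]; exact ord_rho_neg_one
  rcases ord_sl2_cases g.2 with h | h | h | h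
  · right; right
    refine key 6 (ord_units_pow_even _ (by decide)) (Or.inl ?_)
    rw [show 6 = 3 * 2 from rfl, pow_mul, h, one_pow]
  · right; right
    refine key 6 (ord_units_pow_even _ (by decide)) (Or.inl ?_)
    rw [show 6 = 3 * 2 from rfl, pow_mul, h]
    apply Subtype.ext
    simp
  · left
    rw [hK] at h
    exact key _ (ord_units_pow_even _ ha1) (Or.inl h)
  · right; left
    rw [hK] at h
    refine key _ (ord_units_pow_even _ ha2) ?_
    apply ord_sl2_sq_eq_one
    rw [← pow_mul, ha3, h]

end field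

end Cfsg.Agent.Lib.H8.RS
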