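import Mathlib

/-!
# S4575 piece ABS' (helper8): the arithmetic, exact sig of `tools/blueprints/S4575_sigs.lean`.
-/

set_option autoImplicit false

namespace Cfsg.Agent.Lib.H8.KX

/-- (ABS') PURE Mathlib: the arithmetic. -/
theorem card_le_two_pow_of_compl {ι : Type*} [DecidableEq ι] (K : Finset ι) (h : ι → ℕ)
    (A : ι → ℤ) (d l : ℕ) (hk : K.card ≤ l + 3)
    (hT : ∑ χ ∈ K, A χ = (l : ℤ) * 2 ^ d)
    (hpos : ∀ χ ∈ K, 0 < A χ)
    (hlt : 2 ≤ K.card → ∀ χ ∈ K, A χ < 2 ^ d)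
    (hodd : ∀ χ ∈ K, h χ = 0 → Odd (A χ))
    (hdiv : ∀ χ ∈ K, 1 ≤ h χ → (2 : ℤ) ^ (h χ + 1) ∣ A χ)
    (hJ : ∀ χ₀ ∈ K, h χ₀ = 0 → ∑ ψ ∈ K.erase χ₀, (4 : ℤ) ^ h ψ ≤ A χ₀ * (2 ^ d - A χ₀)) :
    K.card ≤ 2 ^ d := by
  by_cases hK2 : 2 ≤ K.card
  swap
  · have : K.card ≤ 1 := by omega
    exact le_trans this Nat.one_le_two_pow
  have hlt' := hlt hK2
  have hD : (0 : ℤ) < 2 ^ d := by positivity
  -- `d ≥ 1`
  have hd1 : 1 ≤ d := by
    by_contra hd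
    have hd0 : d = 0 := by omega
    obtain ⟨χ, hχ⟩ : K.Nonempty := Finset.card_pos.mp (by omega)
    have h1 := hpos χ hχ
    have h2 := hlt' χ hχ
    rw [hd0] at h2
    simp at h2
    omega
  have hDeven : (2 : ℤ) ∣ 2 ^ d := dvd_pow_self 2 (by omega)
  by_cases hex : ∃ χ₀ ∈ K, h χ₀ = 0 ∧ A χ₀ = 2 ^ d - 1
  · -- case (a)
    obtain ⟨χ₀, hχ₀, hh0, hA0⟩ := hex
    have h1 := hJ χ₀ hχ₀ hh0
    rw [hA0] at h1
    have h2 : ((K.erase χ₀).card : ℤ) ≤ ∑ ψ ∈ K.erase χ₀, (4 : ℤ) ^ h ψ := by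
      have : ∑ ψ ∈ K.erase χ₀, (1 : ℤ) ≤ ∑ ψ ∈ K.erase χ₀, (4 : ℤ) ^ h ψ :=
        Finset.sum_le_sum (fun ψ _ => one_le_pow₀ (by norm_num))
      simpa using this
    rw [Finset.card_erase_of_mem hχ₀] at h2
    have h3 : ((K.card - 1 : ℕ) : ℤ) = (K.card : ℤ) - 1 := by
      have : 1 ≤ K.card := by omega
      push_cast [Nat.cast_sub this]; ring
    rw [h3] at h2
    have h4 : (K.card : ℤ) ≤ 2 ^ d := by nlinarith
    exact_mod_cast h4
  · -- case (b): every complement is at least 3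
    have hge3 : ∀ χ ∈ K, (3 : ℤ) ≤ 2 ^ d - A χ := by
      intro χ hχ
      have hp := hpos χ hχ
      have hl := hlt' χ hχ
      rcases Nat.eq_zero_or_pos (h χ) with hh | hh
      · -- height zero: `2^d - A χ` is odd, positive, not 1
        have ho := hodd χ hχ hh
        have hne : A χ ≠ 2 ^ d - 1 := fun he => hex ⟨χ, hχ, hh, he⟩
        obtain ⟨c, hc⟩ := ho
        obtain ⟨e, he⟩ := hDeven
        omega
      · -- height ≥ 1
        have hdv := hdiv χ hχ hh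
        have hle : (2 : ℤ) ^ (h χ + 1) ≤ A χ := Int.le_of_dvd hp hdv
        have hlt2 : (2 : ℤ) ^ (h χ + 1) < 2 ^ d := lt_of_le_of_lt hle hl
        have hexp : h χ + 1 < d := by
          by_contra hcon
          have : (2 : ℤ) ^ d ≤ 2 ^ (h χ + 1) := pow_le_pow_right₀ (by norm_num) (by omega)
          omega
        have hdv2 : (2 : ℤ) ^ (h χ + 1) ∣ 2 ^ d := pow_dvd_pow 2 (by omega)
        have hdv3 : (2 : ℤ) ^ (h χ + 1) ∣ 2 ^ d - A χ := dvd_sub hdv2 hdv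
        have hpos' : (0 : ℤ) < 2 ^ d - A χ := by omega
        have h4 : (2 : ℤ) ^ (h χ + 1) ≤ 2 ^ d - A χ := Int.le_of_dvd hpos' hdv3
        have h5 : (4 : ℤ) ≤ 2 ^ (h χ + 1) := by
          have : (2 : ℤ) ^ 2 ≤ 2 ^ (h χ + 1) := pow_le_pow_right₀ (by norm_num) (by omega)
          simpa using this
        omega
    have hsum : (3 : ℤ) * K.card ≤ ∑ χ ∈ K, ((2 : ℤ) ^ d - A χ) := by
      have : ∑ χ ∈ K, (3 : ℤ) ≤ ∑ χ ∈ K, ((2 : ℤ) ^ d - A χ) := Finset.sum_le_sum hge3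
      simpa [mul_comm] using this
    rw [Finset.sum_sub_distrib, hT] at hsum
    simp only [Finset.sum_const, nsmul_eq_mul] at hsum
    have hk' : (K.card : ℤ) ≤ l + 3 := by exact_mod_cast hk
    have h4 : (K.card : ℤ) ≤ 2 ^ d := by nlinarith
    exact_mod_cast h4

end Cfsg.Agent.Lib.H8.KX
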