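import Mathlib
import Cfsg.Agent.Lib.H26.NGPDefs

set_option autoImplicit false

/-! S1904 piece ODD (architect helper26): an automorphism of odd order fixing the involutions of an
invariant abelian 2-subgroup fixes it pointwise. -/

open Cfsg.Agent.Lib.H26.NGP

namespace Cfsg.Agent.Lib.H8.NGP

universe u

variable {X : Type u} [Group X] [Finite X]

theorem odd_pow_twist (σ : MulAut X) {x c : X} (hx : σ x = x * c) (hc : σ c = c) (k : ℕ) :
    (σ ^ k) x = x * c ^ k := by
  induction k with
  | zero => simp
  | succ k ih =>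
    rw [pow_succ', MulAut.mul_apply, ih, map_mul, map_pow, hx, hc, pow_succ', mul_assoc]

theorem odd_aut_trivial (hX : IsPGroup 2 X) (a : MulAut X) (m : ℕ) (hm : Odd m) (ham : a ^ m = 1)
    (B : Subgroup X) (hab : Ab B) (hinvB : ∀ b ∈ B, a b ∈ B)
    (h1 : ∀ b ∈ B, b * b = 1 → a b = b) : ∀ b ∈ B, a b = b := by
  have key : ∀ k : ℕ, ∀ b ∈ B, b ^ 2 ^ k = 1 → a b = b := by
    intro k
    induction k with
    | zero =>
      intro b _ hb
      rw [pow_zero, pow_one] at hb
      rw [hb, map_one]
    | succ k ih =>
      intro b hb hbk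
      have hbb : a (b * b) = b * b := by
        apply ih (b * b) (B.mul_mem hb hb)
        rw [← pow_two, ← pow_mul, ← pow_succ']
        exact hbk
      have hab' : a b ∈ B := hinvB b hb
      set c : X := b⁻¹ * a b with hc
      have hcB : c ∈ B := B.mul_mem (B.inv_mem hb) hab'
      have hcomm : a b * b⁻¹ = b⁻¹ * a b := hab _ hab' _ (B.inv_mem hb)
      have hcc : c * c = 1 := by
        have h2 : c * c = b⁻¹ * b⁻¹ * (a b * a b) := by
          rw [hc]
          calc b⁻¹ * a b * (b⁻¹ * a b) = b⁻¹ * (a b * b⁻¹) * a b := by group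
            _ = b⁻¹ * (b⁻¹ * a b) * a b := by rw [hcomm]
            _ = b⁻¹ * b⁻¹ * (a b * a b) := by group
        rw [h2, ← map_mul, hbb]
        group
      have hac : a c = c := h1 c hcB hcc
      have hx : a b = b * c := by rw [hc]; group
      have h3 := odd_pow_twist a hx hac m
      rw [ham, MulAut.one_apply] at h3
      have hcm : c ^ m = 1 := by
        have := h3.symm
        rwa [mul_eq_left] at this
      obtain ⟨j, rfl⟩ := hm
      have hc1 : c = 1 := by
        rw [pow_succ, pow_mul, pow_two, hcc, one_pow, one_mul] at hcm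
        exact hcm
      rw [hx, hc1, mul_one]
  intro b hb
  obtain ⟨k, hk⟩ := hX b
  exact key k b hb hk

end Cfsg.Agent.Lib.H8.NGP
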