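import Mathlib
import Cfsg.Prelude.Def_Blocks
import Cfsg.Prelude.Def_Local
import Cfsg.Prelude.Def_Solvable
import Cfsg.Prelude.Def_Characters
import Cfsg.Agent.S4449
import Cfsg.Agent.Lib.H23.Isaacs1129b
import Cfsg.Agent.Lib.H1.CoprimeSylow
import Cfsg.Agent.Lib.H1.FrattiniArg
import Cfsg.Agent.Lib.L0.CharOps

/-!
# S4886 piece SLFIX (helper8)

Setting of (SL) with `Y ⊴ Γ`, `M ⊴ Γ`, `M ≤ Y`, and `C_Y(S)` normalizing `Q M`: then `Q` fixes every
`S`-invariant `φ ∈ Irr(M)`.  Tools: `stabFun M φ` (the stabilizer in `Γ` of a function on a normal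
subgroup), `stabFun_subgroupOf_ge_inertia`, `isSylowOf_of_isPGroup`.
-/

set_option autoImplicit false
set_option linter.unusedVariables false

universe u

namespace Cfsg.Agent.Lib.H8.PQ2

open Cfsg Cfsg.Agent.Lib.L0 Cfsg.Agent.Lib.H1 Cfsg.Agent.Lib.H23
open Pointwise

variable {Γ : Type u} [Group Γ]

/-- The stabilizer in `Γ` of a function on the normal subgroup `M`. -/
def stabFun (M : Subgroup Γ) [hM : M.Normal] (φ : M → ℂ) : Subgroup Γ where
  carrier := {x | ∀ g g' : M, (g' : Γ) = x * g * x⁻¹ → φ g' = φ g}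
  one_mem' := by
    intro g g' h
    have : g' = g := Subtype.ext (by simpa using h)
    rw [this]
  mul_mem' := by
    intro a b ha hb g g' h
    have h1 := hb g ⟨b * g * b⁻¹, hM.conj_mem g g.2 b⟩ rfl
    have h2 := ha ⟨b * g * b⁻¹, hM.conj_mem g g.2 b⟩ g' (by rw [h]; simp [mul_assoc])
    rw [h2, h1]
  inv_mem' := by
    intro a ha g g' h
    exact (ha g' g (by rw [h]; group)).symm

theorem mem_stabFun (M : Subgroup Γ) [M.Normal] (φ : M → ℂ) (x : Γ) :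
    x ∈ stabFun M φ ↔ ∀ g g' : M, (g' : Γ) = x * g * x⁻¹ → φ g' = φ g := Iff.rfl

theorem le_stabFun (M : Subgroup Γ) [M.Normal] {φ : M → ℂ} (hφ : IsClassFunction M φ) :
    M ≤ stabFun M φ := by
  intro m hm g g' h
  have : g' = (⟨m, hm⟩ : M) * g * (⟨m, hm⟩ : M)⁻¹ := Subtype.ext (by simpa using h)
  rw [this]
  exact hφ g ⟨m, hm⟩

/-- the inertia group (in `↥Y`) of `φ` transported to `M.subgroupOf Y` lies in the stabilizer -/
theorem inertia_le_stabFun_subgroupOf (Y M : Subgroup Γ) [Y.Normal] [M.Normal] (hMY : M ≤ Y)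
    (φ : M → ℂ) :
    inertia (M.subgroupOf Y) (φ ∘ (Subgroup.subgroupOfEquivOfLe hMY)) ≤
      (stabFun M φ).subgroupOf Y := by
  intro y hy
  rw [Subgroup.mem_subgroupOf, mem_stabFun]
  intro g g' h
  have hn := hy ((Subgroup.subgroupOfEquivOfLe hMY).symm g)
  simp only [Function.comp_apply, MulEquiv.apply_symm_apply] at hn
  rw [← hn]
  congr 1
  apply Subtype.ext
  rw [h]
  simp [Subgroup.subgroupOfEquivOfLe]

/-- a `q`-subgroup of `Y` of index prime to `q` is a Sylow `q`-subgroup of `Y` -/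
theorem isSylowOf_of_isPGroup [Finite Γ] (q : ℕ) [Fact q.Prime] {Y Q : Subgroup Γ} (hQY : Q ≤ Y)
    (hQ : IsPGroup q Q) (hQsyl : ¬ q ∣ Q.relIndex Y) : IsSylowOf q Y Q := by
  have hq : q.Prime := Fact.out
  refine ⟨hQY, ?_⟩
  obtain ⟨k, hk⟩ := IsPGroup.iff_card.mp hQ
  have hcard : Nat.card Y = Q.relIndex Y * Nat.card Q := by
    rw [Subgroup.relIndex, ← card_subgroupOf_of_le hQY]
    exact (Subgroup.index_mul_card _).symm
  have hne : Q.relIndex Y ≠ 0 := by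
    intro h0
    rw [h0] at hcard
    simp only [zero_mul] at hcard
    exact Nat.card_pos.ne' hcard
  rw [hk, hcard, Nat.factorization_mul hne (by rw [hk]; exact pow_ne_zero _ hq.ne_zero)]
  simp only [Finsupp.coe_add, Pi.add_apply]
  rw [Nat.factorization_eq_zero_of_not_dvd hQsyl, hk, hq.factorization_pow]
  simp

/-- SLFIX -/
theorem fixes_invariant_of_normal [Finite Γ] (p q : ℕ) [Fact p.Prime]
    [Fact q.Prime] (hpq : p ≠ q) (Y S Q M : Subgroup Γ) [Y.Normal] [M.Normal] (hMY : M ≤ Y)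
    (hS : IsPGroup p S) (hYp : (Nat.card Y).Coprime p) (hQY : Q ≤ Y) (hQ : IsPGroup q Q)
    (hQsyl : ¬ q ∣ Q.relIndex Y) (hQS : ∀ x ∈ Q, ∀ s ∈ S, x * s = s * x)
    (hdeg : ∀ θ : IrrCharacter Y,
      (∀ s ∈ S, ∀ g g' : Y, (g' : Γ) = s * g * s⁻¹ → (θ : Y → ℂ) g' = (θ : Y → ℂ) g) →
      ¬ q ∣ charDegree (θ : Y → ℂ))
    (hQM : ∀ c ∈ Y ⊓ Subgroup.centralizer (S : Set Γ), ∀ x ∈ Q, c * x * c⁻¹ ∈ Q ⊔ M)
    (φ : IrrCharacter M)
    (hφ : ∀ s ∈ S, ∀ g g' : M, (g' : Γ) = s * g * s⁻¹ → (φ : M → ℂ) g' = (φ : M → ℂ) g) :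
    ∀ x ∈ Q, ∀ g g' : M, (g' : Γ) = x * g * x⁻¹ → (φ : M → ℂ) g' = (φ : M → ℂ) g := by
  classical
  haveI : Fintype Γ := Fintype.ofFinite Γ
  haveI : Fintype Y := Fintype.ofFinite _
  haveI : Fintype M := Fintype.ofFinite _
  have hq : q.Prime := Fact.out
  have hYn : Y.Normal := inferInstance
  have hMn : M.Normal := inferInstance
  have hSsolv : Group.IsSolvable S := by
    haveI := hS.isNilpotent
    infer_instance
  obtain ⟨k, hk⟩ := IsPGroup.iff_card.mp hS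
  have hcopYS : (Nat.card Y).Coprime (Nat.card S) := by
    rw [hk]; exact Nat.Coprime.pow_right _ hYp
  -- an `S`-invariant `θ ∈ Irr(Y | φ)`
  obtain ⟨θ, hθcon, hθinv⟩ := Cfsg.Agent.S4449.result Y S M
    (fun s _ g hg => hYn.conj_mem g hg s) hMY (fun g _ n hn => hMn.conj_mem n hn g)
    (fun s _ n hn => hMn.conj_mem n hn s) hcopYS hSsolv φ hφ
  have hθq : ¬ q ∣ charDegree (θ : Y → ℂ) := hdeg θ hθinv
  -- the inertia group
  haveI : Fintype (M.subgroupOf Y) := Fintype.ofFinite _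
  have hϑ : IsIrrCharacter (M.subgroupOf Y) ((φ : M → ℂ) ∘ (Subgroup.subgroupOfEquivOfLe hMY)) :=
    isIrrCharacter_comp_of_surjective (Subgroup.subgroupOfEquivOfLe hMY).toMonoidHom
      (Subgroup.subgroupOfEquivOfLe hMY).surjective φ.2
  have hcon : classInner (fun n : M.subgroupOf Y => (θ : Y → ℂ) n)
      ((φ : M → ℂ) ∘ (Subgroup.subgroupOfEquivOfLe hMY)) ≠ 0 := by
    have h1 := classInner_comp_equiv (Subgroup.subgroupOfEquivOfLe hMY)
      (fun n : M => (θ : Y → ℂ) ⟨n, hMY n.2⟩) (φ : M → ℂ)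
    have h2 : (fun n : M => (θ : Y → ℂ) ⟨n, hMY n.2⟩) ∘ (Subgroup.subgroupOfEquivOfLe hMY) =
        (fun n : M.subgroupOf Y => (θ : Y → ℂ) n) := by
      funext n
      simp [Subgroup.subgroupOfEquivOfLe]
    rw [h2] at h1
    rw [h1]
    convert hθcon
  have hdvd := inertia_index_dvd_charDegree (M.subgroupOf Y) θ.2 hϑ hcon
  have hrel : ¬ q ∣ (stabFun M (φ : M → ℂ)).relIndex Y := by
    intro h
    apply hθq
    refine dvd_trans h (dvd_trans ?_ hdvd)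
    exact Subgroup.index_dvd_of_le (inertia_le_stabFun_subgroupOf Y M hMY φ)
  -- `I = Stab ∩ Y`
  have hSSt : S ≤ stabFun M (φ : M → ℂ) := fun s hs => hφ s hs
  have hIY : stabFun M (φ : M → ℂ) ⊓ Y ≤ Y := inf_le_right
  have hSI : S ≤ Subgroup.normalizer ((stabFun M (φ : M → ℂ) ⊓ Y : Subgroup Γ) : Set Γ) := by
    intro s hs
    rw [Subgroup.mem_normalizer_iff]
    intro n
    rw [Subgroup.mem_inf, Subgroup.mem_inf]
    have hsSt := hSSt hs
    constructor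
    · rintro ⟨h1, h2⟩
      exact ⟨Subgroup.mul_mem _ (Subgroup.mul_mem _ hsSt h1) (Subgroup.inv_mem _ hsSt),
        hYn.conj_mem n h2 s⟩
    · rintro ⟨h1, h2⟩
      refine ⟨?_, ?_⟩
      · have : n = s⁻¹ * (s * n * s⁻¹) * s := by group
        rw [this]
        exact Subgroup.mul_mem _ (Subgroup.mul_mem _ (Subgroup.inv_mem _ hsSt) h1) hsSt
      · have : n = s⁻¹ * (s * n * s⁻¹) * s⁻¹⁻¹ := by group
        rw [this]
        exact hYn.conj_mem _ h2 s⁻¹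
  have hCAY : CoprimeAction S Y :=
    ⟨by rw [Subgroup.normalizer_eq_top]; exact le_top, hcopYS.symm, Or.inl hSsolv⟩
  have hCAI : CoprimeAction S (stabFun M (φ : M → ℂ) ⊓ Y) := hCAY.mono hIY hSI
  obtain ⟨Q', hQ'I, hQ'S⟩ := coprime_exists_invariant_sylow hCAI q
  have hQ'Y : IsSylowOf q Y Q' := by
    apply isSylowOf_of_isPGroup q (hQ'I.le.trans hIY) hQ'I.isPGroup
    rw [← Subgroup.relIndex_mul_relIndex Q' _ Y hQ'I.le hIY]
    intro h
    rcases (Nat.Prime.dvd_mul hq).mp h with h | h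
    · exact hQ'I.not_dvd_relIndex h
    · apply hrel
      rwa [Subgroup.inf_relIndex_right] at h
  have hQYs : IsSylowOf q Y Q := isSylowOf_of_isPGroup q hQY hQ hQsyl
  have hSQ : S ≤ Subgroup.normalizer (Q : Set Γ) := by
    intro s hs
    apply Subgroup.centralizer_le_normalizer
    rw [Subgroup.mem_centralizer_iff]
    intro x hx
    exact hQS x hx s hs
  obtain ⟨c, hc, hcQ⟩ := coprime_invariant_sylow_conj hCAY hQYs hQ'Y hSQ hQ'S
  -- `Q' ≤ Q M`
  have hQ'QM : Q' ≤ Q ⊔ M := by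
    rw [← hcQ, conj_smul_le_iff]
    exact hQM c hc
  have hQMY : Q ⊔ M ≤ Y := sup_le hQY hMY
  -- both Sylow in `Q M`
  have hsyl : ∀ R : Subgroup Γ, IsSylowOf q Y R → R ≤ Q ⊔ M → IsSylowOf q (Q ⊔ M) R := by
    intro R hR hRK
    apply isSylowOf_of_isPGroup q hRK hR.isPGroup
    intro h
    apply hR.not_dvd_relIndex
    rw [← Subgroup.relIndex_mul_relIndex R _ Y hRK hQMY]
    exact dvd_mul_of_dvd_left h _
  obtain ⟨κ, hκ, hκQ⟩ := IsSylowOf.exists_conj (hsyl Q hQYs le_sup_left) (hsyl Q' hQ'Y hQ'QM)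
  -- `κ = m * x`
  have hκ' : κ ∈ (M ⊔ Q : Subgroup Γ) := by rwa [sup_comm]
  rw [← SetLike.mem_coe, Subgroup.normal_mul] at hκ'
  obtain ⟨m, hm, x₀, hx₀, rfl⟩ := hκ'
  have hMSt : M ≤ stabFun M (φ : M → ℂ) :=
    le_stabFun M (isClassFunction_of_isCharacter (isCharacter_of_irr φ.2))
  intro x hx
  rw [← mem_stabFun]
  have h1 : m * x * m⁻¹ ∈ Q' := by
    rw [← hκQ, mem_conj_smul_iff]
    have : (m * x₀)⁻¹ * (m * x * m⁻¹) * (m * x₀) = x₀⁻¹ * x * x₀ := by group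
    rw [this]
    exact Subgroup.mul_mem _ (Subgroup.mul_mem _ (Subgroup.inv_mem _ hx₀) hx) hx₀
  have h2 : m * x * m⁻¹ ∈ stabFun M (φ : M → ℂ) := (hQ'I.le h1).1
  have hmSt := hMSt hm
  have : x = m⁻¹ * (m * x * m⁻¹) * m := by group
  rw [this]
  exact Subgroup.mul_mem _ (Subgroup.mul_mem _ (Subgroup.inv_mem _ hmSt) h2) hmSt

end Cfsg.Agent.Lib.H8.PQ2
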