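import Mathlib
import Cfsg.Agent.Lib.H20.SigCDefs
import Cfsg.Agent.Lib.H7.Signalizer3
import Cfsg.Agent.S1324
import Cfsg.Agent.S1331

/-!
# S1299 farm-out, piece NL: the normality lemma (helper8)
-/

set_option autoImplicit false

namespace Cfsg.Agent.Lib.H20.SigC

open Cfsg

universe u

variable {G : Type u} [Group G]

/-- An element normalizing every member of a family normalizes its supremum. -/
theorem nl_mem_normalizer_iSup {ι : Sort*} (f : ι → Subgroup G) (x : G)
    (h : ∀ i, x ∈ Subgroup.normalizer ((f i : Subgroup G) : Set G)) :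
    x ∈ Subgroup.normalizer (((⨆ i, f i : Subgroup G)) : Set G) := by
  rw [Subgroup.mem_normalizer_iff_map_conj_eq, Subgroup.map_iSup]
  congr 1
  funext i
  exact Subgroup.mem_normalizer_iff_map_conj_eq.1 (h i)

/-- Commutativity inside an elementary abelian subgroup. -/
theorem nl_comm (p : ℕ) (A : Subgroup G) (hA : Cfsg.IsElementaryAbelian p A) :
    ∀ a ∈ A, ∀ b ∈ A, a * b = b * a := by
  intro a ha b hb
  have := hA.1
  have h := mul_comm' (⟨a, ha⟩ : A) ⟨b, hb⟩
  exact congrArg Subtype.val h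

theorem nl_isPGroup (p : ℕ) [Fact p.Prime] (A : Subgroup G) (hA : Cfsg.IsElementaryAbelian p A) :
    IsPGroup p ↥A := by
  intro a
  refine ⟨1, ?_⟩
  apply Subtype.ext
  simpa using hA.2 a a.2

variable [Finite G]

/-- Step (1): `θ(E)` normalizes `Y` for every hyperplane `E` of `A`. -/
theorem nl_hyperplane_le_normalizer (p : ℕ) [Fact p.Prime] (A : Subgroup G)
    (hA : Cfsg.IsElementaryAbelian p A) (hA3 : p ^ 3 ≤ Nat.card ↥A) (θ : G → Subgroup G)
    (hθ : Cfsg.IsSolvableSignalizerFunctor p A θ) (Y : Subgroup G)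
    (hY : Y ∈ Cfsg.signalizerFamily p A θ)
    (hn : ∀ E : Subgroup G, E ≤ A → E.relIndex A = p → ∀ e ∈ E, e ≠ 1 →
      Cfsg.signalizerInf E θ ≤ Subgroup.normalizer (((Y ⊓ θ e : Subgroup G)) : Set G))
    (E : Subgroup G) (hEA : E ≤ A) (hE : E.relIndex A = p) :
    Cfsg.signalizerInf E θ ≤ Subgroup.normalizer (Y : Set G) := by
  have hp : p.Prime := Fact.out
  have hcardE : Nat.card ↥E * p = Nat.card ↥A := by
    have := Cfsg.Agent.Lib.H7.card_mul_relIndex_of_le hEA
    rw [hE] at this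
    exact this
  have hE2 : p ^ 2 ≤ Nat.card ↥E := by
    have h1 : p ^ 2 * p ≤ Nat.card ↥E * p := by
      rw [hcardE]
      calc p ^ 2 * p = p ^ 3 := by ring
        _ ≤ _ := hA3
    exact Nat.le_of_mul_le_mul_right h1 hp.pos
  -- `Y = ⨆_{e ∈ E#} Y ⊓ θ e`
  have hYeq : Y = ⨆ e : {e : G // e ∈ E ∧ e ≠ 1}, Y ⊓ θ (e : G) := by
    apply le_antisymm
    · have h1 := Cfsg.Agent.S1331.result p A hA hA3 θ hθ Y hY E hEA hE2
      refine h1.le.trans ?_
      apply iSup_le
      rintro ⟨D, hDE, hD⟩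
      -- `D ≠ ⊥`
      have hcardD : Nat.card ↥D * p = Nat.card ↥E := by
        have := Cfsg.Agent.Lib.H7.card_mul_relIndex_of_le hDE
        rw [hD] at this
        exact this
      have hD1 : D ≠ ⊥ := by
        rintro rfl
        rw [Subgroup.card_bot, one_mul] at hcardD
        rw [← hcardD] at hE2
        have : p ^ 1 < p ^ 2 := Nat.pow_lt_pow_right hp.one_lt (by norm_num)
        rw [pow_one] at this
        omega
      obtain ⟨d, hd, hd1⟩ := (Subgroup.ne_bot_iff_exists_ne_one).1 hD1 |> fun ⟨d, hd1⟩ =>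
        (⟨(d : G), d.2, fun h => hd1 (Subtype.ext h)⟩ : ∃ d : G, d ∈ D ∧ d ≠ 1)
      refine le_trans ?_ (le_iSup (fun e : {e : G // e ∈ E ∧ e ≠ 1} => Y ⊓ θ (e : G))
        ⟨d, hDE hd, hd1⟩)
      exact inf_le_inf_left _ (Cfsg.Agent.Lib.H7.signalizerInf_le_theta hd hd1)
    · exact iSup_le (fun e => inf_le_left)
  intro x hx
  rw [hYeq]
  apply nl_mem_normalizer_iSup
  rintro ⟨e, he, he1⟩
  exact hn E hEA hE e he he1 hx

theorem closure_le_normalizer (p : ℕ) [Fact p.Prime] (A : Subgroup G)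
    (hA : Cfsg.IsElementaryAbelian p A) (hA3 : p ^ 3 ≤ Nat.card ↥A) (θ : G → Subgroup G)
    (hθ : Cfsg.IsSolvableSignalizerFunctor p A θ) (Y : Subgroup G)
    (hY : Y ∈ Cfsg.signalizerFamily p A θ)
    (hn : ∀ E : Subgroup G, E ≤ A → E.relIndex A = p → ∀ e ∈ E, e ≠ 1 →
      Cfsg.signalizerInf E θ ≤ Subgroup.normalizer (((Y ⊓ θ e : Subgroup G)) : Set G)) :
    Cfsg.signalizerClosure A θ ≤ Subgroup.normalizer (Y : Set G) := by
  have hp : p.Prime := Fact.out
  have hstep1 := nl_hyperplane_le_normalizer p A hA hA3 θ hθ Y hY hn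
  have hAc := nl_comm p A hA
  have hA2 : p ^ 2 ≤ Nat.card ↥A :=
    le_trans (Nat.pow_le_pow_right hp.pos (by norm_num)) hA3
  have hA1 : A ≠ ⊥ := by
    rintro rfl
    rw [Subgroup.card_bot] at hA3
    have : 1 < p ^ 3 := Nat.one_lt_pow (by norm_num) hp.one_lt
    omega
  obtain ⟨⟨h1, h2, h3, h4⟩, h5⟩ := hθ
  unfold Cfsg.signalizerClosure
  apply iSup_le
  rintro ⟨a, ha, ha1⟩
  show θ a ≤ _
  have hAX : A ≤ Subgroup.normalizer ((θ a : Subgroup G) : Set G) := by
    intro b hb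
    have : Subgroup.zpowers b ≤ Subgroup.normalizer ((θ a : Subgroup G) : Set G) :=
      Cfsg.Agent.Lib.H7.zpowers_le_normalizer_of_conj_mem (fun u hu => h3 a ha ha1 b hb u hu)
    exact this (Subgroup.mem_zpowers b)
  have hdec := Cfsg.Agent.S1324.result p A (θ a) hA hA2 (h2 a ha ha1) hAX
  rw [hdec]
  apply iSup_le
  rintro ⟨B, hBA, hB⟩
  show θ a ⊓ Subgroup.centralizer ((B : Subgroup G) : Set G) ≤ _
  set C0 : Subgroup G := θ a ⊓ Subgroup.centralizer ((B : Subgroup G) : Set G) with hC0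
  -- the subgroup of `A` centralized by `C0`
  set F : Subgroup G := A ⊓ Subgroup.centralizer ((C0 : Subgroup G) : Set G) with hF
  have hBF : B ≤ F := by
    intro b hb
    refine ⟨hBA hb, Subgroup.mem_centralizer_iff.2 ?_⟩
    intro c hc
    exact (Subgroup.mem_centralizer_iff.1 hc.2 b hb).symm
  have haF : a ∈ F := by
    refine ⟨ha, Subgroup.mem_centralizer_iff.2 ?_⟩
    intro c hc
    have := h1 a ha ha1 hc.1
    exact (Subgroup.mem_centralizer_singleton_iff.1 this)
  have hFA : F ≤ A := inf_le_left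
  -- a hyperplane `E ≤ F`
  have hEx : ∃ E : Subgroup G, E ≤ F ∧ E.relIndex A = p := by
    have hdvd : F.relIndex A ∣ B.relIndex A := Subgroup.relIndex_dvd_of_le_left A hBF
    have hBpos : B.relIndex A ≠ 0 := by
      intro h0
      have := Cfsg.Agent.Lib.H7.card_mul_relIndex_of_le hBA
      rw [h0, mul_zero] at this
      exact (Nat.card_pos (α := ↥A)).ne this
    have hle : F.relIndex A ≤ p := le_trans (Nat.le_of_dvd (Nat.pos_of_ne_zero hBpos) hdvd) hB
    have hFdvd : F.relIndex A ∣ Nat.card ↥A := Subgroup.relIndex_dvd_card F A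
    obtain ⟨n, hn'⟩ := IsPGroup.iff_card.1 (nl_isPGroup p A hA)
    rw [hn'] at hFdvd
    obtain ⟨j, -, hj⟩ := (Nat.dvd_prime_pow hp).1 hFdvd
    have hj1 : j ≤ 1 := by
      by_contra hcon
      push Not at hcon
      have : p ^ 2 ≤ p ^ j := Nat.pow_le_pow_right hp.pos hcon
      rw [← hj] at this
      have h3' : p < p ^ 2 := by
        have : p ^ 1 < p ^ 2 := Nat.pow_lt_pow_right hp.one_lt (by norm_num)
        simpa using this
      omega
    interval_cases j
    · -- `F = A`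
      rw [pow_zero] at hj
      have hAF : A ≤ F := Subgroup.relIndex_eq_one.1 hj
      obtain ⟨E, hE1, hE2⟩ := Cfsg.Agent.S1331.exists_hyperplane p A (nl_isPGroup p A hA) hA1
      exact ⟨E, hE1.trans hAF, hE2⟩
    · rw [pow_one] at hj
      exact ⟨F, le_rfl, hj⟩
  obtain ⟨E, hEF, hE⟩ := hEx
  have hEA : E ≤ A := hEF.trans hFA
  refine le_trans ?_ (hstep1 E hEA hE)
  -- `C0 ≤ θ(E)`
  unfold Cfsg.signalizerInf
  apply le_iInf
  rintro ⟨e, he, he1⟩
  show C0 ≤ θ e
  have heA : e ∈ A := hEA he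
  refine le_trans ?_ (h4 a ha ha1 e heA he1)
  intro c hc
  refine ⟨hc.1, Subgroup.mem_centralizer_singleton_iff.2 ?_⟩
  have := Subgroup.mem_centralizer_iff.1 (hEF he).2
  exact (this c hc)

end Cfsg.Agent.Lib.H20.SigC
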