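/-
Orthogonal Phase 2 (helper21's O2 project), task O2-B6, part a: `Ω(Q)` is transitive on the
non-zero singular vectors, for a non-degenerate quadratic form on an arbitrary index type
(transport of helper11's `omega_trans_sing`).  (helper8)
-/
import Cfsg.Agent.Lib.H11.OmegaTrans
import Cfsg.Agent.Lib.H11.OmTs5

set_option autoImplicit false
set_option linter.unusedSectionVars false

namespace Cfsg.Agent.Lib.H8.OP2

open Cfsg Cfsg.Geo Cfsg.Agent.Lib.H11.IsoReindex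
open scoped MatrixGroups Matrix

variable {F : Type*} [Field F] [Fintype F] {ι : Type} [Fintype ι] [DecidableEq ι]

/-- `Ω(Q)` is transitive on the non-zero singular vectors (any index type, `q` odd, dimension at
least 7). -/
theorem omega_trans_sing_gen (Q : (ι → F) → F) (hQ : IsNondegenerateQuadraticForm Q)
    (h2 : (2 : F) ≠ 0) (hcard : 7 ≤ Fintype.card ι) (u u' : ι → F) (hu0 : u ≠ 0) (hu'0 : u' ≠ 0)
    (hu : Q u = 0) (hu' : Q u' = 0) :
    ∃ g ∈ omegaGL Q, (g : Matrix ι ι F) *ᵥ u = u' := by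
  set e := Fintype.equivFin ι with he
  set QF := Cfsg.Agent.Lib.H29.Orth.toQF Q hQ with hQF
  have hnd := nondeg_trQF e QF (Cfsg.Agent.Lib.H29.Orth.toQF_nondegenerate Q hQ)
  have hadj := Cfsg.Agent.Lib.H11.OmegaTrans.adj_of_odd (trQF e QF) hnd h2
  have hcomp : ∀ x : ι → F, (x ∘ e.symm) ∘ e = x := fun x => by funext i; simp
  obtain ⟨ω, hω, hact⟩ := Cfsg.Agent.Lib.H11.OmegaTrans.omega_trans_sing (trQF e QF) hnd hadj hcard
    (u ∘ e.symm) (u' ∘ e.symm)
    (fun h => hu0 (by rw [← hcomp u, h]; rfl))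
    (fun h => hu'0 (by rw [← hcomp u', h]; rfl))
    (by show Q ((u ∘ e.symm) ∘ e) = 0; rw [hcomp]; exact hu)
    (by show Q ((u' ∘ e.symm) ∘ e) = 0; rw [hcomp]; exact hu')
  -- transport back
  obtain ⟨ω', hω', hωval⟩ : ∃ ω' : ↥(Cfsg.isometryGroup F (tr e Q)),
      ω' ∈ commutator ↥(Cfsg.isometryGroup F (tr e Q)) ∧
        ((ω' : GL (Fin (Fintype.card ι)) F) : Matrix _ _ F) *ᵥ (u ∘ e.symm) = u' ∘ e.symm :=
    ⟨ω, hω, hact⟩
  set g₀ : ↥(Cfsg.isometryGroup F Q) := (isoEquiv e Q).symm ω' with hg₀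
  have hg₀mem : g₀ ∈ commutator ↥(Cfsg.isometryGroup F Q) := by
    rw [← mem_commutator_iff (isoEquiv e Q), hg₀, MulEquiv.apply_symm_apply]
    exact hω'
  refine ⟨(g₀ : GL ι F), ⟨g₀, hg₀mem, rfl⟩, ?_⟩
  have h1 : ((isoEquiv e Q g₀ : ↥(Cfsg.isometryGroup F (tr e Q))) : GL (Fin (Fintype.card ι)) F) =
      (ω' : GL (Fin (Fintype.card ι)) F) := by
    rw [hg₀, MulEquiv.apply_symm_apply]
  have h3 : (Cfsg.Agent.Lib.H11.IsoReindex.glReindex e (g₀ : GL ι F)).1 *ᵥ (u ∘ e.symm) = u' ∘ e.symm := by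
    have : Cfsg.Agent.Lib.H11.IsoReindex.glReindex e (g₀ : GL ι F) = (ω' : GL (Fin (Fintype.card ι)) F) := h1
    rw [this]
    exact hωval
  rw [glReindex_mulVec, hcomp] at h3
  have h4 := congrArg (fun x : Fin (Fintype.card ι) → F => x ∘ e) h3
  simp only [hcomp] at h4
  exact h4

end Cfsg.Agent.Lib.H8.OP2
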