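/-
Orthogonal Phase 2 (helper21's O2 project), task O2-B6, part b: pure vectors.  The tensor-wreath
subgroup maps `P`-pure vectors to `P`-pure vectors; a tensor power form on pure vectors; a sum of
two pure vectors differing independently in two slots is not pure; special vectors for a
non-degenerate symmetric form in dimension at least 3.  (helper8)
-/
import Cfsg.Agent.Lib.H20.AschP2B4B7
import Cfsg.Agent.Lib.H13.Witt
import Cfsg.Agent.Lib.H8.AschSM4a

set_option autoImplicit false
set_option linter.unusedSectionVars false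

namespace Cfsg.Agent.Lib.H8.OP2

open Cfsg Cfsg.Geo Cfsg.Agent.Lib.Lead.Asch Cfsg.Agent.Lib.H20.Asch Cfsg.Agent.Lib.H20.AschP2
open scoped MatrixGroups Matrix

variable {F : Type*} [Field F]

/-! ### The tensor-wreath subgroup and pure vectors -/

/-- Every element of the standard tensor-wreath group maps pure vectors to pure vectors. -/
theorem pureVec_of_mem_standard [Fintype F] {m t : ℕ} (g : GL (Fin t → Fin m) F)
    (hg : g ∈ tensorWreathStandard m t F) :
    ∀ v : (Fin t → Fin m) → F, PureVec m t v →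
      PureVec m t ((g : Matrix (Fin t → Fin m) (Fin t → Fin m) F) *ᵥ v) := by
  unfold tensorWreathStandard at hg
  induction hg using Subgroup.closure_induction with
  | mem g hg =>
    rcases hg with hg | hg
    · exact pureVec_of_isPureTensor g hg
    · exact pureVec_of_isFactorPermutation g hg
  | one => intro v hv; simpa using hv
  | mul a b _ _ iha ihb =>
    intro v hv
    rw [Units.val_mul, ← Matrix.mulVec_mulVec]
    exact iha _ (ihb v hv)
  | inv a _ iha =>
    intro v hv
    have hpow : ∀ k : ℕ, PureVec m t (((a ^ k : GL (Fin t → Fin m) F) :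
        Matrix (Fin t → Fin m) (Fin t → Fin m) F) *ᵥ v) := by
      intro k
      induction k with
      | zero => simpa using hv
      | succ k ih =>
        rw [pow_succ', Units.val_mul, ← Matrix.mulVec_mulVec]
        exact iha _ ih
    have hinv : a⁻¹ = a ^ (orderOf a - 1) := by
      have hpos : 0 < orderOf a := orderOf_pos a
      rw [eq_comm, ← mul_eq_one_iff_eq_inv', ← pow_succ', Nat.sub_add_cancel hpos,
        pow_orderOf_eq_one]
    rw [hinv]
    exact hpow _

theorem glReindex_symm_mulVec_comp {ι : Type} [Fintype ι] [DecidableEq ι] {κ : Type} [Fintype κ]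
    [DecidableEq κ] (e : ι ≃ κ) (g₀ : GL κ F) (w : κ → F) :
    ((glReindex e.symm g₀ : GL ι F) : Matrix ι ι F) *ᵥ (w ∘ e) =
      ((g₀ : Matrix κ κ F) *ᵥ w) ∘ e := by
  funext i
  simp only [Matrix.mulVec, dotProduct, Function.comp_apply]
  rw [← Equiv.sum_comp e]
  refine Finset.sum_congr rfl fun j _ => ?_
  rw [glReindex_apply_apply]
  simp

/-- Every element of the tensor-wreath subgroup maps `P`-pure vectors to `P`-pure vectors. -/
theorem mulVec_pure_of_mem_tensorWreath [Fintype F] {ι : Type} [Fintype ι] [DecidableEq ι]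
    {k t : ℕ} (e : ι ≃ (Fin t → Fin k)) (P : GL ι F) (g : GL ι F)
    (hg : g ∈ tensorWreathSubgroup k t e P) (w : (Fin t → Fin k) → F) (hw : PureVec k t w) :
    ∃ w' : (Fin t → Fin k) → F, PureVec k t w' ∧
      (g : Matrix ι ι F) *ᵥ ((P : Matrix ι ι F) *ᵥ (w ∘ e)) = (P : Matrix ι ι F) *ᵥ (w' ∘ e) := by
  obtain ⟨g₁, ⟨g₀, hg₀, rfl⟩, rfl⟩ := hg
  refine ⟨_, pureVec_of_mem_standard g₀ hg₀ w hw, ?_⟩
  simp only [MulEquiv.coe_toMonoidHom, MulAut.conj_apply, Units.val_mul]
  rw [Matrix.mulVec_mulVec, Matrix.mul_assoc, Matrix.mul_assoc, ← Units.val_mul, inv_mul_cancel,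
    Units.val_one, Matrix.mul_one, ← Matrix.mulVec_mulVec, glReindex_symm_mulVec_comp]

/-! ### Pure tensors -/

/-- The pure tensor with factors `ξ i`. -/
def pureOf {k t : ℕ} (ξ : Fin t → Fin k → F) : (Fin t → Fin k) → F := fun p => ∏ i, ξ i (p i)

theorem pureVec_pureOf {k t : ℕ} (ξ : Fin t → Fin k → F) : PureVec k t (pureOf ξ) :=
  ⟨ξ, fun _ => rfl⟩

/-- A tensor power form on pure tensors is the product of the forms of the factors. -/
theorem tensorPower_form_pure {k t : ℕ} (G₁ : Matrix (Fin k) (Fin k) F)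
    (ξ η : Fin t → Fin k → F) :
    ∑ a, ∑ b, pureOf ξ a * (∏ i, G₁ (a i) (b i)) * pureOf η b =
      ∏ i, (∑ p, ∑ q, ξ i p * G₁ p q * η i q) := by
  rw [Finset.prod_univ_sum, Fintype.piFinset_univ]
  refine Finset.sum_congr rfl fun a _ => ?_
  rw [Finset.prod_univ_sum, Fintype.piFinset_univ]
  refine Finset.sum_congr rfl fun b _ => ?_
  simp only [pureOf]
  rw [Finset.prod_mul_distrib, Finset.prod_mul_distrib]

/-- A bilinear form in terms of its Gram matrix. -/
theorem bilinear_eq_gram {k : ℕ} (f₁ : (Fin k → F) → (Fin k → F) → F) (hf₁ : IsBilinearForm f₁)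
    (u v : Fin k → F) : f₁ u v = ∑ p, ∑ q, u p * gramMatrix f₁ p q * v q := by
  obtain ⟨B, hB⟩ := Cfsg.Agent.Lib.H6.Asch.exists_rep_of_bilinear f₁ hf₁
  have hBg : B = gramMatrix f₁ := by
    ext a b
    exact (hB.apply_single a b).symm
  rw [← hBg, hB u v]
  have := congrFun (congrFun (Cfsg.Agent.Lib.H8.AschS.formOfGram_eq_formOf B) u) v
  unfold Cfsg.Agent.Lib.H6.Asch.formOf at this
  rw [← this]
  rfl

/-! ### Non-purity -/

/-- The swap identity for pure vectors. -/
theorem pureVec_swap {k t : ℕ} (W : (Fin t → Fin k) → F) (hW : PureVec k t W) (i₀ : Fin t)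
    (p q : Fin t → Fin k) :
    W p * W q = W (Function.update p i₀ (q i₀)) * W (Function.update q i₀ (p i₀)) := by
  obtain ⟨w, hw⟩ := hW
  rw [hw, hw, hw, hw, ← Finset.prod_mul_distrib, ← Finset.prod_mul_distrib]
  refine Finset.prod_congr rfl fun i _ => ?_
  by_cases hii : i = i₀
  · subst hii; simp [mul_comm]
  · simp [hii]

theorem pureOf_update {k t : ℕ} (ξ : Fin t → Fin k → F) (i₀ : Fin t) (p : Fin t → Fin k)
    (c : Fin k) :
    pureOf ξ (Function.update p i₀ c) * ξ i₀ (p i₀) = pureOf ξ p * ξ i₀ c := by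
  classical
  simp only [pureOf]
  rw [← Finset.mul_prod_erase Finset.univ _ (Finset.mem_univ i₀),
    ← Finset.mul_prod_erase Finset.univ (fun i => ξ i (p i)) (Finset.mem_univ i₀)]
  have h1 : ∏ i ∈ Finset.univ.erase i₀, ξ i (Function.update p i₀ c i) =
      ∏ i ∈ Finset.univ.erase i₀, ξ i (p i) := by
    refine Finset.prod_congr rfl fun i hi => ?_
    rw [Function.update_of_ne (Finset.ne_of_mem_erase hi)]
  rw [h1, Function.update_self]
  ring

/-- `ξ₀ ⊗ ξ₁ ⊗ Z + ξ₀' ⊗ ξ₁' ⊗ Z` is not pure when `ξ₀, ξ₀'` and `ξ₁, ξ₁'` are independent and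
`Z ≠ 0`. -/
theorem not_pureVec_add_pureOf {k t : ℕ} (ξ ξ' : Fin t → Fin k → F) (i₀ i₁ : Fin t)
    (hi : i₀ ≠ i₁) (hrest : ∀ i, i ≠ i₀ → i ≠ i₁ → ξ' i = ξ i)
    (c : Fin t → Fin k) (hc : ∀ i, i ≠ i₀ → i ≠ i₁ → ξ i (c i) ≠ 0)
    (a a' b b' : Fin k)
    (h0 : ξ i₀ a * ξ' i₀ a' - ξ i₀ a' * ξ' i₀ a ≠ 0)
    (h1 : ξ i₁ b * ξ' i₁ b' - ξ i₁ b' * ξ' i₁ b ≠ 0) :
    ¬ PureVec k t (pureOf ξ + pureOf ξ') := by
  classical
  intro hW
  -- the two index tuples
  set p : Fin t → Fin k := Function.update (Function.update c i₀ a) i₁ b with hp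
  set q : Fin t → Fin k := Function.update (Function.update c i₀ a') i₁ b' with hq
  have hsw := pureVec_swap _ hW i₀ p q
  have hpi₀ : p i₀ = a := by simp [hp, hi]
  have hqi₀ : q i₀ = a' := by simp [hq, hi]
  -- products over the slots other than `i₀, i₁`
  set R : F := ∏ i ∈ (Finset.univ.erase i₀).erase i₁, ξ i (c i) with hR
  have hR0 : R ≠ 0 := by
    rw [hR, Finset.prod_ne_zero_iff]
    intro i hi'
    have h1' := Finset.ne_of_mem_erase hi'
    have h2' := Finset.ne_of_mem_erase (Finset.mem_of_mem_erase hi')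
    exact hc i h2' h1'
  have hi₁mem : i₁ ∈ Finset.univ.erase i₀ := Finset.mem_erase.2 ⟨hi.symm, Finset.mem_univ _⟩
  have key : ∀ (ζ : Fin t → Fin k → F) (hζ : ∀ i, i ≠ i₀ → i ≠ i₁ → ζ i = ξ i) (x y : Fin k),
      pureOf ζ (Function.update (Function.update c i₀ x) i₁ y) = ζ i₀ x * ζ i₁ y * R := by
    intro ζ hζ x y
    simp only [pureOf]
    rw [← Finset.mul_prod_erase Finset.univ _ (Finset.mem_univ i₀),
      ← Finset.mul_prod_erase (Finset.univ.erase i₀) _ hi₁mem]
    have e1 : Function.update (Function.update c i₀ x) i₁ y i₀ = x := by simp [hi]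
    have e2 : Function.update (Function.update c i₀ x) i₁ y i₁ = y := by simp
    rw [e1, e2, hR]
    have e3 : ∏ i ∈ (Finset.univ.erase i₀).erase i₁,
        ζ i (Function.update (Function.update c i₀ x) i₁ y i) =
        ∏ i ∈ (Finset.univ.erase i₀).erase i₁, ξ i (c i) := by
      refine Finset.prod_congr rfl fun i hi' => ?_
      have h1' := Finset.ne_of_mem_erase hi'
      have h2' := Finset.ne_of_mem_erase (Finset.mem_of_mem_erase hi')
      rw [Function.update_of_ne h1', Function.update_of_ne h2', hζ i h2' h1']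
    rw [e3]
    ring
  have hp' : Function.update p i₀ (q i₀) = Function.update (Function.update c i₀ a') i₁ b := by
    rw [hqi₀, hp]
    funext i
    by_cases h1' : i = i₁
    · subst h1'; simp [hi.symm]
    · by_cases h2' : i = i₀
      · subst h2'; simp [hi]
      · simp [h1', h2']
  have hq' : Function.update q i₀ (p i₀) = Function.update (Function.update c i₀ a) i₁ b' := by
    rw [hpi₀, hq]
    funext i
    by_cases h1' : i = i₁
    · subst h1'; simp [hi.symm]
    · by_cases h2' : i = i₀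
      · subst h2'; simp [hi]
      · simp [h1', h2']
  rw [hp', hq'] at hsw
  simp only [Pi.add_apply, hp, hq] at hsw
  rw [key ξ (fun _ _ _ => rfl), key ξ' hrest, key ξ (fun _ _ _ => rfl), key ξ' hrest,
    key ξ (fun _ _ _ => rfl), key ξ' hrest, key ξ (fun _ _ _ => rfl), key ξ' hrest] at hsw
  have hfin : (ξ i₀ a * ξ' i₀ a' - ξ i₀ a' * ξ' i₀ a) *
      (ξ i₁ b * ξ' i₁ b' - ξ i₁ b' * ξ' i₁ b) * (R * R) = 0 := by
    linear_combination hsw
  rcases mul_eq_zero.1 hfin with h | h
  · rcases mul_eq_zero.1 h with h | h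
    · exact h0 h
    · exact h1 h
  · exact hR0 (mul_self_eq_zero.1 h)

/-! ### Special vectors for a symmetric form -/

/-- Two vectors with `x ≠ 0` and `x'` not a multiple of `x` have a non-zero `2 × 2` minor. -/
theorem exists_minor_ne_zero {k : ℕ} (x x' : Fin k → F) (hx : x ≠ 0)
    (h : ∀ c : F, x' ≠ c • x) : ∃ a a', x a * x' a' - x a' * x' a ≠ 0 := by
  obtain ⟨a, ha⟩ : ∃ a, x a ≠ 0 := by
    by_contra hcon
    push Not at hcon
    exact hx (funext hcon)
  by_contra hcon
  push Not at hcon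
  apply h (x' a / x a)
  funext a'
  have := hcon a a'
  rw [Pi.smul_apply, smul_eq_mul]
  field_simp
  linear_combination this

/-- In a non-degenerate symmetric space of dimension at least 3 over a finite field of odd
characteristic: a hyperbolic pair `x, x'` and a non-zero vector `y'` orthogonal to both. -/
theorem exists_special_vectors [Finite F] (h2 : (2 : F) ≠ 0) {k : ℕ} (hk : 3 ≤ k)
    (f₁ : (Fin k → F) → (Fin k → F) → F) (hf₁ : IsSymmetricForm f₁) :
    ∃ x x' y' : Fin k → F, f₁ x x = 0 ∧ f₁ x' x' = 0 ∧ f₁ x x' ≠ 0 ∧ f₁ x y' = 0 ∧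
      f₁ x' y' = 0 ∧ y' ≠ 0 := by
  set B : LinearMap.BilinForm F (Fin k → F) :=
    LinearMap.mk₂ F f₁ hf₁.bilinear.add_left hf₁.bilinear.smul_left hf₁.bilinear.add_right
      hf₁.bilinear.smul_right with hB
  have hBapp : ∀ u v, B u v = f₁ u v := fun u v => rfl
  obtain ⟨x, hx0, hxx⟩ := Cfsg.Agent.Lib.H13.exists_singular_of_three_le
    (LinearMap.BilinMap.toQuadraticMap B) (by rw [Module.finrank_fin_fun]; exact hk)
  have hxx' : f₁ x x = 0 := by
    rw [LinearMap.BilinMap.toQuadraticMap_apply] at hxx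
    exact hxx
  obtain ⟨w, hw⟩ := (hf₁.nondegenerate x hx0).2
  set c : F := f₁ w w / (2 * f₁ x w) with hc
  set x' : Fin k → F := w - c • x with hx'
  have hb := hf₁.bilinear
  have hsub_r : ∀ u v z, f₁ u (v - z) = f₁ u v - f₁ u z := by
    intro u v z
    have : v - z = v + (-1 : F) • z := by rw [neg_smul, one_smul, sub_eq_add_neg]
    rw [this, hb.add_right, hb.smul_right]
    ring
  have hsub_l : ∀ u v z, f₁ (u - v) z = f₁ u z - f₁ v z := by
    intro u v z
    rw [hf₁.symm, hsub_r, hf₁.symm z u, hf₁.symm z v]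
  have hxw2 : 2 * f₁ x w ≠ 0 := mul_ne_zero h2 hw
  have hx'x' : f₁ x' x' = 0 := by
    rw [hx', hsub_l, hsub_r, hsub_r, hb.smul_left, hb.smul_left, hb.smul_right, hb.smul_right,
      hxx', hf₁.symm w x, hc]
    field_simp
    ring
  have hxx'' : f₁ x x' ≠ 0 := by
    rw [hx', hsub_r, hb.smul_right, hxx', mul_zero, sub_zero]
    exact hw
  -- a non-zero vector orthogonal to both
  set L : (Fin k → F) →ₗ[F] (Fin 2 → F) :=
    LinearMap.pi ![B x, B x'] with hL
  have hker : LinearMap.ker L ≠ ⊥ := by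
    apply LinearMap.ker_ne_bot_of_finrank_lt
    rw [Module.finrank_fin_fun, Module.finrank_fin_fun]
    omega
  obtain ⟨y', hy', hy'0⟩ := Submodule.exists_mem_ne_zero_of_ne_bot hker
  rw [LinearMap.mem_ker] at hy'
  have h0 := congrFun hy' 0
  have h1 := congrFun hy' 1
  simp only [hL, LinearMap.pi_apply, Pi.zero_apply] at h0 h1
  exact ⟨x, x', y', hxx', hx'x', hxx'', h0, h1, hy'0⟩

end Cfsg.Agent.Lib.H8.OP2
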