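/-
Orthogonal Phase 2 (helper21's O2 project), task O2-B6: `Ω_{2m+1}(q)` lies in no tensor-wreath
subgroup compatible with the form (`k ≥ 3`, `t ≥ 2`).  `u = x ⊗ x ⊗ x ⊗ …` and
`w = x' ⊗ y' ⊗ x ⊗ …` (`x, x'` a hyperbolic pair of `f₁`, `y' ≠ 0` orthogonal to both) are singular
and orthogonal, so `u + w` is a non-zero singular vector; it is not pure, but `Ω` is transitive on
the non-zero singular vectors and the tensor-wreath subgroup maps pure vectors to pure vectors.
(helper8)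
-/
import Cfsg.Agent.Lib.H8.AschO2B6a
import Cfsg.Agent.Lib.H8.AschO2B6b
import Cfsg.Agent.Lib.H29.QuadOdd
import Cfsg.Agent.Lib.H24.AschOBasic

set_option autoImplicit false
set_option linter.unusedSectionVars false

namespace Cfsg.Agent.Lib.H8.OP2

open Cfsg Cfsg.Geo Cfsg.Agent.Lib.H20.AschP2
open scoped MatrixGroups Matrix Kronecker

variable {F : Type*} [Field F] [Fintype F]

theorem mulVec_GL_injective {ι : Type} [Fintype ι] [DecidableEq ι] (P : GL ι F) (a b : ι → F)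
    (h : (P : Matrix ι ι F) *ᵥ a = (P : Matrix ι ι F) *ᵥ b) : a = b := by
  have := congrArg (fun v => ((P⁻¹ : GL ι F) : Matrix ι ι F) *ᵥ v) h
  simp only [Matrix.mulVec_mulVec, ← Units.val_mul, inv_mul_cancel, Units.val_one,
    Matrix.one_mulVec] at this
  exact this

theorem comp_equiv_injective {ι κ : Type*} (e : ι ≃ κ) (a b : κ → F) (h : a ∘ e = b ∘ e) :
    a = b := by
  funext y
  have := congrFun h (e.symm y)
  simpa using this

/-- **O2-B6**. -/
theorem not_omega_le_tensorWreathSubgroup (hodd : Odd (Fintype.card F)) (m : ℕ) (hm : 3 ≤ m)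
    (k t : ℕ) (hk : 3 ≤ k) (ht : 2 ≤ t) (e : (Unit ⊕ (Fin m ⊕ Fin m)) ≃ (Fin t → Fin k))
    (P : GL (Unit ⊕ (Fin m ⊕ Fin m)) F) (f₁ : (Fin k → F) → (Fin k → F) → F)
    (hf₁ : IsSymmetricForm f₁)
    (hT : IsTensorPowerFormStructure id (QuadraticMap.polar (quadFormOdd m F)) f₁ e P) :
    ¬ omegaGL (quadFormOdd m F) ≤ tensorWreathSubgroup k t e P := by
  classical
  intro hle
  have h2 : (2 : F) ≠ 0 := Cfsg.Agent.Lib.H24.Asch.two_ne_zero_of_odd hodd
  have hQ : IsNondegenerateQuadraticForm (quadFormOdd m F) :=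
    Cfsg.Agent.Lib.H29.QuadOdd.isNondegenerateQuadraticForm m h2
  have hcard : 7 ≤ Fintype.card (Unit ⊕ (Fin m ⊕ Fin m)) := by
    simp only [Fintype.card_sum, Fintype.card_unit, Fintype.card_fin]
    omega
  obtain ⟨c, hc0, hform⟩ := hT
  obtain ⟨x, x', y', hxx, hx'x', hxx', hxy', hx'y', hy'0⟩ :=
    exists_special_vectors h2 hk f₁ hf₁
  have hb := hf₁.bilinear
  have hx0 : x ≠ 0 := by
    rintro rfl
    apply hxx'
    have := hb.smul_left 0 0 x'
    simpa using this
  obtain ⟨a₀, ha₀⟩ : ∃ a, x a ≠ 0 := by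
    by_contra hcon
    push Not at hcon
    exact hx0 (funext hcon)
  set i₀ : Fin t := ⟨0, by omega⟩ with hi₀
  set i₁ : Fin t := ⟨1, by omega⟩ with hi₁
  have hi : i₀ ≠ i₁ := by simp [hi₀, hi₁, Fin.ext_iff]
  set ξ : Fin t → Fin k → F := fun _ => x with hξ
  set ξ' : Fin t → Fin k → F := fun i => if i = i₀ then x' else if i = i₁ then y' else x with hξ'
  have hξ'0 : ξ' i₀ = x' := by simp [hξ']
  have hξ'1 : ξ' i₁ = y' := by simp [hξ', hi.symm]
  have hrest : ∀ i, i ≠ i₀ → i ≠ i₁ → ξ' i = ξ i := by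
    intro i h0 h1
    simp [hξ', hξ, h0, h1]
  -- the form on pure tensors
  have hpure : ∀ ζ η : Fin t → Fin k → F,
      QuadraticMap.polar (quadFormOdd m F) ((P : Matrix _ _ F) *ᵥ (pureOf ζ ∘ e))
        ((P : Matrix _ _ F) *ᵥ (pureOf η ∘ e)) = c * ∏ i, f₁ (ζ i) (η i) := by
    intro ζ η
    rw [hform]
    simp only [id]
    rw [tensorPower_form_pure]
    congr 1
    refine Finset.prod_congr rfl fun i _ => ?_
    rw [bilinear_eq_gram f₁ hb]
  set u := (P : Matrix (Unit ⊕ (Fin m ⊕ Fin m)) (Unit ⊕ (Fin m ⊕ Fin m)) F) *ᵥ (pureOf ξ ∘ e)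
    with hu
  set w := (P : Matrix (Unit ⊕ (Fin m ⊕ Fin m)) (Unit ⊕ (Fin m ⊕ Fin m)) F) *ᵥ (pureOf ξ' ∘ e)
    with hw
  have huu : QuadraticMap.polar (quadFormOdd m F) u u = 0 := by
    rw [hu, hpure, Finset.prod_eq_zero (Finset.mem_univ i₀) (by simp only [hξ]; exact hxx),
      mul_zero]
  have hww : QuadraticMap.polar (quadFormOdd m F) w w = 0 := by
    rw [hw, hpure, Finset.prod_eq_zero (Finset.mem_univ i₀) (by rw [hξ'0]; exact hx'x'),
      mul_zero]
  have huw : QuadraticMap.polar (quadFormOdd m F) u w = 0 := by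
    rw [hu, hw, hpure, Finset.prod_eq_zero (Finset.mem_univ i₁)
      (by rw [hξ'1]; simp only [hξ]; exact hxy'), mul_zero]
  have hsing : ∀ v, QuadraticMap.polar (quadFormOdd m F) v v = 0 → quadFormOdd m F v = 0 := by
    intro v hv
    rw [Cfsg.Agent.Lib.H24.Asch.polar_self hQ] at hv
    exact (mul_eq_zero.1 hv).resolve_left h2
  have hQu : quadFormOdd m F u = 0 := hsing u huu
  have hQw : quadFormOdd m F w = 0 := hsing w hww
  have hQuw : quadFormOdd m F (u + w) = 0 := by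
    have : QuadraticMap.polar (quadFormOdd m F) u w =
        quadFormOdd m F (u + w) - quadFormOdd m F u - quadFormOdd m F w := rfl
    rw [huw, hQu, hQw, sub_zero, sub_zero] at this
    exact this.symm
  -- `u ≠ 0`
  have hu0 : u ≠ 0 := by
    intro h0
    have h1 : pureOf ξ ∘ e = 0 := by
      apply mulVec_GL_injective P
      rw [Matrix.mulVec_zero]
      exact h0
    have h3 : pureOf ξ = 0 := comp_equiv_injective e _ _ h1
    have h4 := congrFun h3 (fun _ => a₀)
    simp only [pureOf, hξ, Finset.prod_const, Pi.zero_apply] at h4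
    exact ha₀ (pow_eq_zero_iff (by simp; omega) |>.mp h4)
  -- `X + X'` is not pure
  have hx'ne : ∀ d : F, x' ≠ d • x := by
    intro d h
    apply hxx'
    rw [h, hb.smul_right, hxx, mul_zero]
  have hy'ne : ∀ d : F, y' ≠ d • x := by
    intro d h
    have h1 : f₁ x' y' = d * f₁ x x' := by
      rw [h, hb.smul_right, hf₁.symm x' x]
    rw [hx'y'] at h1
    rcases mul_eq_zero.1 h1.symm with h3 | h3
    · apply hy'0
      rw [h, h3, zero_smul]
    · exact hxx' h3
  obtain ⟨a, a', haa'⟩ := exists_minor_ne_zero x x' hx0 hx'ne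
  obtain ⟨b, b', hbb'⟩ := exists_minor_ne_zero x y' hx0 hy'ne
  have hnot : ¬ PureVec k t (pureOf ξ + pureOf ξ') :=
    not_pureVec_add_pureOf ξ ξ' i₀ i₁ hi hrest (fun _ => a₀) (fun _ _ _ => ha₀) a a' b b'
      (by rw [hξ'0]; exact haa') (by rw [hξ'1]; exact hbb')
  have hsum : u + w = (P : Matrix _ _ F) *ᵥ ((pureOf ξ + pureOf ξ') ∘ e) := by
    rw [hu, hw, ← Matrix.mulVec_add]
    rfl
  have huw0 : u + w ≠ 0 := by
    intro h0
    rw [hsum] at h0
    have h1 : (pureOf ξ + pureOf ξ') ∘ e = 0 := by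
      apply mulVec_GL_injective P
      rw [Matrix.mulVec_zero]
      exact h0
    have h3 : pureOf ξ + pureOf ξ' = 0 := comp_equiv_injective e _ _ h1
    apply hnot
    rw [h3]
    refine ⟨fun _ => 0, fun p => ?_⟩
    rw [Pi.zero_apply]
    symm
    exact Finset.prod_eq_zero (Finset.mem_univ i₀) rfl
  -- transitivity
  obtain ⟨g, hg, hgu⟩ := omega_trans_sing_gen (quadFormOdd m F) hQ h2 hcard u (u + w) hu0 huw0
    hQu hQuw
  obtain ⟨w', hw', hgw'⟩ := mulVec_pure_of_mem_tensorWreath e P g (hle hg) (pureOf ξ)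
    (pureVec_pureOf ξ)
  rw [← hu, hgu, hsum] at hgw'
  have h1 := comp_equiv_injective e _ _ (mulVec_GL_injective P _ _ hgw')
  apply hnot
  rw [h1]
  exact hw'

end Cfsg.Agent.Lib.H8.OP2
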