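import Cfsg.Agent.Lib.H8.CAGroupB

/-!
# CA-groups of odd order (helper8), part C: group-theoretic lemmas for the reduction
-/

set_option autoImplicit false

namespace Cfsg.Agent.Lib.H8

open Cfsg Cfsg.Agent.Lib.L0

variable {G : Type*} [Group G]

theorem ca_subgroup (hCA : IsCA G) (H : Subgroup G) : IsCA H := by
  intro x hx a ha b hb
  have hx' : (x : G) ≠ 1 := fun h => hx (Subtype.ext h)
  have ha' : (a : G) ∈ Subgroup.centralizer ({(x : G)} : Set G) := by
    rw [mem_cent] at ha ⊢
    exact_mod_cast congrArg Subtype.val ha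
  have hb' : (b : G) ∈ Subgroup.centralizer ({(x : G)} : Set G) := by
    rw [mem_cent] at hb ⊢
    exact_mod_cast congrArg Subtype.val hb
  exact Subtype.ext (hCA (x : G) hx' a ha' b hb')

/-- A nontrivial solvable normal subgroup contains a nontrivial abelian normal subgroup of `G`. -/
theorem exists_normal_abelian (N : Subgroup G) [hN : N.Normal] (hN1 : N ≠ ⊥)
    [hs : Group.IsSolvable N] :
    ∃ B : Subgroup G, B.Normal ∧ B ≠ ⊥ ∧ ∀ a ∈ B, ∀ b ∈ B, a * b = b * a := by
  classical
  have hex : ∃ n : ℕ, derivedSeries N n = ⊥ := hs.solvable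
  have hk := Nat.find_spec hex
  have hk0 : Nat.find hex ≠ 0 := by
    intro h0
    rw [h0, derivedSeries_zero] at hk
    apply hN1
    rw [Subgroup.eq_bot_iff_forall]
    intro x hx
    have : (⟨x, hx⟩ : N) ∈ (⊥ : Subgroup N) := by rw [← hk]; trivial
    rw [Subgroup.mem_bot] at this
    exact congrArg Subtype.val this
  obtain ⟨m, hm⟩ := Nat.exists_eq_succ_of_ne_zero hk0
  have hmne : derivedSeries N m ≠ ⊥ := Nat.find_min hex (by omega)
  have hcomm : ⁅derivedSeries N m, derivedSeries N m⁆ = ⊥ := by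
    rw [← derivedSeries_succ]
    have : m + 1 = Nat.find hex := by omega
    rw [this]; exact hk
  refine ⟨(derivedSeries N m).map N.subtype, inferInstance, ?_, ?_⟩
  · intro h
    apply hmne
    exact (Subgroup.map_eq_bot_iff_of_injective _ N.subtype_injective).mp h
  · rintro a ⟨a', ha', rfl⟩ b ⟨b', hb', rfl⟩
    have h1 : a' * b' * a'⁻¹ * b'⁻¹ ∈ ⁅derivedSeries N m, derivedSeries N m⁆ :=
      Subgroup.commutator_mem_commutator ha' hb'
    rw [hcomm, Subgroup.mem_bot] at h1
    have h1 : a' * b' = b' * a' := by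
      have : a' * b' = (a' * b' * a'⁻¹ * b'⁻¹) * (b' * a') := by group
      rw [this, h1, one_mul]
    have := congrArg N.subtype h1
    simpa using this

/-- In a CA-group, the centralizer of a nontrivial abelian normal subgroup is an abelian normal
subgroup containing the centralizers of its non-identity elements. -/
theorem ca_kernel (hCA : IsCA G) (B : Subgroup G) [B.Normal] (hB1 : B ≠ ⊥)
    (hBab : ∀ a ∈ B, ∀ b ∈ B, a * b = b * a) :
    ∃ A : Subgroup G, A.Normal ∧ A ≠ ⊥ ∧ (∀ a ∈ A, ∀ b ∈ A, a * b = b * a) ∧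
      ∀ a ∈ A, a ≠ 1 → Subgroup.centralizer ({a} : Set G) ≤ A := by
  obtain ⟨b₀, hb₀, hb₀1⟩ : ∃ b₀ ∈ B, b₀ ≠ 1 := by
    by_contra hcon
    push Not at hcon
    exact hB1 ((Subgroup.eq_bot_iff_forall B).mpr hcon)
  have hBA : B ≤ Subgroup.centralizer (B : Set G) := by
    intro b hb
    rw [Subgroup.mem_centralizer_iff]
    intro c hc
    exact hBab c hc b hb
  have hAab : ∀ a ∈ Subgroup.centralizer (B : Set G), ∀ b ∈ Subgroup.centralizer (B : Set G),
      a * b = b * a := by
    intro a ha b hb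
    apply hCA b₀ hb₀1
    · rw [mem_cent]; exact (Subgroup.mem_centralizer_iff.mp ha b₀ hb₀)
    · rw [mem_cent]; exact (Subgroup.mem_centralizer_iff.mp hb b₀ hb₀)
  refine ⟨Subgroup.centralizer (B : Set G), inferInstance, ?_, hAab, ?_⟩
  · intro h
    have := hBA hb₀
    rw [h, Subgroup.mem_bot] at this
    exact hb₀1 this
  · intro a ha ha1 y hy
    rw [Subgroup.mem_centralizer_iff]
    intro b hb
    -- b ∈ C(a), y ∈ C(a)
    have hba : b ∈ Subgroup.centralizer ({a} : Set G) := by
      rw [mem_cent]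
      exact hAab a ha b (hBA hb)
    exact hCA a ha1 b hba y hy

/-- A normal subgroup containing the centralizers of its non-identity elements is a Hall
subgroup. -/
theorem coprime_of_kernel [Finite G] (A : Subgroup G) [A.Normal]
    (hC : ∀ a ∈ A, a ≠ 1 → Subgroup.centralizer ({a} : Set G) ≤ A) :
    Nat.Coprime (Nat.card A) A.index := by
  apply Nat.coprime_of_dvd
  intro p hp hpA hpi
  haveI : Fact p.Prime := ⟨hp⟩
  obtain ⟨q, hq⟩ := exists_prime_orderOf_dvd_card' p hpA
  have hq1 : (q : G) ≠ 1 := by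
    intro h
    have : q = 1 := Subtype.ext h
    rw [this, orderOf_one] at hq
    exact hp.one_lt.ne hq
  have hqG : orderOf (q : G) = p := by rw [Subgroup.orderOf_coe, hq]
  have hQ : IsPGroup p (Subgroup.zpowers (q : G)) := by
    rw [IsPGroup.iff_card, Nat.card_zpowers, hqG]
    exact ⟨1, (pow_one p).symm⟩
  obtain ⟨P, hQP⟩ := hQ.exists_le_sylow
  have hqP : (q : G) ∈ (P : Subgroup G) := hQP (Subgroup.mem_zpowers _)
  haveI : Nontrivial (P : Subgroup G) := ⟨⟨⟨(q : G), hqP⟩, 1, fun h => hq1 (congrArg Subtype.val h)⟩⟩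
  haveI := P.2.center_nontrivial
  obtain ⟨z, hz⟩ := exists_ne (1 : Subgroup.center (P : Subgroup G))
  have hz1 : ((z : (P : Subgroup G)) : G) ≠ 1 := by
    intro h
    apply hz
    apply Subtype.ext
    apply Subtype.ext
    exact h
  have hzc : ∀ y : (P : Subgroup G), ((z : (P : Subgroup G)) : G) * (y : G)
      = (y : G) * ((z : (P : Subgroup G)) : G) := by
    intro y
    have := (Subgroup.mem_center_iff.mp z.2 y)
    have h2 := congrArg Subtype.val this
    simpa using h2.symm
  have hzA : ((z : (P : Subgroup G)) : G) ∈ A := by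
    apply hC (q : G) q.2 hq1
    rw [mem_cent]
    exact (hzc ⟨(q : G), hqP⟩).symm
  have hPA : (P : Subgroup G) ≤ A := by
    intro y hy
    apply hC _ hzA hz1
    rw [mem_cent]
    exact hzc ⟨y, hy⟩
  have hdvd : A.index ∣ (P : Subgroup G).index := Subgroup.index_dvd_of_le hPA
  exact P.not_dvd_index (hpi.trans hdvd)

end Cfsg.Agent.Lib.H8
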