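import Cfsg.Agent.Lib.H1.FpfNilpotent
import Cfsg.Agent.Lib.H8.CAGroupC

/-!
# Thompson's theorem for Frobenius kernels given by the centralizer condition (helper8)

If `A` is a proper normal subgroup of a finite group `L` containing the centralizers of its
non-identity elements, then `A` is nilpotent.
-/

set_option autoImplicit false

namespace Cfsg.Agent.Lib.H8

universe u

theorem nilpotent_of_kernel_type {L : Type u} [Group L] [Finite L] (A : Subgroup L) [A.Normal]
    (hA : A ≠ ⊤)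
    (hC : ∀ a ∈ A, a ≠ 1 → Subgroup.centralizer ({a} : Set L) ≤ A) :
    Group.IsNilpotent A := by
  have hcop := coprime_of_kernel A hC
  have hidx1 : A.index ≠ 1 := fun h => hA (Subgroup.index_eq_one.mp h)
  obtain ⟨p, hp, hpd⟩ := Nat.exists_prime_and_dvd hidx1
  haveI : Fact p.Prime := ⟨hp⟩
  have hpL : p ∣ Nat.card L := hpd.trans (Subgroup.index_dvd_card A)
  obtain ⟨y, hy⟩ := exists_prime_orderOf_dvd_card' p hpL
  have hyA : y ∉ A := by
    intro hmem
    have h1 : orderOf (⟨y, hmem⟩ : A) ∣ Nat.card A := orderOf_dvd_natCard _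
    have h2 : orderOf (⟨y, hmem⟩ : A) = p := by
      rw [← hy, ← Subgroup.orderOf_coe]
    rw [h2] at h1
    have h3 : p ∣ Nat.gcd (Nat.card A) A.index := Nat.dvd_gcd h1 hpd
    rw [hcop.gcd_eq_one] at h3
    exact hp.one_lt.ne' (Nat.dvd_one.mp h3)
  let φ : A ≃* A := MulAut.conjNormal y
  have hφ : Cfsg.Agent.Lib.H1.Fpf φ := by
    intro a ha
    by_contra ha1
    apply hyA
    have ha1' : (a : L) ≠ 1 := fun h => ha1 (Subtype.ext h)
    apply hC (a : L) a.2 ha1'
    rw [Subgroup.mem_centralizer_singleton_iff]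
    have h1 : y * (a : L) * y⁻¹ = (a : L) := by
      have := congrArg Subtype.val ha
      simpa [φ] using this
    calc y * (a : L) = (y * (a : L) * y⁻¹) * y := by group
      _ = (a : L) * y := by rw [h1]
  have hφp : φ ^ p = 1 := by
    show (MulAut.conjNormal y : MulAut A) ^ p = 1
    rw [← map_pow, ← hy, pow_orderOf_eq_one, map_one]
  exact Cfsg.Agent.Lib.H1.fpf_prime_nilpotent hp (Nat.card A) A rfl φ hφ hφp

/-- Subgroup version: `H ⊴ L`, `H < L`, `C_L(h) ≤ H` for `1 ≠ h ∈ H` ⇒ `H` nilpotent. -/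
theorem nilpotent_of_frobenius_kernel {G : Type u} [Group G] [Finite G] (H L : Subgroup G)
    (hHL : H < L) (hn : ∀ x ∈ L, ∀ h ∈ H, x * h * x⁻¹ ∈ H)
    (hfrob : ∀ h ∈ H, h ≠ 1 → L ⊓ Subgroup.centralizer ({h} : Set G) ≤ H) :
    Group.IsNilpotent H := by
  haveI : (H.subgroupOf L).Normal := by
    constructor
    intro a ha x
    rw [Subgroup.mem_subgroupOf] at ha ⊢
    exact hn x x.2 a ha
  have hne : H.subgroupOf L ≠ ⊤ := by
    intro h
    rw [Subgroup.subgroupOf_eq_top] at h
    exact hHL.not_ge h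
  have hC : ∀ a ∈ H.subgroupOf L, a ≠ 1 →
      Subgroup.centralizer ({a} : Set L) ≤ H.subgroupOf L := by
    intro a ha ha1 x hx
    rw [Subgroup.mem_subgroupOf] at ha ⊢
    have ha1' : (a : G) ≠ 1 := fun h => ha1 (Subtype.ext h)
    apply hfrob (a : G) ha ha1'
    refine Subgroup.mem_inf.mpr ⟨x.2, ?_⟩
    rw [Subgroup.mem_centralizer_singleton_iff] at hx ⊢
    have := congrArg Subtype.val hx
    simpa using this
  have hnil := nilpotent_of_kernel_type (H.subgroupOf L) hne hC
  exact Group.nilpotent_of_mulEquiv (Subgroup.subgroupOfEquivOfLe hHL.le)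

end Cfsg.Agent.Lib.H8
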