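import Mathlib
import Cfsg.Prelude.Def_OddOrderChar
import Cfsg.Agent.Lib.L0.CharInner
import Cfsg.Agent.Lib.L0.CharBasic
import Cfsg.Agent.Lib.L0.CharOps
import Cfsg.Agent.Lib.H8.GenChar
import Cfsg.Agent.Lib.H8.Coherence

/-!
# Coherence systems `(S, τ, R)` (Peterfalvi §5)

Basic consequences of `Cfsg.IsCoherenceSystem`: finiteness of `S`, `|R χ| = 2⟨χ,χ⟩`,
the decomposition of `τ (φ - ψ)` along `R φ ∪ R ψ` with coefficients 0 or 1 on `R φ` and 0 or -1 on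
`R ψ` (`coh_decomp`), and orthogonality of `τ (φ - ψ)` to `R ρ` for the other `ρ` (`coh_orth`).
-/

set_option autoImplicit false

namespace Cfsg.Agent.Lib.H8

open Cfsg Cfsg.Agent.Lib.L0

theorem conjFun_apply {X : Type*} (χ : X → ℂ) (x : X) :
    conjFun χ x = (starRingEnd ℂ) (χ x) := rfl

theorem conjFun_conjFun {X : Type*} (χ : X → ℂ) : conjFun (conjFun χ) = χ := by
  funext x
  simp [conjFun_apply]

theorem int_sum_sq {ι : Type*} (s : Finset ι) (p : ι → ℤ) (n : ℤ) (h1 : ∑ i ∈ s, p i = n)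
    (h2 : ∑ i ∈ s, p i ^ 2 ≤ n) : (∀ i ∈ s, p i ^ 2 = p i) ∧ ∑ i ∈ s, p i ^ 2 = n := by
  have hnn : ∀ i ∈ s, 0 ≤ p i ^ 2 - p i := fun i _ => by
    have := Int.le_self_sq (p i)
    linarith
  have hsum : ∑ i ∈ s, (p i ^ 2 - p i) ≤ 0 := by
    rw [Finset.sum_sub_distrib, h1]; linarith
  have hsum0 : ∑ i ∈ s, (p i ^ 2 - p i) = 0 :=
    le_antisymm hsum (Finset.sum_nonneg hnn)
  have hz := (Finset.sum_eq_zero_iff_of_nonneg hnn).mp hsum0
  refine ⟨fun i hi => by have := hz i hi; linarith, ?_⟩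
  rw [Finset.sum_sub_distrib, h1] at hsum0
  linarith

section
variable {G : Type*} [Group G] [Fintype G]

theorem classInner_conjFun (φ ψ : G → ℂ) :
    Cfsg.classInner (conjFun φ) (conjFun ψ) = (starRingEnd ℂ) (Cfsg.classInner φ ψ) := by
  simp only [Cfsg.classInner, conjFun_apply, map_mul, map_inv₀, map_sum, Complex.conj_natCast]

/-- `⟨∑ p α • α, f⟩ = ∑ p α * q α` when `⟨f, α⟩ = q α` are integers. -/
theorem classInner_sum_zsmul_of_coeff (Rr : Finset (G → ℂ)) (p : (G → ℂ) → ℤ) (f : G → ℂ)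
    (q : (G → ℂ) → ℤ) (hq : ∀ α ∈ Rr, Cfsg.classInner f α = (q α : ℂ)) :
    Cfsg.classInner (∑ α ∈ Rr, p α • α) f = ((∑ α ∈ Rr, p α * q α : ℤ) : ℂ) := by
  rw [classInner_sum_left]
  push_cast
  apply Finset.sum_congr rfl
  intro α hα
  rw [classInner_zsmul_left, ← classInner_conj_symm, hq α hα, map_intCast]

/-- Coefficient extraction along an orthonormal family. -/
theorem classInner_sum_zsmul_orthonormal (Rr : Finset (G → ℂ))
    (horth : ∀ α ∈ Rr, ∀ β ∈ Rr, Cfsg.classInner α β = 0 ∨ α = β)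
    (hnorm : ∀ α ∈ Rr, Cfsg.classInner α α = 1) (p : (G → ℂ) → ℤ) {α : G → ℂ} (hα : α ∈ Rr) :
    Cfsg.classInner (∑ β ∈ Rr, p β • β) α = (p α : ℂ) := by
  classical
  rw [classInner_sum_left, Finset.sum_eq_single α]
  · rw [classInner_zsmul_left, hnorm α hα, mul_one]
  · intro β hβ hβα
    rw [classInner_zsmul_left]
    rcases horth β hβ α hα with h | h
    · rw [h, mul_zero]
    · exact absurd h hβα
  · intro h; exact absurd hα h

end

section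
variable {L : Type*} [Group L] [Fintype L] {G : Type*} [Group G] [Fintype G]
  {S : Set (L → ℂ)} {τ : (L → ℂ) → (G → ℂ)} {R : (L → ℂ) → Finset (G → ℂ)}

theorem coh_ne_zero (hS : Cfsg.IsCoherenceSystem S τ R) {χ : L → ℂ} (hχ : χ ∈ S) : χ ≠ 0 := by
  rintro rfl
  apply hS.conj_ne 0 hχ
  funext x
  simp [conjFun_apply]

theorem coh_norm_ne_zero (hS : Cfsg.IsCoherenceSystem S τ R) {χ : L → ℂ} (hχ : χ ∈ S) :
    Cfsg.classInner χ χ ≠ 0 :=
  fun h => coh_ne_zero hS hχ (classInner_self_eq_zero h)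

theorem coh_finite (hS : Cfsg.IsCoherenceSystem S τ R) : S.Finite := by
  classical
  apply LinearIndependent.set_finite_of_isNoetherian (R := ℂ)
  rw [linearIndependent_iff']
  intro s g hg i hi
  have h1 : Cfsg.classInner (∑ j ∈ s, g j • (j : L → ℂ)) (i : L → ℂ) = 0 := by
    rw [hg, classInner_zero_left]
  rw [classInner_sum_left, Finset.sum_eq_single i] at h1
  · rw [classInner_smul_left] at h1
    rcases mul_eq_zero.mp h1 with h | h
    · exact h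
    · exact absurd h (coh_norm_ne_zero hS i.2)
  · intro j _ hji
    rw [classInner_smul_left, hS.orthogonal j j.2 i i.2 (fun h => hji (Subtype.ext h)), mul_zero]
  · intro h; exact absurd hi h

theorem coh_conj_apply_one (hS : Cfsg.IsCoherenceSystem S τ R) {χ : L → ℂ} (hχ : χ ∈ S) :
    conjFun χ 1 = χ 1 := by
  obtain ⟨m, hm⟩ := isCharacter_apply_one (hS.isCharacter χ hχ)
  rw [conjFun_apply, hm, Complex.conj_natCast]

theorem coh_sub_conj_mem (hS : Cfsg.IsCoherenceSystem S τ R) {χ : L → ℂ} (hχ : χ ∈ S) :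
    χ - conjFun χ ∈ zspanOn S ({1}ᶜ : Set L) := by
  rw [mem_zspanOn_compl_one]
  refine ⟨sub_mem_zspan (subset_zspan _ hχ) (subset_zspan _ (hS.conj_mem χ hχ)), ?_⟩
  rw [Pi.sub_apply, coh_conj_apply_one hS hχ, sub_self]

theorem coh_sub_conj_ne_zero (hS : Cfsg.IsCoherenceSystem S τ R) {χ : L → ℂ} (hχ : χ ∈ S) :
    χ - conjFun χ ≠ 0 := fun h => hS.conj_ne χ hχ (sub_eq_zero.mp h).symm

theorem coh_norm_conj (hS : Cfsg.IsCoherenceSystem S τ R) (n : (L → ℂ) → ℕ)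
    (hn : ∀ φ ∈ S, Cfsg.classInner φ φ = (n φ : ℂ)) {χ : L → ℂ} (hχ : χ ∈ S) :
    n (conjFun χ) = n χ := by
  have h1 := hn _ (hS.conj_mem χ hχ)
  rw [classInner_conjFun, hn χ hχ, Complex.conj_natCast] at h1
  exact_mod_cast h1.symm

theorem coh_orthonormal' (hS : Cfsg.IsCoherenceSystem S τ R) {χ : L → ℂ} (hχ : χ ∈ S) :
    (∀ α ∈ R χ, ∀ β ∈ R χ, Cfsg.classInner α β = 0 ∨ α = β) ∧
      ∀ α ∈ R χ, Cfsg.classInner α α = 1 := by
  constructor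
  · intro α hα β hβ
    by_cases h : α = β
    · exact Or.inr h
    · left
      rw [hS.orthonormal χ hχ α hα β hβ, if_neg h]
  · intro α hα
    rw [hS.orthonormal χ hχ α hα α hα, if_pos rfl]

/-- `|R χ| = 2⟨χ,χ⟩`. -/
theorem coh_card_R (hS : Cfsg.IsCoherenceSystem S τ R) (n : (L → ℂ) → ℕ)
    (hn : ∀ φ ∈ S, Cfsg.classInner φ φ = (n φ : ℂ)) {χ : L → ℂ} (hχ : χ ∈ S) :
    (R χ).card = 2 * n χ := by
  classical
  have hmem := coh_sub_conj_mem hS hχ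
  have h1 := lio_inner hS.isometry hmem hmem
  rw [hS.sum_eq χ hχ] at h1
  have hone : ∑ α ∈ R χ, α = ∑ α ∈ R χ, (fun _ => (1 : ℤ)) α • α := by
    apply Finset.sum_congr rfl
    intro α _
    rw [one_smul]
  have h2 : Cfsg.classInner (∑ α ∈ R χ, α) (∑ α ∈ R χ, α) = ((R χ).card : ℂ) := by
    conv_lhs => rw [hone]
    rw [classInner_sum_zsmul_of_coeff (R χ) (fun _ => 1) _ (fun _ => 1)]
    · simp
    · intro α hα
      rw [← hone]
      have := classInner_sum_zsmul_orthonormal (R χ) (coh_orthonormal' hS hχ).1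
        (coh_orthonormal' hS hχ).2 (fun _ => 1) hα
      rw [← hone] at this
      rw [this]
  rw [h2] at h1
  have hχc := hS.conj_mem χ hχ
  have hne : χ ≠ conjFun χ := fun h => hS.conj_ne χ hχ h.symm
  rw [classInner_sub_left, classInner_sub_right, classInner_sub_right, hn χ hχ,
    hS.orthogonal χ hχ _ hχc hne, hS.orthogonal _ hχc χ hχ (Ne.symm hne), hn _ hχc,
    coh_norm_conj hS n hn hχ] at h1
  have h3 : ((R χ).card : ℂ) = ((2 * n χ : ℕ) : ℂ) := by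
    rw [h1]; push_cast; ring
  exact_mod_cast h3

theorem conjFun_injective {X : Type*} {φ ψ : X → ℂ} (h : conjFun φ = conjFun ψ) : φ = ψ := by
  rw [← conjFun_conjFun φ, h, conjFun_conjFun]

/-- Decomposition of `τ (φ - ψ)` along `R φ ∪ R ψ`. -/
theorem coh_decomp (hS : Cfsg.IsCoherenceSystem S τ R) (n : (L → ℂ) → ℕ)
    (hn : ∀ φ ∈ S, Cfsg.classInner φ φ = (n φ : ℂ)) {φ ψ : L → ℂ} (hφ : φ ∈ S) (hψ : ψ ∈ S)
    (h1 : ψ ≠ φ) (h2 : ψ ≠ conjFun φ) (hdiff : φ - ψ ∈ zspanOn S ({1}ᶜ : Set L)) :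
    ∃ a : (G → ℂ) → ℤ,
      (∀ α ∈ R φ ∪ R ψ, Cfsg.classInner (τ (φ - ψ)) α = (a α : ℂ)) ∧
      (∀ α ∈ R φ, a α ^ 2 = a α) ∧ ∑ α ∈ R φ, a α = (n φ : ℤ) ∧
      (∀ β ∈ R ψ, a β ^ 2 = -a β) ∧ ∑ β ∈ R ψ, a β = -(n ψ : ℤ) ∧
      Disjoint (R φ) (R ψ) ∧
      τ (φ - ψ) = ∑ γ ∈ R φ ∪ R ψ, a γ • γ := by
  classical
  have hτ := hS.isometry
  obtain ⟨f, hf⟩ : ∃ f : G → ℂ, f = τ (φ - ψ) := ⟨_, rfl⟩
  rw [← hf]
  have hfg : Cfsg.IsGeneralizedCharacter G f := by rw [hf]; exact lio_genChar hτ hdiff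
  have hvirt : ∀ α ∈ R φ ∪ R ψ, Cfsg.IsGeneralizedCharacter G α := by
    intro α hα
    rcases Finset.mem_union.mp hα with h | h
    · exact hS.virtual φ hφ α h
    · exact hS.virtual ψ hψ α h
  have hint : ∀ α ∈ R φ ∪ R ψ, ∃ c : ℤ, Cfsg.classInner f α = (c : ℂ) :=
    fun α hα => genChar_classInner_int hfg (hvirt α hα)
  choose! a ha using hint
  have hφc := hS.conj_mem φ hφ
  have hψc := hS.conj_mem ψ hψ
  have hφψ : Cfsg.classInner φ ψ = 0 := hS.orthogonal φ hφ ψ hψ (Ne.symm h1)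
  have hψφ : Cfsg.classInner ψ φ = 0 := hS.orthogonal ψ hψ φ hφ h1
  have hne3 : φ ≠ conjFun ψ := fun h => h2 (by rw [h, conjFun_conjFun])
  have hφψbar : Cfsg.classInner φ (conjFun ψ) = 0 := hS.orthogonal φ hφ _ hψc hne3
  have hψφbar : Cfsg.classInner ψ (conjFun φ) = 0 := hS.orthogonal ψ hψ _ hφc h2
  have hφφbar : Cfsg.classInner φ (conjFun φ) = 0 :=
    hS.orthogonal φ hφ _ hφc (fun h => hS.conj_ne φ hφ h.symm)
  have hψψbar : Cfsg.classInner ψ (conjFun ψ) = 0 :=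
    hS.orthogonal ψ hψ _ hψc (fun h => hS.conj_ne ψ hψ h.symm)
  have hRorth : ∀ α ∈ R φ, ∀ β ∈ R ψ, Cfsg.classInner α β = 0 :=
    hS.disjoint ψ hψ φ hφ hφψ hφψbar
  have hdisj : Disjoint (R φ) (R ψ) := by
    rw [Finset.disjoint_left]
    intro α hα hα'
    have h0 := hRorth α hα α hα'
    rw [(coh_orthonormal' hS hφ).2 α hα] at h0
    exact one_ne_zero h0
  have horthU : ∀ α ∈ R φ ∪ R ψ, ∀ β ∈ R φ ∪ R ψ,
      Cfsg.classInner ((fun γ : G → ℂ => γ) α) ((fun γ : G → ℂ => γ) β) =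
        if α = β then 1 else 0 := by
    intro α hα β hβ
    show Cfsg.classInner α β = if α = β then 1 else 0
    rcases Finset.mem_union.mp hα with hα' | hα' <;> rcases Finset.mem_union.mp hβ with hβ' | hβ'
    · exact hS.orthonormal φ hφ α hα' β hβ'
    · have hne : α ≠ β := fun h => Finset.disjoint_left.mp hdisj hα' (h ▸ hβ')
      rw [hRorth α hα' β hβ', if_neg hne]
    · have hne : α ≠ β := fun h => Finset.disjoint_left.mp hdisj hβ' (h ▸ hα')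
      rw [← classInner_conj_symm, hRorth β hβ' α hα', map_zero, if_neg hne]
    · exact hS.orthonormal ψ hψ α hα' β hβ'
  have hnf : Cfsg.classInner f f = (((n φ : ℤ) + (n ψ : ℤ) : ℤ) : ℂ) := by
    rw [hf, lio_inner hτ hdiff hdiff, classInner_sub_left, classInner_sub_right,
      classInner_sub_right, hn φ hφ, hn ψ hψ, hφψ, hψφ]
    push_cast; ring
  have hb := bessel_int (R φ ∪ R ψ) (fun γ : G → ℂ => γ) horthU f a ha _ hnf
  -- the two sums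
  have hsumφ : ∑ α ∈ R φ, a α = (n φ : ℤ) := by
    have h3 := lio_inner hτ hdiff (coh_sub_conj_mem hS hφ)
    rw [← hf, hS.sum_eq φ hφ, classInner_sum_right] at h3
    rw [Finset.sum_congr rfl (fun α hα => ha α (Finset.mem_union_left _ hα))] at h3
    rw [classInner_sub_left, classInner_sub_right, classInner_sub_right, hn φ hφ, hφφbar, hψφ,
      hψφbar] at h3
    have h4 : ((∑ α ∈ R φ, a α : ℤ) : ℂ) = ((n φ : ℤ) : ℂ) := by
      push_cast; rw [h3]; ring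
    exact_mod_cast h4
  have hsumψ : ∑ β ∈ R ψ, a β = -(n ψ : ℤ) := by
    have h3 := lio_inner hτ hdiff (coh_sub_conj_mem hS hψ)
    rw [← hf, hS.sum_eq ψ hψ, classInner_sum_right] at h3
    rw [Finset.sum_congr rfl (fun α hα => ha α (Finset.mem_union_right _ hα))] at h3
    rw [classInner_sub_left, classInner_sub_right, classInner_sub_right, hn ψ hψ, hφψ, hφψbar,
      hψψbar] at h3
    have h4 : ((∑ β ∈ R ψ, a β : ℤ) : ℂ) = ((-(n ψ : ℤ) : ℤ) : ℂ) := by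
      push_cast; rw [h3]; ring
    exact_mod_cast h4
  have hunion : ∑ γ ∈ R φ ∪ R ψ, a γ ^ 2 = ∑ α ∈ R φ, a α ^ 2 + ∑ β ∈ R ψ, a β ^ 2 :=
    Finset.sum_union hdisj
  have hA : (n φ : ℤ) ≤ ∑ α ∈ R φ, a α ^ 2 := by
    rw [← hsumφ]
    exact Finset.sum_le_sum (fun α _ => Int.le_self_sq (a α))
  have hB : (n ψ : ℤ) ≤ ∑ β ∈ R ψ, a β ^ 2 := by
    have h3 : (n ψ : ℤ) = ∑ β ∈ R ψ, -a β := by
      rw [Finset.sum_neg_distrib, hsumψ, neg_neg]
    rw [h3]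
    apply Finset.sum_le_sum
    intro β _
    have := Int.le_self_sq (-a β)
    rw [neg_sq] at this
    exact this
  have hle := hb.1
  rw [hunion] at hle
  have hAeq : ∑ α ∈ R φ, a α ^ 2 ≤ (n φ : ℤ) := by linarith
  have hBeq : ∑ β ∈ R ψ, a β ^ 2 ≤ (n ψ : ℤ) := by linarith
  have hφsq := (int_sum_sq (R φ) a (n φ) hsumφ hAeq)
  have hψsq := (int_sum_sq (R ψ) (fun β => -a β) (n ψ)
    (by rw [Finset.sum_neg_distrib, hsumψ, neg_neg]) (by simpa [neg_sq] using hBeq))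
  have heq : ∑ γ ∈ R φ ∪ R ψ, a γ ^ 2 = (n φ : ℤ) + (n ψ : ℤ) := by
    rw [hunion]; linarith
  refine ⟨a, ha, hφsq.1, hsumφ, ?_, hsumψ, hdisj, hb.2 heq⟩
  intro β hβ
  have := hψsq.1 β hβ
  simpa [neg_sq] using this

/-- `τ (φ - ψ)` is orthogonal to `R ρ` for `ρ` different from `φ, ψ` and their conjugates. -/
theorem coh_orth (hS : Cfsg.IsCoherenceSystem S τ R) (n : (L → ℂ) → ℕ)
    (hn : ∀ φ ∈ S, Cfsg.classInner φ φ = (n φ : ℂ)) {φ ψ ρ : L → ℂ} (hφ : φ ∈ S) (hψ : ψ ∈ S)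
    (hρ : ρ ∈ S) (h1 : ψ ≠ φ) (h2 : ψ ≠ conjFun φ) (hdiff : φ - ψ ∈ zspanOn S ({1}ᶜ : Set L))
    (h3 : ρ ≠ φ) (h4 : ρ ≠ conjFun φ) (h5 : ρ ≠ ψ) (h6 : ρ ≠ conjFun ψ) :
    ∀ α ∈ R ρ, Cfsg.classInner (τ (φ - ψ)) α = 0 := by
  classical
  obtain ⟨a, -, -, -, -, -, -, hdec⟩ := coh_decomp hS n hn hφ hψ h1 h2 hdiff
  intro α hα
  rw [hdec, classInner_sum_left]
  apply Finset.sum_eq_zero
  intro γ hγ
  rw [classInner_zsmul_left]
  have hρc := hS.conj_mem ρ hρ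
  rcases Finset.mem_union.mp hγ with h | h
  · have e1 : Cfsg.classInner φ ρ = 0 := hS.orthogonal φ hφ ρ hρ (Ne.symm h3)
    have e2 : Cfsg.classInner φ (conjFun ρ) = 0 :=
      hS.orthogonal φ hφ _ hρc (fun h' => h4 (by rw [h', conjFun_conjFun]))
    rw [hS.disjoint ρ hρ φ hφ e1 e2 γ h α hα, mul_zero]
  · have e1 : Cfsg.classInner ψ ρ = 0 := hS.orthogonal ψ hψ ρ hρ (Ne.symm h5)
    have e2 : Cfsg.classInner ψ (conjFun ρ) = 0 :=
      hS.orthogonal ψ hψ _ hρc (fun h' => h6 (by rw [h', conjFun_conjFun]))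
    rw [hS.disjoint ρ hρ ψ hψ e1 e2 γ h α hα, mul_zero]

end

section Tau1
variable {L : Type*} [Group L] [Fintype L] {G : Type*} [Group G] [Fintype G]
  {S : Set (L → ℂ)} {τ : (L → ℂ) → (G → ℂ)} {R : (L → ℂ) → Finset (G → ℂ)}

theorem coh_degree_ne_zero (hS : Cfsg.IsCoherenceSystem S τ R) {φ : L → ℂ} (hφ : φ ∈ S) {m : ℕ}
    (hm : φ 1 = (m : ℂ)) : m ≠ 0 := by
  rintro rfl
  apply coh_ne_zero hS hφ
  funext g
  have h1 := isCharacter_norm_le (hS.isCharacter φ hφ) g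
  rw [hm] at h1
  simpa using h1

theorem coh_norm_pos (hS : Cfsg.IsCoherenceSystem S τ R) {φ : L → ℂ} (hφ : φ ∈ S) {m : ℕ}
    (hm : Cfsg.classInner φ φ = (m : ℂ)) : 0 < m := by
  apply Nat.pos_of_ne_zero
  rintro rfl
  exact coh_norm_ne_zero hS hφ (by simpa using hm)

/-- If `τ₁` extends `τ` coherently on a conjugation-closed subset `S₁`, then `τ₁ ξ` lies in the
span of `R ξ`. -/
theorem coh_tau1_decomp (hS : Cfsg.IsCoherenceSystem S τ R) (n : (L → ℂ) → ℕ)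
    (hn : ∀ φ ∈ S, Cfsg.classInner φ φ = (n φ : ℂ)) (S₁ : Set (L → ℂ)) (hS₁ : S₁ ⊆ S)
    (τ₁ : (L → ℂ) → (G → ℂ)) (hτ₁ : Cfsg.IsLinearIsometryOn (zspan S₁) τ₁)
    (hagree : ∀ α ∈ zspanOn S₁ ({1}ᶜ : Set L), τ₁ α = τ α) {ξ : L → ℂ} (hξ : ξ ∈ S₁)
    (hξc : conjFun ξ ∈ S₁) :
    ∃ u : (G → ℂ) → ℤ, τ₁ ξ = ∑ β ∈ R ξ, u β • β := by
  classical
  have hξS := hS₁ hξ
  have hξcS := hS₁ hξc
  obtain ⟨U, hU⟩ : ∃ U : G → ℂ, U = τ₁ ξ := ⟨_, rfl⟩
  obtain ⟨V, hV⟩ : ∃ V : G → ℂ, V = τ₁ (conjFun ξ) := ⟨_, rfl⟩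
  rw [← hU]
  have hUg : Cfsg.IsGeneralizedCharacter G U := by
    rw [hU]; exact lio_genChar hτ₁ (subset_zspan _ hξ)
  have hVg : Cfsg.IsGeneralizedCharacter G V := by
    rw [hV]; exact lio_genChar hτ₁ (subset_zspan _ hξc)
  have hdiffmem : ξ - conjFun ξ ∈ zspanOn S₁ ({1}ᶜ : Set L) := by
    rw [mem_zspanOn_compl_one]
    refine ⟨sub_mem_zspan (subset_zspan _ hξ) (subset_zspan _ hξc), ?_⟩
    rw [Pi.sub_apply, coh_conj_apply_one hS hξS, sub_self]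
  have hUV : U - V = ∑ β ∈ R ξ, β := by
    rw [hU, hV, ← lio_sub hτ₁ (isZClosed_zspan S₁) (subset_zspan _ hξ) (subset_zspan _ hξc),
      hagree _ hdiffmem, hS.sum_eq ξ hξS]
  have hR := coh_orthonormal' hS hξS
  have huint : ∀ β ∈ R ξ, ∃ c : ℤ, Cfsg.classInner U β = (c : ℂ) :=
    fun β hβ => genChar_classInner_int hUg (hS.virtual ξ hξS β hβ)
  have hvint : ∀ β ∈ R ξ, ∃ c : ℤ, Cfsg.classInner V β = (c : ℂ) :=
    fun β hβ => genChar_classInner_int hVg (hS.virtual ξ hξS β hβ)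
  choose! u hu using huint
  choose! v hv using hvint
  have hone : ∑ β ∈ R ξ, β = ∑ β ∈ R ξ, (fun _ => (1 : ℤ)) β • β := by
    apply Finset.sum_congr rfl
    intro β _
    rw [one_smul]
  have huv : ∀ β ∈ R ξ, u β = v β + 1 := by
    intro β hβ
    have h1 : Cfsg.classInner (U - V) β = 1 := by
      rw [hUV, hone, classInner_sum_zsmul_orthonormal (R ξ) hR.1 hR.2 (fun _ => 1) hβ]
      simp
    rw [classInner_sub_left, hu β hβ, hv β hβ] at h1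
    have h2 : ((u β : ℤ) : ℂ) = ((v β + 1 : ℤ) : ℂ) := by
      push_cast; linear_combination h1
    exact_mod_cast h2
  have hnU : Cfsg.classInner U U = ((n ξ : ℤ) : ℂ) := by
    rw [hU, lio_inner hτ₁ (subset_zspan _ hξ) (subset_zspan _ hξ), hn ξ hξS]; simp
  have hnV : Cfsg.classInner V V = ((n ξ : ℤ) : ℂ) := by
    rw [hV, lio_inner hτ₁ (subset_zspan _ hξc) (subset_zspan _ hξc), hn _ hξcS,
      coh_norm_conj hS n hn hξS]; simp
  have horth : ∀ α ∈ R ξ, ∀ β ∈ R ξ,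
      Cfsg.classInner ((fun γ : G → ℂ => γ) α) ((fun γ : G → ℂ => γ) β) =
        if α = β then 1 else 0 := hS.orthonormal ξ hξS
  have bU := bessel_int (R ξ) (fun γ : G → ℂ => γ) horth U u hu _ hnU
  have bV := bessel_int (R ξ) (fun γ : G → ℂ => γ) horth V v hv _ hnV
  have hcard := coh_card_R hS n hn hξS
  have hge : ((R ξ).card : ℤ) ≤ ∑ β ∈ R ξ, (u β ^ 2 + v β ^ 2) := by
    rw [Finset.card_eq_sum_ones]
    push_cast
    apply Finset.sum_le_sum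
    intro β hβ
    rw [huv β hβ]
    have := Int.le_self_sq (-v β)
    rw [neg_sq] at this
    nlinarith
  rw [Finset.sum_add_distrib, hcard] at hge
  push_cast at hge
  have hueq : ∑ β ∈ R ξ, u β ^ 2 = (n ξ : ℤ) := by
    have := bU.1
    have := bV.1
    linarith
  exact ⟨u, bU.2 hueq⟩

/-- In the situation of `coh_tau1_decomp`, `τ₁ ξ` is orthogonal to `R χ` for `χ ∈ S` different
from `ξ` and its conjugate. -/
theorem coh_tau1_orth (hS : Cfsg.IsCoherenceSystem S τ R) (n : (L → ℂ) → ℕ)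
    (hn : ∀ φ ∈ S, Cfsg.classInner φ φ = (n φ : ℂ)) (S₁ : Set (L → ℂ)) (hS₁ : S₁ ⊆ S)
    (τ₁ : (L → ℂ) → (G → ℂ)) (hτ₁ : Cfsg.IsLinearIsometryOn (zspan S₁) τ₁)
    (hagree : ∀ α ∈ zspanOn S₁ ({1}ᶜ : Set L), τ₁ α = τ α) {ξ : L → ℂ} (hξ : ξ ∈ S₁)
    (hξc : conjFun ξ ∈ S₁) {χ : L → ℂ} (hχ : χ ∈ S) (h1 : ξ ≠ χ) (h2 : ξ ≠ conjFun χ) :
    ∀ α ∈ R χ, Cfsg.classInner (τ₁ ξ) α = 0 := by
  classical
  obtain ⟨u, hu⟩ := coh_tau1_decomp hS n hn S₁ hS₁ τ₁ hτ₁ hagree hξ hξc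
  intro α hα
  rw [hu, classInner_sum_left]
  apply Finset.sum_eq_zero
  intro β hβ
  have hξS := hS₁ hξ
  have e1 : Cfsg.classInner ξ χ = 0 := hS.orthogonal ξ hξS χ hχ h1
  have e2 : Cfsg.classInner ξ (conjFun χ) = 0 :=
    hS.orthogonal ξ hξS _ (hS.conj_mem χ hχ) h2
  rw [classInner_zsmul_left, hS.disjoint χ hχ ξ hξS e1 e2 β hβ α hα, mul_zero]

end Tau1

end Cfsg.Agent.Lib.H8
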