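import Mathlib
import Cfsg.Agent.Lib.H8.Coherence
import Cfsg.Agent.Lib.H8.CoherenceSystem
import Cfsg.Agent.Lib.H8.CohInduced
import Cfsg.Agent.S1516

/-!
# Extending coherence by adding pairs `χ, conj χ` (iterating Peterfalvi (5.6) = S1516)
(helper8's library)
-/

set_option autoImplicit false

namespace Cfsg.Agent.Lib.H8

open Cfsg Cfsg.Agent.Lib.L0 Cfsg.Agent.Lib.H24
open scoped ComplexConjugate

section
variable {L : Type*} [Group L] [Fintype L] {G : Type*} [Group G] [Fintype G]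

/-- A subset of a coherent set is coherent provided it carries a nonzero element vanishing off `A`. -/
theorem isCoherent_subset {T T' : Set (L → ℂ)} {A : Set L} {τ : (L → ℂ) → (G → ℂ)}
    (hTT' : T ⊆ T') (h : IsCoherent T' A τ) (hne : ∃ α ∈ zspanOn T A, α ≠ 0) :
    IsCoherent T A τ := by
  obtain ⟨-, τ₁, hτ₁, hag⟩ := h
  exact ⟨hne, τ₁, lio_mono hτ₁ (zspan_mono hTT'), fun α hα => hag α (zspanOn_mono hTT' A hα)⟩

/-- Iterating S1516: starting from a coherent conjugation-closed finite `S₀` containing `χ₁`, one may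
add any conjugation-closed finite `U ⊆ S` all of whose members `χ` satisfy `d χ₁ ∣ d χ` and
`2 d χ d χ₁ < N ≤ ∑_{S₀} d²/n`. -/
theorem coherent_union_of_bound {S : Set (L → ℂ)} {τ : (L → ℂ) → (G → ℂ)}
    {R : (L → ℂ) → Finset (G → ℂ)} (hS : IsCoherenceSystem S τ R) (d n : (L → ℂ) → ℕ)
    (hd : ∀ φ ∈ S, φ 1 = (d φ : ℂ)) (hn : ∀ φ ∈ S, classInner φ φ = (n φ : ℂ))
    (S₀ : Finset (L → ℂ)) (hS₀ : ↑S₀ ⊆ S) (hS₀c : ∀ φ ∈ S₀, conjFun φ ∈ S₀)
    (hcoh : IsCoherent (↑S₀ : Set (L → ℂ)) {1}ᶜ τ) (χ₁ : L → ℂ) (hχ₁ : χ₁ ∈ S₀) (N : ℝ)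
    (hN : N ≤ ∑ φ ∈ S₀, (d φ : ℝ) ^ 2 / (n φ : ℝ)) :
    ∀ (k : ℕ) (U : Finset (L → ℂ)), U.card ≤ k → ↑U ⊆ S → (∀ φ ∈ U, conjFun φ ∈ U) →
      (∀ φ ∈ U, d χ₁ ∣ d φ ∧ (2 * d φ * d χ₁ : ℝ) < N) →
      IsCoherent (↑(S₀ ∪ U) : Set (L → ℂ)) {1}ᶜ τ := by
  classical
  intro k
  induction k with
  | zero =>
    intro U hU _ _ _
    have : U = ∅ := Finset.card_eq_zero.mp (Nat.le_zero.mp hU)
    rw [this, Finset.union_empty]
    exact hcoh
  | succ k ih =>
    intro U hUk hUS hUc hUb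
    by_cases hsub : U ⊆ S₀
    · rw [Finset.union_eq_left.mpr hsub]
      exact hcoh
    · obtain ⟨χ, hχU, hχS₀⟩ := Finset.not_subset.mp hsub
      have hχS : χ ∈ S := hUS hχU
      have hcχ : conjFun χ ∈ U := hUc χ hχU
      have hcχS₀ : conjFun χ ∉ S₀ := by
        intro h
        apply hχS₀
        have := hS₀c _ h
        rwa [conjFun_conjFun] at this
      obtain ⟨U', hU'⟩ : ∃ U' : Finset (L → ℂ), U' = (U.erase χ).erase (conjFun χ) := ⟨_, rfl⟩
      have hU'mem : ∀ φ, φ ∈ U' ↔ φ ≠ conjFun χ ∧ φ ≠ χ ∧ φ ∈ U := by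
        intro φ; rw [hU', Finset.mem_erase, Finset.mem_erase]
      have hU'sub : U' ⊆ U := fun φ hφ => ((hU'mem φ).mp hφ).2.2
      have hU'card : U'.card ≤ k := by
        have h1 : U'.card ≤ (U.erase χ).card := by rw [hU']; exact Finset.card_erase_le
        have h2 : (U.erase χ).card = U.card - 1 := Finset.card_erase_of_mem hχU
        have h3 : 0 < U.card := Finset.card_pos.mpr ⟨χ, hχU⟩
        omega
      have hU'c : ∀ φ ∈ U', conjFun φ ∈ U' := by
        intro φ hφ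
        obtain ⟨h1, h2, h3⟩ := (hU'mem φ).mp hφ
        rw [hU'mem]
        refine ⟨fun h => h2 (conjFun_injective h), fun h => h1 ?_, hUc φ h3⟩
        rw [← h, conjFun_conjFun]
      have hcoh' := ih U' hU'card (fun φ hφ => hUS (hU'sub hφ)) hU'c
        (fun φ hφ => hUb φ (hU'sub hφ))
      have hχ1 : χ ∉ S₀ ∪ U' := by
        rw [Finset.mem_union, hU'mem]
        rintro (h | h)
        · exact hχS₀ h
        · exact h.2.1 rfl
      have hχ2 : conjFun χ ∉ S₀ ∪ U' := by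
        rw [Finset.mem_union, hU'mem]
        rintro (h | h)
        · exact hcχS₀ h
        · exact h.1 rfl
      have hS₁S : (↑(S₀ ∪ U') : Set (L → ℂ)) ⊆ S := by
        intro φ hφ
        rcases Finset.mem_union.mp hφ with h | h
        · exact hS₀ h
        · exact hUS (hU'sub h)
      have hS₁c : ∀ φ ∈ S₀ ∪ U', conjFun φ ∈ S₀ ∪ U' := by
        intro φ hφ
        rcases Finset.mem_union.mp hφ with h | h
        · exact Finset.mem_union_left _ (hS₀c φ h)
        · exact Finset.mem_union_right _ (hU'c φ h)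
      obtain ⟨hdvd, hlt⟩ := hUb χ hχU
      have hsum : ∑ φ ∈ S₀, (d φ : ℝ) ^ 2 / (n φ : ℝ) ≤ ∑ φ ∈ S₀ ∪ U', (d φ : ℝ) ^ 2 / (n φ : ℝ) :=
        Finset.sum_le_sum_of_subset_of_nonneg Finset.subset_union_left
          (fun φ _ _ => by positivity)
      have hres := Cfsg.Agent.S1516.result S τ R hS d n hd hn (S₀ ∪ U') hS₁S hS₁c hcoh' χ hχS hχ1 hχ2
        χ₁ (Finset.mem_union_left _ hχ₁) hdvd (lt_of_lt_of_le hlt (hN.trans hsum))
      have hset : (↑(S₀ ∪ U) : Set (L → ℂ)) = ↑(S₀ ∪ U') ∪ {χ, conjFun χ} := by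
        ext φ
        simp only [Finset.coe_union, Set.mem_union, Finset.mem_coe, Set.mem_insert_iff,
          Set.mem_singleton_iff, hU'mem]
        constructor
        · rintro (h | h)
          · exact Or.inl (Or.inl h)
          · by_cases h1 : φ = χ
            · exact Or.inr (Or.inl h1)
            · by_cases h2 : φ = conjFun χ
              · exact Or.inr (Or.inr h2)
              · exact Or.inl (Or.inr ⟨h2, h1, h⟩)
        · rintro ((h | h) | (h | h))
          · exact Or.inl h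
          · exact Or.inr h.2.2
          · exact Or.inr (h ▸ hχU)
          · exact Or.inr (h ▸ hcχ)
      rw [hset]
      exact hres

end

section induced
variable {L : Type*} [Group L] [Fintype L]

theorem conjFun_indFun (K : Subgroup L) (θ : ↥K → ℂ) :
    conjFun (indFun K θ) = indFun K (conjFun θ) := by
  funext g
  rw [conjFun_apply, indFun_apply, indFun_apply, map_mul, map_inv₀, Complex.conj_natCast, map_sum]
  congr 1
  refine Finset.sum_congr rfl fun x _ => ?_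
  by_cases h : x⁻¹ * g * x ∈ K
  · rw [extendByZero_apply_of_mem K θ h, extendByZero_apply_of_mem K (conjFun θ) h, conjFun_apply]
  · rw [extendByZero_apply_not_mem K θ h, extendByZero_apply_not_mem K (conjFun θ) h, map_zero]

theorem isIrrCharacter_conjFun {H : Type*} [Group H] [Fintype H] {θ : H → ℂ}
    (hθ : IsIrrCharacter H θ) : IsIrrCharacter H (conjFun θ) := by
  apply isIrrCharacter_of_classInner_self_eq_one (isCharacter_conj (isCharacter_of_irr hθ))
  have := classInner_conjFun θ θ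
  rw [irr_classInner_self hθ, map_one] at this
  exact this

theorem inducedIrrAbove_conj (K A : Subgroup L) {φ : L → ℂ} (hφ : φ ∈ inducedIrrAbove K A) :
    conjFun φ ∈ inducedIrrAbove K A := by
  classical
  haveI := Fintype.ofFinite ↥K
  obtain ⟨θ, hθ, hθ1, hθA, rfl⟩ := hφ
  refine ⟨conjFun θ, isIrrCharacter_conjFun hθ, ?_, ?_, conjFun_indFun K θ⟩
  · intro h
    apply hθ1
    have := congrArg conjFun h
    rw [conjFun_conjFun] at this
    rw [this]
    funext x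
    simp [conjFun_apply]
  · intro a ha
    rw [conjFun_apply, conjFun_apply, hθA a ha]

theorem inducedIrrAbove_subset_bot (K A : Subgroup L) :
    inducedIrrAbove K A ⊆ inducedIrrAbove K ⊥ := by
  rintro φ ⟨θ, hθ, hθ1, -, rfl⟩
  refine ⟨θ, hθ, hθ1, ?_, rfl⟩
  intro a ha
  have : a = 1 := Subtype.ext (Subgroup.mem_bot.mp ha)
  rw [this]

theorem inducedIrrAbove_mono (K : Subgroup L) {A B : Subgroup L} (hAB : A ≤ B) :
    inducedIrrAbove K B ⊆ inducedIrrAbove K A := by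
  rintro φ ⟨θ, hθ, hθ1, hθB, rfl⟩
  exact ⟨θ, hθ, hθ1, fun a ha => hθB a (hAB ha), rfl⟩

/-- A member of `S(A)` of degree `|L:K|`, when `K` is solvable and `K ≰ A`. -/
theorem exists_linear_induced (K A : Subgroup L) [A.Normal] (hsolv : Group.IsSolvable K)
    (hAK : ¬ K ≤ A) : ∃ χ₁ ∈ inducedIrrAbove K A, χ₁ 1 = (K.index : ℂ) := by
  haveI := hsolv
  have hne : A.subgroupOf K ≠ ⊤ := fun h => hAK (Subgroup.subgroupOf_eq_top.mp h)
  obtain ⟨f, hf1, hfA⟩ := exists_linear_char (A.subgroupOf K) hne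
  refine ⟨indFun K (fun k => (f k : ℂ)), ⟨fun k => (f k : ℂ), isIrrCharacter_of_hom f, ?_, ?_, rfl⟩, ?_⟩
  · intro h
    apply hf1
    ext k
    have := congrFun h k
    simpa using this
  · intro a ha
    show ((f a : ℂˣ) : ℂ) = ((f 1 : ℂˣ) : ℂ)
    rw [hfA a (Subgroup.mem_subgroupOf.mpr ha), map_one]
  · rw [indFun_one]
    show (K.index : ℂ) * ((f 1 : ℂˣ) : ℂ) = _
    rw [map_one, Units.val_one, mul_one]

end induced

section main
variable {L : Type*} [Group L] [Fintype L] {G : Type*} [Group G] [Fintype G]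

/-- Core of Peterfalvi (6.3): if `S(A)` is coherent then so is any conjugation-closed nonempty
`T ⊆ S` all of whose members have degree `|L:K| t` with `2 |L:K| t < |K:A| - 1`. -/
theorem coherent_of_degree_bound (K : Subgroup L) (hsolv : Group.IsSolvable K)
    (τ : (L → ℂ) → (G → ℂ)) (R : (L → ℂ) → Finset (G → ℂ))
    (hS : IsCoherenceSystem (inducedIrrAbove K ⊥) τ R) (A : Subgroup L) [A.Normal]
    (hAK : ¬ K ≤ A) (hA : IsCoherent (inducedIrrAbove K A) {1}ᶜ τ)
    (T : Set (L → ℂ)) (hT : T ⊆ inducedIrrAbove K ⊥) (hTc : ∀ φ ∈ T, conjFun φ ∈ T)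
    (hTne : T.Nonempty)
    (hTb : ∀ φ ∈ T, ∃ t : ℕ, φ 1 = ((K.index * t : ℕ) : ℂ) ∧ 2 * K.index * t < A.relIndex K - 1) :
    IsCoherent T {1}ᶜ τ := by
  classical
  have hSfin := coh_finite hS
  have hAS : inducedIrrAbove K A ⊆ inducedIrrAbove K ⊥ := inducedIrrAbove_subset_bot K A
  have hnat1 : ∀ φ ∈ inducedIrrAbove K ⊥, ∃ m : ℕ, φ 1 = (m : ℂ) := fun φ hφ =>
    isCharacter_apply_one (hS.isCharacter φ hφ)
  have hnat2 : ∀ φ ∈ inducedIrrAbove K ⊥, ∃ m : ℕ, classInner φ φ = (m : ℂ) := fun φ hφ =>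
    classInner_char_char_nat (hS.isCharacter φ hφ) (hS.isCharacter φ hφ)
  choose! d hd using hnat1
  choose! n hn using hnat2
  obtain ⟨SAf, hSAf⟩ : ∃ SAf : Finset (L → ℂ), (↑SAf : Set (L → ℂ)) = inducedIrrAbove K A :=
    ⟨(hSfin.subset hAS).toFinset, Set.Finite.coe_toFinset _⟩
  obtain ⟨Tf, hTf⟩ : ∃ Tf : Finset (L → ℂ), (↑Tf : Set (L → ℂ)) = T :=
    ⟨(hSfin.subset hT).toFinset, Set.Finite.coe_toFinset _⟩
  have hmemA : ∀ φ, φ ∈ SAf ↔ φ ∈ inducedIrrAbove K A := fun φ => by rw [← hSAf]; rfl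
  have hmemT : ∀ φ, φ ∈ Tf ↔ φ ∈ T := fun φ => by rw [← hTf]; rfl
  obtain ⟨χ₁, hχ₁A, hχ₁1⟩ := exists_linear_induced K A hsolv hAK
  have hdχ₁ : d χ₁ = K.index := by
    have := hd χ₁ (hAS hχ₁A)
    rw [hχ₁1] at this
    exact_mod_cast this.symm
  have hN := sum_induced_ge K A SAf d n (by rw [hSAf]) (fun φ hφ => hd φ (hAS hφ))
    (fun φ hφ => hn φ (hAS hφ)) (fun φ hφ => (coh_norm_pos hS (hAS hφ) (hn φ (hAS hφ))).ne')
  have hidx : 0 < K.index := Nat.pos_of_ne_zero Subgroup.index_ne_zero_of_finite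
  have hcoh := coherent_union_of_bound hS d n hd hn SAf (by rw [hSAf]; exact hAS)
    (fun φ hφ => (hmemA _).mpr (inducedIrrAbove_conj K A ((hmemA φ).mp hφ)))
    (by rw [hSAf]; exact hA) χ₁ ((hmemA _).mpr hχ₁A) _ hN Tf.card Tf le_rfl
    (by rw [hTf]; exact hT) (fun φ hφ => (hmemT _).mpr (hTc φ ((hmemT φ).mp hφ)))
    (by
      intro φ hφ
      obtain ⟨t, ht1, ht2⟩ := hTb φ ((hmemT φ).mp hφ)
      have hdφ : d φ = K.index * t := by
        have := hd φ (hT ((hmemT φ).mp hφ))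
        rw [ht1] at this
        exact_mod_cast this.symm
      refine ⟨by rw [hdχ₁, hdφ]; exact Dvd.intro _ rfl, ?_⟩
      rw [hdχ₁, hdφ]
      have h3 : 2 * (K.index * t) * K.index < K.index * (A.relIndex K - 1) := by
        have : 2 * (K.index * t) * K.index = K.index * (2 * K.index * t) := by ring
        rw [this]
        exact Nat.mul_lt_mul_of_pos_left ht2 hidx
      exact_mod_cast h3)
  apply isCoherent_subset _ hcoh
  · obtain ⟨χ, hχ⟩ := hTne
    refine ⟨χ - conjFun χ, ?_, coh_sub_conj_ne_zero hS (hT hχ)⟩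
    rw [mem_zspanOn_compl_one]
    refine ⟨sub_mem_zspan (subset_zspan _ hχ) (subset_zspan _ (hTc χ hχ)), ?_⟩
    rw [Pi.sub_apply, coh_conj_apply_one hS (hT hχ), sub_self]
  · intro φ hφ
    rw [Finset.coe_union]
    exact Or.inr ((hmemT φ).mpr hφ)

end main

end Cfsg.Agent.Lib.H8
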