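import Mathlib
import Cfsg.Agent.Lib.H8.CohExtend
import Cfsg.Agent.Lib.H8.CharConstituent
import Cfsg.Agent.Lib.H8.ClassFun
import Cfsg.Agent.Lib.L0.CharInner

/-!
# Characters induced from a normal subgroup `K` and a normal subgroup `Z ≤ K`
(helper8's library, for Peterfalvi (6.6) = S1522)

`X = S \ S(Z)` where `S = inducedIrrAbove K ⊥`.  If all members of `X` are irreducible, then
`X` is the set of irreducible characters of `L` not containing `Z` in their kernel.
-/

set_option autoImplicit false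

namespace Cfsg.Agent.Lib.H8

open Cfsg Cfsg.Agent.Lib.L0 Cfsg.Agent.Lib.H24
open scoped ComplexConjugate

section
variable {L : Type*} [Group L] [Fintype L]

/-- a function induced from `θ` trivial on `Z ∩ K` (with `Z ≤ K` normal in `L`) is trivial on `Z` -/
theorem indFun_apply_of_ker (K Z : Subgroup L) [Z.Normal] (hZK : Z ≤ K) (θ : ↥K → ℂ)
    (hθZ : ∀ a : ↥K, (a : L) ∈ Z → θ a = θ 1) {z : L} (hz : z ∈ Z) :
    indFun K θ z = indFun K θ 1 := by
  rw [indFun_apply, indFun_apply]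
  congr 1
  refine Finset.sum_congr rfl fun x _ => ?_
  have h1 : x⁻¹ * z * x ∈ Z := by
    have := ‹Z.Normal›.conj_mem z hz x⁻¹
    rwa [inv_inv] at this
  have h2 : x⁻¹ * 1 * x = 1 := by group
  rw [extendByZero_apply_of_mem K θ (hZK h1), h2, extendByZero_apply_of_mem K θ K.one_mem]
  exact hθZ ⟨_, hZK h1⟩ h1

/-- an irreducible character `θ` of `K` is a constituent of the restriction of `Ind θ` -/
theorem classInner_res_indFun_ne_zero (K : Subgroup L) [Fintype ↥K] (θ : ↥K → ℂ)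
    (hθ : IsIrrCharacter ↥K θ) :
    classInner (fun k : ↥K => indFun K θ k) θ ≠ 0 := by
  classical
  have hchar := isCharacter_indFun K (isCharacter_of_irr hθ)
  have h1 := frobenius_reciprocity K θ (indFun K θ) (isClassFunction_of_isCharacter hchar)
  intro h0
  have h2 : classInner θ (fun k : ↥K => indFun K θ k) = 0 := by
    rw [← classInner_conj_symm, h0, map_zero]
  rw [h2] at h1
  have h3 := classInner_self_eq_zero h1
  have h4 : indFun K θ 1 = 0 := by rw [h3]; rfl
  rw [indFun_one] at h4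
  have h5 : (K.index : ℂ) ≠ 0 := by
    exact_mod_cast (Subgroup.index_ne_zero_of_finite (H := K))
  obtain ⟨n, hn0, hn1, -⟩ := Cfsg.Agent.Lib.H23.irr_apply_one_dvd_card θ hθ
  rw [hn1] at h4
  rcases mul_eq_zero.mp h4 with h | h
  · exact h5 h
  · have : n = 0 := by exact_mod_cast h
    omega

/-- if `Ind θ` is trivial on `z ∈ K` then so is `θ` -/
theorem apply_eq_one_of_indFun (K : Subgroup L) (θ : ↥K → ℂ) (hθ : IsIrrCharacter ↥K θ)
    {z : L} (hzK : z ∈ K) (hz : indFun K θ z = indFun K θ 1) : θ ⟨z, hzK⟩ = θ 1 := by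
  classical
  haveI := Fintype.ofFinite ↥K
  have hchar := isCharacter_indFun K (isCharacter_of_irr hθ)
  have hres := isCharacter_restrict K hchar
  exact constituent_apply_eq_one (b := (⟨z, hzK⟩ : ↥K)) hres hθ
    (classInner_res_indFun_ne_zero K θ hθ) hz

/-- the set `X = S \ S(Z)` -/
theorem mem_diff_iff (K Z : Subgroup L) [Z.Normal] (hZK : Z ≤ K) (φ : L → ℂ) :
    φ ∈ inducedIrrAbove K ⊥ \ inducedIrrAbove K Z ↔
      ∃ θ : ↥K → ℂ, IsIrrCharacter ↥K θ ∧ (∃ a : ↥K, (a : L) ∈ Z ∧ θ a ≠ θ 1) ∧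
        φ = indFun K θ := by
  constructor
  · rintro ⟨⟨θ, hθ, hθ1, -, rfl⟩, h2⟩
    refine ⟨θ, hθ, ?_, rfl⟩
    by_contra hcon
    push Not at hcon
    exact h2 ⟨θ, hθ, hθ1, hcon, rfl⟩
  · rintro ⟨θ, hθ, ⟨a, haZ, ha⟩, rfl⟩
    refine ⟨⟨θ, hθ, ?_, ?_, rfl⟩, ?_⟩
    · intro h
      apply ha
      rw [h]
    · intro b hb
      have : b = 1 := Subtype.ext (Subgroup.mem_bot.mp hb)
      rw [this]
    · rintro ⟨θ', hθ', -, hθ'Z, heq⟩
      apply ha
      have h1 := indFun_apply_of_ker K Z hZK θ' hθ'Z haZ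
      rw [← heq] at h1
      exact apply_eq_one_of_indFun K θ hθ a.2 h1

/-- `X` is closed under conjugation -/
theorem diff_conj (K Z : Subgroup L) {φ : L → ℂ}
    (hφ : φ ∈ inducedIrrAbove K ⊥ \ inducedIrrAbove K Z) :
    conjFun φ ∈ inducedIrrAbove K ⊥ \ inducedIrrAbove K Z := by
  refine ⟨inducedIrrAbove_conj K ⊥ hφ.1, fun h => hφ.2 ?_⟩
  have := inducedIrrAbove_conj K Z h
  rwa [conjFun_conjFun] at this

/-- Peterfalvi (6.6), first part: if all members of `X = S \ S(Z)` are irreducible, then `X` is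
the set of irreducible characters of `L` whose kernel does not contain `Z`. -/
theorem diff_eq_irr (K Z : Subgroup L) [Z.Normal] (hZK : Z ≤ K)
    (hirr : ∀ χ ∈ inducedIrrAbove K ⊥ \ inducedIrrAbove K Z, IsIrrCharacter L χ) :
    inducedIrrAbove K ⊥ \ inducedIrrAbove K Z =
      {χ | IsIrrCharacter L χ ∧ ∃ z ∈ Z, χ z ≠ χ 1} := by
  classical
  haveI := Fintype.ofFinite ↥K
  ext χ
  constructor
  · intro hχ
    refine ⟨hirr χ hχ, ?_⟩
    obtain ⟨θ, hθ, ⟨a, haZ, ha⟩, rfl⟩ := (mem_diff_iff K Z hZK χ).mp hχ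
    refine ⟨a, haZ, fun h => ha ?_⟩
    exact apply_eq_one_of_indFun K θ hθ a.2 h
  · rintro ⟨hχ, z, hzZ, hz⟩
    have hχc := isCharacter_of_irr hχ
    have hres := isCharacter_restrict K hχc
    have h0 : (fun k : ↥K => χ k) 1 ≠ 0 := by
      obtain ⟨n, hn0, hn1, -⟩ := Cfsg.Agent.Lib.H23.irr_apply_one_dvd_card χ hχ
      show χ ((1 : ↥K) : L) ≠ 0
      rw [Subgroup.coe_one, hn1]
      exact_mod_cast hn0.ne'
    obtain ⟨θ, hθ⟩ := exists_constituent _ hres h0
    have hrec := frobenius_reciprocity K (θ : ↥K → ℂ) χ (isClassFunction_of_isCharacter hχc)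
    have hne : classInner (indFun K (θ : ↥K → ℂ)) χ ≠ 0 := by
      rw [hrec, ← classInner_conj_symm]
      intro h
      apply hθ
      have := congrArg conj h
      rwa [Complex.conj_conj, map_zero] at this
    have hindc := isCharacter_indFun K (isCharacter_of_irr θ.2)
    by_cases hθZ : ∀ a : ↥K, (a : L) ∈ Z → (θ : ↥K → ℂ) a = (θ : ↥K → ℂ) 1
    · exfalso
      apply hz
      exact constituent_apply_eq_one hindc hχ hne (indFun_apply_of_ker K Z hZK _ hθZ hzZ)
    · push Not at hθZ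
      have hmem : indFun K (θ : ↥K → ℂ) ∈ inducedIrrAbove K ⊥ \ inducedIrrAbove K Z :=
        (mem_diff_iff K Z hZK _).mpr ⟨θ, θ.2, hθZ, rfl⟩
      have hirr' := hirr _ hmem
      have : indFun K (θ : ↥K → ℂ) = χ := by
        by_contra hne'
        exact hne (irr_classInner_ne hirr' hχ hne')
      rw [← this]
      exact hmem

end

end Cfsg.Agent.Lib.H8
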