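import Mathlib
import Cfsg.Agent.Lib.H8.CohCentralA
import Cfsg.Agent.Lib.H24.CharKernel
import Cfsg.Agent.Lib.H24.CharOrth
import Cfsg.Agent.Lib.H23.DegreeDvd

/-!
# Sum of squares of degrees of the irreducible characters not containing a normal subgroup `Z`
in their kernel (helper8's library, for Peterfalvi (6.6) = S1522)
-/

set_option autoImplicit false

namespace Cfsg.Agent.Lib.H8

open Cfsg Cfsg.Agent.Lib.L0 Cfsg.Agent.Lib.H24
open scoped ComplexConjugate

section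
variable {L : Type*} [Group L] [Fintype L]

/-- `∑_{χ, Z ≤ ker χ} χ(1)² · |Z| = |L|` (complex form) -/
theorem sum_degree_sq_ker (Z : Subgroup L) [Z.Normal] [Fintype (IrrCharacter L)]
    [DecidablePred fun χ : IrrCharacter L => ∀ z ∈ Z, (χ : L → ℂ) z = (χ : L → ℂ) 1] :
    (∑ χ ∈ Finset.univ.filter (fun χ : IrrCharacter L => ∀ z ∈ Z, (χ : L → ℂ) z = (χ : L → ℂ) 1),
      (χ : L → ℂ) 1 ^ 2) * (Nat.card Z : ℂ) = (Nat.card L : ℂ) := by
  classical
  haveI := Fintype.ofFinite ↥Z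
  have hso : ∀ z : ↥Z, ∑ χ : IrrCharacter L, (χ : L → ℂ) 1 * conj ((χ : L → ℂ) (z : L)) =
      if (z : L) = 1 then (Nat.card L : ℂ) else 0 := by
    intro z
    rw [second_orthogonality (G := L) 1 (z : L)]
    have hc : Subgroup.centralizer ({1} : Set L) = ⊤ := by
      ext x
      simp [Subgroup.mem_centralizer_iff]
    by_cases h : (z : L) = 1
    · rw [if_pos h, if_pos (by rw [h]), hc, Subgroup.card_top]
    · rw [if_neg h, if_neg]
      intro hcj
      apply h
      exact isConj_one_right.mp hcj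
  have hsum : ∑ z : ↥Z, ∑ χ : IrrCharacter L, (χ : L → ℂ) 1 * conj ((χ : L → ℂ) (z : L)) =
      (Nat.card L : ℂ) := by
    rw [Finset.sum_congr rfl fun z _ => hso z]
    rw [Finset.sum_eq_single (1 : ↥Z)]
    · rw [if_pos (Subgroup.coe_one Z)]
    · intro z _ hz
      rw [if_neg]
      intro h
      apply hz
      exact Subtype.ext (by rw [h, Subgroup.coe_one])
    · intro h
      exact absurd (Finset.mem_univ _) h
  rw [Finset.sum_comm] at hsum
  have hχ : ∀ χ : IrrCharacter L, ∑ z : ↥Z, (χ : L → ℂ) 1 * conj ((χ : L → ℂ) (z : L)) =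
      if (∀ z ∈ Z, (χ : L → ℂ) z = (χ : L → ℂ) 1) then (χ : L → ℂ) 1 ^ 2 * (Nat.card Z : ℂ)
      else 0 := by
    intro χ
    obtain ⟨n, -, hn⟩ := irr_one_eq χ
    by_cases h : ∀ z ∈ Z, (χ : L → ℂ) z = (χ : L → ℂ) 1
    · rw [if_pos h]
      rw [Finset.sum_congr rfl fun z _ => by rw [h z z.2]]
      rw [Finset.sum_const, Finset.card_univ, nsmul_eq_mul, ← Nat.card_eq_fintype_card, hn,
        Complex.conj_natCast]
      ring
    · rw [if_neg h]
      push Not at h
      have h0 := irr_sum_normal_mul_eq_zero χ Z h 1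
      rw [← Finset.mul_sum, ← map_sum]
      have : ∑ z : ↥Z, (χ : L → ℂ) (z : L) = 0 := by
        rw [← h0]
        refine Finset.sum_congr rfl fun z _ => ?_
        rw [one_mul]
      rw [this, map_zero, mul_zero]
  rw [Finset.sum_congr rfl fun χ _ => hχ χ, ← Finset.sum_filter, ← Finset.sum_mul] at hsum
  exact hsum

/-- `∑_{χ, Z ≰ ker χ} χ(1)² · |Z| + |L| = |L| · |Z|` (natural number form) -/
theorem sum_degree_sq_not_ker (Z : Subgroup L) [Z.Normal] [Fintype (IrrCharacter L)]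
    [DecidablePred fun χ : IrrCharacter L => ∃ z ∈ Z, (χ : L → ℂ) z ≠ (χ : L → ℂ) 1] :
    (∑ χ ∈ Finset.univ.filter (fun χ : IrrCharacter L => ∃ z ∈ Z, (χ : L → ℂ) z ≠ (χ : L → ℂ) 1),
      charDegree (χ : L → ℂ) ^ 2) * Nat.card Z + Nat.card L = Nat.card L * Nat.card Z := by
  classical
  have h1 := sum_degree_sq_ker Z
  have h2 := sum_irr_one_sq (G := L)
  have hsplit := Finset.sum_filter_add_sum_filter_not (Finset.univ : Finset (IrrCharacter L))
    (fun χ : IrrCharacter L => ∀ z ∈ Z, (χ : L → ℂ) z = (χ : L → ℂ) 1)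
    (fun χ => (χ : L → ℂ) 1 ^ 2)
  rw [h2] at hsplit
  have hfil : Finset.univ.filter (fun χ : IrrCharacter L => ¬ ∀ z ∈ Z, (χ : L → ℂ) z = (χ : L → ℂ) 1)
      = Finset.univ.filter (fun χ : IrrCharacter L => ∃ z ∈ Z, (χ : L → ℂ) z ≠ (χ : L → ℂ) 1) := by
    ext χ
    simp only [Finset.mem_filter, Finset.mem_univ, true_and]
    push Not
    rfl
  rw [hfil] at hsplit
  have hcast : ((∑ χ ∈ Finset.univ.filter
      (fun χ : IrrCharacter L => ∃ z ∈ Z, (χ : L → ℂ) z ≠ (χ : L → ℂ) 1),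
      charDegree (χ : L → ℂ) ^ 2 : ℕ) : ℂ) = ∑ χ ∈ Finset.univ.filter
      (fun χ : IrrCharacter L => ∃ z ∈ Z, (χ : L → ℂ) z ≠ (χ : L → ℂ) 1), (χ : L → ℂ) 1 ^ 2 := by
    push_cast
    refine Finset.sum_congr rfl fun χ _ => ?_
    rw [charDegree_irr]
  have : (((∑ χ ∈ Finset.univ.filter
      (fun χ : IrrCharacter L => ∃ z ∈ Z, (χ : L → ℂ) z ≠ (χ : L → ℂ) 1),
      charDegree (χ : L → ℂ) ^ 2) * Nat.card Z + Nat.card L : ℕ) : ℂ) =
      ((Nat.card L * Nat.card Z : ℕ) : ℂ) := by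
    rw [Nat.cast_add, Nat.cast_mul, hcast, Nat.cast_mul]
    linear_combination (Nat.card Z : ℂ) * hsplit - h1
  exact_mod_cast this

/-- the same for a finset of functions equal to the set of irreducible characters not containing `Z`
in their kernel -/
theorem sum_degree_sq_not_ker' (Z : Subgroup L) [Z.Normal] (T : Finset (L → ℂ))
    (hT : (↑T : Set (L → ℂ)) = {χ | IsIrrCharacter L χ ∧ ∃ z ∈ Z, χ z ≠ χ 1}) :
    (∑ φ ∈ T, charDegree φ ^ 2) * Nat.card Z + Nat.card L = Nat.card L * Nat.card Z := by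
  classical
  haveI := Fintype.ofFinite (IrrCharacter L)
  rw [← sum_degree_sq_not_ker Z]
  congr 2
  have himg : T = (Finset.univ.filter
      (fun χ : IrrCharacter L => ∃ z ∈ Z, (χ : L → ℂ) z ≠ (χ : L → ℂ) 1)).image
      (fun χ : IrrCharacter L => (χ : L → ℂ)) := by
    ext φ
    rw [Finset.mem_image]
    constructor
    · intro hφ
      have : φ ∈ (↑T : Set (L → ℂ)) := hφ
      rw [hT] at this
      exact ⟨⟨φ, this.1⟩, by
        simp only [Finset.mem_filter, Finset.mem_univ, true_and]; exact this.2, rfl⟩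
    · rintro ⟨χ, hχ, rfl⟩
      have h2 := (Finset.mem_filter.mp hχ).2
      have : (χ : L → ℂ) ∈ (↑T : Set (L → ℂ)) := by
        rw [hT]; exact ⟨χ.2, h2⟩
      exact this
  rw [himg, Finset.sum_image]
  intro a _ b _ hab
  exact Subtype.ext hab

end

end Cfsg.Agent.Lib.H8
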