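import Mathlib
import Cfsg.Agent.Lib.H4.SLKDefs

/-!
# S2479 (helper4 architect), piece P01: `nd_congr`, `det_eq_nd_X`
-/

set_option autoImplicit false
open Polynomial

namespace Cfsg.Agent.Lib.H8.SLK

open Cfsg.Agent.Lib.H12.Cls Cfsg.Agent.Lib.H4.SLK

universe u v
variable {F : Type u} [Field F]

/-- ND1 -/
theorem nd_congr {M M' : Type*} [AddCommGroup M] [Module F M] [Module F[X] M]
    [IsScalarTower F F[X] M] [AddCommGroup M'] [Module F M'] [Module F[X] M']
    [IsScalarTower F F[X] M'] (e : M ≃ₗ[F[X]] M') (p : F[X]) : nd M p = nd M' p := by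
  unfold nd
  have h : ((LinearMap.lsmul F[X] M' p).restrictScalars F) =
      ((e.restrictScalars F : M ≃ₗ[F] M') : M →ₗ[F] M') ∘ₗ
        ((LinearMap.lsmul F[X] M p).restrictScalars F) ∘ₗ
        ((e.restrictScalars F).symm : M' →ₗ[F] M) := by
    ext x
    simp
  rw [h, LinearMap.det_conj]

/-- T1A -/
theorem det_eq_nd_X {V : Type v} [AddCommGroup V] [Module F V] [FiniteDimensional F V]
    (f : Module.End F V) : LinearMap.det f = nd (Module.AEval' f) X := by
  unfold nd
  have h : ((LinearMap.lsmul F[X] (Module.AEval' f) X).restrictScalars F) =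
      ((Module.AEval'.of f : V ≃ₗ[F] Module.AEval' f) : V →ₗ[F] Module.AEval' f) ∘ₗ f ∘ₗ
        ((Module.AEval'.of f).symm : Module.AEval' f →ₗ[F] V) := by
    ext x
    obtain ⟨v, rfl⟩ := (Module.AEval'.of f).surjective x
    simp [Module.AEval'.X_smul_of]
  rw [h, LinearMap.det_conj]

end Cfsg.Agent.Lib.H8.SLK
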