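import Mathlib
import Cfsg.Agent.Lib.H4.SLKDefs
import Cfsg.Agent.Lib.H8.SLKP01

/-!
# S2479 (helper4 architect), piece P04: `nd_cyc_pow` (from `nd_quot_mul` as a hypothesis) and
`exists_block`
-/

set_option autoImplicit false
open Polynomial

namespace Cfsg.Agent.Lib.H8.SLK

open Cfsg.Agent.Lib.H12.Cls Cfsg.Agent.Lib.H4.SLK

universe u v
variable {F : Type u} [Field F]

/-- ND6, with ND5 as a hypothesis -/
theorem nd_cyc_pow_of
    (hmul : ∀ (g h : F[X]), g.Monic → h.Monic → ∀ p : F[X],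
      nd (F[X] ⧸ (F[X] ∙ (g * h))) p = nd (F[X] ⧸ (F[X] ∙ g)) p * nd (F[X] ⧸ (F[X] ∙ h)) p)
    (φ : F[X]) (hφ : φ.Monic) (e : ℕ) (p : F[X]) :
    nd (Cyc F (φ, e)) p = nd (Cyc F (φ, 1)) p ^ e := by
  have e1 : (F[X] ∙ (φ ^ 1)) = (F[X] ∙ φ) := by rw [pow_one]
  have h1 : nd (Cyc F (φ, 1)) p = nd (F[X] ⧸ (F[X] ∙ φ)) p :=
    nd_congr (Submodule.quotEquivOfEq _ _ e1) p
  induction e with
  | zero =>
    have hs : Subsingleton (Cyc F (φ, 0)) := by
      show Subsingleton (F[X] ⧸ (F[X] ∙ (φ ^ 0)))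
      rw [Submodule.Quotient.subsingleton_iff, pow_zero]
      exact Ideal.span_singleton_one
    have h0 : nd (Cyc F (φ, 0)) p = 1 := by
      unfold nd
      exact LinearMap.det_eq_one_of_subsingleton _
    rw [h0]
    exact (pow_zero _).symm
  | succ e ih =>
    have e2 : (F[X] ∙ (φ ^ (e + 1))) = (F[X] ∙ (φ ^ e * φ)) := by rw [pow_succ]
    have h2 : nd (Cyc F (φ, e + 1)) p = nd (F[X] ⧸ (F[X] ∙ (φ ^ e * φ))) p :=
      nd_congr (Submodule.quotEquivOfEq _ _ e2) p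
    rw [h2, hmul (φ ^ e) φ (hφ.pow e) hφ p, pow_succ, ← ih, h1]

/-- T2A -/
theorem exists_block {n : ℕ} (A : GL (Fin n) F) (j : Fin n) (hj : tupleOf A j ≠ 1) :
    ∃ i : (dataOf A).ι, ((dataOf A).c i).2 = (j : ℕ) + 1 := by
  classical
  by_contra hcon
  push Not at hcon
  apply hj
  show (dataOf A).gpoly ((j : ℕ) + 1) = 1
  unfold TypeData.gpoly TypeData.irrs
  have : (Finset.univ.filter (fun i => ((dataOf A).c i).2 = (j : ℕ) + 1)) = ∅ := by
    rw [Finset.filter_eq_empty_iff]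
    intro i _
    exact hcon i
  rw [this]
  simp

end Cfsg.Agent.Lib.H8.SLK
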