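import Mathlib
import Cfsg.Agent.Lib.H4.SLKDefs
import Cfsg.Agent.Lib.H8.SLKP04of
import Cfsg.Agent.Lib.H5.SLKP03

/-!
# S2479 (helper4 architect), piece P04: `nd_cyc_pow` (exact signature; `exists_block` is in `SLKP04of`)
-/

set_option autoImplicit false
open Polynomial

namespace Cfsg.Agent.Lib.H8.SLK

open Cfsg.Agent.Lib.H12.Cls Cfsg.Agent.Lib.H4.SLK

universe u v
variable {F : Type u} [Field F]

/-- ND6 -/
theorem nd_cyc_pow (φ : F[X]) (hφ : φ.Monic) (e : ℕ) (p : F[X]) :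
    nd (Cyc F (φ, e)) p = nd (Cyc F (φ, 1)) p ^ e :=
  nd_cyc_pow_of (fun g h hg hh p => Cfsg.Agent.Lib.H5.SLK.nd_quot_mul g h hg hh p) φ hφ e p

end Cfsg.Agent.Lib.H8.SLK
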