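import Mathlib
import Cfsg.Agent.Lib.H4.SLKDefs
import Cfsg.Agent.Lib.H8.SLKP01

/-!
# S2479 (helper4 architect), piece P06: `exists_nd_eq`
-/

set_option autoImplicit false
open Polynomial

namespace Cfsg.Agent.Lib.H8.SLK

open Cfsg.Agent.Lib.H12.Cls Cfsg.Agent.Lib.H4.SLK

universe u v
variable {F : Type u} [Field F]

/-- ND8 : norm surjectivity -/
theorem exists_nd_eq [Finite F] (φ : F[X]) (hφ : Irreducible φ) (a : F) :
    ∃ p : F[X], nd (Cyc F (φ, 1)) p = a := by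
  have : Fact (Irreducible φ) := ⟨hφ⟩
  have : Module.Finite F (AdjoinRoot φ) := (AdjoinRoot.powerBasis hφ.ne_zero).finite
  have : Finite (AdjoinRoot φ) := Module.finite_of_finite F
  obtain ⟨b, hb⟩ := FiniteField.norm_surjective F (AdjoinRoot φ) a
  obtain ⟨p, rfl⟩ := AdjoinRoot.mk_surjective b
  refine ⟨p, ?_⟩
  rw [Algebra.norm_apply] at hb
  have e : (F[X] ∙ (φ ^ 1)) = (F[X] ∙ φ) := by rw [pow_one]
  have h1 : nd (Cyc F (φ, 1)) p = nd (F[X] ⧸ (F[X] ∙ φ)) p :=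
    nd_congr (Submodule.quotEquivOfEq _ _ e) p
  rw [h1, ← hb]
  unfold nd
  congr 1

end Cfsg.Agent.Lib.H8.SLK
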