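import Mathlib
import Cfsg.Agent.Lib.H5.Ord.NCInv
import Cfsg.Agent.Lib.H5.Ord.SylChain

set_option autoImplicit false

/-!
# Order 5040, lemma L5: `N(P₅)` of order 40 with `|C(P₅)| = 20` is not maximal
-/

namespace Cfsg.Agent.Lib.H8.O5040

open Subgroup
open Cfsg.Agent.Lib.H5.SylPrime

variable {G : Type*} [Group G]

/-- The elements of an abelian subgroup `C` killed by the exponent `k`. -/
def powKer (C : Subgroup G) (hC : ∀ a ∈ C, ∀ b ∈ C, a * b = b * a) (k : ℕ) : Subgroup G where
  carrier := {c | c ∈ C ∧ c ^ k = 1}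
  one_mem' := ⟨C.one_mem, one_pow k⟩
  mul_mem' := by
    rintro a b ⟨ha, ha'⟩ ⟨hb, hb'⟩
    refine ⟨C.mul_mem ha hb, ?_⟩
    rw [(show Commute a b from hC a ha b hb).mul_pow, ha', hb', one_mul]
  inv_mem' := by
    rintro a ⟨ha, ha'⟩
    exact ⟨C.inv_mem ha, by rw [inv_pow, ha', inv_one]⟩

theorem mem_powKer {C : Subgroup G} {hC : ∀ a ∈ C, ∀ b ∈ C, a * b = b * a} {k : ℕ} {c : G} :
    c ∈ powKer C hC k ↔ c ∈ C ∧ c ^ k = 1 := Iff.rfl

theorem exists_overgroup [Finite G] [IsSimpleGroup G] (hG : Nat.card G = 5040)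
    [Fact (Nat.Prime 5)] (P : Sylow 5 G)
    (hN : Nat.card (normalizer ((P : Subgroup G) : Set G)) = 40)
    (hC : Nat.card (centralizer ((P : Subgroup G) : Set G)) = 20) :
    ∃ M : Subgroup G, normalizer ((P : Subgroup G) : Set G) ≤ M ∧
      M ≠ normalizer ((P : Subgroup G) : Set G) ∧ M ≠ ⊤ := by
  haveI : Fact (Nat.Prime 2) := ⟨Nat.prime_two⟩
  have hPcard : Nat.card (P : Subgroup G) = 5 := by
    have := (Cfsg.Agent.Lib.H5.sylow_card_and_index P (k := 1) (m := 1008)
      (by rw [hG]; norm_num) (by norm_num)).1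
    simpa using this
  have hCN : centralizer ((P : Subgroup G) : Set G) ≤ normalizer ((P : Subgroup G) : Set G) :=
    centralizer_le_normalizer _
  have hPN : (P : Subgroup G) ≤ normalizer ((P : Subgroup G) : Set G) := le_normalizer
  -- `C` is abelian
  have hCab : ∀ a ∈ centralizer ((P : Subgroup G) : Set G),
      ∀ b ∈ centralizer ((P : Subgroup G) : Set G), a * b = b * a :=
    centralizer_comm_of_card (p := 5) (q := 2) (j := 2) (P : Subgroup G) hPcard (by norm_num)
      le_rfl (by rw [hC]; norm_num)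
  obtain ⟨V, hVdef⟩ : ∃ V : Subgroup G, V = powKer (centralizer ((P : Subgroup G) : Set G)) hCab 4 :=
    ⟨_, rfl⟩
  have hVmem : ∀ c : G, c ∈ V ↔ c ∈ centralizer ((P : Subgroup G) : Set G) ∧ c ^ 4 = 1 := by
    intro c
    rw [hVdef]
    exact mem_powKer
  have hVC : V ≤ centralizer ((P : Subgroup G) : Set G) := fun c hc => ((hVmem c).1 hc).1
  have hVN : V ≤ normalizer ((P : Subgroup G) : Set G) := hVC.trans hCN
  have hV2 : IsPGroup 2 V := by
    intro v
    refine ⟨2, ?_⟩
    apply Subtype.ext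
    have := ((hVmem v).1 v.2).2
    simpa using this
  -- `N` normalizes `V`
  have hNV : ∀ n ∈ normalizer ((P : Subgroup G) : Set G), ∀ v ∈ V, n * v * n⁻¹ ∈ V := by
    intro n hn v hv
    rw [hVmem] at hv ⊢
    refine ⟨conj_mem_centralizer_of_mem_normalizer (P : Subgroup G) hn hv.1, ?_⟩
    rw [conj_pow, hv.2, mul_one, mul_inv_cancel]
  -- `4 ≤ |V| ≤ 20`
  have hVle : Nat.card V ≤ 20 := by
    rw [← hC]
    exact Nat.le_of_dvd Nat.card_pos (Subgroup.card_dvd_of_le hVC)
  have hVge : 4 ≤ Nat.card V := by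
    have hd : 2 ^ 2 ∣ Nat.card (centralizer ((P : Subgroup G) : Set G)) := by
      rw [hC]; norm_num
    obtain ⟨Q, hQ⟩ := Sylow.exists_subgroup_card_pow_prime 2 hd
    have hQV : Q.map (centralizer ((P : Subgroup G) : Set G)).subtype ≤ V := by
      rintro _ ⟨c, hc, rfl⟩
      rw [hVmem]
      refine ⟨c.2, ?_⟩
      have h1 : (⟨c, hc⟩ : Q) ^ Nat.card Q = 1 := pow_card_eq_one'
      rw [hQ] at h1
      have h2 := congrArg (fun x : Q => ((x : centralizer ((P : Subgroup G) : Set G)) : G)) h1
      simpa using h2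
    have h3 := Subgroup.card_dvd_of_le hQV
    rw [Subgroup.card_map_of_injective (Subgroup.subtype_injective _), hQ] at h3
    exact Nat.le_of_dvd Nat.card_pos h3
  -- the Sylow chain
  obtain ⟨T0, T, hVT0, hT0N, hT0T, hT0p, hT0card, hTN⟩ :=
    exists_sylow_chain (normalizer ((P : Subgroup G) : Set G)) V hVN hV2 (k := 3) (m := 5)
      (by rw [hN]; norm_num) (by norm_num)
  have hTcard : Nat.card (T : Subgroup G) = 16 := by
    have := (Cfsg.Agent.Lib.H5.sylow_card_and_index T (k := 4) (m := 315)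
      (by rw [hG]; norm_num) (by norm_num)).1
    simpa using this
  have hT0card' : Nat.card T0 = 8 := by simpa using hT0card
  have hne : T0 ≠ (T : Subgroup G) := by
    intro h
    rw [h, hTcard] at hT0card'
    omega
  obtain ⟨t, htT, htT0, htnorm⟩ := exists_normalizing_not_mem (T : Subgroup G) T.2 T0 hT0T hne
  have htN : t ∉ normalizer ((P : Subgroup G) : Set G) := by
    intro h
    apply htT0
    rw [← hTN]
    exact ⟨htT, h⟩
  -- `t ^ 2 ∈ T0`
  have ht2 : t ^ 2 ∈ T0 := by
    have hrel : T0.relIndex (T : Subgroup G) = 2 := by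
      have h1 := relIndex_mul_relIndex (⊥ : Subgroup G) T0 (T : Subgroup G) bot_le hT0T
      rw [relIndex_bot_left, relIndex_bot_left, hT0card', hTcard] at h1
      omega
    have h2 := Subgroup.sq_mem_of_index_two (H := T0.subgroupOf (T : Subgroup G)) hrel ⟨t, htT⟩
    rw [mem_subgroupOf] at h2
    simpa using h2
  have htnormalizer : t ∈ normalizer (T0 : Set G) := mem_normalizer_fintype htnorm
  have htinv : ∀ x ∈ T0, t⁻¹ * x * t ∈ T0 := by
    intro x hx
    exact (mem_normalizer_iff''.1 htnormalizer x).1 hx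
  have hVcard_ne_one : Nat.card V ≠ 1 := by omega
  have hVne_top : V ≠ ⊤ := by
    intro h
    have : Nat.card V = Nat.card G := by rw [h, Subgroup.card_top]
    omega
  by_cases hcase : ∀ v ∈ V, t * v * t⁻¹ ∈ V
  · -- case 1: `M = N_G(V)`
    refine ⟨normalizer (V : Set G), ?_, ?_, ?_⟩
    · intro n hn
      exact mem_normalizer_fintype (hNV n hn)
    · intro h
      apply htN
      rw [← h]
      exact mem_normalizer_fintype hcase
    · intro h
      rw [normalizer_eq_top_iff] at h
      rcases h.eq_bot_or_eq_top with h1 | h1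
      · apply hVcard_ne_one
        rw [h1, Subgroup.card_bot]
      · exact hVne_top h1
  · -- case 2: `M = N_G(V ⊓ t V t⁻¹)`
    obtain ⟨V', hV'def⟩ : ∃ V' : Subgroup G, V' = V.map (MulAut.conj t).toMonoidHom := ⟨_, rfl⟩
    have hV'mem : ∀ x : G, x ∈ V' ↔ ∃ v ∈ V, t * v * t⁻¹ = x := by
      intro x
      rw [hV'def, Subgroup.mem_map]
      rfl
    have hV'T0 : V' ≤ T0 := by
      intro x hx
      obtain ⟨v, hv, rfl⟩ := (hV'mem x).1 hx
      exact htnorm v (hVT0 hv)
    have hV'card : Nat.card V' = Nat.card V := by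
      rw [hV'def]
      exact Subgroup.card_map_of_injective (MulAut.conj t).injective
    obtain ⟨u, huV, huV', hu1⟩ := exists_mem_inf_ne_one T0 V V' hVT0 hV'T0 (by
      rw [hV'card, hT0card']
      nlinarith)
    -- `N = P ⊔ T0`
    have hsup : (P : Subgroup G) ⊔ T0 = normalizer ((P : Subgroup G) : Set G) := by
      apply Subgroup.eq_of_le_of_card_ge (sup_le hPN hT0N)
      have h5 : 5 ∣ Nat.card ((P : Subgroup G) ⊔ T0 : Subgroup G) := by
        have := Subgroup.card_dvd_of_le (le_sup_left : (P : Subgroup G) ≤ (P : Subgroup G) ⊔ T0)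
        rwa [hPcard] at this
      have h8 : 8 ∣ Nat.card ((P : Subgroup G) ⊔ T0 : Subgroup G) := by
        have := Subgroup.card_dvd_of_le (le_sup_right : T0 ≤ (P : Subgroup G) ⊔ T0)
        rwa [hT0card'] at this
      have h40 : 5 * 8 ∣ Nat.card ((P : Subgroup G) ⊔ T0 : Subgroup G) :=
        Nat.Coprime.mul_dvd_of_dvd_of_dvd (by norm_num) h5 h8
      rw [hN]
      exact Nat.le_of_dvd Nat.card_pos h40
    refine ⟨normalizer ((V ⊓ V' : Subgroup G) : Set G), ?_, ?_, ?_⟩
    · rw [← hsup]
      apply sup_le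
      · intro x hx
        apply mem_normalizer_fintype
        intro z hz
        have hzC : z ∈ centralizer ((P : Subgroup G) : Set G) := hVC hz.1
        have := (mem_centralizer_iff.1 hzC) x hx
        have e : x * z * x⁻¹ = z := by
          rw [this]; group
        rw [e]
        exact hz
      · intro s hs
        apply mem_normalizer_fintype
        intro z hz
        refine ⟨hNV s (hT0N hs) z hz.1, ?_⟩
        obtain ⟨v, hv, rfl⟩ := (hV'mem z).1 hz.2
        show _ ∈ V'
        rw [hV'mem]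
        refine ⟨(t⁻¹ * s * t) * v * (t⁻¹ * s * t)⁻¹, hNV _ (hT0N (htinv s hs)) v hv, ?_⟩
        group
    · intro h
      apply htN
      rw [← h]
      apply mem_normalizer_fintype
      intro z hz
      refine ⟨?_, ?_⟩
      · obtain ⟨v, hv, rfl⟩ := (hV'mem z).1 hz.2
        have := hNV (t ^ 2) (hT0N ht2) v hv
        have e : t * (t * v * t⁻¹) * t⁻¹ = t ^ 2 * v * (t ^ 2)⁻¹ := by
          rw [pow_two]; group
        show _ ∈ V
        rw [e]
        exact this
      · show _ ∈ V'
        rw [hV'mem]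
        exact ⟨z, hz.1, rfl⟩
    · intro h
      rw [normalizer_eq_top_iff] at h
      rcases h.eq_bot_or_eq_top with h1 | h1
      · apply hu1
        have : u ∈ (V ⊓ V' : Subgroup G) := ⟨huV, huV'⟩
        rw [h1, mem_bot] at this
        exact this
      · apply hVne_top
        rw [eq_top_iff, ← h1]
        exact inf_le_left

end Cfsg.Agent.Lib.H8.O5040
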