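import Mathlib
import Cfsg.Agent.Lib.H5.Ord.GenTests
import Cfsg.Agent.Lib.H5.Ord.NCInv
import Cfsg.Agent.Lib.H8.O5040L5

set_option autoImplicit false

/-!
# Order 5040, lemma L4 (part a): basic data for `n₇ = 120` and the case `|C(P₇)| = 14`
-/

namespace Cfsg.Agent.Lib.H8.O5040

open Subgroup MulAction
open Cfsg.Agent.Lib.H5 Cfsg.Agent.Lib.H5.SylPrime Cfsg.Agent.Lib.H5.GenTests

variable {G : Type*} [Group G]

/-- An element of `N(S)` whose `k`-th power is trivial lies in `C(S)` when `k ≡ 1` modulo
`|N(S) : C(S)|`-th powers: concrete form used below. -/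
theorem pow_relIndex_mem_centralizer (S : Set G) {s : G} (hs : s ∈ normalizer S) :
    s ^ (centralizer S).relIndex (normalizer S) ∈ centralizer S := by
  have := Subgroup.pow_index_mem ((centralizer S).subgroupOf (normalizer S)) ⟨s, hs⟩
  rw [mem_subgroupOf] at this
  simpa [Subgroup.relIndex] using this

/-- The order of a conjugate. -/
theorem orderOf_eq_of_isConj {y g : G} (h : IsConj y g) : orderOf g = orderOf y := by
  obtain ⟨c, rfl⟩ := isConj_iff.1 h
  exact (MulAut.conj c).orderOf_eq y

/-- Basic data when `n₇ = 120`. -/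
theorem basics7 [Finite G] [IsSimpleGroup G] (hG : Nat.card G = 5040) [Fact (Nat.Prime 7)]
    (h120 : Nat.card (Sylow 7 G) = 120) (P : Sylow 7 G) :
    ¬ IsMulCommutative G ∧ Nat.card (P : Subgroup G) = 7 ∧
      Nat.card (normalizer ((P : Subgroup G) : Set G)) = 42 ∧
      (normalizer ((P : Subgroup G) : Set G)).index = 120 ∧
      normalizer ((P : Subgroup G) : Set G) ≠ ⊤ ∧
      (P : Subgroup G) ≤ centralizer ((P : Subgroup G) : Set G) ∧
      ((Nat.card (centralizer ((P : Subgroup G) : Set G)) = 7 ∧
          (centralizer ((P : Subgroup G) : Set G)).relIndex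
            (normalizer ((P : Subgroup G) : Set G)) = 6) ∨
        (Nat.card (centralizer ((P : Subgroup G) : Set G)) = 14 ∧
          (centralizer ((P : Subgroup G) : Set G)).relIndex
            (normalizer ((P : Subgroup G) : Set G)) = 3) ∨
        (Nat.card (centralizer ((P : Subgroup G) : Set G)) = 21 ∧
          (centralizer ((P : Subgroup G) : Set G)).relIndex
            (normalizer ((P : Subgroup G) : Set G)) = 2)) := by
  have hnc : ¬ IsMulCommutative G := by
    apply not_isMulCommutative_of_card_not_prime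
    rw [hG]
    norm_num
  obtain ⟨-, -, -, -, hr6, hr1, -, h7C, hP, hNn, hNtop, hPC, hCr, -⟩ :=
    prime_data_explicit hnc hG (show 5040 = 7 * 720 by norm_num) (by norm_num) (by norm_num) P
  rw [h120] at hNn
  have hN42 : Nat.card (normalizer ((P : Subgroup G) : Set G)) = 42 := by omega
  have hidx : (normalizer ((P : Subgroup G) : Set G)).index = 120 := by
    rw [index_normalizer_eq_card_sylow P, h120]
  refine ⟨hnc, hP, hN42, hidx, hNtop, hPC, ?_⟩
  rw [hN42] at hCr
  set r := (centralizer ((P : Subgroup G) : Set G)).relIndex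
    (normalizer ((P : Subgroup G) : Set G)) with hr
  set c := Nat.card (centralizer ((P : Subgroup G) : Set G)) with hc
  have hr6' : r ∣ 6 := hr6
  have hrle : r ≤ 6 := Nat.le_of_dvd (by norm_num) hr6'
  interval_cases r
  · omega
  · omega
  · right; right; omega
  · right; left; omega
  · omega
  · omega
  · left; omega

/-- The case `|C(P₇)| = 14` is impossible. -/
theorem not_card_centralizer_14 [Finite G] [IsSimpleGroup G] (hG : Nat.card G = 5040)
    [Fact (Nat.Prime 7)] (h120 : Nat.card (Sylow 7 G) = 120) (P : Sylow 7 G)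
    (hC : Nat.card (centralizer ((P : Subgroup G) : Set G)) = 14)
    (hr : (centralizer ((P : Subgroup G) : Set G)).relIndex
      (normalizer ((P : Subgroup G) : Set G)) = 3) : False := by
  haveI : Fact (Nat.Prime 2) := ⟨Nat.prime_two⟩
  obtain ⟨hnc, hP, hN42, hidx, hNtop, hPC, -⟩ := basics7 hG h120 P
  have hG2 : 2 < Nat.card G := by rw [hG]; norm_num
  have hCN : centralizer ((P : Subgroup G) : Set G) ≤ normalizer ((P : Subgroup G) : Set G) :=
    centralizer_le_normalizer _
  have hCab : ∀ a ∈ centralizer ((P : Subgroup G) : Set G),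
      ∀ b ∈ centralizer ((P : Subgroup G) : Set G), a * b = b * a :=
    centralizer_comm_of_card (p := 7) (q := 2) (j := 1) (P : Subgroup G) hP (by norm_num)
      (by norm_num) (by rw [hC]; norm_num)
  -- an involution `t` of `C`
  obtain ⟨t', ht'⟩ := exists_prime_orderOf_dvd_card' (G := centralizer ((P : Subgroup G) : Set G)) 2
    (by rw [hC]; norm_num)
  obtain ⟨t, htC, hto⟩ : ∃ t ∈ centralizer ((P : Subgroup G) : Set G), orderOf t = 2 :=
    ⟨t', t'.2, by rw [Subgroup.orderOf_coe]; exact ht'⟩
  have htN : t ∈ normalizer ((P : Subgroup G) : Set G) := hCN htC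
  have ht1 : t ≠ 1 := by
    intro h
    rw [h, orderOf_one] at hto
    omega
  -- the 2-elements of `C`
  obtain ⟨D, hDdef⟩ : ∃ D : Subgroup G, D = powKer (centralizer ((P : Subgroup G) : Set G)) hCab 2 :=
    ⟨_, rfl⟩
  have hDmem : ∀ c : G, c ∈ D ↔ c ∈ centralizer ((P : Subgroup G) : Set G) ∧ c ^ 2 = 1 := by
    intro c
    rw [hDdef]
    exact mem_powKer
  have hD2 : IsPGroup 2 D := by
    intro v
    refine ⟨1, ?_⟩
    apply Subtype.ext
    have := ((hDmem v).1 v.2).2
    simpa using this
  have hDcard : Nat.card D ≤ 2 := by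
    obtain ⟨k, hk⟩ := (IsPGroup.iff_card).1 hD2
    have hd : Nat.card D ∣ 14 := by
      rw [← hC]
      exact Subgroup.card_dvd_of_le (fun c hc => ((hDmem c).1 hc).1)
    rw [hk] at hd ⊢
    have hk1 : k ≤ 1 := by
      by_contra hlt
      push Not at hlt
      have : 2 ^ 2 ∣ 14 := (pow_dvd_pow 2 hlt).trans hd
      omega
    calc 2 ^ k ≤ 2 ^ 1 := Nat.pow_le_pow_right (by norm_num) hk1
      _ = 2 := by norm_num
  have htD : t ∈ D := (hDmem t).2 ⟨htC, by rw [← hto, pow_orderOf_eq_one]⟩
  have hDeq : zpowers t = D := by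
    apply Subgroup.eq_of_le_of_card_ge (zpowers_le.2 htD)
    rw [Nat.card_zpowers, hto]
    exact hDcard
  -- `t` is the unique involution of `N`
  have huniq : ∀ s ∈ normalizer ((P : Subgroup G) : Set G), orderOf s = 2 → s = t := by
    intro s hs hso
    have hs2 : s ^ 2 = 1 := by rw [← hso, pow_orderOf_eq_one]
    have h3 := pow_relIndex_mem_centralizer ((P : Subgroup G) : Set G) hs
    rw [hr] at h3
    have e : s ^ 3 = s := by
      rw [pow_succ, hs2, one_mul]
    rw [e] at h3
    have hsD : s ∈ D := (hDmem s).2 ⟨h3, hs2⟩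
    rw [← hDeq] at hsD
    classical
    rw [mem_zpowers_iff_mem_range_orderOf, hto] at hsD
    simp only [Finset.mem_image, Finset.mem_range] at hsD
    obtain ⟨k, hk, rfl⟩ := hsD
    interval_cases k
    · rw [pow_zero, orderOf_one] at hso
      omega
    · rw [pow_one]
  -- the conjugates of `t` in `N`
  have hconj : Nat.card {g : G // IsConj t g ∧ g ∈ normalizer ((P : Subgroup G) : Set G)} = 1 := by
    rw [Nat.card_eq_one_iff_unique]
    constructor
    · constructor
      rintro ⟨a, ha1, ha2⟩ ⟨b, hb1, hb2⟩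
      apply Subtype.ext
      show a = b
      rw [huniq a ha2 ((orderOf_eq_of_isConj ha1).trans hto),
        huniq b hb2 ((orderOf_eq_of_isConj hb1).trans hto)]
    · exact ⟨⟨t, IsConj.refl t, htN⟩⟩
  -- fixed points of `t` on `G ⧸ N`
  have hcount := card_fixedBy_mul_card (normalizer ((P : Subgroup G) : Set G)) htN
  rw [hconj, mul_one, hN42] at hcount
  have hmod7 := card_fixedBy_modEq_one 7 P hP htC
  have h4 := four_dvd_index_sub_card_fixedBy hG2 (normalizer ((P : Subgroup G) : Set G)) hto
  have hle := card_fixedBy_le_index (normalizer ((P : Subgroup G) : Set G)) t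
  have hne : Nat.card (fixedBy (G ⧸ normalizer ((P : Subgroup G) : Set G)) t) ≠ 120 := by
    intro h
    apply ht1
    apply eq_one_of_card_fixedBy_eq (normalizer ((P : Subgroup G) : Set G)) hNtop
    rw [h, hidx]
  rw [hidx] at h4 hle
  have hdvd : Nat.card (centralizer ({t} : Set G)) ∣ 5040 := by
    rw [← hG]
    exact Subgroup.card_subgroup_dvd_card _
  set f := Nat.card (fixedBy (G ⧸ normalizer ((P : Subgroup G) : Set G)) t) with hf
  have hf120 : f ∣ 120 := by
    rw [← hcount] at hdvd
    exact Nat.dvd_of_mul_dvd_mul_right (by norm_num : 0 < 42) (by simpa using hdvd)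
  have hf8 : f = 8 := by
    have hm : f % 7 = 1 := hmod7
    clear_value f
    interval_cases f <;> omega
  rw [hf8] at hcount
  have hM : Nat.card (centralizer ({t} : Set G)) = 336 := by omega
  have hMidx : (centralizer ({t} : Set G)).index = 15 := by
    have := (centralizer ({t} : Set G)).card_mul_index
    rw [hM, hG] at this
    omega
  have hMtop : centralizer ({t} : Set G) ≠ ⊤ := by
    intro h
    rw [h, index_top] at hMidx
    omega
  -- a generator `x` of `P`
  obtain ⟨x', hx'⟩ := exists_prime_orderOf_dvd_card' (G := (P : Subgroup G)) 7 (by rw [hP])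
  obtain ⟨x, hxP, hxo⟩ : ∃ x ∈ (P : Subgroup G), orderOf x = 7 :=
    ⟨x', x'.2, by rw [Subgroup.orderOf_coe]; exact hx'⟩
  have hzx : zpowers x = (P : Subgroup G) := by
    apply Subgroup.eq_of_le_of_card_ge (zpowers_le.2 hxP)
    rw [Nat.card_zpowers, hxo, hP]
  have hxt : Commute x t := (mem_centralizer_iff.1 htC x hxP)
  -- `x` fixes exactly one coset of `M = C(t)`
  have hfix : fixedBy (G ⧸ centralizer ({t} : Set G)) x =
      {((1 : G) : G ⧸ centralizer ({t} : Set G))} := by
    ext q
    rw [mem_fixedBy, Set.mem_singleton_iff]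
    constructor
    · intro hq
      obtain ⟨g, rfl⟩ := QuotientGroup.mk_surjective q
      rw [MulAction.Quotient.smul_mk, QuotientGroup.eq] at hq
      rw [QuotientGroup.eq]
      -- `(x • g)⁻¹ * g ∈ C(t)`
      have h1 : (x * g)⁻¹ * g ∈ centralizer ({t} : Set G) := by simpa using hq
      have h2 : g⁻¹ * x * g ∈ centralizer ({t} : Set G) := by
        have := (centralizer ({t} : Set G)).inv_mem h1
        have e : ((x * g)⁻¹ * g)⁻¹ = g⁻¹ * x * g := by group
        rwa [e] at this
      rw [mem_centralizer_singleton_iff] at h2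
      -- `g t g⁻¹` commutes with `x`
      have h3 : (g * t * g⁻¹) * x = x * (g * t * g⁻¹) := by
        calc (g * t * g⁻¹) * x = g * (t * (g⁻¹ * x * g)) * g⁻¹ := by group
          _ = g * ((g⁻¹ * x * g) * t) * g⁻¹ := by rw [h2]
          _ = x * (g * t * g⁻¹) := by group
      have h4 : g * t * g⁻¹ ∈ centralizer ((P : Subgroup G) : Set G) := by
        rw [← hzx, mem_centralizer_iff]
        intro z hz
        obtain ⟨k, rfl⟩ := mem_zpowers_iff.1 hz
        exact ((show Commute (g * t * g⁻¹) x from h3).zpow_right k).eq.symm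
      have h5 : orderOf (g * t * g⁻¹) = 2 :=
        (orderOf_eq_of_isConj (isConj_iff.2 ⟨g, rfl⟩)).trans hto
      have h6 := huniq _ (hCN h4) h5
      rw [mul_one]
      apply (centralizer ({t} : Set G)).inv_mem
      rw [mem_centralizer_singleton_iff]
      calc g * t = (g * t * g⁻¹) * g := by group
        _ = t * g := by rw [h6]
    · rintro rfl
      rw [MulAction.Quotient.smul_mk, QuotientGroup.eq]
      have : (x * 1)⁻¹ * 1 = x⁻¹ := by group
      rw [smul_eq_mul, this]
      apply (centralizer ({t} : Set G)).inv_mem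
      rw [mem_centralizer_singleton_iff]
      exact hxt.eq
  have hmod7' := card_fixedBy_modEq_one_of_commute (Ω := G ⧸ centralizer ({t} : Set G)) hxo hxt hfix
  have h4' := four_dvd_index_sub_card_fixedBy hG2 (centralizer ({t} : Set G)) hto
  have hle' := card_fixedBy_le_index (centralizer ({t} : Set G)) t
  rw [hMidx] at h4' hle'
  have hf15 : Nat.card (fixedBy (G ⧸ centralizer ({t} : Set G)) t) = 15 := by
    have hm : Nat.card (fixedBy (G ⧸ centralizer ({t} : Set G)) t) % 7 = 1 := hmod7'
    set f' := Nat.card (fixedBy (G ⧸ centralizer ({t} : Set G)) t) with hf'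
    clear_value f'
    interval_cases f' <;> omega
  apply ht1
  apply eq_one_of_card_fixedBy_eq (centralizer ({t} : Set G)) hMtop
  rw [hf15, hMidx]

end Cfsg.Agent.Lib.H8.O5040
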