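import Mathlib
import Cfsg.Agent.Lib.H8.O5040L4a
import Cfsg.Agent.Lib.H5.EmbedAlt
import Cfsg.Agent.S4304

set_option autoImplicit false

/-!
# Order 5040, lemma L4: if `n₇ = 120` then `|C(P₇)| = 7`
-/

namespace Cfsg.Agent.Lib.H8.O5040

open Subgroup MulAction
open Cfsg.Agent.Lib.H5 Cfsg.Agent.Lib.H5.SylPrime Cfsg.Agent.Lib.H5.GenTests

variable {G : Type*} [Group G]

/-- A subgroup `H ≥ P` of order `315` cannot exist when `|N(P)| = 42`. -/
theorem not_card_315 [Finite G] [Fact (Nat.Prime 7)] (P : Sylow 7 G)
    (hP : Nat.card (P : Subgroup G) = 7)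
    (hN42 : Nat.card (normalizer ((P : Subgroup G) : Set G)) = 42) (H : Subgroup G)
    (hPH : (P : Subgroup G) ≤ H) (hH : Nat.card H = 315) : False := by
  set P' : Sylow 7 H := P.subtype hPH with hP'
  have hP'card : Nat.card (P' : Subgroup H) = 7 := by
    rw [hP', Sylow.coe_subtype]
    exact (Nat.card_congr (subgroupOfEquivOfLe hPH).toEquiv).trans hP
  have hidx : (P' : Subgroup H).index = 45 := by
    have := (P' : Subgroup H).card_mul_index
    rw [hP'card, hH] at this
    omega
  have h1 : Nat.card (Sylow 7 H) ∣ 45 := hidx ▸ P'.card_dvd_index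
  have h2 : Nat.card (Sylow 7 H) ≡ 1 [MOD 7] := card_sylow_modEq_one 7 H
  have h3 : Nat.card (Sylow 7 H) ≠ 15 := Cfsg.Agent.S4304.result
  have h4 : Nat.card (Sylow 7 H) = 1 := by
    have hm : Nat.card (Sylow 7 H) % 7 = 1 := h2
    have hle : Nat.card (Sylow 7 H) ≤ 45 := Nat.le_of_dvd (by norm_num) h1
    set k := Nat.card (Sylow 7 H) with hk
    clear_value k
    interval_cases k <;> omega
  have h5 : (normalizer ((P' : Subgroup H) : Set H)).index = 1 := by
    have := Sylow.card_eq_index_normalizer P'
    rw [h4] at this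
    exact this.symm
  have h6 : normalizer ((P' : Subgroup H) : Set H) = ⊤ := index_eq_one.1 h5
  have hnorm : (P' : Subgroup H).Normal := normalizer_eq_top_iff.1 h6
  have hHN : H ≤ normalizer ((P : Subgroup G) : Set G) := by
    intro h hh
    apply mem_normalizer_fintype
    intro x hx
    have hx' : (⟨x, hPH hx⟩ : H) ∈ (P' : Subgroup H) := by
      rw [hP', Sylow.coe_subtype, mem_subgroupOf]
      exact hx
    have := hnorm.conj_mem _ hx' ⟨h, hh⟩
    rw [hP', Sylow.coe_subtype, mem_subgroupOf] at this
    exact this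
  have := Subgroup.card_dvd_of_le hHN
  rw [hH, hN42] at this
  omega

/-- The case `|C(P₇)| = 21` is impossible. -/
theorem not_card_centralizer_21 [Finite G] [IsSimpleGroup G] (hG : Nat.card G = 5040)
    [Fact (Nat.Prime 7)] (h120 : Nat.card (Sylow 7 G) = 120) (P : Sylow 7 G)
    (hC : Nat.card (centralizer ((P : Subgroup G) : Set G)) = 21)
    (hr : (centralizer ((P : Subgroup G) : Set G)).relIndex
      (normalizer ((P : Subgroup G) : Set G)) = 2) : False := by
  haveI : Fact (Nat.Prime 3) := ⟨Nat.prime_three⟩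
  obtain ⟨hnc, hP, hN42, hidx, hNtop, hPC, -⟩ := basics7 hG h120 P
  have hCN : centralizer ((P : Subgroup G) : Set G) ≤ normalizer ((P : Subgroup G) : Set G) :=
    centralizer_le_normalizer _
  have hCab : ∀ a ∈ centralizer ((P : Subgroup G) : Set G),
      ∀ b ∈ centralizer ((P : Subgroup G) : Set G), a * b = b * a :=
    centralizer_comm_of_card (p := 7) (q := 3) (j := 1) (P : Subgroup G) hP (by norm_num)
      (by norm_num) (by rw [hC]; norm_num)
  -- an element `y` of order 3 of `C`
  obtain ⟨y', hy'⟩ := exists_prime_orderOf_dvd_card' (G := centralizer ((P : Subgroup G) : Set G)) 3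
    (by rw [hC]; norm_num)
  obtain ⟨y, hyC, hyo⟩ : ∃ y ∈ centralizer ((P : Subgroup G) : Set G), orderOf y = 3 :=
    ⟨y', y'.2, by rw [Subgroup.orderOf_coe]; exact hy'⟩
  have hyN : y ∈ normalizer ((P : Subgroup G) : Set G) := hCN hyC
  have hy1 : y ≠ 1 := by
    intro h
    rw [h, orderOf_one] at hyo
    omega
  -- the 3-elements of `C`
  obtain ⟨D, hDdef⟩ : ∃ D : Subgroup G, D = powKer (centralizer ((P : Subgroup G) : Set G)) hCab 3 :=
    ⟨_, rfl⟩
  have hDmem : ∀ c : G, c ∈ D ↔ c ∈ centralizer ((P : Subgroup G) : Set G) ∧ c ^ 3 = 1 := by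
    intro c
    rw [hDdef]
    exact mem_powKer
  have hD3 : IsPGroup 3 D := by
    intro v
    refine ⟨1, ?_⟩
    apply Subtype.ext
    have := ((hDmem v).1 v.2).2
    simpa using this
  have hDcard : Nat.card D ≤ 3 := by
    obtain ⟨k, hk⟩ := (IsPGroup.iff_card).1 hD3
    have hd : Nat.card D ∣ 21 := by
      rw [← hC]
      exact Subgroup.card_dvd_of_le (fun c hc => ((hDmem c).1 hc).1)
    rw [hk] at hd ⊢
    have hk1 : k ≤ 1 := by
      by_contra hlt
      push Not at hlt
      have : 3 ^ 2 ∣ 21 := (pow_dvd_pow 3 hlt).trans hd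
      omega
    calc 3 ^ k ≤ 3 ^ 1 := Nat.pow_le_pow_right (by norm_num) hk1
      _ = 3 := by norm_num
  have hyD : y ∈ D := (hDmem y).2 ⟨hyC, by rw [← hyo, pow_orderOf_eq_one]⟩
  have hDeq : zpowers y = D := by
    apply Subgroup.eq_of_le_of_card_ge (zpowers_le.2 hyD)
    rw [Nat.card_zpowers, hyo]
    exact hDcard
  -- elements of order 3 of `N` are `y` or `y²`
  have hord3 : ∀ s ∈ normalizer ((P : Subgroup G) : Set G), orderOf s = 3 → s = y ∨ s = y ^ 2 := by
    intro s hs hso
    have hs3 : s ^ 3 = 1 := by rw [← hso, pow_orderOf_eq_one]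
    have h2 := pow_relIndex_mem_centralizer ((P : Subgroup G) : Set G) hs
    rw [hr] at h2
    have e : (s ^ 2)⁻¹ = s := by
      have : s ^ 2 * s = 1 := by rw [← pow_succ]; exact hs3
      exact inv_eq_of_mul_eq_one_right this
    have hsC : s ∈ centralizer ((P : Subgroup G) : Set G) := by
      rw [← e]
      exact (centralizer ((P : Subgroup G) : Set G)).inv_mem h2
    have hsD : s ∈ D := (hDmem s).2 ⟨hsC, hs3⟩
    rw [← hDeq] at hsD
    classical
    rw [mem_zpowers_iff_mem_range_orderOf, hyo] at hsD
    simp only [Finset.mem_image, Finset.mem_range] at hsD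
    obtain ⟨k, hk, rfl⟩ := hsD
    interval_cases k
    · rw [pow_zero, orderOf_one] at hso
      omega
    · left; rw [pow_one]
    · right; rfl
  -- the conjugates of `y` in `N`
  have hconj1 : 1 ≤ Nat.card {g : G // IsConj y g ∧ g ∈ normalizer ((P : Subgroup G) : Set G)} := by
    haveI : Nonempty {g : G // IsConj y g ∧ g ∈ normalizer ((P : Subgroup G) : Set G)} :=
      ⟨⟨y, IsConj.refl y, hyN⟩⟩
    exact Nat.card_pos
  have hconj2 : Nat.card {g : G // IsConj y g ∧ g ∈ normalizer ((P : Subgroup G) : Set G)} ≤ 2 := by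
    classical
    let φ : {g : G // IsConj y g ∧ g ∈ normalizer ((P : Subgroup G) : Set G)} → Bool :=
      fun g => decide ((g : G) = y)
    have hφ : Function.Injective φ := by
      rintro ⟨a, ha1, ha2⟩ ⟨b, hb1, hb2⟩ hab
      apply Subtype.ext
      show a = b
      have hab' : decide (a = y) = decide (b = y) := hab
      have ha3 := hord3 a ha2 ((orderOf_eq_of_isConj ha1).trans hyo)
      have hb3 := hord3 b hb2 ((orderOf_eq_of_isConj hb1).trans hyo)
      by_cases h : a = y
      · have : b = y := by
          have : decide (b = y) = true := by rw [← hab']; exact decide_eq_true h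
          exact of_decide_eq_true this
        rw [h, this]
      · have hb : ¬ b = y := by
          intro hb
          have : decide (a = y) = true := by rw [hab']; exact decide_eq_true hb
          exact h (of_decide_eq_true this)
        rcases ha3 with ha3 | ha3
        · exact absurd ha3 h
        · rcases hb3 with hb3 | hb3
          · exact absurd hb3 hb
          · rw [ha3, hb3]
    have := Nat.card_le_card_of_injective φ hφ
    simpa using this
  -- fixed points of `y` on `G ⧸ N`
  have hcount := card_fixedBy_mul_card (normalizer ((P : Subgroup G) : Set G)) hyN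
  rw [hN42] at hcount
  have hmod7 := card_fixedBy_modEq_one 7 P hP hyC
  have hmod3 := card_modEq_card_fixedBy (Ω := G ⧸ normalizer ((P : Subgroup G) : Set G)) (r := 3)
    (k := 1) (y := y) (by rw [pow_one]; exact hyo)
  have hcardΩ : Nat.card (G ⧸ normalizer ((P : Subgroup G) : Set G)) = 120 := hidx
  rw [hcardΩ] at hmod3
  have hle := card_fixedBy_le_index (normalizer ((P : Subgroup G) : Set G)) y
  have hne : Nat.card (fixedBy (G ⧸ normalizer ((P : Subgroup G) : Set G)) y) ≠ 120 := by
    intro h
    apply hy1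
    apply eq_one_of_card_fixedBy_eq (normalizer ((P : Subgroup G) : Set G)) hNtop
    rw [h, hidx]
  rw [hidx] at hle
  have hdvd : Nat.card (centralizer ({y} : Set G)) ∣ 5040 := by
    rw [← hG]
    exact Subgroup.card_subgroup_dvd_card _
  have hPy : (P : Subgroup G) ≤ centralizer ({y} : Set G) := by
    intro x hx
    rw [mem_centralizer_singleton_iff]
    exact (mem_centralizer_iff.1 hyC x hx)
  set f := Nat.card (fixedBy (G ⧸ normalizer ((P : Subgroup G) : Set G)) y) with hf
  set c := Nat.card {g : G // IsConj y g ∧ g ∈ normalizer ((P : Subgroup G) : Set G)} with hc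
  set K := Nat.card (centralizer ({y} : Set G)) with hK
  have hm7 : f % 7 = 1 := hmod7
  have hm3 : f % 3 = 0 := by
    have : 120 % 3 = f % 3 := hmod3
    omega
  have hc12 : c = 1 ∨ c = 2 := by omega
  rcases hc12 with hc1 | hc2
  · -- `K = 42 f`, `f ∣ 120`, so `f = 15`, `K = 630`
    rw [hc1, mul_one] at hcount
    have hf120 : f ∣ 120 := by
      rw [← hcount] at hdvd
      exact Nat.dvd_of_mul_dvd_mul_right (by norm_num : 0 < 42) (by simpa using hdvd)
    have hf15 : f = 15 := by
      clear_value f
      interval_cases f <;> omega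
    have hK630 : K = 630 := by omega
    have hidx8 : (centralizer ({y} : Set G)).index = 8 := by
      have := (centralizer ({y} : Set G)).card_mul_index
      rw [← hK, hK630, hG] at this
      omega
    have := two_mul_card_normalizer_dvd hnc (p := 7) (by norm_num) (centralizer ({y} : Set G))
      (Or.inr hidx8) P hP
    rw [hN42] at this
    omega
  · -- `K = 21 f`, `f ∣ 240`, so `f = 15`, `K = 315`
    rw [hc2] at hcount
    have hK21 : K = 21 * f := by omega
    have hf240 : f ∣ 240 := by
      rw [hK21] at hdvd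
      exact Nat.dvd_of_mul_dvd_mul_left (by norm_num : 0 < 21) (by simpa using hdvd)
    have hf15 : f = 15 := by
      clear_value f
      interval_cases f <;> omega
    have hK315 : K = 315 := by omega
    exact not_card_315 P hP hN42 (centralizer ({y} : Set G)) hPy hK315

/-- **L4**: if `n₇ = 120` then `|C(P₇)| = 7`. -/
theorem card_centralizer_sylow_seven [Finite G] [IsSimpleGroup G] (hG : Nat.card G = 5040)
    [Fact (Nat.Prime 7)] (h120 : Nat.card (Sylow 7 G) = 120) (P : Sylow 7 G) :
    Nat.card (centralizer ((P : Subgroup G) : Set G)) = 7 := by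
  obtain ⟨-, -, -, -, -, -, h | h | h⟩ := basics7 hG h120 P
  · exact h.1
  · exact (not_card_centralizer_14 hG h120 P h.1 h.2).elim
  · exact (not_card_centralizer_21 hG h120 P h.1 h.2).elim

end Cfsg.Agent.Lib.H8.O5040
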