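import Mathlib
import Cfsg.Prelude.Def_Blocks
import Cfsg.Prelude.Def_Local
import Cfsg.Prelude.Def_Solvable
import Cfsg.Prelude.Def_Characters
import Cfsg.Agent.Lib.L0.CharOps

/-!
# S4886 piece SEP (helper8)

`N` abelian normal.  If `x` fixes every `P₀`-invariant `λ ∈ Irr(N)` then `[x, n] ∈ [N, P₀]` for all
`n ∈ N`: linear characters of `N / [N, P₀]` separate points.
-/

set_option autoImplicit false
set_option linter.unusedVariables false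

namespace Cfsg.Agent.Lib.H8.PQ2

open Cfsg Cfsg.Agent.Lib.L0

/-- SEP -/
theorem commutator_mem_of_fixes_invariant {G : Type*} [Group G] [Finite G] (N P₀ : Subgroup G)
    [N.Normal] (hNab : ∀ a ∈ N, ∀ b ∈ N, a * b = b * a) (x : G)
    (hx : ∀ lam : IrrCharacter N,
      (∀ s ∈ P₀, ∀ g g' : N, (g' : G) = s * g * s⁻¹ → (lam : N → ℂ) g' = (lam : N → ℂ) g) →
      ∀ g g' : N, (g' : G) = x * g * x⁻¹ → (lam : N → ℂ) g' = (lam : N → ℂ) g) :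
    ∀ n ∈ N, x * n * x⁻¹ * n⁻¹ ∈
      Subgroup.closure {c : G | ∃ s ∈ P₀, ∃ m ∈ N, c = s * m * s⁻¹ * m⁻¹} := by
  classical
  have hNn : N.Normal := inferInstance
  have hN₀N : Subgroup.closure {c : G | ∃ s ∈ P₀, ∃ m ∈ N, c = s * m * s⁻¹ * m⁻¹} ≤ N := by
    rw [Subgroup.closure_le]
    rintro c ⟨s, hs, m, hm, rfl⟩
    exact N.mul_mem (hNn.conj_mem m hm s) (N.inv_mem hm)
  intro n hn
  by_contra hc
  letI : CommGroup N :=
    { (inferInstance : Group N) with mul_comm := fun a b => Subtype.ext (hNab a a.2 b b.2) }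
  let K : Subgroup N :=
    (Subgroup.closure {c : G | ∃ s ∈ P₀, ∃ m ∈ N, c = s * m * s⁻¹ * m⁻¹}).subgroupOf N
  have hcN : x * n * x⁻¹ * n⁻¹ ∈ N := N.mul_mem (hNn.conj_mem n hn x) (N.inv_mem hn)
  have hne : (QuotientGroup.mk (⟨x * n * x⁻¹ * n⁻¹, hcN⟩ : N) : N ⧸ K) ≠ 1 := by
    rw [Ne, QuotientGroup.eq_one_iff]
    exact hc
  obtain ⟨μ, hμ⟩ := CommGroup.exists_apply_ne_one_of_hasEnoughRootsOfUnity (N ⧸ K) ℂ hne
  let f : N →* ℂˣ := μ.comp (QuotientGroup.mk' K)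
  have hinv : ∀ s ∈ P₀, ∀ g g' : N, (g' : G) = s * g * s⁻¹ → f g' = f g := by
    intro s hs g g' h
    show μ (QuotientGroup.mk g') = μ (QuotientGroup.mk g)
    congr 1
    rw [eq_comm, QuotientGroup.eq, mul_comm, Subgroup.mem_subgroupOf]
    apply Subgroup.subset_closure
    refine ⟨s, hs, g, g.2, ?_⟩
    simp [h]
  have key := hx ⟨fun g => (f g : ℂ), isIrrCharacter_of_hom f⟩
    (fun s hs g g' h => by
      show ((f g' : ℂˣ) : ℂ) = ((f g : ℂˣ) : ℂ)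
      rw [hinv s hs g g' h])
    ⟨n, hn⟩ ⟨x * n * x⁻¹, hNn.conj_mem n hn x⟩ rfl
  have key' : f ⟨x * n * x⁻¹, hNn.conj_mem n hn x⟩ = f ⟨n, hn⟩ := Units.ext key
  apply hμ
  have h1 : (⟨x * n * x⁻¹ * n⁻¹, hcN⟩ : N) = ⟨x * n * x⁻¹, hNn.conj_mem n hn x⟩ * ⟨n, hn⟩⁻¹ :=
    Subtype.ext (by simp)
  show f ⟨x * n * x⁻¹ * n⁻¹, hcN⟩ = 1
  rw [h1, map_mul, map_inv, key', mul_inv_cancel]

end Cfsg.Agent.Lib.H8.PQ2
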