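import Mathlib

set_option autoImplicit false

/-!
# Conjugacy classes of a central quotient (Burnside count)

For a finite group `G` and a central subgroup `Z`:
`k(G ⧸ Z) * |Z| = ∑_{z ∈ Z} #{C conjugacy class of G | z C = C}`.
-/

namespace Cfsg.Agent.Lib.H8.CentralClassCount

variable {G : Type*} [Group G]

/-- multiplication by a central element preserves conjugacy -/
theorem isConj_mul_left {z : G} (hz : z ∈ Subgroup.center G) {a b : G} (h : IsConj a b) :
    IsConj (z * a) (z * b) := by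
  rw [isConj_iff] at h ⊢
  obtain ⟨c, rfl⟩ := h
  refine ⟨c, ?_⟩
  have hzc : c * z = z * c := (Subgroup.mem_center_iff.mp hz c)
  calc c * (z * a) * c⁻¹ = (c * z) * a * c⁻¹ := by group
    _ = (z * c) * a * c⁻¹ := by rw [hzc]
    _ = z * (c * a * c⁻¹) := by group

/-- multiplication by a central element on conjugacy classes -/
def mulClass (z : G) (hz : z ∈ Subgroup.center G) : ConjClasses G → ConjClasses G :=
  Quotient.map' (fun g => z * g) (fun _ _ h => isConj_mul_left hz h)

theorem mulClass_mk (z : G) (hz : z ∈ Subgroup.center G) (g : G) :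
    mulClass z hz (ConjClasses.mk g) = ConjClasses.mk (z * g) := rfl

/-- the action of a central subgroup on the conjugacy classes by multiplication -/
@[reducible] def zAct (Z : Subgroup G) (hZ : Z ≤ Subgroup.center G) : MulAction ↥Z (ConjClasses G) where
  smul z C := mulClass (z : G) (hZ z.2) C
  one_smul C := by
    induction C using ConjClasses.mk_surjective.forall.mpr with
    | _ g =>
      show mulClass ((1 : ↥Z) : G) _ (ConjClasses.mk g) = ConjClasses.mk g
      rw [mulClass_mk]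
      simp
  mul_smul a b C := by
    induction C using ConjClasses.mk_surjective.forall.mpr with
    | _ g =>
      show mulClass ((a * b : ↥Z) : G) _ (ConjClasses.mk g) =
        mulClass (a : G) _ (mulClass (b : G) _ (ConjClasses.mk g))
      rw [mulClass_mk, mulClass_mk, mulClass_mk]
      simp [mul_assoc]

theorem zAct_smul_mk (Z : Subgroup G) (hZ : Z ≤ Subgroup.center G) (z : ↥Z) (g : G) :
    (letI := zAct Z hZ; z • ConjClasses.mk g) = ConjClasses.mk ((z : G) * g) := rfl

section quotient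

variable (Z : Subgroup G) [Z.Normal] (hZ : Z ≤ Subgroup.center G)

/-- the map from classes of `G` to classes of `G ⧸ Z` -/
def toQ : ConjClasses G → ConjClasses (G ⧸ Z) := ConjClasses.map (QuotientGroup.mk' Z)

theorem toQ_mk (g : G) : toQ Z (ConjClasses.mk g) = ConjClasses.mk (g : G ⧸ Z) := rfl

theorem toQ_surjective : Function.Surjective (toQ Z) :=
  ConjClasses.map_surjective (QuotientGroup.mk'_surjective Z)

include hZ in
/-- two classes of `G` have the same image in `G ⧸ Z` iff they are in the same `Z`-orbit -/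
theorem toQ_eq_iff (C D : ConjClasses G) :
    toQ Z C = toQ Z D ↔ (letI := zAct Z hZ; ∃ z : ↥Z, z • C = D) := by
  letI := zAct Z hZ
  induction C using ConjClasses.mk_surjective.forall.mpr with
  | _ g =>
  induction D using ConjClasses.mk_surjective.forall.mpr with
  | _ h =>
  rw [toQ_mk, toQ_mk, ConjClasses.mk_eq_mk_iff_isConj, isConj_iff]
  constructor
  · rintro ⟨x, hx⟩
    obtain ⟨x, rfl⟩ := QuotientGroup.mk_surjective x
    have h1 : ((x * g * x⁻¹ : G) : G ⧸ Z) = (h : G ⧸ Z) := by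
      simpa using hx
    have h2 : (x * g * x⁻¹)⁻¹ * h ∈ Z := QuotientGroup.eq.mp h1
    refine ⟨⟨(x * g * x⁻¹)⁻¹ * h, h2⟩, ?_⟩
    rw [zAct_smul_mk, ConjClasses.mk_eq_mk_iff_isConj, isConj_iff]
    refine ⟨x, ?_⟩
    have hzc : x * ((x * g * x⁻¹)⁻¹ * h) = ((x * g * x⁻¹)⁻¹ * h) * x :=
      Subgroup.mem_center_iff.mp (hZ h2) x
    have hzc2 : (x * g * x⁻¹) * ((x * g * x⁻¹)⁻¹ * h) = ((x * g * x⁻¹)⁻¹ * h) * (x * g * x⁻¹) :=
      Subgroup.mem_center_iff.mp (hZ h2) _
    calc x * ((x * g * x⁻¹)⁻¹ * h * g) * x⁻¹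
        = (x * ((x * g * x⁻¹)⁻¹ * h)) * g * x⁻¹ := by group
      _ = (((x * g * x⁻¹)⁻¹ * h) * x) * g * x⁻¹ := by rw [hzc]
      _ = ((x * g * x⁻¹)⁻¹ * h) * (x * g * x⁻¹) := by group
      _ = (x * g * x⁻¹) * ((x * g * x⁻¹)⁻¹ * h) := by rw [hzc2]
      _ = h := by group
  · rintro ⟨z, hz⟩
    rw [zAct_smul_mk, ConjClasses.mk_eq_mk_iff_isConj, isConj_iff] at hz
    obtain ⟨x, hx⟩ := hz
    refine ⟨(x : G ⧸ Z), ?_⟩
    have h1 : ((z : G) : G ⧸ Z) = 1 := (QuotientGroup.eq_one_iff _).mpr z.2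
    calc (x : G ⧸ Z) * (g : G ⧸ Z) * (x : G ⧸ Z)⁻¹
        = (x : G ⧸ Z) * (((z : G) : G ⧸ Z) * (g : G ⧸ Z)) * (x : G ⧸ Z)⁻¹ := by rw [h1, one_mul]
      _ = ((x * ((z : G) * g) * x⁻¹ : G) : G ⧸ Z) := by simp
      _ = (h : G ⧸ Z) := by rw [hx]

/-- the orbits of `Z` on the classes of `G` are the classes of `G ⧸ Z` -/
noncomputable def orbitsEquiv :
    (letI := zAct Z hZ; Quotient (MulAction.orbitRel ↥Z (ConjClasses G))) ≃ ConjClasses (G ⧸ Z) := by
  letI := zAct Z hZ
  refine Equiv.ofBijective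
    (Quotient.lift (toQ Z) (fun C D hCD => ?_)) ⟨?_, ?_⟩
  · -- well defined
    have h : C ∈ MulAction.orbit ↥Z D := hCD
    obtain ⟨z, hz⟩ := h
    exact ((toQ_eq_iff Z hZ D C).mpr ⟨z, hz⟩).symm
  · -- injective
    rintro ⟨C⟩ ⟨D⟩ hCD
    have h1 : toQ Z C = toQ Z D := hCD
    obtain ⟨z, hz⟩ := (toQ_eq_iff Z hZ C D).mp h1
    apply Quotient.sound
    show C ∈ MulAction.orbit ↥Z D
    refine ⟨z⁻¹, ?_⟩
    show z⁻¹ • D = C
    rw [← hz, inv_smul_smul]
  · -- surjective
    intro Q
    obtain ⟨C, rfl⟩ := toQ_surjective Z Q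
    exact ⟨Quotient.mk'' C, rfl⟩

end quotient

section count

variable [Finite G] (Z : Subgroup G) [Z.Normal] (hZ : Z ≤ Subgroup.center G)

/-- **Burnside count** for a central subgroup:
`k(G ⧸ Z) * |Z| = ∑_{z ∈ Z} #{C | z C = C}` -/
theorem card_classes_quotient_mul :
    Nat.card (ConjClasses (G ⧸ Z)) * Nat.card ↥Z =
      ∑ᶠ z : ↥Z, Nat.card {C : ConjClasses G // mulClass (z : G) (hZ z.2) C = C} := by
  classical
  letI := zAct Z hZ
  haveI : Fintype G := Fintype.ofFinite G
  haveI : Fintype ↥Z := Fintype.ofFinite _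
  haveI : Fintype (ConjClasses G) := Fintype.ofFinite _
  haveI : Fintype (Quotient (MulAction.orbitRel ↥Z (ConjClasses G))) := Fintype.ofFinite _
  have hB := MulAction.sum_card_fixedBy_eq_card_orbits_mul_card_group ↥Z (ConjClasses G)
  rw [finsum_eq_sum_of_fintype]
  rw [← Nat.card_congr (orbitsEquiv Z hZ), Nat.card_eq_fintype_card, Nat.card_eq_fintype_card, ← hB]
  apply Finset.sum_congr rfl
  intro z _
  rw [Nat.card_eq_fintype_card]
  apply Fintype.card_congr
  exact Equiv.refl _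

omit [Finite G] in
/-- the identity fixes every class -/
theorem mulClass_one (C : ConjClasses G) : mulClass (1 : G) (Subgroup.one_mem _) C = C := by
  induction C using ConjClasses.mk_surjective.forall.mpr with
  | _ g => rw [mulClass_mk, one_mul]

include hZ in
/-- `k(G) ≤ k(G ⧸ Z) * |Z|` -/
theorem card_classes_le :
    Nat.card (ConjClasses G) ≤ Nat.card (ConjClasses (G ⧸ Z)) * Nat.card ↥Z := by
  classical
  rw [card_classes_quotient_mul Z hZ]
  haveI : Fintype ↥Z := Fintype.ofFinite _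
  rw [finsum_eq_sum_of_fintype]
  have h1 : Nat.card (ConjClasses G) =
      Nat.card {C : ConjClasses G // mulClass ((1 : ↥Z) : G) (hZ (1 : ↥Z).2) C = C} := by
    symm
    apply Nat.card_congr
    exact Equiv.subtypeUnivEquiv (fun C => mulClass_one C)
  rw [h1]
  exact Finset.single_le_sum (f := fun z : ↥Z =>
    Nat.card {C : ConjClasses G // mulClass (z : G) (hZ z.2) C = C}) (fun _ _ => Nat.zero_le _)
    (Finset.mem_univ (1 : ↥Z))

/-- `k(G ⧸ Z) * |Z| = k(G) + ∑_{z ≠ 1} #{C | z C = C}` -/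
theorem card_classes_quotient_mul' [Fintype ↥Z] [DecidableEq ↥Z] :
    Nat.card (ConjClasses (G ⧸ Z)) * Nat.card ↥Z =
      Nat.card (ConjClasses G) +
        ∑ z ∈ (Finset.univ : Finset ↥Z).erase 1,
          Nat.card {C : ConjClasses G // mulClass (z : G) (hZ z.2) C = C} := by
  rw [card_classes_quotient_mul Z hZ, finsum_eq_sum_of_fintype]
  rw [← Finset.add_sum_erase _ _ (Finset.mem_univ (1 : ↥Z))]
  congr 1
  apply Nat.card_congr
  exact Equiv.subtypeUnivEquiv (fun C => mulClass_one C)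

end count

end Cfsg.Agent.Lib.H8.CentralClassCount
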