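import Mathlib
import Cfsg.Prelude.Def_Local
import Cfsg.Agent.Lib.H10.PSolvable2
import Cfsg.Agent.Lib.H4.PSolvSub

/-! S4411 piece HALL: Hall `{p, q}`-subgroups of `p`-solvable groups containing a given Sylow
`p`-subgroup. -/

set_option autoImplicit false

namespace Cfsg.Agent.Lib.H8.AutQ

universe u

theorem hallOrd_mul_pq {p q : ℕ} (hp : p.Prime) (hq : q.Prime) (hpq : p ≠ q) (i j m : ℕ)
    (hm : m ≠ 0) :
    p ^ (p ^ i * q ^ j * m).factorization p * q ^ (p ^ i * q ^ j * m).factorization q =
      p ^ i * q ^ j * (p ^ m.factorization p * q ^ m.factorization q) := by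
  have h1 : p ^ i * q ^ j ≠ 0 := mul_ne_zero (pow_ne_zero _ hp.ne_zero) (pow_ne_zero _ hq.ne_zero)
  have hfp : (p ^ i * q ^ j * m).factorization p = i + m.factorization p := by
    rw [Nat.factorization_mul h1 hm,
      Nat.factorization_mul (pow_ne_zero _ hp.ne_zero) (pow_ne_zero _ hq.ne_zero)]
    simp [Nat.Prime.factorization_pow hp, Nat.Prime.factorization_pow hq, hpq]
  have hfq : (p ^ i * q ^ j * m).factorization q = j + m.factorization q := by
    rw [Nat.factorization_mul h1 hm,
      Nat.factorization_mul (pow_ne_zero _ hp.ne_zero) (pow_ne_zero _ hq.ne_zero)]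
    simp [Nat.Prime.factorization_pow hp, Nat.Prime.factorization_pow hq, hpq.symm]
  rw [hfp, hfq, pow_add, pow_add]
  ring

/-- pulling a Hall subgroup back from a quotient by a normal `{p, q}`-subgroup -/
theorem hall_pullback {X : Type u} [Group X] [Finite X] {p q : ℕ} (hp : p.Prime) (hq : q.Prime)
    (hpq : p ≠ q) (M : Subgroup X) [M.Normal] (i j : ℕ) (hM : Nat.card M = p ^ i * q ^ j)
    (Ybar : Subgroup (X ⧸ M))
    (hY : Nat.card Ybar = p ^ (Nat.card (X ⧸ M)).factorization p *
      q ^ (Nat.card (X ⧸ M)).factorization q) :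
    Nat.card (Ybar.comap (QuotientGroup.mk' M)) =
      p ^ (Nat.card X).factorization p * q ^ (Nat.card X).factorization q := by
  have h1 : Nat.card (Ybar.comap (QuotientGroup.mk' M)) = Nat.card M * Nat.card Ybar := by
    have := QuotientGroup.card_preimage_mk M (Ybar : Set (X ⧸ M))
    exact this
  have h2 : Nat.card X = Nat.card (X ⧸ M) * Nat.card M :=
    Subgroup.card_eq_card_quotient_mul_card_subgroup M
  rw [h1, h2, hM, hY, mul_comm (Nat.card (X ⧸ M)) (p ^ i * q ^ j),
    hallOrd_mul_pq hp hq hpq i j _ Nat.card_pos.ne']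

/-- `v_r(k * m) = v_r(m)` when `r ∤ k`. -/
theorem factorization_mul_of_not_dvd {r k m : ℕ} (hk : k ≠ 0) (hm : m ≠ 0) (h : ¬ r ∣ k) :
    (k * m).factorization r = m.factorization r := by
  rw [Nat.factorization_mul hk hm]
  simp [Nat.factorization_eq_zero_of_not_dvd h]

/-- Frattini step: if `L ⊔ M = ⊤` with `M` normal, then `|X : L| = |M : L ⊓ M|`. -/
theorem index_eq_relIndex_of_sup_eq_top {X : Type u} [Group X] [Finite X] (L M : Subgroup X)
    [M.Normal] (hsup : L ⊔ M = ⊤) : L.index = L.relIndex M := by
  have h1 : M.index = M.relIndex L := by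
    rw [← Subgroup.relIndex_sup_right L M, hsup, Subgroup.relIndex_top_right]
  have h2 : M.relIndex L * L.index = (M ⊓ L).index := by
    rw [← Subgroup.inf_relIndex_right M L]
    exact Subgroup.relIndex_mul_index inf_le_right
  have h3 : L.relIndex M * M.index = (M ⊓ L).index := by
    rw [← Subgroup.inf_relIndex_right L M, inf_comm L M]
    exact Subgroup.relIndex_mul_index inf_le_left
  have hpos : 0 < M.relIndex L := by
    rw [← h1]
    exact Nat.pos_of_ne_zero Subgroup.index_ne_zero_of_finite
  have : M.relIndex L * L.index = M.relIndex L * L.relIndex M := by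
    rw [h2, ← h3, h1, mul_comm]
  exact Nat.eq_of_mul_eq_mul_left hpos this

theorem exists_hall_aux {p : ℕ} [hp : Fact p.Prime] (q : ℕ) [hq : Fact q.Prime] (hpq : p ≠ q) :
    ∀ (n : ℕ) (X : Type u) [Group X] [Finite X], Nat.card X = n → Cfsg.IsPSolvable p X →
      ∃ Y : Subgroup X,
        Nat.card Y = p ^ (Nat.card X).factorization p * q ^ (Nat.card X).factorization q := by
  intro n
  induction n using Nat.strong_induction_on with
  | _ n ih =>
  intro X _ _ hn hs
  by_cases htriv : Subsingleton X
  · refine ⟨⊥, ?_⟩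
    have h1 : Nat.card X = 1 := Nat.card_eq_one_iff_unique.2 ⟨htriv, ⟨1⟩⟩
    rw [h1]
    simp
  rw [not_subsingleton_iff_nontrivial] at htriv
  obtain ⟨M, hMn, hMne, hM⟩ := Cfsg.Agent.Lib.H10.exists_normal_of_isPSolvable hs
  have hquot_lt : ∀ (K : Subgroup X) [K.Normal], K ≠ ⊥ → Nat.card (X ⧸ K) < n := by
    intro K _ hK
    have h2 : Nat.card X = Nat.card (X ⧸ K) * Nat.card K :=
      Subgroup.card_eq_card_quotient_mul_card_subgroup K
    have h3 : 1 < Nat.card K := by
      rcases Nat.lt_or_ge 1 (Nat.card K) with h | h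
      · exact h
      · exfalso
        apply hK
        have : Nat.card K = 1 := le_antisymm h Nat.card_pos
        exact Subgroup.card_eq_one.1 this
    rw [← hn, h2]
    have hpos : 0 < Nat.card (X ⧸ K) := Nat.card_pos
    nlinarith
  have hsub_lt : ∀ (K : Subgroup X), K ≠ ⊤ → Nat.card K < n := by
    intro K hK
    rw [← hn]
    rcases lt_or_ge (Nat.card K) (Nat.card X) with h | h
    · exact h
    · exfalso
      apply hK
      exact (Subgroup.card_eq_iff_eq_top K).1 (le_antisymm (Subgroup.card_le_card_group K) h)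
  rcases hM with hMp | hMp'
  · -- `M` is a `p`-group
    obtain ⟨i, hi⟩ := IsPGroup.iff_card.1 hMp
    obtain ⟨Ybar, hYbar⟩ := ih _ (hquot_lt M hMne) (X ⧸ M) rfl
      (Cfsg.Agent.Lib.H10.isPSolvable_quotient hs M)
    exact ⟨_, hall_pullback hp.out hq.out hpq M i 0 (by simpa using hi) Ybar hYbar⟩
  · have hpM : ¬ p ∣ Nat.card M := by
      intro h
      have := Nat.dvd_gcd h (dvd_refl p)
      rw [hMp'] at this
      exact hp.out.one_lt.ne' (Nat.dvd_one.1 this)
    by_cases hqM : q ∣ Nat.card M
    · -- a Sylow `q`-subgroup of `M`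
      obtain ⟨Q⟩ : Nonempty (Sylow q M) := inferInstance
      set Mq : Subgroup X := (Q : Subgroup M).map M.subtype with hMq
      have hMqcard : Nat.card Mq = q ^ (Nat.card M).factorization q := by
        rw [hMq, Subgroup.card_subtype, Sylow.card_eq_multiplicity]
      have hMqne : Mq ≠ ⊥ := by
        intro h
        rw [h, Subgroup.card_bot] at hMqcard
        have hpos : 0 < (Nat.card M).factorization q :=
          hq.out.factorization_pos_of_dvd Nat.card_pos.ne' hqM
        have : 1 < q ^ (Nat.card M).factorization q := Nat.one_lt_pow hpos.ne' hq.out.one_lt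
        omega
      by_cases hnorm : Mq.Normal
      · obtain ⟨Ybar, hYbar⟩ := ih _ (hquot_lt Mq hMqne) (X ⧸ Mq) rfl
          (Cfsg.Agent.Lib.H10.isPSolvable_quotient hs Mq)
        exact ⟨_, hall_pullback hp.out hq.out hpq Mq 0 _ (by simpa using hMqcard) Ybar hYbar⟩
      · set L : Subgroup X := Subgroup.normalizer (Mq : Set X) with hL
        have hsup : L ⊔ M = ⊤ := Sylow.normalizer_sup_eq_top Q
        have hLne : L ≠ ⊤ := by
          intro h
          exact hnorm (Subgroup.normalizer_eq_top_iff.1 h)
        have hidx : L.index = L.relIndex M := index_eq_relIndex_of_sup_eq_top L M hsup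
        have hdvd : L.index ∣ Nat.card M := by
          rw [hidx]; exact Subgroup.relIndex_dvd_card L M
        have hpi : ¬ p ∣ L.index := fun h => hpM (dvd_trans h hdvd)
        have hqi : ¬ q ∣ L.index := by
          intro h
          have hle : (Q : Subgroup M) ≤ L.subgroupOf M := by
            intro x hx
            rw [Subgroup.mem_subgroupOf]
            apply Subgroup.le_normalizer
            exact Subgroup.mem_map_of_mem _ hx
          have h1 : (L.subgroupOf M).index ∣ (Q : Subgroup M).index :=
            Subgroup.index_dvd_of_le hle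
          have h2 : q ∣ (Q : Subgroup M).index := by
            rw [hidx] at h
            exact dvd_trans h h1
          exact Q.not_dvd_index h2
        have hcard : Nat.card X = L.index * Nat.card L := by
          rw [mul_comm]; exact (Subgroup.card_mul_index L).symm
        have hi0 : L.index ≠ 0 := Subgroup.index_ne_zero_of_finite
        have hfacp : (Nat.card X).factorization p = (Nat.card L).factorization p := by
          rw [hcard]; exact factorization_mul_of_not_dvd hi0 Nat.card_pos.ne' hpi
        have hfacq : (Nat.card X).factorization q = (Nat.card L).factorization q := by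
          rw [hcard]; exact factorization_mul_of_not_dvd hi0 Nat.card_pos.ne' hqi
        obtain ⟨Y, hY⟩ := ih _ (hsub_lt L hLne) L rfl
          (Cfsg.Agent.Lib.H4.PSolvSub.isPSolvable_subgroup hs L)
        refine ⟨Y.map L.subtype, ?_⟩
        rw [Subgroup.card_subtype, hY, hfacp, hfacq]
    · -- `q ∤ |M|`
      obtain ⟨Ybar, hYbar⟩ := ih _ (hquot_lt M hMne) (X ⧸ M) rfl
        (Cfsg.Agent.Lib.H10.isPSolvable_quotient hs M)
      set Y0 : Subgroup X := Ybar.comap (QuotientGroup.mk' M) with hY0
      have hY0card : Nat.card Y0 = Nat.card M * Nat.card Ybar :=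
        QuotientGroup.card_preimage_mk M (Ybar : Set (X ⧸ M))
      have hXcard : Nat.card X = Nat.card M * Nat.card (X ⧸ M) := by
        rw [mul_comm]; exact Subgroup.card_eq_card_quotient_mul_card_subgroup M
      have hM0 : Nat.card M ≠ 0 := Nat.card_pos.ne'
      have hfacp : (Nat.card X).factorization p = (Nat.card (X ⧸ M)).factorization p := by
        rw [hXcard]; exact factorization_mul_of_not_dvd hM0 Nat.card_pos.ne' hpM
      have hfacq : (Nat.card X).factorization q = (Nat.card (X ⧸ M)).factorization q := by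
        rw [hXcard]; exact factorization_mul_of_not_dvd hM0 Nat.card_pos.ne' hqM
      have hYbar0 : Nat.card Ybar ≠ 0 := Nat.card_pos.ne'
      -- the `p`- and `q`-parts of `|Ybar|`
      have hYp : (Nat.card Ybar).factorization p = (Nat.card (X ⧸ M)).factorization p := by
        rw [hYbar, Nat.factorization_mul (pow_ne_zero _ hp.out.ne_zero)
          (pow_ne_zero _ hq.out.ne_zero)]
        simp [Nat.Prime.factorization_pow hp.out, Nat.Prime.factorization_pow hq.out, hpq]
      have hYq : (Nat.card Ybar).factorization q = (Nat.card (X ⧸ M)).factorization q := by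
        rw [hYbar, Nat.factorization_mul (pow_ne_zero _ hp.out.ne_zero)
          (pow_ne_zero _ hq.out.ne_zero)]
        simp [Nat.Prime.factorization_pow hp.out, Nat.Prime.factorization_pow hq.out, hpq.symm]
      by_cases hY0top : Y0 = ⊤
      · -- `M` is a normal Hall subgroup: Schur–Zassenhaus
        have hYX : Nat.card Ybar = Nat.card (X ⧸ M) := by
          have h1 : Nat.card Y0 = Nat.card X := by rw [hY0top]; exact Subgroup.card_top
          rw [hY0card, hXcard] at h1
          exact Nat.eq_of_mul_eq_mul_left Nat.card_pos h1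
        have hidx : M.index = Nat.card (X ⧸ M) := Subgroup.index_eq_card M
        have hcop : (Nat.card M).Coprime M.index := by
          rw [hidx, ← hYX, hYbar]
          apply Nat.Coprime.mul_right
          · exact Nat.Coprime.pow_right _ ((Nat.Prime.coprime_iff_not_dvd hp.out).2 hpM).symm
          · exact Nat.Coprime.pow_right _ ((Nat.Prime.coprime_iff_not_dvd hq.out).2 hqM).symm
        obtain ⟨H, hH⟩ := Subgroup.exists_right_complement'_of_coprime hcop
        refine ⟨H, ?_⟩
        have h1 : Nat.card M * Nat.card H = Nat.card X := hH.card_mul_card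
        have h2 : Nat.card H = Nat.card (X ⧸ M) := by
          rw [hXcard] at h1
          exact Nat.eq_of_mul_eq_mul_left Nat.card_pos h1
        rw [h2, hfacp, hfacq, ← hYbar]
        exact hYX.symm
      · obtain ⟨Y, hY⟩ := ih _ (hsub_lt Y0 hY0top) Y0 rfl
          (Cfsg.Agent.Lib.H4.PSolvSub.isPSolvable_subgroup hs Y0)
        refine ⟨Y.map Y0.subtype, ?_⟩
        have hfp0 : (Nat.card Y0).factorization p = (Nat.card Ybar).factorization p := by
          rw [hY0card]; exact factorization_mul_of_not_dvd hM0 hYbar0 hpM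
        have hfq0 : (Nat.card Y0).factorization q = (Nat.card Ybar).factorization q := by
          rw [hY0card]; exact factorization_mul_of_not_dvd hM0 hYbar0 hqM
        rw [Subgroup.card_subtype, hY, hfp0, hfq0, hYp, hYq, hfacp, hfacq]

open scoped Pointwise in
/-- **HALL**.  Hall `{p, q}`-subgroups of `p`-solvable groups, containing a given Sylow `p`-subgroup. -/
theorem exists_hall_pq {X : Type*} [Group X] [Finite X] {p : ℕ} [Fact p.Prime] (q : ℕ) [Fact q.Prime]
    (hpq : p ≠ q) (hs : Cfsg.IsPSolvable p X) (P : Sylow p X) :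
    ∃ Y : Subgroup X, (P : Subgroup X) ≤ Y ∧
      Nat.card Y = p ^ (Nat.card X).factorization p * q ^ (Nat.card X).factorization q := by
  have hp : p.Prime := Fact.out
  have hq : q.Prime := Fact.out
  obtain ⟨Y, hY⟩ := exists_hall_aux q hpq _ X rfl hs
  obtain ⟨R⟩ : Nonempty (Sylow p Y) := inferInstance
  have hRcard : Nat.card ((R : Subgroup Y).map Y.subtype) = p ^ (Nat.card X).factorization p := by
    rw [Subgroup.card_subtype, Sylow.card_eq_multiplicity, hY,
      Nat.factorization_mul (pow_ne_zero _ hp.ne_zero) (pow_ne_zero _ hq.ne_zero)]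
    simp [Nat.Prime.factorization_pow hp, Nat.Prime.factorization_pow hq, hpq]
  set R' : Sylow p X := Sylow.ofCard ((R : Subgroup Y).map Y.subtype) hRcard with hR'
  have hR'Y : (R' : Subgroup X) ≤ Y := by
    rw [hR', Sylow.coe_ofCard]
    exact Subgroup.map_subtype_le _
  obtain ⟨g, hg⟩ := MulAction.exists_smul_eq X R' P
  refine ⟨MulAut.conj g • Y, ?_, ?_⟩
  · rw [← hg, Sylow.coe_subgroup_smul]
    exact Subgroup.pointwise_smul_le_pointwise_smul_iff.2 hR'Y
  · rw [← hY]
    exact (Nat.card_congr (Subgroup.equivSMul (MulAut.conj g) Y).toEquiv).symm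

end Cfsg.Agent.Lib.H8.AutQ
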