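import Cfsg.Agent.Lib.H8.CYEQUI2
import Cfsg.Agent.Lib.H6.CYSTAR
import Cfsg.Agent.Lib.H22.CYPAIR
import Cfsg.Agent.Lib.H28.CYBURN

/-!
# S1950 piece STAR' (helper8): the identity (**) in the final form of
`tools/blueprints/S1950_final_forms_h12.lean`, from EQUI/COUNT (`H8.CYE.equi_count`),
`H6.CY.star_identity`, PAIR K-form (`H22.CY.exists_K`) and BURN (`H28.CY`).
-/

set_option autoImplicit false

namespace Cfsg.Agent.Lib.H8.CYE

open Cfsg Cfsg.Agent.Lib.H12.CY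
open scoped ComplexConjugate

variable {G : Type*} [Group G] [Finite G] {p : ℕ} [Fact p.Prime]

/-- STAR' = (**) -/
theorem star' (P : Sylow p G) (hP : IsCyclic ↥(P : Subgroup G))
    (hc : ∀ x y : G, orderOf x = p → orderOf y = p → Cfsg.IsPSolvable p ↥(Subgroup.closure ({x, y} : Set G)))
    (M : Ideal Cfsg.AlgInt) (hM : Cfsg.IsPModular p M)
    {z : G} (hzP : z ∈ (P : Subgroup G)) (hz : orderOf z = p) (a b c : ZMod p) (ha : a ≠ 0) (hb : b ≠ 0) (hc' : c ≠ 0)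
    [DecidablePred (fun j : ZMod p => ∃ t ∈ fusE p z, j * a + b = c * t)] :
    ∑ᶠ χ ∈ Cfsg.principalBlock M G,
        (χ : G → ℂ) (z ^ a.val) * (χ : G → ℂ) (z ^ b.val) * conj ((χ : G → ℂ) (z ^ c.val)) / (χ : G → ℂ) 1 =
      ((Nat.card ↥(P : Subgroup G) : ℂ) / ((fusE p z).card : ℂ)) *
        (((fusE p z).filter (fun j : ZMod p => ∃ t ∈ fusE p z, j * a + b = c * t)).card : ℂ) := by
  classical
  haveI : Fintype G := Fintype.ofFinite G
  have hK : ∀ y : G, orderOf y = p → ∃ K : Subgroup G, KForm p z y K := by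
    intro y hy
    obtain ⟨K, h1, h2, h3, h4, -⟩ := Cfsg.Agent.Lib.H22.CY.exists_K P hP hz hy (hc z y hz hy)
    exact ⟨K, h1, h2, h3, h4⟩
  have hequi := equi_count z hz hK a b c hb hc'
  have hPc : ∀ x ∈ (P : Subgroup G), ∀ y ∈ (P : Subgroup G), x * y = y * x := by
    intro x hx y hy
    obtain ⟨g, hg⟩ := hP.exists_generator
    obtain ⟨m, hm⟩ := Subgroup.mem_zpowers_iff.1 (hg ⟨x, hx⟩)
    obtain ⟨n, hn⟩ := Subgroup.mem_zpowers_iff.1 (hg ⟨y, hy⟩)
    have h1 : (⟨x, hx⟩ : (P : Subgroup G)) * ⟨y, hy⟩ = ⟨y, hy⟩ * ⟨x, hx⟩ := by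
      rw [← hm, ← hn, ← zpow_add, ← zpow_add, add_comm]
    exact congrArg Subtype.val h1
  have hzp : z ^ p = 1 := by rw [← hz]; exact pow_orderOf_eq_one z
  have hnpc : ∀ c : ZMod p, c ≠ 0 →
      HasNormalPComplement p ↥(Subgroup.centralizer ({z ^ c.val} : Set G)) := by
    intro c hc0
    exact Cfsg.Agent.Lib.H28.CY.centralizer_hasNormalPComplement P hP (z ^ c.val)
      (orderOf_zp hz hc0)
  have hE1 : (fusE p z).Nonempty :=
    ⟨1, mem_fusE.2 ⟨one_ne_zero, by rw [ZMod.val_one, pow_one]⟩⟩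
  have h := Cfsg.Agent.Lib.H6.CY.star_identity hM P hPc z hzP hzp hnpc (fusE p z) hE1 a b c hc'
    hequi
  rw [finsum_mem_eq_finite_toFinset_sum _ (Set.toFinite (principalBlock M G))]
  exact h

end Cfsg.Agent.Lib.H8.CYE
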