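import Mathlib
import Cfsg.Prelude.Def_Blocks
import Cfsg.Prelude.Def_Characters
import Cfsg.Agent.Lib.H24.CharKer
import Cfsg.Agent.Lib.H24.CharDefl
import Cfsg.Agent.Lib.H8.GAGBOUND

/-!
# S4561 piece NORM (helper8): passing to `H / ker χ` when `[Z*, H] ≤ ker χ` and `χ(1)² = |H : Z*|`.
-/

set_option autoImplicit false

universe u

namespace Cfsg.Agent.Lib.H8.GAG

open Cfsg Cfsg.Agent.Lib.L0 Cfsg.Agent.Lib.H24

/-- **NORM**. -/
theorem normalize {H : Type u} [Group H] [Finite H] (χ : IrrCharacter H) (Zs : Subgroup H) [Zs.Normal]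
    (hcomm : ∀ z ∈ Zs, ∀ x : H, (χ : H → ℂ) (z * x * z⁻¹ * x⁻¹) = (χ : H → ℂ) 1)
    (hdeg : (charDegree (χ : H → ℂ)) ^ 2 = Zs.index) :
    ∃ (Hb : Type u) (_ : Group Hb) (_ : Finite Hb) (q : H →* Hb) (χb : IrrCharacter Hb),
      Function.Surjective q ∧ (∀ h : H, (χb : Hb → ℂ) (q h) = (χ : H → ℂ) h) ∧
      (∀ h : Hb, (χb : Hb → ℂ) h = (χb : Hb → ℂ) 1 → h = 1) ∧
      (charDegree (χb : Hb → ℂ)) ^ 2 = (Subgroup.center Hb).index ∧
      (Subgroup.center Hb).comap q = Zs := by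
  classical
  set N : Subgroup H := charKer (χ : H → ℂ) (isCharacter_of_irr χ.2) with hN
  obtain ⟨ψ, hψ⟩ := exists_deflation χ N (fun n hn => mem_charKer.1 hn)
  have hq : Function.Surjective (QuotientGroup.mk' N) := QuotientGroup.mk'_surjective N
  have hψ1 : (ψ : H ⧸ N → ℂ) 1 = (χ : H → ℂ) 1 := hψ 1
  have hdegψ : charDegree (ψ : H ⧸ N → ℂ) = charDegree (χ : H → ℂ) := by
    unfold charDegree
    rw [hψ1]
  -- `Z*` maps into the centre
  have hZC : Zs ≤ (Subgroup.center (H ⧸ N)).comap (QuotientGroup.mk' N) := by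
    intro z hz
    rw [Subgroup.mem_comap, Subgroup.mem_center_iff]
    intro y
    obtain ⟨x, rfl⟩ := hq y
    have h1 : z * x * z⁻¹ * x⁻¹ ∈ N := mem_charKer.2 (hcomm z hz x)
    have h2 : (QuotientGroup.mk' N) (z * x * z⁻¹ * x⁻¹) = 1 := by
      rw [QuotientGroup.mk'_apply, QuotientGroup.eq_one_iff]
      exact h1
    rw [map_mul, map_mul, map_mul, map_inv, map_inv] at h2
    have h3 : (QuotientGroup.mk' N) z * (QuotientGroup.mk' N) x =
        (QuotientGroup.mk' N) x * (QuotientGroup.mk' N) z := by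
      calc (QuotientGroup.mk' N) z * (QuotientGroup.mk' N) x
          = ((QuotientGroup.mk' N) z * (QuotientGroup.mk' N) x * ((QuotientGroup.mk' N) z)⁻¹ *
              ((QuotientGroup.mk' N) x)⁻¹) * ((QuotientGroup.mk' N) x * (QuotientGroup.mk' N) z) := by group
        _ = (QuotientGroup.mk' N) x * (QuotientGroup.mk' N) z := by rw [h2, one_mul]
    exact h3.symm
  -- indices
  have hidx : ((Subgroup.center (H ⧸ N)).comap (QuotientGroup.mk' N)).index =
      (Subgroup.center (H ⧸ N)).index := Subgroup.index_comap_of_surjective _ hq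
  have hb := charDegree_sq_le_index_center ψ
  rw [hdegψ, hdeg, ← hidx] at hb
  have hrel := Subgroup.relIndex_mul_index hZC
  have hpos : ((Subgroup.center (H ⧸ N)).comap (QuotientGroup.mk' N)).index ≠ 0 :=
    Subgroup.index_ne_zero_of_finite
  have hle : ((Subgroup.center (H ⧸ N)).comap (QuotientGroup.mk' N)).index ≤ Zs.index :=
    Nat.le_of_dvd (Nat.pos_of_ne_zero Subgroup.index_ne_zero_of_finite) (Subgroup.index_dvd_of_le hZC)
  have heq : ((Subgroup.center (H ⧸ N)).comap (QuotientGroup.mk' N)).index = Zs.index :=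
    le_antisymm hle hb
  have hrel1 : Zs.relIndex ((Subgroup.center (H ⧸ N)).comap (QuotientGroup.mk' N)) = 1 := by
    rw [heq] at hrel
    have hZpos : 0 < Zs.index := Nat.pos_of_ne_zero Subgroup.index_ne_zero_of_finite
    exact Nat.eq_of_mul_eq_mul_right hZpos (by rw [hrel, one_mul])
  have hCZ : (Subgroup.center (H ⧸ N)).comap (QuotientGroup.mk' N) ≤ Zs :=
    Subgroup.relIndex_eq_one.1 hrel1
  refine ⟨H ⧸ N, inferInstance, inferInstance, QuotientGroup.mk' N, ψ, hq, hψ, ?_, ?_, le_antisymm hCZ hZC⟩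
  · intro h hh
    obtain ⟨g, rfl⟩ := hq h
    rw [QuotientGroup.mk'_apply, hψ g, hψ1] at hh
    rw [QuotientGroup.mk'_apply, QuotientGroup.eq_one_iff]
    exact mem_charKer.2 hh
  · rw [hdegψ, hdeg, ← heq, hidx]

end Cfsg.Agent.Lib.H8.GAG
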