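import Mathlib
import Cfsg.Agent.Lib.H12.ClsE

/-!
# Uniqueness of the elementary divisors (the tuple of a matrix is a conjugacy invariant)

Complement to helper12's `Lib/H12/Cls*`: two `TypeData` of the same endomorphism (or of conjugate
endomorphisms) have the same polynomials `gpoly j`; hence `tupleOf` is constant on conjugacy classes of
`GL_n(F)`.  The invariant used: `kd M φ k = dim_F ker (φ^k • · on M)`.
-/

set_option autoImplicit false
open Polynomial

namespace Cfsg.Agent.Lib.H8.ClsUniq

open Cfsg.Agent.Lib.H12.Cls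

universe u v v'
variable {F : Type u} [Field F]

section kd

variable (M : Type*) [AddCommGroup M] [Module F M] [Module F[X] M] [IsScalarTower F F[X] M]

/-- multiplication by `p` as an `F`-linear map -/
noncomputable def mulBy (p : F[X]) : M →ₗ[F] M := (LinearMap.lsmul F[X] M p).restrictScalars F

@[simp] theorem mulBy_apply (p : F[X]) (x : M) : mulBy M p x = p • x := rfl

/-- the dimension of the kernel of multiplication by `p` -/
noncomputable def kd (p : F[X]) : ℕ := Module.finrank F (LinearMap.ker (mulBy M p))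

end kd

section congr

variable {M M' : Type*} [AddCommGroup M] [Module F M] [Module F[X] M] [IsScalarTower F F[X] M]
  [AddCommGroup M'] [Module F M'] [Module F[X] M'] [IsScalarTower F F[X] M']

theorem kd_congr (e : M ≃ₗ[F[X]] M') (p : F[X]) : kd M p = kd M' p := by
  unfold kd
  have h : (LinearMap.ker (mulBy M p)).map ((e.restrictScalars F : M ≃ₗ[F] M') : M →ₗ[F] M') =
      LinearMap.ker (mulBy M' p) := by
    ext x
    simp only [Submodule.mem_map, LinearMap.mem_ker, mulBy_apply]
    constructor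
    · rintro ⟨y, hy, rfl⟩
      show p • e y = 0
      rw [← map_smul, hy, map_zero]
    · intro hx
      refine ⟨e.symm x, ?_, by simp⟩
      rw [← map_smul, hx, map_zero]
  rw [← h]
  exact (LinearEquiv.finrank_map_eq (e.restrictScalars F) _).symm

end congr

section pi

variable {ι : Type*} [Fintype ι] (M : ι → Type*) [∀ i, AddCommGroup (M i)] [∀ i, Module F (M i)]
  [∀ i, Module F[X] (M i)] [∀ i, IsScalarTower F F[X] (M i)] [∀ i, Module.Finite F (M i)]

/-- the kernel of multiplication by `p` on a product is the product of the kernels -/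
noncomputable def kerPiEquiv (p : F[X]) :
    LinearMap.ker (mulBy (∀ i, M i) p) ≃ₗ[F] ∀ i, LinearMap.ker (mulBy (M i) p) where
  toFun x := fun i => ⟨x.1 i, by
    have h := x.2
    rw [LinearMap.mem_ker] at h ⊢
    exact congrFun h i⟩
  invFun y := ⟨fun i => (y i).1, by
    rw [LinearMap.mem_ker]
    funext i
    exact LinearMap.mem_ker.mp (y i).2⟩
  map_add' x y := rfl
  map_smul' c x := rfl
  left_inv x := rfl
  right_inv y := rfl

theorem kd_pi (p : F[X]) : kd (∀ i, M i) p = ∑ i, kd (M i) p := by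
  unfold kd
  rw [LinearEquiv.finrank_eq (kerPiEquiv M p), Module.finrank_pi_fintype]

end pi

section cyc

/-- multiplication by `q` kills `F[X] ⧸ (q)` -/
theorem smul_quot_self (q : F[X]) (x : F[X] ⧸ (F[X] ∙ q)) : q • x = 0 := by
  obtain ⟨y, rfl⟩ := Submodule.Quotient.mk_surjective _ x
  rw [← Submodule.Quotient.mk_smul, Submodule.Quotient.mk_eq_zero, smul_eq_mul]
  exact Submodule.mem_span_singleton.mpr ⟨y, by rw [smul_eq_mul, mul_comm]⟩

/-- coprime multiplier: trivial kernel -/
theorem kd_cyc_coprime (p q : F[X]) (h : IsCoprime p q) : kd (F[X] ⧸ (F[X] ∙ q)) p = 0 := by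
  unfold kd
  have hb : LinearMap.ker (mulBy (F[X] ⧸ (F[X] ∙ q)) p) = ⊥ := by
    rw [eq_bot_iff]
    intro x hx
    rw [LinearMap.mem_ker, mulBy_apply] at hx
    obtain ⟨a, b, hab⟩ := h
    have h1 : x = (a * p + b * q) • x := by rw [hab, one_smul]
    rw [add_smul, mul_smul, mul_smul, hx, smul_quot_self, smul_zero, smul_zero, add_zero] at h1
    exact (Submodule.mem_bot F).mpr h1
  rw [hb]
  exact finrank_bot F _

/-- the kernel of `φ^k` on `F[X] ⧸ (φ^e)`, `k ≤ e` -/
theorem kd_cyc_pow_le (φ : F[X]) (hφ : φ.Monic) {k e : ℕ} (hke : k ≤ e) :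
    kd (Cyc F (φ, e)) (φ ^ k) = k * φ.natDegree := by
  haveI : Module.Finite F (Cyc F (φ, e)) := finite_cyc (φ, e) hφ
  haveI : Module.Finite F (Cyc F (φ, k)) := finite_cyc (φ, k) hφ
  have hle : (F[X] ∙ (φ ^ e)) ≤ (F[X] ∙ (φ ^ k)).comap (LinearMap.id : F[X] →ₗ[F[X]] F[X]) := by
    rw [Submodule.comap_id, Submodule.span_singleton_le_iff_mem, Submodule.mem_span_singleton]
    exact ⟨φ ^ (e - k), by rw [smul_eq_mul, ← pow_add, Nat.sub_add_cancel hke]⟩
  set π : Cyc F (φ, e) →ₗ[F] Cyc F (φ, k) :=
    ((F[X] ∙ (φ ^ e)).mapQ (F[X] ∙ (φ ^ k)) LinearMap.id hle).restrictScalars F with hπ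
  have hπmk : ∀ y : F[X], π (Submodule.Quotient.mk y) = Submodule.Quotient.mk y := fun y => rfl
  have hsurj : Function.Surjective π := by
    intro x
    obtain ⟨y, rfl⟩ := Submodule.Quotient.mk_surjective _ x
    exact ⟨Submodule.Quotient.mk y, hπmk y⟩
  have hker : LinearMap.ker π = LinearMap.range (mulBy (Cyc F (φ, e)) (φ ^ k)) := by
    ext x
    obtain ⟨y, rfl⟩ := Submodule.Quotient.mk_surjective _ x
    rw [LinearMap.mem_ker, hπmk, Submodule.Quotient.mk_eq_zero, Submodule.mem_span_singleton,
      LinearMap.mem_range]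
    constructor
    · rintro ⟨a, rfl⟩
      refine ⟨Submodule.Quotient.mk a, ?_⟩
      rw [mulBy_apply, ← Submodule.Quotient.mk_smul, smul_eq_mul, smul_eq_mul, mul_comm]
    · rintro ⟨z, hz⟩
      obtain ⟨w, rfl⟩ := Submodule.Quotient.mk_surjective _ z
      rw [mulBy_apply, ← Submodule.Quotient.mk_smul, Submodule.Quotient.eq,
        Submodule.mem_span_singleton] at hz
      obtain ⟨b, hb⟩ := hz
      refine ⟨w - b * φ ^ (e - k), ?_⟩
      have hpow : φ ^ e = φ ^ (e - k) * φ ^ k := by rw [← pow_add, Nat.sub_add_cancel hke]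
      simp only [smul_eq_mul] at hb ⊢
      have : y = φ ^ k * w - b * φ ^ e := by rw [hb]; ring
      rw [this, hpow]; ring
  have h1 := LinearMap.finrank_range_add_finrank_ker π
  have h2 := LinearMap.finrank_range_add_finrank_ker (mulBy (Cyc F (φ, e)) (φ ^ k))
  rw [LinearMap.range_eq_top.mpr hsurj, finrank_top, finrank_cyc, hker] at h1
  unfold kd
  simp only at h1
  omega

/-- the kernel of `φ^k` on `F[X] ⧸ (φ^e)`, `e ≤ k` -/
theorem kd_cyc_pow_ge (φ : F[X]) {k e : ℕ} (hke : e ≤ k) :
    kd (Cyc F (φ, e)) (φ ^ k) = e * φ.natDegree := by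
  unfold kd
  have ht : LinearMap.ker (mulBy (Cyc F (φ, e)) (φ ^ k)) = ⊤ := by
    rw [eq_top_iff]
    intro x _
    rw [LinearMap.mem_ker, mulBy_apply]
    have : φ ^ k = φ ^ (k - e) * φ ^ e := by rw [← pow_add, Nat.sub_add_cancel hke]
    rw [this, mul_smul]
    have h0 : (φ ^ e) • x = 0 := smul_quot_self (φ ^ e) x
    rw [h0, smul_zero]
  rw [ht, finrank_top]
  exact finrank_cyc (φ, e)

theorem kd_cyc_pow (φ : F[X]) (hφ : φ.Monic) (k e : ℕ) :
    kd (Cyc F (φ, e)) (φ ^ k) = min k e * φ.natDegree := by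
  rcases le_total k e with h | h
  · rw [kd_cyc_pow_le φ hφ h, min_eq_left h]
  · rw [kd_cyc_pow_ge φ h, min_eq_right h]

/-- different monic irreducibles: trivial kernel -/
theorem kd_cyc_ne (φ ψ : F[X]) (hφ : Irreducible φ) (hψ : Irreducible ψ) (hφm : φ.Monic)
    (hψm : ψ.Monic) (hne : ψ ≠ φ) (k e : ℕ) : kd (Cyc F (ψ, e)) (φ ^ k) = 0 := by
  apply kd_cyc_coprime
  apply IsCoprime.pow
  show IsCoprime φ ψ
  rw [Irreducible.coprime_iff_not_dvd hφ]
  intro hdvd
  have hass : Associated φ ψ := hφ.associated_of_dvd hψ hdvd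
  exact hne (eq_of_monic_of_associated hφm hψm hass).symm

end cyc

section typedata

variable {V : Type v} [AddCommGroup V] [Module F V] {f : Module.End F V}

open Classical in
/-- the kernel dimensions of `φ^k` on `V` in terms of a decomposition -/
theorem kd_aeval (D : TypeData f) (φ : F[X]) (hφ : Irreducible φ) (hφm : φ.Monic) (k : ℕ) :
    kd (Module.AEval' f) (φ ^ k) =
      ∑ i, if (D.c i).1 = φ then min k (D.c i).2 * φ.natDegree else 0 := by
  haveI : ∀ i, Module.Finite F (Cyc F (D.c i)) := fun i => finite_cyc _ (D.monic i)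
  rw [kd_congr D.iso, kd_pi]
  apply Finset.sum_congr rfl
  intro i _
  by_cases h : (D.c i).1 = φ
  · rw [if_pos h]
    subst h
    exact kd_cyc_pow (D.c i).1 (D.monic i) k (D.c i).2
  · rw [if_neg h]
    exact kd_cyc_ne φ (D.c i).1 hφ (D.irr i) hφm (D.monic i) h k (D.c i).2

open Classical in
/-- the number of blocks `(φ, j)` -/
noncomputable def cnt (D : TypeData f) (φ : F[X]) (j : ℕ) : ℕ :=
  ∑ i, if (D.c i).1 = φ ∧ (D.c i).2 = j then 1 else 0

open Classical in
theorem count_irrs (D : TypeData f) (φ : F[X]) (j : ℕ) :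
    Multiset.count φ (D.irrs j) = cnt D φ j := by
  unfold cnt TypeData.irrs
  rw [Multiset.count_map, ← Finset.filter_val, Finset.filter_filter, ← Finset.card_def,
    Finset.card_eq_sum_ones, Finset.sum_filter]
  apply Finset.sum_congr rfl
  intro i _
  by_cases h1 : (D.c i).1 = φ <;> by_cases h2 : (D.c i).2 = j
  · simp [h1, h2]
  · simp [h2]
  · have h1' : ¬ φ = (D.c i).1 := fun h => h1 h.symm
    simp [h1, h1']
  · simp [h2]

open Classical in
/-- the second difference of the kernel dimensions counts the blocks -/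
theorem kd_second_diff (D : TypeData f) (φ : F[X]) (hφ : Irreducible φ) (hφm : φ.Monic) (j : ℕ)
    (hj : 1 ≤ j) :
    kd (Module.AEval' f) (φ ^ (j + 1)) + kd (Module.AEval' f) (φ ^ (j - 1)) +
        φ.natDegree * cnt D φ j = 2 * kd (Module.AEval' f) (φ ^ j) := by
  rw [kd_aeval D φ hφ hφm, kd_aeval D φ hφ hφm, kd_aeval D φ hφ hφm]
  unfold cnt
  rw [Finset.mul_sum, Finset.mul_sum, ← Finset.sum_add_distrib, ← Finset.sum_add_distrib]
  apply Finset.sum_congr rfl
  intro i _
  by_cases h : (D.c i).1 = φ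
  · simp only [h, true_and, if_true]
    set e := (D.c i).2
    set d := φ.natDegree
    rcases lt_trichotomy e j with hlt | heq | hgt
    · rw [if_neg (by omega), min_eq_right (by omega), min_eq_right (by omega),
        min_eq_right (by omega)]
      ring
    · rw [if_pos heq, min_eq_right (by omega), min_eq_left (by omega), min_eq_right (by omega)]
      have : j - 1 + 1 = j := by omega
      subst heq
      calc e * d + (e - 1) * d + d * 1 = e * d + ((e - 1) + 1) * d := by ring
        _ = 2 * (e * d) := by rw [this]; ring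
    · rw [if_neg (by omega), min_eq_left (by omega), min_eq_left (by omega),
        min_eq_left (by omega)]
      have : j - 1 + 1 = j := by omega
      calc (j + 1) * d + (j - 1) * d + d * 0 = (j + ((j - 1) + 1)) * d := by ring
        _ = 2 * (j * d) := by rw [this]; ring
  · simp [h]

/-- the block counts are determined by the kernel dimensions -/
theorem cnt_eq {V' : Type v'} [AddCommGroup V'] [Module F V'] {f' : Module.End F V'}
    (D : TypeData f) (D' : TypeData f')
    (hkd : ∀ p : F[X], kd (Module.AEval' f) p = kd (Module.AEval' f') p)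
    (φ : F[X]) (hφ : Irreducible φ) (hφm : φ.Monic) (j : ℕ) (hj : 1 ≤ j) :
    cnt D φ j = cnt D' φ j := by
  have h1 := kd_second_diff D φ hφ hφm j hj
  have h2 := kd_second_diff D' φ hφ hφm j hj
  rw [hkd, hkd, hkd] at h1
  have hd : 0 < φ.natDegree := hφ.natDegree_pos
  have : φ.natDegree * cnt D φ j = φ.natDegree * cnt D' φ j := by omega
  exact Nat.eq_of_mul_eq_mul_left hd this

/-- two decompositions with the same kernel dimensions have the same invariants -/
theorem irrs_eq_of_kd {V' : Type v'} [AddCommGroup V'] [Module F V'] {f' : Module.End F V'}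
    (D : TypeData f) (D' : TypeData f')
    (hkd : ∀ p : F[X], kd (Module.AEval' f) p = kd (Module.AEval' f') p) (j : ℕ) :
    D.irrs j = D'.irrs j := by
  classical
  rcases Nat.eq_zero_or_pos j with rfl | hj
  · rw [D.irrs_zero, D'.irrs_zero]
  ext a
  by_cases ha : Irreducible a ∧ a.Monic
  · rw [count_irrs, count_irrs]
    exact cnt_eq D D' hkd a ha.1 ha.2 j hj
  · rw [Multiset.count_eq_zero_of_notMem (fun h => ha (D.mem_irrs h)),
      Multiset.count_eq_zero_of_notMem (fun h => ha (D'.mem_irrs h))]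

/-- **(U1)** the polynomials `gpoly j` do not depend on the decomposition -/
theorem gpoly_eq (D D' : TypeData f) (j : ℕ) : D.gpoly j = D'.gpoly j := by
  unfold TypeData.gpoly
  rw [irrs_eq_of_kd D D' (fun _ => rfl) j]

/-- **(U1')** conjugate endomorphisms have the same polynomials `gpoly j` -/
theorem gpoly_eq_of_conj {V' : Type v'} [AddCommGroup V'] [Module F V'] {f' : Module.End F V'}
    (e : V ≃ₗ[F] V') (he : ∀ x, e (f x) = f' (e x)) (D : TypeData f) (D' : TypeData f') (j : ℕ) :
    D.gpoly j = D'.gpoly j := by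
  unfold TypeData.gpoly
  have Φ : Module.AEval' f ≃ₗ[F[X]] Module.AEval' f' :=
    LinearEquiv.ofAEval f (e ≪≫ₗ Module.AEval'.of f') (by
      intro m
      show Module.AEval'.of f' (e (f m)) = (X : F[X]) • Module.AEval'.of f' (e m)
      rw [he, Module.AEval'.X_smul_of])
  rw [irrs_eq_of_kd D D' (fun p => kd_congr Φ p) j]

end typedata

section matrix

variable {n : ℕ}

/-- **(U2)** the tuple of a matrix is a conjugacy invariant -/
theorem tupleOf_eq_of_isConj {A B : GL (Fin n) F} (h : IsConj A B) : tupleOf A = tupleOf B := by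
  obtain ⟨C, hC⟩ := isConj_iff.mp h
  funext j
  unfold tupleOf
  have hCA : (C : Matrix (Fin n) (Fin n) F) * (A : Matrix (Fin n) (Fin n) F) =
      (B : Matrix (Fin n) (Fin n) F) * (C : Matrix (Fin n) (Fin n) F) := by
    have h1 : C * A = B * C := by rw [← hC]; group
    have := congrArg Units.val h1
    simpa using this
  let e : (Fin n → F) ≃ₗ[F] (Fin n → F) :=
    LinearEquiv.ofLinearMap (Matrix.toLin' (C : Matrix (Fin n) (Fin n) F))
      (Matrix.toLin' ((C⁻¹ : GL (Fin n) F) : Matrix (Fin n) (Fin n) F))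
      (by rw [← Matrix.toLin'_mul, ← Units.val_mul, mul_inv_cancel, Units.val_one,
        Matrix.toLin'_one])
      (by rw [← Matrix.toLin'_mul, ← Units.val_mul, inv_mul_cancel, Units.val_one,
        Matrix.toLin'_one])
  have he' : ∀ x, e x = Matrix.toLin' (C : Matrix (Fin n) (Fin n) F) x := fun x => rfl
  refine gpoly_eq_of_conj e ?_ (dataOf A) (dataOf B) _
  intro x
  rw [he', he', ← LinearMap.comp_apply, ← LinearMap.comp_apply, ← Matrix.toLin'_mul,
    ← Matrix.toLin'_mul, hCA]

/-- **(U3)** the tuple of a matrix can be read off from any decomposition -/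
theorem tupleOf_eq_gpoly (A : GL (Fin n) F)
    (D : TypeData (Matrix.toLin' (A : Matrix (Fin n) (Fin n) F))) (j : Fin n) :
    tupleOf A j = D.gpoly ((j : ℕ) + 1) :=
  gpoly_eq (dataOf A) D _

end matrix

end Cfsg.Agent.Lib.H8.ClsUniq
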