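import Mathlib
import Cfsg.Agent.Lib.H8.ClsUniq

/-!
# The tuple of a scalar multiple of a matrix

`tupleOf (l • A) j = tw l (tupleOf A j)` where `tw l p = l^(deg p) · p(X / l)`.
Proved via the kernel-dimension invariant `kd` of `ClsUniq`.
-/

set_option autoImplicit false
open Polynomial

namespace Cfsg.Agent.Lib.H8.ClsTwist

open Cfsg.Agent.Lib.H12.Cls Cfsg.Agent.Lib.H8.ClsUniq

universe u v v'
variable {F : Type u} [Field F]

/-- the twist `p ↦ l^(deg p) · p(X / l)` -/
noncomputable def tw (l : F) (p : F[X]) : F[X] := C (l ^ p.natDegree) * p.comp (C l⁻¹ * X)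

theorem tw_zero (l : F) : tw l (0 : F[X]) = 0 := by
  unfold tw
  rw [zero_comp, mul_zero]

theorem tw_one (l : F) : tw l (1 : F[X]) = 1 := by
  unfold tw
  rw [natDegree_one, pow_zero, C_1, one_mul, one_comp]

theorem natDegree_comp_C_mul_X (a : F) (ha : a ≠ 0) (p : F[X]) :
    (p.comp (C a * X)).natDegree = p.natDegree := by
  rw [natDegree_comp, natDegree_C_mul_X a ha, mul_one]

theorem tw_natDegree (l : F) (hl : l ≠ 0) (p : F[X]) : (tw l p).natDegree = p.natDegree := by
  unfold tw
  rw [natDegree_C_mul (pow_ne_zero _ hl), natDegree_comp_C_mul_X _ (inv_ne_zero hl)]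

theorem tw_coeff (l : F) (hl : l ≠ 0) (p : F[X]) (k : ℕ) :
    (tw l p).coeff k = l ^ (p.natDegree - k) * p.coeff k := by
  unfold tw
  rw [coeff_C_mul, comp_C_mul_X_coeff]
  by_cases hk : k ≤ p.natDegree
  · have : l ^ p.natDegree = l ^ (p.natDegree - k) * l ^ k := by
      rw [← pow_add, Nat.sub_add_cancel hk]
    rw [this, inv_pow]
    field_simp
  · rw [coeff_eq_zero_of_natDegree_lt (not_le.mp hk)]
    simp

theorem tw_mul (l : F) (p q : F[X]) : tw l (p * q) = tw l p * tw l q := by
  by_cases hp : p = 0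
  · rw [hp, zero_mul, tw_zero, zero_mul]
  by_cases hq : q = 0
  · rw [hq, mul_zero, tw_zero, mul_zero]
  unfold tw
  rw [natDegree_mul hp hq, pow_add, C_mul, mul_comp]
  ring

theorem tw_tw_inv (l : F) (hl : l ≠ 0) (p : F[X]) : tw l (tw l⁻¹ p) = p := by
  ext k
  rw [tw_coeff l hl, tw_natDegree _ (inv_ne_zero hl), tw_coeff _ (inv_ne_zero hl), inv_pow,
    ← mul_assoc, mul_inv_cancel₀ (pow_ne_zero _ hl), one_mul]

theorem tw_inv_tw (l : F) (hl : l ≠ 0) (p : F[X]) : tw l⁻¹ (tw l p) = p := by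
  have := tw_tw_inv l⁻¹ (inv_ne_zero hl) p
  rwa [inv_inv] at this

/-- the twist as a multiplicative equivalence -/
noncomputable def twEquiv (l : F) (hl : l ≠ 0) : F[X] ≃* F[X] where
  toFun := tw l
  invFun := tw l⁻¹
  left_inv := tw_inv_tw l hl
  right_inv := tw_tw_inv l hl
  map_mul' := tw_mul l

@[simp] theorem twEquiv_apply (l : F) (hl : l ≠ 0) (p : F[X]) : twEquiv l hl p = tw l p := rfl

theorem tw_injective (l : F) (hl : l ≠ 0) : Function.Injective (tw l) :=
  (twEquiv l hl).injective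

theorem tw_irreducible (l : F) (hl : l ≠ 0) {p : F[X]} (hp : Irreducible p) :
    Irreducible (tw l p) := by
  rw [← twEquiv_apply l hl, MulEquiv.irreducible_iff]
  exact hp

theorem tw_monic (l : F) (hl : l ≠ 0) {p : F[X]} (hp : p.Monic) : (tw l p).Monic := by
  unfold Monic leadingCoeff
  rw [tw_natDegree l hl, tw_coeff l hl, Nat.sub_self, pow_zero, one_mul]
  exact hp

theorem tw_multiset_prod (l : F) (hl : l ≠ 0) (s : Multiset F[X]) :
    tw l s.prod = (s.map (tw l)).prod := by
  have := map_multiset_prod (twEquiv l hl) s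
  rw [twEquiv_apply] at this
  rw [this]
  rfl

/-- `p(lX)` in terms of the inverse twist -/
theorem comp_eq_C_mul_tw_inv (l : F) (hl : l ≠ 0) (p : F[X]) :
    p.comp (C l * X) = C (l ^ p.natDegree) * tw l⁻¹ p := by
  unfold tw
  rw [inv_inv, ← mul_assoc, ← C_mul, inv_pow, mul_inv_cancel₀ (pow_ne_zero _ hl), C_1, one_mul]

/-- a twist-invariant polynomial with nonzero constant term lives in `F[X^m]`, `m` the order of `l` -/
theorem dvd_of_tw_eq (l : F) (hl : l ≠ 0) (p : F[X]) (m : ℕ) (hm : ∀ k : ℕ, l ^ k = 1 → m ∣ k)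
    (h : tw l p = p) (h0 : p.coeff 0 ≠ 0) (k : ℕ) (hk : p.coeff k ≠ 0) : m ∣ k := by
  have hc : ∀ i : ℕ, p.coeff i ≠ 0 → m ∣ p.natDegree - i := by
    intro i hi
    apply hm
    have h1 := tw_coeff l hl p i
    rw [h] at h1
    have h2 : (l ^ (p.natDegree - i) - 1) * p.coeff i = 0 := by
      rw [sub_mul, one_mul, ← h1, sub_self]
    rcases mul_eq_zero.mp h2 with h3 | h3
    · exact sub_eq_zero.mp h3
    · exact absurd h3 hi
  have hd := hc 0 h0
  have hkd := hc k hk
  have hle : k ≤ p.natDegree := le_natDegree_of_ne_zero hk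
  rw [Nat.sub_zero] at hd
  have : k = p.natDegree - (p.natDegree - k) := by omega
  rw [this]
  exact Nat.dvd_sub hd hkd

section kd

variable {V : Type v} [AddCommGroup V] [Module F V]

/-- `kd` on `AEval' f` is the dimension of the kernel of `p(f)` -/
theorem kd_aeval'_eq (f : Module.End F V) (p : F[X]) :
    kd (Module.AEval' f) p = Module.finrank F (LinearMap.ker (aeval f p)) := by
  unfold kd
  have h : (LinearMap.ker (aeval f p)).map
      ((Module.AEval'.of f : V ≃ₗ[F] Module.AEval' f) : V →ₗ[F] Module.AEval' f) =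
      LinearMap.ker (mulBy (Module.AEval' f) p) := by
    ext x
    simp only [Submodule.mem_map, LinearMap.mem_ker, mulBy_apply]
    constructor
    · rintro ⟨y, hy, rfl⟩
      show p • Module.AEval'.of f y = 0
      rw [← Module.AEval.of_aeval_smul]
      show Module.AEval'.of f (aeval f p y) = 0
      rw [hy, map_zero]
    · intro hx
      refine ⟨(Module.AEval'.of f).symm x, ?_, by simp⟩
      have h1 : p • Module.AEval'.of f ((Module.AEval'.of f).symm x) = 0 := by
        rw [LinearEquiv.apply_symm_apply]; exact hx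
      rw [← Module.AEval.of_aeval_smul] at h1
      exact (Module.AEval'.of f).injective (by rw [map_zero]; exact h1)
  rw [← h]
  exact LinearEquiv.finrank_map_eq (Module.AEval'.of f) _

/-- a nonzero constant factor does not change `kd` -/
theorem kd_C_mul (f : Module.End F V) (c : F) (hc : c ≠ 0) (p : F[X]) :
    kd (Module.AEval' f) (C c * p) = kd (Module.AEval' f) p := by
  rw [kd_aeval'_eq, kd_aeval'_eq]
  have hk : LinearMap.ker (aeval f (C c * p)) = LinearMap.ker (aeval f p) := by
    ext x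
    rw [LinearMap.mem_ker, LinearMap.mem_ker, map_mul, aeval_C, Module.End.mul_apply,
      Module.algebraMap_end_apply, smul_eq_zero]
    constructor
    · rintro (h | h)
      · exact absurd h hc
      · exact h
    · intro h; exact Or.inr h
  rw [hk]

/-- the kernel dimensions of `l • f` -/
theorem kd_smul (f : Module.End F V) (l : F) (p : F[X]) :
    kd (Module.AEval' (l • f)) p = kd (Module.AEval' f) (p.comp (C l * X)) := by
  rw [kd_aeval'_eq, kd_aeval'_eq, aeval_comp]
  have : aeval f (C l * X : F[X]) = l • f := by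
    rw [map_mul, aeval_C, aeval_X, Algebra.algebraMap_eq_smul_one, smul_mul_assoc, one_mul]
  rw [this]

theorem kd_smul_pow (f : Module.End F V) (l : F) (hl : l ≠ 0) (p : F[X]) (k : ℕ) :
    kd (Module.AEval' (l • f)) (p ^ k) = kd (Module.AEval' f) ((tw l⁻¹ p) ^ k) := by
  rw [kd_smul, pow_comp, comp_eq_C_mul_tw_inv l hl, mul_pow, ← C_pow,
    kd_C_mul f _ (pow_ne_zero _ (pow_ne_zero _ hl))]

open Classical in
theorem cnt_smul {f : Module.End F V} (l : F) (hl : l ≠ 0) (D : TypeData f)
    (D' : TypeData (l • f)) (φ : F[X]) (hφ : Irreducible φ) (hφm : φ.Monic) (j : ℕ) (hj : 1 ≤ j) :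
    cnt D' φ j = cnt D (tw l⁻¹ φ) j := by
  have hl' : l⁻¹ ≠ 0 := inv_ne_zero hl
  have h1 := kd_second_diff D' φ hφ hφm j hj
  have h2 := kd_second_diff D (tw l⁻¹ φ) (tw_irreducible _ hl' hφ) (tw_monic _ hl' hφm) j hj
  rw [kd_smul_pow f l hl, kd_smul_pow f l hl, kd_smul_pow f l hl] at h1
  rw [tw_natDegree _ hl'] at h2
  have hd : 0 < φ.natDegree := hφ.natDegree_pos
  have : φ.natDegree * cnt D' φ j = φ.natDegree * cnt D (tw l⁻¹ φ) j := by omega
  exact Nat.eq_of_mul_eq_mul_left hd this

theorem irrs_smul {f : Module.End F V} (l : F) (hl : l ≠ 0) (D : TypeData f)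
    (D' : TypeData (l • f)) (j : ℕ) : D'.irrs j = (D.irrs j).map (tw l) := by
  classical
  have hl' : l⁻¹ ≠ 0 := inv_ne_zero hl
  rcases Nat.eq_zero_or_pos j with rfl | hj
  · rw [D.irrs_zero, D'.irrs_zero, Multiset.map_zero]
  ext a
  by_cases ha : Irreducible a ∧ a.Monic
  · rw [count_irrs, cnt_smul l hl D D' a ha.1 ha.2 j hj, ← count_irrs]
    conv_rhs => rw [← tw_tw_inv l hl a]
    exact (Multiset.count_map_eq_count' (tw l) _ (tw_injective l hl) _).symm
  · rw [Multiset.count_eq_zero_of_notMem (fun h => ha (D'.mem_irrs h)),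
      Multiset.count_eq_zero_of_notMem]
    intro h
    obtain ⟨b, hb, rfl⟩ := Multiset.mem_map.mp h
    have hb' := D.mem_irrs hb
    exact ha ⟨tw_irreducible l hl hb'.1, tw_monic l hl hb'.2⟩

/-- the polynomials of `l • f` are the twists of those of `f` -/
theorem gpoly_smul {f : Module.End F V} (l : F) (hl : l ≠ 0) (D : TypeData f)
    (D' : TypeData (l • f)) (j : ℕ) : D'.gpoly j = tw l (D.gpoly j) := by
  unfold TypeData.gpoly
  rw [irrs_smul l hl D D' j, tw_multiset_prod l hl]

end kd

section matrix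

variable {n : ℕ}

/-- **(U4)** the tuple of a scalar multiple -/
theorem tupleOf_smul (l : F) (hl : l ≠ 0) (A B : GL (Fin n) F)
    (h : (B : Matrix (Fin n) (Fin n) F) = l • (A : Matrix (Fin n) (Fin n) F)) (j : Fin n) :
    tupleOf B j = tw l (tupleOf A j) := by
  unfold tupleOf
  have h1 : Matrix.toLin' (B : Matrix (Fin n) (Fin n) F) =
      l • Matrix.toLin' (A : Matrix (Fin n) (Fin n) F) := by
    rw [h, map_smul]
  have key : ∀ (g : Module.End F (Fin n → F)) (hg : g = l • Matrix.toLin' (A : Matrix (Fin n) (Fin n) F))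
      (D' : TypeData g), D'.gpoly ((j : ℕ) + 1) = tw l ((dataOf A).gpoly ((j : ℕ) + 1)) := by
    intro g hg D'
    subst hg
    exact gpoly_smul l hl (dataOf A) D' _
  exact key _ h1 (dataOf B)

end matrix

end Cfsg.Agent.Lib.H8.ClsTwist
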