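import Mathlib
import Cfsg.Agent.Lib.H8.BQ0
import Cfsg.Agent.Lib.H4.BQG5
import Cfsg.Agent.Lib.H6.BQG7
import Cfsg.Agent.Lib.H15.BQQUOT

/-!
# S4719 Part II: CASE A (`X` abelian)
-/

set_option autoImplicit false

universe u

namespace Cfsg.Agent.Lib.H8.BQ

open Subgroup

/-- A Sylow 2-subgroup of `X`, as a subgroup of the ambient group. -/
theorem exists_sylow_two_sub {Γ : Type u} [Group Γ] [Finite Γ] (X : Subgroup Γ) :
    ∃ T : Subgroup Γ, T ≤ X ∧ IsPGroup 2 T ∧
      Nat.card T = 2 ^ (Nat.card X).factorization 2 := by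
  haveI : Fact (Nat.Prime 2) := ⟨Nat.prime_two⟩
  obtain ⟨P⟩ : Nonempty (Sylow 2 X) := inferInstance
  refine ⟨(P : Subgroup X).map X.subtype, Subgroup.map_subtype_le _, ?_, ?_⟩
  · exact P.isPGroup'.map X.subtype
  · rw [Subgroup.card_map_of_injective X.subtype_injective]
    exact P.card_eq_multiplicity

/-- CASE A (`X` abelian). -/
theorem card_le_of_abelian {Γ : Type u} [Group Γ] [Finite Γ] (G V X : Subgroup Γ) (a n F C : ℕ)
    (hIH : QStmt.{u} a n F) (h : QHyp G V (a + 1) n) (hfree : OddFree G V)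
    (hXG : X ≤ G) (hX1 : X ≠ ⊥) (hGX : G ≤ normalizer (X : Set Γ))
    (hVX : V ≤ normalizer (X : Set Γ)) (hab : X ≤ centralizer (X : Set Γ))
    (hC : Nat.card G ≤ C * Nat.card ↥(G ⊓ centralizer (X : Set Γ))) :
    Nat.card G ≤ max (C * n) (C * 2 ^ (a + 1) * F) := by
  classical
  -- `X` is a 2-group
  obtain ⟨T, hTX, hT2, hTcard⟩ := exists_sylow_two_sub X
  have hXpos : Nat.card X ≠ 0 := Nat.card_pos.ne'
  have hidx : ¬ 2 ∣ Nat.card X / Nat.card T := by
    rw [hTcard]
    exact Nat.not_dvd_ordCompl Nat.prime_two hXpos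
  have hXT : X = T :=
    Cfsg.Agent.Lib.H6.BQ.eq_of_central_sylow G V X T hfree hXG hGX hVX hTX hT2 hidx
      (hTX.trans hab)
  set k := (Nat.card X).factorization 2 with hk
  have hXcard : Nat.card X = 2 ^ k := by
    have h1 : Nat.card X = Nat.card T := by rw [← hXT]
    rw [h1, hTcard]
  have hk1 : 1 ≤ k := by
    by_contra hlt
    have hk0 : k = 0 := by omega
    rw [hk0, pow_zero] at hXcard
    exact hX1 ((Subgroup.card_eq_one).1 hXcard)
  -- `N := C_G(X)`
  set N : Subgroup Γ := G ⊓ centralizer (X : Set Γ) with hN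
  have hXN : X ≤ N := le_inf hXG hab
  have hNG : N ≤ G := inf_le_left
  have hNpos : Nat.card N ≠ 0 := Nat.card_pos.ne'
  have hGpos : Nat.card G ≠ 0 := Nat.card_pos.ne'
  have hNval : (Nat.card N).factorization 2 ≤ a + 1 := by
    have hdvd : Nat.card N ∣ Nat.card G := Subgroup.card_dvd_of_le hNG
    have := (Nat.factorization_le_iff_dvd hNpos hGpos).2 hdvd 2
    exact this.trans h.val
  by_cases hv : ∃ v ∈ V, v ≠ 1 ∧ v ∈ X
  · -- A1
    obtain ⟨v, hvV, hv1, hvX⟩ := hv
    have hle : N ≤ G ⊓ centralizer {v} := by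
      apply inf_le_inf_left
      apply Subgroup.centralizer_le
      intro y hy
      rw [Set.mem_singleton_iff] at hy
      rw [hy]
      exact hvX
    have hNn : Nat.card N ≤ n := (Subgroup.card_le_of_le hle).trans (h.cent v hvV hv1)
    apply le_max_of_le_left
    calc Nat.card G ≤ C * Nat.card N := hC
      _ ≤ C * n := Nat.mul_le_mul_left _ hNn
  · -- A2
    have hdisj : V ⊓ X = ⊥ := by
      rw [Subgroup.eq_bot_iff_forall]
      intro x hx
      by_contra hx1
      exact hv ⟨x, hx.1, hx1, hx.2⟩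
    have hQN : QHyp N V (a + 1) n := by
      refine ⟨?_, h.card4, h.exp2, hNval, ?_⟩
      · exact Cfsg.Agent.Lib.H4.BQ.le_normalizer_inf_centralizer G X V h.norm hVX
      · intro v hvV hv1
        have hle : N ⊓ centralizer {v} ≤ G ⊓ centralizer {v} := inf_le_inf_right _ hNG
        exact (Subgroup.card_le_of_le hle).trans (h.cent v hvV hv1)
    obtain ⟨Γ', instG, instF, N', V', hQ', hcard, -⟩ :=
      Cfsg.Agent.Lib.H15.BQ.exists_quotient N V X (a + 1) n hQN hXN (hNG.trans hGX) hVX hdisj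
    have hN'pos : Nat.card N' ≠ 0 := Nat.card_pos.ne'
    have hval' : (Nat.card N').factorization 2 ≤ a := by
      have h1 : (Nat.card N' * Nat.card X).factorization 2 =
          (Nat.card N').factorization 2 + (Nat.card X).factorization 2 := by
        rw [Nat.factorization_mul hN'pos hXpos]; rfl
      rw [hcard] at h1
      omega
    have hQ'' : QHyp N' V' a n := ⟨hQ'.norm, hQ'.card4, hQ'.exp2, hval', hQ'.cent⟩
    have hN'F : Nat.card N' ≤ F := hIH Γ' N' V' hQ''
    have hkle : k ≤ a + 1 := by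
      have hdvd : Nat.card X ∣ Nat.card N := Subgroup.card_dvd_of_le hXN
      have := (Nat.factorization_le_iff_dvd hXpos hNpos).2 hdvd 2
      exact this.trans hNval
    have hXle : Nat.card X ≤ 2 ^ (a + 1) := by
      rw [hXcard]
      exact Nat.pow_le_pow_right (by norm_num) hkle
    apply le_max_of_le_right
    calc Nat.card G ≤ C * Nat.card N := hC
      _ = C * (Nat.card N' * Nat.card X) := by rw [hcard]
      _ ≤ C * (F * 2 ^ (a + 1)) := Nat.mul_le_mul_left _ (Nat.mul_le_mul hN'F hXle)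
      _ = C * 2 ^ (a + 1) * F := by ring

end Cfsg.Agent.Lib.H8.BQ
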