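import Mathlib
import Cfsg.Agent.Lib.H8.BQ0
import Cfsg.Agent.Lib.H7.BQG3
import Cfsg.Agent.Lib.H7.BQG4b
import Cfsg.Agent.Lib.H8.BQCASEA
import Cfsg.Agent.Lib.H11.BQCASEB
import Cfsg.Agent.Lib.H15.BQ2

/-!
# S4719 Part II (Theorem Q): assembly

`core_zero`, `core_step`, `qStmt_qBound` and the interface `card_le_qBound`.
-/

set_option autoImplicit false

universe u

namespace Cfsg.Agent.Lib.H8.BQ

open Subgroup
open Cfsg.Agent.Lib.H7.BQ (exists_small_class exists_normal_closure)
open Cfsg.Agent.Lib.H11.BQ (card_le_of_nonabelian)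
open Cfsg.Agent.Lib.H15.BQ (qStmt_of_oddFree)

/-- `a = 0`: `G` itself has odd order. -/
theorem core_zero {Γ : Type u} [Group Γ] [Finite Γ] (G V : Subgroup Γ) (n : ℕ)
    (h : QHyp G V 0 n) (hfree : OddFree G V) : Nat.card G ≤ 1 := by
  have hpos : 0 < Nat.card G := Nat.card_pos
  have h2 : ¬ 2 ∣ Nat.card G := by
    intro hd
    have h1 := Nat.Prime.factorization_pos_of_dvd Nat.prime_two hpos.ne' hd
    have h0 := h.val
    omega
  have hodd : Odd (Nat.card G) := Nat.odd_iff.2 (by omega)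
  have hbot := hfree G le_rfl hodd le_normalizer h.norm
  rw [hbot]
  simp

/-- A four-group has a nonidentity element. -/
theorem exists_ne_one_of_card_four {Γ : Type u} [Group Γ] (V : Subgroup Γ)
    (hV4 : Nat.card V = 4) : ∃ v ∈ V, v ≠ 1 := by
  by_contra hcon
  have hall : ∀ v ∈ V, v = 1 := by
    intro v hv
    by_contra hne
    exact hcon ⟨v, hv, hne⟩
  have hbot : V = ⊥ := (Subgroup.eq_bot_iff_forall V).2 hall
  rw [hbot] at hV4
  simp at hV4

/-- The core step: BF (G3) + G4b + CASE A / CASE B. -/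
theorem core_step {Γ : Type u} [Group Γ] [Finite Γ] (G V : Subgroup Γ) (a n F : ℕ)
    (hIH : QStmt.{u} a n F) (h : QHyp G V (a + 1) n) (hfree : OddFree G V) :
    Nat.card G ≤ qCore F (a + 1) n := by
  unfold qCore
  by_cases hsmall : Nat.card G < 2 * n
  · exact le_max_of_le_left hsmall.le
  · have hbig : 2 * n ≤ Nat.card G := not_lt.1 hsmall
    obtain ⟨v, hvV, hv1⟩ := exists_ne_one_of_card_four V h.card4
    obtain ⟨g, hgG, hg1, hgc⟩ :=
      exists_small_class G v (h.norm hvV) (h.exp2 v hvV) n (h.cent v hvV hv1) hbig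
    obtain ⟨X, hXG, hX1, hGX, hVX, hC⟩ :=
      exists_normal_closure G V h.norm h.card4 (cc n) g hgG hg1 hgc
    have hC' : Nat.card G ≤ cC n * Nat.card ↥(G ⊓ centralizer (X : Set Γ)) := hC
    apply le_max_of_le_right
    by_cases hab : X ≤ centralizer (X : Set Γ)
    · exact card_le_of_abelian G V X a n F (cC n) hIH h hfree hXG hX1 hGX hVX hab hC'
    · have hB := card_le_of_nonabelian G V X a n F (cC n) hIH h hfree hXG hGX hVX hab hC'
      apply le_max_of_le_right
      calc Nat.card G ≤ cC n * F := hB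
        _ = cC n * 1 * F := by ring
        _ ≤ cC n * 2 ^ (a + 1) * F := by
          apply Nat.mul_le_mul_right
          apply Nat.mul_le_mul_left
          exact Nat.one_le_two_pow

/-- Theorem Q. -/
theorem qStmt_qBound (a n : ℕ) : QStmt.{u} a n (qBound a n) := by
  induction a with
  | zero =>
    have h1 := qStmt_of_oddFree.{u} 0 n 1
      (fun Γ _ _ G V h hfree => core_zero G V n h hfree)
    simpa [qBound] using h1
  | succ a ih =>
    have h1 := qStmt_of_oddFree.{u} (a + 1) n (qCore (qBound a n) (a + 1) n)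
      (fun Γ _ _ G V h hfree => core_step G V a n (qBound a n) ih h hfree)
    simpa [qBound] using h1

/-- INTERFACE for Part I / FINAL. -/
theorem card_le_qBound {Γ : Type u} [Group Γ] [Finite Γ] (G V : Subgroup Γ) [G.Normal]
    (hV4 : Nat.card V = 4) (hV2 : ∀ v ∈ V, v * v = 1) (a n : ℕ)
    (ha : (Nat.card G).factorization 2 ≤ a)
    (hn : ∀ v ∈ V, v ≠ 1 → Nat.card ↥(G ⊓ Subgroup.centralizer {v}) ≤ n) :
    Nat.card G ≤ qBound a n := by
  apply qStmt_qBound.{u} a n Γ G V
  refine ⟨?_, hV4, hV2, ha, hn⟩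
  rw [Subgroup.normalizer_eq_top]
  exact le_top

/-- Theorem Q in the binder order of `tools/blueprints/S4719_top_sigs.lean`. -/
theorem theoremQ {Γ : Type*} [Group Γ] [Finite Γ] (G : Subgroup Γ) [G.Normal] (V : Subgroup Γ)
    (hV4 : Nat.card V = 4) (hV2 : ∀ v ∈ V, v * v = 1) (a n : ℕ)
    (ha : (Nat.card G).factorization 2 ≤ a)
    (hn : ∀ v ∈ V, v ≠ 1 → Nat.card (G ⊓ Subgroup.centralizer ({v} : Set Γ) : Subgroup Γ) ≤ n) :
    Nat.card G ≤ qBound a n :=
  card_le_qBound G V hV4 hV2 a n ha hn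

end Cfsg.Agent.Lib.H8.BQ
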