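import Cfsg.Prelude.Def_FusionComponents
import Cfsg.Agent.Lib.H24.F59Def

/-!
# S5159, piece (INV): the `Aut_F(T)`-core of an `E`-strongly closed subgroup is `F`-strongly closed
-/

set_option autoImplicit false

namespace Cfsg.Agent.Lib.H8.F59

open Cfsg Cfsg.FusionSystem Cfsg.Agent.Lib.H24.F59
open scoped commutatorElement

variable {Ω : Type*} [Group Ω] {S : Subgroup Ω}

/-- membership in `autImage α U` -/
theorem mem_autImage {T : Subgroup Ω} (α : MulAut T) (U : Subgroup Ω) (x : Ω) :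
    x ∈ autImage α U ↔ ∃ w : T, (w : Ω) ∈ U ∧ ((α w : T) : Ω) = x := by
  unfold autImage
  rw [Subgroup.mem_map]
  constructor
  · rintro ⟨w, hw, rfl⟩
    exact ⟨w, Subgroup.mem_subgroupOf.1 hw, rfl⟩
  · rintro ⟨w, hw, rfl⟩
    exact ⟨w, Subgroup.mem_subgroupOf.2 hw, rfl⟩

theorem autImage_le {T : Subgroup Ω} (α : MulAut T) (U : Subgroup Ω) : autImage α U ≤ T := by
  intro x hx
  obtain ⟨w, _, rfl⟩ := (mem_autImage α U x).1 hx
  exact (α w).2

theorem autImage_mono {T : Subgroup Ω} (α : MulAut T) {U V : Subgroup Ω} (h : U ≤ V) :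
    autImage α U ≤ autImage α V := by
  intro x hx
  obtain ⟨w, hw, rfl⟩ := (mem_autImage α U x).1 hx
  exact (mem_autImage α V _).2 ⟨w, h hw, rfl⟩

theorem mem_autCore {T : Subgroup Ω} (F : FusionSystem S) (U : Subgroup Ω) (x : Ω) :
    x ∈ autCore (T := T) F U ↔ ∀ α : F.autGroup T, x ∈ autImage (α : MulAut T) U := by
  unfold autCore
  exact Subgroup.mem_iInf

theorem autCore_le_autImage {T : Subgroup Ω} (F : FusionSystem S) (U : Subgroup Ω) {α : MulAut T}
    (hα : α ∈ F.autGroup T) : autCore (T := T) F U ≤ autImage α U := by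
  intro x hx
  exact (mem_autCore F U x).1 hx ⟨α, hα⟩

theorem autCore_le {T : Subgroup Ω} (F : FusionSystem S) (U : Subgroup Ω) : autCore (T := T) F U ≤ T :=
  (autCore_le_autImage F U (Subgroup.one_mem _)).trans (autImage_le 1 U)

/-- (INV1) invariance clause: `α(U)` is again strongly closed in `E`. -/
theorem autImage_stronglyClosed {T : Subgroup Ω} {E : FusionSystem T} {F : FusionSystem S}
    (hinv : E.IsInvariantIn F) {U : Subgroup Ω} (hU : E.StronglyClosed U) {α : MulAut T}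
    (hα : α ∈ F.autGroup T) : E.StronglyClosed (autImage α U) := by
  refine ⟨autImage_le α U, ?_⟩
  intro R hR ψ hψ y
  have hRT : R ≤ T := hR.trans (autImage_le α U)
  have hαi : α⁻¹ ∈ F.autGroup T := Subgroup.inv_mem _ hα
  obtain ⟨χ, hχ, hχe⟩ := hinv.2.2.1 R hRT ψ hψ α⁻¹ hαi
  -- the image `α⁻¹(R)` lies in `U`
  have hR'U : (R.subgroupOf T).map (T.subtype.comp (α⁻¹ : MulAut T).toMonoidHom) ≤ U := by
    intro z hz
    obtain ⟨w, hw, rfl⟩ := Subgroup.mem_map.1 hz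
    have hwR : (w : Ω) ∈ R := Subgroup.mem_subgroupOf.1 hw
    obtain ⟨u, huU, hue⟩ := (mem_autImage α U _).1 (hR hwR)
    have hwu : w = α u := Subtype.ext hue.symm
    show (((α⁻¹ : MulAut T) w : T) : Ω) ∈ U
    rw [hwu, MulAut.inv_apply_self]
    exact huU
  have hψyT : ψ y ∈ T := (E.le_of_mem hψ).2 y
  have hαy : (((α⁻¹ : MulAut T) ⟨y, hRT y.2⟩ : T) : Ω) ∈
      (R.subgroupOf T).map (T.subtype.comp (α⁻¹ : MulAut T).toMonoidHom) :=
    Subgroup.mem_map.2 ⟨⟨y, hRT y.2⟩, Subgroup.mem_subgroupOf.2 y.2, rfl⟩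
  have h1 := hχe y hψyT hαy
  have h2 := hU.2 _ hR'U χ hχ ⟨_, hαy⟩
  rw [h1] at h2
  refine (mem_autImage α U _).2 ⟨(α⁻¹ : MulAut T) ⟨ψ y, hψyT⟩, h2, ?_⟩
  rw [MulAut.apply_inv_self]

/-- (INV2) Frattini clause: the core is strongly closed in `F`. -/
theorem autCore_stronglyClosed {T : Subgroup Ω} {E : FusionSystem T} {F : FusionSystem S}
    (hinv : E.IsInvariantIn F) {U : Subgroup Ω} (hU : E.StronglyClosed U) :
    F.StronglyClosed (autCore (T := T) F U) := by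
  refine ⟨(autCore_le F U).trans hinv.2.1.1, ?_⟩
  intro R hR φ hφ x
  have hRT : R ≤ T := hR.trans (autCore_le F U)
  obtain ⟨α, hα, φ₀, hφ₀, he⟩ := hinv.2.2.2 R hRT φ hφ
  rw [mem_autCore]
  rintro ⟨β, hβ⟩
  have hγ : α⁻¹ * β ∈ F.autGroup T := Subgroup.mul_mem _ (Subgroup.inv_mem _ hα) hβ
  have hsc := autImage_stronglyClosed hinv hU hγ
  have hRγ : R ≤ autImage (α⁻¹ * β) U := hR.trans (autCore_le_autImage F U hγ)
  have h1 : φ₀ x ∈ autImage (α⁻¹ * β) U := hsc.2 R hRγ φ₀ hφ₀ x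
  obtain ⟨u, huU, hue⟩ := (mem_autImage _ U _).1 h1
  have hφ₀T : φ₀ x ∈ T := (E.le_of_mem hφ₀).2 x
  have h2 := he x hφ₀T
  show φ x ∈ autImage β U
  rw [h2]
  refine (mem_autImage β U _).2 ⟨u, huU, ?_⟩
  have h3 : (⟨φ₀ x, hφ₀T⟩ : T) = (α⁻¹ * β) u := Subtype.ext hue.symm
  rw [h3, MulAut.mul_apply, MulAut.apply_inv_self]

/-- (INV3a) -/
theorem autCore_bot {T : Subgroup Ω} (F : FusionSystem S) : autCore (T := T) F ⊥ = ⊥ := by
  rw [eq_bot_iff]
  intro x hx
  have h := autCore_le_autImage F ⊥ (Subgroup.one_mem (F.autGroup T)) hx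
  obtain ⟨w, hw, rfl⟩ := (mem_autImage 1 ⊥ x).1 h
  rw [Subgroup.mem_bot] at hw ⊢
  simpa using hw

/-- (INV3b) -/
theorem autCore_self {T : Subgroup Ω} (F : FusionSystem S) : autCore (T := T) F T = T := by
  apply le_antisymm (autCore_le F T)
  intro x hx
  rw [mem_autCore]
  rintro ⟨α, _⟩
  refine (mem_autImage α T x).2 ⟨(α⁻¹ : MulAut T) ⟨x, hx⟩, Subtype.property _, ?_⟩
  rw [MulAut.apply_inv_self]

/-- (INV3c) -/
theorem autCore_mono {T : Subgroup Ω} (F : FusionSystem S) {U V : Subgroup Ω} (h : U ≤ V) :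
    autCore (T := T) F U ≤ autCore (T := T) F V := by
  intro x hx
  rw [mem_autCore] at hx ⊢
  exact fun α => autImage_mono _ h (hx α)

/-- (INV3d) abelian factors survive. -/
theorem autCore_commutator_le {T : Subgroup Ω} (F : FusionSystem S) {U V : Subgroup Ω}
    (h : ⁅V, V⁆ ≤ U) : ⁅autCore (T := T) F V, autCore (T := T) F V⁆ ≤ autCore (T := T) F U := by
  rw [Subgroup.commutator_le]
  intro a ha b hb
  rw [mem_autCore] at ha hb ⊢
  intro α
  obtain ⟨v, hv, rfl⟩ := (mem_autImage _ V a).1 (ha α)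
  obtain ⟨w, hw, rfl⟩ := (mem_autImage _ V b).1 (hb α)
  refine (mem_autImage _ U _).2 ⟨⁅v, w⁆, ?_, ?_⟩
  · apply h
    have : ((⁅v, w⁆ : T) : Ω) = ⁅(v : Ω), (w : Ω)⁆ := by
      simp [commutatorElement_def]
    rw [this]
    exact Subgroup.commutator_mem_commutator hv hw
  · rw [map_commutatorElement]
    simp [commutatorElement_def]

end Cfsg.Agent.Lib.H8.F59
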