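import Mathlib
import Cfsg.Agent.Lib.H25.ZasE4e

set_option autoImplicit false

/-!
# S0690 block Q5: an element of order 3 of a subgroup `≅ A₅` lies in a subgroup `≅ A₄` (helper8)
-/

namespace Cfsg.Agent.Lib.H25.Zas

open Equiv

/-- the embedding `Perm (Fin 4) → Perm (Fin 5)` onto the stabiliser of `f0` -/
noncomputable def q5Phi (f0 : Fin 5) : Perm (Fin 4) →* Perm (Fin 5) :=
  (Perm.ofSubtype (p := fun x : Fin 5 => x ≠ f0)).comp
    ((finSuccAboveEquiv f0).permCongrHom.toMonoidHom)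

theorem q5Phi_injective (f0 : Fin 5) : Function.Injective (q5Phi f0) := by
  unfold q5Phi
  rw [MonoidHom.coe_comp]
  exact Perm.ofSubtype_injective.comp (finSuccAboveEquiv f0).permCongrHom.injective

theorem sign_q5Phi (f0 : Fin 5) (π : Perm (Fin 4)) : Perm.sign (q5Phi f0 π) = Perm.sign π := by
  unfold q5Phi
  rw [MonoidHom.comp_apply, Perm.sign_ofSubtype]
  exact Perm.sign_permCongr _ _

/-- every permutation fixing `f0` is in the image, with the same sign -/
theorem exists_q5Phi_eq (f0 : Fin 5) (g : Perm (Fin 5)) (hg : g f0 = f0) :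
    ∃ π : Perm (Fin 4), q5Phi f0 π = g := by
  have h₁ : ∀ x, (g x ≠ f0) ↔ (x ≠ f0) := by
    intro x
    constructor
    · intro h hx
      apply h
      rw [hx, hg]
    · intro h hx
      apply h
      apply g.injective
      rw [hx, hg]
  have h₂ : ∀ x, g x ≠ x → x ≠ f0 := by
    intro x hx h
    apply hx
    rw [h, hg]
  refine ⟨(finSuccAboveEquiv f0).permCongrHom.symm (Perm.subtypePerm g h₁), ?_⟩
  unfold q5Phi
  rw [MonoidHom.comp_apply]
  have : (finSuccAboveEquiv f0).permCongrHom.toMonoidHom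
      ((finSuccAboveEquiv f0).permCongrHom.symm (Perm.subtypePerm g h₁)) =
      Perm.subtypePerm g h₁ := MulEquiv.apply_symm_apply _ _
  rw [this]
  exact Perm.ofSubtype_subtypePerm h₁ h₂

/-- the embedding `A₄ → A₅` -/
noncomputable def q5Psi (f0 : Fin 5) : alternatingGroup (Fin 4) →* alternatingGroup (Fin 5) :=
  ((q5Phi f0).comp (alternatingGroup (Fin 4)).subtype).codRestrict (alternatingGroup (Fin 5))
    (by
      intro π
      rw [Perm.mem_alternatingGroup, MonoidHom.comp_apply, sign_q5Phi]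
      exact Perm.mem_alternatingGroup.mp π.2)

theorem q5Psi_injective (f0 : Fin 5) : Function.Injective (q5Psi f0) := by
  intro π π' h
  have h1 := congrArg Subtype.val h
  exact Subtype.ext (q5Phi_injective f0 h1)

set_option maxRecDepth 100000 in
theorem q5_fix_dec : ∀ a : alternatingGroup (Fin 5), a * a * a = 1 → ∃ f : Fin 5, a.1 f = f := by
  decide

/-- **Q5**: an element of order 3 in a subgroup isomorphic to `A₅` lies in a subgroup isomorphic to
`A₄` (a point stabiliser). -/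
theorem exists_A4_of_A5 {H : Type*} [Group H] [Finite H] {b : H} (ob : orderOf b = 3)
    (L : Subgroup H) (hbL : b ∈ L) (hL : Nonempty (L ≃* alternatingGroup (Fin 5))) :
    ∃ X : Subgroup H, b ∈ X ∧ Nonempty (X ≃* alternatingGroup (Fin 4)) := by
  obtain ⟨φ⟩ := hL
  set b' : alternatingGroup (Fin 5) := φ ⟨b, hbL⟩ with hb'
  have hb3 : b' * b' * b' = 1 := by
    have h1 : (⟨b, hbL⟩ : L) ^ 3 = 1 := by
      apply Subtype.ext
      rw [Subgroup.coe_pow, Subgroup.coe_one, ← ob]
      exact pow_orderOf_eq_one b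
    have h2 : b' ^ 3 = 1 := by rw [hb', ← map_pow, h1, map_one]
    rw [← h2, pow_succ, pow_two]
  obtain ⟨f0, hf0⟩ := q5_fix_dec b' hb3
  obtain ⟨π, hπ⟩ := exists_q5Phi_eq f0 b'.1 hf0
  have hπA : π ∈ alternatingGroup (Fin 4) := by
    rw [Perm.mem_alternatingGroup, ← sign_q5Phi f0, hπ]
    exact Perm.mem_alternatingGroup.mp b'.2
  set Θ : alternatingGroup (Fin 4) →* H :=
    (L.subtype.comp φ.symm.toMonoidHom).comp (q5Psi f0) with hΘ
  have hΘinj : Function.Injective Θ := by
    rw [hΘ, MonoidHom.coe_comp, MonoidHom.coe_comp]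
    exact (L.subtype_injective.comp φ.symm.injective).comp (q5Psi_injective f0)
  refine ⟨Θ.range, ⟨⟨π, hπA⟩, ?_⟩, ⟨(MonoidHom.ofInjective hΘinj).symm⟩⟩
  have h1 : q5Psi f0 ⟨π, hπA⟩ = b' := Subtype.ext hπ
  show L.subtype (φ.symm (q5Psi f0 ⟨π, hπA⟩)) = b
  rw [h1, hb', MulEquiv.symm_apply_apply]
  rfl

end Cfsg.Agent.Lib.H25.Zas
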