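import Mathlib
import Cfsg.Prelude.Def_Transfer
import Cfsg.Agent.Lib.H26.NGPDefs
import Cfsg.Agent.Lib.H8.PGroup

set_option autoImplicit false

/-! S1904 piece PN (architect helper26): no self-centralizing normal subgroup containing an `E8` implies
(N): a normal abelian subgroup has at most four solutions of `s * s = 1`. -/

open Cfsg.Agent.Lib.H26.NGP

namespace Cfsg.Agent.Lib.H8.NGP

universe u

variable {X : Type u} [Group X] [Finite X]

theorem ne_of_hscn (hX : IsPGroup 2 X)
    (hscn : ¬ ∃ A : Subgroup X, A.Normal ∧ Subgroup.centralizer (A : Set X) = A ∧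
      ∃ E : Subgroup X, E ≤ A ∧ Cfsg.IsElementaryAbelian 2 E ∧ Nat.card E = 8) : NE X := by
  classical
  intro B hBn hBab S hS
  by_contra hcard
  push Not at hcard
  apply hscn
  haveI := hBn
  haveI hBc : IsMulCommutative B := ⟨⟨fun a b => Subtype.ext (hBab a.1 a.2 b.1 b.2)⟩⟩
  -- the subgroup of solutions
  let Om : Subgroup X :=
    { carrier := {b | b ∈ B ∧ b * b = 1}
      one_mem' := ⟨B.one_mem, by simp⟩
      mul_mem' := by
        rintro a b ⟨ha, haa⟩ ⟨hb, hbb⟩
        refine ⟨B.mul_mem ha hb, ?_⟩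
        calc a * b * (a * b) = a * (b * a) * b := by group
          _ = a * (a * b) * b := by rw [hBab b hb a ha]
          _ = (a * a) * (b * b) := by group
          _ = 1 := by rw [haa, hbb, one_mul]
      inv_mem' := by
        rintro a ⟨ha, haa⟩
        refine ⟨B.inv_mem ha, ?_⟩
        rw [← mul_inv_rev, haa, inv_one] }
  have hOmB : Om ≤ B := fun b hb => hb.1
  have hOmsq : ∀ b ∈ Om, b * b = 1 := fun b hb => hb.2
  have hSOm : ∀ s ∈ S, s ∈ Om := fun s hs => hS s hs
  have hcardOm : 5 ≤ Nat.card Om := by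
    have hinj : Function.Injective (fun s : S => (⟨s.1, hSOm s.1 s.2⟩ : Om)) := by
      intro s t h
      exact Subtype.ext (by simpa using congrArg (fun x : Om => (x : X)) h)
    have := Nat.card_le_card_of_injective _ hinj
    rw [Nat.card_eq_fintype_card, Fintype.card_coe] at this
    omega
  have hOmp : IsPGroup 2 Om := hX.to_subgroup Om
  obtain ⟨k, hk⟩ := hOmp.exists_card_eq
  have hk3 : 3 ≤ k := by
    by_contra hlt
    push Not at hlt
    have : 2 ^ k ≤ 2 ^ 2 := Nat.pow_le_pow_right (by norm_num) (by omega)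
    omega
  have hdvd : 2 ^ 3 ∣ Nat.card Om := by
    rw [hk]
    exact pow_dvd_pow 2 hk3
  obtain ⟨K, hK⟩ := Sylow.exists_subgroup_card_pow_prime 2 hdvd
  let E : Subgroup X := K.map Om.subtype
  have hEOm : E ≤ Om := by
    rintro x ⟨y, _, rfl⟩
    exact y.2
  have hEcard : Nat.card E = 8 := by
    have : Nat.card E = Nat.card K :=
      Nat.card_congr (K.equivMapOfInjective Om.subtype Om.subtype_injective).symm.toEquiv
    rw [this, hK]
    norm_num
  have hEel : Cfsg.IsElementaryAbelian 2 E := by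
    refine ⟨⟨⟨fun a b => Subtype.ext ?_⟩⟩, ?_⟩
    · exact hBab a.1 (hOmB (hEOm a.2)) b.1 (hOmB (hEOm b.2))
    · intro a ha
      rw [pow_two]
      exact hOmsq a (hEOm ha)
  obtain ⟨A, hBA, hAn, _, hAc⟩ := Cfsg.Agent.Lib.H8.exists_normal_selfCentralizing hX B
  exact ⟨A, hAn, hAc, E, hEOm.trans (hOmB.trans hBA), hEel, hEcard⟩

end Cfsg.Agent.Lib.H8.NGP
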