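import Mathlib
import Cfsg.Prelude.Def_CaseTheorems
import Cfsg.Agent.Lib.H16.SolvableCore
import Cfsg.Agent.Lib.H9.PPrimeCore
import Cfsg.Agent.Lib.H1.CoprimeAction

/-! S4415, FRONT step (1): the pure group part (helper8).
`K = O_{3'}(S)`, `R = [K, B]`; `Q ≤ R`, `R = [R, B]`, `RB = ⟨b^{RB}⟩`. -/

set_option autoImplicit false

namespace Cfsg.Agent.Lib.H8.S4415F1

open Cfsg
open scoped commutatorElement

variable {S : Type*} [Group S] [Finite S]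

omit [Finite S] in
theorem K_normal : (Cfsg.pPrimeCore 3 S).Normal := Cfsg.Agent.Lib.H22.pPrimeCore_normal 3

theorem card_K_coprime : (Nat.card ↥(Cfsg.pPrimeCore 3 S)).Coprime 3 :=
  Cfsg.Agent.Lib.H22.card_pPrimeCore_coprime 3

omit [Finite S] in
theorem R_le_K (B : Subgroup S) : ⁅Cfsg.pPrimeCore 3 S, B⁆ ≤ Cfsg.pPrimeCore 3 S := by
  haveI := K_normal (S := S)
  exact Subgroup.commutator_le_left _ _

theorem card_R_coprime (B : Subgroup S) : (Nat.card ↥⁅Cfsg.pPrimeCore 3 S, B⁆).Coprime 3 :=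
  Nat.Coprime.coprime_dvd_left (Subgroup.card_dvd_of_le (R_le_K B)) card_K_coprime

omit [Finite S] in
theorem KB_le_normalizer_R (B : Subgroup S) :
    Cfsg.pPrimeCore 3 S ⊔ B ≤ Subgroup.normalizer ((⁅Cfsg.pPrimeCore 3 S, B⁆ : Subgroup S) : Set S) :=
  sup_le (Subgroup.normalizer_commutator_ge_left _ _) (Subgroup.normalizer_commutator_ge_right _ _)

omit [Finite S] in
theorem R_normal_in_KB (B : Subgroup S) :
    ∀ g ∈ Cfsg.pPrimeCore 3 S ⊔ B, ∀ r ∈ ⁅Cfsg.pPrimeCore 3 S, B⁆,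
      g * r * g⁻¹ ∈ ⁅Cfsg.pPrimeCore 3 S, B⁆ := by
  intro g hg r hr
  exact (Subgroup.mem_normalizer_iff.mp (KB_le_normalizer_R B hg) r).mp hr

omit [Finite S] in
theorem RB_le_KB (B : Subgroup S) : ⁅Cfsg.pPrimeCore 3 S, B⁆ ⊔ B ≤ Cfsg.pPrimeCore 3 S ⊔ B :=
  sup_le_sup_right (R_le_K B) B

omit [Finite S] in
theorem R_normal_in_RB (B : Subgroup S) :
    ∀ g ∈ ⁅Cfsg.pPrimeCore 3 S, B⁆ ⊔ B, ∀ r ∈ ⁅Cfsg.pPrimeCore 3 S, B⁆,
      g * r * g⁻¹ ∈ ⁅Cfsg.pPrimeCore 3 S, B⁆ :=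
  fun g hg r hr => R_normal_in_KB B g (RB_le_KB B hg) r hr

theorem coprimeAction_B_K [Group.IsSolvable S] (B : Subgroup S) (hB : Nat.card ↥B = 3) :
    Cfsg.Agent.Lib.H1.CoprimeAction B (Cfsg.pPrimeCore 3 S) where
  normalizes := by
    haveI := K_normal (S := S)
    rw [Subgroup.normalizer_eq_top]
    exact le_top
  coprime := by
    rw [hB]
    exact (card_K_coprime (S := S)).symm
  solvable := Or.inr inferInstance

/-- `[K, B, B] = [K, B]`. -/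
theorem R_comm [Group.IsSolvable S] (B : Subgroup S) (hB : Nat.card ↥B = 3) :
    ⁅⁅Cfsg.pPrimeCore 3 S, B⁆, B⁆ = ⁅Cfsg.pPrimeCore 3 S, B⁆ :=
  Cfsg.Agent.Lib.H1.coprime_commutator_commutator (coprimeAction_B_K B hB)

/-- An element of order 3 is not in `R`. -/
theorem not_mem_R (B : Subgroup S) {x : S} (hx : orderOf x = 3) :
    x ∉ ⁅Cfsg.pPrimeCore 3 S, B⁆ := by
  intro hmem
  have h1 : orderOf (⟨x, hmem⟩ : ↥⁅Cfsg.pPrimeCore 3 S, B⁆) = 3 :=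
    (Subgroup.orderOf_mk x hmem).trans hx
  have h2 : 3 ∣ Nat.card ↥⁅Cfsg.pPrimeCore 3 S, B⁆ := by
    have := orderOf_dvd_natCard (⟨x, hmem⟩ : ↥⁅Cfsg.pPrimeCore 3 S, B⁆)
    rwa [h1] at this
  have h3 := card_R_coprime B
  have : (3 : ℕ) ∣ 1 := by
    have := Nat.dvd_gcd h2 (dvd_refl 3)
    rwa [Nat.Coprime.gcd_eq_one h3] at this
  omega

/-- `RB` is generated by the `RB`-conjugates of `b`. -/
theorem RB_le_closure_conj [Group.IsSolvable S] (B : Subgroup S) (hB : Nat.card ↥B = 3) (b : S)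
    (hb : Subgroup.zpowers b = B) :
    ⁅Cfsg.pPrimeCore 3 S, B⁆ ⊔ B ≤
      Subgroup.closure {x : S | ∃ y ∈ ⁅Cfsg.pPrimeCore 3 S, B⁆ ⊔ B, x = y * b * y⁻¹} := by
  set N := Subgroup.closure {x : S | ∃ y ∈ ⁅Cfsg.pPrimeCore 3 S, B⁆ ⊔ B, x = y * b * y⁻¹} with hN
  have hbN : b ∈ N := Subgroup.subset_closure ⟨1, Subgroup.one_mem _, by simp⟩
  have hBN : B ≤ N := by
    rw [← hb]
    exact Subgroup.zpowers_le.mpr hbN
  have hconj : ∀ r ∈ ⁅Cfsg.pPrimeCore 3 S, B⁆, ∀ c ∈ B, r * c * r⁻¹ ∈ N := by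
    intro r hr c hc
    rw [← hb] at hc
    obtain ⟨k, rfl⟩ := Subgroup.mem_zpowers_iff.mp hc
    have h1 : r * b * r⁻¹ ∈ N :=
      Subgroup.subset_closure ⟨r, Subgroup.mem_sup_left hr, rfl⟩
    have h2 : r * b ^ k * r⁻¹ = (r * b * r⁻¹) ^ k := by
      rw [conj_zpow]
    rw [h2]
    exact N.zpow_mem h1 k
  apply sup_le _ hBN
  rw [← R_comm B hB, Subgroup.commutator_le]
  intro r hr c hc
  have h1 := hconj r hr c hc
  have h2 : ⁅r, c⁆ = (r * c * r⁻¹) * c⁻¹ := rfl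
  rw [h2]
  exact N.mul_mem h1 (N.inv_mem (hBN hc))

/-- `V₄` facts: `Q = [Q, B]` when `B` of order 3 normalizes but does not centralize `Q = V₄`. -/
theorem Q_le_comm (B : Subgroup S) (hB : Nat.card ↥B = 3)
    (Q : Subgroup S) (hQ : Cfsg.IsElementaryAbelian 2 Q) (hQ4 : Nat.card ↥Q = 4)
    (hBQ : B ≤ Subgroup.normalizer (Q : Set S))
    (hBQ' : ¬ B ≤ Subgroup.centralizer (Q : Set S)) : Q ≤ ⁅Q, B⁆ := by
  -- pick b ∈ B and q0 ∈ Q not commuting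
  have h0 : ∃ b ∈ B, ∃ q0 ∈ Q, b * q0 * b⁻¹ ≠ q0 := by
    by_contra hcon
    push Not at hcon
    apply hBQ'
    intro b hb
    rw [Subgroup.mem_centralizer_iff]
    intro q hq
    have := hcon b hb q hq
    calc q * b = (b * q * b⁻¹) * b := by rw [this]
      _ = b * q := by group
  obtain ⟨b, hbB, q0, hq0, hne⟩ := h0
  have hb3 : b ^ 3 = 1 := by
    have h1 : (⟨b, hbB⟩ : ↥B) ^ 3 = 1 := by
      rw [← hB]; exact pow_card_eq_one'
    have := congrArg (fun x : ↥B => (x : S)) h1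
    simpa using this
  have hnorm : ∀ q ∈ Q, b * q * b⁻¹ ∈ Q := fun q hq =>
    (Subgroup.mem_normalizer_iff.mp (hBQ hbB) q).mp hq
  have hsq : ∀ q ∈ Q, q * q = 1 := fun q hq => by
    have := hQ.2 q hq
    rwa [pow_two] at this
  have hcommQ : ∀ x ∈ Q, ∀ y ∈ Q, x * y = y * x := by
    intro x hx y hy
    have := hQ.1
    have h := (this.is_comm.comm (⟨x, hx⟩ : ↥Q) ⟨y, hy⟩)
    exact congrArg Subtype.val h
  have hCle : ⁅Q, B⁆ ≤ Q := (Subgroup.le_normalizer_iff_commutator_le_left).mp hBQ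
  -- c := [b, q0] ∈ [Q,B]
  obtain ⟨q1, hq1⟩ : ∃ q1, q1 = b * q0 * b⁻¹ := ⟨_, rfl⟩
  have hne' : q1 ≠ q0 := by rw [hq1]; exact hne
  have hq1Q : q1 ∈ Q := by rw [hq1]; exact hnorm q0 hq0
  obtain ⟨c, hc⟩ : ∃ c, c = q1 * q0⁻¹ := ⟨_, rfl⟩
  have hcmem : c ∈ ⁅Q, B⁆ := by
    have h1 : c = ⁅b, q0⁆ := by
      rw [commutatorElement_def, hc, hq1]
    rw [h1, Subgroup.commutator_comm]
    exact Subgroup.commutator_mem_commutator hbB hq0
  have hc1 : c ≠ 1 := by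
    intro h
    apply hne'
    rw [hc] at h
    exact mul_inv_eq_one.mp h
  obtain ⟨c', hc'⟩ : ∃ c', c' = b * c * b⁻¹ := ⟨_, rfl⟩
  have hc'mem : c' ∈ ⁅Q, B⁆ := by
    rw [hc']
    exact (Subgroup.mem_normalizer_iff.mp (Subgroup.normalizer_commutator_ge_right Q B hbB) c).mp
      hcmem
  have hc'1 : c' ≠ 1 := by
    intro h
    apply hc1
    have : c = b⁻¹ * c' * b := by rw [hc']; group
    rw [this, h]; group
  have hcQ : c ∈ Q := hCle hcmem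
  have hcc' : c' ≠ c := by
    intro h
    -- b fixes c; then b q1 b⁻¹ = q0
    apply hne'
    have hq1eq : q1 = c * q0 := by
      rw [hc]; group
    have h2 : b * q1 * b⁻¹ = q0 := by
      have h3 : b * q1 * b⁻¹ = (b * c * b⁻¹) * (b * q0 * b⁻¹) := by
        rw [hq1eq]; group
      rw [h3, ← hc', h, ← hq1, hq1eq, ← mul_assoc, hsq c hcQ, one_mul]
    have hb3' : b * b * b = 1 := by
      rw [← hb3, pow_succ, pow_two]
    calc q1 = b * q0 * b⁻¹ := hq1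
      _ = b * (b * q1 * b⁻¹) * b⁻¹ := by rw [h2]
      _ = b * (b * (b * q0 * b⁻¹) * b⁻¹) * b⁻¹ := by rw [hq1]
      _ = (b * b * b) * q0 * (b * b * b)⁻¹ := by group
      _ = q0 := by rw [hb3']; group
  -- card ≥ 3
  have hcard3 : 3 ≤ Nat.card ↥⁅Q, B⁆ := by
    classical
    haveI : Fintype ↥⁅Q, B⁆ := Fintype.ofFinite _
    rw [Nat.card_eq_fintype_card]
    let s : Finset ↥⁅Q, B⁆ := {⟨1, Subgroup.one_mem _⟩, ⟨c, hcmem⟩, ⟨c', hc'mem⟩}
    have hs : s.card = 3 := by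
      apply Finset.card_eq_three.mpr
      refine ⟨⟨1, Subgroup.one_mem _⟩, ⟨c, hcmem⟩, ⟨c', hc'mem⟩, ?_, ?_, ?_, rfl⟩
      · intro h; exact hc1 (congrArg Subtype.val h).symm
      · intro h; exact hc'1 (congrArg Subtype.val h).symm
      · intro h; exact hcc' (congrArg Subtype.val h).symm
    rw [← hs]
    exact Finset.card_le_univ s
  have hdvd : Nat.card ↥⁅Q, B⁆ ∣ 4 := by
    rw [← hQ4]; exact Subgroup.card_dvd_of_le hCle
  have hcard4 : Nat.card ↥⁅Q, B⁆ = 4 := by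
    have hle : Nat.card ↥⁅Q, B⁆ ≤ 4 := Nat.le_of_dvd (by norm_num) hdvd
    interval_cases h : Nat.card ↥⁅Q, B⁆ <;> simp_all
  have heq : ⁅Q, B⁆ = Q := by
    apply Subgroup.eq_of_le_of_card_ge hCle
    rw [hcard4, hQ4]
  rw [heq]

/-- `[Q, B] ≤ K`. -/
theorem comm_Q_B_le_K [Group.IsSolvable S] (B : Subgroup S)
    (Q : Subgroup S) (hQ : Cfsg.IsElementaryAbelian 2 Q)
    (hBQ : B ≤ Subgroup.normalizer (Q : Set S))
    (P : Sylow 3 S)
    (hBZ : (Subgroup.center ↥(P : Subgroup S)).map (P : Subgroup S).subtype = B) :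
    ⁅Q, B⁆ ≤ Cfsg.pPrimeCore 3 S := by
  haveI : Fact (Nat.Prime 3) := ⟨by norm_num⟩
  haveI hKn := K_normal (S := S)
  set K := Cfsg.pPrimeCore 3 S with hK
  set π := QuotientGroup.mk' K with hπ
  have hπs : Function.Surjective π := QuotientGroup.mk'_surjective K
  set O := Cfsg.pCore 3 (S ⧸ K) with hO
  have hOn : O.Normal := Cfsg.Agent.Lib.H1.pCore_normal 3 (S ⧸ K)
  have hOp : IsPGroup 3 O := Cfsg.Agent.Lib.H1.pCore_isPGroup 3 (S ⧸ K)
  have hcent : Subgroup.centralizer (O : Set (S ⧸ K)) ≤ O :=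
    Cfsg.Agent.Lib.H16.centralizer_pCore_le_of_isSolvable 3 inferInstance
      (Cfsg.Agent.Lib.H9.pPrimeCore_quotient_eq_bot 3)
  -- O ≤ image of P
  have hOP : O ≤ (P.mapSurjective hπs : Subgroup (S ⧸ K)) :=
    Cfsg.Agent.Lib.H1.pCore_le_sylow (P.mapSurjective hπs)
  -- every element of B commutes with P
  have hBcent : ∀ c ∈ B, ∀ x ∈ (P : Subgroup S), x * c = c * x := by
    intro c hc x hx
    rw [← hBZ] at hc
    obtain ⟨z, hz, rfl⟩ := Subgroup.mem_map.mp hc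
    have := (Subgroup.mem_center_iff.mp hz) ⟨x, hx⟩
    exact congrArg Subtype.val this
  have hBO : ∀ c ∈ B, π c ∈ O := by
    intro c hc
    apply hcent
    rw [Subgroup.mem_centralizer_iff]
    intro o ho
    have ho' : o ∈ (P.mapSurjective hπs : Subgroup (S ⧸ K)) := hOP ho
    rw [Sylow.coe_mapSurjective] at ho'
    obtain ⟨x, hx, rfl⟩ := Subgroup.mem_map.mp ho'
    have := hBcent c hc x hx
    rw [← map_mul, ← map_mul, this]
  rw [Subgroup.commutator_le]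
  intro q hq c hc
  have hcq : ⁅q, c⁆ ∈ Q := by
    have h1 : c * q⁻¹ * c⁻¹ ∈ Q :=
      (Subgroup.mem_normalizer_iff.mp (hBQ hc) q⁻¹).mp (Q.inv_mem hq)
    have h2 : ⁅q, c⁆ = q * (c * q⁻¹ * c⁻¹) := by
      rw [commutatorElement_def]; group
    rw [h2]; exact Q.mul_mem hq h1
  have hsq : ⁅q, c⁆ ^ 2 = 1 := hQ.2 _ hcq
  have hπO : π ⁅q, c⁆ ∈ O := by
    have h2 : π ⁅q, c⁆ = (π q * π c * (π q)⁻¹) * (π c)⁻¹ := by
      rw [commutatorElement_def]; simp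
    rw [h2]
    exact O.mul_mem (hOn.conj_mem _ (hBO c hc) _) (O.inv_mem (hBO c hc))
  -- order of π[q,c] divides 2 and is a power of 3
  have hπ1 : π ⁅q, c⁆ = 1 := by
    obtain ⟨k, hk⟩ := hOp ⟨π ⁅q, c⁆, hπO⟩
    have hk' : (π ⁅q, c⁆) ^ (3 ^ k) = 1 := by
      have := congrArg Subtype.val hk
      simpa using this
    have h2 : (π ⁅q, c⁆) ^ 2 = 1 := by
      rw [← map_pow, hsq, map_one]
    have hcop : Nat.Coprime (3 ^ k) 2 := by
      apply Nat.Coprime.pow_left; norm_num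
    have h3 := orderOf_dvd_of_pow_eq_one hk'
    have h4 := orderOf_dvd_of_pow_eq_one h2
    have h5 : orderOf (π ⁅q, c⁆) ∣ 1 := by
      have := Nat.dvd_gcd h3 h4
      rwa [Nat.Coprime.gcd_eq_one hcop] at this
    exact orderOf_eq_one_iff.mp (Nat.dvd_one.mp h5)
  exact (QuotientGroup.eq_one_iff _).mp hπ1

/-- (F1a) `Q ≤ K = O_{3'}(S)`. -/
theorem Q_le_K [Group.IsSolvable S] (B : Subgroup S) (hB : Nat.card ↥B = 3)
    (Q : Subgroup S) (hQ : Cfsg.IsElementaryAbelian 2 Q) (hQ4 : Nat.card ↥Q = 4)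
    (hBQ : B ≤ Subgroup.normalizer (Q : Set S))
    (hBQ' : ¬ B ≤ Subgroup.centralizer (Q : Set S))
    (P : Sylow 3 S)
    (hBZ : (Subgroup.center ↥(P : Subgroup S)).map (P : Subgroup S).subtype = B) :
    Q ≤ Cfsg.pPrimeCore 3 S :=
  (Q_le_comm B hB Q hQ hQ4 hBQ hBQ').trans (comm_Q_B_le_K B Q hQ hBQ P hBZ)

/-- (F1b) `Q ≤ R = [K, B]`. -/
theorem Q_le_R [Group.IsSolvable S] (B : Subgroup S) (hB : Nat.card ↥B = 3)
    (Q : Subgroup S) (hQ : Cfsg.IsElementaryAbelian 2 Q) (hQ4 : Nat.card ↥Q = 4)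
    (hBQ : B ≤ Subgroup.normalizer (Q : Set S))
    (hBQ' : ¬ B ≤ Subgroup.centralizer (Q : Set S))
    (P : Sylow 3 S)
    (hBZ : (Subgroup.center ↥(P : Subgroup S)).map (P : Subgroup S).subtype = B) :
    Q ≤ ⁅Cfsg.pPrimeCore 3 S, B⁆ :=
  (Q_le_comm B hB Q hQ hQ4 hBQ hBQ').trans
    (Subgroup.commutator_mono (Q_le_K B hB Q hQ hQ4 hBQ hBQ' P hBZ) le_rfl)

end Cfsg.Agent.Lib.H8.S4415F1
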