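import Mathlib
import Cfsg.Agent.Lib.H26.TwoMinDefs
import Cfsg.Agent.Lib.H1.CoprimeAction

set_option autoImplicit false
open scoped commutatorElement

/-!
# S4409 (helper26 architect), piece GEN0
-/

namespace Cfsg.Agent.Lib.H8.TwoMin

open Cfsg.Agent.Lib.H26.TwoMin

variable {G : Type*} [Group G]

/-- **GEN0**.  `[Y, A] = Y` for a minimal coprime action. -/
theorem commutator_eq_of_min [Finite G] {Y A : Subgroup G} (hAN : A ≤ Subgroup.normalizer (Y : Set G))
    (hcop : (Nat.card ↥A).Coprime (Nat.card ↥Y)) (hsol : Group.IsSolvable ↥A ∨ Group.IsSolvable ↥Y)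
    (hnc : ¬ A ≤ Subgroup.centralizer (Y : Set G))
    (hmin : ∀ U : Subgroup G, U < Y → A ≤ Subgroup.normalizer (U : Set G) → A ≤ Subgroup.centralizer (U : Set G)) :
    ⁅Y, A⁆ = Y := by
  have h : Cfsg.Agent.Lib.H1.CoprimeAction A Y := ⟨hAN, hcop, hsol⟩
  have hle : ⁅Y, A⁆ ≤ Y := h.commutator_le
  by_contra hne
  have hlt : ⁅Y, A⁆ < Y := lt_of_le_of_ne hle hne
  have hAW : A ≤ Subgroup.normalizer ((⁅Y, A⁆ : Subgroup G) : Set G) :=
    Subgroup.normalizer_commutator_ge_right Y A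
  have hc := hmin _ hlt hAW
  have h1 : ⁅⁅Y, A⁆, A⁆ = ⊥ := by
    rw [Subgroup.commutator_comm, Subgroup.commutator_eq_bot_iff_le_centralizer]
    exact hc
  rw [Cfsg.Agent.Lib.H1.coprime_commutator_commutator h] at h1
  apply hnc
  rw [Subgroup.commutator_comm, Subgroup.commutator_eq_bot_iff_le_centralizer] at h1
  exact h1

end Cfsg.Agent.Lib.H8.TwoMin
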