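import Mathlib
import Cfsg.Agent.Lib.H26.TwoMinDefs
import Cfsg.Agent.Lib.H22.OrderPSq

set_option autoImplicit false
open scoped commutatorElement

/-!
# S4409 (helper26 architect), piece L1

A noncyclic abelian 2-group of order `≥ 8` contains a noncyclic subgroup of order 8
(same route as `Cfsg.Agent.Lib.H23.TwoMin.afree_false`: a noncyclic subgroup of order 4 from
`Lib/H22/OrderPSq`, enlarged to order 8 by Sylow).
-/

namespace Cfsg.Agent.Lib.H8.TwoMin

open Cfsg.Agent.Lib.H26.TwoMin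

variable {G : Type*} [Group G]

/-- **L1**.  A noncyclic abelian 2-group of order `≥ 8` contains a noncyclic subgroup of order 8. -/
theorem exists_noncyclic_eight [Finite G] (B : Subgroup G) (h2 : IsPGroup 2 ↥B)
    (hc : ∀ a ∈ B, ∀ b ∈ B, a * b = b * a) (hn : ¬ IsCyclic ↥B) (h8 : 8 ≤ Nat.card ↥B) :
    ∃ A : Subgroup G, A ≤ B ∧ ¬ IsCyclic ↥A ∧ Nat.card ↥A = 8 := by
  have : Fact (Nat.Prime 2) := ⟨Nat.prime_two⟩
  have hcB : ∀ a b : ↥B, a * b = b * a := fun a b => Subtype.ext (hc a a.2 b b.2)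
  have hnot : ¬ Cfsg.Agent.Lib.H22.AtMostOneOrderP 2 ↥B := fun huniq =>
    hn (Cfsg.Agent.Lib.H22.isCyclic_of_comm_of_atMostOne h2 huniq hcB)
  obtain ⟨E, hE4, hEn⟩ := Cfsg.Agent.Lib.H22.exists_noncyclic_sq_of_not_atMostOne h2 hnot
  obtain ⟨k, hk⟩ := h2.exists_card_eq
  have hk3 : 3 ≤ k := by
    by_contra hlt
    push Not at hlt
    have : 2 ^ k ≤ 2 ^ 2 := Nat.pow_le_pow_right (by norm_num) (by omega)
    omega
  have hdvd : 2 ^ 3 ∣ Nat.card ↥B := by
    rw [hk]; exact pow_dvd_pow 2 hk3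
  obtain ⟨K, hK8, hEK⟩ := Sylow.exists_subgroup_card_pow_prime_le 2 hdvd E hE4 (by norm_num)
  have hinj : Function.Injective B.subtype := B.subtype_injective
  refine ⟨K.map B.subtype, Subgroup.map_subtype_le K, ?_, ?_⟩
  · intro hAcyc
    have hKcyc : IsCyclic ↥K :=
      (K.equivMapOfInjective B.subtype hinj).isCyclic.mpr hAcyc
    have hEcyc : IsCyclic ↥(E.subgroupOf K) := inferInstance
    exact hEn ((Subgroup.subgroupOfEquivOfLe hEK).isCyclic.mp hEcyc)
  · rw [Subgroup.card_map_of_injective hinj, hK8]; norm_num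

end Cfsg.Agent.Lib.H8.TwoMin
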