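import Mathlib
import Cfsg.Agent.Lib.H26.TwoMinDefs
import Cfsg.Agent.Lib.H8.PGroup

set_option autoImplicit false
open scoped commutatorElement

/-!
# S4409 (helper26 architect), piece N2 (with an inline copy of K2V)
-/

namespace Cfsg.Agent.Lib.H8.TwoMin

open Cfsg.Agent.Lib.H26.TwoMin

variable {G : Type*} [Group G]

/-- conjugation by `g` fixing `f`: powers -/
theorem n2_conj_pow_fixed {g u f : G} (hf : g * f * g⁻¹ = f) (hu : g * u * g⁻¹ = u * f) (k : ℕ) :
    g ^ k * u * (g ^ k)⁻¹ = u * f ^ k := by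
  induction k with
  | zero => simp
  | succ k ih =>
    have h1 : g ^ (k + 1) * u * (g ^ (k + 1))⁻¹ = g * (g ^ k * u * (g ^ k)⁻¹) * g⁻¹ := by
      rw [pow_succ']; group
    have hfk : g * f ^ k * g⁻¹ = f ^ k := by rw [← conj_pow, hf]
    rw [h1, ih]
    have h2 : g * (u * f ^ k) * g⁻¹ = (g * u * g⁻¹) * (g * f ^ k * g⁻¹) := by group
    rw [h2, hu, hfk, pow_succ', mul_assoc]

/-- an odd-order element normalizing a four-group and fixing a nonidentity element centralizes it (**K2V**) -/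
theorem n2_v4_fixed {Y : Subgroup G} {g : G} (hV : V4Type Y) (hgo : Odd (orderOf g))
    (hgN : g ∈ Subgroup.normalizer (Y : Set G)) {y : G} (hy : y ∈ Y) (hy1 : y ≠ 1)
    (hgy : g * y * g⁻¹ = y) : ∀ u ∈ Y, g * u * g⁻¹ = u := by
  obtain ⟨hcard, hexp⟩ := hV
  have hoy : orderOf y = 2 := by
    haveI : Fact (Nat.Prime 2) := ⟨Nat.prime_two⟩
    exact orderOf_eq_prime (hexp y hy) hy1
  have hzY : Subgroup.zpowers y ≤ Y := by
    rw [Subgroup.zpowers_le]; exact hy
  -- index two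
  have hidx : ((Subgroup.zpowers y).subgroupOf Y).index = 2 := by
    have h1 := Subgroup.card_mul_index ((Subgroup.zpowers y).subgroupOf Y)
    rw [Nat.card_congr (Subgroup.subgroupOfEquivOfLe hzY).toEquiv, Nat.card_zpowers, hoy, hcard] at h1
    omega
  -- `g` fixes every element of `zpowers y`
  have hfixz : ∀ w ∈ Subgroup.zpowers y, g * w * g⁻¹ = w := by
    intro w hw
    obtain ⟨k, rfl⟩ := Subgroup.mem_zpowers_iff.mp hw
    rw [← conj_zpow, hgy]
  have hfixz' : ∀ w ∈ Subgroup.zpowers y, g⁻¹ * w * g = w := by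
    intro w hw
    have h1 := hfixz w hw
    calc g⁻¹ * w * g = g⁻¹ * (g * w * g⁻¹) * g := by rw [h1]
      _ = w := by group
  intro u hu
  have hv : g * u * g⁻¹ ∈ Y := (Subgroup.mem_normalizer_iff.mp hgN u).mp hu
  -- `f = u⁻¹ (g u g⁻¹) ∈ zpowers y`
  have hf : u⁻¹ * (g * u * g⁻¹) ∈ Subgroup.zpowers y := by
    have h1 := Subgroup.mul_mem_iff_of_index_two hidx (a := (⟨u, hu⟩ : ↥Y)⁻¹) (b := ⟨g * u * g⁻¹, hv⟩)
    have h2 : ((⟨u, hu⟩ : ↥Y)⁻¹ ∈ (Subgroup.zpowers y).subgroupOf Y ↔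
        (⟨g * u * g⁻¹, hv⟩ : ↥Y) ∈ (Subgroup.zpowers y).subgroupOf Y) := by
      rw [Subgroup.inv_mem_iff, Subgroup.mem_subgroupOf, Subgroup.mem_subgroupOf]
      constructor
      · intro h
        show g * u * g⁻¹ ∈ Subgroup.zpowers y
        rw [hfixz u h]; exact h
      · intro h
        show u ∈ Subgroup.zpowers y
        have h3 := hfixz' _ h
        have h4 : g⁻¹ * (g * u * g⁻¹) * g = u := by group
        have h5 : g⁻¹ * (g * u * g⁻¹) * g = g * u * g⁻¹ := h3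
        rw [h4] at h5
        have h6 : g * u * g⁻¹ ∈ Subgroup.zpowers y := h
        rw [← h5] at h6
        exact h6
    have h3 := h1.mpr h2
    rw [Subgroup.mem_subgroupOf] at h3
    exact h3
  have hfY : u⁻¹ * (g * u * g⁻¹) ∈ Y := Y.mul_mem (Y.inv_mem hu) hv
  have hf2 : (u⁻¹ * (g * u * g⁻¹)) ^ 2 = 1 := hexp _ hfY
  have hgf : g * (u⁻¹ * (g * u * g⁻¹)) * g⁻¹ = u⁻¹ * (g * u * g⁻¹) := hfixz _ hf
  have huf : g * u * g⁻¹ = u * (u⁻¹ * (g * u * g⁻¹)) := by group
  have hpow := n2_conj_pow_fixed hgf huf (orderOf g)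
  rw [pow_orderOf_eq_one] at hpow
  have h5 : (u⁻¹ * (g * u * g⁻¹)) ^ orderOf g = 1 := by
    have h6 : u = u * (u⁻¹ * (g * u * g⁻¹)) ^ orderOf g := by
      simpa using hpow
    exact (mul_eq_left.mp h6.symm)
  -- odd power and square trivial
  obtain ⟨m, hm⟩ := hgo
  have h7 : u⁻¹ * (g * u * g⁻¹) = 1 := by
    have h8 : (u⁻¹ * (g * u * g⁻¹)) ^ (2 * m + 1) = 1 := by rw [← hm]; exact h5
    rw [pow_succ, pow_mul, hf2, one_pow, one_mul] at h8
    exact h8
  calc g * u * g⁻¹ = u * (u⁻¹ * (g * u * g⁻¹)) := huf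
    _ = u := by rw [h7, mul_one]

/-- **N2**. -/
theorem v4_central [Finite G] {X Y : Subgroup G} {g : G} (h2 : IsPGroup 2 ↥X) (hYX : Y ≤ X) (hV : V4Type Y)
    (hXN : X ≤ Subgroup.normalizer (Y : Set G)) (hgo : Odd (orderOf g))
    (hgX : g ∈ Subgroup.normalizer (X : Set G)) (hgY : g ∈ Subgroup.normalizer (Y : Set G))
    (hgC : g ∉ Subgroup.centralizer (Y : Set G)) : Y ≤ Subgroup.centralizer (X : Set G) := by
  haveI : Fact (Nat.Prime 2) := ⟨Nat.prime_two⟩
  -- a central element of `X` inside `Y`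
  haveI : (Y.subgroupOf X).Normal := Subgroup.normal_subgroupOf_of_le_normalizer hXN
  have hYne : Y.subgroupOf X ≠ ⊥ := by
    intro hbot
    have h1 : Nat.card ↥(Y.subgroupOf X) = 1 := by rw [hbot]; exact Subgroup.card_bot
    rw [Nat.card_congr (Subgroup.subgroupOfEquivOfLe hYX).toEquiv, hV.1] at h1
    omega
  obtain ⟨z, hzY, hzc, hz1⟩ := Cfsg.Agent.Lib.H8.exists_central_mem_of_normal h2 (Y.subgroupOf X) hYne
  have hzY' : (z : G) ∈ Y := Subgroup.mem_subgroupOf.mp hzY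
  have hz1' : (z : G) ≠ 1 := fun h => hz1 (Subtype.ext h)
  have hzC : (z : G) ∈ Subgroup.centralizer (X : Set G) := by
    rw [Subgroup.mem_centralizer_iff]
    intro x hx
    rw [Subgroup.mem_center_iff] at hzc
    exact congrArg Subtype.val (hzc ⟨x, hx⟩)
  -- `W = Y ⊓ C(X)` is `g`-invariant
  have hgW : ∀ w ∈ Y ⊓ Subgroup.centralizer (X : Set G), g * w * g⁻¹ ∈ Y ⊓ Subgroup.centralizer (X : Set G) := by
    intro w hw
    refine Subgroup.mem_inf.mpr ⟨(Subgroup.mem_normalizer_iff.mp hgY w).mp hw.1, ?_⟩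
    rw [Subgroup.mem_centralizer_iff]
    intro x hx
    have hx' : g⁻¹ * x * g ∈ X := by
      have := (Subgroup.mem_normalizer_iff.mp (Subgroup.inv_mem _ hgX) x).mp hx
      simpa using this
    have hc := (Subgroup.mem_centralizer_iff.mp hw.2) _ hx'
    calc x * (g * w * g⁻¹) = g * ((g⁻¹ * x * g) * w) * g⁻¹ := by group
      _ = g * (w * (g⁻¹ * x * g)) * g⁻¹ := by rw [hc]
      _ = g * w * g⁻¹ * x := by group
  -- by contradiction: some `u ∈ Y` not in `C(X)`
  by_contra hnot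
  have hWlt : Y ⊓ Subgroup.centralizer (X : Set G) < Y := by
    refine lt_of_le_of_ne inf_le_left ?_
    intro heq
    apply hnot
    rw [← heq]; exact inf_le_right
  -- the card of `W` is 2
  have hWcard : Nat.card ↥(Y ⊓ Subgroup.centralizer (X : Set G)) = 2 := by
    have hdvd : Nat.card ↥(Y ⊓ Subgroup.centralizer (X : Set G)) ∣ 4 := by
      rw [← hV.1]; exact Subgroup.card_dvd_of_le inf_le_left
    haveI : Finite ↥Y := Nat.finite_of_card_ne_zero (by rw [hV.1]; norm_num)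
    have hlt : Nat.card ↥(Y ⊓ Subgroup.centralizer (X : Set G)) < 4 := by
      rw [← hV.1]
      by_contra hge
      push Not at hge
      exact hWlt.ne (Subgroup.eq_of_le_of_card_ge inf_le_left hge)
    have hgt : 1 < Nat.card ↥(Y ⊓ Subgroup.centralizer (X : Set G)) := by
      rw [Finite.one_lt_card_iff_nontrivial]
      exact ⟨⟨⟨(z : G), ⟨hzY', hzC⟩⟩, 1, fun h => hz1' (congrArg Subtype.val h)⟩⟩
    have h4 : Nat.card ↥(Y ⊓ Subgroup.centralizer (X : Set G)) ∈ Nat.divisors 4 :=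
      Nat.mem_divisors.mpr ⟨hdvd, by norm_num⟩
    have hdiv : Nat.divisors 4 = {1, 2, 4} := by decide
    rw [hdiv] at h4
    simp only [Finset.mem_insert, Finset.mem_singleton] at h4
    omega
  -- `g` fixes `z`
  have hgz : g * (z : G) * g⁻¹ = (z : G) := by
    have hmem := hgW (z : G) ⟨hzY', hzC⟩
    have hne : g * (z : G) * g⁻¹ ≠ 1 := by
      intro h
      apply hz1'
      have : (z : G) = g⁻¹ * (g * (z : G) * g⁻¹) * g := by group
      rw [this, h]; group
    -- a group of order two: two nonidentity elements are equal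
    obtain ⟨w0, -, hw0⟩ :=
      (Nat.card_eq_two_iff' (1 : ↥(Y ⊓ Subgroup.centralizer (X : Set G)))).mp hWcard
    have e1 := hw0 ⟨(z : G), Subgroup.mem_inf.mpr ⟨hzY', hzC⟩⟩
      (fun h => hz1' (congrArg Subtype.val h))
    have e2 := hw0 ⟨g * (z : G) * g⁻¹, hmem⟩ (fun h => hne (congrArg Subtype.val h))
    exact congrArg Subtype.val (e2.trans e1.symm)
  apply hgC
  rw [Subgroup.mem_centralizer_iff]
  intro u hu
  have h1 := n2_v4_fixed hV hgo hgY hzY' hz1' hgz u hu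
  calc u * g = (g * u * g⁻¹) * g := by rw [h1]
    _ = g * u := by group

end Cfsg.Agent.Lib.H8.TwoMin
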