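import Mathlib
import Cfsg.Agent.Lib.H26.TwoMinDefs
import Cfsg.Agent.Lib.H8.TwoMinL1
import Cfsg.Agent.Lib.H8.TwoMinN2

set_option autoImplicit false
open scoped commutatorElement

/-!
# S4409 (helper26 architect), piece P3: minimal abelian case
-/

namespace Cfsg.Agent.Lib.H8.TwoMin

open Cfsg.Agent.Lib.H26.TwoMin

variable {G : Type*} [Group G]

/-- an element with `c ^ 2 = 1` and `c ^ n = 1`, `n` odd, is trivial -/
theorem p3_eq_one_of_sq_of_odd {c : G} {n : ℕ} (hn : Odd n) (h2 : c ^ 2 = 1) (hcn : c ^ n = 1) :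
    c = 1 := by
  obtain ⟨m, rfl⟩ := hn
  rw [pow_succ, pow_mul, h2, one_pow, one_mul] at hcn
  exact hcn

/-- **P3**.  Minimal abelian case. -/
theorem min_abelian [Finite G] {Y : Subgroup G} {g : G} (h2 : IsPGroup 2 ↥Y) (hA : AFree Y)
    (hgo : Odd (orderOf g)) (hm : MinActs Y g) (hab : ∀ a ∈ Y, ∀ b ∈ Y, a * b = b * a) : V4Type Y := by
  obtain ⟨hgN, hgC, hmin⟩ := hm
  have : Fact (Nat.Prime 2) := ⟨Nat.prime_two⟩
  have hconj : ∀ y ∈ Y, g * y * g⁻¹ ∈ Y := fun y hy =>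
    (Subgroup.mem_normalizer_iff.mp hgN y).mp hy
  have hconj' : ∀ y ∈ Y, g⁻¹ * y * g ∈ Y := fun y hy => by
    refine (Subgroup.mem_normalizer_iff.mp hgN (g⁻¹ * y * g)).mpr ?_
    have : g * (g⁻¹ * y * g) * g⁻¹ = y := by group
    rw [this]; exact hy
  -- an element of `Y` moved by `g`
  have hmoved : ∃ h ∈ Y, h * g ≠ g * h := by
    by_contra hcon
    push Not at hcon
    exact hgC (Subgroup.mem_centralizer_iff.mpr hcon)
  obtain ⟨h0, hh0Y, hh0⟩ := hmoved
  have hh01 : h0 ≠ 1 := by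
    rintro rfl
    simp at hh0
  have hYnt : Nontrivial ↥Y := ⟨⟨⟨h0, hh0Y⟩, 1, fun h => hh01 (congrArg Subtype.val h)⟩⟩
  -- an involution of `Y`
  obtain ⟨k, hk0, hk⟩ := (h2.nontrivial_iff_card).mp hYnt
  have h2dvd : 2 ∣ Nat.card ↥Y := by
    rw [hk]; exact dvd_pow_self 2 (by omega)
  obtain ⟨t, ht⟩ := exists_prime_orderOf_dvd_card' (G := ↥Y) 2 h2dvd
  have ht1 : t ≠ 1 := by
    rintro rfl
    simp at ht
  have ht2 : t ^ 2 = 1 := by rw [← ht]; exact pow_orderOf_eq_one t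
  -- the subgroup of squares
  let Sq : Subgroup G :=
    { carrier := {x | ∃ y ∈ Y, y ^ 2 = x}
      one_mem' := ⟨1, Y.one_mem, one_pow 2⟩
      mul_mem' := by
        rintro _ _ ⟨a, ha, rfl⟩ ⟨b, hb, rfl⟩
        exact ⟨a * b, Y.mul_mem ha hb, (Commute.mul_pow (hab a ha b hb) 2)⟩
      inv_mem' := by
        rintro _ ⟨a, ha, rfl⟩
        exact ⟨a⁻¹, Y.inv_mem ha, inv_pow a 2⟩ }
  have hSqmem : ∀ x, x ∈ Sq ↔ ∃ y ∈ Y, y ^ 2 = x := fun x => Iff.rfl
  have hSqY : Sq ≤ Y := by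
    rintro _ ⟨a, ha, rfl⟩
    exact Y.pow_mem ha 2
  have hSqne : Sq ≠ Y := by
    intro hEq
    -- squaring is surjective on `Y`, hence injective
    have hsurj : Function.Surjective (fun y : ↥Y => y ^ 2) := by
      intro y
      have hy : (y : G) ∈ Sq := by rw [hEq]; exact y.2
      obtain ⟨a, ha, hay⟩ := hy
      exact ⟨⟨a, ha⟩, Subtype.ext hay⟩
    have hinj := Finite.injective_iff_surjective.mpr hsurj
    apply ht1
    apply hinj
    change t ^ 2 = 1 ^ 2
    rw [ht2, one_pow]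
  have hSqlt : Sq < Y := lt_of_le_of_ne hSqY hSqne
  have hSqN : g ∈ Subgroup.normalizer (Sq : Set G) := by
    rw [Subgroup.mem_normalizer_iff]
    intro x
    constructor
    · rintro ⟨a, ha, rfl⟩
      exact ⟨g * a * g⁻¹, hconj a ha, by rw [conj_pow]⟩
    · rintro ⟨a, ha, hax⟩
      refine ⟨g⁻¹ * a * g, hconj' a ha, ?_⟩
      have h1 : (g⁻¹ * a * g) ^ 2 = g⁻¹ * a ^ 2 * g := by
        have := conj_pow (a := g⁻¹) (b := a) (i := 2)
        rw [inv_inv] at this
        exact this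
      rw [h1, hax]; group
  have hSqC := hmin Sq hSqlt hSqN
  have hsqfix : ∀ y ∈ Y, g * y ^ 2 * g⁻¹ = y ^ 2 := by
    intro y hy
    have := Subgroup.mem_centralizer_iff.mp hSqC (y ^ 2) ⟨y, hy, rfl⟩
    rw [← this]; group
  -- the defect `c = y⁻¹ (g y g⁻¹)` is an involution
  have hc2 : ∀ y ∈ Y, (y⁻¹ * (g * y * g⁻¹)) ^ 2 = 1 := by
    intro y hy
    have hcomm : Commute y⁻¹ (g * y * g⁻¹) := hab _ (Y.inv_mem hy) _ (hconj y hy)
    rw [hcomm.mul_pow, conj_pow, hsqfix y hy, inv_pow, inv_mul_cancel]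
  -- exponent two
  have hexp : ∀ y ∈ Y, y ^ 2 = 1 := by
    by_contra hne
    push Not at hne
    obtain ⟨y1, hy1Y, hy1⟩ := hne
    let Om : Subgroup G :=
      { carrier := {x | x ∈ Y ∧ x ^ 2 = 1}
        one_mem' := ⟨Y.one_mem, one_pow 2⟩
        mul_mem' := by
          rintro a b ⟨ha, ha2⟩ ⟨hb, hb2⟩
          exact ⟨Y.mul_mem ha hb, by rw [Commute.mul_pow (hab a ha b hb) 2, ha2, hb2, one_mul]⟩
        inv_mem' := by
          rintro a ⟨ha, ha2⟩
          exact ⟨Y.inv_mem ha, by rw [inv_pow, ha2, inv_one]⟩ }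
    have hOmY : Om ≤ Y := fun x hx => hx.1
    have hOmlt : Om < Y := by
      refine lt_of_le_of_ne hOmY ?_
      intro hEq
      have : y1 ∈ Om := by rw [hEq]; exact hy1Y
      exact hy1 this.2
    have hOmN : g ∈ Subgroup.normalizer (Om : Set G) := by
      rw [Subgroup.mem_normalizer_iff]
      intro x
      constructor
      · rintro ⟨hx, hx2⟩
        exact ⟨hconj x hx, by rw [conj_pow, hx2]; group⟩
      · rintro ⟨hx, hx2⟩
        have hxe : x = g⁻¹ * (g * x * g⁻¹) * g := by group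
        refine ⟨by rw [hxe]; exact hconj' _ hx, ?_⟩
        rw [conj_pow] at hx2
        have : x ^ 2 = g⁻¹ * (g * x ^ 2 * g⁻¹) * g := by group
        rw [this, hx2]; group
    have hOmC := hmin Om hOmlt hOmN
    apply hgC
    rw [Subgroup.mem_centralizer_iff]
    intro y hy
    have hcOm : y⁻¹ * (g * y * g⁻¹) ∈ Om :=
      ⟨Y.mul_mem (Y.inv_mem hy) (hconj y hy), hc2 y hy⟩
    have hcfix : g * (y⁻¹ * (g * y * g⁻¹)) * g⁻¹ = y⁻¹ * (g * y * g⁻¹) := by
      have := Subgroup.mem_centralizer_iff.mp hOmC _ hcOm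
      rw [← this]; group
    have hu : g * y * g⁻¹ = y * (y⁻¹ * (g * y * g⁻¹)) := by group
    have hpow := n2_conj_pow_fixed hcfix hu (orderOf g)
    rw [pow_orderOf_eq_one, one_mul, inv_one, mul_one] at hpow
    have hcn : (y⁻¹ * (g * y * g⁻¹)) ^ orderOf g = 1 := by
      have : y * (y⁻¹ * (g * y * g⁻¹)) ^ orderOf g = y * 1 := by rw [mul_one]; exact hpow.symm
      exact mul_left_cancel this
    have hc1 := p3_eq_one_of_sq_of_odd hgo (hc2 y hy) hcn
    have : g * y * g⁻¹ = y := by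
      have h3 : g * y * g⁻¹ = y * (y⁻¹ * (g * y * g⁻¹)) := hu
      rw [hc1, mul_one] at h3
      exact h3
    calc y * g = (g * y * g⁻¹) * g := by rw [this]
      _ = g * y := by group
  -- now the order
  refine ⟨?_, hexp⟩
  -- `k ≤ 2`
  have hk2 : k ≤ 2 := by
    by_contra hlt
    push Not at hlt
    have h8 : 8 ≤ Nat.card ↥Y := by
      rw [hk]
      calc 8 = 2 ^ 3 := by norm_num
        _ ≤ 2 ^ k := Nat.pow_le_pow_right (by norm_num) (by omega)
    have hncyc : ¬ IsCyclic ↥Y := by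
      intro hcyc
      have hexpc := IsCyclic.exponent_eq_card (α := ↥Y)
      have hdvd : Monoid.exponent ↥Y ∣ 2 :=
        Monoid.exponent_dvd_of_forall_pow_eq_one (fun y => Subtype.ext (hexp y y.2))
      rw [hexpc] at hdvd
      have := Nat.le_of_dvd (by norm_num) hdvd
      omega
    obtain ⟨A, hAY, hAn, hA8⟩ := exists_noncyclic_eight Y h2 hab hncyc h8
    exact hAn (hA A hAY (fun a ha b hb => hab a (hAY ha) b (hAY hb)) hA8)
  -- `k = 2`
  have hkcases : k = 1 ∨ k = 2 := by omega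
  rcases hkcases with rfl | rfl
  · exfalso
    rw [pow_one] at hk
    obtain ⟨w0, -, hw0⟩ := (Nat.card_eq_two_iff' (1 : ↥Y)).mp hk
    apply hgC
    rw [Subgroup.mem_centralizer_iff]
    intro y hy
    by_cases hy1 : y = 1
    · rw [hy1]; simp
    · have hne : g * y * g⁻¹ ≠ 1 := by
        intro h
        apply hy1
        have : y = g⁻¹ * (g * y * g⁻¹) * g := by group
        rw [this, h]; group
      have e1 := hw0 ⟨y, hy⟩ (fun h => hy1 (congrArg Subtype.val h))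
      have e2 := hw0 ⟨g * y * g⁻¹, hconj y hy⟩ (fun h => hne (congrArg Subtype.val h))
      have e3 : g * y * g⁻¹ = y := congrArg Subtype.val (e2.trans e1.symm)
      calc y * g = (g * y * g⁻¹) * g := by rw [e3]
        _ = g * y := by group
  · rw [hk]; norm_num

end Cfsg.Agent.Lib.H8.TwoMin
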