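import Mathlib
import Cfsg.Prelude.Def_KGroupFacts

set_option autoImplicit false

/-! S2045 piece QUOT (helper27 architect): if every finite stem extension of `G` whose kernel has exponent
dividing `N` is trivial, then so is every finite stem extension whose kernel has exponent dividing `N ^ k`. -/

namespace Cfsg.Agent.Lib.H8.StemExp

/-- the subgroup of `N`-th powers of a central subgroup -/
def powSub {Γ : Type} [Group Γ] (K : Subgroup Γ) (hK : K ≤ Subgroup.center Γ) (N : ℕ) : Subgroup Γ where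
  carrier := {b | ∃ z ∈ K, z ^ N = b}
  one_mem' := ⟨1, K.one_mem, one_pow N⟩
  mul_mem' := by
    rintro a b ⟨z₁, hz₁, rfl⟩ ⟨z₂, hz₂, rfl⟩
    refine ⟨z₁ * z₂, K.mul_mem hz₁ hz₂, ?_⟩
    have hc : Commute z₁ z₂ := (Subgroup.mem_center_iff.mp (hK hz₁) z₂).symm
    exact hc.mul_pow N
  inv_mem' := by
    rintro a ⟨z, hz, rfl⟩
    exact ⟨z⁻¹, K.inv_mem hz, inv_pow z N⟩

theorem mem_powSub {Γ : Type} [Group Γ] (K : Subgroup Γ) (hK : K ≤ Subgroup.center Γ) (N : ℕ) (b : Γ) :
    b ∈ powSub K hK N ↔ ∃ z ∈ K, z ^ N = b := Iff.rfl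

theorem powSub_le {Γ : Type} [Group Γ] (K : Subgroup Γ) (hK : K ≤ Subgroup.center Γ) (N : ℕ) :
    powSub K hK N ≤ K := by
  rintro b ⟨z, hz, rfl⟩
  exact K.pow_mem hz N

theorem powSub_normal {Γ : Type} [Group Γ] (K : Subgroup Γ) (hK : K ≤ Subgroup.center Γ) (N : ℕ) :
    (powSub K hK N).Normal := by
  constructor
  intro b hb g
  have hbc : b ∈ Subgroup.center Γ := hK (powSub_le K hK N hb)
  have := Subgroup.mem_center_iff.mp hbc g
  rw [this, mul_inv_cancel_right]
  exact hb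

theorem ker_eq_bot_of_exp {G : Type} [Group G] (N k : ℕ)
    (h : ∀ (Γ : Type) [Group Γ] [Finite Γ] (σ : Γ →* G), Cfsg.IsStemExtension σ →
      (∀ z ∈ σ.ker, z ^ N = 1) → σ.ker = ⊥)
    (Γ : Type) [Group Γ] [Finite Γ] (σ : Γ →* G) (hσ : Cfsg.IsStemExtension σ)
    (hk : ∀ z ∈ σ.ker, z ^ (N ^ k) = 1) : σ.ker = ⊥ := by
  induction k with
  | zero =>
    rw [eq_bot_iff]
    intro z hz
    have := hk z hz
    rw [pow_zero, pow_one] at this
    rw [Subgroup.mem_bot]
    exact this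
  | succ k ih =>
    apply ih
    obtain ⟨hsurj, hcen, hcomm⟩ := hσ
    let B : Subgroup Γ := powSub σ.ker hcen N
    haveI hBn : B.Normal := powSub_normal σ.ker hcen N
    have hBker : B ≤ σ.ker := powSub_le σ.ker hcen N
    let τ : Γ ⧸ B →* G := QuotientGroup.lift B σ (fun b hb => MonoidHom.mem_ker.mp (hBker hb))
    have hτmk : ∀ g : Γ, τ (QuotientGroup.mk' B g) = σ g := fun g => rfl
    have hkerτ : ∀ q ∈ τ.ker, ∃ g ∈ σ.ker, QuotientGroup.mk' B g = q := by
      intro q hq
      obtain ⟨g, rfl⟩ := QuotientGroup.mk'_surjective B q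
      refine ⟨g, ?_, rfl⟩
      rw [MonoidHom.mem_ker] at hq ⊢
      rw [← hτmk g]
      exact hq
    have hτstem : Cfsg.IsStemExtension τ := by
      refine ⟨?_, ?_, ?_⟩
      · intro y
        obtain ⟨g, rfl⟩ := hsurj y
        exact ⟨QuotientGroup.mk' B g, rfl⟩
      · intro q hq
        obtain ⟨g, hg, rfl⟩ := hkerτ q hq
        rw [Subgroup.mem_center_iff]
        intro r
        obtain ⟨r', rfl⟩ := QuotientGroup.mk'_surjective B r
        rw [← map_mul, ← map_mul, Subgroup.mem_center_iff.mp (hcen hg) r']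
      · intro q hq
        obtain ⟨g, hg, rfl⟩ := hkerτ q hq
        have h1 : QuotientGroup.mk' B g ∈ (commutator Γ).map (QuotientGroup.mk' B) :=
          Subgroup.mem_map_of_mem _ (hcomm hg)
        rw [commutator_def, Subgroup.map_commutator] at h1
        rw [commutator_def]
        exact Subgroup.commutator_mono le_top le_top h1
    have hτexp : ∀ q ∈ τ.ker, q ^ N = 1 := by
      intro q hq
      obtain ⟨g, hg, rfl⟩ := hkerτ q hq
      rw [← map_pow, QuotientGroup.mk'_apply, QuotientGroup.eq_one_iff]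
      exact ⟨g, hg, rfl⟩
    have hbot := h (Γ ⧸ B) τ hτstem hτexp
    intro z hz
    have hzq : QuotientGroup.mk' B z ∈ τ.ker := by
      rw [MonoidHom.mem_ker, hτmk]
      exact MonoidHom.mem_ker.mp hz
    rw [hbot, Subgroup.mem_bot, QuotientGroup.mk'_apply, QuotientGroup.eq_one_iff] at hzq
    obtain ⟨y, hy, rfl⟩ := hzq
    rw [← pow_mul, ← pow_succ']
    exact hk y hy

end Cfsg.Agent.Lib.H8.StemExp
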