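import Cfsg.Agent.Lib.H28.Fi22M.Base
import Cfsg.Agent.Lib.H17.M22M.AbsTools
import Cfsg.Agent.Lib.H28.StemTools

set_option autoImplicit false
set_option maxRecDepth 100000

/-!
# S2053 (helper28 architect), piece UC: `core_of_cert`

The certificate applied to a stem extension of `Fi₂₂` in which `Ω₇(3)` lifts isomorphically.
-/

namespace Cfsg.Agent.Lib.H8.Fi22M

open Cfsg.Agent.Lib.H28.Fi22M
open Cfsg.Agent.Lib.H14.SuzM (wv wv_nil wv_cons wv_append map_wv)
open scoped commutatorElement

/-- shape of the Coxeter relators -/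
theorem uc_coxL_cases : ∀ w ∈ coxL, (∀ x ∈ w, 1 ≤ x ∧ x < 9) ∨ w = [0, 1, 0, 1, 0, 1] ∨
    ∃ j < 9, 2 ≤ j ∧ w = [0, j, 0, j] := by decide

/-- the braid relation between the letters `0` and `1` in `Fi₂₂` -/
theorem uc_fg_braid : fg 1 * fg 0 * fg 1 = fg 0 * fg 1 * fg 0 := by
  have h : wv fg [0, 1, 0, 1, 0, 1] = 1 := wv_fg_relW _ (coxL_sub _ (by decide))
  simp only [wv_cons, wv_nil, mul_one] at h
  have h0 := fg_mul_self 0
  have h1 := fg_mul_self 1
  have e1 : (fg 0 * fg 1 * fg 0)⁻¹ = fg 0 * fg 1 * fg 0 := by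
    rw [inv_eq_iff_mul_eq_one]
    calc fg 0 * fg 1 * fg 0 * (fg 0 * fg 1 * fg 0)
        = fg 0 * fg 1 * (fg 0 * fg 0) * fg 1 * fg 0 := by group
      _ = fg 0 * (fg 1 * fg 1) * fg 0 := by rw [h0]; group
      _ = 1 := by rw [h1, mul_one, h0]
  rw [← e1, eq_inv_iff_mul_eq_one]
  have h' : fg 1 * (fg 0 * (fg 1 * (fg 0 * (fg 1 * fg 0)))) = 1 := by
    have : fg 1 * (fg 0 * (fg 1 * (fg 0 * (fg 1 * fg 0)))) =
        (fg 0)⁻¹ * (fg 0 * (fg 1 * (fg 0 * (fg 1 * (fg 0 * fg 1))))) * fg 0 := by group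
    rw [this, h]; group
  calc fg 1 * fg 0 * fg 1 * (fg 0 * fg 1 * fg 0)
      = fg 1 * (fg 0 * (fg 1 * (fg 0 * (fg 1 * fg 0)))) := by group
    _ = 1 := h'

section generic

variable {E : Type*} [Group E]

/-- words in the letters `1, …, 8` have values in `HK9` -/
theorem uc_wv_mem_HK9 (g : ℕ → E) (w : List ℕ) (hw : ∀ x ∈ w, 1 ≤ x ∧ x < 9) :
    wv g w ∈ HK9 g := by
  induction w with
  | nil => rw [wv_nil]; exact Subgroup.one_mem _
  | cons x w ih =>
    rw [wv_cons]
    refine Subgroup.mul_mem _ ?_ (ih (fun y hy => hw y (List.mem_cons_of_mem _ hy)))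
    obtain ⟨hx1, hx9⟩ := hw x (List.mem_cons_self)
    apply Subgroup.subset_closure
    interval_cases x <;> simp

/-- an involution `a` and an element `b` with `a b a = b a b`: `b` is an involution and `(ab)^3 = 1` -/
theorem uc_braid_invol {a b : E} (ha : a * a = 1) (hbr : a * b * a = b * a * b) :
    b * b = 1 ∧ a * (b * (a * (b * (a * b)))) = 1 := by
  have hainv : a⁻¹ = a := inv_eq_of_mul_eq_one_right ha
  have hb : b = (a * b) * a * (a * b)⁻¹ := by
    have : (a * b) * a * (a * b)⁻¹ = (a * b * a) * b⁻¹ * a⁻¹ := by group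
    rw [this, hbr]; group
  have hbb : b * b = 1 := by
    have h1 : b * b = (a * b) * (a * a) * (a * b)⁻¹ := by
      calc b * b = ((a * b) * a * (a * b)⁻¹) * ((a * b) * a * (a * b)⁻¹) := by rw [← hb]
        _ = (a * b) * (a * a) * (a * b)⁻¹ := by group
    rw [h1, ha]; group
  refine ⟨hbb, ?_⟩
  calc a * (b * (a * (b * (a * b)))) = (a * b * a) * (b * a * b) := by group
    _ = (b * a * b) * (b * a * b) := by rw [hbr]
    _ = b * a * (b * b) * a * b := by group
    _ = b * (a * a) * b := by rw [hbb]; group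
    _ = 1 := by rw [ha, mul_one, hbb]

/-- conjugation of a word by `a` when `a` centralises the letters up to central elements `z x` -/
theorem uc_conj_wv (g : ℕ → E) (a : E) (z : ℕ → E) (hz : ∀ x, ∀ y : E, z x * y = y * z x)
    (w : List ℕ) (hw : ∀ x ∈ w, a * g x * a⁻¹ = z x * g x) :
    a * wv g w * a⁻¹ = (w.map z).prod * wv g w := by
  induction w with
  | nil => simp [wv_nil]
  | cons x w ih =>
    have ih' := ih (fun y hy => hw y (List.mem_cons_of_mem _ hy))
    have hx := hw x List.mem_cons_self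
    rw [wv_cons, List.map_cons, List.prod_cons]
    calc a * (g x * wv g w) * a⁻¹ = (a * g x * a⁻¹) * (a * wv g w * a⁻¹) := by group
      _ = (z x * g x) * ((w.map z).prod * wv g w) := by rw [hx, ih']
      _ = z x * (g x * (w.map z).prod) * wv g w := by group
      _ = z x * ((w.map z).prod * g x) * wv g w := by
          have hcomm : ∀ (l : List ℕ) (y : E), (l.map z).prod * y = y * (l.map z).prod := by
            intro l
            induction l with
            | nil => intro y; simp
            | cons u l ihl =>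
              intro y
              rw [List.map_cons, List.prod_cons, mul_assoc, ihl y, ← mul_assoc, hz u y, mul_assoc]
          rw [hcomm w (g x)]
      _ = z x * (w.map z).prod * (g x * wv g w) := by group

end generic

/-- **UC**. -/
theorem core_of_cert (exactL relL : List (List ℕ))
    (hex : ∀ w ∈ exactL, (∀ x ∈ w, 1 ≤ x ∧ x < 9) ∨ w ∈ coxL ∨ w = [0, 0])
    (hW : ∀ w ∈ exactL ++ relL, wv fg w = 1)
    (hodd : wv fg [2, 3, 4, 5, 6, 7, 8, 2, 3, 4, 5, 6, 7, 8, 2, 3, 4, 5, 6, 7, 8, 2, 3, 4, 5, 6, 7, 8,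
      2, 3, 4, 5, 6, 7, 8, 2, 3, 4, 5, 6, 7, 8, 2, 3, 4, 5, 6, 7, 8, 2, 3, 4, 5, 6, 7, 8,
      2, 3, 4, 5, 6, 7, 8] = 1)
    (hmain : ∀ (E : Type) [Group E] (g : ℕ → E) (A : Subgroup E), Setting9 g exactL relL A →
      ∃ ζ : E, ζ ∈ A ∧ ζ ^ 2 = 1 ∧ Finite (E ⧸ HK9 g) ∧
        Nat.card (E ⧸ HK9 g) ≤ 14080 * Nat.card (Subgroup.zpowers ζ))
    (hfin : Finite FG) (hidx : (KS9 : Subgroup FG).index = 14080)
    (E : Type) [Group E] [Finite E] (τ : E →* FG) (hτ : Cfsg.IsStemExtension τ)
    (K' : Subgroup E) (hK : K' ⊓ τ.ker = ⊥) (hKK : K'.map τ = KS9) : Nat.card τ.ker ∣ 2 := by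
  obtain ⟨hs, hc, hd⟩ := hτ
  have hdisj : ∀ x ∈ K', τ x = 1 → x = 1 := by
    intro x hx hx1
    have h : x ∈ K' ⊓ τ.ker := ⟨hx, MonoidHom.mem_ker.mpr hx1⟩
    rw [hK] at h
    exact Subgroup.mem_bot.mp h
  have hfgK : ∀ i, 1 ≤ i → i < 9 → fg i ∈ KS9 := by
    intro i hi1 hi
    show fg i ∈ Subgroup.closure {fg 1, fg 2, fg 3, fg 4, fg 5, fg 6, fg 7, fg 8}
    apply Subgroup.subset_closure
    interval_cases i <;> simp
  -- lifts of all letters
  have key : ∀ i : ℕ, ∃ x : E, τ x = fg i ∧ (1 ≤ i → i < 9 → x ∈ K') := by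
    intro i
    by_cases hi : 1 ≤ i ∧ i < 9
    · have h1 : fg i ∈ K'.map τ := by rw [hKK]; exact hfgK i hi.1 hi.2
      obtain ⟨x, hx, hxi⟩ := Subgroup.mem_map.mp h1
      exact ⟨x, hxi, fun _ _ => hx⟩
    · obtain ⟨x, hx⟩ := hs (fg i)
      exact ⟨x, hx, fun h1 h2 => absurd ⟨h1, h2⟩ hi⟩
  choose g0 hg0τ hg0K using key
  -- the normalised lift of the letter `0`
  set y : E := g0 0 with hy
  set c : E := g0 1 * y * g0 1 * (y * g0 1 * y)⁻¹ with hcdef
  have hcker : c ∈ τ.ker := by
    rw [MonoidHom.mem_ker, hcdef, map_mul, map_inv, map_mul, map_mul, map_mul, map_mul, hg0τ 1, hy,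
      hg0τ 0, uc_fg_braid, mul_inv_cancel]
  have hcen : ∀ z ∈ τ.ker, ∀ x : E, z * x = x * z := fun z hz x =>
    (Subgroup.mem_center_iff.mp (hc hz) x).symm
  have hccen : ∀ x : E, c * x = x * c := hcen c hcker
  set a : E := y * c with ha
  have haτ : τ a = fg 0 := by
    rw [ha, map_mul, MonoidHom.mem_ker.mp hcker, mul_one, hy, hg0τ 0]
  have hinv0 : ∀ i, 1 ≤ i → i < 9 → g0 i * g0 i = 1 := by
    intro i hi1 hi
    apply hdisj _ (K'.mul_mem (hg0K i hi1 hi) (hg0K i hi1 hi))
    rw [map_mul, hg0τ i, fg_mul_self]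
  have hbr : g0 1 * a * g0 1 = a * g0 1 * a := by
    have e1 : g0 1 * y * g0 1 = c * (y * g0 1 * y) := by rw [hcdef]; group
    have eL : g0 1 * a * g0 1 = y * g0 1 * y * c * c := by
      calc g0 1 * a * g0 1 = g0 1 * y * (c * g0 1) := by rw [ha]; group
        _ = g0 1 * y * (g0 1 * c) := by rw [hccen]
        _ = (g0 1 * y * g0 1) * c := by group
        _ = c * (y * g0 1 * y) * c := by rw [e1]
        _ = (y * g0 1 * y) * c * c := by rw [hccen (y * g0 1 * y)]
        _ = y * g0 1 * y * c * c := by group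
    have eR : a * g0 1 * a = y * g0 1 * y * c * c := by
      calc a * g0 1 * a = y * (c * g0 1) * (y * c) := by rw [ha]; group
        _ = y * (g0 1 * c) * (y * c) := by rw [hccen]
        _ = y * g0 1 * (c * y) * c := by group
        _ = y * g0 1 * (y * c) * c := by rw [hccen y]
        _ = y * g0 1 * y * c * c := by group
    rw [eL, eR]
  obtain ⟨hainv, -⟩ := uc_braid_invol (hinv0 1 (by norm_num) (by norm_num)) hbr
  obtain ⟨-, hbraid0⟩ := uc_braid_invol hainv hbr.symm
  -- hbraid0 : a * (g0 1 * (a * (g0 1 * (a * g0 1)))) = 1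
  -- the assignment
  set g : ℕ → E := fun i => if i = 0 then a else g0 i with hgdef
  have hg_pos : ∀ i, 1 ≤ i → g i = g0 i := by
    intro i hi
    have : i ≠ 0 := by omega
    simp [hgdef, this]
  have hg_0 : g 0 = a := by simp [hgdef]
  have hgτ : ∀ i, τ (g i) = fg i := by
    intro i
    by_cases hi : i = 0
    · subst hi; rw [hg_0, haτ]
    · simp only [hgdef, if_neg hi]; exact hg0τ i
  have hgK : ∀ i, 1 ≤ i → i < 9 → g i ∈ K' := fun i hi1 hi => by
    rw [hg_pos i hi1]; exact hg0K i hi1 hi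
  have hHK : HK9 g ≤ K' := by
    unfold HK9
    rw [Subgroup.closure_le]
    intro x hx
    simp only [Set.mem_insert_iff, Set.mem_singleton_iff] at hx
    rcases hx with rfl | rfl | rfl | rfl | rfl | rfl | rfl | rfl
    · exact hgK 1 (by norm_num) (by norm_num)
    · exact hgK 2 (by norm_num) (by norm_num)
    · exact hgK 3 (by norm_num) (by norm_num)
    · exact hgK 4 (by norm_num) (by norm_num)
    · exact hgK 5 (by norm_num) (by norm_num)
    · exact hgK 6 (by norm_num) (by norm_num)
    · exact hgK 7 (by norm_num) (by norm_num)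
    · exact hgK 8 (by norm_num) (by norm_num)
  have hτwv : ∀ w : List ℕ, τ (wv g w) = wv fg w := by
    intro w
    rw [map_wv]
    congr 1
    funext x
    exact hgτ x
  -- words in the letters 1..8 that are trivial in Fi22 are trivial in E
  have hexact18 : ∀ w : List ℕ, (∀ x ∈ w, 1 ≤ x ∧ x < 9) → wv fg w = 1 → wv g w = 1 := by
    intro w hw h1
    apply hdisj _ (hHK (uc_wv_mem_HK9 g w hw))
    rw [hτwv]
    exact h1
  have hginv : ∀ i, i < 9 → g i * g i = 1 := by
    intro i hi
    by_cases h0 : i = 0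
    · subst h0; rw [hg_0]; exact hainv
    · have hi1 : 1 ≤ i := by omega
      rw [hg_pos i hi1]; exact hinv0 i hi1 hi
  have hainv' : a⁻¹ = a := inv_eq_of_mul_eq_one_right hainv
  -- the central commutators z j = [a, g j]
  set z : ℕ → E := fun j => if 2 ≤ j ∧ j < 9 then a * g j * a⁻¹ * (g j)⁻¹ else 1 with hzdef
  have hzker : ∀ j, z j ∈ τ.ker := by
    intro j
    by_cases hj : 2 ≤ j ∧ j < 9
    · simp only [hzdef, if_pos hj]
      rw [MonoidHom.mem_ker, map_mul, map_mul, map_mul, map_inv, map_inv, haτ, hgτ]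
      have hrel : wv fg [0, j, 0, j] = 1 := by
        apply wv_fg_relW
        apply coxL_sub
        obtain ⟨h2, h9⟩ := hj
        interval_cases j <;> decide
      simp only [wv_cons, wv_nil, mul_one] at hrel
      have h0 : (fg 0)⁻¹ = fg 0 := inv_eq_of_mul_eq_one_right (fg_mul_self 0)
      have hjj : (fg j)⁻¹ = fg j := inv_eq_of_mul_eq_one_right (fg_mul_self j)
      rw [h0, hjj]
      calc fg 0 * fg j * fg 0 * fg j = fg 0 * (fg j * (fg 0 * fg j)) := by group
        _ = 1 := hrel
    · simp only [hzdef, if_neg hj]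
      exact Subgroup.one_mem _
  have hzcen : ∀ j, ∀ x : E, z j * x = x * z j := fun j => hcen (z j) (hzker j)
  have hconj : ∀ j, 2 ≤ j → j < 9 → a * g j * a⁻¹ = z j * g j := by
    intro j h2 h9
    simp only [hzdef, if_pos (And.intro h2 h9)]
    group
  -- adjacent letters have the same commutator
  have hadj : ∀ j k, 2 ≤ j → j < 9 → 2 ≤ k → k < 9 → [j, k, j, k, j, k] ∈ coxL → z j = z k := by
    intro j k hj2 hj9 hk2 hk9 hmem
    have hrel : wv g [j, k, j, k, j, k] = 1 := by
      apply hexact18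
      · intro x hx
        simp only [List.mem_cons, List.not_mem_nil, or_false] at hx
        rcases hx with rfl | rfl | rfl | rfl | rfl | rfl <;> omega
      · exact wv_fg_relW _ (coxL_sub _ hmem)
    have hcj := uc_conj_wv g a z hzcen [j, k, j, k, j, k] (by
      intro x hx
      simp only [List.mem_cons, List.not_mem_nil, or_false] at hx
      rcases hx with rfl | rfl | rfl | rfl | rfl | rfl
      · exact hconj _ hj2 hj9
      · exact hconj _ hk2 hk9
      · exact hconj _ hj2 hj9
      · exact hconj _ hk2 hk9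
      · exact hconj _ hj2 hj9
      · exact hconj _ hk2 hk9)
    rw [hrel] at hcj
    simp only [List.map_cons, List.map_nil, List.prod_cons, List.prod_nil, mul_one] at hcj
    -- hcj : a * a⁻¹ = z j * (z k * (z j * (z k * (z j * z k))))
    rw [mul_inv_cancel] at hcj
    -- z² = 1
    have hsq : ∀ i, 2 ≤ i → i < 9 → z i * z i = 1 := by
      intro i h2 h9
      have h1 : (a * g i * a⁻¹) * (a * g i * a⁻¹) = 1 := by
        calc (a * g i * a⁻¹) * (a * g i * a⁻¹) = a * (g i * g i) * a⁻¹ := by group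
          _ = 1 := by rw [hginv i h9]; group
      rw [hconj i h2 h9] at h1
      calc z i * z i = z i * z i * (g i * g i) := by rw [hginv i h9, mul_one]
        _ = z i * (z i * g i) * g i := by group
        _ = z i * (g i * z i) * g i := by rw [hzcen i (g i)]
        _ = (z i * g i) * (z i * g i) := by group
        _ = 1 := h1
    have hzjk : z j * z k = z k * z j := hzcen j (z k)
    have e : z j * (z k * (z j * (z k * (z j * z k)))) = (z j * z j) * (z k * z k) * (z j * z k) := by
      calc z j * (z k * (z j * (z k * (z j * z k))))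
          = z j * ((z k * z j) * (z k * (z j * z k))) := by group
        _ = z j * ((z j * z k) * (z k * (z j * z k))) := by rw [hzjk]
        _ = (z j * z j) * (z k * z k) * (z j * z k) := by group
    rw [e, hsq j hj2 hj9, hsq k hk2 hk9, one_mul, one_mul] at hcj
    -- hcj : 1 = z j * z k
    calc z j = z j * (z k * z k) := by rw [hsq k hk2 hk9, mul_one]
      _ = (z j * z k) * z k := by group
      _ = z k := by rw [← hcj, one_mul]
  have h23 : z 2 = z 3 := hadj 2 3 (by norm_num) (by norm_num) (by norm_num) (by norm_num) (by decide)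
  have h34 : z 3 = z 4 := hadj 3 4 (by norm_num) (by norm_num) (by norm_num) (by norm_num) (by decide)
  have h45 : z 4 = z 5 := hadj 4 5 (by norm_num) (by norm_num) (by norm_num) (by norm_num) (by decide)
  have h56 : z 5 = z 6 := hadj 5 6 (by norm_num) (by norm_num) (by norm_num) (by norm_num) (by decide)
  have h37 : z 3 = z 7 := hadj 3 7 (by norm_num) (by norm_num) (by norm_num) (by norm_num) (by decide)
  have h78 : z 7 = z 8 := hadj 7 8 (by norm_num) (by norm_num) (by norm_num) (by norm_num) (by decide)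
  have hall : ∀ j, 2 ≤ j → j < 9 → z j = z 2 := by
    intro j h2 h9
    interval_cases j
    · rfl
    · exact h23.symm
    · rw [← h34, ← h23]
    · rw [← h45, ← h34, ← h23]
    · rw [← h56, ← h45, ← h34, ← h23]
    · rw [← h37, ← h23]
    · rw [← h78, ← h37, ← h23]
  have hsq2 : z 2 * z 2 = 1 := by
    have h1 : (a * g 2 * a⁻¹) * (a * g 2 * a⁻¹) = 1 := by
      calc (a * g 2 * a⁻¹) * (a * g 2 * a⁻¹) = a * (g 2 * g 2) * a⁻¹ := by group
        _ = 1 := by rw [hginv 2 (by norm_num)]; group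
    rw [hconj 2 (by norm_num) (by norm_num)] at h1
    calc z 2 * z 2 = z 2 * z 2 * (g 2 * g 2) := by rw [hginv 2 (by norm_num), mul_one]
      _ = z 2 * (z 2 * g 2) * g 2 := by group
      _ = z 2 * (g 2 * z 2) * g 2 := by rw [hzcen 2 (g 2)]
      _ = (z 2 * g 2) * (z 2 * g 2) := by group
      _ = 1 := h1
  -- the odd relator kills the commutator
  have hz2 : z 2 = 1 := by
    set w63 : List ℕ := [2, 3, 4, 5, 6, 7, 8, 2, 3, 4, 5, 6, 7, 8, 2, 3, 4, 5, 6, 7, 8, 2, 3, 4, 5, 6, 7, 8,
      2, 3, 4, 5, 6, 7, 8, 2, 3, 4, 5, 6, 7, 8, 2, 3, 4, 5, 6, 7, 8, 2, 3, 4, 5, 6, 7, 8,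
      2, 3, 4, 5, 6, 7, 8] with hw63
    have hmem : ∀ x ∈ w63, 2 ≤ x ∧ x < 9 := by decide
    have hrel : wv g w63 = 1 := by
      apply hexact18 _ _ hodd
      intro x hx
      have := hmem x hx
      omega
    have hcj := uc_conj_wv g a z hzcen w63 (fun x hx => hconj x (hmem x hx).1 (hmem x hx).2)
    rw [hrel, mul_one, mul_inv_cancel, mul_one] at hcj
    have hmap : w63.map z = List.replicate 63 (z 2) := by
      have hlen : w63.length = 63 := by decide
      rw [List.eq_replicate_iff]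
      refine ⟨by rw [List.length_map, hlen], ?_⟩
      intro b hb
      obtain ⟨x, hx, rfl⟩ := List.mem_map.mp hb
      exact hall x (hmem x hx).1 (hmem x hx).2
    rw [hmap, List.prod_replicate] at hcj
    -- hcj : 1 = z 2 ^ 63
    have h2 : z 2 ^ 2 = 1 := by rw [pow_two]; exact hsq2
    calc z 2 = z 2 ^ 63 * ((z 2 ^ 2) ^ 31)⁻¹ := by
          rw [← pow_mul]; group
      _ = 1 := by rw [← hcj, h2]; simp
  have hcomm : ∀ j, 2 ≤ j → j < 9 → a * (g j * (a * g j)) = 1 := by
    intro j h2 h9
    have h1 := hconj j h2 h9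
    rw [hall j h2 h9, hz2, one_mul, hainv'] at h1
    -- h1 : a * g j * a = g j
    calc a * (g j * (a * g j)) = (a * g j * a) * g j := by group
      _ = g j * g j := by rw [h1]
      _ = 1 := hginv j h9
  have S9 : Setting9 g exactL relL τ.ker :=
    { central := hc
      disj := fun x hx hxA => hdisj x (hHK hx) (MonoidHom.mem_ker.mp hxA)
      invol := hginv
      exact := by
        intro w hw
        have hwfg : wv fg w = 1 := hW w (List.mem_append_left _ hw)
        rcases hex w hw with h | h | rfl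
        · exact hexact18 w h hwfg
        · rcases uc_coxL_cases w h with h' | rfl | ⟨j, hj9, hj2, rfl⟩
          · exact hexact18 w h' hwfg
          · simp only [wv_cons, wv_nil, mul_one]
            rw [hg_0, hg_pos 1 (by norm_num)]
            exact hbraid0
          · simp only [wv_cons, wv_nil, mul_one]
            rw [hg_0]
            exact hcomm j hj2 hj9
        · simp only [wv_cons, wv_nil, mul_one]
          exact hginv 0 (by norm_num)
      rel := by
        intro w hw
        rw [MonoidHom.mem_ker, hτwv]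
        exact hW w (List.mem_append_right _ hw)
      gen := by
        apply Cfsg.Agent.Lib.H17.M22M.closure_lift_eq_top τ hc hd
        rw [eq_top_iff, ← closure_fg]
        apply Subgroup.closure_mono
        rintro _ ⟨x, hx, rfl⟩
        exact ⟨g x, ⟨x, hx, rfl⟩, hgτ x⟩ }
  obtain ⟨ζ, hζA, hζ2, hfinQ, hq⟩ := hmain E g τ.ker S9
  -- counting
  have hcardHK : Nat.card ↥(HK9 g) = Nat.card ↥(KS9 : Subgroup FG) := by
    let ρ : ↥(HK9 g) →* FG := τ.comp (HK9 g).subtype
    have hρinj : Function.Injective ρ := by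
      rw [injective_iff_map_eq_one]
      intro x hx
      exact Subtype.ext (hdisj x.1 (hHK x.2) hx)
    have hrange : ρ.range = KS9 := by
      show (τ.comp (HK9 g).subtype).range = KS9
      rw [MonoidHom.range_comp, Subgroup.range_subtype]
      show (HK9 g).map τ = HK9 fg
      unfold HK9
      rw [MonoidHom.map_closure]
      congr 1
      simp only [Set.image_insert_eq, Set.image_singleton, hgτ]
    rw [← hrange]
    exact Nat.card_congr (MonoidHom.ofInjective hρinj).toEquiv
  have h1 : Nat.card E = Nat.card (E ⧸ HK9 g) * Nat.card ↥(HK9 g) :=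
    Subgroup.card_eq_card_quotient_mul_card_subgroup _
  have h2 : Nat.card E = Nat.card τ.ker * Nat.card FG :=
    Cfsg.Agent.Lib.H28.StemTools.card_eq_card_ker_mul τ hs
  have h3 : Nat.card FG = 14080 * Nat.card ↥(KS9 : Subgroup FG) := by
    rw [← hidx, mul_comm]
    exact (Subgroup.card_mul_index _).symm
  have hKSpos : 0 < Nat.card ↥(KS9 : Subgroup FG) := Nat.card_pos
  have h4 : Nat.card τ.ker * (14080 * Nat.card ↥(KS9 : Subgroup FG)) ≤
      Nat.card (Subgroup.zpowers ζ) * (14080 * Nat.card ↥(KS9 : Subgroup FG)) := by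
    calc Nat.card τ.ker * (14080 * Nat.card ↥(KS9 : Subgroup FG)) = Nat.card E := by rw [h2, h3]
      _ = Nat.card (E ⧸ HK9 g) * Nat.card ↥(KS9 : Subgroup FG) := by rw [h1, hcardHK]
      _ ≤ (14080 * Nat.card (Subgroup.zpowers ζ)) * Nat.card ↥(KS9 : Subgroup FG) :=
          Nat.mul_le_mul_right _ hq
      _ = _ := by ring
  have h5 : Nat.card τ.ker ≤ Nat.card (Subgroup.zpowers ζ) :=
    Nat.le_of_mul_le_mul_right h4 (by positivity)
  have hle : Subgroup.zpowers ζ ≤ τ.ker := by
    rw [Subgroup.zpowers_le]; exact hζA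
  have heq : Subgroup.zpowers ζ = τ.ker := Subgroup.eq_of_le_of_card_ge hle h5
  rw [← heq, Nat.card_zpowers]
  exact orderOf_dvd_of_pow_eq_one hζ2

end Cfsg.Agent.Lib.H8.Fi22M
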