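import Cfsg.Agent.Lib.H28.Fi22M.Base

set_option autoImplicit false
set_option maxRecDepth 100000

/-!
# S2053 (helper28 architect), piece Y2: `card_inf_L_dvd_three`

The part of the kernel of a stem extension of `Fi₂₂` inside the lift of `Ω₇(3)` has order dividing `3`.
-/

namespace Cfsg.Agent.Lib.H8.Fi22M

open Cfsg.Agent.Lib.H28.Fi22M
open Cfsg.Agent.Lib.H14.SuzM (wv SL.L)
open scoped commutatorElement

/-- the conclusion of **CL** (copy of the definition of the signature file) -/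
def CoxLift : Prop :=
  ∀ (Γ : Type) [Group Γ] (σ : Γ →* FG), Function.Surjective σ → σ.ker ≤ Subgroup.center Γ →
    ∃ g : ℕ → Γ, (∀ i < 9, σ (g i) = fg i) ∧ (∀ i < 9, g i * g i = 1) ∧ ∀ w ∈ coxL, wv g w = 1

/-- **Y2**. -/
theorem card_inf_L_dvd_three (hCL : CoxLift)
    (hTR : ∀ {P : Type} [Group P], commutator P = ⊤ → ∀ (M : Subgroup P) [M.FiniteIndex] (z : P),
      z ∈ Subgroup.center P → z ^ M.index ∈ ⁅M, M⁆)
    (hE7 : ∀ {Γ : Type} [Group Γ] (σ : Γ →* FG) (y : ℕ → Γ),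
      (∀ i, 1 ≤ i → i ≤ 7 → σ (y i) = fg i) → (∀ i, 1 ≤ i → i ≤ 7 → y i * y i = 1) →
      (∀ w ∈ coxL, (∀ x ∈ w, 1 ≤ x ∧ x ≤ 7) → wv y w = 1) → ⁅HK7 y, HK7 y⁆ ⊓ σ.ker = ⊥)
    (hperf : ⁅KS9, KS9⁆ = KS9)
    (hmult : ∀ (L : Type) [Group L] [Finite L] (τ : L →* ↥KS9), Cfsg.IsStemExtension τ →
      Nat.card τ.ker ∣ 6)
    (hidx : (KS7 : Subgroup FG).relIndex KS9 = 3159)
    (Γ : Type) [Group Γ] [Finite Γ] (σ : Γ →* FG) (hσ : Cfsg.IsStemExtension σ) :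
    Nat.card ↥(σ.ker ⊓ SL.L σ KS9) ∣ 3 := by
  obtain ⟨hs, hc, hd⟩ := hσ
  set L : Subgroup Γ := SL.L σ KS9 with hL
  set τ : ↥L →* ↥KS9 := Cfsg.Agent.Lib.H14.SuzM.SL.tau σ KS9 with hτ
  have hτstem : Cfsg.IsStemExtension τ := Cfsg.Agent.Lib.H14.SuzM.SL.tau_stem σ KS9 hs hc hperf
  have hτsurj : Function.Surjective τ := hτstem.1
  -- the order divides 6
  have hcard6 : Nat.card ↥(σ.ker ⊓ L) ∣ 6 := by
    have h6 := hmult ↥L τ hτstem
    have e : ↥τ.ker ≃ ↥(σ.ker ⊓ L) :=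
      { toFun := fun x => ⟨x.1.1,
          ⟨(Cfsg.Agent.Lib.H14.SuzM.SL.mem_ker_tau σ KS9 x.1).mp x.2, x.1.2⟩⟩
        invFun := fun y => ⟨⟨y.1, y.2.2⟩,
          (Cfsg.Agent.Lib.H14.SuzM.SL.mem_ker_tau σ KS9 ⟨y.1, y.2.2⟩).mpr y.2.1⟩
        left_inv := fun x => rfl
        right_inv := fun y => rfl }
    rw [← Nat.card_congr e]
    exact h6
  -- the Coxeter lifts
  obtain ⟨g, hgσ, hginv, hgcox⟩ := hCL Γ σ hs hc
  have hE := hE7 σ g (fun i _ h7 => hgσ i (by omega)) (fun i _ h7 => hginv i (by omega))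
    (fun w hw _ => hgcox w hw)
  -- KS7 is the image of HK7 g
  have hmapHK7 : (HK7 g).map σ = KS7 := by
    show (HK7 g).map σ = HK7 fg
    unfold HK7
    rw [MonoidHom.map_closure]
    congr 1
    simp only [Set.image_insert_eq, Set.image_singleton]
    rw [hgσ 1 (by norm_num), hgσ 2 (by norm_num), hgσ 3 (by norm_num), hgσ 4 (by norm_num),
      hgσ 5 (by norm_num), hgσ 6 (by norm_num), hgσ 7 (by norm_num)]
  have hcomm7 : ⁅KS7.comap σ, KS7.comap σ⁆ ≤ ⁅HK7 g, HK7 g⁆ := by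
    rw [Subgroup.commutator_le]
    intro x1 h1 x2 h2
    have hdec : ∀ x ∈ KS7.comap σ, ∃ y ∈ HK7 g, ∃ k ∈ σ.ker, x = y * k := by
      intro x hx
      have hx' : σ x ∈ (HK7 g).map σ := by rw [hmapHK7]; exact hx
      obtain ⟨y, hy, hyx⟩ := Subgroup.mem_map.mp hx'
      refine ⟨y, hy, y⁻¹ * x, ?_, by group⟩
      rw [MonoidHom.mem_ker, map_mul, map_inv, hyx, inv_mul_cancel]
    obtain ⟨y1, hy1, k1, hk1, rfl⟩ := hdec x1 h1
    obtain ⟨y2, hy2, k2, hk2, rfl⟩ := hdec x2 h2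
    rw [Cfsg.Agent.Lib.H14.SuzM.SL.comm_central_mul σ hc hk1 hk2]
    exact Subgroup.commutator_mem_commutator hy1 hy2
  -- the subgroup of index 3159 of L
  set M' : Subgroup ↥L := (KS7.subgroupOf KS9).comap τ with hM'
  have hM'idx : M'.index = 3159 := by
    rw [hM', Subgroup.index_comap_of_surjective _ hτsurj]
    exact hidx
  haveI : M'.FiniteIndex := ⟨by rw [hM'idx]; norm_num⟩
  have hPperf : commutator ↥L = ⊤ :=
    Cfsg.Agent.Lib.H14.SuzM.SL.commutator_L_eq_top σ KS9 hs hc hperf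
  have hpow : ∀ z ∈ σ.ker ⊓ L, z ^ 3159 = 1 := by
    intro z hz
    obtain ⟨hzk, hzL⟩ := hz
    have hzcen : (⟨z, hzL⟩ : ↥L) ∈ Subgroup.center ↥L := by
      rw [Subgroup.mem_center_iff]
      intro x
      apply Subtype.ext
      show x.1 * z = z * x.1
      exact Subgroup.mem_center_iff.mp (hc hzk) x.1
    have h1 := hTR hPperf M' ⟨z, hzL⟩ hzcen
    rw [hM'idx] at h1
    have h2 : L.subtype (⟨z, hzL⟩ ^ 3159) ∈ (⁅M', M'⁆).map L.subtype := Subgroup.mem_map_of_mem _ h1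
    rw [Subgroup.map_commutator] at h2
    have hle : M'.map L.subtype ≤ KS7.comap σ := by
      rintro _ ⟨x, hx, rfl⟩
      exact hx
    have h3 : z ^ 3159 ∈ ⁅KS7.comap σ, KS7.comap σ⁆ := by
      have := Subgroup.commutator_mono hle hle h2
      simpa using this
    have h4 : z ^ 3159 ∈ ⁅HK7 g, HK7 g⁆ ⊓ σ.ker :=
      ⟨hcomm7 h3, Subgroup.pow_mem _ hzk _⟩
    rw [hE] at h4
    exact Subgroup.mem_bot.mp h4
  -- no element of order 2
  have hodd : ¬ 2 ∣ Nat.card ↥(σ.ker ⊓ L) := by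
    intro h2
    haveI : Fact (Nat.Prime 2) := ⟨Nat.prime_two⟩
    obtain ⟨x, hx⟩ := exists_prime_orderOf_dvd_card' 2 h2
    have h1 : x ^ 3159 = 1 := by
      apply Subtype.ext
      rw [Subgroup.coe_pow]
      exact hpow x.1 x.2
    have := orderOf_dvd_of_pow_eq_one h1
    rw [hx] at this
    omega
  have hcop : Nat.Coprime (Nat.card ↥(σ.ker ⊓ L)) 2 :=
    (Nat.coprime_comm.mp ((Nat.Prime.coprime_iff_not_dvd Nat.prime_two).mpr hodd))
  have h6 : Nat.card ↥(σ.ker ⊓ L) ∣ 2 * 3 := hcard6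
  exact hcop.dvd_of_dvd_mul_left h6

end Cfsg.Agent.Lib.H8.Fi22M
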