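import Mathlib

/-!
# The arithmetic contradiction for families of nilpotent T.I. Frobenius kernels (helper8)

Pure arithmetic.  Compared with `exc_numeric`, the kernels `H j` (orders `h j`) need not be
abelian; `a j = |H j : H j'|` and only the characters of degree `e j` are used.  The class
equation involves `h j`, and the error terms are controlled by `∑ 1/p² < 1/4` over distinct odd
primes.
-/

set_option autoImplicit false

namespace Cfsg.Agent.Lib.H8

/-- `∑ 1/n² < 1/4` over any finite set of odd numbers `≥ 3`. -/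
theorem sum_inv_sq_odd_lt (S : Finset ℕ) (hS : ∀ n ∈ S, Odd n ∧ 3 ≤ n) :
    ∑ n ∈ S, (1 : ℝ) / (n : ℝ) ^ 2 < 1 / 4 := by
  have key : ∀ N : ℕ, ∑ k ∈ Finset.range N, (1 : ℝ) / ((2 * k + 3 : ℕ) : ℝ) ^ 2
      ≤ 1 / 4 - 1 / (4 * ((N : ℝ) + 1)) := by
    intro N
    induction N with
    | zero => simp
    | succ N ih =>
      rw [Finset.sum_range_succ]
      have h1 : (1 : ℝ) / ((2 * N + 3 : ℕ) : ℝ) ^ 2
          ≤ 1 / (4 * ((N : ℝ) + 1)) - 1 / (4 * (((N + 1 : ℕ) : ℝ) + 1)) := by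
        push_cast
        have hN : (0 : ℝ) ≤ N := by positivity
        rw [div_sub_div _ _ (by positivity) (by positivity), div_le_div_iff₀ (by positivity)
          (by positivity)]
        nlinarith
      linarith
  classical
  set N := S.sup id + 1 with hN
  have hsub : S ⊆ (Finset.range N).image (fun k => 2 * k + 3) := by
    intro n hn
    obtain ⟨ho, h3⟩ := hS n hn
    obtain ⟨r, hr⟩ := ho
    have hle : n ≤ S.sup id := Finset.le_sup (f := id) hn
    rw [Finset.mem_image]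
    refine ⟨r - 1, ?_, ?_⟩
    · rw [Finset.mem_range]; omega
    · omega
  have hinj : Set.InjOn (fun k : ℕ => 2 * k + 3) (Finset.range N : Set ℕ) := by
    intro a _ b _ hab
    simp only at hab
    omega
  have e1 : ∑ n ∈ S, (1 : ℝ) / (n : ℝ) ^ 2
      ≤ ∑ n ∈ (Finset.range N).image (fun k : ℕ => (2 * k + 3 : ℕ)), (1 : ℝ) / ((n : ℕ) : ℝ) ^ 2 :=
    Finset.sum_le_sum_of_subset_of_nonneg hsub (fun _ _ _ => by positivity)
  have e2 : ∑ n ∈ (Finset.range N).image (fun k : ℕ => (2 * k + 3 : ℕ)), (1 : ℝ) / ((n : ℕ) : ℝ) ^ 2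
      = ∑ k ∈ Finset.range N, (1 : ℝ) / ((2 * k + 3 : ℕ) : ℝ) ^ 2 :=
    Finset.sum_image hinj
  have e3 := key N
  have e4 : (0 : ℝ) < 1 / (4 * ((N : ℝ) + 1)) := by positivity
  linarith

/-- `(T+E)/(1+ET)` is decreasing in `T`. -/
theorem exc_ratio_le {T E T₀ : ℝ} (hT : T₀ ≤ T) (hT₀ : 0 ≤ T₀) (hE : 1 ≤ E) :
    (T + E) / (1 + E * T) ≤ (T₀ + E) / (1 + E * T₀) := by
  have h1 : (0 : ℝ) < 1 + E * T := by nlinarith
  have h2 : (0 : ℝ) < 1 + E * T₀ := by nlinarith
  rw [div_le_div_iff₀ h1 h2]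
  nlinarith [mul_nonneg (sub_nonneg.mpr hT) (mul_nonneg (sub_nonneg.mpr hE)
    (by linarith : (0 : ℝ) ≤ E + 1))]

theorem exc_slack_two {E : ℝ} (hE : 3 ≤ E) :
    (2 + E) / (1 + E * 2) + (E - 1) / (2 * E + 5) ≤ 1 - 1 / (4 * E) := by
  have h1 : (0 : ℝ) < 1 + E * 2 := by linarith
  have h2 : (0 : ℝ) < 2 * E + 5 := by linarith
  have h3 : (0 : ℝ) < 4 * E := by linarith
  rw [div_add_div _ _ h1.ne' h2.ne', one_sub_div h3.ne', div_le_div_iff₀ (by positivity) h3]
  nlinarith [mul_nonneg (sub_nonneg.mpr hE) (sub_nonneg.mpr hE),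
    mul_nonneg (mul_nonneg (sub_nonneg.mpr hE) (sub_nonneg.mpr hE)) (by linarith : (0:ℝ) ≤ E)]

theorem exc_slack_four {E : ℝ} (hE : 3 ≤ E) :
    (4 + E) / (1 + E * 4) + (E - 1) / (1 + 2 * E) ≤ 1 - 1 / (4 * E) := by
  have h1 : (0 : ℝ) < 1 + E * 4 := by linarith
  have h2 : (0 : ℝ) < 1 + 2 * E := by linarith
  have h3 : (0 : ℝ) < 4 * E := by linarith
  rw [div_add_div _ _ h1.ne' h2.ne', one_sub_div h3.ne', div_le_div_iff₀ (by positivity) h3]
  nlinarith [mul_nonneg (sub_nonneg.mpr hE) (sub_nonneg.mpr hE),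
    mul_nonneg (mul_nonneg (sub_nonneg.mpr hE) (sub_nonneg.mpr hE)) (by linarith : (0:ℝ) ≤ E)]

set_option maxHeartbeats 1600000 in
/-- The arithmetic contradiction. -/
theorem exc_numeric_nil {ι : Type*} [Fintype ι] [DecidableEq ι] [Nonempty ι]
    (t e a h x : ι → ℕ) (c : ι → ι → ℤ) (g : ℕ) (hg : 0 < g)
    (ha : ∀ j, a j = 1 + e j * t j) (ht : ∀ j, 2 ≤ t j) (hte : ∀ j, Even (t j))
    (he : ∀ j, 3 ≤ e j) (heo : ∀ j, Odd (e j))
    (hx : ∀ j, 1 ≤ x j)
    (hah : ∀ j, a j ∣ h j) (hh : ∀ j, 0 < h j)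
    (hcop : ∀ i j, i ≠ j → Nat.Coprime (h i) (h j))
    (hodd : ∀ j, Odd (h j))
    (hp : ∀ j, a j ≠ h j → ∃ p, p.Prime ∧ p ^ 2 ∣ a j)
    (hclass : ∑ j, ((h j : ℝ) - 1) / ((e j : ℝ) * (h j : ℝ)) = 1 - 1 / (g : ℝ))
    (hcol : ∀ j, ∑ k ∈ Finset.univ.erase j, (t k : ℤ) * (c k j) ^ 2 ≤ (e j : ℤ) - 1)
    (hrow : ∀ k, ∑ j ∈ Finset.univ.erase k, (t j : ℝ) * ((c k j : ℤ) : ℝ) ^ 2 / (a j : ℝ)
      ≤ (e k : ℝ) / (a k : ℝ) - (x k : ℝ) ^ 2 / (g : ℝ))
    (hpar : ∀ j m, j ≠ m → c j m ≠ 0 ∨ c m j ≠ 0) : False := by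
  classical
  obtain ⟨j₁, -, hmin⟩ := Finset.exists_min_image (Finset.univ : Finset ι) e
    Finset.univ_nonempty
  have hgR : (0 : ℝ) < g := by exact_mod_cast hg
  have haR : ∀ j, (0 : ℝ) < a j := fun j => by
    have : 0 < a j := by rw [ha j]; omega
    exact_mod_cast this
  have hhR : ∀ j, (0 : ℝ) < h j := fun j => by exact_mod_cast hh j
  have htR : ∀ j, (2 : ℝ) ≤ t j := fun j => by exact_mod_cast ht j
  have heR : ∀ j, (3 : ℝ) ≤ e j := fun j => by exact_mod_cast he j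
  have haR' : ∀ j, (a j : ℝ) = 1 + e j * t j := fun j => by rw [ha j]; push_cast; ring
  set E : ℝ := (e j₁ : ℝ) with hE
  set T : ℝ := (t j₁ : ℝ) with hT
  have hE3 : (3 : ℝ) ≤ E := heR j₁
  have hT2 : (2 : ℝ) ≤ T := htR j₁
  have hEj : ∀ j, E ≤ e j := fun j => by
    have := hmin j (Finset.mem_univ j)
    rw [hE]; exact_mod_cast this
  -- squares of nonzero integers
  have hsq : ∀ z : ℤ, z ≠ 0 → (1 : ℝ) ≤ ((z : ℤ) : ℝ) ^ 2 := by
    intro z hz
    have : (1 : ℤ) ≤ z ^ 2 := by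
      have := sq_nonneg z
      have h0 : z ^ 2 ≠ 0 := pow_ne_zero 2 hz
      omega
    exact_mod_cast this
  -- Out part
  have hout : ∑ j ∈ Finset.univ.erase j₁, (if c j₁ j ≠ 0 then (t j : ℝ) / (a j : ℝ) else 0)
      ≤ E / (a j₁ : ℝ) - (x j₁ : ℝ) ^ 2 / (g : ℝ) := by
    refine le_trans (Finset.sum_le_sum fun j _ => ?_) (hrow j₁)
    split_ifs with hc
    · have h1 := hsq _ hc
      rw [mul_div_assoc]
      have h2 : (0 : ℝ) ≤ (t j : ℝ) / (a j : ℝ) := div_nonneg (by positivity) (haR j).le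
      calc (t j : ℝ) / (a j : ℝ) = (t j : ℝ) / (a j : ℝ) * 1 := by ring
        _ ≤ (t j : ℝ) / (a j : ℝ) * ((c j₁ j : ℤ) : ℝ) ^ 2 := by
            exact mul_le_mul_of_nonneg_left h1 h2
        _ = (t j : ℝ) * (((c j₁ j : ℤ) : ℝ) ^ 2 / (a j : ℝ)) := by ring
    · have : (0 : ℝ) ≤ (t j : ℝ) * ((c j₁ j : ℤ) : ℝ) ^ 2 / (a j : ℝ) :=
        div_nonneg (by positivity) (haR j).le
      exact this
  -- In part
  have hinZ : ∑ j ∈ Finset.univ.erase j₁, (if c j j₁ ≠ 0 then (t j : ℤ) else 0)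
      ≤ (e j₁ : ℤ) - 1 := by
    refine le_trans (Finset.sum_le_sum fun j _ => ?_) (hcol j₁)
    split_ifs with hc
    · have : (1 : ℤ) ≤ (c j j₁) ^ 2 := by
        have := sq_nonneg (c j j₁)
        have h0 : (c j j₁) ^ 2 ≠ 0 := pow_ne_zero 2 hc
        omega
      have ht0 : (0 : ℤ) ≤ (t j : ℤ) := by positivity
      nlinarith
    · positivity
  have hinR : ∑ j ∈ Finset.univ.erase j₁, (if c j j₁ ≠ 0 then (t j : ℝ) else 0) ≤ E - 1 := by
    have : ((∑ j ∈ Finset.univ.erase j₁, (if c j j₁ ≠ 0 then (t j : ℤ) else 0) : ℤ) : ℝ)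
        ≤ (((e j₁ : ℤ) - 1 : ℤ) : ℝ) := by exact_mod_cast hinZ
    push_cast at this
    refine le_trans (le_of_eq ?_) this
    refine Finset.sum_congr rfl fun j _ => ?_
    split_ifs <;> simp
  -- general form of the In bound, with a lower bound `B ≤ a j` for `j ≠ j₁`
  have hinB : ∀ B : ℝ, 0 < B → (∀ j, j ≠ j₁ → B ≤ (a j : ℝ)) →
      ∑ j ∈ Finset.univ.erase j₁, (if c j j₁ ≠ 0 then (t j : ℝ) / (a j : ℝ) else 0)
        ≤ (E - 1) / B := by
    intro B hB hBa
    have h1 : ∑ j ∈ Finset.univ.erase j₁, (if c j j₁ ≠ 0 then (t j : ℝ) / (a j : ℝ) else 0)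
        ≤ ∑ j ∈ Finset.univ.erase j₁, (if c j j₁ ≠ 0 then (t j : ℝ) else 0) / B := by
      refine Finset.sum_le_sum fun j hj => ?_
      split_ifs with hc
      · exact div_le_div_of_nonneg_left (by positivity) hB (hBa j (Finset.ne_of_mem_erase hj))
      · simp
    rw [← Finset.sum_div] at h1
    exact le_trans h1 (div_le_div_of_nonneg_right hinR hB.le)
  -- splitting
  have hsplit : ∑ j ∈ Finset.univ.erase j₁, (t j : ℝ) / (a j : ℝ)
      ≤ ∑ j ∈ Finset.univ.erase j₁, (if c j₁ j ≠ 0 then (t j : ℝ) / (a j : ℝ) else 0)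
        + ∑ j ∈ Finset.univ.erase j₁, (if c j j₁ ≠ 0 then (t j : ℝ) / (a j : ℝ) else 0) := by
    rw [← Finset.sum_add_distrib]
    refine Finset.sum_le_sum fun j hj => ?_
    have hne : j₁ ≠ j := fun h => (Finset.ne_of_mem_erase hj) h.symm
    have h2 : (0 : ℝ) ≤ (t j : ℝ) / (a j : ℝ) := div_nonneg (by positivity) (haR j).le
    rcases hpar j₁ j hne with h | h
    · rw [if_pos h]
      split_ifs <;> linarith
    · rw [if_pos h]
      split_ifs <;> linarith
  have htot : ∑ j, (t j : ℝ) / (a j : ℝ)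
      = T / (a j₁ : ℝ) + ∑ j ∈ Finset.univ.erase j₁, (t j : ℝ) / (a j : ℝ) := by
    rw [← Finset.add_sum_erase _ _ (Finset.mem_univ j₁)]
  have hA : (a j₁ : ℝ) = 1 + E * T := haR' j₁
  have hTE : T / (a j₁ : ℝ) + E / (a j₁ : ℝ) = (T + E) / (1 + E * T) := by rw [hA]; ring
  -- the main bound on `∑ t/a`
  have hS : ∑ j, (t j : ℝ) / (a j : ℝ) ≤ 1 - 1 / (4 * E) - (x j₁ : ℝ) ^ 2 / (g : ℝ) := by
    have hbase : ∀ j, 1 + 2 * E ≤ (a j : ℝ) := by
      intro j
      rw [haR' j]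
      have := htR j
      have := hEj j
      nlinarith
    by_cases hT2' : t j₁ = 2
    · -- `T = 2`
      have hTeq : T = 2 := by rw [hT, hT2']; norm_num
      have hBa : ∀ j, j ≠ j₁ → 2 * E + 5 ≤ (a j : ℝ) := by
        intro j hj
        have hcop' : Nat.Coprime (a j) (a j₁) :=
          Nat.Coprime.coprime_dvd_left (hah j) (Nat.Coprime.coprime_dvd_right (hah j₁)
            (hcop j j₁ hj))
        have hane : a j ≠ a j₁ := by
          intro heq
          rw [heq, Nat.coprime_self] at hcop'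
          rw [ha j₁] at hcop'
          have := he j₁
          have := ht j₁
          nlinarith
        have hle : e j₁ ≤ e j := hmin j (Finset.mem_univ j)
        have hnat : 2 * e j₁ + 5 ≤ a j := by
          rcases Nat.lt_or_ge (e j₁) (e j) with hlt | hge
          · -- `e j ≥ e j₁ + 2`
            obtain ⟨r, hr⟩ := heo j
            obtain ⟨r₁, hr₁⟩ := heo j₁
            have h2 : e j₁ + 2 ≤ e j := by omega
            have h3 : (e j₁ + 2) * 2 ≤ e j * t j := Nat.mul_le_mul h2 (ht j)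
            rw [ha j]; omega
          · have heq : e j = e j₁ := le_antisymm hge hle
            have ht4 : 4 ≤ t j := by
              have hne2 : t j ≠ 2 := by
                intro h2
                apply hane
                rw [ha j, ha j₁, heq, h2, hT2']
              obtain ⟨r, hr⟩ := hte j
              have := ht j
              omega
            have h3 : e j₁ * 4 ≤ e j * t j := by
              rw [heq]; exact Nat.mul_le_mul le_rfl ht4
            have := he j₁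
            rw [ha j]; omega
        have : ((2 * e j₁ + 5 : ℕ) : ℝ) ≤ (a j : ℝ) := by exact_mod_cast hnat
        push_cast at this
        rw [hE]; linarith
      have hin := hinB (2 * E + 5) (by linarith) hBa
      have h1 := exc_slack_two hE3
      rw [hTeq] at hTE htot
      linarith [hsplit, hout, hin, htot]
    · -- `T ≥ 4`
      have ht4 : 4 ≤ t j₁ := by
        obtain ⟨r, hr⟩ := hte j₁
        have := ht j₁
        omega
      have hT4 : (4 : ℝ) ≤ T := by rw [hT]; exact_mod_cast ht4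
      have hin := hinB (1 + 2 * E) (by linarith) (fun j _ => hbase j)
      have h1 := exc_slack_four hE3
      have h2 := exc_ratio_le hT4 (by norm_num : (0 : ℝ) ≤ 4) (by linarith : (1 : ℝ) ≤ E)
      linarith [hsplit, hout, hin, htot]
  -- the error terms
  let p : ι → ℕ := fun j => if hj : a j ≠ h j then Classical.choose (hp j hj) else 0
  have hpP : ∀ j, a j ≠ h j → (p j).Prime ∧ (p j) ^ 2 ∣ a j := by
    intro j hj
    have := Classical.choose_spec (hp j hj)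
    simp only [p, dif_pos hj]
    exact this
  let NC : Finset ι := Finset.univ.filter (fun j => a j ≠ h j)
  have hNC : ∀ j, j ∈ NC ↔ a j ≠ h j := fun j => by simp [NC]
  have hlam : ∀ j, ((h j : ℝ) - 1) / ((e j : ℝ) * (h j : ℝ)) - (t j : ℝ) / (a j : ℝ)
      ≤ if j ∈ NC then 1 / E * (1 / ((p j : ℕ) : ℝ) ^ 2) else 0 := by
    intro j
    have hej : (0 : ℝ) < e j := by linarith [heR j]
    have h1 : ((h j : ℝ) - 1) / ((e j : ℝ) * (h j : ℝ)) = 1 / (e j : ℝ) - 1 / ((e j : ℝ) * (h j : ℝ)) := by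
      have := hhR j
      field_simp
    have h2 : (t j : ℝ) / (a j : ℝ) = 1 / (e j : ℝ) - 1 / ((e j : ℝ) * (a j : ℝ)) := by
      have := haR j
      have h3 : (t j : ℝ) = ((a j : ℝ) - 1) / (e j : ℝ) := by
        rw [haR' j]; field_simp; ring
      rw [h3]; field_simp
    split_ifs with hj
    · have hj' := (hNC j).mp hj
      obtain ⟨hpp, hpd⟩ := hpP j hj'
      have hpa : ((p j : ℕ) : ℝ) ^ 2 ≤ (a j : ℝ) := by
        have : (p j) ^ 2 ≤ a j := Nat.le_of_dvd (by rw [ha j]; omega) hpd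
        exact_mod_cast this
      have hp0 : (0 : ℝ) < ((p j : ℕ) : ℝ) ^ 2 := by
        have := hpp.pos
        positivity
      have h4 : 1 / ((e j : ℝ) * (a j : ℝ)) ≤ 1 / E * (1 / ((p j : ℕ) : ℝ) ^ 2) := by
        rw [one_div_mul_one_div]
        apply one_div_le_one_div_of_le (by positivity)
        exact mul_le_mul (hEj j) hpa hp0.le hej.le
      have h5 : (0 : ℝ) < 1 / ((e j : ℝ) * (h j : ℝ)) := by
        have := hhR j
        positivity
      rw [h1, h2]; linarith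
    · have hj' : a j = h j := by
        by_contra hne
        exact hj ((hNC j).mpr hne)
      rw [h1, h2, hj']; linarith
  have hpinj : Set.InjOn p (NC : Set ι) := by
    intro i hi j hj hij
    by_contra hne
    have hi' := (hNC i).mp hi
    have hj' := (hNC j).mp hj
    obtain ⟨hpi, hdi⟩ := hpP i hi'
    obtain ⟨hpj, hdj⟩ := hpP j hj'
    have h1 : p i ∣ h i := (dvd_pow_self (p i) two_ne_zero).trans (hdi.trans (hah i))
    have h2 : p i ∣ h j := by
      rw [hij]; exact (dvd_pow_self (p j) two_ne_zero).trans (hdj.trans (hah j))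
    have h3 : p i ∣ Nat.gcd (h i) (h j) := Nat.dvd_gcd h1 h2
    rw [hcop i j hne] at h3
    exact hpi.one_lt.ne' (Nat.dvd_one.mp h3)
  have hpodd : ∀ n ∈ NC.image p, Odd n ∧ 3 ≤ n := by
    intro n hn
    obtain ⟨j, hj, rfl⟩ := Finset.mem_image.mp hn
    have hj' := (hNC j).mp hj
    obtain ⟨hpp, hpd⟩ := hpP j hj'
    have h1 : p j ∣ h j := (dvd_pow_self (p j) two_ne_zero).trans (hpd.trans (hah j))
    have hodd' : Odd (p j) := Odd.of_dvd_nat (hodd j) h1
    refine ⟨hodd', ?_⟩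
    have := hpp.two_le
    obtain ⟨r, hr⟩ := hodd'
    omega
  have hLam : ∑ j, (if j ∈ NC then 1 / E * (1 / ((p j : ℕ) : ℝ) ^ 2) else 0) < 1 / (4 * E) := by
    rw [← Finset.sum_filter]
    have h0 : Finset.univ.filter (fun j => j ∈ NC) = NC := by
      ext j; simp
    rw [h0, ← Finset.mul_sum]
    have h1 : ∑ j ∈ NC, (1 : ℝ) / ((p j : ℕ) : ℝ) ^ 2
        = ∑ n ∈ NC.image p, (1 : ℝ) / ((n : ℕ) : ℝ) ^ 2 := (Finset.sum_image (f := fun n : ℕ => (1 : ℝ) / ((n : ℕ) : ℝ) ^ 2) hpinj).symm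
    rw [h1]
    have h2 := sum_inv_sq_odd_lt (NC.image p) hpodd
    have h3 : (0 : ℝ) < 1 / E := by positivity
    calc 1 / E * ∑ n ∈ NC.image p, (1 : ℝ) / ((n : ℕ) : ℝ) ^ 2 < 1 / E * (1 / 4) :=
          mul_lt_mul_of_pos_left h2 h3
      _ = 1 / (4 * E) := by rw [one_div_mul_one_div]; ring_nf
  -- conclusion
  have hsum : ∑ j, ((h j : ℝ) - 1) / ((e j : ℝ) * (h j : ℝ))
      ≤ ∑ j, (t j : ℝ) / (a j : ℝ)
        + ∑ j, (if j ∈ NC then 1 / E * (1 / ((p j : ℕ) : ℝ) ^ 2) else 0) := by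
    rw [← Finset.sum_add_distrib]
    refine Finset.sum_le_sum fun j _ => ?_
    linarith [hlam j]
  have hfin : (1 : ℝ) - 1 / g < 1 - (x j₁ : ℝ) ^ 2 / g := by
    rw [← hclass]
    linarith
  have hx2 : (x j₁ : ℝ) ^ 2 < 1 := by
    have h1 : (x j₁ : ℝ) ^ 2 / g < 1 / g := by linarith
    rwa [div_lt_div_iff_of_pos_right hgR] at h1
  have hx1 : (1 : ℝ) ≤ x j₁ := by exact_mod_cast hx j₁
  nlinarith

end Cfsg.Agent.Lib.H8
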