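import Cfsg.Agent.Lib.H8.ExcFamily
import Cfsg.Agent.Lib.H8.ExcNilC
import Cfsg.Agent.Lib.H8.ExcNumericNil

/-!
# Covering families of T.I. subgroups with Frobenius normalizers (helper8)

`false_of_nil_family`: a group of odd order cannot be covered by the conjugates of T.I. subgroups
`A j` of pairwise coprime orders, each the (non-perfect) Frobenius kernel of its normalizer
`N_G(A j) > A j`, such that `|A j : A j'|` is divisible by the square of a prime whenever `A j` is
not abelian.
-/

set_option autoImplicit false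

namespace Cfsg.Agent.Lib.H8

open Cfsg Cfsg.Agent.Lib.L0
open scoped ComplexConjugate

variable {G : Type*} [Group G] [Fintype G]

theorem excData_nonempty_nil {K D : Subgroup G} [Fintype (FrobTI.nz K)] (h : FrobTI K)
    (hDK : D ≤ K) (hDn : (D.subgroupOf (FrobTI.nz K)).Normal) (hcomm : ⁅K, K⁆ ≤ D) (hDne : D ≠ K)
    (hodd : Odd (Nat.card G)) :
    ∃ Dt : ExcData G K, Dt.e = (K.subgroupOf (FrobTI.nz K)).index ∧ Dt.a = D.relIndex K := by
  obtain ⟨t, X, ε, Ψ, c, x, h1, h2, h3, h4, h5, h6, h7, h8, h9, h10, h11, h12, h13, h14, h15⟩ :=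
    exc_package_nil h hDK hDn hcomm hDne hodd
  exact ⟨⟨t, _, _, X, ε, Ψ, c, x, h1, h2, h3, h4, h5, h6, h7, h8, h9, h10, h11, h12, h13, h14,
    h15⟩, rfl, rfl⟩

theorem commutator_subgroupOf_normal (K : Subgroup G) :
    ((⁅K, K⁆).subgroupOf (FrobTI.nz K)).Normal := by
  constructor
  intro d hd n
  rw [Subgroup.mem_subgroupOf] at hd ⊢
  have hn : (n : G) ∈ Subgroup.normalizer (K : Set G) := n.2
  have hmap : K.map (MulAut.conj (n : G)).toMonoidHom = K := by
    ext y
    rw [Subgroup.mem_map]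
    constructor
    · rintro ⟨z, hz, rfl⟩
      exact (Subgroup.mem_normalizer_iff.mp hn z).mp hz
    · intro hy
      refine ⟨(n : G)⁻¹ * y * (n : G), ?_, ?_⟩
      · have := (Subgroup.mem_normalizer_iff.mp hn ((n : G)⁻¹ * y * (n : G))).mpr
        apply this
        have e : (n : G) * ((n : G)⁻¹ * y * (n : G)) * (n : G)⁻¹ = y := by group
        rw [e]; exact hy
      · show (n : G) * ((n : G)⁻¹ * y * (n : G)) * (n : G)⁻¹ = y
        group
  have h1 : ((n : G) * (d : G) * (n : G)⁻¹) ∈ (⁅K, K⁆).map (MulAut.conj (n : G)).toMonoidHom :=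
    Subgroup.mem_map.mpr ⟨(d : G), hd, rfl⟩
  rw [Subgroup.map_commutator, hmap] at h1
  simpa using h1

theorem conjSet_disjoint_of_coprime (A B : Subgroup G)
    (hcop : Nat.Coprime (Nat.card A) (Nat.card B)) : Disjoint (conjSet A) (conjSet B) := by
  rw [Set.disjoint_left]
  rintro g ⟨k, x, hx, hx1, rfl⟩ ⟨k', y, hy, -, hxy⟩
  apply hx1
  have h1 : orderOf x ∣ Nat.card A := by
    have := orderOf_dvd_natCard (⟨x, hx⟩ : A)
    rwa [← Subgroup.orderOf_coe] at this
  have h2 : orderOf y ∣ Nat.card B := by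
    have := orderOf_dvd_natCard (⟨y, hy⟩ : B)
    rwa [← Subgroup.orderOf_coe] at this
  have h3 : orderOf (k * x * k⁻¹) = orderOf x := by
    have := orderOf_injective (MulAut.conj k).toMonoidHom (MulAut.conj k).injective x
    simpa using this
  have h4 : orderOf (k' * y * k'⁻¹) = orderOf y := by
    have := orderOf_injective (MulAut.conj k').toMonoidHom (MulAut.conj k').injective y
    simpa using this
  have h5 : orderOf x = orderOf y := by rw [← h3, hxy, h4]
  have h6 : orderOf x ∣ 1 := by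
    rw [← Nat.Coprime.gcd_eq_one hcop]
    exact Nat.dvd_gcd h1 (h5 ▸ h2)
  exact orderOf_eq_one_iff.mp (Nat.dvd_one.mp h6)

variable {ι : Type*} [Fintype ι] [DecidableEq ι]

set_option maxHeartbeats 1600000 in
/-- The main theorem on covering families of (nilpotent) T.I. Frobenius kernels. -/
theorem false_of_nil_family [Nonempty ι] (hodd : Odd (Nat.card G)) (A : ι → Subgroup G)
    (hfrob : ∀ j, FrobTI (A j)) (hlt : ∀ j, A j < FrobTI.nz (A j))
    (hnp : ∀ j, ⁅A j, A j⁆ ≠ A j)
    (hp : ∀ j, (⁅A j, A j⁆).relIndex (A j) ≠ Nat.card (A j) →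
      ∃ p : ℕ, p.Prime ∧ p ^ 2 ∣ (⁅A j, A j⁆).relIndex (A j))
    (hcop : ∀ i j, i ≠ j → Nat.Coprime (Nat.card (A i)) (Nat.card (A j)))
    (hcover : ∀ g : G, g ≠ 1 → ∃ j, g ∈ conjSet (A j)) : False := by
  classical
  haveI : ∀ j, Fintype (FrobTI.nz (A j)) := fun j => Fintype.ofFinite _
  have hdisj : ∀ i j, i ≠ j → Disjoint (conjSet (A i)) (conjSet (A j)) :=
    fun i j hij => conjSet_disjoint_of_coprime _ _ (hcop i j hij)
  have hD : ∀ j, ∃ D : ExcData G (A j), D.e = ((A j).subgroupOf (FrobTI.nz (A j))).index ∧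
      D.a = (⁅A j, A j⁆).relIndex (A j) :=
    fun j => excData_nonempty_nil (hfrob j) (Subgroup.commutator_le_self (A j))
      (commutator_subgroupOf_normal (A j)) le_rfl (hnp j) hodd
  choose D hDe hDa using hD
  obtain ⟨cc, hccd, hcc⟩ := exists_cc D hdisj
  -- numbers
  have hcardN : ∀ j, Nat.card (FrobTI.nz (A j)) = (D j).e * Nat.card (A j) := by
    intro j
    rw [hDe j]
    exact card_nz_eq (A j)
  have hg : 0 < Nat.card G := Nat.card_pos
  have heodd : ∀ j, Odd (D j).e := by
    intro j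
    have h1 : (D j).e ∣ Nat.card (FrobTI.nz (A j)) := ⟨Nat.card (A j), hcardN j⟩
    exact Odd.of_dvd_nat hodd (h1.trans (Subgroup.card_subgroup_dvd_card _))
  have he : ∀ j, 3 ≤ (D j).e := by
    intro j
    have h0 : (D j).e ≠ 0 := by
      rw [hDe j]; exact Subgroup.index_ne_zero_of_finite
    have h1 : (D j).e ≠ 1 := by
      rw [hDe j]
      intro h1
      rw [Subgroup.index_eq_one, Subgroup.subgroupOf_eq_top] at h1
      exact (hlt j).not_ge h1
    obtain ⟨r, hr⟩ := heodd j
    omega
  -- class equation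
  have hclassN : Nat.card G - 1
      = ∑ j, (FrobTI.nz (A j)).index * (Nat.card (A j) - 1) := by
    rw [card_sub_one_eq_sum_ncard A hdisj hcover]
    exact Finset.sum_congr rfl fun j _ => ncard_conjSet_frobTI (hfrob j)
  have hclass : ∑ j, ((Nat.card (A j) : ℝ) - 1) / (((D j).e : ℝ) * (Nat.card (A j) : ℝ))
      = 1 - 1 / (Nat.card G : ℝ) := by
    have hgR : (Nat.card G : ℝ) ≠ 0 := by exact_mod_cast hg.ne'
    have h1 : ((Nat.card G - 1 : ℕ) : ℝ) = (Nat.card G : ℝ) - 1 := by
      rw [Nat.cast_sub hg]; simp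
    have h2 : (Nat.card G : ℝ) - 1
        = ∑ j, ((FrobTI.nz (A j)).index : ℝ) * ((Nat.card (A j) : ℝ) - 1) := by
      rw [← h1, hclassN]
      push_cast
      refine Finset.sum_congr rfl fun j _ => ?_
      have : 0 < Nat.card (A j) := Nat.card_pos
      rw [Nat.cast_sub this]; simp
    have h3 : 1 - 1 / (Nat.card G : ℝ) = ((Nat.card G : ℝ) - 1) / (Nat.card G : ℝ) := by
      field_simp
    rw [h3, h2, Finset.sum_div]
    refine Finset.sum_congr rfl fun j _ => ?_
    have hidx : ((FrobTI.nz (A j)).index : ℝ) * (((D j).e : ℝ) * (Nat.card (A j) : ℝ))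
        = (Nat.card G : ℝ) := by
      have := Subgroup.index_mul_card (FrobTI.nz (A j))
      rw [hcardN j] at this
      exact_mod_cast this
    have haj : (Nat.card (A j) : ℝ) ≠ 0 := by
      have : 0 < Nat.card (A j) := Nat.card_pos
      exact_mod_cast this.ne'
    have hej : ((D j).e : ℝ) ≠ 0 := by
      have := he j
      have : (D j).e ≠ 0 := by omega
      exact_mod_cast this
    have hidx0 : ((FrobTI.nz (A j)).index : ℝ) ≠ 0 := by
      intro h0
      rw [h0, zero_mul] at hidx
      exact hgR hidx.symm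
    rw [← hidx]
    field_simp
  exact exc_numeric_nil (fun j => (D j).t) (fun j => (D j).e)
    (fun j => (D j).a) (fun j => Nat.card (A j)) (fun j => (D j).x) cc (Nat.card G) hg
    (fun j => by rw [← (D j).count]; ring) (fun j => (D j).two_le) (fun j => (D j).even_t)
    he heodd (fun j => (D j).x_pos)
    (fun j => by rw [hDa j]; exact Subgroup.relIndex_dvd_card _ _)
    (fun j => Nat.card_pos)
    hcop
    (fun j => Odd.of_dvd_nat hodd (Subgroup.card_subgroup_dvd_card _))
    (fun j hj => by rw [hDa j] at hj ⊢; exact hp j hj)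
    hclass (col_bound D hdisj cc hccd hcc)
    (row_bound D hdisj cc hccd hcc)
    (fun j m hjm => par_bound D hdisj hodd cc hcc hjm)

end Cfsg.Agent.Lib.H8
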