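import Mathlib
import Cfsg.Agent.Lib.H8.MinSimpleStruct
import Cfsg.Agent.S1477
import Cfsg.Agent.S1473

/-!
# Maximal nilpotent subgroups and maximal subgroups of minimal simple CN-groups of odd order
(helper8 library)
-/

set_option autoImplicit false
open Cfsg
open scoped commutatorElement

universe u

namespace Cfsg.Agent.Lib.H8

/-- a finite group with a proper normal subgroup `L` of `p`-power index cannot have a subgroup of
index prime to `p` inside its derived group -/
theorem quotient_pgroup_commutator {Y : Type*} [Group Y] [Finite Y] (p : ℕ) [hp : Fact p.Prime]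
    (L : Subgroup Y) [L.Normal] (hLtop : L ≠ ⊤) {n : ℕ} (hn : L.index = p ^ n) (T : Subgroup Y)
    (hTidx : ¬ p ∣ T.index) (hTcomm : T ≤ commutator Y) : False := by
  have hsup : T ⊔ L = ⊤ := by
    rw [← Subgroup.index_eq_one]
    have h1 : (T ⊔ L).index ∣ T.index := Subgroup.index_dvd_of_le le_sup_left
    have h2 : (T ⊔ L).index ∣ p ^ n := by
      rw [← hn]; exact Subgroup.index_dvd_of_le le_sup_right
    have hcop : Nat.Coprime T.index (p ^ n) :=
      Nat.Coprime.pow_right _ ((Nat.Prime.coprime_iff_not_dvd hp.out).mpr hTidx).symm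
    exact Nat.eq_one_of_dvd_coprimes hcop h1 h2
  haveI hQnt : Nontrivial (Y ⧸ L) := by
    by_contra hcon
    rw [not_nontrivial_iff_subsingleton] at hcon
    apply hLtop
    rw [eq_top_iff]
    intro x _
    rw [← QuotientGroup.eq_one_iff]
    exact Subsingleton.elim _ _
  have hQp : IsPGroup p (Y ⧸ L) := by
    apply IsPGroup.of_card (n := n)
    rw [← hn, Subgroup.index_eq_card]
  haveI : Group.IsNilpotent (Y ⧸ L) := hQp.isNilpotent
  have hlt := Group.IsSolvable.commutator_lt_top_of_nontrivial (Y ⧸ L)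
  apply hlt.ne
  rw [eq_top_iff]
  intro q _
  obtain ⟨y, rfl⟩ := QuotientGroup.mk'_surjective L q
  have hy : y ∈ T ⊔ L := by rw [hsup]; exact Subgroup.mem_top y
  rw [← SetLike.mem_coe, Subgroup.mul_normal] at hy
  obtain ⟨t, ht, l, hl, rfl⟩ := Set.mem_mul.mp hy
  have h1 : QuotientGroup.mk' L (t * l) = QuotientGroup.mk' L t := by
    have e : QuotientGroup.mk' L l = 1 := (QuotientGroup.eq_one_iff l).mpr hl
    rw [map_mul, e, mul_one]
  rw [h1]
  have h2 : t ∈ commutator Y := hTcomm ht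
  have h3 : (commutator Y).map (QuotientGroup.mk' L) ≤ commutator (Y ⧸ L) := by
    rw [commutator_def, commutator_def, Subgroup.map_commutator]
    exact Subgroup.commutator_mono le_top le_top
  exact h3 (Subgroup.mem_map_of_mem _ h2)

/-- in a finite nilpotent group of order divisible by `p`, no subgroup of index prime to `p`
lies in the derived group -/
theorem nilpotent_sylow_not_le_commutator {Y : Type*} [Group Y] [Finite Y] [Group.IsNilpotent Y]
    (p : ℕ) [hp : Fact p.Prime] (hpY : p ∣ Nat.card Y) (T : Subgroup Y) (hTidx : ¬ p ∣ T.index)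
    (hT : T ≤ commutator Y) : False := by
  obtain ⟨P, K, ⟨a, ha⟩, hKcop, hcard, -, hK⟩ :=
    Cfsg.Agent.Lib.H23.exists_hall_decomp Y p hp.out
  haveI : K.Normal := by
    constructor
    intro n hn g
    rw [hK] at hn ⊢
    have h1 : orderOf (g * n * g⁻¹) = orderOf n := MulEquiv.orderOf_eq (MulAut.conj g) n
    rw [h1]; exact hn
  have hidx : K.index = p ^ a := by
    have h1 : K.index * Nat.card K = Nat.card Y := Subgroup.index_mul_card K
    rw [← hcard, ha] at h1
    exact Nat.eq_of_mul_eq_mul_right Nat.card_pos h1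
  have hKtop : K ≠ ⊤ := by
    intro h
    rw [h, Subgroup.card_top] at hKcop
    exact hp.out.one_lt.ne' (hKcop.symm.eq_one_of_dvd hpY)
  exact quotient_pgroup_commutator p K hKtop hidx T hTidx hT

/-- a nontrivial Sylow subgroup of `G` cannot lie in the derived group of a nilpotent subgroup -/
theorem sylow_not_le_commutator_of_nilpotent {G : Type*} [Group G] [Finite G] (p : ℕ)
    [hp : Fact p.Prime] (P : Sylow p G) (hP1 : (P : Subgroup G) ≠ ⊥) (N : Subgroup G)
    (hN : Group.IsNilpotent N) (hle : (P : Subgroup G) ≤ ⁅N, N⁆) : False := by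
  haveI := hN
  have hcomm : ⁅N, N⁆ ≤ N := by
    rw [← Subgroup.map_subtype_commutator]; exact Subgroup.map_subtype_le _
  have hPN : (P : Subgroup G) ≤ N := hle.trans hcomm
  have hTidx : ¬ p ∣ ((P : Subgroup G).subgroupOf N).index := by
    have h1 : (P : Subgroup G).relIndex N * N.index = (P : Subgroup G).index :=
      Subgroup.relIndex_mul_index hPN
    intro hd
    apply P.not_dvd_index
    rw [← h1]
    exact Dvd.dvd.mul_right hd _
  have hpN : p ∣ Nat.card N := by
    obtain ⟨k, hk⟩ := IsPGroup.iff_card.mp P.isPGroup'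
    have h1 : Nat.card (P : Subgroup G) ∣ Nat.card N := Subgroup.card_dvd_of_le hPN
    rcases Nat.eq_zero_or_pos k with h0 | hpos
    · exfalso
      rw [h0, pow_zero] at hk
      exact hP1 (Subgroup.card_eq_one.mp hk)
    · rw [hk] at h1
      exact (dvd_pow_self p hpos.ne').trans h1
  have hTcomm : (P : Subgroup G).subgroupOf N ≤ commutator ↥N := by
    intro t ht
    have h1 : (t : G) ∈ ⁅N, N⁆ := hle (Subgroup.mem_subgroupOf.mp ht)
    rw [← Subgroup.map_subtype_commutator] at h1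
    obtain ⟨y, hy, hyt⟩ := h1
    have : y = t := Subtype.ext hyt
    rw [← this]; exact hy
  exact nilpotent_sylow_not_le_commutator p hpN _ hTidx hTcomm

section
variable {G : Type u} [Group G] [Finite G]

/-- Sylow data of a maximal nilpotent subgroup of a CN-group -/
theorem maxNil_sylow (hCN : Cfsg.IsCNGroup G) (H : Subgroup G) (hH : Group.IsNilpotent H)
    (hmax : ∀ L : Subgroup G, Group.IsNilpotent L → H ≤ L → L = H) (p : ℕ) [hp : Fact p.Prime]
    (hpH : p ∣ Nat.card H) :
    ∃ P : Sylow p G, (P : Subgroup G) ≤ H ∧ (P : Subgroup G) ≠ ⊥ ∧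
      H ≤ Subgroup.normalizer ((P : Subgroup G) : Set G) ∧
      ∃ z ∈ (P : Subgroup G), z ≠ 1 ∧ ∀ h ∈ H, z * h = h * z := by
  obtain ⟨P, hPH, hPp, hPcard, hPall⟩ := sylow_of_nilpotent H hH p
  have hcop := (Cfsg.Agent.S1477.result hCN H hH hmax).1
  have hfac := Cfsg.Agent.S1477.card_sylow_eq H hcop p hp.out hpH
  have hPidx : ¬ p ∣ P.index := by
    intro hd
    have h0 : Nat.card G = p ^ (Nat.card G).factorization p * P.index := by
      rw [← hfac, ← hPcard]; exact (Subgroup.card_mul_index P).symm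
    have h1 : p ^ ((Nat.card G).factorization p + 1) ∣ Nat.card G := by
      rw [pow_succ]
      conv_rhs => rw [h0]
      exact Nat.mul_dvd_mul_left _ hd
    exact Nat.pow_succ_factorization_not_dvd Nat.card_pos.ne' hp.out h1
  have hP1 : P ≠ ⊥ := by
    intro h
    have h1 : Nat.card P = 1 := Subgroup.card_eq_one.mpr h
    rw [hPcard] at h1
    have h2 : 0 < (Nat.card H).factorization p :=
      hp.out.factorization_pos_of_dvd Nat.card_pos.ne' hpH
    have h3 : 1 < p ^ (Nat.card H).factorization p := Nat.one_lt_pow h2.ne' hp.out.one_lt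
    omega
  have hnorm : ∀ h ∈ H, ∀ x ∈ P, h * x * h⁻¹ ∈ P := by
    intro h hh x hx
    apply hPall _ (H.mul_mem (H.mul_mem hh (hPH hx)) (H.inv_mem hh))
    obtain ⟨k, hk⟩ := Cfsg.Agent.S1477.exists_pow_eq_one_of_isPGroup hPp hx
    exact ⟨k, by rw [conj_pow, hk]; group⟩
  have hHN : H ≤ Subgroup.normalizer (P : Set G) := by
    intro h hh
    rw [Subgroup.mem_normalizer_iff]
    intro x
    constructor
    · exact hnorm h hh x
    · intro hx
      have h1 := hnorm h⁻¹ (H.inv_mem hh) _ hx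
      have h2 : h⁻¹ * (h * x * h⁻¹) * h⁻¹⁻¹ = x := by group
      rw [h2] at h1
      exact h1
  obtain ⟨z, hzP, hz1, hzc⟩ := exists_central_in_normal H P hH hPH hnorm hP1
  refine ⟨hPp.toSylow hPidx, ?_, ?_, ?_, z, ?_, hz1, hzc⟩
  · rw [IsPGroup.toSylow_coe]; exact hPH
  · rw [IsPGroup.toSylow_coe]; exact hP1
  · rw [IsPGroup.toSylow_coe]; exact hHN
  · rw [IsPGroup.toSylow_coe]; exact hzP

/-- the normalizer of a maximal nilpotent subgroup is not nilpotent -/
theorem maxNil_normalizer_not_nilpotent (hG : Cfsg.IsMinSimpleOddOrder G)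
    (hCN : Cfsg.IsCNGroup G) (H : Subgroup G) (hH : Group.IsNilpotent H)
    (hmax : ∀ L : Subgroup G, Group.IsNilpotent L → H ≤ L → L = H) :
    ¬ Group.IsNilpotent (Subgroup.normalizer (H : Set G)) := by
  intro hMnil
  haveI := hG.2.1
  have hH1 := maxNil_ne_bot hCN H hmax
  have hMH : Subgroup.normalizer (H : Set G) = H := hmax _ hMnil Subgroup.le_normalizer
  have hcard1 : Nat.card H ≠ 1 := fun h => hH1 (Subgroup.card_eq_one.mp h)
  obtain ⟨p, hp, hpH⟩ := Nat.exists_prime_and_dvd hcard1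
  haveI : Fact p.Prime := ⟨hp⟩
  have hp2 : p ≠ 2 := by
    rintro rfl
    have : 2 ∣ Nat.card G := hpH.trans (Subgroup.card_subgroup_dvd_card H)
    exact (Nat.not_even_iff_odd.mpr hG.1) (even_iff_two_dvd.mpr this)
  obtain ⟨P, hPH, hP1, hHNP, z, hzP, hz1, hzc⟩ := maxNil_sylow hCN H hH hmax p hpH
  obtain ⟨N, hNdef⟩ : ∃ N : Subgroup G,
    N = Subgroup.normalizer (Cfsg.centerThompsonAOf (P : Subgroup G) : Set G) := ⟨_, rfl⟩
  have hNP : Subgroup.normalizer ((P : Subgroup G) : Set G) ≤ N := by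
    rw [hNdef, ← Cfsg.Agent.Lib.H4.ZJ.ZJ_abClass]
    exact Cfsg.Agent.Lib.H4.ZJ.normalizer_le_normalizer_ZJ _
  have hHN : H ≤ N := hHNP.trans hNP
  have hZ1 : Cfsg.centerThompsonAOf (P : Subgroup G) ≠ ⊥ := by
    intro h
    apply Cfsg.Agent.Lib.L0.zOf_ne_bot (P : Subgroup G) P.isPGroup' hP1
    rw [eq_bot_iff, ← h]
    exact Cfsg.Agent.Lib.L0.zOf_le_centerThompsonAOf _
  have hZp : IsPGroup p (Cfsg.centerThompsonAOf (P : Subgroup G)) :=
    P.isPGroup'.to_le (Cfsg.Agent.Lib.L0.centerThompsonAOf_le _)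
  have hNtop : N ≠ ⊤ := by
    rw [hNdef]; exact minSimple_normalizer_ne_top hG p _ hZp hZ1
  have htr := minSimple_sylow_le_commutator hG p hp2 P
  rw [← hNdef] at htr
  rcases minSimple_proper_structure hG hCN N hNtop with hNnil | ⟨E, hF⟩
  · exact sylow_not_le_commutator_of_nilpotent p P hP1 N hNnil htr
  · have hPK : (P : Subgroup G) ≤ Cfsg.fittingHallOf N := htr.trans hF.commutator_le
    have hHK : H ≤ Cfsg.fittingHallOf N := fun h hh =>
      hF.centralizer_le (hPK hzP) hz1 (hHN hh) (hzc h hh).symm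
    have hKH : Cfsg.fittingHallOf N = H := hmax _ hF.nil hHK
    apply hF.not_le
    have h1 := hF.normal
    rw [hKH, hMH] at h1
    rw [hKH]
    exact h1

/-- the normalizer of a maximal nilpotent subgroup `H` is of Frobenius type with kernel `H` -/
theorem maxNil_frobType (hG : Cfsg.IsMinSimpleOddOrder G)
    (hCN : Cfsg.IsCNGroup G) (H : Subgroup G) (hH : Group.IsNilpotent H)
    (hmax : ∀ L : Subgroup G, Group.IsNilpotent L → H ≤ L → L = H) :
    ∃ E : Subgroup G, IsFrobType H E (Subgroup.normalizer (H : Set G)) := by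
  haveI := hG.2.1
  have hH1 := maxNil_ne_bot hCN H hmax
  have hMtop := minSimple_normalizer_ne_top_of_nilpotent hG H hH hH1
  rcases minSimple_proper_structure hG hCN _ hMtop with hnil | ⟨E, hF⟩
  · exact (maxNil_normalizer_not_nilpotent hG hCN H hH hmax hnil).elim
  · have hcop := (Cfsg.Agent.S1477.result hCN H hH hmax).1
    have hHK : H ≤ Cfsg.fittingHallOf (Subgroup.normalizer (H : Set G)) :=
      le_fittingHallOf Subgroup.le_normalizer hH le_rfl
        (Nat.Coprime.coprime_dvd_right (Subgroup.relIndex_dvd_index_of_le Subgroup.le_normalizer)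
          hcop)
    have hKH : Cfsg.fittingHallOf (Subgroup.normalizer (H : Set G)) = H := hmax _ hF.nil hHK
    rw [hKH] at hF
    exact ⟨E, hF⟩

/-- the normalizer of a maximal nilpotent subgroup is a maximal subgroup -/
theorem maxNil_coatom (hG : Cfsg.IsMinSimpleOddOrder G)
    (hCN : Cfsg.IsCNGroup G) (H : Subgroup G) (hH : Group.IsNilpotent H)
    (hmax : ∀ L : Subgroup G, Group.IsNilpotent L → H ≤ L → L = H) :
    IsCoatom (Subgroup.normalizer (H : Set G)) := by
  haveI := hG.2.1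
  obtain ⟨E, hF⟩ := maxNil_frobType hG hCN H hH hmax
  have hH1 := maxNil_ne_bot hCN H hmax
  refine ⟨minSimple_normalizer_ne_top_of_nilpotent hG H hH hH1, ?_⟩
  intro M₂ hlt
  by_contra hM₂
  rcases minSimple_proper_structure hG hCN M₂ hM₂ with hnil | ⟨E₂, hF₂⟩
  · exact hF.not_nilpotent (Cfsg.Agent.S1473.isNilpotent_of_le hnil hlt.le)
  · have h1 : H ≤ Cfsg.fittingHallOf M₂ :=
      hF.le_commutator.trans ((Subgroup.commutator_mono hlt.le hlt.le).trans hF₂.commutator_le)
    have h2 : Cfsg.fittingHallOf M₂ = H := hmax _ hF₂.nil h1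
    have h3 := hF₂.normal
    rw [h2] at h3
    exact not_le_of_gt hlt h3

/-- distinct Sylow `p`-subgroups of a minimal simple CN-group of odd order meet trivially -/
theorem minSimple_sylow_ti (hG : Cfsg.IsMinSimpleOddOrder G) (hCN : Cfsg.IsCNGroup G)
    (p : ℕ) [hp : Fact p.Prime] (P₁ P₂ : Sylow p G) (hne : P₁ ≠ P₂) :
    (P₁ : Subgroup G) ⊓ (P₂ : Subgroup G) = ⊥ := by
  classical
  by_contra hcon
  obtain ⟨⟨Q₁, Q₂⟩, ⟨hQne, hQ1⟩, hQmax⟩ := Set.exists_max_image
    {x : Sylow p G × Sylow p G | x.1 ≠ x.2 ∧ (x.1 : Subgroup G) ⊓ (x.2 : Subgroup G) ≠ ⊥}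
    (fun x => Nat.card ((x.1 : Subgroup G) ⊓ (x.2 : Subgroup G) : Subgroup G))
    (Set.toFinite _) ⟨(P₁, P₂), hne, hcon⟩
  simp only at hQne hQ1 hQmax
  obtain ⟨D, hDdef⟩ : ∃ D : Subgroup G, D = (Q₁ : Subgroup G) ⊓ (Q₂ : Subgroup G) := ⟨_, rfl⟩
  rw [← hDdef] at hQ1 hQmax
  have hDQ₁ : D ≤ (Q₁ : Subgroup G) := by rw [hDdef]; exact inf_le_left
  have hDQ₂ : D ≤ (Q₂ : Subgroup G) := by rw [hDdef]; exact inf_le_right
  have hDp : IsPGroup p D := Q₁.isPGroup'.to_le hDQ₁
  have hltQ₁ : D < (Q₁ : Subgroup G) := by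
    refine lt_of_le_of_ne hDQ₁ ?_
    intro h
    apply hQne
    have h1 : (Q₁ : Subgroup G) ≤ Q₂ := by rw [← h]; exact hDQ₂
    have h2 := Q₁.is_maximal' Q₂.isPGroup' h1
    exact Sylow.ext h2.symm
  have hltQ₂ : D < (Q₂ : Subgroup G) := by
    refine lt_of_le_of_ne hDQ₂ ?_
    intro h
    apply hQne
    have h1 : (Q₂ : Subgroup G) ≤ Q₁ := by rw [← h]; exact hDQ₁
    have h2 := Q₂.is_maximal' Q₁.isPGroup' h1
    exact Sylow.ext h2
  have hNtop : Subgroup.normalizer (D : Set G) ≠ ⊤ := minSimple_normalizer_ne_top hG p D hDp hQ1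
  -- a `p`-subgroup of the normalizer containing all its `p`-elements
  obtain ⟨Q, hQN, hQp, hQall⟩ : ∃ Q : Subgroup G, Q ≤ Subgroup.normalizer (D : Set G) ∧
      IsPGroup p Q ∧ ∀ x ∈ Subgroup.normalizer (D : Set G), (∃ k : ℕ, x ^ p ^ k = 1) → x ∈ Q := by
    rcases minSimple_proper_structure hG hCN _ hNtop with hnil | ⟨E, hF⟩
    · obtain ⟨Q, h1, h2, -, h4⟩ := sylow_of_nilpotent _ hnil p
      exact ⟨Q, h1, h2, h4⟩
    · have hpK := hF.dvd_card_of_normal_pgroup Subgroup.le_normalizer le_rfl hDp hQ1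
      obtain ⟨Q, h1, h2, -, h4⟩ := sylow_of_nilpotent _ hF.nil p
      refine ⟨Q, h1.trans hF.K_le, h2, ?_⟩
      rintro x hx ⟨k, hk⟩
      exact h4 x (hF.pelement_mem hp.out hpK hx hk) ⟨k, hk⟩
  obtain ⟨P₃, hQP₃⟩ := hQp.exists_le_sylow
  have hDP₃ : D ≤ (P₃ : Subgroup G) := by
    intro d hd
    apply hQP₃
    exact hQall d (Subgroup.le_normalizer hd)
      (Cfsg.Agent.S1477.exists_pow_eq_one_of_isPGroup hDp hd)
  have key : ∀ R : Sylow p G, D < (R : Subgroup G) →
      (∀ R' : Sylow p G, R ≠ R' → (R : Subgroup G) ⊓ (R' : Subgroup G) ≠ ⊥ →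
        Nat.card ((R : Subgroup G) ⊓ (R' : Subgroup G) : Subgroup G) ≤ Nat.card D) → R = P₃ := by
    intro R hlt hmaxR
    by_contra hRP
    obtain ⟨x, hxR, hxN, hxD⟩ := exists_normalizer_of_lt_nilpotent R.isPGroup'.isNilpotent hlt
    have hxP₃ : x ∈ (P₃ : Subgroup G) :=
      hQP₃ (hQall x hxN (Cfsg.Agent.S1477.exists_pow_eq_one_of_isPGroup R.isPGroup' hxR))
    have hlt' : D < (R : Subgroup G) ⊓ (P₃ : Subgroup G) := by
      refine lt_of_le_of_ne (le_inf hlt.le hDP₃) ?_
      intro h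
      apply hxD
      rw [h]
      exact ⟨hxR, hxP₃⟩
    have h1 : (R : Subgroup G) ⊓ (P₃ : Subgroup G) ≠ ⊥ := by
      intro h
      rw [h] at hlt'
      exact not_lt_bot hlt'
    have h2 := hmaxR P₃ hRP h1
    have h3 := Cfsg.Agent.Lib.L0.card_lt_card_of_lt hlt'
    omega
  have e1 : Q₁ = P₃ := key Q₁ hltQ₁ (fun R' hR' h => hQmax (Q₁, R') ⟨hR', h⟩)
  have e2 : Q₂ = P₃ := by
    apply key Q₂ hltQ₂
    intro R' hR' h
    have := hQmax (Q₂, R') ⟨hR', h⟩
    exact this
  exact hQne (e1.trans e2.symm)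

/-- maximal nilpotent subgroups are TI -/
theorem maxNil_ti (hG : Cfsg.IsMinSimpleOddOrder G)
    (hCN : Cfsg.IsCNGroup G) (H : Subgroup G) (hH : Group.IsNilpotent H)
    (hmax : ∀ L : Subgroup G, Group.IsNilpotent L → H ≤ L → L = H) (g : G)
    (hg : H.map (MulAut.conj g).toMonoidHom ≠ H) :
    H ⊓ H.map (MulAut.conj g).toMonoidHom = ⊥ := by
  haveI := hG.2.1
  have hH1 := maxNil_ne_bot hCN H hmax
  have hcard1 : Nat.card H ≠ 1 := fun h => hH1 (Subgroup.card_eq_one.mp h)
  by_cases hpp : IsPrimePow (Nat.card H)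
  · obtain ⟨p, k, hp, hk, hpk⟩ := hpp
    have hp' : p.Prime := Nat.prime_iff.mpr hp
    haveI : Fact p.Prime := ⟨hp'⟩
    have hHp : IsPGroup p H := IsPGroup.of_card hpk.symm
    have hcop := (Cfsg.Agent.S1477.result hCN H hH hmax).1
    have hidx : ¬ p ∣ H.index := by
      intro hd
      rw [← hpk] at hcop
      have : p ∣ p ^ k := dvd_pow_self p hk.ne'
      exact hp'.one_lt.ne' (Nat.eq_one_of_dvd_coprimes hcop this hd)
    have hHgp : IsPGroup p (H.map (MulAut.conj g).toMonoidHom) := hHp.map _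
    have hidx' : ¬ p ∣ (H.map (MulAut.conj g).toMonoidHom).index := by
      have h1 : (H.map (MulAut.conj g).toMonoidHom).index = H.index :=
        Subgroup.index_map_equiv H (MulAut.conj g)
      rw [h1]
      exact hidx
    have h2 := minSimple_sylow_ti hG hCN p (hHp.toSylow hidx) (hHgp.toSylow hidx') (by
      intro h
      apply hg
      have h3 := congrArg Sylow.toSubgroup h
      rw [IsPGroup.toSylow_coe, IsPGroup.toSylow_coe] at h3
      exact h3.symm)
    rwa [IsPGroup.toSylow_coe, IsPGroup.toSylow_coe] at h2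
  · exact (Cfsg.Agent.S1477.result hCN H hH hmax).2.1 hpp hcard1 g hg

/-- structure of maximal subgroups -/
theorem coatom_structure (hG : Cfsg.IsMinSimpleOddOrder G) (hCN : Cfsg.IsCNGroup G)
    (M : Subgroup G) (hM : IsCoatom M) :
    ∃ E : Subgroup G, IsFrobType (Cfsg.fittingHallOf M) E M ∧
      ∀ L : Subgroup G, Group.IsNilpotent L → Cfsg.fittingHallOf M ≤ L →
        L = Cfsg.fittingHallOf M := by
  rcases minSimple_proper_structure hG hCN M hM.1 with hnil | ⟨E, hF⟩
  · exfalso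
    have hmaxM : ∀ L : Subgroup G, Group.IsNilpotent L → M ≤ L → L = M := by
      intro L hL hML
      rcases eq_or_lt_of_le hML with h | h
      · exact h.symm
      · have h1 := hM.2 L h
        exfalso
        apply minSimple_not_nilpotent hG
        rw [h1] at hL
        haveI := hL
        exact Group.nilpotent_of_mulEquiv (Subgroup.topEquiv (G := G))
    have h1 := maxNil_coatom hG hCN M hnil hmaxM
    have h2 : Subgroup.normalizer (M : Set G) = M := by
      rcases eq_or_lt_of_le (Subgroup.le_normalizer (H := M)) with h | h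
      · exact h.symm
      · exact absurd (hM.2 _ h) h1.1
    apply maxNil_normalizer_not_nilpotent hG hCN M hnil hmaxM
    rw [h2]; exact hnil
  · refine ⟨E, hF, ?_⟩
    have hNK : Subgroup.normalizer (Cfsg.fittingHallOf M : Set G) = M := by
      rcases eq_or_lt_of_le hF.normal with h | h
      · exact h.symm
      · exact absurd (hM.2 _ h)
          (minSimple_normalizer_ne_top_of_nilpotent hG _ hF.nil hF.K_ne)
    intro L hL hKL
    by_contra hne
    have hlt : Cfsg.fittingHallOf M < L := lt_of_le_of_ne hKL (Ne.symm hne)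
    obtain ⟨x, hxL, hxN, hxK⟩ := exists_normalizer_of_lt_nilpotent hL hlt
    rw [hNK] at hxN
    have hL₁ : Group.IsNilpotent (L ⊓ M : Subgroup G) :=
      Cfsg.Agent.S1473.isNilpotent_of_le hL inf_le_left
    have h1 := hF.nilpotent_le hL₁ (le_inf hKL hF.K_le) inf_le_right
    exact hxK (h1 ⟨hxL, hxN⟩)

end

end Cfsg.Agent.Lib.H8
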