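import Mathlib
import Cfsg.Agent.Lib.H8.MinSimpleMaxNil

/-!
# Conjugates of maximal nilpotent subgroups and a product formula (helper8 library)
-/

set_option autoImplicit false
open Cfsg

universe u

namespace Cfsg.Agent.Lib.H8

theorem map_conj_inv_map_conj {G : Type*} [Group G] (H : Subgroup G) (g : G) :
    (H.map (MulAut.conj g).toMonoidHom).map (MulAut.conj g⁻¹).toMonoidHom = H := by
  rw [Subgroup.map_map]
  have : (MulAut.conj g⁻¹).toMonoidHom.comp (MulAut.conj g).toMonoidHom = MonoidHom.id G := by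
    ext x
    simp only [MonoidHom.comp_apply, MulEquiv.coe_toMonoidHom, MulAut.conj_apply,
      MonoidHom.id_apply]
    group
  rw [this, Subgroup.map_id]

/-- conjugates of maximal nilpotent subgroups are maximal nilpotent -/
theorem maxNil_conj {G : Type*} [Group G] (H : Subgroup G) (hH : Group.IsNilpotent H)
    (hmax : ∀ L : Subgroup G, Group.IsNilpotent L → H ≤ L → L = H) (g : G) :
    Group.IsNilpotent (H.map (MulAut.conj g).toMonoidHom) ∧
    ∀ L : Subgroup G, Group.IsNilpotent L → H.map (MulAut.conj g).toMonoidHom ≤ L →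
      L = H.map (MulAut.conj g).toMonoidHom := by
  refine ⟨Cfsg.Agent.S1473.isNilpotent_map _ hH, ?_⟩
  intro L hL hle
  have h1 : H ≤ L.map (MulAut.conj g⁻¹).toMonoidHom := by
    rw [← map_conj_inv_map_conj H g]; exact Subgroup.map_mono hle
  have h2 := hmax _ (Cfsg.Agent.S1473.isNilpotent_map _ hL) h1
  have h3 := map_conj_inv_map_conj L g⁻¹
  rw [inv_inv, h2] at h3
  exact h3.symm

/-- every nilpotent subgroup of a finite group lies in a maximal nilpotent subgroup -/
theorem exists_maxNil_ge {G : Type*} [Group G] [Finite G] (N : Subgroup G)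
    (hN : Group.IsNilpotent N) :
    ∃ L : Subgroup G, N ≤ L ∧ Group.IsNilpotent L ∧
      ∀ L' : Subgroup G, Group.IsNilpotent L' → L ≤ L' → L' = L := by
  obtain ⟨L, ⟨hL1, hL2⟩, hLmax⟩ := Set.exists_max_image
    {L : Subgroup G | Group.IsNilpotent L ∧ N ≤ L} (fun L => Nat.card L) (Set.toFinite _)
    ⟨N, hN, le_rfl⟩
  refine ⟨L, hL2, hL1, ?_⟩
  intro L' hL' hle
  have h1 := hLmax L' ⟨hL', hL2.trans hle⟩
  exact (Subgroup.eq_of_le_of_card_ge hle h1).symm

/-- the largest normal nilpotent Hall subgroup of the normalizer of a maximal nilpotent subgroup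
`H` of a CN-group is `H` -/
theorem maxNil_fittingHallOf_normalizer {G : Type u} [Group G] [Finite G]
    (hCN : Cfsg.IsCNGroup G) (H : Subgroup G) (hH : Group.IsNilpotent H)
    (hmax : ∀ L : Subgroup G, Group.IsNilpotent L → H ≤ L → L = H) :
    Cfsg.fittingHallOf (Subgroup.normalizer (H : Set G)) = H := by
  have hcop := (Cfsg.Agent.S1477.result hCN H hH hmax).1
  have hHK : H ≤ Cfsg.fittingHallOf (Subgroup.normalizer (H : Set G)) :=
    le_fittingHallOf Subgroup.le_normalizer hH le_rfl
      (Nat.Coprime.coprime_dvd_right (Subgroup.relIndex_dvd_index_of_le Subgroup.le_normalizer)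
        hcop)
  exact hmax _ (fittingHallOf_isNilpotent _) hHK

/-- a maximal subgroup is the normalizer of its largest normal nilpotent Hall subgroup -/
theorem coatom_normalizer_fittingHallOf {G : Type u} [Group G] [Finite G]
    (hG : Cfsg.IsMinSimpleOddOrder G) (hCN : Cfsg.IsCNGroup G)
    (M : Subgroup G) (hM : IsCoatom M) :
    Subgroup.normalizer (Cfsg.fittingHallOf M : Set G) = M := by
  obtain ⟨E, hF, -⟩ := coatom_structure hG hCN M hM
  rcases eq_or_lt_of_le hF.normal with h | h
  · exact h.symm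
  · exact absurd (hM.2 _ h) (minSimple_normalizer_ne_top_of_nilpotent hG _ hF.nil hF.K_ne)

/-- pairwise coprime Hall divisors covering all primes multiply to `n` -/
theorem prod_eq_of_hall_cover {ι : Type*} [Fintype ι] [DecidableEq ι] (n : ℕ) (hn : n ≠ 0)
    (a idx : ι → ℕ) (hmul : ∀ i, a i * idx i = n) (hcop : ∀ i, (a i).Coprime (idx i))
    (hpw : ∀ i j, i ≠ j → (a i).Coprime (a j))
    (hcover : ∀ p : ℕ, p.Prime → p ∣ n → ∃ i, p ∣ a i) :
    ∏ i, a i = n := by
  have hdvd : ∀ s : Finset ι, ∏ i ∈ s, a i ∣ n := by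
    intro s
    induction s using Finset.induction_on with
    | empty => simp
    | insert i s hi ih =>
      rw [Finset.prod_insert hi]
      apply Nat.Coprime.mul_dvd_of_dvd_of_dvd
      · apply Nat.Coprime.prod_right
        intro j hj
        exact hpw i j (fun h => hi (h ▸ hj))
      · exact Dvd.intro _ (hmul i)
      · exact ih
  obtain ⟨m, hm⟩ := hdvd Finset.univ
  by_cases hm1 : m = 1
  · rw [hm, hm1, mul_one]
  · exfalso
    obtain ⟨p, hp, hpm⟩ := Nat.exists_prime_and_dvd hm1
    have hpn : p ∣ n := by rw [hm]; exact Dvd.dvd.mul_left hpm _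
    obtain ⟨i, hi⟩ := hcover p hp hpn
    have h1 : a i * idx i = a i * ((∏ j ∈ Finset.univ.erase i, a j) * m) := by
      rw [hmul i, ← mul_assoc, Finset.mul_prod_erase Finset.univ a (Finset.mem_univ i)]
      exact hm
    have hai : a i ≠ 0 := by
      intro h
      have := hmul i
      rw [h, zero_mul] at this
      exact hn this.symm
    have h2 : idx i = (∏ j ∈ Finset.univ.erase i, a j) * m :=
      Nat.eq_of_mul_eq_mul_left (Nat.pos_of_ne_zero hai) h1
    have h3 : p ∣ idx i := by rw [h2]; exact Dvd.dvd.mul_left hpm _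
    exact hp.one_lt.ne' (Nat.eq_one_of_dvd_coprimes (hcop i) hi h3)

end Cfsg.Agent.Lib.H8
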