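import Mathlib
import Cfsg.Agent.Lib.H3.FrattiniFitting

/-!
# The index of the derived subgroup of a nilpotent group (helper8)

A finite nilpotent group whose abelianization has squarefree order is cyclic; hence for a
nonabelian nilpotent group `|F : F'|` is divisible by the square of a prime.
-/

set_option autoImplicit false

namespace Cfsg.Agent.Lib.H8

theorem exists_prime_sq_dvd_index_commutator (F : Type*) [Group F] [Finite F]
    [Group.IsNilpotent F] (hna : ¬ ∀ a b : F, a * b = b * a) :
    ∃ p : ℕ, p.Prime ∧ p ^ 2 ∣ (commutator F).index := by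
  by_contra hcon
  have hsf : Squarefree (commutator F).index := by
    rw [Nat.squarefree_iff_prime_squarefree]
    intro p hp hdvd
    exact hcon ⟨p, hp, by rwa [sq]⟩
  have hcard : Nat.card (Abelianization F) = (commutator F).index :=
    (Subgroup.index_eq_card _).symm
  haveI : IsZGroup (Abelianization F) := IsZGroup.of_squarefree (hcard ▸ hsf)
  haveI : IsCyclic (Abelianization F) := inferInstance
  obtain ⟨g, hg⟩ := IsCyclic.exists_generator (α := Abelianization F)
  obtain ⟨x, rfl⟩ := QuotientGroup.mk_surjective g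
  have hsup : Subgroup.zpowers x ⊔ commutator F = ⊤ := by
    rw [eq_top_iff]
    intro y _
    obtain ⟨k, hk⟩ := Subgroup.mem_zpowers_iff.mp (hg (QuotientGroup.mk y))
    have h1 : (x ^ k)⁻¹ * y ∈ commutator F := by
      rw [← QuotientGroup.eq]
      exact hk
    have e : y = x ^ k * ((x ^ k)⁻¹ * y) := by group
    rw [e]
    exact Subgroup.mul_mem_sup (Subgroup.zpow_mem_zpowers x k) h1
  have htop : Subgroup.zpowers x = ⊤ := by
    apply frattini_nongenerating
    rw [eq_top_iff, ← hsup]
    exact sup_le_sup_left (Cfsg.Agent.Lib.H3.commutator_le_frattini_of_isNilpotent F) _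
  apply hna
  intro a b
  have ha : a ∈ Subgroup.zpowers x := htop ▸ Subgroup.mem_top a
  have hb : b ∈ Subgroup.zpowers x := htop ▸ Subgroup.mem_top b
  obtain ⟨i, rfl⟩ := Subgroup.mem_zpowers_iff.mp ha
  obtain ⟨j, rfl⟩ := Subgroup.mem_zpowers_iff.mp hb
  rw [← zpow_add, ← zpow_add, add_comm]

theorem subgroupOf_commutator_self {G : Type*} [Group G] (K : Subgroup G) :
    (⁅K, K⁆).subgroupOf K = commutator K := by
  rw [← Subgroup.map_subtype_commutator]
  exact Subgroup.comap_map_eq_self_of_injective K.subtype_injective _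

theorem relIndex_commutator_eq {G : Type*} [Group G] (K : Subgroup G) :
    (⁅K, K⁆).relIndex K = (commutator K).index := by
  rw [Subgroup.relIndex, subgroupOf_commutator_self]

/-- nilpotent, `|K : K'| ≠ |K|` (i.e. `K` nonabelian) ⇒ `p² ∣ |K : K'|` for some prime `p`. -/
theorem exists_prime_sq_dvd_relIndex_commutator {G : Type*} [Group G] [Finite G] (K : Subgroup G)
    (hK : Group.IsNilpotent K) (hna : (⁅K, K⁆).relIndex K ≠ Nat.card K) :
    ∃ p : ℕ, p.Prime ∧ p ^ 2 ∣ (⁅K, K⁆).relIndex K := by
  rw [relIndex_commutator_eq]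
  apply exists_prime_sq_dvd_index_commutator K
  intro hcomm
  apply hna
  have hbot : ⁅K, K⁆ = ⊥ := by
    rw [Subgroup.commutator_eq_bot_iff_le_centralizer]
    intro a ha b hb
    have := hcomm ⟨b, hb⟩ ⟨a, ha⟩
    exact congrArg Subtype.val this
  rw [hbot, Subgroup.relIndex_bot_left]

/-- a nontrivial nilpotent subgroup is not perfect -/
theorem commutator_ne_self_of_nilpotent {G : Type*} [Group G] (K : Subgroup G)
    (hK : Group.IsNilpotent K) (hK1 : K ≠ ⊥) : ⁅K, K⁆ ≠ K := by
  intro heq
  haveI : Nontrivial K := (Subgroup.nontrivial_iff_ne_bot K).mpr hK1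
  have h1 : commutator K < ⊤ := Group.IsSolvable.commutator_lt_top_of_nontrivial K
  have h2 : commutator K = ⊤ := by
    rw [← subgroupOf_commutator_self, heq]
    exact Subgroup.subgroupOf_self K
  exact h1.ne h2

end Cfsg.Agent.Lib.H8
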