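import Mathlib
import Cfsg.Agent.Lib.H8.MinSimpleCover
import Cfsg.Agent.Lib.H8.ExcNilFamily
import Cfsg.Agent.Lib.H8.NilCommIndex

/-!
# There is no minimal simple CN-group of odd order (helper8)

The maximal nilpotent subgroups of a minimal simple CN-group of odd order are T.I. Hall subgroups
with Frobenius normalizers; representatives of their conjugacy classes form a covering family to
which `false_of_nil_family` applies.
-/

set_option autoImplicit false
open Cfsg

universe u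

namespace Cfsg.Agent.Lib.H8

open Cfsg.Agent.Lib.L0
open scoped Pointwise

section
variable {G : Type u} [Group G] [Finite G]

/-- maximal nilpotent subgroups whose orders are not coprime are conjugate -/
theorem maxNil_conj_of_not_coprime (hG : Cfsg.IsMinSimpleOddOrder G) (hCN : Cfsg.IsCNGroup G)
    (H₁ H₂ : Subgroup G) (hH₁ : Group.IsNilpotent H₁)
    (hmax₁ : ∀ L : Subgroup G, Group.IsNilpotent L → H₁ ≤ L → L = H₁)
    (hH₂ : Group.IsNilpotent H₂)
    (hmax₂ : ∀ L : Subgroup G, Group.IsNilpotent L → H₂ ≤ L → L = H₂)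
    (hnc : ¬ Nat.Coprime (Nat.card H₁) (Nat.card H₂)) :
    ∃ g : G, H₂ = H₁.map (MulAut.conj g).toMonoidHom := by
  obtain ⟨p, hp, hp1, hp2⟩ := Nat.Prime.not_coprime_iff_dvd.mp hnc
  haveI : Fact p.Prime := ⟨hp⟩
  obtain ⟨P₁, hP₁H, hP₁ne, -, z₁, hz₁P, hz₁1, hz₁c⟩ := maxNil_sylow hCN H₁ hH₁ hmax₁ p hp1
  obtain ⟨P₂, hP₂H, -, -, -⟩ := maxNil_sylow hCN H₂ hH₂ hmax₂ p hp2
  obtain ⟨g, hg⟩ := MulAction.exists_smul_eq G P₁ P₂
  refine ⟨g, ?_⟩
  set z := g * z₁ * g⁻¹ with hz
  have hzP₂ : z ∈ (P₂ : Subgroup G) := by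
    have h1 : ((g • P₁ : Sylow p G) : Subgroup G) = MulAut.conj g • (P₁ : Subgroup G) := rfl
    rw [← hg, h1]
    have h2 := Subgroup.smul_mem_pointwise_smul z₁ (MulAut.conj g) (P₁ : Subgroup G) hz₁P
    simpa [MulAut.smul_def] using h2
  have hz1 : z ≠ 1 := by
    intro h
    apply hz₁1
    have : z₁ = g⁻¹ * z * g := by rw [hz]; group
    rw [this, h]; group
  -- `H₁^g ≤ C_G(z)`
  have hle : H₁.map (MulAut.conj g).toMonoidHom ≤ Subgroup.centralizer ({z} : Set G) := by
    rintro y ⟨x, hx, rfl⟩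
    rw [Subgroup.mem_centralizer_singleton_iff]
    show g * x * g⁻¹ * z = z * (g * x * g⁻¹)
    rw [hz]
    have := hz₁c x hx
    calc g * x * g⁻¹ * (g * z₁ * g⁻¹) = g * (x * z₁) * g⁻¹ := by group
      _ = g * (z₁ * x) * g⁻¹ := by rw [this]
      _ = g * z₁ * g⁻¹ * (g * x * g⁻¹) := by group
  obtain ⟨hnil', hmax'⟩ := maxNil_conj H₁ hH₁ hmax₁ g
  have hceq := hmax' _ (hCN z hz1) hle
  -- `C_G(z) ≤ H₂`
  have hC := (Cfsg.Agent.S1477.result hCN H₂ hH₂ hmax₂).2.2 (maxNil_ti hG hCN H₂ hH₂ hmax₂)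
    z (hP₂H hzP₂) hz1
  rw [hceq] at hC
  exact hmax' H₂ hH₂ hC

end

/-- maximal nilpotent subgroups -/
abbrev MaxNil (G : Type u) [Group G] : Type u :=
  {H : Subgroup G // Group.IsNilpotent H ∧
    ∀ L : Subgroup G, Group.IsNilpotent L → H ≤ L → L = H}

theorem map_conj_one {G : Type*} [Group G] (H : Subgroup G) :
    H.map (MulAut.conj (1 : G)).toMonoidHom = H := by
  ext x
  rw [Subgroup.mem_map]
  constructor
  · rintro ⟨y, hy, rfl⟩
    simpa using hy
  · intro hx
    exact ⟨x, hx, by simp⟩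

theorem map_conj_mul {G : Type*} [Group G] (H : Subgroup G) (a b : G) :
    (H.map (MulAut.conj a).toMonoidHom).map (MulAut.conj b).toMonoidHom
      = H.map (MulAut.conj (b * a)).toMonoidHom := by
  rw [Subgroup.map_map]
  congr 1
  ext x
  simp [mul_assoc]

/-- conjugacy of maximal nilpotent subgroups -/
def maxNilSetoid (G : Type u) [Group G] : Setoid (MaxNil G) where
  r H₁ H₂ := ∃ g : G, H₂.1 = H₁.1.map (MulAut.conj g).toMonoidHom
  iseqv := by
    refine ⟨fun H => ⟨1, (map_conj_one H.1).symm⟩, ?_, ?_⟩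
    · rintro H₁ H₂ ⟨g, hg⟩
      refine ⟨g⁻¹, ?_⟩
      rw [hg, map_conj_inv_map_conj]
    · rintro H₁ H₂ H₃ ⟨g, hg⟩ ⟨g', hg'⟩
      refine ⟨g' * g, ?_⟩
      rw [hg', hg, map_conj_mul]

section
variable {G : Type u} [Group G] [Finite G]

theorem mem_normalizer_of_map_conj_eq {H : Subgroup G} {g : G}
    (h : H.map (MulAut.conj g).toMonoidHom = H) : g ∈ Subgroup.normalizer (H : Set G) := by
  rw [Subgroup.mem_normalizer_iff]
  intro x
  constructor
  · intro hx
    rw [← h]
    exact Subgroup.mem_map.mpr ⟨x, hx, rfl⟩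
  · intro hx
    rw [← h] at hx
    obtain ⟨y, hy, hyx⟩ := Subgroup.mem_map.mp hx
    have : y = x := by
      have h1 : g * y * g⁻¹ = g * x * g⁻¹ := hyx
      have h2 : y = g⁻¹ * (g * y * g⁻¹) * g := by group
      rw [h2, h1]; group
    rw [← this]; exact hy

set_option maxHeartbeats 800000 in
/-- There is no minimal simple CN-group of odd order. -/
theorem minSimple_cn_false (hG : Cfsg.IsMinSimpleOddOrder G) (hCN : Cfsg.IsCNGroup G) : False := by
  classical
  haveI := hG.2.1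
  haveI : Fintype G := Fintype.ofFinite G
  letI s : Setoid (MaxNil G) := maxNilSetoid G
  let ι := Quotient s
  haveI : Finite (MaxNil G) := Subtype.finite
  haveI : Fintype ι := Fintype.ofFinite ι
  let A : ι → Subgroup G := fun q => (Quotient.out q).1
  have hAnil : ∀ q, Group.IsNilpotent (A q) := fun q => (Quotient.out q).2.1
  have hAmax : ∀ q, ∀ L : Subgroup G, Group.IsNilpotent L → A q ≤ L → L = A q :=
    fun q => (Quotient.out q).2.2
  have hAne : ∀ q, A q ≠ ⊥ := fun q => maxNil_ne_bot hCN (A q) (hAmax q)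
  have hAti : ∀ q, ∀ g : G, (A q).map (MulAut.conj g).toMonoidHom ≠ A q →
      A q ⊓ (A q).map (MulAut.conj g).toMonoidHom = ⊥ :=
    fun q => maxNil_ti hG hCN (A q) (hAnil q) (hAmax q)
  -- some maximal nilpotent subgroup exists
  obtain ⟨L₀, -, hL₀, hL₀max⟩ := exists_maxNil_ge (⊥ : Subgroup G)
    (Cfsg.Agent.S1473.isNilpotent_of_le (hCN _ (exists_ne (1 : G)).choose_spec) bot_le)
  haveI : Nonempty ι := ⟨Quotient.mk s ⟨L₀, hL₀, hL₀max⟩⟩
  have hfrob : ∀ q, FrobTI (A q) := by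
    intro q
    refine ⟨?_, ?_⟩
    · intro g hg k hk hgk
      have hne : (A q).map (MulAut.conj g).toMonoidHom ≠ A q :=
        fun h => hg (mem_normalizer_of_map_conj_eq h)
      have h1 : g * k * g⁻¹ ∈ A q ⊓ (A q).map (MulAut.conj g).toMonoidHom :=
        Subgroup.mem_inf.mpr ⟨hgk, Subgroup.mem_map.mpr ⟨k, hk, rfl⟩⟩
      rw [hAti q g hne, Subgroup.mem_bot] at h1
      have : k = g⁻¹ * (g * k * g⁻¹) * g := by group
      rw [this, h1]; group
    · exact (Cfsg.Agent.S1477.result hCN (A q) (hAnil q) (hAmax q)).2.2 (hAti q)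
  have hlt : ∀ q, A q < FrobTI.nz (A q) := by
    intro q
    obtain ⟨E, hF⟩ := maxNil_frobType hG hCN (A q) (hAnil q) (hAmax q)
    exact lt_of_le_of_ne Subgroup.le_normalizer (fun h => hF.not_le (le_of_eq h.symm))
  have hcop : ∀ q q' : ι, q ≠ q' → Nat.Coprime (Nat.card (A q)) (Nat.card (A q')) := by
    intro q q' hne
    by_contra hnc
    obtain ⟨g, hg⟩ := maxNil_conj_of_not_coprime hG hCN (A q) (A q') (hAnil q) (hAmax q)
      (hAnil q') (hAmax q') hnc
    apply hne
    have h1 : s.r (Quotient.out q) (Quotient.out q') := ⟨g, hg⟩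
    have h2 : Quotient.mk s (Quotient.out q) = Quotient.mk s (Quotient.out q') :=
      Quotient.sound h1
    rwa [Quotient.out_eq, Quotient.out_eq] at h2
  have hcover : ∀ g : G, g ≠ 1 → ∃ q, g ∈ conjSet (A q) := by
    intro g hg
    have hznil : Group.IsNilpotent (Subgroup.zpowers g) := by
      letI : CommGroup (Subgroup.zpowers g) := IsCyclic.commGroup
      infer_instance
    obtain ⟨L, hgL, hL, hLmax⟩ := exists_maxNil_ge (Subgroup.zpowers g) hznil
    let q : ι := Quotient.mk s ⟨L, hL, hLmax⟩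
    have h1 : s.r (Quotient.out q) ⟨L, hL, hLmax⟩ := Quotient.exact (Quotient.out_eq q)
    obtain ⟨x, hx⟩ := h1
    have hgL' : g ∈ L := hgL (Subgroup.mem_zpowers g)
    have hx' : L = (A q).map (MulAut.conj x).toMonoidHom := hx
    rw [hx'] at hgL'
    obtain ⟨k, hk, hkg⟩ := Subgroup.mem_map.mp hgL'
    refine ⟨q, x, k, hk, ?_, hkg.symm⟩
    intro hk1
    apply hg
    rw [← hkg, hk1]
    simp
  exact false_of_nil_family hG.1 A hfrob hlt
    (fun q => commutator_ne_self_of_nilpotent (A q) (hAnil q) (hAne q))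
    (fun q hne => exists_prime_sq_dvd_relIndex_commutator (A q) (hAnil q) hne) hcop hcover

end

end Cfsg.Agent.Lib.H8
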