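import Mathlib
import Cfsg.Agent.Lib.H28.PSp4Defs
import Cfsg.Agent.Lib.H12.SL2Syl2

/-!
# S5320 piece NQ8 (helper8): the quaternion Sylow `2`-subgroup of `SL₂(q)`, `|Q| = 8`

List of the elements of `Q`, commutation up to sign, squares, and the element `u` of order six with
`N(Q) = Q ∪ uQ ∪ u²Q` (adapted from helper12's `Syl2Data.card_normalizer`).
-/

set_option autoImplicit false

namespace Cfsg.Agent.Lib.H8.PSp4

open Matrix Cfsg.Agent.Lib.H9.SqC Cfsg.Agent.Lib.H28.PSp4 Cfsg.Agent.Lib.H12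

variable {F : Type*} [Field F]

/-- `A = (1 + i)(1 + j)` satisfies `A² = 2A - 4` for anticommuting square roots of `-1`. -/
theorem quat_sq_aux (i j : Matrix (Fin 2) (Fin 2) F) (hii : i * i = -1) (hjj : j * j = -1)
    (hji : j * i = -(i * j)) :
    ((1 + i) * (1 + j)) * ((1 + i) * (1 + j)) + (1 + 1 + 1 + 1) =
      (1 + i) * (1 + j) + (1 + i) * (1 + j) := by
  have hii' : ∀ z : Matrix (Fin 2) (Fin 2) F, i * (i * z) = -z := by
    intro z; rw [← mul_assoc, hii, neg_one_mul]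
  have hji' : ∀ z : Matrix (Fin 2) (Fin 2) F, j * (i * z) = -(i * (j * z)) := by
    intro z; rw [← mul_assoc, hji, neg_mul, mul_assoc]
  simp only [mul_add, add_mul, mul_one, one_mul, mul_assoc, hii, hjj, hji, hii', hji',
    mul_neg, neg_neg]
  abel

/-- `u = (1 + i)(1 + j)/2` satisfies `u³ = -1`. -/
theorem quat_cube (h2 : (2 : F) ≠ 0) (i j : Matrix (Fin 2) (Fin 2) F) (hii : i * i = -1)
    (hjj : j * j = -1) (hji : j * i = -(i * j)) :
    ((2 : F)⁻¹ • ((1 + i) * (1 + j))) * ((2 : F)⁻¹ • ((1 + i) * (1 + j))) *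
      ((2 : F)⁻¹ • ((1 + i) * (1 + j))) = -1 := by
  set A : Matrix (Fin 2) (Fin 2) F := (1 + i) * (1 + j) with hA
  have hAA : A * A = A + A - (1 + 1 + 1 + 1) := by
    rw [eq_sub_iff_add_eq]
    exact quat_sq_aux i j hii hjj hji
  have hBB : ((2 : F)⁻¹ • A) * ((2 : F)⁻¹ • A) = (2 : F)⁻¹ • A - 1 := by
    rw [smul_mul_smul_comm, hAA]
    have e1 : A + A - (1 + 1 + 1 + 1) = (2 : F) • A - (4 : F) • (1 : Matrix (Fin 2) (Fin 2) F) := by
      rw [two_smul]
      congr 1
      have : (4 : F) = 1 + 1 + 1 + 1 := by norm_num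
      rw [this, add_smul, add_smul, add_smul, one_smul]
    rw [e1, smul_sub, smul_smul, smul_smul]
    have e2 : (2 : F)⁻¹ * (2 : F)⁻¹ * 2 = (2 : F)⁻¹ := by field_simp
    have e3 : (2 : F)⁻¹ * (2 : F)⁻¹ * 4 = 1 := by field_simp; norm_num
    rw [e2, e3, one_smul]
  rw [hBB, sub_mul, one_mul, hBB]
  abel

theorem normalizer_Q8 [Fintype F] (hodd : Odd (Fintype.card F)) (Q : Sylow 2 (SL2 F))
    {x s₀ : SL2 F} (h : Syl2Data (Q : Subgroup (SL2 F)) x s₀)
    (h8 : Nat.card (Q : Subgroup (SL2 F)) = 8) :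
    (∀ q ∈ (Q : Subgroup (SL2 F)), q = 1 ∨ q = -1 ∨ q = x ∨ q = -x ∨ q = s₀ ∨ q = -s₀ ∨
      q = x * s₀ ∨ q = -(x * s₀)) ∧
    (∀ a ∈ (Q : Subgroup (SL2 F)), ∀ b ∈ (Q : Subgroup (SL2 F)),
      a * b = b * a ∨ a * b = -(b * a)) ∧
    (∀ q ∈ (Q : Subgroup (SL2 F)), q * q = 1 ∨ q * q = -1) ∧
    ∃ u : SL2 F,
      (u : Matrix (Fin 2) (Fin 2) F) = (2 : F)⁻¹ • ((1 + (x : Matrix (Fin 2) (Fin 2) F)) *
        (1 + (s₀ : Matrix (Fin 2) (Fin 2) F))) ∧
      u * u * u = -1 ∧
      u ∈ Subgroup.normalizer ((Q : Subgroup (SL2 F)) : Set (SL2 F)) ∧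
      ∀ g ∈ Subgroup.normalizer ((Q : Subgroup (SL2 F)) : Set (SL2 F)),
        g ∈ (Q : Subgroup (SL2 F)) ∨ u⁻¹ * g ∈ (Q : Subgroup (SL2 F)) ∨
          u⁻¹ * (u⁻¹ * g) ∈ (Q : Subgroup (SL2 F)) := by
  have h2 : (2 : F) ≠ 0 := two_ne_zero_of_odd hodd
  have ht := h.ht h2
  have hxN := h.nonScalar h2
  have hss : s₀ * s₀ = -1 := mul_self_of_inverts hxN h.sx
  have hxinv : x⁻¹ = -x := inv_eq_neg_of_mul_self x h.xx
  have hsinv : s₀⁻¹ = -s₀ := inv_eq_neg_of_mul_self s₀ hss
  have hsx' : s₀ * x = -(x * s₀) := by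
    calc s₀ * x = (s₀ * x * s₀⁻¹) * s₀ := by group
      _ = -(x * s₀) := by rw [h.sx, hxinv, neg_mul]
  have hii := coe_mul_self_neg_one h.xx
  have hjj := coe_mul_self_neg_one hss
  have hji : (s₀ : Matrix (Fin 2) (Fin 2) F) * (x : Matrix (Fin 2) (Fin 2) F) =
      -((x : Matrix (Fin 2) (Fin 2) F) * (s₀ : Matrix (Fin 2) (Fin 2) F)) := by
    rw [← Matrix.SpecialLinearGroup.coe_mul, hsx']
    simp
  have htx := trace_eq_zero_of_mul_self x h.xx
  have hts := trace_eq_zero_of_mul_self s₀ hss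
  obtain ⟨u, hu⟩ : ∃ u : SL2 F, (u : Matrix (Fin 2) (Fin 2) F) =
      (2 : F)⁻¹ • ((1 + (x : Matrix (Fin 2) (Fin 2) F)) * (1 + (s₀ : Matrix (Fin 2) (Fin 2) F))) :=
    ⟨⟨_, quat_det h2 _ _ x.det_coe s₀.det_coe htx hts⟩, rfl⟩
  have hu1 : u * x = s₀ * u := by
    apply Subtype.ext
    rw [Matrix.SpecialLinearGroup.coe_mul, Matrix.SpecialLinearGroup.coe_mul, hu]
    exact quat_conj₁ _ _ hii hjj hji
  have hu2 : u * s₀ = (x * s₀) * u := by
    apply Subtype.ext
    rw [Matrix.SpecialLinearGroup.coe_mul, Matrix.SpecialLinearGroup.coe_mul,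
      Matrix.SpecialLinearGroup.coe_mul, hu]
    exact quat_conj₂ _ _ hii hjj hji
  have hu3 : u * u * u = -1 := by
    apply Subtype.ext
    rw [Matrix.SpecialLinearGroup.coe_mul, Matrix.SpecialLinearGroup.coe_mul, hu]
    rw [quat_cube h2 _ _ hii hjj hji]
    simp
  have hc1 : u * x * u⁻¹ = s₀ := by rw [hu1]; group
  have hc2 : u * s₀ * u⁻¹ = x * s₀ := by rw [hu2]; group
  have hc1' : u * x⁻¹ * u⁻¹ = s₀⁻¹ := by
    rw [← hc1]; group
  have hc3 : (u * u) * x * (u * u)⁻¹ = x * s₀ := by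
    calc (u * u) * x * (u * u)⁻¹ = u * (u * x * u⁻¹) * u⁻¹ := by group
      _ = x * s₀ := by rw [hc1, hc2]
  have hc3' : (u * u) * x⁻¹ * (u * u)⁻¹ = s₀ * x := by
    calc (u * u) * x⁻¹ * (u * u)⁻¹ = ((u * u) * x * (u * u)⁻¹)⁻¹ := conj_inv_eq _ _
      _ = s₀ * x := by
        rw [hc3, _root_.mul_inv_rev, hxinv, hsinv, neg_mul_neg]
  -- the torus part has order four
  have hcardT : Nat.card ((Q : Subgroup (SL2 F)) ⊓ Subgroup.centralizer ({x} : Set (SL2 F)) :
      Subgroup (SL2 F)) = 4 := by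
    have h1 := h.card h2
    rw [h8] at h1
    have h3 : 2 * Nat.card ((Q : Subgroup (SL2 F)) ⊓ Subgroup.centralizer ({x} : Set (SL2 F)) :
      Subgroup (SL2 F)) = 2 * 4 := h1.symm
    exact Nat.eq_of_mul_eq_mul_left (by norm_num) h3
  have hT : ∀ t ∈ ((Q : Subgroup (SL2 F)) ⊓ Subgroup.centralizer ({x} : Set (SL2 F)) :
      Subgroup (SL2 F)), t = 1 ∨ t = -1 ∨ t = x ∨ t = x⁻¹ := by
    intro t htT
    have h1 : (⟨t, htT⟩ : ((Q : Subgroup (SL2 F)) ⊓ Subgroup.centralizer ({x} : Set (SL2 F)) :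
        Subgroup (SL2 F))) ^ 4 = 1 := by
      rw [← hcardT]
      exact pow_card_eq_one'
    have h3 : t ^ 4 = 1 := by
      have := congrArg Subtype.val h1
      simpa using this
    have h4 : (t * t) * (t * t) = 1 := by
      rw [← h3]
      norm_num [pow_succ, mul_assoc]
    rcases (sl2_mul_self_eq_one_iff h2 (t * t)).mp h4 with h5 | h5
    · rcases (sl2_mul_self_eq_one_iff h2 t).mp h5 with h6 | h6
      · left; exact h6
      · right; left; exact h6
    · right; right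
      apply eq_or_eq_inv_of_trace h2 ht htT.2
      rw [trace_eq_zero_of_mul_self t h5, htx]
  have hdic := h.dic h2
  have hxs : x * s₀ ∈ (Q : Subgroup (SL2 F)) := (Q : Subgroup (SL2 F)).mul_mem h.xS h.sS
  -- the list of elements
  have hlist : ∀ q ∈ (Q : Subgroup (SL2 F)), q = 1 ∨ q = -1 ∨ q = x ∨ q = -x ∨ q = s₀ ∨ q = -s₀ ∨
      q = x * s₀ ∨ q = -(x * s₀) := by
    intro q hq
    rcases hdic.idx q hq with h1 | h1
    · rcases hT q h1 with h3 | h3 | h3 | h3
      · left; exact h3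
      · right; left; exact h3
      · right; right; left; exact h3
      · right; right; right; left; rw [h3, hxinv]
    · have hq' : q = s₀ * (s₀⁻¹ * q) := by group
      rcases hT _ h1 with h3 | h3 | h3 | h3
      · right; right; right; right; left
        rw [hq', h3, mul_one]
      · right; right; right; right; right; left
        rw [hq', h3, mul_neg, mul_one]
      · right; right; right; right; right; right; right
        rw [hq', h3, hsx']
      · right; right; right; right; right; right; left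
        rw [hq', h3, hxinv, mul_neg, hsx', neg_neg]
  have hxx := h.xx
  have hx3 : ∀ z : SL2 F, x * (x * z) = -z := by
    intro z; rw [← mul_assoc, hxx, neg_one_mul]
  have hs3 : ∀ z : SL2 F, s₀ * (s₀ * z) = -z := by
    intro z; rw [← mul_assoc, hss, neg_one_mul]
  have hsx3 : ∀ z : SL2 F, s₀ * (x * z) = -(x * (s₀ * z)) := by
    intro z; rw [← mul_assoc, hsx', neg_mul, mul_assoc]
  refine ⟨hlist, ?_, ?_, u, hu, hu3, ?_, ?_⟩
  · intro a ha b hb
    rcases hlist a ha with rfl | rfl | rfl | rfl | rfl | rfl | rfl | rfl <;>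
    rcases hlist b hb with rfl | rfl | rfl | rfl | rfl | rfl | rfl | rfl <;>
    first
    | (left; simp only [mul_one, one_mul, mul_neg, neg_mul, neg_neg, mul_assoc, hxx, hss, hsx',
        hx3, hs3, hsx3]; done)
    | (right; simp only [mul_one, one_mul, mul_neg, neg_mul, neg_neg, mul_assoc, hxx, hss, hsx',
        hx3, hs3, hsx3]; done)
  · intro q hq
    rcases hlist q hq with rfl | rfl | rfl | rfl | rfl | rfl | rfl | rfl
    · left; simp
    · left; simp
    · right; exact hxx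
    · right; rw [neg_mul_neg]; exact hxx
    · right; exact hss
    · right; rw [neg_mul_neg]; exact hss
    · right
      simp only [mul_assoc, hsx3, hss, mul_neg, hx3, hxx, neg_neg]
    · right
      rw [neg_mul_neg]
      simp only [mul_assoc, hsx3, hss, mul_neg, hx3, hxx, neg_neg]
  · -- `u` normalizes `Q`
    have hconjT : ∀ t ∈ ((Q : Subgroup (SL2 F)) ⊓ Subgroup.centralizer ({x} : Set (SL2 F)) :
        Subgroup (SL2 F)), u * t * u⁻¹ ∈ (Q : Subgroup (SL2 F)) := by
      intro t htT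
      rcases hT t htT with h1 | h1 | h1 | h1
      · rw [h1]
        have : u * 1 * u⁻¹ = 1 := by group
        rw [this]; exact Subgroup.one_mem _
      · rw [h1, ← h.xx]
        have : u * (x * x) * u⁻¹ = (u * x * u⁻¹) * (u * x * u⁻¹) := by group
        rw [this, hc1]
        exact (Q : Subgroup (SL2 F)).mul_mem h.sS h.sS
      · rw [h1, hc1]; exact h.sS
      · rw [h1, hc1']; exact (Q : Subgroup (SL2 F)).inv_mem h.sS
    apply Subgroup.mem_normalizer_fintype
    intro n hn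
    rcases hdic.idx n hn with h1 | h1
    · exact hconjT n h1
    · have : u * n * u⁻¹ = (u * s₀ * u⁻¹) * (u * (s₀⁻¹ * n) * u⁻¹) := by group
      rw [this, hc2]
      exact (Q : Subgroup (SL2 F)).mul_mem hxs (hconjT _ h1)
  · -- the covering of `N(Q)`
    have hconjT : ∀ t ∈ ((Q : Subgroup (SL2 F)) ⊓ Subgroup.centralizer ({x} : Set (SL2 F)) :
        Subgroup (SL2 F)), u * t * u⁻¹ ∈ (Q : Subgroup (SL2 F)) := by
      intro t htT
      rcases hT t htT with h1 | h1 | h1 | h1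
      · rw [h1]
        have : u * 1 * u⁻¹ = 1 := by group
        rw [this]; exact Subgroup.one_mem _
      · rw [h1, ← h.xx]
        have : u * (x * x) * u⁻¹ = (u * x * u⁻¹) * (u * x * u⁻¹) := by group
        rw [this, hc1]
        exact (Q : Subgroup (SL2 F)).mul_mem h.sS h.sS
      · rw [h1, hc1]; exact h.sS
      · rw [h1, hc1']; exact (Q : Subgroup (SL2 F)).inv_mem h.sS
    have huN : u ∈ Subgroup.normalizer ((Q : Subgroup (SL2 F)) : Set (SL2 F)) := by
      apply Subgroup.mem_normalizer_fintype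
      intro n hn
      rcases hdic.idx n hn with h1 | h1
      · exact hconjT n h1
      · have : u * n * u⁻¹ = (u * s₀ * u⁻¹) * (u * (s₀⁻¹ * n) * u⁻¹) := by group
        rw [this, hc2]
        exact (Q : Subgroup (SL2 F)).mul_mem hxs (hconjT _ h1)
    intro g hgN
    have hyS : g * x * g⁻¹ ∈ (Q : Subgroup (SL2 F)) :=
      (Subgroup.mem_normalizer_iff.mp hgN _).mp h.xS
    have key : ∀ v ∈ Subgroup.normalizer ((Q : Subgroup (SL2 F)) : Set (SL2 F)),
        (g * x * g⁻¹ = v * x * v⁻¹ ∨ g * x * g⁻¹ = v * x⁻¹ * v⁻¹) →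
          v⁻¹ * g ∈ (Q : Subgroup (SL2 F)) := by
      intro v hv hy
      apply h.mem_of_conj h2 (Subgroup.mul_mem _ (Subgroup.inv_mem _ hv) hgN)
      have h1 : v⁻¹ * g * x * (v⁻¹ * g)⁻¹ = v⁻¹ * (g * x * g⁻¹) * v := by group
      rw [h1]
      rcases hy with hy | hy
      · left; rw [hy]; group
      · right; rw [hy]; group
    rcases hdic.idx _ hyS with h1 | h1
    · left
      exact h.mem_of_conj h2 hgN (conj_cases_of_mem h2 ht h1.2)
    · have hy : g * x * g⁻¹ = s₀ * (s₀⁻¹ * (g * x * g⁻¹)) := by group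
      rcases hT _ h1 with h3 | h3 | h3 | h3
      · right; left
        apply key u huN
        left
        rw [hy, h3, hc1, mul_one]
      · right; left
        apply key u huN
        right
        rw [hy, h3, hc1', hsinv, mul_neg, mul_one]
      · right; right
        have := key (u * u) (Subgroup.mul_mem _ huN huN) (Or.inr (by rw [hy, h3, hc3']))
        have h4 : u⁻¹ * (u⁻¹ * g) = (u * u)⁻¹ * g := by group
        rw [h4]; exact this
      · right; right
        have h5 : s₀ * x⁻¹ = x * s₀ := by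
          have : s₀ * x⁻¹ * s₀⁻¹ = x := by
            calc s₀ * x⁻¹ * s₀⁻¹ = (s₀ * x * s₀⁻¹)⁻¹ := by group
              _ = x := by rw [h.sx, inv_inv]
          calc s₀ * x⁻¹ = (s₀ * x⁻¹ * s₀⁻¹) * s₀ := by group
            _ = x * s₀ := by rw [this]
        have := key (u * u) (Subgroup.mul_mem _ huN huN) (Or.inl (by rw [hy, h3, hc3, h5]))
        have h4 : u⁻¹ * (u⁻¹ * g) = (u * u)⁻¹ * g := by group
        rw [h4]; exact this

end Cfsg.Agent.Lib.H8.PSp4
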