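import Mathlib
import Cfsg.Prelude.Def_Sporadic_a

/-!
# A counting criterion for Steiner systems   (helper8)
-/

set_option autoImplicit false

namespace Cfsg.Agent.Lib.H8

/-- Blocks of size `k`, pairwise meeting in fewer than `t` points, with the right number of
blocks, form a Steiner system `S(t, k, v)`. -/
theorem isSteinerSystem_of_count {α : Type*} [Fintype α] [DecidableEq α] {t k : ℕ}
    (𝔅 : Finset (Finset α)) (hk : ∀ b ∈ 𝔅, b.card = k)
    (hint : ∀ b ∈ 𝔅, ∀ b' ∈ 𝔅, b ≠ b' → (b ∩ b').card < t)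
    (hcount : 𝔅.card * k.choose t = (Fintype.card α).choose t) :
    Cfsg.IsSteinerSystem t k (𝔅 : Set (Finset α)) := by
  refine ⟨fun b hb => hk b (Finset.mem_coe.mp hb), ?_⟩
  have huniq : ∀ s : Finset α, s.card = t → ∀ b ∈ 𝔅, ∀ b' ∈ 𝔅, s ⊆ b → s ⊆ b' → b = b' := by
    intro s hs b hb b' hb' h1 h2
    by_contra hne
    have h4 := hint b hb b' hb' hne
    have h3 : s ⊆ b ∩ b' := Finset.subset_inter h1 h2
    have h5 := Finset.card_le_card h3
    omega
  obtain ⟨I, hIdef⟩ : ∃ I : Finset (Σ _ : Finset α, Finset α),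
      I = 𝔅.sigma (fun b => b.powersetCard t) := ⟨_, rfl⟩
  have hI : I.card = 𝔅.card * k.choose t := by
    rw [hIdef, Finset.card_sigma,
      Finset.sum_congr rfl (fun b hb => by rw [Finset.card_powersetCard, hk b hb]),
      Finset.sum_const, smul_eq_mul]
  have hinj : Set.InjOn (fun x : (Σ _ : Finset α, Finset α) => x.2) (I : Set _) := by
    rintro ⟨b, s⟩ hbs ⟨b', s'⟩ hbs' (hss : s = s')
    subst hss
    rw [Finset.mem_coe, hIdef, Finset.mem_sigma, Finset.mem_powersetCard] at hbs hbs'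
    have := huniq s hbs.2.2 b hbs.1 b' hbs'.1 hbs.2.1 hbs'.2.1
    subst this; rfl
  have himg : I.image (fun x => x.2) = (Finset.univ : Finset α).powersetCard t := by
    apply Finset.eq_of_subset_of_card_le
    · intro s hs
      obtain ⟨⟨b, s'⟩, hbs, rfl⟩ := Finset.mem_image.mp hs
      rw [hIdef, Finset.mem_sigma, Finset.mem_powersetCard] at hbs
      rw [Finset.mem_powersetCard]
      exact ⟨Finset.subset_univ _, hbs.2.2⟩
    · rw [Finset.card_image_of_injOn hinj, hI, hcount, Finset.card_powersetCard,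
        Finset.card_univ]
  intro s hs
  have hmem : s ∈ I.image (fun x => x.2) := by
    rw [himg, Finset.mem_powersetCard]; exact ⟨Finset.subset_univ _, hs⟩
  obtain ⟨⟨b, s'⟩, hbs, rfl⟩ := Finset.mem_image.mp hmem
  rw [hIdef, Finset.mem_sigma, Finset.mem_powersetCard] at hbs
  refine ⟨b, ⟨Finset.mem_coe.mpr hbs.1, hbs.2.1⟩, ?_⟩
  rintro b' ⟨hb', hsb'⟩
  exact huniq _ hs b' (Finset.mem_coe.mp hb') b hbs.1 hsb' hbs.2.1

end Cfsg.Agent.Lib.H8
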