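import Mathlib
import Cfsg.Prelude.Def_SporadicCombinatorics

/-!
# The length-12 ternary code `Cfsg.ternaryGolayCode` made explicit   (helper8)

Systematic generator `gen : T → (ArrayPt → ZMod 3)` with `T = (ZMod 3)^6` as an iterated product,
information map `info`, `mem_iff`, the equivalence `codeEquiv`, and counting by kernel evaluation.
-/

set_option autoImplicit false

namespace Cfsg.Agent.Lib.H8.TG
open Cfsg

theorem forall_zmod3 {P : ZMod 3 → Prop} : (∀ r, P r) ↔ P 0 ∧ P 1 ∧ P 2 := by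
  constructor
  · intro h; exact ⟨h 0, h 1, h 2⟩
  · rintro ⟨h0, h1, h2⟩ r
    fin_cases r
    · exact h0
    · exact h1
    · exact h2

theorem sum_zmod3 {M : Type*} [AddCommMonoid M] (f : ZMod 3 → M) :
    ∑ r : ZMod 3, f r = f 0 + f 1 + f 2 :=
  Fin.sum_univ_three f

theorem forall_arrayPt {P : ArrayPt → Prop} : (∀ p, P p) ↔
    P (0, 0) ∧ P (0, 1) ∧ P (0, 2) ∧ P (1, 0) ∧ P (1, 1) ∧ P (1, 2) ∧
    P (2, 0) ∧ P (2, 1) ∧ P (2, 2) ∧ P (3, 0) ∧ P (3, 1) ∧ P (3, 2) := by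
  constructor
  · intro h
    exact ⟨h _, h _, h _, h _, h _, h _, h _, h _, h _, h _, h _, h _⟩
  · rintro ⟨h00, h01, h02, h10, h11, h12, h20, h21, h22, h30, h31, h32⟩ ⟨i, r⟩
    revert r
    rw [forall_zmod3]
    fin_cases i
    · exact ⟨h00, h01, h02⟩
    · exact ⟨h10, h11, h12⟩
    · exact ⟨h20, h21, h22⟩
    · exact ⟨h30, h31, h32⟩

theorem sum_arrayPt {M : Type*} [AddCommMonoid M] (f : ArrayPt → M) :
    ∑ p, f p = f (0, 0) + f (0, 1) + f (0, 2) + (f (1, 0) + f (1, 1) + f (1, 2)) +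
      (f (2, 0) + f (2, 1) + f (2, 2)) + (f (3, 0) + f (3, 1) + f (3, 2)) := by
  rw [Fintype.sum_prod_type, Fin.sum_univ_four]
  simp only [sum_zmod3]

/-- the tetracode word with parameters `a`, `b` -/
def tet (a b : ZMod 3) : Fin 4 → ZMod 3 := ![b, a, a + b, a + 2 * b]

theorem mem_tetracode_iff (t : Fin 4 → ZMod 3) : t ∈ tetracode ↔ ∃ a b : ZMod 3, t = tet a b := by
  unfold tetracode
  rw [Submodule.mem_span_pair]
  constructor
  · rintro ⟨a, b, rfl⟩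
    refine ⟨a, b, ?_⟩
    ext i
    fin_cases i <;> simp [tet, mul_comm]
  · rintro ⟨a, b, rfl⟩
    refine ⟨a, b, ?_⟩
    ext i
    fin_cases i <;> simp [tet, mul_comm]

theorem mem_iff' (x : ArrayPt → ZMod 3) : x ∈ ternaryGolayCode ↔ ∃ s : ZMod 3,
    (∀ i : Fin 4, x (i, 0) + x (i, 1) + x (i, 2) = -s) ∧
    ∀ a b : ZMod 3, x (0, b) + x (1, a) + x (2, a + b) + x (3, a + 2 * b) = s := by
  show IsTernaryGolayWord x ↔ _
  unfold IsTernaryGolayWord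
  constructor
  · rintro ⟨s, h1, h2⟩
    refine ⟨s, fun i => ?_, fun a b => ?_⟩
    · rw [← h1 i, sum_zmod3]
    · have := h2 (tet a b) ((mem_tetracode_iff _).mpr ⟨a, b, rfl⟩)
      rw [Fin.sum_univ_four] at this
      simpa [tet] using this
  · rintro ⟨s, h1, h2⟩
    refine ⟨s, fun i => ?_, fun t ht => ?_⟩
    · rw [sum_zmod3]; exact h1 i
    · obtain ⟨a, b, rfl⟩ := (mem_tetracode_iff _).mp ht
      rw [Fin.sum_univ_four]
      simpa [tet] using h2 a b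

/-- coefficient tuples -/
abbrev T := ZMod 3 × ZMod 3 × ZMod 3 × ZMod 3 × ZMod 3 × ZMod 3

def ent (c : T) : ℕ → ZMod 3
  | 0 => c.1
  | 1 => c.2.1
  | 2 => c.2.2.1
  | 3 => c.2.2.2.1
  | 4 => c.2.2.2.2.1
  | 5 => c.1 + c.2.1 + c.2.2.1 + 2 * c.2.2.2.1 + 2 * c.2.2.2.2.1
  | 6 => c.2.2.2.2.2
  | 7 => 2 * c.2.1 + c.2.2.1 + 2 * c.2.2.2.1 + c.2.2.2.2.1 + c.2.2.2.2.2
  | 8 => c.1 + 2 * c.2.1 + c.2.2.2.1 + 2 * c.2.2.2.2.1 + c.2.2.2.2.2
  | 9 => c.1 + 2 * c.2.1 + 2 * c.2.2.1 + 2 * c.2.2.2.1 + 2 * c.2.2.2.2.2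
  | 10 => c.1 + c.2.2.1 + c.2.2.2.1 + c.2.2.2.2.1 + 2 * c.2.2.2.2.2
  | 11 => 2 * c.1 + 2 * c.2.1 + c.2.2.1 + 2 * c.2.2.2.2.1 + 2 * c.2.2.2.2.2
  | _ => 0

/-- the systematic generator of the ternary code -/
def gen (c : T) : ArrayPt → ZMod 3 := fun p => ent c (3 * p.1.val + p.2.val)

/-- the information coordinates -/
def info (x : ArrayPt → ZMod 3) : T := (x (0, 0), x (0, 1), x (0, 2), x (1, 0), x (1, 1), x (2, 0))

theorem gen_00 (c0 c1 c2 c3 c4 c5 : ZMod 3) : gen (c0, c1, c2, c3, c4, c5) (0, 0) = c0 := rfl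
theorem gen_01 (c0 c1 c2 c3 c4 c5 : ZMod 3) : gen (c0, c1, c2, c3, c4, c5) (0, 1) = c1 := rfl
theorem gen_02 (c0 c1 c2 c3 c4 c5 : ZMod 3) : gen (c0, c1, c2, c3, c4, c5) (0, 2) = c2 := rfl
theorem gen_10 (c0 c1 c2 c3 c4 c5 : ZMod 3) : gen (c0, c1, c2, c3, c4, c5) (1, 0) = c3 := rfl
theorem gen_11 (c0 c1 c2 c3 c4 c5 : ZMod 3) : gen (c0, c1, c2, c3, c4, c5) (1, 1) = c4 := rfl
theorem gen_12 (c0 c1 c2 c3 c4 c5 : ZMod 3) : gen (c0, c1, c2, c3, c4, c5) (1, 2) = c0 + c1 + c2 + 2 * c3 + 2 * c4 := rfl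
theorem gen_20 (c0 c1 c2 c3 c4 c5 : ZMod 3) : gen (c0, c1, c2, c3, c4, c5) (2, 0) = c5 := rfl
theorem gen_21 (c0 c1 c2 c3 c4 c5 : ZMod 3) : gen (c0, c1, c2, c3, c4, c5) (2, 1) = 2 * c1 + c2 + 2 * c3 + c4 + c5 := rfl
theorem gen_22 (c0 c1 c2 c3 c4 c5 : ZMod 3) : gen (c0, c1, c2, c3, c4, c5) (2, 2) = c0 + 2 * c1 + c3 + 2 * c4 + c5 := rfl
theorem gen_30 (c0 c1 c2 c3 c4 c5 : ZMod 3) : gen (c0, c1, c2, c3, c4, c5) (3, 0) = c0 + 2 * c1 + 2 * c2 + 2 * c3 + 2 * c5 := rfl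
theorem gen_31 (c0 c1 c2 c3 c4 c5 : ZMod 3) : gen (c0, c1, c2, c3, c4, c5) (3, 1) = c0 + c2 + c3 + c4 + 2 * c5 := rfl
theorem gen_32 (c0 c1 c2 c3 c4 c5 : ZMod 3) : gen (c0, c1, c2, c3, c4, c5) (3, 2) = 2 * c0 + 2 * c1 + c2 + 2 * c4 + 2 * c5 := rfl

theorem info_gen (c : T) : info (gen c) = c := rfl

theorem gen_injective : Function.Injective gen :=
  Function.LeftInverse.injective info_gen

/-- the scalar `s` of `gen c` -/
def sOf (c : T) : ZMod 3 := -(c.1 + c.2.1 + c.2.2.1)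

set_option maxRecDepth 100000 in
theorem gen_mem_aux : ∀ c : T,
    (∀ i : Fin 4, gen c (i, 0) + gen c (i, 1) + gen c (i, 2) = -(sOf c)) ∧
    ∀ a b : ZMod 3, gen c (0, b) + gen c (1, a) + gen c (2, a + b) + gen c (3, a + 2 * b)
      = sOf c := by
  decide +kernel

theorem gen_mem (c : T) : gen c ∈ ternaryGolayCode :=
  (mem_iff' _).mpr ⟨sOf c, (gen_mem_aux c).1, (gen_mem_aux c).2⟩

theorem gen_info_of_mem {x : ArrayPt → ZMod 3} (hx : x ∈ ternaryGolayCode) :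
    gen (info x) = x := by
  obtain ⟨s, h1, h2⟩ := (mem_iff' x).mp hx
  have h3 : (3 : ZMod 3) = 0 := by decide
  have k0 := h1 0
  have k1 := h1 1
  have k2 := h1 2
  have k3 := h1 3
  have t00 : x (0, 0) + x (1, 0) + x (2, 0) + x (3, 0) = s := h2 0 0
  have t01 : x (0, 1) + x (1, 0) + x (2, 1) + x (3, 2) = s := h2 0 1
  have t02 : x (0, 2) + x (1, 0) + x (2, 2) + x (3, 1) = s := h2 0 2
  have t10 : x (0, 0) + x (1, 1) + x (2, 1) + x (3, 1) = s := h2 1 0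
  have t11 : x (0, 1) + x (1, 1) + x (2, 2) + x (3, 0) = s := h2 1 1
  have t12 : x (0, 2) + x (1, 1) + x (2, 0) + x (3, 2) = s := h2 1 2
  have t20 : x (0, 0) + x (1, 2) + x (2, 2) + x (3, 2) = s := h2 2 0
  have t21 : x (0, 1) + x (1, 2) + x (2, 0) + x (3, 1) = s := h2 2 1
  have t22 : x (0, 2) + x (1, 2) + x (2, 1) + x (3, 0) = s := h2 2 2
  rw [funext_iff, forall_arrayPt]
  refine ⟨?_, ?_, ?_, ?_, ?_, ?_, ?_, ?_, ?_, ?_, ?_, ?_⟩
  · rfl
  · rfl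
  · rfl
  · rfl
  · rfl
  · show x (0, 0) + x (0, 1) + x (0, 2) + 2 * x (1, 0) + 2 * x (1, 1) = x (1, 2)
    linear_combination (1) * k0 + (-1) * k1 + (x (1, 0) + x (1, 1)) * h3
  · rfl
  · show 2 * x (0, 1) + x (0, 2) + 2 * x (1, 0) + x (1, 1) + x (2, 0) = x (2, 1)
    linear_combination (1) * k0 + (-1) * k3 + (1) * t00 + (1) * t01 + (1) * t10 + (-1 * x (0, 0) + -1 * x (2, 1) + s) * h3
  · show x (0, 0) + 2 * x (0, 1) + x (1, 0) + 2 * x (1, 1) + x (2, 0) = x (2, 2)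
    linear_combination (-1) * k2 + (1) * k3 + (-1) * t00 + (-1) * t01 + (-1) * t10 + (x (0, 0) + x (0, 1) + x (1, 0) + x (1, 1) + x (2, 0) + x (2, 1) + -1 * s) * h3
  · show x (0, 0) + 2 * x (0, 1) + 2 * x (0, 2) + 2 * x (1, 0) + 2 * x (2, 0) = x (3, 0)
    linear_combination (-1) * k0 + (-1) * t00 + (x (0, 0) + x (0, 1) + x (0, 2) + x (1, 0) + x (2, 0)) * h3
  · show x (0, 0) + x (0, 2) + x (1, 0) + x (1, 1) + 2 * x (2, 0) = x (3, 1)
    linear_combination (1) * k0 + (1) * k3 + (-1) * t00 + (-1) * t01 + (1) * t10 + (x (1, 0) + x (2, 0) + -1 * x (3, 1) + -1 * s) * h3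
  · show 2 * x (0, 0) + 2 * x (0, 1) + x (0, 2) + 2 * x (1, 1) + 2 * x (2, 0) = x (3, 2)
    linear_combination (1) * k0 + (1) * k3 + (-1) * t00 + (1) * t01 + (-1) * t10 + (x (0, 0) + x (1, 1) + x (2, 0) + -1 * x (3, 2) + -1 * s) * h3

theorem mem_iff (x : ArrayPt → ZMod 3) : x ∈ ternaryGolayCode ↔ gen (info x) = x :=
  ⟨gen_info_of_mem, fun h => h ▸ gen_mem (info x)⟩

/-- the code is in bijection with `T` -/
def codeEquiv : ↥ternaryGolayCode ≃ T where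
  toFun x := info x.1
  invFun c := ⟨gen c, gen_mem c⟩
  left_inv x := Subtype.ext (gen_info_of_mem x.2)
  right_inv c := info_gen c

theorem card_T : Fintype.card T = 729 := by
  simp [ZMod.card]

theorem card_code : Nat.card ↥ternaryGolayCode = 729 := by
  rw [Nat.card_congr codeEquiv, Nat.card_eq_fintype_card, card_T]

theorem ncard_code_filter (P : (ArrayPt → ZMod 3) → Prop) [DecidablePred P] :
    {x : ArrayPt → ZMod 3 | x ∈ ternaryGolayCode ∧ P x}.ncard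
      = (Finset.univ.filter (fun c : T => P (gen c))).card := by
  have : {x : ArrayPt → ZMod 3 | x ∈ ternaryGolayCode ∧ P x}
      = gen '' ((Finset.univ.filter (fun c : T => P (gen c)) : Finset T) : Set T) := by
    ext x
    constructor
    · rintro ⟨hx, hP⟩
      refine ⟨info x, ?_, gen_info_of_mem hx⟩
      rw [Finset.mem_coe, Finset.mem_filter]
      refine ⟨Finset.mem_univ _, ?_⟩
      rw [gen_info_of_mem hx]; exact hP
    · rintro ⟨c, hc, rfl⟩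
      rw [Finset.mem_coe, Finset.mem_filter] at hc
      exact ⟨gen_mem c, hc.2⟩
  rw [this, Set.ncard_image_of_injective _ gen_injective, Set.ncard_coe_finset]

set_option maxRecDepth 100000 in
theorem wt_cases : ∀ c : T, c = 0 ∨ (ternarySupport (gen c)).card = 6 ∨
    (ternarySupport (gen c)).card = 9 ∨ (ternarySupport (gen c)).card = 12 := by
  decide +kernel

set_option maxRecDepth 100000 in
theorem wt_count6 :
    (Finset.univ.filter (fun c : T => (ternarySupport (gen c)).card = 6)).card = 264 := by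
  decide +kernel

set_option maxRecDepth 100000 in
theorem wt_count9 :
    (Finset.univ.filter (fun c : T => (ternarySupport (gen c)).card = 9)).card = 440 := by
  decide +kernel

set_option maxRecDepth 100000 in
theorem wt_count12 :
    (Finset.univ.filter (fun c : T => (ternarySupport (gen c)).card = 12)).card = 24 := by
  decide +kernel

theorem gen_zero : gen (0 : T) = 0 := by
  rw [funext_iff, forall_arrayPt]
  exact ⟨rfl, rfl, rfl, rfl, rfl, rfl, rfl, rfl, rfl, rfl, rfl, rfl⟩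

/-- nonzero words have weight 6, 9 or 12 -/
theorem wt_of_mem {x : ArrayPt → ZMod 3} (hx : x ∈ ternaryGolayCode) (h0 : x ≠ 0) :
    (ternarySupport x).card = 6 ∨ (ternarySupport x).card = 9 ∨
      (ternarySupport x).card = 12 := by
  have h := wt_cases (info x)
  rw [gen_info_of_mem hx] at h
  rcases h with h | h
  · exfalso
    apply h0
    rw [← gen_info_of_mem hx, h, gen_zero]
  · exact h

theorem six_le_wt {x : ArrayPt → ZMod 3} (hx : x ∈ ternaryGolayCode) (h0 : x ≠ 0) :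
    6 ≤ (ternarySupport x).card := by
  rcases wt_of_mem hx h0 with h | h | h <;> omega

/-- self-orthogonality -/
theorem dot_gen (c d : T) : ∑ p, gen c p * gen d p = 0 := by
  obtain ⟨c0, c1, c2, c3, c4, c5⟩ := c
  obtain ⟨d0, d1, d2, d3, d4, d5⟩ := d
  have h3 : (3 : ZMod 3) = 0 := by decide
  rw [sum_arrayPt]
  simp only [gen_00, gen_01, gen_02, gen_10, gen_11, gen_12, gen_20, gen_21, gen_22, gen_30,
    gen_31, gen_32]
  linear_combination (3 * c0 * d0 + 3 * c0 * d1 + 2 * c0 * d2 + 2 * c0 * d3 + 3 * c0 * d4 + 3 * c0 * d5 + 3 * c1 * d0 + 6 * c1 * d1 + 3 * c1 * d2 + 4 * c1 * d3 + 4 * c1 * d4 + 4 * c1 * d5 + 2 * c2 * d0 + 3 * c2 * d1 + 3 * c2 * d2 + 3 * c2 * d3 + 2 * c2 * d4 + 3 * c2 * d5 + 2 * c3 * d0 + 4 * c3 * d1 + 3 * c3 * d2 + 5 * c3 * d3 + 3 * c3 * d4 + 3 * c3 * d5 + 3 * c4 * d0 + 4 * c4 * d1 + 2 * c4 * d2 + 3 * c4 * d3 + 5 * c4 * d4 + 3 * c4 * d5 + 3 * c5 * d0 + 4 * c5 * d1 +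 3 * c5 * d2 + 3 * c5 * d3 + 3 * c5 * d4 + 5 * c5 * d5) * h3

theorem dot_of_mem {x y : ArrayPt → ZMod 3} (hx : x ∈ ternaryGolayCode)
    (hy : y ∈ ternaryGolayCode) : ∑ p, x p * y p = 0 := by
  rw [← gen_info_of_mem hx, ← gen_info_of_mem hy]
  exact dot_gen _ _

end Cfsg.Agent.Lib.H8.TG
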