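import Mathlib
import Cfsg.Prelude.Def_ChevStructure
import Cfsg.Agent.Lib.H29.ChevAut1
import Cfsg.Agent.Lib.H29.BtDefs2

/-!
# S2154 (Borel–Tits), stage 2, piece MEM (helper8)

Root elements and diagonal elements in the subgroups graded by a real functional.
-/

set_option autoImplicit false
set_option linter.unusedSectionVars false
set_option linter.unusedVariables false

namespace Cfsg.Agent.Lib.H8.BT2

open Cfsg.Lie Matrix Cfsg.Agent.Lib.H29.BT Cfsg.Agent.Lib.H29.Chev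

variable {D : ChevalleyDatum} {fd : FD} {fx : FX} {fc : FC} {fz : FZ} {F : Type*} [Field F]

/-- the real analogue of `sum_range_lin` -/
theorem sumR_lin (l : ℕ) (a : Fin l → ℝ) (f g h : ℕ → ℤ) (k : ℕ) (hf : ∀ j < l, f j = g j + (k : ℤ) * h j) :
    ∑ j : Fin l, a j * ((f j.val : ℤ) : ℝ) =
      ∑ j : Fin l, a j * ((g j.val : ℤ) : ℝ) + (k : ℝ) * ∑ j : Fin l, a j * ((h j.val : ℤ) : ℝ) := by
  rw [Finset.mul_sum, ← Finset.sum_add_distrib]
  apply Finset.sum_congr rfl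
  intro j _
  rw [hf j.val j.isLt]
  push_cast
  ring

theorem omR_grad (C : Cert12 D fd fx fc fz) (r k : ℕ) (hr : r < fd.n) (hk : k = 1 ∨ k = 2 ∨ k = 3)
    (a' : Fin fd.l → ℝ) (a b : D.Idx) (hab : aR D F r k a b ≠ 0) :
    fd.omR fx a' (code D a) = fd.omR fx a' (code D b) + (k : ℝ) * fd.omrR fx a' r := by
  have hab' : Ak D r k a b ≠ 0 := by
    intro h0; apply hab; simp [aR, h0]
  unfold FD.omR FD.omrR
  exact sumR_lin fd.l a' _ _ _ k (grad_spec C.c6.c2.agrees C.c6.c2.chk.grad r k hr hk a b hab')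

/-- the entries of `x_r(t)`: the diagonal ones are `1` and the others vanish unless some `aR` entry does not,
as soon as the `aR` have no diagonal entries -/
theorem XR_offdiag (r : ℕ) (t : F) (i j : D.Idx) (hij : i ≠ j) (hne : XR D F r t i j ≠ 0) :
    ∃ k : ℕ, (k = 1 ∨ k = 2 ∨ k = 3) ∧ aR D F r k i j ≠ 0 := by
  by_contra hcon
  apply hne
  have z : ∀ k : ℕ, (k = 1 ∨ k = 2 ∨ k = 3) → aR D F r k i j = 0 := by
    intro k hk
    by_contra h0
    exact hcon ⟨k, hk, h0⟩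
  rw [XR_apply', z 1 (by simp), z 2 (by simp), z 3 (by simp), Matrix.one_apply_ne hij]
  simp

theorem XR_diag (r : ℕ) (t : F) (i : D.Idx)
    (hz : ∀ k : ℕ, (k = 1 ∨ k = 2 ∨ k = 3) → aR D F r k i i = 0) : XR D F r t i i = 1 := by
  rw [XR_apply', hz 1 (by simp), hz 2 (by simp), hz 3 (by simp), Matrix.one_apply_eq]
  simp

theorem kpos (k : ℕ) (hk : k = 1 ∨ k = 2 ∨ k = 3) : (1 : ℝ) ≤ (k : ℝ) := by
  rcases hk with rfl | rfl | rfl <;> norm_num

theorem XR_mem_UW (C : Cert12 D fd fx fc fz) (a : Fin fd.l → ℝ) (r : ℕ) (hr : r < fd.n) (h : 1 ≤ fd.omrR fx a r)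
    (t : F) : XR D F r t ∈ UW (wR D fd fx a) := by
  have key : ∀ k : ℕ, (k = 1 ∨ k = 2 ∨ k = 3) → ∀ i j, aR D F r k i j ≠ 0 →
      wR D fd fx a j + 1 ≤ wR D fd fx a i := by
    intro k hk i j hij
    unfold wR
    rw [omR_grad C r k hr hk a i j hij]
    have h1 := kpos k hk
    nlinarith
  constructor
  · intro i
    apply XR_diag
    intro k hk
    by_contra h0
    have := key k hk i i h0
    linarith
  · intro i j hij hne
    obtain ⟨k, hk, hak⟩ := XR_offdiag r t i j hij hne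
    exact key k hk i j hak

theorem XR_mem_U0W (C : Cert12 D fd fx fc fz) (a : Fin fd.l → ℝ) (r : ℕ) (hr : r < fd.n) (h : 0 < fd.omrR fx a r)
    (t : F) : XR D F r t ∈ U0W (wR D fd fx a) := by
  have key : ∀ k : ℕ, (k = 1 ∨ k = 2 ∨ k = 3) → ∀ i j, aR D F r k i j ≠ 0 →
      wR D fd fx a j < wR D fd fx a i := by
    intro k hk i j hij
    unfold wR
    rw [omR_grad C r k hr hk a i j hij]
    have h1 := kpos k hk
    nlinarith
  constructor
  · intro i
    apply XR_diag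
    intro k hk
    by_contra h0
    have := key k hk i i h0
    linarith
  · intro i j hij hne
    obtain ⟨k, hk, hak⟩ := XR_offdiag r t i j hij hne
    exact key k hk i j hak

theorem XR_mem_PW (C : Cert12 D fd fx fc fz) (a : Fin fd.l → ℝ) (r : ℕ) (hr : r < fd.n) (h : 0 ≤ fd.omrR fx a r)
    (t : F) : XR D F r t ∈ PW (wR D fd fx a) := by
  intro i j hne
  by_cases hij : i = j
  · rw [hij]
  · obtain ⟨k, hk, hak⟩ := XR_offdiag r t i j hij hne
    unfold wR
    rw [omR_grad C r k hr hk a i j hak]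
    have h1 := kpos k hk
    nlinarith

theorem XR_mem_TrW (C : Cert12 D fd fx fc fz) (a : Fin fd.l → ℝ) (r : ℕ) (hr : r < fd.n) (h : fd.omrR fx a r = 0)
    (t : F) : XR D F r t ∈ TrW (wR D fd fx a) (wR D fd fx a) := by
  intro i j hne
  by_cases hij : i = j
  · rw [hij]
  · obtain ⟨k, hk, hak⟩ := XR_offdiag r t i j hij hne
    unfold wR
    rw [omR_grad C r k hr hk a i j hak, h]
    ring

section fin
variable [Finite F]

theorem xA_val_XR (C : Cert12 D fd fx fc fz) (s : ℕ) (hs : s < fd.n) (u : F) :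
    ((C.c6.c2.xA s u : GL D.Idx F) : Matrix D.Idx D.Idx F) = XR D F s u := by
  rw [C.c6.c2.xA_val, x_eq_XR C.c6.c2.agrees s hs]

theorem xA_mem_UWG (C : Cert12 D fd fx fc fz) (a : Fin fd.l → ℝ) (s : ℕ) (hs : s < fd.n) (h : 1 ≤ fd.omrR fx a s)
    (u : F) : C.c6.c2.xA s u ∈ UWG (wR D fd fx a) := by
  rw [mem_UWG, xA_val_XR C s hs]
  exact XR_mem_UW C a s hs h u

theorem xA_mem_U0WG (C : Cert12 D fd fx fc fz) (a : Fin fd.l → ℝ) (s : ℕ) (hs : s < fd.n) (h : 0 < fd.omrR fx a s)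
    (u : F) : C.c6.c2.xA s u ∈ U0WG (wR D fd fx a) := by
  rw [mem_U0WG, xA_val_XR C s hs]
  exact XR_mem_U0W C a s hs h u

theorem xA_mem_PWG (C : Cert12 D fd fx fc fz) (a : Fin fd.l → ℝ) (s : ℕ) (hs : s < fd.n) (h : 0 ≤ fd.omrR fx a s)
    (u : F) : C.c6.c2.xA s u ∈ PWG (wR D fd fx a) := by
  rw [mem_PWG, xA_val_XR C s hs]
  exact XR_mem_PW C a s hs h u

theorem xA_mem_ZWG (C : Cert12 D fd fx fc fz) (a : Fin fd.l → ℝ) (s : ℕ) (hs : s < fd.n) (h : fd.omrR fx a s = 0)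
    (u : F) : C.c6.c2.xA s u ∈ ZWG (wR D fd fx a) := by
  rw [mem_ZWG, xA_val_XR C s hs]
  exact XR_mem_TrW C a s hs h u

/-- (`C.c6.c2.diag_isDiag`) -/
theorem diag_mem_ZWG (C : Cert12 D fd fx fc fz) (a : Fin fd.l → ℝ) (k : GL D.Idx F)
    (hk : k ∈ D.diagonalSubgroup F) : k ∈ ZWG (wR D fd fx a) := by
  rw [mem_ZWG]
  intro i j hne
  by_cases hij : i = j
  · rw [hij]
  · exact absurd (C.c6.c2.diag_isDiag k hk i j hij) hne

end fin

end Cfsg.Agent.Lib.H8.BT2
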