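import Mathlib

/-!
# S2098 (helper29 architect), piece HOM: `exists_hom_T22`
-/

set_option autoImplicit false

namespace Cfsg.Agent.Lib.H8.O8M

open Subgroup

/-- the multiplier -/
abbrev T22 : Type := Multiplicative (ZMod 2 × ZMod 2)

/-- **HOM**.  Two commuting involutions (or trivial elements) give a homomorphism from `2 × 2` onto the subgroup they
generate. -/
theorem exists_hom_T22 {E : Type*} [Group E] (X W : E) (hc : Commute X W) (hX : X ^ 2 = 1) (hW : W ^ 2 = 1)
    (K : Subgroup E) (hK : K = closure {X, W}) :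
    ∃ f : T22 →* ↥K, Function.Surjective f ∧
      ∀ t, ((f t : ↥K) : E) = X ^ (Multiplicative.toAdd t).1.val * W ^ (Multiplicative.toAdd t).2.val := by
  have hmul : ∀ s t : T22,
      X ^ (Multiplicative.toAdd (s * t)).1.val * W ^ (Multiplicative.toAdd (s * t)).2.val =
      (X ^ (Multiplicative.toAdd s).1.val * W ^ (Multiplicative.toAdd s).2.val) *
      (X ^ (Multiplicative.toAdd t).1.val * W ^ (Multiplicative.toAdd t).2.val) := by
    intro s t
    rw [toAdd_mul]
    simp only [Prod.fst_add, Prod.snd_add, ZMod.val_add]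
    rw [← pow_eq_pow_mod _ hX, ← pow_eq_pow_mod _ hW, pow_add, pow_add]
    set a := (Multiplicative.toAdd s).1.val
    set a' := (Multiplicative.toAdd t).1.val
    set b := (Multiplicative.toAdd s).2.val
    set b' := (Multiplicative.toAdd t).2.val
    have e1 : Commute (X ^ a') (W ^ b) := hc.pow_pow a' b
    calc X ^ a * X ^ a' * (W ^ b * W ^ b')
        = X ^ a * (X ^ a' * W ^ b) * W ^ b' := by simp only [mul_assoc]
      _ = X ^ a * (W ^ b * X ^ a') * W ^ b' := by rw [e1.eq]
      _ = X ^ a * W ^ b * (X ^ a' * W ^ b') := by simp only [mul_assoc]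
  let f : T22 →* E :=
    MonoidHom.mk' (fun t => X ^ (Multiplicative.toAdd t).1.val * W ^ (Multiplicative.toAdd t).2.val) hmul
  have hf : ∀ t, f t = X ^ (Multiplicative.toAdd t).1.val * W ^ (Multiplicative.toAdd t).2.val :=
    fun t => rfl
  have hx : X ∈ K := by rw [hK]; exact subset_closure (by simp)
  have hw : W ∈ K := by rw [hK]; exact subset_closure (by simp)
  have hmem : ∀ t, f t ∈ K := fun t => by
    rw [hf]; exact K.mul_mem (K.pow_mem hx _) (K.pow_mem hw _)
  have hrange : K ≤ f.range := by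
    have v12 : (1 : ZMod 2).val = 1 := rfl
    have v02 : (0 : ZMod 2).val = 0 := rfl
    rw [hK, closure_le]
    intro x hx'
    simp only [Set.mem_insert_iff, Set.mem_singleton_iff] at hx'
    rcases hx' with rfl | rfl
    · refine ⟨Multiplicative.ofAdd ((1 : ZMod 2), (0 : ZMod 2)), ?_⟩
      rw [hf]
      simp [v12, v02]
    · refine ⟨Multiplicative.ofAdd ((0 : ZMod 2), (1 : ZMod 2)), ?_⟩
      rw [hf]
      simp [v12, v02]
  refine ⟨f.codRestrict K hmem, ?_, ?_⟩
  · rintro ⟨y, hy⟩
    obtain ⟨t, rfl⟩ := hrange hy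
    exact ⟨t, rfl⟩
  · intro t
    change f t = _
    rw [hf t]

end Cfsg.Agent.Lib.H8.O8M
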