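/-
S5663 project (Aschbacher, unitary case), module UM2 (Clifford with a form): the orthogonal of a
subspace for the hermitian form `hermForm n F q`.  Only this definition here.  (helper8)
-/
import Cfsg.Agent.Lib.Lead.AschUDefs

set_option autoImplicit false

namespace Cfsg.Agent.Lib.H8.Asch

open Cfsg Cfsg.Geo Cfsg.Agent.Lib.Lead.Asch
open scoped MatrixGroups Matrix Kronecker

variable {F : Type*} [Field F] {n : ℕ}

/-- The (left) orthogonal of a subspace `W` for `hermForm n F q`: the vectors `v` with `f v w = 0` for
all `w ∈ W` (`f` is linear in its first argument, so no hypothesis on `q` is needed; when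
`|F| = q ^ 2` the form is hermitian and this is also the right orthogonal). -/
def hperp (q : ℕ) (W : Submodule F (Fin n → F)) : Submodule F (Fin n → F) where
  carrier := {v | ∀ w ∈ W, hermForm n F q v w = 0}
  add_mem' := by
    intro a b ha hb w hw
    have h1 : hermForm n F q (a + b) w = hermForm n F q a w + hermForm n F q b w := by
      simp [hermForm, add_mul, Finset.sum_add_distrib]
    rw [h1, ha w hw, hb w hw, add_zero]
  zero_mem' := by
    intro w _
    simp [hermForm]
  smul_mem' := by
    intro c a ha w hw
    have h1 : hermForm n F q (c • a) w = c * hermForm n F q a w := by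
      simp [hermForm, Finset.mul_sum, mul_assoc]
    rw [h1, ha w hw, mul_zero]

theorem mem_hperp {q : ℕ} {W : Submodule F (Fin n → F)} {v : Fin n → F} :
    v ∈ hperp q W ↔ ∀ w ∈ W, hermForm n F q v w = 0 := Iff.rfl

end Cfsg.Agent.Lib.H8.Asch
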