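import Mathlib
import Cfsg.Agent.Lib.H3.DF0

/-!
# S4316 piece D11b: Schur's theorem, ambient form
-/

set_option autoImplicit false

universe u

namespace Cfsg.Agent.Lib.H8.DF

open Subgroup Cfsg.Agent.Lib.H3.DF
open scoped commutatorElement

variable {Γ : Type u} [Group Γ] [Finite Γ]

/-- A commutator does not change when its entries are multiplied by central elements. -/
theorem commutatorElement_mul_central {H : Type*} [Group H] (a b z w : H) (hz : z ∈ center H)
    (hw : w ∈ center H) : ⁅a * z, b * w⁆ = ⁅a, b⁆ := by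
  have hz' : ∀ g : H, g * z = z * g := fun g => (mem_center_iff.1 hz g)
  have hw' : ∀ g : H, g * w = w * g := fun g => (mem_center_iff.1 hw g)
  have hzi : ∀ g : H, g * z⁻¹ = z⁻¹ * g := fun g => by
    have := hz' g
    calc g * z⁻¹ = z⁻¹ * (z * g) * z⁻¹ := by group
      _ = z⁻¹ * (g * z) * z⁻¹ := by rw [this]
      _ = z⁻¹ * g := by group
  have hwi : ∀ g : H, g * w⁻¹ = w⁻¹ * g := fun g => by
    have := hw' g
    calc g * w⁻¹ = w⁻¹ * (w * g) * w⁻¹ := by group
      _ = w⁻¹ * (g * w) * w⁻¹ := by rw [this]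
      _ = w⁻¹ * g := by group
  rw [commutatorElement_def, commutatorElement_def]
  calc a * z * (b * w) * (a * z)⁻¹ * (b * w)⁻¹
      = a * (z * b) * (w * z⁻¹) * a⁻¹ * (w⁻¹ * b⁻¹) := by group
    _ = a * (b * z) * (z⁻¹ * w) * a⁻¹ * (w⁻¹ * b⁻¹) := by rw [hz' b, hzi w]
    _ = a * b * (w * a⁻¹) * (w⁻¹ * b⁻¹) := by group
    _ = a * b * (a⁻¹ * w) * (w⁻¹ * b⁻¹) := by rw [← hw' a⁻¹]
    _ = a * b * a⁻¹ * b⁻¹ := by group

/-- The number of commutators is at most the square of the index of the centre. -/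
theorem card_commutatorSet_le_index_sq (H : Type*) [Group H] [Finite H] :
    Nat.card (commutatorSet H) ≤ (center H).index ^ 2 := by
  classical
  let Q := H ⧸ center H
  have hsurj : Function.Surjective
      (fun p : Q × Q => (⟨⁅p.1.out, p.2.out⁆, ⟨_, _, rfl⟩⟩ : commutatorSet H)) := by
    rintro ⟨g, a, b, rfl⟩
    refine ⟨(QuotientGroup.mk a, QuotientGroup.mk b), ?_⟩
    apply Subtype.ext
    show ⁅(QuotientGroup.mk a : Q).out, (QuotientGroup.mk b : Q).out⁆ = ⁅a, b⁆
    obtain ⟨z, hz⟩ := QuotientGroup.mk_out_eq_mul (center H) a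
    obtain ⟨w, hw⟩ := QuotientGroup.mk_out_eq_mul (center H) b
    rw [hz, hw]
    exact commutatorElement_mul_central a b z w z.2 w.2
  have h1 := Nat.card_le_card_of_surjective _ hsurj
  have h2 : Nat.card (Q × Q) = (center H).index ^ 2 := by
    rw [Nat.card_prod, sq]
    rfl
  rw [h2] at h1
  exact h1

omit [Finite Γ] in
/-- The centre of `↥T` has the order of `T ⊓ C(T)`. -/
theorem card_center_subtype (T : Subgroup Γ) :
    Nat.card (center ↥T) = Nat.card ↥(T ⊓ centralizer (T : Set Γ)) := by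
  have hmap : (center ↥T).map T.subtype = T ⊓ centralizer (T : Set Γ) := by
    ext x
    constructor
    · rintro ⟨z, hz, rfl⟩
      refine ⟨z.2, ?_⟩
      show T.subtype z ∈ centralizer (T : Set Γ)
      rw [mem_centralizer_iff]
      intro g hg
      have := mem_center_iff.1 hz ⟨g, hg⟩
      exact congrArg Subtype.val this
    · rintro ⟨hxT, hxc⟩
      refine ⟨⟨x, hxT⟩, ?_, rfl⟩
      rw [SetLike.mem_coe, mem_center_iff]
      intro g
      apply Subtype.ext
      exact (mem_centralizer_iff.1 hxc g g.2)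
  rw [← hmap, Subgroup.card_map_of_injective T.subtype_injective]

/-- D11b. Schur's theorem, ambient form. -/
theorem card_commutator_le_dS (T : Subgroup Γ) (n : ℕ)
    (hn : Nat.card T ≤ n * Nat.card ↥(T ⊓ centralizer (T : Set Γ))) :
    Nat.card ↥⁅T, T⁆ ≤ dS n := by
  classical
  set i := (center ↥T).index with hi
  have hipos : 0 < i := Nat.pos_of_ne_zero (Subgroup.index_ne_zero_of_finite)
  have hZpos : 0 < Nat.card (center ↥T) := Nat.card_pos
  have hidx : Nat.card (center ↥T) * i = Nat.card T := (center ↥T).card_mul_index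
  have hin : i ≤ n := by
    rw [← card_center_subtype T] at hn
    rw [← hidx, mul_comm] at hn
    exact Nat.le_of_mul_le_mul_right hn hZpos
  have hcs : Nat.card (commutatorSet ↥T) ≤ i ^ 2 := card_commutatorSet_le_index_sq ↥T
  have hdvd := Subgroup.card_commutator_dvd_index_center_pow ↥T
  have hcard : Nat.card ↥⁅T, T⁆ = Nat.card (_root_.commutator ↥T) := by
    rw [← Subgroup.map_subtype_commutator, Subgroup.card_map_of_injective T.subtype_injective]
  rw [hcard]
  have hle := Nat.le_of_dvd (pow_pos hipos _) hdvd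
  unfold dS
  calc Nat.card (_root_.commutator ↥T)
      ≤ i ^ (i * Nat.card (commutatorSet ↥T) + 1) := hle
    _ ≤ i ^ (n * n ^ 2 + 1) := by
        apply Nat.pow_le_pow_right hipos
        have h1 : i * Nat.card (commutatorSet ↥T) ≤ n * n ^ 2 :=
          Nat.mul_le_mul hin (hcs.trans (Nat.pow_le_pow_left hin 2))
        omega
    _ ≤ n ^ (n * n ^ 2 + 1) := Nat.pow_le_pow_left hin _

end Cfsg.Agent.Lib.H8.DF
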