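import Mathlib
import Cfsg.Prelude.Def_Classical

/-!
# S3670 piece CYC: the commutant of a `3 × 3` matrix with a cyclic vector (helper8, for architect helper3)
-/

set_option autoImplicit false

namespace Cfsg.Agent.Lib.H8.DG

open Matrix hiding SpecialLinearGroup
open Matrix (SpecialLinearGroup)

/-! ## CYC -/

/-- CYC: the commutant of a `3 × 3` matrix with a cyclic vector. -/
theorem commute_of_cyclic {F : Type*} [Field F] (g h : Matrix (Fin 3) (Fin 3) F) (v : Fin 3 → F)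
    (hv : (Matrix.of ![v, g.mulVec v, (g * g).mulVec v]).det ≠ 0) (hc : g * h = h * g) :
    ∃ a b c : F, h = a • (1 : Matrix (Fin 3) (Fin 3) F) + b • g + c • (g * g) := by
  set B : Matrix (Fin 3) (Fin 3) F := Matrix.of ![v, g.mulVec v, (g * g).mulVec v] with hB
  have hBu : IsUnit B.det := isUnit_iff_ne_zero.2 hv
  set t : Fin 3 → F := (h *ᵥ v) ᵥ* B⁻¹ with ht
  have htB : t ᵥ* B = h *ᵥ v := by
    rw [ht, Matrix.vecMul_vecMul, Matrix.nonsing_inv_mul _ hBu, Matrix.vecMul_one]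
  have htB' : t ᵥ* B = t 0 • v + t 1 • (g *ᵥ v) + t 2 • ((g * g) *ᵥ v) := by
    funext j
    simp [Matrix.vecMul, dotProduct, Fin.sum_univ_three, hB]
  refine ⟨t 0, t 1, t 2, ?_⟩
  set p : Matrix (Fin 3) (Fin 3) F := t 0 • (1 : Matrix (Fin 3) (Fin 3) F) + t 1 • g + t 2 • (g * g)
    with hp
  have hpv : p *ᵥ v = h *ᵥ v := by
    rw [← htB, htB', hp, Matrix.add_mulVec, Matrix.add_mulVec, Matrix.smul_mulVec, Matrix.smul_mulVec,
      Matrix.smul_mulVec, Matrix.one_mulVec]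
  have hpg : g * p = p * g := by
    rw [hp]
    simp only [Matrix.mul_add, Matrix.add_mul, Matrix.mul_smul, Matrix.smul_mul, Matrix.mul_one,
      Matrix.one_mul, Matrix.mul_assoc]
  -- `D = p - h` kills `v`, `g v`, `g² v`
  have hDg : g * (p - h) = (p - h) * g := by
    rw [Matrix.mul_sub, Matrix.sub_mul, hpg, hc]
  have hD0 : (p - h) *ᵥ v = 0 := by
    rw [Matrix.sub_mulVec, hpv, sub_self]
  have hD1 : (p - h) *ᵥ (g *ᵥ v) = 0 := by
    rw [Matrix.mulVec_mulVec, ← hDg, ← Matrix.mulVec_mulVec, hD0, Matrix.mulVec_zero]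
  have hD2 : (p - h) *ᵥ ((g * g) *ᵥ v) = 0 := by
    have e1 : (g * g) *ᵥ v = g *ᵥ (g *ᵥ v) := (Matrix.mulVec_mulVec v g g).symm
    rw [e1, Matrix.mulVec_mulVec (g *ᵥ v) (p - h) g, ← hDg, ← Matrix.mulVec_mulVec, hD1,
      Matrix.mulVec_zero]
  have hrow : ∀ i, (p - h) i = 0 := by
    intro i
    apply Matrix.eq_zero_of_mulVec_eq_zero hv
    funext k
    have e0 := congrFun hD0 i
    have e1 := congrFun hD1 i
    have e2 := congrFun hD2 i
    simp only [Matrix.mulVec, Pi.zero_apply] at e0 e1 e2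
    have hB0 : (fun j => B 0 j) = v := by funext j; simp [hB]
    have hB1 : (fun j => B 1 j) = g *ᵥ v := by funext j; simp [hB]
    have hB2 : (fun j => B 2 j) = (g * g) *ᵥ v := by funext j; simp [hB]
    have hrw : ∀ w : Fin 3 → F, w ⬝ᵥ (p - h) i = (fun j => (p - h) i j) ⬝ᵥ w := fun w => dotProduct_comm _ _
    fin_cases k
    · show (fun j => B 0 j) ⬝ᵥ (p - h) i = 0
      rw [hB0, hrw]; exact e0
    · show (fun j => B 1 j) ⬝ᵥ (p - h) i = 0
      rw [hB1, hrw]; exact e1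
    · show (fun j => B 2 j) ⬝ᵥ (p - h) i = 0
      rw [hB2, hrw]; exact e2
  have hD : p - h = 0 := by
    ext i j
    exact congrFun (hrow i) j
  exact (sub_eq_zero.1 hD).symm

end Cfsg.Agent.Lib.H8.DG
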