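import Mathlib
import Cfsg.Prelude.Def_Classical
import Cfsg.Agent.Lib.H2.Spec5
import Cfsg.Agent.Lib.H14.F9
import Cfsg.Agent.Lib.H8.DGCYC

/-!
# S3670: computational model of `3 × 3` matrices over `F9` and the centralizer engine for the pieces M7 / M3 / M8 / MK
(helper8, for architect helper3)
-/

set_option autoImplicit false
set_option maxRecDepth 100000

namespace Cfsg.Agent.Lib.H8.DG

open Matrix hiding SpecialLinearGroup
open Matrix (SpecialLinearGroup)
open Cfsg Cfsg.Agent.Lib.H14

/-- Frobenius `x ↦ x³` of `F9`. -/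
def frob9 : F9 →+* F9 where
  toFun x := x * x * x
  map_one' := by decide
  map_mul' := by decide
  map_zero' := by decide
  map_add' := by decide

theorem frob9_apply : ∀ x : F9, frob9 x = x ^ 3 := by decide

/-- `3 × 3` matrices over `F9`, as nine entries. -/
structure M9 where
  (a b c d e f g h i : F9)
  deriving DecidableEq

namespace M9

/-- the matrix -/
def toMat (m : M9) : Matrix (Fin 3) (Fin 3) F9 := !![m.a, m.b, m.c; m.d, m.e, m.f; m.g, m.h, m.i]

/-- the entries -/
def ofMat (M : Matrix (Fin 3) (Fin 3) F9) : M9 :=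
  ⟨M 0 0, M 0 1, M 0 2, M 1 0, M 1 1, M 1 2, M 2 0, M 2 1, M 2 2⟩

theorem toMat_ofMat (M : Matrix (Fin 3) (Fin 3) F9) : toMat (ofMat M) = M := by
  ext i j; fin_cases i <;> fin_cases j <;> rfl

theorem ofMat_toMat (m : M9) : ofMat (toMat m) = m := rfl

theorem toMat_injective : Function.Injective toMat := by
  intro m n h
  rw [← ofMat_toMat m, ← ofMat_toMat n, h]

def one : M9 := ⟨1, 0, 0, 0, 1, 0, 0, 0, 1⟩

def mul (m n : M9) : M9 :=
  ⟨m.a * n.a + m.b * n.d + m.c * n.g, m.a * n.b + m.b * n.e + m.c * n.h, m.a * n.c + m.b * n.f + m.c * n.i,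
   m.d * n.a + m.e * n.d + m.f * n.g, m.d * n.b + m.e * n.e + m.f * n.h, m.d * n.c + m.e * n.f + m.f * n.i,
   m.g * n.a + m.h * n.d + m.i * n.g, m.g * n.b + m.h * n.e + m.i * n.h, m.g * n.c + m.h * n.f + m.i * n.i⟩

def add (m n : M9) : M9 :=
  ⟨m.a + n.a, m.b + n.b, m.c + n.c, m.d + n.d, m.e + n.e, m.f + n.f, m.g + n.g, m.h + n.h, m.i + n.i⟩

def smul (t : F9) (m : M9) : M9 :=
  ⟨t * m.a, t * m.b, t * m.c, t * m.d, t * m.e, t * m.f, t * m.g, t * m.h, t * m.i⟩

def tr (m : M9) : M9 := ⟨m.a, m.d, m.g, m.b, m.e, m.h, m.c, m.f, m.i⟩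

def fr (m : M9) : M9 :=
  ⟨frob9 m.a, frob9 m.b, frob9 m.c, frob9 m.d, frob9 m.e, frob9 m.f, frob9 m.g, frob9 m.h, frob9 m.i⟩

def det (m : M9) : F9 :=
  m.a * m.e * m.i - m.a * m.f * m.h - m.b * m.d * m.i + m.b * m.f * m.g + m.c * m.d * m.h - m.c * m.e * m.g

def trace (m : M9) : F9 := m.a + m.e + m.i

theorem toMat_one : toMat one = 1 := by
  ext i j; fin_cases i <;> fin_cases j <;> rfl

theorem toMat_mul (m n : M9) : toMat (mul m n) = toMat m * toMat n := by
  ext i j; fin_cases i <;> fin_cases j <;>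
    simp [toMat, mul, Matrix.mul_apply, Fin.sum_univ_three]

theorem toMat_add (m n : M9) : toMat (add m n) = toMat m + toMat n := by
  ext i j; fin_cases i <;> fin_cases j <;> simp [toMat, add]

theorem toMat_smul (t : F9) (m : M9) : toMat (smul t m) = t • toMat m := by
  ext i j; fin_cases i <;> fin_cases j <;> simp [toMat, smul]

theorem toMat_tr (m : M9) : toMat (tr m) = (toMat m)ᵀ := by
  ext i j; fin_cases i <;> fin_cases j <;> rfl

theorem toMat_fr (m : M9) : toMat (fr m) = (toMat m).map frob9 := by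
  ext i j; fin_cases i <;> fin_cases j <;> rfl

theorem toMat_det (m : M9) : (toMat m).det = det m := by
  rw [Matrix.det_fin_three]
  rfl

theorem toMat_trace (m : M9) : (toMat m).trace = trace m := by
  unfold toMat trace
  rw [Matrix.trace_fin_three_of]

/-- membership in `SU`, computably -/
def suOK (m : M9) : Prop := mul (tr m) (fr m) = one ∧ det m = 1

instance (m : M9) : Decidable (suOK m) := by unfold suOK; infer_instance

/-- the polynomial `a + b X + c X²` -/
def poly (X : M9) (a b c : F9) : M9 := add (add (smul a one) (smul b X)) (smul c (mul X X))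

theorem toMat_poly (X : M9) (a b c : F9) :
    toMat (poly X a b c) = a • (1 : Matrix (Fin 3) (Fin 3) F9) + b • toMat X + c • (toMat X * toMat X) := by
  unfold poly
  rw [toMat_add, toMat_add, toMat_smul, toMat_smul, toMat_smul, toMat_one, toMat_mul]

/-- powers -/
def pow (m : M9) : ℕ → M9
  | 0 => one
  | (k + 1) => mul (pow m k) m

theorem toMat_pow (m : M9) (k : ℕ) : toMat (pow m k) = toMat m ^ k := by
  induction k with
  | zero => simp [pow, toMat_one]
  | succ k ih => rw [pow, toMat_mul, ih, pow_succ]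

end M9

/-- the special unitary group -/
abbrev SU3 : Type := ↥(Cfsg.SU 3 F9 3)

/-- the matrix of an element -/
abbrev mat (g : SU3) : Matrix (Fin 3) (Fin 3) F9 :=
  ((g : SpecialLinearGroup (Fin 3) F9) : Matrix (Fin 3) (Fin 3) F9)

theorem mat_one : mat 1 = 1 := rfl

theorem mat_mul (g h : SU3) : mat (g * h) = mat g * mat h := rfl

theorem mat_injective : Function.Injective mat := by
  intro g h hgh
  exact Subtype.ext (Subtype.ext hgh)

theorem mat_pow (g : SU3) (k : ℕ) : mat (g ^ k) = mat g ^ k := by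
  induction k with
  | zero => simp [mat_one]
  | succ k ih => rw [pow_succ, mat_mul, ih, pow_succ]

/-- the computational entries of an element -/
def ent (g : SU3) : M9 := M9.ofMat (mat g)

theorem toMat_ent (g : SU3) : M9.toMat (ent g) = mat g := M9.toMat_ofMat _

theorem suOK_of_mem (M : SpecialLinearGroup (Fin 3) F9) (hM : M ∈ Cfsg.SU 3 F9 3) (m : M9)
    (hm : M9.toMat m = (M : Matrix (Fin 3) (Fin 3) F9)) : M9.suOK m := by
  rw [Cfsg.Agent.Lib.H2.Spec.mem_SU_iff_mul frob9 frob9_apply] at hM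
  refine ⟨?_, ?_⟩
  · apply M9.toMat_injective
    rw [M9.toMat_mul, M9.toMat_tr, M9.toMat_fr, M9.toMat_one, hm]
    exact hM
  · rw [← M9.toMat_det, hm]
    exact M.2

/-- an element of `SU` from computational data -/
def mkSU (m : M9) (h : M9.suOK m) : SU3 :=
  ⟨⟨M9.toMat m, by rw [M9.toMat_det]; exact (id h : _ ∧ _).2⟩, by
    apply (Cfsg.Agent.Lib.H2.Spec.mem_SU_iff_mul frob9 frob9_apply _).2
    show (M9.toMat m)ᵀ * (M9.toMat m).map frob9 = 1
    rw [← M9.toMat_tr, ← M9.toMat_fr, ← M9.toMat_mul, (id h : _ ∧ _).1, M9.toMat_one]⟩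

theorem mat_mkSU (m : M9) (h : M9.suOK m) : mat (mkSU m h) = M9.toMat m := rfl

theorem ent_mkSU (m : M9) (h : M9.suOK m) : ent (mkSU m h) = m := rfl

theorem suOK_ent (g : SU3) : M9.suOK (ent g) := suOK_of_mem g.1 g.2 _ (toMat_ent g)

/-- powers of `mkSU` -/
theorem mkSU_pow_eq_one (m : M9) (h : M9.suOK m) (k : ℕ) (hk : M9.pow m k = M9.one) :
    mkSU m h ^ k = 1 := by
  apply mat_injective
  rw [mat_pow, mat_mkSU, ← M9.toMat_pow, hk, M9.toMat_one, mat_one]

theorem mkSU_pow_ne_one (m : M9) (h : M9.suOK m) (k : ℕ) (hk : M9.pow m k ≠ M9.one) :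
    mkSU m h ^ k ≠ 1 := by
  intro h1
  apply hk
  apply M9.toMat_injective
  rw [M9.toMat_pow, ← mat_mkSU m h, ← mat_pow, h1, mat_one, M9.toMat_one]

instance : Finite SU3 := inferInstance

/-- **The centralizer engine.**  If `v` is a cyclic vector for `x` then the centralizer of `x` in `SU(3, F9)` is in
bijection with the polynomials `a + b x + c x²` lying in `SU`. -/
theorem card_centralizer (x : SU3) (v : Fin 3 → F9)
    (hv : (Matrix.of ![v, (mat x).mulVec v, (mat x * mat x).mulVec v]).det ≠ 0)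
    (L : Finset (F9 × F9 × F9))
    (hL : ∀ a b c : F9, M9.suOK (M9.poly (ent x) a b c) ↔ (a, b, c) ∈ L) :
    Nat.card (Subgroup.centralizer ({x} : Set SU3)) = L.card := by
  have hcardL : Nat.card ↥L = L.card := by
    rw [Nat.card_eq_fintype_card, Fintype.card_coe]
  rw [← hcardL]
  apply le_antisymm
  · -- injection centralizer → L
    have hex : ∀ g : Subgroup.centralizer ({x} : Set SU3),
        ∃ t : ↥L, mat g.1 = M9.toMat (M9.poly (ent x) t.1.1 t.1.2.1 t.1.2.2) := by
      intro g
      have hg := Subgroup.mem_centralizer_iff.1 g.2 x rfl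
      have hc : mat x * mat g.1 = mat g.1 * mat x := by
        rw [← mat_mul, ← mat_mul, hg]
      obtain ⟨a, b, c, habc⟩ := commute_of_cyclic (mat x) (mat g.1) v hv hc
      have hpoly : M9.toMat (M9.poly (ent x) a b c) = mat g.1 := by
        rw [M9.toMat_poly, toMat_ent, habc]
      have hok : M9.suOK (M9.poly (ent x) a b c) := suOK_of_mem g.1.1 g.1.2 _ hpoly
      exact ⟨⟨(a, b, c), (hL a b c).1 hok⟩, hpoly.symm⟩
    choose f hf using hex
    apply Nat.card_le_card_of_injective f
    intro g g' hgg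
    apply Subtype.ext
    apply mat_injective
    rw [hf g, hf g', hgg]
  · -- injection L → centralizer
    have hok : ∀ t : ↥L, M9.suOK (M9.poly (ent x) t.1.1 t.1.2.1 t.1.2.2) := fun t =>
      (hL t.1.1 t.1.2.1 t.1.2.2).2 t.2
    have hcen : ∀ t : ↥L, mkSU _ (hok t) ∈ Subgroup.centralizer ({x} : Set SU3) := by
      intro t
      rw [Subgroup.mem_centralizer_iff]
      intro y hy
      rw [Set.mem_singleton_iff] at hy
      subst hy
      apply mat_injective
      rw [mat_mul, mat_mul, mat_mkSU, M9.toMat_poly, toMat_ent]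
      simp only [Matrix.mul_add, Matrix.add_mul, Matrix.mul_smul, Matrix.smul_mul, Matrix.mul_one,
        Matrix.one_mul, Matrix.mul_assoc]
    apply Nat.card_le_card_of_injective (fun t => (⟨mkSU _ (hok t), hcen t⟩ : Subgroup.centralizer ({x} : Set SU3)))
    intro t t' htt
    have h1 : M9.toMat (M9.poly (ent x) t.1.1 t.1.2.1 t.1.2.2) =
        M9.toMat (M9.poly (ent x) t'.1.1 t'.1.2.1 t'.1.2.2) := by
      have := congrArg (fun g : Subgroup.centralizer ({x} : Set SU3) => mat g.1) htt
      exact this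
    -- evaluate at the cyclic vector
    rw [M9.toMat_poly, M9.toMat_poly, toMat_ent] at h1
    have h2 := congrArg (fun M : Matrix (Fin 3) (Fin 3) F9 => M *ᵥ v) h1
    simp only [Matrix.add_mulVec, Matrix.smul_mulVec, Matrix.one_mulVec] at h2
    set B : Matrix (Fin 3) (Fin 3) F9 := Matrix.of ![v, (mat x).mulVec v, (mat x * mat x).mulVec v] with hB
    have hvm : ∀ s : Fin 3 → F9, s ᵥ* B = s 0 • v + s 1 • ((mat x) *ᵥ v) + s 2 • ((mat x * mat x) *ᵥ v) := by
      intro s
      funext j
      simp [Matrix.vecMul, dotProduct, Fin.sum_univ_three, hB]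
    have h3 : (![t.1.1, t.1.2.1, t.1.2.2] - ![t'.1.1, t'.1.2.1, t'.1.2.2]) ᵥ* B = 0 := by
      rw [Matrix.sub_vecMul, hvm, hvm]
      simp only [Matrix.cons_val_zero, Matrix.cons_val_one, Matrix.cons_val_two, Matrix.head_cons,
        Matrix.tail_cons] 
      rw [h2, sub_self]
    have h4 := Matrix.eq_zero_of_vecMul_eq_zero hv h3
    have e0 := congrFun h4 0
    have e1 := congrFun h4 1
    have e2 := congrFun h4 2
    simp [sub_eq_zero] at e0 e1 e2
    apply Subtype.ext
    apply Prod.ext e0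
    exact Prod.ext e1 e2

end Cfsg.Agent.Lib.H8.DG
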