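import Mathlib
import Cfsg.Prelude.Def_Classical
import Cfsg.Agent.Lib.H8.DGEng

/-!
# S3670 piece M3: an element of order 3 of `SU(3, F9)` with centralizer of order 9 (helper8, for architect helper3)
-/

set_option autoImplicit false
set_option maxRecDepth 100000

namespace Cfsg.Agent.Lib.H8.DG

open Matrix hiding SpecialLinearGroup
open Matrix (SpecialLinearGroup)
open Cfsg Cfsg.Agent.Lib.H14 Cfsg.Agent.Lib.H14.F9

/-- the element of order 3 -/
def Y3 : M9 := ⟨e00, e00, e01, e01, e00, e00, e00, e20, e00⟩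

theorem Y3_ok : M9.suOK Y3 := by decide

/-- the element of order 3 -/
def y3 : SU3 := mkSU Y3 Y3_ok

theorem y3_order : orderOf y3 = 3 := by
  haveI : Fact (Nat.Prime 3) := ⟨by norm_num⟩
  apply orderOf_eq_prime
  · exact mkSU_pow_eq_one Y3 Y3_ok 3 (by decide)
  · have := mkSU_pow_ne_one Y3 Y3_ok 1 (by decide)
    rwa [pow_one] at this

/-- the polynomials in `y3` lying in `SU` -/
def L3 : Finset (F9 × F9 × F9) :=
  {(e00, e00, e10), (e00, e10, e00), (e01, e01, e11), (e01, e11, e01), (e02, e02, e12), (e02, e12, e02),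
    (e10, e00, e00), (e11, e01, e01), (e12, e02, e02)}

theorem y3_cyc : (Matrix.of ![![e10, e00, e00], (mat y3).mulVec ![e10, e00, e00],
    (mat y3 * mat y3).mulVec ![e10, e00, e00]]).det ≠ 0 := by
  have h1 : mat y3 = M9.toMat Y3 := rfl
  rw [h1, ← M9.toMat_mul, Matrix.det_fin_three]
  simp [M9.toMat, M9.mul, Y3]
  decide

theorem y3_centralizer : Nat.card (Subgroup.centralizer ({y3} : Set SU3)) = 9 := by
  rw [card_centralizer y3 ![e10, e00, e00] y3_cyc L3]
  · rfl
  · show ∀ a b c : F9, M9.suOK (M9.poly Y3 a b c) ↔ (a, b, c) ∈ L3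
    decide

/-- **M3**. -/
theorem exists_order3 : ∃ y : ↥(Cfsg.SU 3 F9 3), orderOf y = 3 ∧
    Nat.card (Subgroup.centralizer ({y} : Set ↥(Cfsg.SU 3 F9 3))) = 9 :=
  ⟨y3, y3_order, y3_centralizer⟩

end Cfsg.Agent.Lib.H8.DG
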