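import Mathlib
import Cfsg.Prelude.Def_Classical
import Cfsg.Agent.Lib.H8.DGEng

/-!
# S3670 piece M7: an element of order 7 of `SU(3, F9)` with centralizer of order 7 (helper8, for architect helper3)
-/

set_option autoImplicit false
set_option maxRecDepth 100000

namespace Cfsg.Agent.Lib.H8.DG

open Matrix hiding SpecialLinearGroup
open Matrix (SpecialLinearGroup)
open Cfsg Cfsg.Agent.Lib.H14 Cfsg.Agent.Lib.H14.F9

/-- the element of order 7 -/
def X7 : M9 := ⟨e00, e00, e01, e11, e11, e00, e11, e22, e00⟩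

theorem X7_ok : M9.suOK X7 := by decide

/-- the element of order 7 -/
def x7 : SU3 := mkSU X7 X7_ok

theorem x7_order : orderOf x7 = 7 := by
  haveI : Fact (Nat.Prime 7) := ⟨by norm_num⟩
  apply orderOf_eq_prime
  · exact mkSU_pow_eq_one X7 X7_ok 7 (by decide)
  · have := mkSU_pow_ne_one X7 X7_ok 1 (by decide)
    rwa [pow_one] at this

/-- the polynomials in `x7` lying in `SU` -/
def L7 : Finset (F9 × F9 × F9) :=
  {(e00, e00, e10), (e00, e10, e00), (e10, e00, e00), (e10, e21, e11), (e11, e20, e20), (e12, e22, e10),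
    (e20, e20, e12)}

theorem x7_cyc : (Matrix.of ![![e10, e00, e00], (mat x7).mulVec ![e10, e00, e00],
    (mat x7 * mat x7).mulVec ![e10, e00, e00]]).det ≠ 0 := by
  have h1 : mat x7 = M9.toMat X7 := rfl
  rw [h1, ← M9.toMat_mul, Matrix.det_fin_three]
  simp [M9.toMat, M9.mul, X7]
  decide

theorem x7_centralizer : Nat.card (Subgroup.centralizer ({x7} : Set SU3)) = 7 := by
  rw [card_centralizer x7 ![e10, e00, e00] x7_cyc L7]
  · rfl
  · show ∀ a b c : F9, M9.suOK (M9.poly X7 a b c) ↔ (a, b, c) ∈ L7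
    decide

/-- **M7**. -/
theorem exists_order7 : ∃ x : ↥(Cfsg.SU 3 F9 3), orderOf x = 7 ∧
    Nat.card (Subgroup.centralizer ({x} : Set ↥(Cfsg.SU 3 F9 3))) = 7 :=
  ⟨x7, x7_order, x7_centralizer⟩

end Cfsg.Agent.Lib.H8.DG
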