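import Mathlib
import Cfsg.Prelude.Def_Classical
import Cfsg.Agent.Lib.H8.DGEng

/-!
# S3670 piece M8: an element of order 8 of `SU(3, F9)` with centralizer of order 8 (helper8, for architect helper3)
-/

set_option autoImplicit false
set_option maxRecDepth 100000

namespace Cfsg.Agent.Lib.H8.DG

open Matrix hiding SpecialLinearGroup
open Matrix (SpecialLinearGroup)
open Cfsg Cfsg.Agent.Lib.H14 Cfsg.Agent.Lib.H14.F9

/-- the element of order 8 -/
def Z8 : M9 := ⟨e00, e00, e01, e00, e01, e00, e10, e00, e00⟩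

theorem Z8_ok : M9.suOK Z8 := by decide

/-- the element of order 8 -/
def z8 : SU3 := mkSU Z8 Z8_ok

theorem z8_order : orderOf z8 = 8 := by
  haveI : Fact (Nat.Prime 2) := ⟨by norm_num⟩
  have h := orderOf_eq_prime_pow (x := z8) (p := 2) (n := 2)
    (mkSU_pow_ne_one Z8 Z8_ok (2 ^ 2) (by decide)) (mkSU_pow_eq_one Z8 Z8_ok (2 ^ (2 + 1)) (by decide))
  simpa using h

/-- the polynomials in `z8` lying in `SU` -/
def L8 : Finset (F9 × F9 × F9) :=
  {(e00, e00, e10), (e00, e10, e00), (e01, e00, e21), (e02, e02, e10), (e10, e00, e00), (e10, e01, e01),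
    (e21, e20, e22), (e22, e00, e02)}

theorem z8_cyc : (Matrix.of ![![e00, e01, e01], (mat z8).mulVec ![e00, e01, e01],
    (mat z8 * mat z8).mulVec ![e00, e01, e01]]).det ≠ 0 := by
  have h1 : mat z8 = M9.toMat Z8 := rfl
  rw [h1, ← M9.toMat_mul, Matrix.det_fin_three]
  simp [M9.toMat, M9.mul, Z8]
  decide

theorem z8_centralizer : Nat.card (Subgroup.centralizer ({z8} : Set SU3)) = 8 := by
  rw [card_centralizer z8 ![e00, e01, e01] z8_cyc L8]
  · rfl
  · show ∀ a b c : F9, M9.suOK (M9.poly Z8 a b c) ↔ (a, b, c) ∈ L8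
    decide

/-- **M8**. -/
theorem exists_order8 : ∃ z : ↥(Cfsg.SU 3 F9 3), orderOf z = 8 ∧
    Nat.card (Subgroup.centralizer ({z} : Set ↥(Cfsg.SU 3 F9 3))) = 8 :=
  ⟨z8, z8_order, z8_centralizer⟩

end Cfsg.Agent.Lib.H8.DG
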