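/-
S2937 (architect helper3), piece PSU (helper8): `PMinBad p (PSU_n(q))`, `n ≥ 4`.
Data as in the S2936 piece (`Lib/H28/OGPSU`): helper8's flag form (B,N)-pair `flagBN φ` / root data `flagRootData φ` of
`GS φ = GU_n(q)` restricted to `SUs φ`; `n ≥ 6`: leaf criterion with `s₁ s₂ s₃ = e 0, e 1, e 2` (helper1's `PMFLAG`, `PMRES`);
`n = 4, 5`: rank two, `p` odd by `pminBad_of_rank_two_odd`, `p = 2` by the different orders of the two minimal parabolics.
-/
import Mathlib
import Cfsg.Agent.Lib.H8.PMGen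
import Cfsg.Agent.Lib.H8.FBNUnitary
import Cfsg.Agent.Lib.H28.OGPSU
import Cfsg.Agent.Lib.H1.PMFLAG
import Cfsg.Agent.Lib.H19.PMPSUX

set_option autoImplicit false
set_option linter.unusedSectionVars false
set_option linter.unusedVariables false

namespace Cfsg.Agent.Lib.H8.PM

open Cfsg Cfsg.Agent.Lib.H3.PMin Cfsg.Agent.Lib.H2.BN
open Matrix Cfsg.Agent.Lib.H12.DCos Cfsg.Agent.Lib.H8.SpBN Cfsg.Agent.Lib.H8.BNRoot Cfsg.Agent.Lib.H8.BNRes
  Cfsg.Agent.Lib.H8.BNSteinberg Cfsg.Agent.Lib.H8.FBN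
open Cfsg.Agent.Lib.H4.FBN (det_eq_one_of_mem_Us det_eq_one_of_mem_Y)
open Cfsg.Agent.Lib.H6.FBN (Us_isPGroup card_Ts_coprime exists_trace_zero exists_trace_neg_one)
open Cfsg.Agent.Lib.H25.FBN (covers)
open Cfsg.Agent.Lib.H23.FBN (nonempty_iso)
open Cfsg.Agent.Lib.H1.PM (rootData_restrict_commutator_mem_iff commutator_mem_symm sRef_commutator_eq_one
  sRef_commutator_not_mem_Bs)

variable {F : Type*} [Field F] {n : ℕ}

/-- elements of `Y φ j` are lower triangular -/
theorem Y_isLow (φ : F →+* F) (j : Fin (n / 2)) (z : ↥(GS (n := n) φ)) (hz : z ∈ Y φ j) :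
    IsLow (z.1 : Matrix (Fin n) (Fin n) F) := by
  intro k l hkl
  exact hz.2 k l (ne_of_lt hkl) (fun hP => absurd hP.1 (not_lt.mpr (le_of_lt hkl)))

/-- two elements of `Y φ j` in the same coset of `B` coincide -/
theorem Y_inj (φ : F →+* F) (j : Fin (n / 2)) (y y' : ↥(GS (n := n) φ)) (hy : y ∈ Y φ j) (hy' : y' ∈ Y φ j)
    (h : y * y'⁻¹ ∈ Bs φ) : y = y' := by
  have hl := Y_isLow φ j y hy
  have hl' := Y_isLow φ j y' hy'
  have hM : ((y * y'⁻¹).1 : Matrix (Fin n) (Fin n) F) = (y.1 : Matrix (Fin n) (Fin n) F) * star φ (y'.1 : Matrix (Fin n) (Fin n) F) := by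
    rw [val_mul, inv_val]
  have hlow : IsLow ((y * y'⁻¹).1 : Matrix (Fin n) (Fin n) F) := by
    rw [hM]
    exact hl.mul (hl'.star φ)
  have hup : IsUp ((y * y'⁻¹).1 : Matrix (Fin n) (Fin n) F) := mem_Bs.mp h
  have hdg := isDg_of_isUp_of_isLow hup hlow
  have hone : y * y'⁻¹ = 1 := by
    apply ext_val
    rw [val_one]
    ext k l
    by_cases hkl : k = l
    · subst hkl
      rw [Matrix.one_apply_eq, hM, Matrix.mul_apply, Finset.sum_eq_single k]
      · rw [hy.1 k, (IsUni.star φ hy'.1) k, mul_one]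
      · intro m _ hmk
        rcases lt_or_gt_of_ne hmk with hlt | hgt
        · rw [(hl'.star φ) m k hlt, mul_zero]
        · rw [hl k m hgt, zero_mul]
      · intro hk
        exact absurd (Finset.mem_univ k) hk
    · rw [Matrix.one_apply_ne hkl]
      exact hdg k l hkl
  exact mul_inv_eq_one.mp hone

/-- **piece PSU of S2937**, with the inequality of the orders of the two root sets as a hypothesis for `n = 4, 5`, `p = 2` -/
theorem pm_PSU_gen (F : Type*) [Field F] [Fintype F] (p : ℕ) [Fact p.Prime] [CharP F p] (n q : ℕ)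
    (hF : Fintype.card F = q ^ 2) (hn : 4 ≤ n)
    (h45 : (n = 4 ∨ n = 5) → p = 2 → ∀ φ : F →+* F, (∀ x, φ x = x ^ q) → (∀ x, φ (φ x) = x) →
      ∀ (h0 : 0 < n / 2) (h1 : 1 < n / 2),
        Nat.card ↥(X (n := n) φ ⟨0, h0⟩) ≠ Nat.card ↥(X (n := n) φ ⟨1, h1⟩)) : PMinBad p (PSU n F q) := by
  classical
  have hpp : p.Prime := Fact.out
  obtain ⟨φ, hφ, hφ2⟩ := Cfsg.Agent.Lib.H4.exists_frob hF
  obtain ⟨ψ⟩ := nonempty_iso φ hF hφ n
  have hE : n % 2 = 0 → ∃ c : F, c ≠ 0 ∧ c + φ c = 0 := fun _ => exists_trace_zero φ hF hφ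
  have hO : n % 2 = 1 → ∃ β : F, β + φ β + 1 = 0 := fun _ => exists_trace_neg_one φ hF hφ
  let P := flagBN (n := n) φ hφ2 hE hO
  let D := flagRootData (n := n) φ hφ2 hE hO
  let G' : Subgroup ↥(GS (n := n) φ) := SUs (n := n) φ
  have hcov : Covers P G' := by
    intro h
    obtain ⟨t, ht, h'⟩ := covers φ hF hφ (by omega : 2 ≤ n) h
    exact ⟨t, ⟨Ts_le_Bs ht, Ts_le_Ns ht⟩, h'⟩
  choose τ hτ1 hτ2 using covers (n := n) φ hF hφ (by omega : 2 ≤ n)
  have hτ : ∀ s ∈ P.S, τ s ∈ P.B ⊓ P.N := fun s _ => ⟨Ts_le_Bs (hτ1 s), Ts_le_Ns (hτ1 s)⟩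
  have hτG : ∀ s ∈ P.S, s * τ s ∈ G' := fun s _ => hτ2 s
  have hτT : ∀ i, τ (D.e i) ∈ D.T := fun i => hτ1 _
  have hUG : D.U ≤ G' := fun u hu => mem_SUs.mpr (det_eq_one_of_mem_Us φ u hu)
  have hXG : ∀ i, D.X i ⊆ ((G' : Subgroup ↥(GS (n := n) φ)) : Set ↥(GS (n := n) φ)) :=
    fun i x hx => hUG (X_subset_Us i hx)
  have hYG : ∀ i, D.Y i ⊆ ((G' : Subgroup ↥(GS (n := n) φ)) : Set ↥(GS (n := n) φ)) :=
    fun i y hy => mem_SUs.mpr (det_eq_one_of_mem_Y φ i y hy)
  let D' := D.restrict G' hcov τ hτ hτG hτT hXG hYG hUG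
  let P' := Cfsg.Agent.Lib.H8.BNRes.restrict P G' hcov τ hτ hτG
  have hU' : IsPGroup p ↥D'.U := by
    have h1 : IsPGroup p ↥(Us (n := n) φ) := Us_isPGroup φ p
    exact h1.of_injective (Subgroup.subgroupOfEquivOfLe hUG).toMonoidHom (Subgroup.subgroupOfEquivOfLe hUG).injective
  have hT' : (Nat.card ↥D'.T).Coprime p := by
    have h1 : (Nat.card ↥(Ts (n := n) φ)).Coprime p := card_Ts_coprime φ p
    let f : ↥((Ts (n := n) φ).subgroupOf G') →* ↥(Ts (n := n) φ) :=
      { toFun := fun x => ⟨(x : ↥G'), Subgroup.mem_subgroupOf.mp x.2⟩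
        map_one' := rfl
        map_mul' := fun _ _ => rfl }
    have hf : Function.Injective f := by
      intro x y h
      apply Subtype.ext
      apply Subtype.ext
      exact congrArg (fun z : ↥(Ts (n := n) φ) => (z : ↥(GS (n := n) φ))) h
    exact Nat.Coprime.coprime_dvd_left (Subgroup.card_dvd_of_injective f hf) h1
  have hspl : Spl p P' D'.T D'.U := spl_of_rootData D' p hU' hT'
  -- the quotient map
  let e : (↥G' ⧸ Subgroup.center ↥G') ≃* PSU n F q := centerQuotientCongr ψ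
  let π : ↥G' →* PSU n F q := e.toMonoidHom.comp (QuotientGroup.mk' (Subgroup.center ↥G'))
  have hπ : Function.Surjective π := e.surjective.comp (QuotientGroup.mk'_surjective _)
  have hkerEq : π.ker = Subgroup.center ↥G' := by
    ext x
    rw [MonoidHom.mem_ker]
    constructor
    · intro h
      have h1 : e (QuotientGroup.mk' (Subgroup.center ↥G') x) = 1 := h
      have h2 : QuotientGroup.mk' (Subgroup.center ↥G') x = 1 := by
        rw [← map_one e] at h1
        exact e.injective h1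
      exact (QuotientGroup.eq_one_iff x).mp h2
    · intro h
      have h2 : QuotientGroup.mk' (Subgroup.center ↥G') x = 1 := (QuotientGroup.eq_one_iff x).mpr h
      show e (QuotientGroup.mk' (Subgroup.center ↥G') x) = 1
      rw [h2, map_one]
  have hker : π.ker ≤ P'.B := by
    rw [hkerEq]
    exact D'.center_le_T.trans D'.hTB
  haveI : Finite (PSU n F q) := Finite.of_surjective π hπ
  -- the generators
  have heN : ∀ i, D'.e i ∈ P'.N := fun i => P'.subset (D'.e_mem_S i)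
  have hcomm : ∀ i j : Fin (n / 2), ((i : ℕ) + 2 ≤ j ∨ (j : ℕ) + 2 ≤ i) →
      Eqv P' (D'.e i * D'.e j) (D'.e j * D'.e i) := by
    intro i j hij
    rw [eqv_comm_iff (heN i) (heN j),
      rootData_restrict_commutator_mem_iff G' hcov τ hτ hτG D hτT hXG hYG hUG i j]
    show sRef φ i * sRef φ j * (sRef φ i)⁻¹ * (sRef φ j)⁻¹ ∈ Bs φ
    rw [sRef_commutator_eq_one φ i j hij]
    exact (Bs φ).one_mem
  have hncomm : ∀ i j : Fin (n / 2), (j : ℕ) = i + 1 →
      ¬ Eqv P' (D'.e i * D'.e j) (D'.e j * D'.e i) ∧ ¬ Eqv P' (D'.e j * D'.e i) (D'.e i * D'.e j) := by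
    intro i j hij
    have h0 : ¬ (D'.e i * D'.e j * (D'.e i)⁻¹ * (D'.e j)⁻¹ ∈ P'.B) := by
      rw [rootData_restrict_commutator_mem_iff G' hcov τ hτ hτG D hτT hXG hYG hUG i j]
      exact sRef_commutator_not_mem_Bs φ i j hij
    constructor
    · rw [eqv_comm_iff (heN i) (heN j)]
      exact h0
    · rw [eqv_comm_iff (heN j) (heN i), ← commutator_mem_symm]
      exact h0
  have hinj : ∀ i j : Fin (n / 2), D'.e i = D'.e j → i = j := by
    intro i j hij
    have h1 : ((D'.e i : ↥G') : ↥(GS (n := n) φ)) = sRef φ i * τ (sRef φ i) := rfl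
    have h2 : ((D'.e j : ↥G') : ↥(GS (n := n) φ)) = sRef φ j * τ (sRef φ j) := rfl
    have h3 : sRef φ i * τ (sRef φ i) = sRef φ j * τ (sRef φ j) := by rw [← h1, ← h2, hij]
    apply Cfsg.Agent.Lib.H24.FBN.sRef_inj φ i j
    have e0 : ∀ a b ta tb : ↥(GS (n := n) φ), a * ta = b * tb → a⁻¹ * b = ta * tb⁻¹ := by
      intro a b ta tb h
      have : b = a * ta * tb⁻¹ := by rw [h]; group
      rw [this]; group
    have e1 : (sRef φ i)⁻¹ * sRef φ j = τ (sRef φ i) * (τ (sRef φ j))⁻¹ := e0 _ _ _ _ h3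
    rw [e1]
    exact (Bs φ).mul_mem (Ts_le_Bs (hτ1 _)) ((Bs φ).inv_mem (Ts_le_Bs (hτ1 _)))
  by_cases h6 : 6 ≤ n
  · -- rank at least three: the leaf `e 0 - e 1 - e 2`
    have hr : 3 ≤ n / 2 := by omega
    let i0 : Fin (n / 2) := ⟨0, by omega⟩
    let i1 : Fin (n / 2) := ⟨1, by omega⟩
    let i2 : Fin (n / 2) := ⟨2, by omega⟩
    refine pminBad_of_leaf hspl π hπ hker (D'.e i0) (D'.e i1) (D'.e i2) (D'.e_mem_S i0) (D'.e_mem_S i1)
      (D'.e_mem_S i2) ?_ ?_ ?_ ?_ ?_
    · intro h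
      have := congrArg Fin.val (hinj i0 i1 h)
      simp [i0, i1] at this
    · intro h
      have := congrArg Fin.val (hinj i0 i2 h)
      simp [i0, i2] at this
    · intro t ht ht0 ht1
      rw [← D'.hS] at ht
      obtain ⟨j, rfl⟩ := ht
      have hj0 : (j : ℕ) ≠ 0 := by
        intro h
        apply ht0
        congr 1
        exact Fin.ext h
      have hj1 : (j : ℕ) ≠ 1 := by
        intro h
        apply ht1
        congr 1
        exact Fin.ext h
      exact hcomm i0 j (Or.inl (by show 0 + 2 ≤ (j : ℕ); omega))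
    · exact (hncomm i0 i1 rfl).2
    · exact (hncomm i1 i2 rfl).1
  · -- rank two
    have hn45 : n = 4 ∨ n = 5 := by omega
    have hr : n / 2 = 2 := by omega
    let i0 : Fin (n / 2) := ⟨0, by omega⟩
    let i1 : Fin (n / 2) := ⟨1, by omega⟩
    have hne01 : D'.e i0 ≠ D'.e i1 := by
      intro h
      have := congrArg Fin.val (hinj i0 i1 h)
      simp [i0, i1] at this
    have hS01 : P'.S = {D'.e i0, D'.e i1} := by
      rw [← D'.hS]
      ext t
      constructor
      · rintro ⟨j, rfl⟩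
        have hj : (j : ℕ) = 0 ∨ (j : ℕ) = 1 := by have := j.2; omega
        rcases hj with hj | hj
        · left
          congr 1
          exact Fin.ext hj
        · right
          show D'.e j = D'.e i1
          congr 1
          exact Fin.ext hj
      · rintro (rfl | rfl)
        · exact ⟨i0, rfl⟩
        · exact ⟨i1, rfl⟩
    by_cases hp2 : p = 2
    · -- `p = 2`: the two minimal parabolic subgroups have different orders
      have hXne := h45 hn45 hp2 φ hφ hφ2 (by omega) (by omega)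
      have hcard : ∀ i : Fin (n / 2), Nat.card ↥(P'.parabolic {D'.e i}) =
          Nat.card ↥P'.B * (1 + Nat.card ↥(X (n := n) φ i)) := by
        intro i
        have hXeq : Nat.card ↥(D'.X i) = Nat.card ↥(X (n := n) φ i) := by
          apply Nat.card_congr
          exact
            { toFun := fun x => ⟨((x.1 : ↥G') : ↥(GS (n := n) φ)), x.2⟩
              invFun := fun x => ⟨⟨x.1, hXG i x.2⟩, x.2⟩
              left_inv := fun x => rfl
              right_inv := fun x => rfl }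
        rw [← hXeq]
        apply card_parabolic_singleton (D'.e_mem_S i) (D'.X i)
        · intro x hx
          exact D'.hUB (D'.hXU i hx)
        · exact D'.ha i
        · intro x hx x' hx' hB
          rw [mem_restrict_B] at hB
          apply Subtype.ext
          have hx0 : ((x : ↥G') : ↥(GS (n := n) φ)) ∈ X φ i := hx
          have hx0' : ((x' : ↥G') : ↥(GS (n := n) φ)) ∈ X φ i := hx'
          set t : ↥(GS (n := n) φ) := τ (sRef φ i) with ht
          have htT : t ∈ Ts φ := hτ1 _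
          have hc : sRef φ i * t * (sRef φ i)⁻¹ ∈ Bs φ :=
            Ts_le_Bs (Cfsg.Agent.Lib.H24.FBN.Ms_conj_Ts φ (sRef φ i) t (Ns_le_Ms (sRef_mem_Ns φ i)) htT)
          have e : (((D'.e i * (x * x'⁻¹) * (D'.e i)⁻¹ : ↥G') : ↥G') : ↥(GS (n := n) φ)) =
              (sRef φ i * t * (sRef φ i)⁻¹) *
                ((sRef φ i * (x : ↥(GS (n := n) φ)) * (sRef φ i)⁻¹) *
                  (sRef φ i * (x' : ↥(GS (n := n) φ)) * (sRef φ i)⁻¹)⁻¹) *
                (sRef φ i * t * (sRef φ i)⁻¹)⁻¹ := by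
            show (sRef φ i * t) * ((x : ↥(GS (n := n) φ)) * (x' : ↥(GS (n := n) φ))⁻¹) * (sRef φ i * t)⁻¹ = _
            group
          rw [e] at hB
          have hB2 : (sRef φ i * (x : ↥(GS (n := n) φ)) * (sRef φ i)⁻¹) *
              (sRef φ i * (x' : ↥(GS (n := n) φ)) * (sRef φ i)⁻¹)⁻¹ ∈ Bs φ := by
            have := (Bs φ).mul_mem ((Bs φ).mul_mem ((Bs φ).inv_mem hc) hB) hc
            have e2 : (sRef φ i * t * (sRef φ i)⁻¹)⁻¹ *
                ((sRef φ i * t * (sRef φ i)⁻¹) *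
                  ((sRef φ i * (x : ↥(GS (n := n) φ)) * (sRef φ i)⁻¹) *
                    (sRef φ i * (x' : ↥(GS (n := n) φ)) * (sRef φ i)⁻¹)⁻¹) *
                  (sRef φ i * t * (sRef φ i)⁻¹)⁻¹) * (sRef φ i * t * (sRef φ i)⁻¹) =
                (sRef φ i * (x : ↥(GS (n := n) φ)) * (sRef φ i)⁻¹) *
                  (sRef φ i * (x' : ↥(GS (n := n) φ)) * (sRef φ i)⁻¹)⁻¹ := by group
            rwa [e2] at this
          have hyy := Y_inj φ i _ _ (Cfsg.Agent.Lib.H4.FBN.sRef_conj_X φ i _ hx0) (Cfsg.Agent.Lib.H4.FBN.sRef_conj_X φ i _ hx0') hB2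
          have := congrArg (fun z => (sRef φ i)⁻¹ * z * sRef φ i) hyy
          simpa [mul_assoc] using this
      refine pminBad_of_card_ne hspl π hπ hker (D'.e i0) (D'.e i1) (D'.e_mem_S i0) (D'.e_mem_S i1) ?_
      rw [hcard i0, hcard i1]
      intro he
      have hpos : 0 < Nat.card ↥P'.B := Nat.card_pos
      have := Nat.eq_of_mul_eq_mul_left hpos he
      exact hXne (Nat.add_left_cancel this)
    · exact pminBad_of_rank_two_odd hspl π hπ hker (D'.e i0) (D'.e i1) hne01 hS01 hp2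

/-- **piece PSU of S2937** -/
theorem pm_PSU (F : Type*) [Field F] [Fintype F] (p : ℕ) [Fact p.Prime] [CharP F p] (n q : ℕ)
    (hF : Fintype.card F = q ^ 2) (hn : 4 ≤ n) : PMinBad p (PSU n F q) := by
  apply pm_PSU_gen F p n q hF hn
  intro h45 _ φ hφ hφ2 h0 h1
  obtain ⟨β, hβ⟩ := exists_trace_neg_one φ hF hφ
  have hne : ∃ c : F, c + φ c ≠ 0 := by
    refine ⟨β, fun h => ?_⟩
    rw [h, zero_add] at hβ
    exact one_ne_zero hβ
  rcases h45 with rfl | rfl
  · have e0 := Cfsg.Agent.Lib.H19.PM.card_X_zero (n := 4) φ hφ2 (le_refl 4)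
    have e1 := Cfsg.Agent.Lib.H19.PM.card_X_one_four φ hφ2 hne
    intro he
    have e0' : Nat.card ↥(X (n := 4) φ ⟨0, h0⟩) = Nat.card F := e0
    have e1' : Nat.card ↥(X (n := 4) φ ⟨1, h1⟩) < Nat.card F := e1
    omega
  · have e0 := Cfsg.Agent.Lib.H19.PM.card_X_zero (n := 5) φ hφ2 (by norm_num)
    have e1 := Cfsg.Agent.Lib.H19.PM.card_X_one_five φ hφ2 (exists_trace_zero φ hF hφ) ⟨β, hβ⟩
    intro he
    have e0' : Nat.card ↥(X (n := 5) φ ⟨0, h0⟩) = Nat.card F := e0
    have e1' : Nat.card F < Nat.card ↥(X (n := 5) φ ⟨1, h1⟩) := e1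
    omega

end Cfsg.Agent.Lib.H8.PM
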