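import Mathlib
import Cfsg.Agent.Lib.H8.SUN3
import Cfsg.Agent.Lib.H20.SunK

set_option autoImplicit false

/-!
# The abstract assembly for S2282 (helper8)

A sub-frame `fr`, a "middle" unipotent `C` and `X = ι(xk) C`.  If two conjugators `G`, `H'`
commute with `C` and act on the frame through `gk`, `hk`, and the two `k`-dimensional commutators
generate `SUJn σ k`, then the closure of `X, G X G⁻¹, H' X H'⁻¹` contains `ι(SUJn σ k)` and `C`;
with a cyclicity hypothesis it contains all transvections.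
-/

namespace Cfsg.Agent.Lib.H8.SUN

open Matrix

variable {F : Type*} [Field F] {σ : F →+* F} {n k : ℕ}

namespace SubFrame

variable (fr : SubFrame σ n k)

theorem P_th_Ps (x y : Fin k → F) :
    fr.P * th σ x y * fr.Ps = th σ (fr.P *ᵥ x) (fr.P *ᵥ y) := by
  ext a b
  rw [Matrix.mul_apply, th_apply]
  have h1 : ∀ j : Fin k, (fr.P * th σ x y) a j = (fr.P *ᵥ x) a * σ (y (Fin.rev j)) := by
    intro j
    rw [Matrix.mul_apply, Matrix.mulVec, dotProduct, Finset.sum_mul]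
    apply Finset.sum_congr rfl
    intro i _
    rw [th_apply]; ring
  simp only [h1, fr.Ps_apply]
  simp only [mul_assoc]
  rw [← Finset.mul_sum]
  congr 1
  rw [Matrix.mulVec, dotProduct, map_sum, ← Equiv.sum_comp Fin.revPerm]
  apply Finset.sum_congr rfl
  intro j _
  simp [mul_comm]

theorem emb_Rn (x b : Fin k → F) (s : F) :
    fr.emb (Rn σ x b s) = Rn σ (fr.P *ᵥ x) (fr.P *ᵥ b) s := by
  unfold emb
  rw [Rn_eq, Rn_eq, add_sub_cancel_left]
  congr 1
  rw [Matrix.mul_add, Matrix.mul_sub, Matrix.add_mul, Matrix.sub_mul, Matrix.mul_smul,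
    Matrix.smul_mul, fr.P_th_Ps, fr.P_th_Ps, fr.P_th_Ps]

theorem emb_tJn (v : Fin k → F) (c : F) : fr.emb (tJn σ v c) = tJn σ (fr.P *ᵥ v) c := by
  rw [← Rn_zero, fr.emb_Rn, Matrix.mulVec_zero, Rn_zero]

/-- the frame map is an isometry -/
theorem hJn_P (x y : Fin k → F) : hJn σ (fr.P *ᵥ x) (fr.P *ᵥ y) = hJn σ x y := by
  have hcol : ∀ i j : Fin k, ∑ l, fr.P l i * σ (fr.P (Fin.rev l) j) =
      if j = Fin.rev i then 1 else 0 := by
    intro i j
    rw [← fr.hJn_col j i]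
    rfl
  calc hJn σ (fr.P *ᵥ x) (fr.P *ᵥ y)
      = ∑ l, (∑ i, fr.P l i * x i) * σ (∑ j, fr.P (Fin.rev l) j * y j) := rfl
    _ = ∑ l, ∑ i, ∑ j, x i * σ (y j) * (fr.P l i * σ (fr.P (Fin.rev l) j)) := by
        apply Finset.sum_congr rfl
        intro l _
        rw [map_sum, Finset.sum_mul]
        apply Finset.sum_congr rfl
        intro i _
        rw [Finset.mul_sum]
        apply Finset.sum_congr rfl
        intro j _
        rw [map_mul]
        ring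
    _ = ∑ i, ∑ j, x i * σ (y j) * ∑ l, fr.P l i * σ (fr.P (Fin.rev l) j) := by
        rw [Finset.sum_comm]
        apply Finset.sum_congr rfl
        intro i _
        rw [Finset.sum_comm]
        apply Finset.sum_congr rfl
        intro j _
        rw [Finset.mul_sum]
    _ = ∑ i, x i * σ (y (Fin.rev i)) := by
        apply Finset.sum_congr rfl
        intro i _
        rw [Finset.sum_eq_single (Fin.rev i)]
        · rw [hcol, if_pos rfl, mul_one]
        · intro j _ hj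
          rw [hcol, if_neg hj, mul_zero]
        · simp

end SubFrame

/-! ### part 1: the embedded `SUJn σ k` and `C` lie in the closure -/

section part1

variable (hσ : ∀ x, σ (σ x) = x) (fr : SubFrame σ n k)

/-- the three conjugates -/
def gens3 (X G H' : SUJn σ n) : Set (SUJn σ n) := {X, G * X * G⁻¹, H' * X * H'⁻¹}

include hσ in
theorem comm_eq_iota (C G : SUJn σ n) (xk x₁ : SUJn σ k) (gk : Matrix (Fin k) (Fin k) F)
    (hgk : gk * dagn σ gk = 1) (hGP : matn G * fr.P = fr.P * gk) (hGC : G * C = C * G)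
    (hx₁ : matn x₁ = matn xk * dagn σ (gk * matn xk * dagn σ gk)) :
    (fr.iota hσ xk * C) * (G * (fr.iota hσ xk * C) * G⁻¹)⁻¹ = fr.iota hσ x₁ := by
  have h1 : G * (fr.iota hσ xk * C) * G⁻¹ = (G * fr.iota hσ xk * G⁻¹) * C := by
    have : G * C * G⁻¹ = C := by rw [hGC, mul_assoc, mul_inv_cancel, mul_one]
    calc G * (fr.iota hσ xk * C) * G⁻¹ = (G * fr.iota hσ xk * G⁻¹) * (G * C * G⁻¹) := by group
      _ = (G * fr.iota hσ xk * G⁻¹) * C := by rw [this]
  have h2 : (fr.iota hσ xk * C) * ((G * fr.iota hσ xk * G⁻¹) * C)⁻¹ =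
      fr.iota hσ xk * (G * fr.iota hσ xk * G⁻¹)⁻¹ := by group
  rw [h1, h2]
  apply matn_injective
  rw [matn_mul, matn_inv, matn_mul, matn_mul, matn_inv, SubFrame.matn_iota, SubFrame.matn_iota,
    fr.conj_emb_of_mul (matn G) (dagn_matn_mul G) gk hgk hGP, fr.dagn_emb hσ, ← fr.emb_mul, hx₁]

include hσ in
theorem iota_mem_closure (C G H' : SUJn σ n) (xk x₁ k₂ : SUJn σ k)
    (gk hk : Matrix (Fin k) (Fin k) F) (hgk : gk * dagn σ gk = 1) (hhk : hk * dagn σ hk = 1)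
    (hGP : matn G * fr.P = fr.P * gk) (hHP : matn H' * fr.P = fr.P * hk)
    (hGC : G * C = C * G) (hHC : H' * C = C * H')
    (hx₁ : matn x₁ = matn xk * dagn σ (gk * matn xk * dagn σ gk))
    (hk₂ : matn k₂ = matn xk * dagn σ (hk * matn xk * dagn σ hk))
    (hgen : ∀ K : Subgroup (SUJn σ k), x₁ ∈ K → k₂ ∈ K → K = ⊤) :
    (∀ y : SUJn σ k, fr.iota hσ y ∈ Subgroup.closure (gens3 (fr.iota hσ xk * C) G H')) ∧
      C ∈ Subgroup.closure (gens3 (fr.iota hσ xk * C) G H') := by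
  set X := fr.iota hσ xk * C with hX
  set Hg := Subgroup.closure (gens3 X G H') with hHg
  have hXm : X ∈ Hg := Subgroup.subset_closure (by simp [gens3])
  have hYm : G * X * G⁻¹ ∈ Hg := Subgroup.subset_closure (by simp [gens3])
  have hZm : H' * X * H'⁻¹ ∈ Hg := Subgroup.subset_closure (by simp [gens3])
  have h1 : fr.iota hσ x₁ ∈ Hg := by
    rw [← comm_eq_iota hσ fr C G xk x₁ gk hgk hGP hGC hx₁]
    exact Hg.mul_mem hXm (Hg.inv_mem hYm)
  have h2 : fr.iota hσ k₂ ∈ Hg := by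
    rw [← comm_eq_iota hσ fr C H' xk k₂ hk hhk hHP hHC hk₂]
    exact Hg.mul_mem hXm (Hg.inv_mem hZm)
  have htop : Hg.comap (fr.iota hσ) = ⊤ := hgen _ h1 h2
  have hall : ∀ y : SUJn σ k, fr.iota hσ y ∈ Hg := by
    intro y
    have : y ∈ Hg.comap (fr.iota hσ) := by rw [htop]; trivial
    exact this
  refine ⟨hall, ?_⟩
  have : C = (fr.iota hσ xk)⁻¹ * X := by rw [hX]; group
  rw [this]
  exact Hg.mul_mem (Hg.inv_mem (hall xk)) hXm

end part1

/-! ### part 2: bootstrapping and Lemma K -/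

section part2

open Cfsg.Agent.Lib.H20.SunK

theorem matn_pow_mulVec_fix (C : SUJn σ n) {u : Fin n → F} (hCu : matn C *ᵥ u = u) (i : ℕ) :
    (matn C ^ i) *ᵥ u = u := by
  induction i with
  | zero => rw [pow_zero, Matrix.one_mulVec]
  | succ i ih => rw [pow_succ, ← Matrix.mulVec_mulVec, hCu, ih]

theorem emb_mulVec_P (fr : SubFrame σ n k) (M : Matrix (Fin k) (Fin k) F) (x : Fin k → F) :
    fr.emb M *ᵥ (fr.P *ᵥ x) = fr.P *ᵥ (M *ᵥ x) := by
  rw [Matrix.mulVec_mulVec, fr.emb_mul_P, ← Matrix.mulVec_mulVec]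

theorem all_tJn_mem (hσ : ∀ x, σ (σ x) = x) {ω : F} (hω : ω + σ ω = 1) {c₀ : F} (hc₀ : c₀ ≠ 0)
    (hc₀' : c₀ + σ c₀ = 0) (fr : SubFrame σ n k) (Hg : Subgroup (SUJn σ n)) (C : SUJn σ n)
    (hC : C ∈ Hg) (hall : ∀ y : SUJn σ k, fr.iota hσ y ∈ Hg)
    (e0 el : Fin k → F) (he0 : hJn σ e0 e0 = 0) (hel : hJn σ el el = 0) (he0l : hJn σ e0 el = 1)
    (hCu : matn C *ᵥ (fr.P *ᵥ e0) = fr.P *ᵥ e0)
    (wk : SUJn σ k) (hwk : hJn σ (matn wk *ᵥ e0) e0 ≠ 0)
    (hcyc : ∀ b : Fin n → F, hJn σ b (fr.P *ᵥ e0) = 0 → hJn σ b (fr.P *ᵥ el) = 0 →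
      b ∈ Submodule.span F {v | ∃ (i : ℕ) (bk : Fin k → F), hJn σ bk e0 = 0 ∧ hJn σ bk el = 0 ∧
        v = (matn C ^ i) *ᵥ (fr.P *ᵥ bk)}) :
    ∀ (g : SUJn σ n) (v : Fin n → F) (c : F), hJn σ v v = 0 → c + σ c = 0 →
      matn g = tJn σ v c → g ∈ Hg := by
  set u := fr.P *ᵥ e0 with hu
  set u' := fr.P *ᵥ el with hu'
  have huu : hJn σ u u = 0 := by rw [hu, fr.hJn_P, he0]
  have hu'u' : hJn σ u' u' = 0 := by rw [hu', fr.hJn_P, hel]
  have huu' : hJn σ u u' = 1 := by rw [hu, hu', fr.hJn_P, he0l]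
  -- the set of `b` with an Eichler element in `Hg`
  let InW : (Fin n → F) → Prop := fun b => hJn σ b u = 0 ∧ ∃ s : F, s + σ s + hJn σ b b = 0 ∧
    ∃ h ∈ Hg, matn h = Rn σ u b s
  have W_zero : InW 0 := by
    refine ⟨hJn_zero_left σ u, 0, ?_, 1, Hg.one_mem, ?_⟩
    · rw [map_zero, hJn_zero_left, add_zero, add_zero]
    · rw [matn_one, Rn_zero_zero]
  have W_add : ∀ b b', InW b → InW b' → InW (b + b') := by
    rintro b b' ⟨hb, s, hs, h, hh, hhm⟩ ⟨hb', s', hs', h', hh', hhm'⟩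
    have hub : hJn σ u b = 0 := by rw [← hJn_symm σ hσ, hb, map_zero]
    refine ⟨by rw [hJn_add_left, hb, hb', add_zero], s + s' - hJn σ b' b, ?_, h * h',
      Hg.mul_mem hh hh', ?_⟩
    · have h1 : σ (hJn σ b' b) = hJn σ b b' := hJn_symm σ hσ b' b
      rw [map_sub, map_add, h1, hJn_add_left, hJn_add_right, hJn_add_right]
      linear_combination hs + hs'
    · rw [matn_mul, hhm, hhm', Rn_mul σ huu hub hb']
  -- generators
  have W_gen : ∀ (i : ℕ) (bk : Fin k → F), hJn σ bk e0 = 0 → hJn σ bk el = 0 →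
      InW ((matn C ^ i) *ᵥ (fr.P *ᵥ bk)) := by
    intro i bk hbk0 _
    have hCi : dagn σ (matn C ^ i) * (matn C ^ i) = 1 := by
      rw [← matn_pow]; exact dagn_matn_mul (C ^ i)
    have hCi' : (matn C ^ i) * dagn σ (matn C ^ i) = 1 := mul_eq_one_comm.mp hCi
    have hfix : (matn C ^ i) *ᵥ u = u := matn_pow_mulVec_fix C hCu i
    have hNfix : σ (hJn σ bk bk) = hJn σ bk bk := hJn_symm σ hσ bk bk
    obtain ⟨s, hsd⟩ : ∃ s : F, s = -(ω * hJn σ bk bk) := ⟨_, rfl⟩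
    have hs : s + σ s + hJn σ bk bk = 0 := by
      rw [hsd, map_neg, map_mul, hNfix]
      linear_combination (-(hJn σ bk bk)) * hω
    have he0bk : hJn σ e0 bk = 0 := by rw [← hJn_symm σ hσ, hbk0, map_zero]
    set rk : SUJn σ k := mkJn σ (Rn σ e0 bk s) (det_Rn σ hσ he0 he0bk hbk0 s)
      (Rn_unitary σ hσ he0 he0bk hs) with hrk
    refine ⟨?_, s, ?_, C ^ i * fr.iota hσ rk * (C ^ i)⁻¹,
      Hg.mul_mem (Hg.mul_mem (Hg.pow_mem hC i) (hall rk)) (Hg.inv_mem (Hg.pow_mem hC i)), ?_⟩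
    · rw [← hfix, hJn_isom σ hσ hCi, hu, fr.hJn_P, hbk0]
    · rw [hJn_isom σ hσ hCi, fr.hJn_P]; exact hs
    · rw [matn_mul, matn_mul, matn_inv, matn_pow, SubFrame.matn_iota, hrk, matn_mkJn, fr.emb_Rn,
        conj_Rn σ hσ hCi', hfix]
  have W_span : ∀ b : Fin n → F, b ∈ Submodule.span F {v | ∃ (i : ℕ) (bk : Fin k → F),
      hJn σ bk e0 = 0 ∧ hJn σ bk el = 0 ∧ v = (matn C ^ i) *ᵥ (fr.P *ᵥ bk)} →
      ∀ c : F, InW (c • b) := by
    intro b hb
    induction hb using Submodule.span_induction with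
    | mem v hv =>
      obtain ⟨i, bk, h0, hl, rfl⟩ := hv
      intro c
      have : c • ((matn C ^ i) *ᵥ (fr.P *ᵥ bk)) = (matn C ^ i) *ᵥ (fr.P *ᵥ (c • bk)) := by
        rw [Matrix.mulVec_smul, Matrix.mulVec_smul]
      rw [this]
      exact W_gen i (c • bk) (by rw [hJn_smul_left, h0, mul_zero])
        (by rw [hJn_smul_left, hl, mul_zero])
    | zero => intro c; rw [smul_zero]; exact W_zero
    | add x y _ _ hx hy => intro c; rw [smul_add]; exact W_add _ _ (hx c) (hy c)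
    | smul a x _ hx => intro c; rw [smul_smul]; exact hx (c * a)
  -- the hypothesis of Lemma K
  have hQ : ∀ (b : Fin n → F) (s : F), hJn σ b u = 0 → hJn σ b u' = 0 →
      s + σ s + hJn σ b b = 0 → ∃ g ∈ Hg, matn g = Rn σ u b s := by
    intro b s hbu hbu' hs
    have h1 := W_span b (hcyc b hbu hbu') 1
    rw [one_smul] at h1
    obtain ⟨_, s₀, hs₀, h₀, hh₀, hh₀m⟩ := h1
    have ht : (s - s₀) + σ (s - s₀) + hJn σ (0 : Fin k → F) 0 = 0 := by
      rw [map_sub, hJn_zero_left]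
      linear_combination hs - hs₀
    have ht' : (s - s₀) + σ (s - s₀) = 0 := by rw [hJn_zero_left, add_zero] at ht; exact ht
    set tk : SUJn σ k := mkJn σ (Rn σ e0 0 (s - s₀))
      (det_Rn σ hσ he0 (hJn_zero_right σ e0) (hJn_zero_left σ e0) _)
      (Rn_unitary σ hσ he0 (hJn_zero_right σ e0) ht) with htk
    have hub : hJn σ u b = 0 := by rw [← hJn_symm σ hσ, hbu, map_zero]
    refine ⟨h₀ * fr.iota hσ tk, Hg.mul_mem hh₀ (hall tk), ?_⟩
    rw [matn_mul, hh₀m, SubFrame.matn_iota, htk, matn_mkJn, fr.emb_Rn, Matrix.mulVec_zero,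
      Rn_mul σ huu hub (hJn_zero_left σ u), add_zero, hJn_zero_left, sub_zero]
    congr 1
    ring
  -- the element moving `u`
  have hz : hJn σ (matn (fr.iota hσ wk) *ᵥ u) u ≠ 0 := by
    rw [SubFrame.matn_iota, hu, emb_mulVec_P, fr.hJn_P]
    exact hwk
  exact lemmaK hσ hω hc₀ hc₀' Hg u u' huu hu'u' huu' hQ (fr.iota hσ wk) (hall wk) hz

end part2

end Cfsg.Agent.Lib.H8.SUN
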