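import Mathlib
import Cfsg.Agent.Lib.H8.SUN5
import Cfsg.Agent.Lib.H7.SunR3

set_option autoImplicit false

/-!
# S2282: the generic assembly and the local statement for `q = 2` (helper8)
-/

namespace Cfsg.Agent.Lib.H8.SUN

open Matrix

variable {F : Type*} [Field F] {σ : F →+* F} {n k : ℕ}

theorem hJn_single_right (σ : F →+* F) (b : Fin n → F) (j : Fin n) :
    hJn σ b (Pi.single j 1) = b (Fin.rev j) := by
  unfold hJn
  rw [Finset.sum_eq_single (Fin.rev j)]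
  · rw [Fin.rev_rev, Pi.single_eq_same, map_one, mul_one]
  · intro i _ hi
    rw [Pi.single_eq_of_ne, map_zero, mul_zero]
    intro h
    apply hi
    rw [← h, Fin.rev_rev]
  · intro h
    exact absurd (Finset.mem_univ _) h

theorem hJn_single_left (σ : F →+* F) (b : Fin n → F) (j : Fin n) :
    hJn σ (Pi.single j 1) b = σ (b (Fin.rev j)) := by
  unfold hJn
  rw [Finset.sum_eq_single j]
  · rw [Pi.single_eq_same, one_mul]
  · intro i _ hi
    rw [Pi.single_eq_of_ne hi, zero_mul]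
  · intro h
    exact absurd (Finset.mem_univ _) h

/-- the generic assembly: all transvections lie in the closure of the three conjugates -/
theorem tJn_mem_gens3 (hσ : ∀ x, σ (σ x) = x) {ω : F} (hω : ω + σ ω = 1) {c₀ : F} (hc₀ : c₀ ≠ 0)
    (hc₀' : c₀ + σ c₀ = 0) (fr : SubFrame σ n k) (C G H' : SUJn σ n) (xk x₁ k₂ : SUJn σ k)
    (gk hk : Matrix (Fin k) (Fin k) F) (hgk : gk * dagn σ gk = 1) (hhk : hk * dagn σ hk = 1)
    (hGP : matn G * fr.P = fr.P * gk) (hHP : matn H' * fr.P = fr.P * hk)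
    (hGC : G * C = C * G) (hHC : H' * C = C * H')
    (hx₁ : matn x₁ = matn xk * dagn σ (gk * matn xk * dagn σ gk))
    (hk₂ : matn k₂ = matn xk * dagn σ (hk * matn xk * dagn σ hk))
    (hgen : ∀ K : Subgroup (SUJn σ k), x₁ ∈ K → k₂ ∈ K → K = ⊤)
    (e0 el : Fin k → F) (he0 : hJn σ e0 e0 = 0) (hel : hJn σ el el = 0) (he0l : hJn σ e0 el = 1)
    (hCu : matn C *ᵥ (fr.P *ᵥ e0) = fr.P *ᵥ e0)
    (hcyc : ∀ b : Fin n → F, hJn σ b (fr.P *ᵥ e0) = 0 → hJn σ b (fr.P *ᵥ el) = 0 →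
      b ∈ Submodule.span F {v | ∃ (i : ℕ) (bk : Fin k → F), hJn σ bk e0 = 0 ∧ hJn σ bk el = 0 ∧
        v = (matn C ^ i) *ᵥ (fr.P *ᵥ bk)}) :
    ∀ (g : SUJn σ n) (v : Fin n → F) (c : F), hJn σ v v = 0 → c + σ c = 0 →
      matn g = tJn σ v c →
        g ∈ Subgroup.closure ({fr.iota hσ xk * C, G * (fr.iota hσ xk * C) * G⁻¹,
          H' * (fr.iota hσ xk * C) * H'⁻¹} : Set (SUJn σ n)) := by
  obtain ⟨hall, hC⟩ := iota_mem_closure hσ fr C G H' xk x₁ k₂ gk hk hgk hhk hGP hHP hGC hHC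
    hx₁ hk₂ hgen
  set wk : SUJn σ k := mkJn σ (tJn σ el c₀) (det_tJn σ hel c₀) (tJn_unitary σ hσ hel hc₀') with hwk
  have hle : hJn σ el e0 = 1 := by rw [← hJn_symm σ hσ, he0l, map_one]
  have hw : hJn σ (matn wk *ᵥ e0) e0 ≠ 0 := by
    rw [hwk, matn_mkJn, tJn_mulVec, hJn_add_left, hJn_smul_left, he0, he0l, hle]
    simpa using hc₀
  exact all_tJn_mem hσ hω hc₀ hc₀' fr _ C hC hall e0 el he0 hel he0l hCu wk hw hcyc

/-- the local statement in dimension `5` (used for `q = 2`): a regular unipotent `x` and two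
elements `g`, `h` fixing the middle basis vector such that `[x, g]` and `[x, h]` generate -/
def Local5 (σ : F →+* F) : Prop :=
  ∃ x g h : SUJn σ 5,
    (∀ i j : Fin 5, j < i → matn x i j = 0) ∧ (∀ i : Fin 5, matn x i i = 1) ∧
    (∀ i j : Fin 5, (j : ℕ) = (i : ℕ) + 1 → matn x i j ≠ 0) ∧
    (∀ i : Fin 5, matn g i 2 = if i = 2 then 1 else 0) ∧
    (∀ j : Fin 5, matn g 2 j = if j = 2 then 1 else 0) ∧
    (∀ i : Fin 5, matn h i 2 = if i = 2 then 1 else 0) ∧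
    (∀ j : Fin 5, matn h 2 j = if j = 2 then 1 else 0) ∧
    ∀ K : Subgroup (SUJn σ 5), x * (g * x * g⁻¹)⁻¹ ∈ K → x * (h * x * h⁻¹)⁻¹ ∈ K → K = ⊤

/-- the case `n = 5` follows directly from `Local5` -/
theorem model5_of_local5 (h5 : Local5 σ) :
    ∃ x g h : SUJn σ 5, (IsNilpotent (matn x - 1) ∧ (matn x - 1) ^ (5 - 1) ≠ 0) ∧
      Subgroup.closure ({x, g * x * g⁻¹, h * x * h⁻¹} : Set (SUJn σ 5)) = ⊤ := by
  obtain ⟨x, g, h, hx1, hx2, hx3, -, -, -, -, hK⟩ := h5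
  refine ⟨x, g, h, Cfsg.Agent.Lib.H7.SunR.regular_of_unitriangular (by norm_num) _ hx1 hx2 hx3, ?_⟩
  apply hK
  · exact Subgroup.mul_mem _ (Subgroup.subset_closure (by simp))
      (Subgroup.inv_mem _ (Subgroup.subset_closure (by simp)))
  · exact Subgroup.mul_mem _ (Subgroup.subset_closure (by simp))
      (Subgroup.inv_mem _ (Subgroup.subset_closure (by simp)))

end Cfsg.Agent.Lib.H8.SUN
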