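import Mathlib
import Cfsg.Prelude.Def_Blocks
import Cfsg.Prelude.Def_CharExt
import Cfsg.Agent.Lib.H21.AD.Defs
import Cfsg.Agent.Lib.H28.NT.Defs
import Cfsg.Agent.Lib.H9.NTCONJ
import Cfsg.Agent.Lib.H10.NTKEYF
import Cfsg.Agent.Lib.H15.NTGLUE
import Cfsg.Agent.Lib.H23.ExtGeneral

/-!
# S4551, block (GOODC) + glue in hypothesis form (helper8)

`GoodC p N θ H f`: `f` extends `θ` to an irreducible character of `H` and is principal on every cyclic layer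
`N ⊔ zpowers c`, `c ∈ H`.  Given (statement-level) KEYF, SOLF and HER for `θ`, the abstract `glue` of S4892
produces an irreducible character of `G` extending `θ`.
-/

set_option autoImplicit false
open Cfsg.Agent.Lib.H21.AD Cfsg.Agent.Lib.H28.NT

namespace Cfsg.Agent.Lib.H8.AP

variable {G : Type*} [Group G] [Finite G] {p : ℕ} {N : Subgroup G} {θ : G → ℂ}

/-- principal on every cyclic layer -/
def GoodC (p : ℕ) (N : Subgroup G) (θ : G → ℂ) (H : Subgroup G) (f : G → ℂ) : Prop :=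
  IsExt N θ H f ∧ ∀ c ∈ H, sSum p (N ⊔ Subgroup.zpowers c) f ≠ 0

omit [Finite G] in
theorem goodC_ext (H : Subgroup G) (f : G → ℂ) (hf : GoodC p N θ H f) : IsExt N θ H f := hf.1

theorem goodC_res [N.Normal] (hirr : Cfsg.IsIrrCharacter N (fun n : N => θ n)) (K H : Subgroup G)
    (f : G → ℂ) (hNK : N ≤ K) (hKH : K ≤ H) (hf : GoodC p N θ H f) : GoodC p N θ K f :=
  ⟨Cfsg.Agent.Lib.H10.NT.isExt_mono hirr K H hNK hKH f hf.1, fun c hc => hf.2 c (hKH hc)⟩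

omit [Finite G] in
theorem sup_zpowers_le {H : Subgroup G} (hNH : N ≤ H) {c : G} (hc : c ∈ H) :
    N ⊔ Subgroup.zpowers c ≤ H :=
  sup_le hNH ((Subgroup.zpowers_le).2 hc)

omit [Finite G] in
theorem goodC_conj [N.Normal]
    (hinv : ∀ g : G, ∀ n ∈ N, θ (g * n * g⁻¹) = θ n) (H : Subgroup G) (f : G → ℂ) (t : G)
    (hf : GoodC p N θ H f) :
    GoodC p N θ (H.map (MulAut.conj t).toMonoidHom) (fun x => f (t⁻¹ * x * t)) := by
  refine ⟨Cfsg.Agent.Lib.H9.NT.isExt_conj hinv H f hf.1 t, ?_⟩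
  rintro c ⟨c₀, hc₀, rfl⟩
  have h1 : ((MulAut.conj t).toMonoidHom c₀) = t * c₀ * t⁻¹ := rfl
  rw [h1, ← Cfsg.Agent.Lib.H9.NT.map_conj_sup_zpowers (N := N) t c₀,
    Cfsg.Agent.Lib.H9.AD.sSum_conj]
  have : (fun g => f (t⁻¹ * (t * g * t⁻¹) * t)) = f := by
    funext g
    congr 1
    group
  rw [this]
  exact hf.2 c₀ hc₀

theorem goodC_uniq [N.Normal] (hirr : Cfsg.IsIrrCharacter N (fun n : N => θ n))
    (hidx : ¬ p ∣ N.index)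
    (hkey : ∀ (J₁ J₂ : Subgroup G), N ≤ J₁ → J₁ ≤ J₂ → ¬ p ∣ N.relIndex J₂ → ∀ f₁ f₂ : G → ℂ,
      GoodA p N θ J₁ f₁ → GoodA p N θ J₂ f₂ → ∀ g ∈ J₁, f₁ g = f₂ g)
    (H : Subgroup G) (f₁ f₂ : G → ℂ) (hNH : N ≤ H) (h₁ : GoodC p N θ H f₁) (h₂ : GoodC p N θ H f₂) :
    ∀ g ∈ H, f₁ g = f₂ g := by
  intro g hg
  set J : Subgroup G := N ⊔ Subgroup.zpowers g with hJ
  have hNJ : N ≤ J := le_sup_left
  have hJH : J ≤ H := sup_zpowers_le hNH hg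
  have hgJ : g ∈ J := (le_sup_right : Subgroup.zpowers g ≤ J) (Subgroup.mem_zpowers g)
  have hpJ : ¬ p ∣ N.relIndex J := fun hd => hidx (dvd_trans hd (Subgroup.relIndex_dvd_index_of_normal N J))
  have hA1 : GoodA p N θ J f₁ :=
    ⟨Cfsg.Agent.Lib.H10.NT.isExt_mono hirr J H hNJ hJH f₁ h₁.1, h₁.2 g hg⟩
  have hA2 : GoodA p N θ J f₂ :=
    ⟨Cfsg.Agent.Lib.H10.NT.isExt_mono hirr J H hNJ hJH f₂ h₂.1, h₂.2 g hg⟩
  exact hkey J J hNJ le_rfl hpJ f₁ f₂ hA1 hA2 g hgJ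

omit [Finite G] in
theorem goodC_ex [N.Normal] (hidx : ¬ p ∣ N.index)
    (hsol : ∀ J : Subgroup G, N ≤ J → ¬ p ∣ N.relIndex J →
      Group.IsSolvable (↥J ⧸ N.subgroupOf J) → ∃ f : G → ℂ, GoodA p N θ J f)
    (hzp : ∀ J : Subgroup G, N ≤ J → ¬ p ∣ N.relIndex J → ∀ f : G → ℂ, GoodA p N θ J f →
      ∀ c ∈ J, sSum p (N ⊔ Subgroup.zpowers c) f ≠ 0)
    (E : Subgroup G) (hE : Group.IsNilpotent E) : ∃ f : G → ℂ, GoodC p N θ (E ⊔ N) f := by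
  have hNJ : N ≤ E ⊔ N := le_sup_right
  have hpJ : ¬ p ∣ N.relIndex (E ⊔ N) := fun hd =>
    hidx (dvd_trans hd (Subgroup.relIndex_dvd_index_of_normal N _))
  haveI := hE
  have hEs : Group.IsSolvable E := inferInstance
  have hs := Cfsg.Agent.Lib.H23.isSolvable_sup_quotient (N := N) E hEs
  obtain ⟨f, hf⟩ := hsol (E ⊔ N) hNJ hpJ hs
  exact ⟨f, hf.1, fun c hc => hzp (E ⊔ N) hNJ hpJ f hf c hc⟩

/-- (GOODC) + glue: an irreducible character of `G` extending `θ` -/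
theorem exists_ext_of_layers [N.Normal] (hirr : Cfsg.IsIrrCharacter N (fun n : N => θ n))
    (hinv : ∀ g : G, ∀ n ∈ N, θ (g * n * g⁻¹) = θ n) (hidx : ¬ p ∣ N.index)
    (hkey : ∀ (J₁ J₂ : Subgroup G), N ≤ J₁ → J₁ ≤ J₂ → ¬ p ∣ N.relIndex J₂ → ∀ f₁ f₂ : G → ℂ,
      GoodA p N θ J₁ f₁ → GoodA p N θ J₂ f₂ → ∀ g ∈ J₁, f₁ g = f₂ g)
    (hsol : ∀ J : Subgroup G, N ≤ J → ¬ p ∣ N.relIndex J →
      Group.IsSolvable (↥J ⧸ N.subgroupOf J) → ∃ f : G → ℂ, GoodA p N θ J f)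
    (hzp : ∀ J : Subgroup G, N ≤ J → ¬ p ∣ N.relIndex J → ∀ f : G → ℂ, GoodA p N θ J f →
      ∀ c ∈ J, sSum p (N ⊔ Subgroup.zpowers c) f ≠ 0) :
    ∃ χ : G → ℂ, Cfsg.IsIrrCharacter G χ ∧ ∀ n ∈ N, χ n = θ n := by
  obtain ⟨χ, h1, h2, _⟩ := Cfsg.Agent.Lib.H15.NT.glue N θ hirr (GoodC p N θ)
    (fun H f _ hf => goodC_ext H f hf)
    (fun H f₁ f₂ hNH h₁ h₂ => goodC_uniq hirr hidx hkey H f₁ f₂ hNH h₁ h₂)
    (fun E hE => goodC_ex hidx hsol hzp E hE)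
    (fun K H f hNK hKH hf => goodC_res hirr K H f hNK hKH hf)
    (fun H f t _ hf => goodC_conj hinv H f t hf)
  exact ⟨χ, h1, h2⟩

end Cfsg.Agent.Lib.H8.AP
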