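import Mathlib
import Cfsg.Agent.Lib.H8.DadeInd

set_option autoImplicit false

/-! # The Dade expansion, pointwise -/

namespace Cfsg.Agent.Lib.H8

open Finset

section DadeExp

open Classical

variable {G : Type*} [Group G] [Fintype G] {A : Set G} {L : Subgroup G} {H : G → Subgroup G}

omit [Fintype G] in
/-- An element of `C(a)` of order prime to `|C_L(a)|` lies in `H a`. -/
theorem dade_mem_H_of_pow (hD : Cfsg.DadeHypothesis A L H) {a k : G} (ha : a ∈ A)
    (hk : k ∈ Subgroup.centralizer ({a} : Set G)) {m : ℕ} (hkm : k ^ m = 1)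
    (hm : Nat.Coprime m (Nat.card ↥(L ⊓ Subgroup.centralizer ({a} : Set G)))) : k ∈ H a := by
  obtain ⟨h, hh, c, hc, hkc⟩ := dade_decomp' hD ha hk
  have hcpow : ∀ j : ℕ, ∀ s ∈ H a, c ^ j * s * (c ^ j)⁻¹ ∈ H a := by
    intro j s hs
    exact hD.conj_mem_H a ha (c ^ j) (Subgroup.pow_mem _ hc.2 j) s hs
  obtain ⟨h', hh', e⟩ := pow_mul_decomp hh hcpow m
  rw [← hkc, hkm] at e
  have hck : c ^ m = h'⁻¹ := eq_inv_of_mul_eq_one_right e.symm
  have hck1 : c ^ m = 1 := by
    apply dade_eq_one_of_mem hD ha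
    · rw [hck]; exact (H a).inv_mem hh'
    · exact L.pow_mem hc.1 _
  have hc1 : c = 1 := by
    have h1 : orderOf c ∣ m := orderOf_dvd_of_pow_eq_one hck1
    have h2 : orderOf c ∣ Nat.card ↥(L ⊓ Subgroup.centralizer ({a} : Set G)) :=
      Subgroup.orderOf_dvd_natCard _ hc
    have := Nat.eq_one_of_dvd_coprimes hm h1 h2
    exact orderOf_eq_one_iff.mp this
  rw [hkc, hc1, mul_one]; exact hh

/-- The key counting identity. -/
theorem dade_K1 (hD : Cfsg.DadeHypothesis A L H) {n : G} (hn : n ∈ A) {B : Finset G}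
    (hB : B.Nonempty) (hBA : (B : Set G) ⊆ A) (hnN : n ∈ dadeNB L B) (g : G) :
    dadeCnt H B n g * Nat.card (dadeHB H (insert n B)) =
      dadeCnt H (insert n B) n g * Nat.card (dadeHB H B) := by
  unfold dadeCnt
  apply conj_count_coset (dadeHB H B) (dadeHB H (insert n B))
  · rw [dadeHB_insert]; exact inf_le_right
  · intro k hk
    exact dadeNB_normalizes' hD hBA hnN hk
  · intro z k hz hk hzk
    rw [dadeHB_insert, Subgroup.mem_inf] at hz hzk ⊢
    refine ⟨?_, hk⟩
    have hconj : k⁻¹ * (n * (n⁻¹ * z)) * k⁻¹⁻¹ = n * (n⁻¹ * (k⁻¹ * z * k)) := by group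
    have h1 := dade_conj_eq hD hn hn hz.1 hzk.1 hconj
    have hkC : k ∈ Subgroup.centralizer ({n} : Set G) := by
      rw [Subgroup.mem_centralizer_iff]
      intro x hx
      rw [Set.mem_singleton_iff.mp hx]
      calc n * k = k * (k⁻¹ * n * k⁻¹⁻¹) := by group
        _ = k * n := by rw [h1]
    obtain ⟨b, hb⟩ := hB
    have hkb : k ∈ H b := mem_dadeHB.mp hk b hb
    exact dade_mem_H_of_pow hD hn hkC (S1499.pow_card_eq_one_of_mem (H b) k hkb)
      (hD.coprime b (hBA hb) n hn)

theorem card_dadeHB_ne_zero (B : Finset G) : (Nat.card (dadeHB H B) : ℂ) ≠ 0 :=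
  Nat.cast_ne_zero.mpr Nat.card_pos.ne'

/-- The summand of the alternating sum. -/
noncomputable def dadeF (H : G → Subgroup G) (n g : G) (B : Finset G) : ℂ :=
  (-1 : ℂ) ^ B.card * ((Nat.card (dadeHB H B) : ℂ)⁻¹ * (dadeCnt H B n g : ℂ))

theorem dadeF_pair (hD : Cfsg.DadeHypothesis A L H) {n : G} (hn : n ∈ A) {B : Finset G}
    (hB : B.Nonempty) (hBA : (B : Set G) ⊆ A) (hnN : n ∈ dadeNB L B) (hnB : n ∉ B) (g : G) :
    dadeF H n g B + dadeF H n g (insert n B) = 0 := by
  unfold dadeF
  rw [Finset.card_insert_of_notMem hnB, pow_succ]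
  have h1 : ((dadeCnt H B n g : ℂ)) * (Nat.card (dadeHB H (insert n B)) : ℂ) =
      (dadeCnt H (insert n B) n g : ℂ) * (Nat.card (dadeHB H B) : ℂ) := by
    exact_mod_cast dade_K1 hD hn hB hBA hnN g
  have h2 : (Nat.card (dadeHB H B) : ℂ)⁻¹ * (dadeCnt H B n g : ℂ) =
      (Nat.card (dadeHB H (insert n B)) : ℂ)⁻¹ * (dadeCnt H (insert n B) n g : ℂ) := by
    have ha := card_dadeHB_ne_zero (H := H) B
    have hb := card_dadeHB_ne_zero (H := H) (insert n B)
    field_simp
    linear_combination h1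
  rw [h2]
  ring

theorem dade_sum_involution (hD : Cfsg.DadeHypothesis A L H) {n : G} (hn : n ∈ A) (g : G) :
    ∑ B ∈ univ.filter (fun B : Finset G => B.Nonempty ∧ (B : Set G) ⊆ A ∧ n ∈ dadeNB L B),
      dadeF H n g B = -((Nat.card (H n) : ℂ)⁻¹ * (dadeCnt H {n} n g : ℂ)) := by
  obtain ⟨S, hS⟩ : ∃ S : Finset (Finset G), S = univ.filter
    (fun B : Finset G => B.Nonempty ∧ (B : Set G) ⊆ A ∧ n ∈ dadeNB L B) := ⟨_, rfl⟩
  rw [← hS]
  have hmemS : ∀ B, B ∈ S ↔ B.Nonempty ∧ (B : Set G) ⊆ A ∧ n ∈ dadeNB L B := by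
    intro B; rw [hS]; simp
  have hnS : ({n} : Finset G) ∈ S := by
    rw [hmemS]
    refine ⟨Finset.singleton_nonempty n, ?_, mem_dadeNB_singleton (hD.subset hn)⟩
    intro x hx
    rw [Finset.coe_singleton, Set.mem_singleton_iff] at hx
    rw [hx]; exact hn
  rw [← Finset.add_sum_erase S _ hnS]
  have hrest : ∑ B ∈ S.erase {n}, dadeF H n g B = 0 := by
    refine Finset.sum_involution (fun B _ => if n ∈ B then B.erase n else insert n B)
      ?_ ?_ ?_ ?_
    · intro B hB
      rw [Finset.mem_erase, hmemS] at hB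
      obtain ⟨hne, hBne, hBA, hnN⟩ := hB
      by_cases hnB : n ∈ B
      · rw [if_pos hnB]
        have hB' : (B.erase n).Nonempty := by
          rw [Finset.nonempty_iff_ne_empty]
          intro h
          apply hne
          rw [Finset.erase_eq_empty_iff] at h
          rcases h with h | h
          · rw [h] at hnB; simp at hnB
          · exact h
        have hBA' : ((B.erase n : Finset G) : Set G) ⊆ A := by
          intro x hx
          exact hBA (Finset.mem_of_mem_erase (Finset.mem_coe.mp hx))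
        have hins : insert n (B.erase n) = B := Finset.insert_erase hnB
        have hnN' : n ∈ dadeNB L (B.erase n) := by
          rw [← mem_dadeNB_insert_iff (Finset.notMem_erase n B), hins]; exact hnN
        have := dadeF_pair hD hn hB' hBA' hnN' (Finset.notMem_erase n B) g
        rw [hins] at this
        rw [add_comm]; exact this
      · rw [if_neg hnB]
        exact dadeF_pair hD hn hBne hBA hnN hnB g
    · intro B _ _
      by_cases hnB : n ∈ B
      · rw [if_pos hnB]
        intro h
        have : n ∈ B.erase n := by rw [h]; exact hnB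
        exact Finset.notMem_erase n B this
      · rw [if_neg hnB]
        intro h
        exact hnB (by rw [← h]; exact Finset.mem_insert_self n B)
    · intro B hB
      rw [Finset.mem_erase, hmemS] at hB
      obtain ⟨hne, hBne, hBA, hnN⟩ := hB
      by_cases hnB : n ∈ B
      · rw [if_pos hnB, Finset.mem_erase, hmemS]
        have hB' : (B.erase n).Nonempty := by
          rw [Finset.nonempty_iff_ne_empty]
          intro h
          apply hne
          rw [Finset.erase_eq_empty_iff] at h
          rcases h with h | h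
          · rw [h] at hnB; simp at hnB
          · exact h
        have hins : insert n (B.erase n) = B := Finset.insert_erase hnB
        refine ⟨?_, hB', ?_, ?_⟩
        · intro h
          have : n ∈ B.erase n := by rw [h]; simp
          exact Finset.notMem_erase n B this
        · intro x hx
          exact hBA (Finset.mem_of_mem_erase (Finset.mem_coe.mp hx))
        · rw [← mem_dadeNB_insert_iff (Finset.notMem_erase n B), hins]; exact hnN
      · rw [if_neg hnB, Finset.mem_erase, hmemS]
        refine ⟨?_, Finset.insert_nonempty n B, ?_, ?_⟩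
        · intro h
          obtain ⟨b, hb⟩ := hBne
          have hb' : b ∈ insert n B := Finset.mem_insert_of_mem hb
          rw [h, Finset.mem_singleton] at hb'
          rw [hb'] at hb
          exact hnB hb
        · intro x hx
          rw [Finset.coe_insert, Set.mem_insert_iff] at hx
          rcases hx with hx | hx
          · rw [hx]; exact hn
          · exact hBA hx
        · rw [mem_dadeNB_insert_iff hnB]; exact hnN
    · intro B _
      by_cases hnB : n ∈ B
      · simp only [if_pos hnB, Finset.notMem_erase, if_false]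
        exact Finset.insert_erase hnB
      · simp only [if_neg hnB, Finset.mem_insert_self, if_true]
        exact Finset.erase_insert hnB
  rw [hrest, add_zero]
  unfold dadeF
  rw [Finset.card_singleton, dadeHB_singleton]
  ring

theorem dadeV_eq_sum_ite (d : G) :
    dadeV A H ℂ d = ∑ a ∈ univ.filter (· ∈ A),
      if a⁻¹ * d ∈ H a then (Nat.card (H a) : ℂ)⁻¹ else 0 := by
  unfold dadeV
  apply Finset.sum_congr rfl
  intro a _
  by_cases h : a⁻¹ * d ∈ H a
  · rw [if_pos h, Finset.sum_eq_single (a⁻¹ * d)]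
    · rw [if_pos]; group
    · intro u _ hu
      rw [if_neg]
      intro hd
      apply hu
      rw [hd]; group
    · intro h'
      exact absurd (Finset.mem_filter.mpr ⟨Finset.mem_univ _, h⟩) h'
  · rw [if_neg h]
    apply Finset.sum_eq_zero
    intro u hu
    rw [if_neg]
    intro hd
    apply h
    rw [hd]
    have : a⁻¹ * (a * u) = u := by group
    rw [this]
    exact (Finset.mem_filter.mp hu).2

/-- The surviving term of the alternating sum gives the Dade map. -/
theorem dade_base (hD : Cfsg.DadeHypothesis A L H) (α : L → ℂ)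
    (hα : Cfsg.IsClassFunction L α) (g : G) :
    ∑ n ∈ univ.filter (· ∈ A), Cfsg.extendByZero L α n *
        ((Nat.card (H n) : ℂ)⁻¹ * (dadeCnt H {n} n g : ℂ)) =
      (Nat.card L : ℂ) * Cfsg.dadeIsometry A L H α g := by
  have h1 : ∀ n ∈ univ.filter (· ∈ A), Cfsg.extendByZero L α n *
        ((Nat.card (H n) : ℂ)⁻¹ * (dadeCnt H {n} n g : ℂ)) =
      ∑ x : G, Cfsg.dadeIsometry A L H α g *
        (if n⁻¹ * (x⁻¹ * g * x) ∈ H n then (Nat.card (H n) : ℂ)⁻¹ else 0) := by
    intro n hn
    have hnA : n ∈ A := (Finset.mem_filter.mp hn).2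
    unfold dadeCnt
    rw [dadeHB_singleton, Finset.card_filter, Nat.cast_sum, Finset.mul_sum, Finset.mul_sum]
    apply Finset.sum_congr rfl
    intro x _
    by_cases hx : n⁻¹ * (x⁻¹ * g * x) ∈ H n
    · rw [if_pos hx, if_pos hx]
      have hτ : Cfsg.dadeIsometry A L H α g = α ⟨n, hD.subset hnA⟩ := by
        apply dadeIsometry_eq hD α hα (a := ⟨n, hD.subset hnA⟩) hnA hx (x := x⁻¹)
        show x⁻¹ * g * x⁻¹⁻¹ = n * (n⁻¹ * (x⁻¹ * g * x))
        group
      rw [hτ, extendByZero_of_mem L α (hD.subset hnA)]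
      push_cast
      ring
    · rw [if_neg hx, if_neg hx]
      simp
  rw [Finset.sum_congr rfl h1, Finset.sum_comm]
  simp_rw [← Finset.mul_sum]
  have h2 : ∀ x : G, (∑ n ∈ univ.filter (· ∈ A),
      if n⁻¹ * (x⁻¹ * g * x) ∈ H n then (Nat.card (H n) : ℂ)⁻¹ else 0) =
      dadeV A H ℂ (x⁻¹ * g * x) := fun x => (dadeV_eq_sum_ite _).symm
  rw [Finset.sum_congr rfl (fun x _ => h2 x)]
  have h3 : ∑ x : G, dadeV A H ℂ (x⁻¹ * g * x) = ∑ x : G, dadeV A H ℂ (x * g * x⁻¹) := by
    apply Fintype.sum_equiv (Equiv.inv G)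
    intro x
    simp
  rw [h3]
  by_cases hg : ∃ a ∈ A, ∃ u ∈ H a, ∃ x : G, x * g * x⁻¹ = a * u
  · rw [sum_dadeV_conj_of_supp hD hg, mul_comm]
  · rw [sum_dadeV_conj_of_not_supp hg,
      dadeIsometry_eq_zero α (fun h => hg ((dade_supp_iff hD g).mp h))]
    ring

omit [Fintype G] in
theorem extendByZero_eq_zero_of_not_mem_A (α : L → ℂ)
    (hαA : ∀ x : L, (x : G) ∉ A → α x = 0) {n : G} (hn : n ∉ A) :
    Cfsg.extendByZero L α n = 0 := by
  by_cases hL : n ∈ L
  · rw [extendByZero_of_mem L α hL]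
    exact hαA ⟨n, hL⟩ hn
  · exact extendByZero_of_not_mem L α hL

/-- The Dade expansion, pointwise, before grouping into orbits. -/
theorem dade_expansion_pointwise (hD : Cfsg.DadeHypothesis A L H) (α : L → ℂ)
    (hα : Cfsg.IsClassFunction L α) (hαA : ∀ x : L, (x : G) ∉ A → α x = 0) (g : G) :
    (Nat.card L : ℂ) * Cfsg.dadeIsometry A L H α g =
      - ∑ B ∈ univ.filter (fun B : Finset G => B.Nonempty ∧ (B : Set G) ⊆ A),
        (-1 : ℂ) ^ B.card * ((Nat.card (dadeHB H B) : ℂ)⁻¹ *
          ∑ n ∈ univ.filter (· ∈ dadeNB L B),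
            Cfsg.extendByZero L α n * (dadeCnt H B n g : ℂ)) := by
  have h1 : ∀ B ∈ univ.filter (fun B : Finset G => B.Nonempty ∧ (B : Set G) ⊆ A),
      (-1 : ℂ) ^ B.card * ((Nat.card (dadeHB H B) : ℂ)⁻¹ *
          ∑ n ∈ univ.filter (· ∈ dadeNB L B),
            Cfsg.extendByZero L α n * (dadeCnt H B n g : ℂ)) =
      ∑ n : G, if n ∈ dadeNB L B then Cfsg.extendByZero L α n * dadeF H n g B else 0 := by
    intro B _
    rw [← Finset.sum_filter, Finset.mul_sum, Finset.mul_sum]
    apply Finset.sum_congr rfl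
    intro n _
    unfold dadeF
    ring
  rw [Finset.sum_congr rfl h1, Finset.sum_comm]
  have h2 : ∀ n : G, (∑ B ∈ univ.filter (fun B : Finset G => B.Nonempty ∧ (B : Set G) ⊆ A),
      if n ∈ dadeNB L B then Cfsg.extendByZero L α n * dadeF H n g B else 0) =
      if n ∈ A then -(Cfsg.extendByZero L α n *
        ((Nat.card (H n) : ℂ)⁻¹ * (dadeCnt H {n} n g : ℂ))) else 0 := by
    intro n
    split_ifs with hn
    · rw [← Finset.sum_filter, Finset.filter_filter, ← Finset.mul_sum]
      have : univ.filter (fun B : Finset G => (B.Nonempty ∧ (B : Set G) ⊆ A) ∧ n ∈ dadeNB L B) =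
          univ.filter (fun B : Finset G => B.Nonempty ∧ (B : Set G) ⊆ A ∧ n ∈ dadeNB L B) := by
        ext B; simp [and_assoc]
      rw [this, dade_sum_involution hD hn g]
      ring
    · apply Finset.sum_eq_zero
      intro B _
      rw [extendByZero_eq_zero_of_not_mem_A α hαA hn]
      simp
  rw [Finset.sum_congr rfl (fun n _ => h2 n), ← Finset.sum_filter, Finset.sum_neg_distrib,
    dade_base hD α hα g, neg_neg]

end DadeExp

end Cfsg.Agent.Lib.H8
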