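import Mathlib

set_option autoImplicit false

/-! # Sums weighted by stabiliser orders collapse to sums over orbit representatives -/

namespace Cfsg.Agent.Lib.H8

open Finset

section OrbitSum

open Classical

theorem sum_stabilizer_weight_mem {Γ Ω M : Type*} [Group Γ] [Fintype Γ] [Fintype Ω]
    [MulAction Γ Ω] [AddCommGroup M] [Module ℂ M] (P : AddSubgroup M) (F : Ω → M)
    (hF : ∀ (γ : Γ) (ω : Ω), F (γ • ω) = F ω) (hP : ∀ ω, F ω ∈ P) :
    ∑ ω : Ω, ((Nat.card (MulAction.stabilizer Γ ω) : ℂ) / (Nat.card Γ : ℂ)) • F ω ∈ P := by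
  rw [← Finset.sum_fiberwise univ
    (fun ω : Ω => (Quotient.mk'' ω : MulAction.orbitRel.Quotient Γ Ω))]
  apply AddSubgroup.sum_mem
  intro j _
  induction j using Quotient.inductionOn' with
  | h ω₀ =>
    have hfib : ∀ ω, ω ∈ univ.filter (fun ω : Ω =>
        (Quotient.mk'' ω : MulAction.orbitRel.Quotient Γ Ω) = Quotient.mk'' ω₀) ↔
        ω ∈ MulAction.orbit Γ ω₀ := by
      intro ω
      rw [Finset.mem_filter, Quotient.eq'']
      simp [MulAction.orbitRel_apply]
    have hterm : ∀ ω ∈ univ.filter (fun ω : Ω =>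
        (Quotient.mk'' ω : MulAction.orbitRel.Quotient Γ Ω) = Quotient.mk'' ω₀),
        ((Nat.card (MulAction.stabilizer Γ ω) : ℂ) / (Nat.card Γ : ℂ)) • F ω =
        ((Nat.card (MulAction.stabilizer Γ ω₀) : ℂ) / (Nat.card Γ : ℂ)) • F ω₀ := by
      intro ω hω
      have hω' := (hfib ω).mp hω
      have hrel : MulAction.orbitRel Γ Ω ω ω₀ := MulAction.orbitRel_apply.mpr hω'
      obtain ⟨γ, hγ⟩ := hω'
      have hFω : F ω = F ω₀ := by
        rw [← hγ]
        exact hF γ ω₀
      rw [hFω, Nat.card_congr (MulAction.stabilizerEquivStabilizerOfOrbitRel hrel).toEquiv]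
    rw [Finset.sum_congr rfl hterm, Finset.sum_const]
    have hcard : (univ.filter (fun ω : Ω =>
        (Quotient.mk'' ω : MulAction.orbitRel.Quotient Γ Ω) = Quotient.mk'' ω₀)).card =
        Fintype.card (MulAction.orbit Γ ω₀) := by
      rw [Fintype.card_subtype]
      congr 1
      ext ω
      rw [hfib ω, Finset.mem_filter]
      simp
    have hos := MulAction.card_orbit_mul_card_stabilizer_eq_card_group Γ ω₀
    have hΓ : (Nat.card Γ : ℂ) ≠ 0 := Nat.cast_ne_zero.mpr Nat.card_pos.ne'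
    have hscal : ((univ.filter (fun ω : Ω =>
        (Quotient.mk'' ω : MulAction.orbitRel.Quotient Γ Ω) = Quotient.mk'' ω₀)).card : ℂ) *
        ((Nat.card (MulAction.stabilizer Γ ω₀) : ℂ) / (Nat.card Γ : ℂ)) = 1 := by
      rw [Nat.card_eq_fintype_card, ← hos] at hΓ
      push_cast at hΓ
      rw [hcard, Nat.card_eq_fintype_card, Nat.card_eq_fintype_card, ← hos]
      push_cast
      have ha := (mul_ne_zero_iff.mp hΓ).1
      have hb := (mul_ne_zero_iff.mp hΓ).2
      field_simp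
    rw [← Nat.cast_smul_eq_nsmul ℂ, smul_smul, hscal, one_smul]
    exact hP ω₀

/-- The version with an explicit action, not using the `MulAction` class. -/
theorem sum_orbit_weight_mem {Γ Ω M : Type*} [Group Γ] [Fintype Γ] [Fintype Ω]
    [AddCommGroup M] [Module ℂ M] (act : Γ → Ω → Ω) (h1 : ∀ ω, act 1 ω = ω)
    (hmul : ∀ γ γ' ω, act (γ * γ') ω = act γ (act γ' ω))
    (P : AddSubgroup M) (F : Ω → M) (hF : ∀ γ ω, F (act γ ω) = F ω) (hP : ∀ ω, F ω ∈ P) :
    ∑ ω : Ω, (((univ.filter (fun γ : Γ => act γ ω = ω)).card : ℂ) / (Nat.card Γ : ℂ)) • F ω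
      ∈ P := by
  letI inst : MulAction Γ Ω := { smul := act, one_smul := h1, mul_smul := hmul }
  have h := sum_stabilizer_weight_mem (Γ := Γ) (Ω := Ω) P F hF hP
  convert h using 4 with ω
  rw [Nat.card_eq_fintype_card, Fintype.card_subtype]
  congr 1

end OrbitSum

end Cfsg.Agent.Lib.H8
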