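import Mathlib
import Cfsg.Agent.Lib.H8.DadeExp
import Cfsg.Agent.Lib.H8.OrbitSum

set_option autoImplicit false

/-! # The Dade expansion grouped into `L`-orbits; the Dade map preserves generalized characters -/

namespace Cfsg.Agent.Lib.H8

open Finset

section DadeOrbit

open Classical

variable {G : Type*} [Group G] [Fintype G] {A : Set G} {L : Subgroup G} {H : G → Subgroup G}

/-- Conjugation of a finite subset. -/
noncomputable def conjFinset (l : G) (B : Finset G) : Finset G := B.image (fun b => l * b * l⁻¹)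

omit [Fintype G] in
theorem mem_conjFinset {l c : G} {B : Finset G} : c ∈ conjFinset l B ↔ l⁻¹ * c * l ∈ B := by
  unfold conjFinset
  rw [Finset.mem_image]
  constructor
  · rintro ⟨b, hb, rfl⟩
    have : l⁻¹ * (l * b * l⁻¹) * l = b := by group
    rw [this]; exact hb
  · intro h
    exact ⟨_, h, by group⟩

omit [Fintype G] in
theorem conjFinset_one (B : Finset G) : conjFinset 1 B = B := by
  ext c; rw [mem_conjFinset]; simp

omit [Fintype G] in
theorem conjFinset_mul (l l' : G) (B : Finset G) :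
    conjFinset (l * l') B = conjFinset l (conjFinset l' B) := by
  ext c
  rw [mem_conjFinset, mem_conjFinset, mem_conjFinset]
  have : (l * l')⁻¹ * c * (l * l') = l'⁻¹ * (l⁻¹ * c * l) * l' := by group
  rw [this]

omit [Fintype G] in
theorem card_conjFinset (l : G) (B : Finset G) : (conjFinset l B).card = B.card := by
  unfold conjFinset
  apply Finset.card_image_of_injective
  intro a b h
  simpa using h

omit [Fintype G] in
theorem conjFinset_eq_iff {l : G} {B : Finset G} :
    conjFinset l B = B ↔ ∀ b, l * b * l⁻¹ ∈ B ↔ b ∈ B := by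
  constructor
  · intro h b
    conv_lhs => rw [← h]
    rw [mem_conjFinset]
    have : l⁻¹ * (l * b * l⁻¹) * l = b := by group
    rw [this]
  · intro h
    ext c
    rw [mem_conjFinset, ← h (l⁻¹ * c * l)]
    have : l * (l⁻¹ * c * l) * l⁻¹ = c := by group
    rw [this]

omit [Fintype G] in
theorem conjFinset_nonempty {l : G} {B : Finset G} (hB : B.Nonempty) :
    (conjFinset l B).Nonempty := by
  unfold conjFinset
  exact hB.image _

omit [Fintype G] in
theorem conjFinset_subset (hD : Cfsg.DadeHypothesis A L H) {l : G} (hl : l ∈ L) {B : Finset G}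
    (hBA : (B : Set G) ⊆ A) : ((conjFinset l B : Finset G) : Set G) ⊆ A := by
  intro c hc
  rw [Finset.mem_coe, mem_conjFinset] at hc
  have := hD.conj_mem l hl _ (hBA hc)
  have e : l * (l⁻¹ * c * l) * l⁻¹ = c := by group
  rwa [e] at this

theorem mem_dadeHB_conj (hD : Cfsg.DadeHypothesis A L H) {l : G} (hl : l ∈ L) {B : Finset G}
    (hBA : (B : Set G) ⊆ A) (h : G) :
    h ∈ dadeHB H (conjFinset l B) ↔ l⁻¹ * h * l ∈ dadeHB H B := by
  rw [mem_dadeHB, mem_dadeHB]
  constructor
  · intro hh b hb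
    have hc : l * b * l⁻¹ ∈ conjFinset l B := by
      rw [mem_conjFinset]
      have : l⁻¹ * (l * b * l⁻¹) * l = b := by group
      rw [this]; exact hb
    have := dade_conj_mem_H hD (hD.conj_mem l hl b (hBA hb)) (hh _ hc) (L.inv_mem hl)
    have e : l⁻¹ * (l * b * l⁻¹) * l⁻¹⁻¹ = b := by group
    rw [e, inv_inv] at this
    exact this
  · intro hh c hc
    rw [mem_conjFinset] at hc
    have := dade_conj_mem_H hD (hBA hc) (hh _ hc) hl
    have e : l * (l⁻¹ * c * l) * l⁻¹ = c := by group
    have e' : l * (l⁻¹ * h * l) * l⁻¹ = h := by group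
    rwa [e, e'] at this

omit [Fintype G] in
theorem mem_dadeNB_conj {l : G} (hl : l ∈ L) {B : Finset G} (n : G) :
    n ∈ dadeNB L (conjFinset l B) ↔ l⁻¹ * n * l ∈ dadeNB L B := by
  rw [mem_dadeNB, mem_dadeNB]
  constructor
  · rintro ⟨hn, h⟩
    refine ⟨L.mul_mem (L.mul_mem (L.inv_mem hl) hn) hl, fun b => ?_⟩
    have := h (l * b * l⁻¹)
    rw [mem_conjFinset, mem_conjFinset] at this
    have e1 : l⁻¹ * (n * (l * b * l⁻¹) * n⁻¹) * l = l⁻¹ * n * l * b * (l⁻¹ * n * l)⁻¹ := by group
    have e2 : l⁻¹ * (l * b * l⁻¹) * l = b := by group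
    rw [e1, e2] at this
    exact this
  · rintro ⟨hn, h⟩
    refine ⟨?_, fun c => ?_⟩
    · have := L.mul_mem (L.mul_mem hl hn) (L.inv_mem hl)
      have e : l * (l⁻¹ * n * l) * l⁻¹ = n := by group
      rwa [e] at this
    · rw [mem_conjFinset, mem_conjFinset, ← h (l⁻¹ * c * l)]
      have e1 : l⁻¹ * n * l * (l⁻¹ * c * l) * (l⁻¹ * n * l)⁻¹ = l⁻¹ * (n * c * n⁻¹) * l := by
        group
      rw [e1]

theorem card_dadeHB_conj (hD : Cfsg.DadeHypothesis A L H) {l : G} (hl : l ∈ L) {B : Finset G}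
    (hBA : (B : Set G) ⊆ A) :
    Nat.card (dadeHB H (conjFinset l B)) = Nat.card (dadeHB H B) := by
  refine Nat.card_congr ((MulAut.conj l⁻¹).toEquiv.subtypeEquiv (fun h => ?_))
  rw [← SetLike.mem_coe, SetLike.mem_coe, mem_dadeHB_conj hD hl hBA]
  simp

omit [Fintype G] in
theorem card_dadeNB_conj {l : G} (hl : l ∈ L) {B : Finset G} :
    Nat.card (dadeNB L (conjFinset l B)) = Nat.card (dadeNB L B) := by
  refine Nat.card_congr ((MulAut.conj l⁻¹).toEquiv.subtypeEquiv (fun h => ?_))
  rw [← SetLike.mem_coe, SetLike.mem_coe, mem_dadeNB_conj hl]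
  simp

theorem dadeCnt_conj (hD : Cfsg.DadeHypothesis A L H) {l : G} (hl : l ∈ L) {B : Finset G}
    (hBA : (B : Set G) ⊆ A) (n g : G) :
    dadeCnt H (conjFinset l B) (l * n * l⁻¹) g = dadeCnt H B n g := by
  unfold dadeCnt
  apply Finset.card_equiv (Equiv.mulRight l)
  intro x
  rw [Finset.mem_filter, Finset.mem_filter, mem_dadeHB_conj hD hl hBA]
  simp only [Finset.mem_univ, true_and, Equiv.coe_mulRight]
  have e : l⁻¹ * ((l * n * l⁻¹)⁻¹ * (x⁻¹ * g * x)) * l = n⁻¹ * ((x * l)⁻¹ * g * (x * l)) := by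
    group
  rw [e]

omit [Fintype G] in
theorem extendByZero_conj (α : L → ℂ) (hα : Cfsg.IsClassFunction L α) {l : G} (hl : l ∈ L)
    (n : G) : Cfsg.extendByZero L α (l * n * l⁻¹) = Cfsg.extendByZero L α n := by
  by_cases hn : n ∈ L
  · have hn' : l * n * l⁻¹ ∈ L := L.mul_mem (L.mul_mem hl hn) (L.inv_mem hl)
    rw [extendByZero_of_mem L α hn, extendByZero_of_mem L α hn']
    exact hα ⟨n, hn⟩ ⟨l, hl⟩
  · have hn' : l * n * l⁻¹ ∉ L := by
      intro h
      apply hn
      have := L.mul_mem (L.mul_mem (L.inv_mem hl) h) hl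
      have e : l⁻¹ * (l * n * l⁻¹) * l = n := by group
      rwa [e] at this
    rw [extendByZero_of_not_mem L α hn, extendByZero_of_not_mem L α hn']

/-- The induced function `Ψ_B`, by its formula. -/
noncomputable def dadePsi (L : Subgroup G) (H : G → Subgroup G) (α : L → ℂ) (B : Finset G) :
    G → ℂ := fun g =>
  ((Nat.card (dadeHB H B) : ℂ) * (Nat.card (dadeNB L B) : ℂ))⁻¹ *
    ∑ n ∈ univ.filter (· ∈ dadeNB L B), Cfsg.extendByZero L α n * (dadeCnt H B n g : ℂ)

theorem dadePsi_eq_indFun (hD : Cfsg.DadeHypothesis A L H) {B : Finset G}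
    (hB : B.Nonempty) (hBA : (B : Set G) ⊆ A) (α : L → ℂ) :
    dadePsi L H α B = Cfsg.indFun (dadeMB L H B) (dadeAlphaB hD hB hBA α) := by
  funext g
  rw [indFun_dadeAlphaB]
  rfl

theorem isGeneralizedCharacter_dadePsi (hD : Cfsg.DadeHypothesis A L H) {B : Finset G}
    (hB : B.Nonempty) (hBA : (B : Set G) ⊆ A) {α : L → ℂ}
    (hα : Cfsg.IsGeneralizedCharacter L α) :
    Cfsg.IsGeneralizedCharacter G (dadePsi L H α B) := by
  rw [dadePsi_eq_indFun hD hB hBA]
  exact isGeneralizedCharacter_indFun' _ (isGeneralizedCharacter_dadeAlphaB hD hB hBA hα)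

theorem dadePsi_conj (hD : Cfsg.DadeHypothesis A L H) (α : L → ℂ)
    (hα : Cfsg.IsClassFunction L α) {l : G} (hl : l ∈ L) {B : Finset G}
    (hBA : (B : Set G) ⊆ A) : dadePsi L H α (conjFinset l B) = dadePsi L H α B := by
  funext g
  unfold dadePsi
  rw [card_dadeHB_conj hD hl hBA, card_dadeNB_conj hl]
  congr 1
  rw [Finset.sum_filter, Finset.sum_filter, ← Equiv.sum_comp (MulAut.conj l).toEquiv]
  apply Finset.sum_congr rfl
  intro n _
  have hmem : (MulAut.conj l).toEquiv n ∈ dadeNB L (conjFinset l B) ↔ n ∈ dadeNB L B := by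
    rw [mem_dadeNB_conj hl]
    have : l⁻¹ * (MulAut.conj l).toEquiv n * l = n := by
      simp only [MulEquiv.toEquiv_eq_coe, EquivLike.coe_coe, MulAut.conj_apply]
      group
    rw [this]
  by_cases hn : n ∈ dadeNB L B
  · rw [if_pos hn, if_pos (hmem.mpr hn)]
    show Cfsg.extendByZero L α (l * n * l⁻¹) *
      (dadeCnt H (conjFinset l B) (l * n * l⁻¹) g : ℂ) = _
    rw [extendByZero_conj α hα hl, dadeCnt_conj hD hl hBA]
  · rw [if_neg hn, if_neg (fun h => hn (hmem.mp h))]

/-- Generalized characters form an additive subgroup of the functions on `G`. -/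
def genCharAddSubgroup (G : Type*) [Group G] : AddSubgroup (G → ℂ) where
  carrier := {f | Cfsg.IsGeneralizedCharacter G f}
  zero_mem' := isGeneralizedCharacter_zero
  add_mem' := fun ha hb => isGeneralizedCharacter_add ha hb
  neg_mem' := fun ha => isGeneralizedCharacter_neg ha

omit [Fintype G] in
theorem mem_genCharAddSubgroup {f : G → ℂ} :
    f ∈ genCharAddSubgroup G ↔ Cfsg.IsGeneralizedCharacter G f := Iff.rfl

omit [Fintype G] in
theorem card_stab_eq_card_dadeNB [Fintype L] (B : Finset G) :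
    (univ.filter (fun l : L => conjFinset (l : G) B = B)).card = Nat.card (dadeNB L B) := by
  rw [← Fintype.card_subtype, ← Nat.card_eq_fintype_card]
  exact Nat.card_congr
    { toFun := fun l => ⟨l.1.1, l.1.2, conjFinset_eq_iff.mp l.2⟩
      invFun := fun n => ⟨⟨n.1, n.2.1⟩, conjFinset_eq_iff.mpr n.2.2⟩
      left_inv := fun l => rfl
      right_inv := fun n => rfl }

/-- The Dade map sends generalized characters vanishing off `A` to generalized characters. -/
theorem dade_isGeneralizedCharacter [Fintype L] (hD : Cfsg.DadeHypothesis A L H) (α : L → ℂ)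
    (hα : Cfsg.IsGeneralizedCharacter L α) (hαA : ∀ x : L, (x : G) ∉ A → α x = 0) :
    Cfsg.IsGeneralizedCharacter G (Cfsg.dadeIsometry A L H α) := by
  have hαc : Cfsg.IsClassFunction L α := isClassFunction_of_isGeneralizedCharacter hα
  obtain ⟨F, hFdef⟩ : ∃ F : Finset G → (G → ℂ), F = fun B : Finset G =>
    if B.Nonempty ∧ (B : Set G) ⊆ A then ((-1 : ℤ) ^ B.card) • dadePsi L H α B else 0 := ⟨_, rfl⟩
  have hcond : ∀ (l : L) (B : Finset G),
      ((conjFinset (l : G) B).Nonempty ∧ ((conjFinset (l : G) B : Finset G) : Set G) ⊆ A) ↔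
      (B.Nonempty ∧ (B : Set G) ⊆ A) := by
    intro l B
    constructor
    · rintro ⟨h1, h2⟩
      have hB : B = conjFinset ((l : G)⁻¹) (conjFinset (l : G) B) := by
        rw [← conjFinset_mul, inv_mul_cancel, conjFinset_one]
      rw [hB]
      exact ⟨conjFinset_nonempty h1, conjFinset_subset hD (L.inv_mem l.2) h2⟩
    · rintro ⟨h1, h2⟩
      exact ⟨conjFinset_nonempty h1, conjFinset_subset hD l.2 h2⟩
  have hF : ∀ (l : L) (B : Finset G), F (conjFinset (l : G) B) = F B := by
    intro l B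
    rw [hFdef]
    simp only
    by_cases hB : B.Nonempty ∧ (B : Set G) ⊆ A
    · rw [if_pos hB, if_pos ((hcond l B).mpr hB), card_conjFinset,
        dadePsi_conj hD α hαc l.2 hB.2]
    · rw [if_neg hB, if_neg (fun h => hB ((hcond l B).mp h))]
  have hP : ∀ B, F B ∈ genCharAddSubgroup G := by
    intro B
    rw [hFdef, mem_genCharAddSubgroup]
    simp only
    split_ifs with hB
    · exact isGeneralizedCharacter_zsmul (isGeneralizedCharacter_dadePsi hD hB.1 hB.2 hα) _
    · exact isGeneralizedCharacter_zero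
  have key := sum_orbit_weight_mem (Γ := L) (Ω := Finset G)
    (fun (l : L) (B : Finset G) => conjFinset (l : G) B)
    (fun B => by simp [conjFinset_one])
    (fun l l' B => by simp [conjFinset_mul])
    (genCharAddSubgroup G) F hF hP
  have heq : Cfsg.dadeIsometry A L H α = -(∑ B : Finset G,
      (((univ.filter (fun l : L => conjFinset (l : G) B = B)).card : ℂ) / (Nat.card L : ℂ)) •
        F B) := by
    funext g
    have hL : (Nat.card L : ℂ) ≠ 0 := Nat.cast_ne_zero.mpr Nat.card_pos.ne'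
    have hpt := dade_expansion_pointwise hD α hαc hαA g
    rw [Pi.neg_apply, Finset.sum_apply]
    have hterm : ∀ B : Finset G,
        ((((univ.filter (fun l : L => conjFinset (l : G) B = B)).card : ℂ) / (Nat.card L : ℂ)) •
          F B) g = (Nat.card L : ℂ)⁻¹ * (if B.Nonempty ∧ (B : Set G) ⊆ A then
            (-1 : ℂ) ^ B.card * ((Nat.card (dadeHB H B) : ℂ)⁻¹ *
              ∑ n ∈ univ.filter (· ∈ dadeNB L B),
                Cfsg.extendByZero L α n * (dadeCnt H B n g : ℂ)) else 0) := by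
      intro B
      rw [Pi.smul_apply, smul_eq_mul, card_stab_eq_card_dadeNB, hFdef]
      simp only
      split_ifs with hB
      · rw [Pi.smul_apply, zsmul_eq_mul]
        unfold dadePsi
        have h1 : (Nat.card (dadeNB L B) : ℂ) ≠ 0 := Nat.cast_ne_zero.mpr Nat.card_pos.ne'
        have h2 := card_dadeHB_ne_zero (H := H) B
        push_cast
        field_simp
      · simp
    rw [Finset.sum_congr rfl (fun B _ => hterm B), ← Finset.mul_sum, ← Finset.sum_filter]
    rw [eq_neg_iff_add_eq_zero] at hpt ⊢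
    have : (Nat.card L : ℂ) * (Cfsg.dadeIsometry A L H α g + (Nat.card L : ℂ)⁻¹ *
        ∑ B ∈ univ.filter (fun B : Finset G => B.Nonempty ∧ (B : Set G) ⊆ A),
          (-1 : ℂ) ^ B.card * ((Nat.card (dadeHB H B) : ℂ)⁻¹ *
            ∑ n ∈ univ.filter (· ∈ dadeNB L B),
              Cfsg.extendByZero L α n * (dadeCnt H B n g : ℂ))) = 0 := by
      rw [mul_add, ← mul_assoc, mul_inv_cancel₀ hL, one_mul]
      exact hpt
    exact (mul_eq_zero.mp this).resolve_left hL
  rw [heq]
  refine isGeneralizedCharacter_neg (mem_genCharAddSubgroup.mp ?_)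
  convert key

end DadeOrbit

end Cfsg.Agent.Lib.H8
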