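import Mathlib

/-!
# S1951, piece ARITH (F5 + F7): the arithmetic endgame

`s` indexes the non-trivial characters of the principal block, `d i = χ_i(a) ∈ ℤ`,
`f i = χ_i(1) = d i + m i * t` with `m i ≥ 1`, `∑ d i ^ 2 = t - 1`, `t = p ^ n`.
-/

namespace Cfsg.Agent.Lib.H8.AEA

open Finset

variable {K : Type*} [Field K] [LinearOrder K] [IsStrictOrderedRing K]

/-- F5, termwise: `f ≥ d + t`, `t ≥ d² + 1` give `d³ / f ≤ d² / 3`. -/
theorem term_le_third (d f t : ℤ) (hf : d + t ≤ f) (ht : d ^ 2 + 1 ≤ t) :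
    (d : K) ^ 3 / (f : K) ≤ (d : K) ^ 2 / 3 := by
  have hfpos : (0 : ℤ) < f := by nlinarith [sq_nonneg (d + 1), sq_nonneg d]
  have hfK : (0 : K) < (f : K) := by exact_mod_cast hfpos
  rw [div_le_div_iff₀ hfK (by norm_num : (0 : K) < 3)]
  have hz : d ^ 3 * 3 ≤ d ^ 2 * f := by
    rcases le_or_gt 0 d with h | h
    · have h1 : 0 ≤ f - (d ^ 2 + d + 1) := by linarith
      nlinarith [mul_nonneg (sq_nonneg d) h1, mul_nonneg (sq_nonneg d) (sq_nonneg (d - 1))]
    · have h3 : d ^ 3 ≤ 0 := Odd.pow_nonpos (by decide : Odd 3) h.le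
      have h4 : 0 ≤ d ^ 2 * f := mul_nonneg (sq_nonneg d) hfpos.le
      linarith
  exact_mod_cast hz

/-- Positivity of the degrees. -/
theorem f_pos (d f t : ℤ) (hf : d + t ≤ f) (ht : d ^ 2 + 1 ≤ t) : 0 < f := by
  nlinarith [sq_nonneg (d + 1), sq_nonneg d]

theorem sq_add_one_le {ι : Type*} (s : Finset ι) (d : ι → ℤ) (t : ℤ)
    (hsq : ∑ i ∈ s, d i ^ 2 = t - 1) {i : ι} (hi : i ∈ s) : d i ^ 2 + 1 ≤ t := by
  have := Finset.single_le_sum (f := fun i => d i ^ 2) (fun j _ => sq_nonneg (d j)) hi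
  linarith

/-- F5, summed: `1 + ∑ d³ / f ≤ (t + 2) / 3`. -/
theorem one_add_sum_le {ι : Type*} (s : Finset ι) (d f : ι → ℤ) (t : ℤ)
    (hf : ∀ i ∈ s, d i + t ≤ f i) (hsq : ∑ i ∈ s, d i ^ 2 = t - 1) :
    1 + ∑ i ∈ s, (d i : K) ^ 3 / (f i : K) ≤ ((t : K) + 2) / 3 := by
  have h1 : ∑ i ∈ s, (d i : K) ^ 3 / (f i : K) ≤ ∑ i ∈ s, (d i : K) ^ 2 / 3 :=
    Finset.sum_le_sum fun i hi => term_le_third (d i) (f i) t (hf i hi) (sq_add_one_le s d t hsq hi)
  have h2 : ∑ i ∈ s, (d i : K) ^ 2 / 3 = ((t : K) - 1) / 3 := by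
    rw [← Finset.sum_div]
    congr 1
    have : ((∑ i ∈ s, d i ^ 2 : ℤ) : K) = ((t - 1 : ℤ) : K) := by rw [hsq]
    push_cast at this
    exact this
  rw [h2] at h1
  linarith

/-- F7, generic part: the lower bound forces `p = 3 = t`. -/
theorem p_eq_three_and_t_eq_three {ι : Type*} (s : Finset ι) (d f : ι → ℤ) (p n : ℕ)
    (hp : p.Prime) (hp2 : p ≠ 2) (hn : 1 ≤ n)
    (hf : ∀ i ∈ s, d i + ((p ^ n : ℕ) : ℤ) ≤ f i)
    (hsq : ∑ i ∈ s, d i ^ 2 = ((p ^ n : ℕ) : ℤ) - 1)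
    (hlow : ((p : K) - 2) * ((p ^ n : ℕ) : K) ≤
      ((p : K) - 1) * (1 + ∑ i ∈ s, (d i : K) ^ 3 / (f i : K))) :
    p = 3 ∧ p ^ n = 3 := by
  have hup := one_add_sum_le (K := K) s d f ((p ^ n : ℕ) : ℤ) hf hsq
  have hp3 : 3 ≤ p := by
    have := hp.two_le
    omega
  have hp1 : (0 : K) ≤ (p : K) - 1 := by
    have : (1 : K) ≤ (p : K) := by exact_mod_cast hp.one_le
    linarith
  have h1 : ((p : K) - 2) * ((p ^ n : ℕ) : K) ≤
      ((p : K) - 1) * ((((p ^ n : ℕ) : ℤ) : K) + 2) / 3 := by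
    calc ((p : K) - 2) * ((p ^ n : ℕ) : K)
        ≤ ((p : K) - 1) * (1 + ∑ i ∈ s, (d i : K) ^ 3 / (f i : K)) := hlow
      _ ≤ ((p : K) - 1) * (((((p ^ n : ℕ) : ℤ) : K) + 2) / 3) :=
          mul_le_mul_of_nonneg_left hup hp1
      _ = _ := by ring
  set t : ℕ := p ^ n with ht
  have htp : p ≤ t := by
    calc p = p ^ 1 := (pow_one p).symm
      _ ≤ p ^ n := Nat.pow_le_pow_right hp.pos hn
  -- integer form: 3 (p - 2) t ≤ (p - 1) (t + 2)
  have h2 : (3 : ℤ) * ((p : ℤ) - 2) * (t : ℤ) ≤ ((p : ℤ) - 1) * ((t : ℤ) + 2) := by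
    have h3 : (3 : K) * (((p : K) - 2) * (t : K)) ≤ ((p : K) - 1) * ((((t : ℕ) : ℤ) : K) + 2) := by
      have := mul_le_mul_of_nonneg_left h1 (by norm_num : (0 : K) ≤ 3)
      calc (3 : K) * (((p : K) - 2) * (t : K))
          ≤ 3 * (((p : K) - 1) * ((((t : ℕ) : ℤ) : K) + 2) / 3) := this
        _ = _ := by ring
    have h4 : (((3 : ℤ) * ((p : ℤ) - 2) * (t : ℤ) : ℤ) : K) ≤
        ((((p : ℤ) - 1) * ((t : ℤ) + 2) : ℤ) : K) := by
      push_cast
      push_cast at h3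
      linarith
    exact_mod_cast h4
  have hpZ : (3 : ℤ) ≤ p := by exact_mod_cast hp3
  have htZ : (p : ℤ) ≤ t := by exact_mod_cast htp
  have hp_lt : p < 5 := by
    by_contra hcon
    have h5 : (5 : ℤ) ≤ p := by
      have : 5 ≤ p := by omega
      exact_mod_cast this
    nlinarith
  have hp_eq : p = 3 := by
    have h4 : p ≠ 4 := by
      intro h
      rw [h] at hp
      exact absurd hp (by norm_num)
    omega
  refine ⟨hp_eq, ?_⟩
  have hpz3 : (p : ℤ) = 3 := by exact_mod_cast hp_eq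
  rw [hpz3] at h2
  have ht4 : (t : ℤ) ≤ 4 := by linarith
  have ht4' : t ≤ 4 := by exact_mod_cast ht4
  have ht3 : 3 ≤ t := hp_eq ▸ htp
  rcases Nat.lt_or_ge n 2 with hn2 | hn2
  · have : n = 1 := by omega
    rw [ht, this, hp_eq]
    norm_num
  · exfalso
    have : p ^ 2 ≤ p ^ n := Nat.pow_le_pow_right hp.pos hn2
    rw [hp_eq] at this
    rw [ht, hp_eq] at ht4'
    omega

/-- F7, the endgame `p = 3 = t`. -/
theorem false_of_three {ι : Type*} (s : Finset ι) (d f m : ι → ℤ)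
    (hm : ∀ i ∈ s, 1 ≤ m i) (hf : ∀ i ∈ s, f i = d i + m i * 3)
    (hsq : ∑ i ∈ s, d i ^ 2 = 2)
    (hpsi : 1 + ∑ i ∈ s, d i * f i = 0)
    (hlow : (3 : K) ≤ 2 * (1 + ∑ i ∈ s, (d i : K) ^ 3 / (f i : K))) : False := by
  -- each term: `d² / 4 - d³ / f ≥ 0`, with equality only if `d f = 4 d²`
  have hd : ∀ i ∈ s, d i = -1 ∨ d i = 0 ∨ d i = 1 := by
    intro i hi
    have h := sq_add_one_le s d 3 (by rw [hsq]; norm_num) hi
    have h1 : -1 ≤ d i := by nlinarith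
    have h2 : d i ≤ 1 := by nlinarith
    omega
  have hterm : ∀ i ∈ s, 0 ≤ (d i : K) ^ 2 / 4 - (d i : K) ^ 3 / (f i : K) := by
    intro i hi
    rcases hd i hi with h | h | h
    · have hfi : (2 : ℤ) ≤ f i := by rw [hf i hi, h]; linarith [hm i hi]
      have hfK : (0 : K) < (f i : K) := by
        have : (0 : ℤ) < f i := by linarith
        exact_mod_cast this
      rw [h]
      have : (0 : K) ≤ 1 / (f i : K) := by positivity
      have e : ((-1 : ℤ) : K) ^ 3 / (f i : K) = -(1 / (f i : K)) := by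
        push_cast; ring
      rw [e]
      push_cast
      linarith
    · rw [h]; simp
    · have hfi : (4 : ℤ) ≤ f i := by rw [hf i hi, h]; linarith [hm i hi]
      have hfK : (4 : K) ≤ (f i : K) := by exact_mod_cast hfi
      have hfK0 : (0 : K) < (f i : K) := by linarith
      rw [h]
      have : 1 / (f i : K) ≤ 1 / 4 := one_div_le_one_div_of_le (by norm_num) hfK
      push_cast
      have e : (1 : K) ^ 3 / (f i : K) = 1 / (f i : K) := by ring
      rw [e]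
      linarith
  have hsumK : ∑ i ∈ s, (d i : K) ^ 2 / 4 = 1 / 2 := by
    rw [← Finset.sum_div]
    have : ((∑ i ∈ s, d i ^ 2 : ℤ) : K) = ((2 : ℤ) : K) := by rw [hsq]
    push_cast at this
    rw [this]
    norm_num
  have hzero : ∑ i ∈ s, ((d i : K) ^ 2 / 4 - (d i : K) ^ 3 / (f i : K)) ≤ 0 := by
    rw [Finset.sum_sub_distrib, hsumK]
    linarith
  have hall : ∀ i ∈ s, (d i : K) ^ 2 / 4 - (d i : K) ^ 3 / (f i : K) = 0 := by
    have h0 : ∑ i ∈ s, ((d i : K) ^ 2 / 4 - (d i : K) ^ 3 / (f i : K)) = 0 :=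
      le_antisymm hzero (Finset.sum_nonneg hterm)
    exact (Finset.sum_eq_zero_iff_of_nonneg hterm).mp h0
  have hdf : ∀ i ∈ s, d i * f i = 4 * d i ^ 2 := by
    intro i hi
    have h0 := hall i hi
    rcases hd i hi with h | h | h
    · exfalso
      have hfi : (2 : ℤ) ≤ f i := by rw [hf i hi, h]; linarith [hm i hi]
      have hfK : (0 : K) < (f i : K) := by
        have : (0 : ℤ) < f i := by linarith
        exact_mod_cast this
      rw [h] at h0
      have hpos : (0 : K) < 1 / (f i : K) := by positivity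
      have e : ((-1 : ℤ) : K) ^ 3 / (f i : K) = -(1 / (f i : K)) := by
        push_cast; ring
      rw [e] at h0
      push_cast at h0
      linarith
    · rw [h]; ring
    · have hfi : (4 : ℤ) ≤ f i := by rw [hf i hi, h]; linarith [hm i hi]
      have hfK : (4 : K) ≤ (f i : K) := by exact_mod_cast hfi
      have hfK0 : (0 : K) < (f i : K) := by linarith
      rw [h] at h0
      push_cast at h0
      have e : (1 : K) ^ 3 / (f i : K) = 1 / (f i : K) := by ring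
      rw [e] at h0
      have h14 : 1 / (f i : K) = 1 / 4 := by linarith
      have hf4 : (f i : K) = 4 := by
        have := congrArg (fun x => 1 / x) h14
        simpa using this
      have hf4' : f i = 4 := by exact_mod_cast hf4
      rw [h, hf4']
      norm_num
  have hsum : ∑ i ∈ s, d i * f i = 8 := by
    rw [Finset.sum_congr rfl hdf, ← Finset.mul_sum, hsq]
    norm_num
  rw [hsum] at hpsi
  norm_num at hpsi

/-- **ARITH** (F5 + F7): the upper and lower bounds for `N_sing` are incompatible for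
odd `p`. -/
theorem arith_false {ι : Type*} (s : Finset ι) (d f m : ι → ℤ) (p n : ℕ)
    (hp : p.Prime) (hp2 : p ≠ 2) (hn : 1 ≤ n)
    (hm : ∀ i ∈ s, 1 ≤ m i) (hf : ∀ i ∈ s, f i = d i + m i * ((p ^ n : ℕ) : ℤ))
    (hsq : ∑ i ∈ s, d i ^ 2 = ((p ^ n : ℕ) : ℤ) - 1)
    (hpsi : 1 + ∑ i ∈ s, d i * f i = 0)
    (hlow : ((p : K) - 2) * ((p ^ n : ℕ) : K) ≤
      ((p : K) - 1) * (1 + ∑ i ∈ s, (d i : K) ^ 3 / (f i : K))) : False := by
  have htpos : (0 : ℤ) ≤ ((p ^ n : ℕ) : ℤ) := Int.natCast_nonneg _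
  have hf' : ∀ i ∈ s, d i + ((p ^ n : ℕ) : ℤ) ≤ f i := by
    intro i hi
    rw [hf i hi]
    have := hm i hi
    nlinarith
  obtain ⟨hp3, ht3⟩ := p_eq_three_and_t_eq_three (K := K) s d f p n hp hp2 hn hf' hsq hlow
  rw [ht3] at hf hsq hlow
  rw [hp3] at hlow
  refine false_of_three (K := K) s d f m hm (fun i hi => by rw [hf i hi]; norm_num) ?_ hpsi ?_
  · rw [hsq]; norm_num
  · push_cast at hlow
    linarith

end Cfsg.Agent.Lib.H8.AEA
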