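import Mathlib

/-!
# S4150, piece G3 (`isPretransitive_closure`), exact signature of `tools/blueprints/S4150_sigs.lean`.

`x` of prime order `p`, `y` a cycle with `q` points, full support, `d < p + q`: the group generated by `x`, `y` is
transitive on `Fin d`.
-/

set_option autoImplicit false

namespace Cfsg.Agent.Lib.H8.AG

open Equiv Equiv.Perm Subgroup

/-- (G3) transitivity. -/
theorem isPretransitive_closure {d p q : ℕ} (x y : Perm (Fin d)) (hp : p.Prime)
    (hx : orderOf x = p) (hy : y.IsCycle) (hyq : y.support.card = q)
    (hfull : x.support ∪ y.support = Finset.univ) (hpq : d < p + q) :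
    MulAction.IsPretransitive (closure ({x, y} : Set (Perm (Fin d)))) (Fin d) := by
  classical
  set G := closure ({x, y} : Set (Perm (Fin d))) with hG
  have hxG : x ∈ G := subset_closure (by simp)
  have hyG : y ∈ G := subset_closure (by simp)
  obtain ⟨a, ha, hcyc⟩ := hy
  -- key: every z can be moved to a
  have key : ∀ z : Fin d, ∃ g ∈ G, g z = a := by
    intro z
    -- first: points of supp y
    have h1 : ∀ w : Fin d, y w ≠ w → ∃ g ∈ G, g w = a := by
      intro w hw
      obtain ⟨i, hi⟩ := hcyc hw
      refine ⟨(y ^ i)⁻¹, G.inv_mem (G.zpow_mem hyG i), ?_⟩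
      rw [← hi]; simp
    by_cases hz : y z = z
    · have hxz : x z ≠ z := by
        have : z ∈ x.support ∪ y.support := by rw [hfull]; exact Finset.mem_univ z
        rcases Finset.mem_union.mp this with h | h
        · exact Perm.mem_support.mp h
        · exact absurd hz (Perm.mem_support.mp h)
      -- some x^i z is moved by y
      have h2 : ∃ w, SameCycle x z w ∧ y w ≠ w := by
        by_contra hcon
        push Not at hcon
        have hsub : (x.cycleOf z).support ⊆ y.supportᶜ := by
          intro w hw
          rw [Perm.mem_support_cycleOf_iff] at hw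
          simp only [Finset.mem_compl, Perm.mem_support, not_not]
          exact hcon w hw.1
        have hcard : (x.cycleOf z).support.card = p := by
          have hc : (x.cycleOf z).IsCycle := Perm.isCycle_cycleOf x hxz
          have hdvd : orderOf (x.cycleOf z) ∣ p := hx ▸ Perm.orderOf_cycleOf_dvd_orderOf x z
          rw [← hc.orderOf]
          rcases (Nat.dvd_prime hp).mp hdvd with h | h
          · exfalso
            have h2 := hc.two_le_card_support
            rw [← hc.orderOf] at h2
            omega
          · exact h
        have hle := Finset.card_le_card hsub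
        rw [hcard, Finset.card_compl, hyq, Fintype.card_fin] at hle
        have hqd : q ≤ d := by
          rw [← hyq]; simpa using Finset.card_le_univ y.support
        omega
      obtain ⟨w, ⟨i, hi⟩, hw⟩ := h2
      obtain ⟨g, hg, hga⟩ := h1 w hw
      refine ⟨g * x ^ i, G.mul_mem hg (G.zpow_mem hxG i), ?_⟩
      simp [Perm.mul_apply, hi, hga]
    · exact h1 z hz
  refine ⟨fun u v => ?_⟩
  obtain ⟨g, hg, hgu⟩ := key u
  obtain ⟨h, hh, hhv⟩ := key v
  refine ⟨⟨h⁻¹ * g, G.mul_mem (G.inv_mem hh) hg⟩, ?_⟩
  show (h⁻¹ * g) u = v
  rw [Perm.mul_apply, hgu, ← hhv]; simp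

end Cfsg.Agent.Lib.H8.AG
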