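import Mathlib

/-!
# S4150, piece TR (`exists_full_support`), exact signature of `tools/blueprints/S4150_sigs.lean`.

Transport of a pair of permutations of `Fin m` to `Fin d`, `d` the size of the union of their supports.
-/

set_option autoImplicit false

namespace Cfsg.Agent.Lib.H8.AG

open Equiv Equiv.Perm Subgroup

/-- a permutation whose support lies in `s` is the extension of a permutation of `Fin d ≃ s`. -/
theorem exists_extendDomain_eq {m d : ℕ} (s : Finset (Fin m)) (e : Fin d ≃ {a // a ∈ s})
    (x : Perm (Fin m)) (hx : x.support ⊆ s) :
    ∃ x' : Perm (Fin d), x'.extendDomain e = x := by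
  classical
  refine ⟨e.permCongr.symm (x.subtypePerm_of_support_le hx), ?_⟩
  ext a
  by_cases ha : a ∈ s
  · rw [Perm.extendDomain_apply_subtype _ _ ha]
    simp [Perm.subtypePerm_of_support_le]
  · rw [Perm.extendDomain_apply_not_subtype _ _ ha]
    have : a ∉ x.support := fun h => ha (hx h)
    rw [Perm.notMem_support] at this
    rw [this]

/-- (TR) transport of a pair of permutations to the union of their supports. -/
theorem exists_full_support {m d : ℕ} (x y : Perm (Fin m))
    (hd : (x.support ∪ y.support).card = d) :
    ∃ x' y' : Perm (Fin d), x'.cycleType = x.cycleType ∧ y'.cycleType = y.cycleType ∧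
      x'.support ∪ y'.support = Finset.univ ∧
      Nonempty (closure ({x, y} : Set (Perm (Fin m))) ≃*
        closure ({x', y'} : Set (Perm (Fin d)))) := by
  classical
  set s : Finset (Fin m) := x.support ∪ y.support with hs
  have hcard : Fintype.card {a // a ∈ s} = d := by rw [Fintype.card_coe]; exact hd
  let e : Fin d ≃ {a // a ∈ s} := (Fintype.equivFinOfCardEq hcard).symm
  obtain ⟨x', hx'⟩ := exists_extendDomain_eq s e x Finset.subset_union_left
  obtain ⟨y', hy'⟩ := exists_extendDomain_eq s e y Finset.subset_union_right
  refine ⟨x', y', ?_, ?_, ?_, ?_⟩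
  · rw [← hx', Perm.cycleType_extendDomain]
  · rw [← hy', Perm.cycleType_extendDomain]
  · apply Finset.eq_univ_of_card
    rw [Fintype.card_fin]
    have h1 : (x'.support ∪ y'.support).map e.asEmbedding = s := by
      rw [Finset.map_union, ← Perm.support_extend_domain e, ← Perm.support_extend_domain e, hx', hy']
    have h2 := congrArg Finset.card h1
    rw [Finset.card_map, hd] at h2
    exact h2
  · have hinj := Perm.extendDomainHom_injective e
    have hmap : (closure ({x', y'} : Set (Perm (Fin d)))).map (Perm.extendDomainHom e) =
        closure ({x, y} : Set (Perm (Fin m))) := by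
      rw [MonoidHom.map_closure, Set.image_pair]
      simp only [Perm.extendDomainHom_apply, hx', hy']
    exact ⟨((Subgroup.equivMapOfInjective _ _ hinj).trans (MulEquiv.subgroupCongr hmap)).symm⟩

end Cfsg.Agent.Lib.H8.AG
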