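import Mathlib
import Cfsg.Prelude
import Cfsg.Agent.Lib.H8.LinearDual
import Cfsg.Agent.Lib.H23.CliffordCorr
import Cfsg.Agent.Lib.H24.CharLinearMul
import Cfsg.Agent.Lib.H12.CliffordHom
import Cfsg.Agent.Lib.L0.CharDegree

/-!
# Characters over an invariant character with abelian inertia quotient (helper8)

`H ≤ T ≤ G`, `H` normal in `G`, `θ ∈ Irr(H)` invariant in `T`, `T/H` abelian.
* `extTo H T θ`: extension by zero of `θ` to a function on `T`;
* `indFun_eq_smul_indFun_extTo`: `Ind_H^G θ = (|T|/|H|) • Ind_T^G (extTo θ)`;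
* `abelian_inertia`: there are `e > 0` and a finset `C` of irreducible characters of `T`, each
  restricting to `e • θ` on `H`, with `e² |C| = |T : H|` and `|T : H| • extTo θ = e • ∑ C`.
-/

set_option autoImplicit false

namespace Cfsg.Agent.Lib.H8

open Cfsg.Agent.Lib.L0 Cfsg.Agent.Lib.H23
open scoped ComplexConjugate

section

variable {G : Type*} [Group G] (H T : Subgroup G)

/-- Extension by zero of a function on `H` to a function on `T`. -/
noncomputable def extTo (θ : H → ℂ) : T → ℂ := fun t => Cfsg.extendByZero H θ (t : G)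

theorem extTo_apply_of_mem (θ : H → ℂ) (t : T) (ht : (t : G) ∈ H) :
    extTo H T θ t = θ ⟨t, ht⟩ := extendByZero_apply_of_mem H θ ht

theorem extTo_apply_not_mem (θ : H → ℂ) (t : T) (ht : (t : G) ∉ H) :
    extTo H T θ t = 0 := extendByZero_apply_not_mem H θ ht

variable {H T} in
theorem extendByZero_extTo (hHT : H ≤ T) (θ : H → ℂ) :
    Cfsg.extendByZero T (extTo H T θ) = Cfsg.extendByZero H θ := by
  funext g
  by_cases hg : g ∈ T
  · rw [extendByZero_apply_of_mem T _ hg]; rfl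
  · rw [extendByZero_apply_not_mem T _ hg, extendByZero_apply_not_mem H θ (fun h => hg (hHT h))]

variable {H T} in
theorem indFun_eq_smul_indFun_extTo [Fintype G] (hHT : H ≤ T) (θ : H → ℂ) :
    Cfsg.indFun H θ = ((Nat.card T : ℂ) / (Nat.card H : ℂ)) • Cfsg.indFun T (extTo H T θ) := by
  funext g
  have hT0 : (Nat.card T : ℂ) ≠ 0 := Nat.cast_ne_zero.mpr Nat.card_pos.ne'
  have hH0 : (Nat.card H : ℂ) ≠ 0 := Nat.cast_ne_zero.mpr Nat.card_pos.ne'
  rw [Pi.smul_apply, smul_eq_mul, indFun_apply, indFun_apply, extendByZero_extTo hHT]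
  field_simp

variable {H T} in
theorem sum_extTo_mul [Fintype G] [Fintype H] [Fintype T] (hHT : H ≤ T) (θ : H → ℂ) (F : T → ℂ) :
    ∑ t : T, extTo H T θ t * F t = ∑ h : H, θ h * F ⟨h, hHT h.2⟩ := by
  calc ∑ t : T, extTo H T θ t * F t
      = ∑ t : T, F t * Cfsg.extendByZero H θ (t : G) := by
        refine Finset.sum_congr rfl fun t _ => ?_
        rw [mul_comm]; rfl
    _ = ∑ g : G, Cfsg.extendByZero T F g * Cfsg.extendByZero H θ g :=
        (sum_extendByZero_mul T F (Cfsg.extendByZero H θ)).symm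
    _ = ∑ g : G, Cfsg.extendByZero H θ g * Cfsg.extendByZero T F g := by
        refine Finset.sum_congr rfl fun g _ => ?_
        rw [mul_comm]
    _ = ∑ h : H, θ h * Cfsg.extendByZero T F (h : G) :=
        sum_extendByZero_mul H θ (Cfsg.extendByZero T F)
    _ = ∑ h : H, θ h * F ⟨h, hHT h.2⟩ := by
        refine Finset.sum_congr rfl fun h _ => ?_
        rw [extendByZero_apply_of_mem T F (hHT h.2)]

variable {H T} in
theorem classInner_extTo [Fintype G] [Fintype H] [Fintype T] (hHT : H ≤ T) (θ : H → ℂ)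
    (ψ : T → ℂ) :
    Cfsg.classInner (extTo H T θ) ψ =
      ((Nat.card H : ℂ) / (Nat.card T : ℂ)) * Cfsg.classInner θ (resTo H T hHT ψ) := by
  have hT0 : (Nat.card T : ℂ) ≠ 0 := Nat.cast_ne_zero.mpr Nat.card_pos.ne'
  have hH0 : (Nat.card H : ℂ) ≠ 0 := Nat.cast_ne_zero.mpr Nat.card_pos.ne'
  unfold Cfsg.classInner
  rw [sum_extTo_mul hHT θ (fun t => conj (ψ t))]
  have : ∑ h : H, θ h * conj (ψ ⟨h, hHT h.2⟩) = ∑ h : H, θ h * conj (resTo H T hHT ψ h) := rfl
  rw [this]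
  field_simp

end

section Main

variable {G : Type*} [Group G] [Fintype G] (H T : Subgroup G) [hN : H.Normal] [Fintype H]
  [Fintype T] (hHT : H ≤ T)

/-- `T/H` abelian, `θ ∈ Irr(H)` invariant in `T`: the irreducible characters of `T` over `θ` all
have the same ramification `e`, there are `|T:H|/e²` of them, and `|T:H| • θ̃ = e • ∑ ψ`. -/
theorem abelian_inertia (θ : H → ℂ) (hθ : Cfsg.IsIrrCharacter H θ)
    (hinv : ∀ g ∈ T, ∀ n : H, θ ⟨g * n * g⁻¹, hN.conj_mem (n : G) n.2 g⟩ = θ n)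
    (hab : ∀ x ∈ T, ∀ y ∈ T, x * y * x⁻¹ * y⁻¹ ∈ H) :
    ∃ (e : ℕ) (C : Finset (T → ℂ)), 0 < e ∧
      (∀ ψ ∈ C, Cfsg.IsIrrCharacter T ψ ∧ resTo H T hHT ψ = (e : ℂ) • θ) ∧
      e ^ 2 * C.card = H.relIndex T ∧
      (H.relIndex T : ℂ) • extTo H T θ = (e : ℂ) • ∑ ψ ∈ C, ψ := by
  classical
  haveI hN' : (H.subgroupOf T).Normal := Subgroup.normal_subgroupOf
  have habT : ∀ x y : T, x * y * x⁻¹ * y⁻¹ ∈ H.subgroupOf T := by
    intro x y
    rw [Subgroup.mem_subgroupOf]
    exact hab x x.2 y y.2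
  obtain ⟨Λ, hΛ1, hΛcard, hΛin, hΛout⟩ := exists_linear_chars (H.subgroupOf T) habT
  have hidx : (H.subgroupOf T).index = H.relIndex T := rfl
  rw [hidx] at hΛcard hΛin
  -- a character over θ
  obtain ⟨ψ₀, hψ₀, hcon⟩ := Cfsg.Agent.Lib.H12.exists_irr_over (Subgroup.inclusion hHT)
    (Subgroup.inclusion_injective hHT) hθ
  have hcon' : Cfsg.classInner (resTo H T hHT ψ₀) θ ≠ 0 := hcon
  have hres := restrict_inertia_eq_smul H T hHT θ hθ hinv ψ₀ hψ₀ hcon'
  obtain ⟨e, he⟩ := classInner_char_irr_nat (isCharacter_resTo H T hHT (isCharacter_of_irr hψ₀)) hθ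
  rw [he] at hres hcon'
  have he0 : e ≠ 0 := by
    rintro rfl
    exact hcon' (by simp)
  have heC : (e : ℂ) ≠ 0 := Nat.cast_ne_zero.mpr he0
  -- the twists
  set P : (T →* ℂˣ) → (T → ℂ) := fun f t => ψ₀ t * ((f t : ℂˣ) : ℂ) with hP
  have hPirr : ∀ f, Cfsg.IsIrrCharacter T (P f) := fun f =>
    Cfsg.Agent.Lib.H24.isIrrCharacter_mul_hom ψ₀ hψ₀ f
  have hPres : ∀ f ∈ Λ, resTo H T hHT (P f) = (e : ℂ) • θ := by
    intro f hf
    rw [← hres]
    funext n
    show ψ₀ ⟨n, hHT n.2⟩ * ((f ⟨n, hHT n.2⟩ : ℂˣ) : ℂ) = ψ₀ ⟨n, hHT n.2⟩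
    have : f ⟨n, hHT n.2⟩ = 1 := hΛ1 f hf ⟨n, hHT n.2⟩ (Subgroup.mem_subgroupOf.mpr n.2)
    rw [this, Units.val_one, mul_one]
  -- key identity
  have hkey : ∑ f ∈ Λ, P f = (e : ℂ) • ((H.relIndex T : ℂ) • extTo H T θ) := by
    funext t
    rw [Finset.sum_apply, Pi.smul_apply, Pi.smul_apply, smul_eq_mul, smul_eq_mul]
    simp only [hP]
    rw [← Finset.mul_sum]
    by_cases ht : (t : G) ∈ H
    · rw [hΛin t (Subgroup.mem_subgroupOf.mpr ht), extTo_apply_of_mem H T θ t ht]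
      have h1 := congrFun hres ⟨t, ht⟩
      rw [Pi.smul_apply, smul_eq_mul] at h1
      have h2 : resTo H T hHT ψ₀ ⟨t, ht⟩ = ψ₀ t := rfl
      rw [h2] at h1
      rw [h1]; ring
    · rw [hΛout t (fun h => ht (Subgroup.mem_subgroupOf.mp h)), extTo_apply_not_mem H T θ t ht]
      ring
  -- inner products
  have hcards : (H.relIndex T : ℂ) * ((Nat.card H : ℂ) / (Nat.card T : ℂ)) = 1 := by
    have h1 : H.relIndex T * Nat.card H = Nat.card T := by
      have := Subgroup.card_mul_index (H.subgroupOf T)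
      rw [hidx, Nat.card_congr (Subgroup.subgroupOfEquivOfLe hHT).toEquiv] at this
      rw [mul_comm]; exact this
    have hT0 : (Nat.card T : ℂ) ≠ 0 := Nat.cast_ne_zero.mpr Nat.card_pos.ne'
    rw [← h1]
    push_cast
    have hH0 : (Nat.card H : ℂ) ≠ 0 := Nat.cast_ne_zero.mpr Nat.card_pos.ne'
    have hR0 : (H.relIndex T : ℂ) ≠ 0 := by
      intro h0
      rw [← h1] at hT0
      push_cast at hT0
      rw [h0, zero_mul] at hT0
      exact hT0 rfl
    field_simp
  have hinner : ∀ ψ : T → ℂ, resTo H T hHT ψ = (e : ℂ) • θ →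
      Cfsg.classInner ((e : ℂ) • ((H.relIndex T : ℂ) • extTo H T θ)) ψ = (e : ℂ) * e := by
    intro ψ hψres
    rw [classInner_smul_left, classInner_smul_left, classInner_extTo hHT, hψres,
      classInner_smul_right, irr_classInner_self hθ, Complex.conj_natCast, mul_one,
      ← mul_assoc (H.relIndex T : ℂ), hcards, one_mul]
  set C : Finset (T → ℂ) := Λ.image P with hC
  have hCmem : ∀ ψ ∈ C, Cfsg.IsIrrCharacter T ψ ∧ resTo H T hHT ψ = (e : ℂ) • θ := by
    intro ψ hψ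
    obtain ⟨f, hf, rfl⟩ := Finset.mem_image.mp hψ
    exact ⟨hPirr f, hPres f hf⟩
  have hsum : ∑ f ∈ Λ, P f = ∑ b ∈ C, (Λ.filter (fun a => P a = b)).card • b :=
    Finset.sum_comp (fun b : T → ℂ => b) P
  have hmult : ∀ b ∈ C, (Λ.filter (fun a => P a = b)).card = e * e := by
    intro b hb
    have h1 := hinner b (hCmem b hb).2
    rw [← hkey, hsum, classInner_sum_left] at h1
    have h2 : ∀ b' ∈ C, Cfsg.classInner ((Λ.filter (fun a => P a = b')).card • b') b =
        if b' = b then ((Λ.filter (fun a => P a = b)).card : ℂ) else 0 := by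
      intro b' hb'
      rw [← Nat.cast_smul_eq_nsmul ℂ, classInner_smul_left,
        irr_classInner_eq (hCmem b' hb').1 (hCmem b hb).1]
      by_cases hbb : b' = b
      · rw [if_pos hbb, if_pos hbb, mul_one, hbb]
      · rw [if_neg hbb, if_neg hbb, mul_zero]
    rw [Finset.sum_congr rfl h2, Finset.sum_ite_eq' C b, if_pos hb] at h1
    exact_mod_cast h1
  refine ⟨e, C, Nat.pos_of_ne_zero he0, hCmem, ?_, ?_⟩
  · rw [← hΛcard, Finset.card_eq_sum_card_image P Λ, ← hC, Finset.sum_congr rfl hmult,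
      Finset.sum_const, smul_eq_mul]
    ring
  · have h3 : ∑ f ∈ Λ, P f = ((e : ℂ) * e) • ∑ b ∈ C, b := by
      rw [hsum, Finset.smul_sum]
      refine Finset.sum_congr rfl fun b hb => ?_
      rw [hmult b hb, ← Nat.cast_smul_eq_nsmul ℂ]
      push_cast
      rfl
    rw [hkey, mul_smul] at h3
    exact smul_right_injective _ heC h3

include hHT in
/-- If `|T:H| • θ̃ = e • ∑ C` for characters `C` of `T` and `H` has a complement in `T`
(coprime index), then `e` divides `θ 1`: restrict to a complement. -/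
theorem ramification_dvd_degree (θ : H → ℂ) (e : ℕ) (C : Finset (T → ℂ))
    (hC : ∀ ψ ∈ C, Cfsg.IsCharacter T ψ)
    (hsum : (H.relIndex T : ℂ) • extTo H T θ = (e : ℂ) • ∑ ψ ∈ C, ψ)
    (hcop : (Nat.card H).Coprime (H.relIndex T)) :
    ∃ k : ℕ, θ 1 = ((e * k : ℕ) : ℂ) := by
  classical
  haveI hN' : (H.subgroupOf T).Normal := Subgroup.normal_subgroupOf
  have hcardN : Nat.card (H.subgroupOf T) = Nat.card H :=
    Nat.card_congr (Subgroup.subgroupOfEquivOfLe hHT).toEquiv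
  have hcop' : (Nat.card (H.subgroupOf T)).Coprime (H.subgroupOf T).index := by
    rw [hcardN]; exact hcop
  obtain ⟨A, hA⟩ := Subgroup.exists_right_complement'_of_coprime hcop'
  haveI : Fintype A := Fintype.ofFinite A
  have hAcard : Nat.card A = H.relIndex T := by
    have h1 := hA.card_mul_card
    have h2 := Subgroup.card_mul_index (H.subgroupOf T)
    exact Nat.eq_of_mul_eq_mul_left Nat.card_pos (h1.trans h2.symm)
  have hR0 : (H.relIndex T : ℂ) ≠ 0 := by
    rw [← hAcard]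
    exact Nat.cast_ne_zero.mpr Nat.card_pos.ne'
  have hL : ∑ a : A, ((H.relIndex T : ℂ) • extTo H T θ) (a : T) = (H.relIndex T : ℂ) * θ 1 := by
    rw [Finset.sum_eq_single (1 : A)]
    · rw [Pi.smul_apply, smul_eq_mul]
      congr 1
      exact extTo_apply_of_mem H T θ 1 H.one_mem
    · intro a _ ha
      rw [Pi.smul_apply, smul_eq_mul, extTo_apply_not_mem, mul_zero]
      intro hmem
      apply ha
      have h1 : (a : T) ∈ H.subgroupOf T := Subgroup.mem_subgroupOf.mpr hmem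
      have := Subgroup.disjoint_def.mp hA.disjoint h1 a.2
      exact Subtype.ext this
    · intro h; exact absurd (Finset.mem_univ _) h
  have hR : ∀ ψ : T → ℂ, ∃ k : ℕ, ψ ∈ C → ∑ a : A, ψ (a : T) = (H.relIndex T : ℂ) * k := by
    intro ψ
    by_cases hψ : ψ ∈ C
    · obtain ⟨k, hk⟩ := classInner_char_irr_nat (isCharacter_restrict A (hC ψ hψ))
        (isIrrCharacter_one (G := A))
      refine ⟨k, fun _ => ?_⟩
      unfold Cfsg.classInner at hk
      have h2 : ∑ a : A, ψ (a : T) * conj ((1 : A → ℂ) a) = ∑ a : A, ψ (a : T) := by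
        refine Finset.sum_congr rfl fun a _ => ?_
        rw [Pi.one_apply, map_one, mul_one]
      rw [h2, hAcard] at hk
      rw [← hk]
      field_simp
    · exact ⟨0, fun h => absurd h hψ⟩
  choose kf hkf using hR
  refine ⟨∑ ψ ∈ C, kf ψ, ?_⟩
  have h1 : ∑ a : A, ((H.relIndex T : ℂ) • extTo H T θ) (a : T) =
      ∑ a : A, ((e : ℂ) • ∑ ψ ∈ C, ψ) (a : T) := by rw [hsum]
  rw [hL] at h1
  have h2 : ∑ a : A, ((e : ℂ) • ∑ ψ ∈ C, ψ) (a : T) =
      (H.relIndex T : ℂ) * ((e : ℂ) * ∑ ψ ∈ C, (kf ψ : ℂ)) := by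
    simp only [Pi.smul_apply, Finset.sum_apply, smul_eq_mul]
    rw [← Finset.mul_sum, Finset.sum_comm, Finset.sum_congr rfl (fun ψ hψ => hkf ψ hψ),
      ← Finset.mul_sum]
    ring
  rw [h2] at h1
  have h3 := mul_left_cancel₀ hR0 h1
  rw [h3]
  push_cast
  rfl

end Main

end Cfsg.Agent.Lib.H8
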