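/-
EO phase 2 (helper21's project), task EO2-B3b: `Ω(Q)` (n ≥ 8, all q) stabilises no decomposition into
pairwise orthogonal blocks of dimension `k ≤ 2`.  Proof: split the blocks into two halves of dimension ≥ 3;
Chevalley-Warning gives non-zero singular vectors `y`, `z` in the two halves; the Siegel element
`sg (y + z) y` maps a suitable vector `v` of a block of the second half to `v + c • y`, `c ≠ 0`, which lies
in no block.  (helper8)
-/
import Cfsg.Agent.Lib.H13.AschEOGen
import Cfsg.Agent.Lib.H13.Witt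

set_option autoImplicit false
set_option linter.unusedSectionVars false

namespace Cfsg.Agent.Lib.H8.EOP2

open Cfsg Cfsg.Geo Module
open Cfsg.Agent.Lib.H11.CD Cfsg.Agent.Lib.H11.OrMax Cfsg.Agent.Lib.H11.OmTs
open scoped MatrixGroups Matrix

section indep

variable {F : Type*} [Field F] {V : Type*} [AddCommGroup V] [Module F V] [FiniteDimensional F V]

/-- dimension of a partial sum of an independent family of subspaces of equal dimension -/
theorem finrank_biSup {ι : Type*} [DecidableEq ι] (D : ι → Submodule F V) (hind : iSupIndep D) {k : ℕ}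
    (hk : ∀ i, finrank F (D i) = k) (S : Finset ι) :
    finrank F ↥(⨆ i ∈ S, D i) = S.card * k := by
  induction S using Finset.induction_on with
  | empty => simp
  | insert a S ha ih =>
    rw [Finset.iSup_insert, Finset.card_insert_of_notMem ha]
    have hdisj : D a ⊓ (⨆ i ∈ S, D i) = ⊥ := by
      have h1 : (⨆ i ∈ S, D i) ≤ ⨆ j, ⨆ (_ : j ≠ a), D j := by
        apply iSup₂_le
        intro i hi
        have hia : i ≠ a := by rintro rfl; exact ha hi
        exact le_iSup₂_of_le i hia le_rfl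
      exact (disjoint_iff.mp ((hind a).mono_right h1))
    have h := Submodule.finrank_sup_add_finrank_inf_eq (D a) (⨆ i ∈ S, D i)
    rw [hdisj, finrank_bot, add_zero, ih, hk a] at h
    rw [h]; ring

end indep

variable {F : Type*} [Field F] [Fintype F] {n : ℕ}

/-- a non-zero singular vector in a subspace of dimension ≥ 3 (Chevalley-Warning) -/
theorem exists_singular_mem (Q : QuadraticForm F (Fin n → F)) (U : Submodule F (Fin n → F))
    (h : 3 ≤ finrank F U) : ∃ u ∈ U, u ≠ 0 ∧ Q u = 0 := by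
  obtain ⟨v, hv0, hv⟩ := Cfsg.Agent.Lib.H13.exists_singular_of_three_le (Q.comp U.subtype) h
  refine ⟨v.1, v.2, ?_, hv⟩
  intro h0
  exact hv0 (Subtype.ext h0)

/-- a partial sum of pairwise orthogonal blocks is orthogonal to every other block -/
theorem polar_biSup_eq_zero (Q : QuadraticForm F (Fin n → F)) {t : ℕ} (D : Fin t → Submodule F (Fin n → F))
    (horth : ∀ i j, i ≠ j → ∀ a ∈ D i, ∀ b ∈ D j, QuadraticMap.polar (⇑Q) a b = 0)
    (S : Finset (Fin t)) (l : Fin t) (hl : l ∉ S) :
    ∀ a ∈ ⨆ i ∈ S, D i, ∀ v ∈ D l, QuadraticMap.polar (⇑Q) a v = 0 := by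
  intro a ha v hv
  have hle : (⨆ i ∈ S, D i) ≤ LinearMap.ker ((QuadraticMap.polarBilin Q).flip v) := by
    apply iSup₂_le
    intro i hi b hb
    have hil : i ≠ l := by rintro rfl; exact hl hi
    rw [LinearMap.mem_ker, LinearMap.flip_apply]
    exact horth i l hil b hb v hv
  have := hle ha
  rw [LinearMap.mem_ker, LinearMap.flip_apply] at this
  exact this

/-- `Ω(Q)` (n ≥ 8, all q) stabilises no decomposition into pairwise orthogonal blocks (ANY block
dimension `k`). -/
theorem not_omegaGL_le_decompositionStabilizer_orth (Q : (Fin n → F) → F) (hQ : IsNondegenerateQuadraticForm Q)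
    (hn : 8 ≤ n) {t : ℕ} (k : ℕ) (D : Fin t → Submodule F (Fin n → F))
    (hD : IsNondegenerateMDecomposition (QuadraticMap.polar Q) k D) :
    ¬ omegaGL Q ≤ decompositionStabilizer D := by
  classical
  intro hle
  set Q' : QuadraticForm F (Fin n → F) := Cfsg.Agent.Lib.H29.Orth.toQF Q hQ with hQ'
  have hQnd : (QuadraticMap.polarBilin Q').Nondegenerate :=
    Cfsg.Agent.Lib.H29.Orth.toQF_nondegenerate Q hQ
  have hdec := hD.decomp
  have horth : ∀ i j, i ≠ j → ∀ a ∈ D i, ∀ b ∈ D j, QuadraticMap.polar (⇑Q') a b = 0 :=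
    fun i j hij a ha b hb => hD.orthogonal i j hij a ha b hb
  -- `n = t * k`
  have hntk : n = t * k := by
    have h := finrank_biSup D hdec.indep hdec.finrank_eq Finset.univ
    have h1 : (⨆ i ∈ (Finset.univ : Finset (Fin t)), D i) = ⊤ := by
      rw [← hdec.iSup_eq_top]
      simp
    rw [h1, finrank_top, Module.finrank_fintype_fun_eq_card, Fintype.card_fin, Finset.card_univ,
      Fintype.card_fin] at h
    exact h
  have hkpos := hdec.pos
  -- the two halves
  obtain ⟨S, -, hScard⟩ := Finset.exists_subset_card_eq (s := (Finset.univ : Finset (Fin t)))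
    (n := t / 2) (by rw [Finset.card_univ, Fintype.card_fin]; omega)
  have hScard' : Sᶜ.card = t - t / 2 := by
    rw [Finset.card_compl, Fintype.card_fin, hScard]
  have ht2 := hdec.two_le
  have harith : ∀ s : ℕ, t / 2 ≤ s → 3 ≤ s * k := by
    intro s hs
    rcases Nat.lt_or_ge k 3 with h3 | h3
    · interval_cases k
      · omega
      · omega
    · calc 3 = 1 * 3 := by norm_num
        _ ≤ s * k := Nat.mul_le_mul (by omega) h3
  have hdim1 : 3 ≤ finrank F ↥(⨆ i ∈ S, D i) := by
    rw [finrank_biSup D hdec.indep hdec.finrank_eq S, hScard]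
    exact harith _ le_rfl
  have hdim2 : 3 ≤ finrank F ↥(⨆ i ∈ Sᶜ, D i) := by
    rw [finrank_biSup D hdec.indep hdec.finrank_eq Sᶜ, hScard']
    exact harith _ (by omega)
  obtain ⟨y, hyS, hy0, hQy⟩ := exists_singular_mem Q' _ hdim1
  obtain ⟨z, hzS, hz0, hQz⟩ := exists_singular_mem Q' _ hdim2
  -- a block vector not orthogonal to `z`
  obtain ⟨l, v, hvl, hzv⟩ : ∃ l, ∃ v ∈ D l, QuadraticMap.polar (⇑Q') z v ≠ 0 := by
    by_contra hcon
    push Not at hcon
    apply hz0
    apply hQnd.1 z
    intro w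
    have hle' : iSup D ≤ LinearMap.ker (QuadraticMap.polarBilin Q' z) := by
      apply iSup_le
      intro i b hb
      rw [LinearMap.mem_ker]
      exact hcon i b hb
    rw [hdec.iSup_eq_top] at hle'
    have := hle' (Submodule.mem_top (x := w))
    rw [LinearMap.mem_ker] at this
    exact this
  have hlS : l ∉ S := by
    intro hl
    have hl' : l ∉ Sᶜ := by rw [Finset.mem_compl]; exact fun h => h hl
    exact hzv (polar_biSup_eq_zero Q' D horth Sᶜ l hl' z hzS v hvl)
  have hyv : QuadraticMap.polar (⇑Q') y v = 0 := polar_biSup_eq_zero Q' D horth S l hlS y hyS v hvl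
  -- `y ⟂ z`
  have hyz : QuadraticMap.polar (⇑Q') y z = 0 := by
    have hle' : (⨆ i ∈ Sᶜ, D i) ≤ LinearMap.ker (QuadraticMap.polarBilin Q' y) := by
      apply iSup₂_le
      intro i hi b hb
      rw [LinearMap.mem_ker]
      have hi' : i ∉ S := by rw [Finset.mem_compl] at hi; exact hi
      exact polar_biSup_eq_zero Q' D horth S i hi' y hyS b hb
    have := hle' hzS
    rw [LinearMap.mem_ker] at this
    exact this
  set u := y + z with hu
  have hQu : Q' u = 0 := by
    rw [hu, Q_add, hQy, hQz, hyz]; ring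
  have huy : QuadraticMap.polar (⇑Q') u y = 0 := by
    rw [hu, QuadraticMap.polar_add_left, P_self, hQy, P_comm Q' z y, hyz]; ring
  have huv : QuadraticMap.polar (⇑Q') u v = QuadraticMap.polar (⇑Q') z v := by
    rw [hu, QuadraticMap.polar_add_left, hyv, zero_add]
  -- the Siegel element
  have hgΩ : ((sg Q' u y : ↥(Cfsg.isometryGroup F ⇑Q')) : GL (Fin n) F) ∈ omegaGL Q :=
    Cfsg.Agent.Lib.H13.EOP2.sg_mem_omegaGL Q' hQnd (by omega) u y hQu huy
  obtain ⟨σ, hσ⟩ := hle hgΩ
  have hgv : act Q' (sg Q' u y) v = v + QuadraticMap.polar (⇑Q') z v • y := by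
    rw [sg_act Q' u y hQu huy, huv, hyv, hQy]
    simp
  have hmem : v + QuadraticMap.polar (⇑Q') z v • y ∈ D (σ l) := by
    rw [← hgv, ← hσ l]
    refine ⟨v, hvl, ?_⟩
    rw [Matrix.toLin'_apply]
    rfl
  -- contradiction with independence
  have hv0 : v ≠ 0 := by
    rintro rfl
    rw [QuadraticMap.polar_zero_right] at hzv
    exact hzv rfl
  have hySl : y ∈ ⨆ j, ⨆ (_ : j ≠ l), D j := by
    have h1 : (⨆ i ∈ S, D i) ≤ ⨆ j, ⨆ (_ : j ≠ l), D j := by
      apply iSup₂_le
      intro i hi
      have hil : i ≠ l := by rintro rfl; exact hlS hi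
      exact le_iSup₂_of_le i hil le_rfl
    exact h1 hyS
  have hdisj := disjoint_iff.mp (hdec.indep l)
  by_cases hσl : σ l = l
  · -- then `y ∈ D l`
    rw [hσl] at hmem
    have h1 : QuadraticMap.polar (⇑Q') z v • y ∈ D l := by
      have := (D l).sub_mem hmem hvl
      rwa [add_sub_cancel_left] at this
    have h2 : y ∈ D l := by
      have := (D l).smul_mem (QuadraticMap.polar (⇑Q') z v)⁻¹ h1
      rwa [smul_smul, inv_mul_cancel₀ hzv, one_smul] at this
    have : y ∈ D l ⊓ ⨆ j, ⨆ (_ : j ≠ l), D j := ⟨h2, hySl⟩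
    rw [hdisj, Submodule.mem_bot] at this
    exact hy0 this
  · -- then `v` lies in the sum of the other blocks
    have h1 : v + QuadraticMap.polar (⇑Q') z v • y ∈ ⨆ j, ⨆ (_ : j ≠ l), D j :=
      (le_iSup₂_of_le (σ l) hσl le_rfl : D (σ l) ≤ _) hmem
    have h2 : v ∈ ⨆ j, ⨆ (_ : j ≠ l), D j := by
      have := Submodule.sub_mem _ h1 (Submodule.smul_mem _ (QuadraticMap.polar (⇑Q') z v) hySl)
      rwa [add_sub_cancel_right] at this
    have : v ∈ D l ⊓ ⨆ j, ⨆ (_ : j ≠ l), D j := ⟨hvl, h2⟩
    rw [hdisj, Submodule.mem_bot] at this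
    exact hv0 this

/-- **EO2-B3b** (exact signature of `tools/blueprints/EO2_sigs.lean`). -/
theorem not_omegaGL_le_decompositionStabilizer_small (Q : (Fin n → F) → F) (hQ : IsNondegenerateQuadraticForm Q)
    (hn : 8 ≤ n) {t : ℕ} (k : ℕ) (hk : k ≤ 2) (D : Fin t → Submodule F (Fin n → F))
    (hD : IsNondegenerateMDecomposition (QuadraticMap.polar Q) k D) :
    ¬ omegaGL Q ≤ decompositionStabilizer D :=
  not_omegaGL_le_decompositionStabilizer_orth Q hQ hn k D hD

end Cfsg.Agent.Lib.H8.EOP2
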