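/-
Aschbacher projects (S5662 symplectic, S5663 unitary, S5673 orthogonal): GENERIC "Clifford with a
form", part a.  A non-degenerate reflexive `σ`-sesquilinear form `f` on `F^n` given as a function
(`σ = RingEquiv.refl F` for bilinear forms): Gram matrix, adjoint of a matrix, orthogonal of a
subspace; the orthogonal of an isotypic component of a subgroup `N` of the isometry group is the sum
of a set of isotypic components.  (helper8)
-/
import Cfsg.Agent.Lib.H8.AschM2c

set_option autoImplicit false
set_option linter.unusedSectionVars false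

namespace Cfsg.Agent.Lib.H8.Asch

open Cfsg Cfsg.Geo Cfsg.Agent.Lib.Lead.Asch
open scoped MatrixGroups Matrix Kronecker

variable {F : Type*} [Field F] {n : ℕ}

/-- `f` is a non-degenerate reflexive `σ`-sesquilinear form on `F^n` (linear in the first argument,
`σ`-semilinear in the second). -/
structure IsReflSesq (σ : F ≃+* F) (f : (Fin n → F) → (Fin n → F) → F) : Prop where
  add_left : ∀ u u' v, f (u + u') v = f u v + f u' v
  smul_left : ∀ (c : F) u v, f (c • u) v = c * f u v
  add_right : ∀ u v v', f u (v + v') = f u v + f u v'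
  smul_right : ∀ (c : F) u v, f u (c • v) = σ c * f u v
  refl : ∀ u v, f u v = 0 → f v u = 0
  nondeg : ∀ w, (∀ u, f u w = 0) → w = 0

namespace IsReflSesq

variable {σ : F ≃+* F} {f : (Fin n → F) → (Fin n → F) → F} (hf : IsReflSesq σ f)

include hf

theorem zero_left (v : Fin n → F) : f 0 v = 0 := by
  have := hf.smul_left 0 0 v
  simpa using this

theorem zero_right (u : Fin n → F) : f u 0 = 0 := by
  have := hf.smul_right 0 u 0
  simpa using this

theorem sub_right (u v v' : Fin n → F) : f u (v - v') = f u v - f u v' := by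
  have := hf.add_right u (v - v') v'
  rw [sub_add_cancel] at this
  rw [this, add_sub_cancel_right]

theorem sub_left (u u' v : Fin n → F) : f (u - u') v = f u v - f u' v := by
  have := hf.add_left (u - u') u' v
  rw [sub_add_cancel] at this
  rw [this, add_sub_cancel_right]

theorem nondeg_left (w : Fin n → F) (h : ∀ u, f w u = 0) : w = 0 :=
  hf.nondeg w fun u => hf.refl _ _ (h u)

/-- `f` as a linear map in the first argument. -/
def linL (v : Fin n → F) : (Fin n → F) →ₗ[F] F where
  toFun u := f u v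
  map_add' := fun u u' => hf.add_left u u' v
  map_smul' := fun c u => by simp [hf.smul_left]

/-- `σ⁻¹ ∘ f` as a linear map in the second argument. -/
def linR (u : Fin n → F) : (Fin n → F) →ₗ[F] F where
  toFun v := σ.symm (f u v)
  map_add' := fun v v' => by rw [hf.add_right, map_add]
  map_smul' := fun c v => by
    rw [hf.smul_right, map_mul, RingEquiv.symm_apply_apply]
    simp

/-- Expansion along the Gram matrix: `f u v = u ⬝ᵥ (G *ᵥ (σ ∘ v))`. -/
theorem eq_dot (u v : Fin n → F) :
    f u v = u ⬝ᵥ (gramMatrix f *ᵥ (fun j => σ (v j))) := by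
  have h1 : ∀ w, f u w = ∑ i, u i * f (Pi.single i 1) w := by
    intro w
    have := LinearMap.pi_apply_eq_sum_univ (hf.linL w) u
    simp only [linL, LinearMap.coe_mk, AddHom.coe_mk, smul_eq_mul] at this
    rw [this]
    refine Finset.sum_congr rfl fun i _ => ?_
    congr 2
    funext j
    simp [Pi.single_apply, eq_comm]
  have h2 : ∀ w, f w v = ∑ j, f w (Pi.single j 1) * σ (v j) := by
    intro w
    have := LinearMap.pi_apply_eq_sum_univ (hf.linR w) v
    simp only [linR, LinearMap.coe_mk, AddHom.coe_mk, smul_eq_mul] at this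
    have h3 := congrArg σ this
    rw [RingEquiv.apply_symm_apply, map_sum] at h3
    rw [h3]
    refine Finset.sum_congr rfl fun j _ => ?_
    rw [map_mul, RingEquiv.apply_symm_apply, mul_comm]
    congr 2
    funext i
    simp [Pi.single_apply, eq_comm]
  rw [h1]
  simp only [dotProduct, Matrix.mulVec, gramMatrix]
  refine Finset.sum_congr rfl fun i _ => ?_
  rw [h2]

/-- The Gram matrix is invertible. -/
theorem isUnit_gram : IsUnit (gramMatrix f) := by
  rw [← Matrix.mulVec_injective_iff_isUnit]
  intro x y hxy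
  have h1 : gramMatrix f *ᵥ (x - y) = 0 := by rw [Matrix.mulVec_sub, hxy, sub_self]
  have h2 : (fun j => σ.symm ((x - y) j)) = 0 := by
    apply hf.nondeg
    intro u
    rw [hf.eq_dot]
    have : (fun j => σ (σ.symm ((x - y) j))) = x - y := by
      funext j
      simp
    rw [this, h1, dotProduct_zero]
  have h3 : x - y = 0 := by
    funext j
    have h4 : σ.symm ((x - y) j) = 0 := congrFun h2 j
    exact (RingEquiv.map_eq_zero_iff σ.symm).mp h4
  exact sub_eq_zero.mp h3

/-- The adjoint of a matrix for `f`. -/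
noncomputable def adj (_hf : IsReflSesq σ f) (M : Matrix (Fin n) (Fin n) F) :
    Matrix (Fin n) (Fin n) F :=
  ((gramMatrix f)⁻¹ * Mᵀ * gramMatrix f).map σ.symm

theorem apply_mulVec_left (M : Matrix (Fin n) (Fin n) F) (u v : Fin n → F) :
    f (M *ᵥ u) v = f u (hf.adj M *ᵥ v) := by
  rw [hf.eq_dot, hf.eq_dot]
  have h1 : (fun j => σ ((hf.adj M *ᵥ v) j)) =
      ((gramMatrix f)⁻¹ * Mᵀ * gramMatrix f) *ᵥ (fun j => σ (v j)) := by
    funext j
    simp only [adj, Matrix.mulVec, dotProduct, map_sum, map_mul, Matrix.map_apply,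
      RingEquiv.apply_symm_apply]
  have hG : gramMatrix f * (gramMatrix f)⁻¹ = 1 :=
    Matrix.mul_nonsing_inv _ ((Matrix.isUnit_iff_isUnit_det _).mp hf.isUnit_gram)
  rw [h1, Matrix.mulVec_mulVec, ← mul_assoc, ← mul_assoc, hG, one_mul, ← Matrix.mulVec_mulVec]
  conv_rhs => rw [Matrix.dotProduct_mulVec, Matrix.vecMul_transpose]

end IsReflSesq

/-- The isometry group of a form given as a function. -/
def isomGroup (f : (Fin n → F) → (Fin n → F) → F) : Subgroup (GL (Fin n) F) :=
  preserving (Units.coeHom (Matrix (Fin n) (Fin n) F)) f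

theorem mem_isomGroup {f : (Fin n → F) → (Fin n → F) → F} {g : GL (Fin n) F} :
    g ∈ isomGroup f ↔ ∀ u v, f ((g : Matrix (Fin n) (Fin n) F) *ᵥ u)
      ((g : Matrix (Fin n) (Fin n) F) *ᵥ v) = f u v := Iff.rfl

theorem isom_left {f : (Fin n → F) → (Fin n → F) → F} {g : GL (Fin n) F} (hg : g ∈ isomGroup f)
    (u v : Fin n → F) :
    f ((g : Matrix (Fin n) (Fin n) F) *ᵥ u) v =
      f u (((g⁻¹ : GL (Fin n) F) : Matrix (Fin n) (Fin n) F) *ᵥ v) := by
  have h1 := hg u (((g⁻¹ : GL (Fin n) F) : Matrix (Fin n) (Fin n) F) *ᵥ v)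
  simp only [Units.coeHom_apply] at h1
  rw [Matrix.mulVec_mulVec, ← Units.val_mul, mul_inv_cancel, Units.val_one, Matrix.one_mulVec] at h1
  exact h1

theorem isom_right {f : (Fin n → F) → (Fin n → F) → F} {g : GL (Fin n) F} (hg : g ∈ isomGroup f)
    (u v : Fin n → F) :
    f u ((g : Matrix (Fin n) (Fin n) F) *ᵥ v) =
      f (((g⁻¹ : GL (Fin n) F) : Matrix (Fin n) (Fin n) F) *ᵥ u) v := by
  have h1 := hg (((g⁻¹ : GL (Fin n) F) : Matrix (Fin n) (Fin n) F) *ᵥ u) v
  simp only [Units.coeHom_apply] at h1
  rw [Matrix.mulVec_mulVec, ← Units.val_mul, mul_inv_cancel, Units.val_one, Matrix.one_mulVec] at h1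
  exact h1

/-- The (left) orthogonal of a subspace for `f`: `{v | ∀ w ∈ W, f v w = 0}`. -/
def gperp {σ : F ≃+* F} {f : (Fin n → F) → (Fin n → F) → F} (hf : IsReflSesq σ f)
    (W : Submodule F (Fin n → F)) : Submodule F (Fin n → F) where
  carrier := {v | ∀ w ∈ W, f v w = 0}
  add_mem' := by
    intro a b ha hb w hw
    rw [hf.add_left, ha w hw, hb w hw, add_zero]
  zero_mem' := fun w _ => hf.zero_left w
  smul_mem' := by
    intro c a ha w hw
    rw [hf.smul_left, ha w hw, mul_zero]

theorem mem_gperp {σ : F ≃+* F} {f : (Fin n → F) → (Fin n → F) → F} (hf : IsReflSesq σ f)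
    {W : Submodule F (Fin n → F)} {v : Fin n → F} :
    v ∈ gperp hf W ↔ ∀ w ∈ W, f v w = 0 := Iff.rfl

section module

variable {σ : F ≃+* F} {f : (Fin n → F) → (Fin n → F) → F} (hf : IsReflSesq σ f)
variable (N : Subgroup (GL (Fin n) F))

include hf in
/-- The adjoint of a matrix commuting with a subgroup of the isometry group commutes with it. -/
theorem adj_commute (hN : N ≤ isomGroup f) (M : Matrix (Fin n) (Fin n) F)
    (hM : ∀ x ∈ N, (x : Matrix (Fin n) (Fin n) F) * M = M * (x : Matrix (Fin n) (Fin n) F))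
    {x : GL (Fin n) F} (hx : x ∈ N) :
    (x : Matrix (Fin n) (Fin n) F) * hf.adj M = hf.adj M * (x : Matrix (Fin n) (Fin n) F) := by
  apply Matrix.toLin'.injective
  apply LinearMap.ext
  intro v
  rw [Matrix.toLin'_apply, Matrix.toLin'_apply, ← sub_eq_zero]
  apply hf.nondeg
  intro u
  have hxi : x⁻¹ ∈ N := N.inv_mem hx
  rw [hf.sub_right, sub_eq_zero, ← Matrix.mulVec_mulVec, ← Matrix.mulVec_mulVec,
    isom_right (hN hx), ← hf.apply_mulVec_left, ← hf.apply_mulVec_left,
    Matrix.mulVec_mulVec, ← hM _ hxi, ← Matrix.mulVec_mulVec, isom_left (hN hxi), inv_inv]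

/-- A matrix commuting with `N` gives an `nAlg N`-linear endomorphism. -/
noncomputable def endOfCommuteMat' (M : Matrix (Fin n) (Fin n) F)
    (hM : ∀ x ∈ N, (x : Matrix (Fin n) (Fin n) F) * M = M * (x : Matrix (Fin n) (Fin n) F)) :
    (Fin n → F) →ₗ[nAlg N] (Fin n → F) where
  toFun v := M *ᵥ v
  map_add' := by intro v w; exact Matrix.mulVec_add _ _ _
  map_smul' := by
    intro a v
    simp only [RingHom.id_apply]
    have hle : nAlg N ≤ Subalgebra.centralizer F {Matrix.toLin' M} := by
      apply Algebra.adjoin_le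
      rintro _ ⟨x, hx, rfl⟩
      rw [SetLike.mem_coe, Subalgebra.mem_centralizer_iff]
      intro g hg
      rw [Set.mem_singleton_iff] at hg
      subst hg
      show Matrix.toLin' M * Matrix.toLin' (x : Matrix (Fin n) (Fin n) F) =
        Matrix.toLin' (x : Matrix (Fin n) (Fin n) F) * Matrix.toLin' M
      rw [Module.End.mul_eq_comp, Module.End.mul_eq_comp, ← Matrix.toLin'_mul, ← Matrix.toLin'_mul,
        hM x hx]
    have h1 := hle a.2
    rw [Subalgebra.mem_centralizer_iff] at h1
    have h2 := LinearMap.congr_fun (h1 _ (Set.mem_singleton _)) v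
    simp only [Module.End.mul_apply, Matrix.toLin'_apply] at h2
    rw [nAlg_smul_def, nAlg_smul_def]
    exact h2

theorem endOfCommuteMat'_apply (M : Matrix (Fin n) (Fin n) F)
    (hM : ∀ x ∈ N, (x : Matrix (Fin n) (Fin n) F) * M = M * (x : Matrix (Fin n) (Fin n) F))
    (v : Fin n → F) : endOfCommuteMat' N M hM v = M *ᵥ v := rfl

/-- The matrix of an `nAlg N`-linear endomorphism commutes with `N`. -/
theorem toMatrix'_commute' (φ : (Fin n → F) →ₗ[nAlg N] (Fin n → F)) {x : GL (Fin n) F}
    (hx : x ∈ N) :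
    (x : Matrix (Fin n) (Fin n) F) * LinearMap.toMatrix' (φ.restrictScalars F) =
      LinearMap.toMatrix' (φ.restrictScalars F) * (x : Matrix (Fin n) (Fin n) F) := by
  apply Matrix.toLin'.injective
  apply LinearMap.ext
  intro v
  rw [Matrix.toLin'_mul, Matrix.toLin'_mul, Matrix.toLin'_toMatrix', LinearMap.comp_apply,
    LinearMap.comp_apply, Matrix.toLin'_apply, Matrix.toLin'_apply]
  have h1 := φ.map_smul ⟨_, toLin'_mem_nAlg N hx⟩ v
  simp only [nAlg_smul_def, Matrix.toLin'_apply] at h1
  exact h1.symm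

/-- The orthogonal of a submodule over the algebra is `N`-invariant (`N ≤` isometry group). -/
theorem gperp_invariant (hN : N ≤ isomGroup f) (m : Submodule (nAlg N) (Fin n → F)) :
    ∀ x ∈ N, (gperp hf (m.restrictScalars F)).map
      (Matrix.toLin' (x : Matrix (Fin n) (Fin n) F)) ≤ gperp hf (m.restrictScalars F) := by
  rintro x hx _ ⟨v, hv, rfl⟩ w hw
  rw [Matrix.toLin'_apply, isom_left (hN hx)]
  apply hv
  have := map_restrictScalars_le N m (N.inv_mem hx) (Submodule.mem_map_of_mem hw)
  rwa [Matrix.toLin'_apply] at this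

/-- The orthogonal of a submodule, as a submodule over the algebra. -/
noncomputable def gperpSub (hN : N ≤ isomGroup f) (m : Submodule (nAlg N) (Fin n → F)) :
    Submodule (nAlg N) (Fin n → F) :=
  subOf N (gperp hf (m.restrictScalars F)) (gperp_invariant hf N hN m)

theorem restrictScalars_gperpSub (hN : N ≤ isomGroup f) (m : Submodule (nAlg N) (Fin n → F)) :
    (gperpSub hf N hN m).restrictScalars F = gperp hf (m.restrictScalars F) := rfl

/-- The orthogonal of a fully invariant submodule is fully invariant. -/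
theorem gperpSub_isFullyInvariant (hN : N ≤ isomGroup f)
    (m : Submodule (nAlg N) (Fin n → F)) (hm : m.IsFullyInvariant) :
    (gperpSub hf N hN m).IsFullyInvariant := by
  intro φ v hv
  rw [Submodule.mem_comap]
  intro w hw
  set M := LinearMap.toMatrix' (φ.restrictScalars F) with hMdef
  have hφv : φ v = M *ᵥ v := by
    rw [hMdef, ← Matrix.toLin'_apply, Matrix.toLin'_toMatrix']
    rfl
  have hMc : ∀ x ∈ N, (x : Matrix (Fin n) (Fin n) F) * M = M * (x : Matrix (Fin n) (Fin n) F) :=
    fun x hx => toMatrix'_commute' N φ hx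
  have hadj : ∀ x ∈ N, (x : Matrix (Fin n) (Fin n) F) * hf.adj M =
      hf.adj M * (x : Matrix (Fin n) (Fin n) F) := fun x hx => adj_commute hf N hN M hMc hx
  rw [hφv, hf.apply_mulVec_left]
  apply hv
  have := hm (endOfCommuteMat' N (hf.adj M) hadj) hw
  rwa [Submodule.mem_comap, endOfCommuteMat'_apply] at this

variable [IsSemisimpleModule (nAlg N) (Fin n → F)]

/-- **Generic Clifford with a form, step 1**: the orthogonal of an isotypic component is the sum of a
set of isotypic components. -/
theorem gperpSub_eq_sSup (hN : N ≤ isomGroup f)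
    {c : Submodule (nAlg N) (Fin n → F)} (hc : c ∈ isotypicComponents (nAlg N) (Fin n → F)) :
    ∃ s ⊆ isotypicComponents (nAlg N) (Fin n → F), gperpSub hf N hN c = sSup s := by
  apply isFullyInvariant_iff_sSup_isotypicComponents.mp
  apply gperpSub_isFullyInvariant hf N hN
  obtain ⟨S, hS, rfl⟩ := hc
  exact Submodule.IsFullyInvariant.isotypicComponent _ _ S

end module

end Cfsg.Agent.Lib.H8.Asch
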