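/-
Aschbacher projects: GENERIC "Clifford with a form", part b (the combinatorial core).
A finite independent family `C` of non-zero subspaces of `F^n` with sum `⊤`, permuted transitively by
a group `H` of isometries of a non-degenerate reflexive sesquilinear form `f`, such that the orthogonal
of every member is the sum of a subset of the family.  Then every member `c` has a unique partner
`p c` not orthogonal to it, and the blocks `c ⊔ p c` form a non-degenerate orthogonal decomposition
permuted by `H`, unless `C = {c, p c}` is a pair of totally singular subspaces.  (helper8)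
-/
import Cfsg.Agent.Lib.H8.AschGM2a

set_option autoImplicit false
set_option linter.unusedSectionVars false

namespace Cfsg.Agent.Lib.H8.Asch

open Cfsg Cfsg.Geo Cfsg.Agent.Lib.Lead.Asch
open scoped MatrixGroups Matrix Kronecker

variable {F : Type*} [Field F] {n : ℕ}

/-- The image of a subspace under an invertible matrix. -/
noncomputable def gmap (g : GL (Fin n) F) (W : Submodule F (Fin n → F)) : Submodule F (Fin n → F) :=
  W.map (Matrix.toLin' (g : Matrix (Fin n) (Fin n) F))

theorem mem_gmap {g : GL (Fin n) F} {W : Submodule F (Fin n → F)} {w : Fin n → F} :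
    w ∈ gmap g W ↔ ∃ v ∈ W, (g : Matrix (Fin n) (Fin n) F) *ᵥ v = w := by
  simp [gmap, Submodule.mem_map, Matrix.toLin'_apply]

theorem gmap_eq_map_glEquiv (g : GL (Fin n) F) (W : Submodule F (Fin n → F)) :
    gmap g W = W.map ((glEquiv g : (Fin n → F) ≃ₗ[F] (Fin n → F)) : (Fin n → F) →ₗ[F] (Fin n → F)) := by
  ext w
  rw [mem_gmap, Submodule.mem_map]
  simp only [LinearEquiv.coe_coe, glEquiv_apply]

theorem finrank_gmap (g : GL (Fin n) F) (W : Submodule F (Fin n → F)) :
    Module.finrank F (gmap g W) = Module.finrank F W := by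
  rw [gmap_eq_map_glEquiv]
  exact LinearEquiv.finrank_map_eq _ _

theorem gmap_mono (g : GL (Fin n) F) {W W' : Submodule F (Fin n → F)} (h : W ≤ W') :
    gmap g W ≤ gmap g W' := Submodule.map_mono h

theorem gmap_sup (g : GL (Fin n) F) (W W' : Submodule F (Fin n → F)) :
    gmap g (W ⊔ W') = gmap g W ⊔ gmap g W' := Submodule.map_sup _ _ _

theorem gmap_mul (g h : GL (Fin n) F) (W : Submodule F (Fin n → F)) :
    gmap (g * h) W = gmap g (gmap h W) := by
  rw [gmap, gmap, gmap, Units.val_mul, Matrix.toLin'_mul, Submodule.map_comp]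

theorem gmap_one (W : Submodule F (Fin n → F)) : gmap 1 W = W := by
  rw [gmap, Units.val_one, Matrix.toLin'_one]
  exact Submodule.map_id W

theorem gmap_inv_gmap (g : GL (Fin n) F) (W : Submodule F (Fin n → F)) :
    gmap g⁻¹ (gmap g W) = W := by rw [← gmap_mul, inv_mul_cancel, gmap_one]

theorem gmap_gmap_inv (g : GL (Fin n) F) (W : Submodule F (Fin n → F)) :
    gmap g (gmap g⁻¹ W) = W := by rw [← gmap_mul, mul_inv_cancel, gmap_one]

theorem gmap_le_gmap_iff (g : GL (Fin n) F) {W W' : Submodule F (Fin n → F)} :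
    gmap g W ≤ gmap g W' ↔ W ≤ W' := by
  constructor
  · intro h
    have := gmap_mono g⁻¹ h
    rwa [gmap_inv_gmap, gmap_inv_gmap] at this
  · exact gmap_mono g

theorem gmap_injective (g : GL (Fin n) F) : Function.Injective (gmap (F := F) (n := n) g) := by
  intro W W' h
  have := congrArg (gmap g⁻¹) h
  rwa [gmap_inv_gmap, gmap_inv_gmap] at this

section perp

variable {σ : F ≃+* F} {f : (Fin n → F) → (Fin n → F) → F} (hf : IsReflSesq σ f)

theorem gperp_anti {W W' : Submodule F (Fin n → F)} (h : W ≤ W') : gperp hf W' ≤ gperp hf W :=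
  fun _ hv w hw => hv w (h hw)

theorem le_gperp_sup {W W' U : Submodule F (Fin n → F)} (h1 : U ≤ gperp hf W)
    (h2 : U ≤ gperp hf W') : U ≤ gperp hf (W ⊔ W') := by
  intro v hv w hw
  obtain ⟨a, ha, b, hb, rfl⟩ := Submodule.mem_sup.mp hw
  rw [hf.add_right, h1 hv a ha, h2 hv b hb, add_zero]

theorem le_gperp_symm {W W' : Submodule F (Fin n → F)} (h : W ≤ gperp hf W') :
    W' ≤ gperp hf W := fun v hv w hw => hf.refl _ _ (h hw v hv)

theorem le_gperp_comm {W W' : Submodule F (Fin n → F)} : W ≤ gperp hf W' ↔ W' ≤ gperp hf W :=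
  ⟨le_gperp_symm hf, le_gperp_symm hf⟩

theorem gmap_le_gperp_gmap_iff {g : GL (Fin n) F} (hg : g ∈ isomGroup f)
    {W W' : Submodule F (Fin n → F)} :
    gmap g W ≤ gperp hf (gmap g W') ↔ W ≤ gperp hf W' := by
  constructor
  · intro h v hv w hw
    have := h (mem_gmap.mpr ⟨v, hv, rfl⟩) _ (mem_gmap.mpr ⟨w, hw, rfl⟩)
    rwa [mem_isomGroup.mp hg] at this
  · rintro h _ hv' _ hw'
    obtain ⟨v, hv, rfl⟩ := mem_gmap.mp hv'
    obtain ⟨w, hw, rfl⟩ := mem_gmap.mp hw'
    rw [mem_isomGroup.mp hg]
    exact h hv w hw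

theorem gperp_ne_top {W : Submodule F (Fin n → F)} (hW : W ≠ ⊥) : gperp hf W ≠ ⊤ := by
  intro h
  obtain ⟨w, hw, hw0⟩ := Submodule.exists_mem_ne_zero_of_ne_bot hW
  apply hw0
  apply hf.nondeg
  intro u
  have : u ∈ gperp hf W := by rw [h]; trivial
  exact this w hw

/-- If `W` meets the orthogonal of `c` trivially then `dim W ≤ dim c`. -/
theorem finrank_le_of_inf_gperp_eq_bot {W c : Submodule F (Fin n → F)}
    (h : W ⊓ gperp hf c = ⊥) : Module.finrank F W ≤ Module.finrank F c := by
  set m := Module.finrank F c with hm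
  let b : Module.Basis (Fin m) F c := Module.finBasis F c
  let Φ : (Fin n → F) →ₗ[F] (Fin m → F) := LinearMap.pi fun j => hf.linL (b j : Fin n → F)
  have hker : LinearMap.ker Φ ≤ gperp hf c := by
    intro v hv w hw
    have h1 : ∀ j, f v (b j : Fin n → F) = 0 := by
      intro j
      have := congrFun (LinearMap.mem_ker.mp hv) j
      simpa [Φ, IsReflSesq.linL] using this
    have h2 : (hf.linR v) ∘ₗ c.subtype = 0 := by
      apply b.ext
      intro j
      simp only [LinearMap.comp_apply, Submodule.subtype_apply, LinearMap.zero_apply,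
        IsReflSesq.linR, LinearMap.coe_mk, AddHom.coe_mk, h1 j, map_zero]
    have h3 := LinearMap.congr_fun h2 ⟨w, hw⟩
    simp only [LinearMap.comp_apply, Submodule.subtype_apply, LinearMap.zero_apply,
      IsReflSesq.linR, LinearMap.coe_mk, AddHom.coe_mk] at h3
    exact (RingEquiv.map_eq_zero_iff σ.symm).mp h3
  have hinj : Function.Injective (Φ.domRestrict W) := by
    rw [← LinearMap.ker_eq_bot, LinearMap.ker_eq_bot']
    intro v hv
    have h1 : (v : Fin n → F) ∈ W ⊓ gperp hf c :=
      ⟨v.2, hker (by simpa [LinearMap.mem_ker] using hv)⟩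
    rw [h] at h1
    exact Subtype.ext ((Submodule.mem_bot F).mp h1)
  have := LinearMap.finrank_le_finrank_of_injective hinj
  rwa [Module.finrank_fin_fun] at this

end perp

/-- In the lattice of subspaces, the sums of two disjoint subsets of an independent set are
disjoint. -/
theorem disjoint_sSup_sSup_of_sSupIndep {C X Y : Set (Submodule F (Fin n → F))}
    (hC : sSupIndep C) (hX : X ⊆ C) (hY : Y ⊆ C) (hXY : Disjoint X Y) :
    Disjoint (sSup X) (sSup Y) := by
  have h1 := (sSupIndep_iff C).mp hC
  have h2 := h1.disjoint_biSup_biSup (s := {i : C | (i : Submodule F (Fin n → F)) ∈ X})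
    (t := {i : C | (i : Submodule F (Fin n → F)) ∈ Y}) (by
      rw [Set.disjoint_left]
      intro i hi hi'
      exact Set.disjoint_left.mp hXY hi hi')
  have h3 : ∀ Z : Set (Submodule F (Fin n → F)), Z ⊆ C →
      (⨆ i ∈ {i : C | (i : Submodule F (Fin n → F)) ∈ Z}, (i : Submodule F (Fin n → F))) =
        sSup Z := by
    intro Z hZ
    apply le_antisymm
    · apply iSup₂_le
      intro i hi
      exact le_sSup hi
    · apply sSup_le
      intro z hz
      exact le_iSup₂ (f := fun (i : C) (_ : i ∈ {i : C | (i : Submodule F (Fin n → F)) ∈ Z}) =>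
        (i : Submodule F (Fin n → F))) ⟨z, hZ hz⟩ hz
  rwa [h3 X hX, h3 Y hY] at h2

end Cfsg.Agent.Lib.H8.Asch
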