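/-
Aschbacher projects: GENERIC "Clifford with a form", part c: the partner function on a system of
components and its properties.  (helper8)
-/
import Cfsg.Agent.Lib.H8.AschGM2b

set_option autoImplicit false
set_option linter.unusedSectionVars false

namespace Cfsg.Agent.Lib.H8.Asch

open Cfsg Cfsg.Geo Cfsg.Agent.Lib.Lead.Asch
open scoped MatrixGroups Matrix Kronecker

variable {F : Type*} [Field F] {n : ℕ}

/-- A system of components: a finite independent family `C` of non-zero subspaces with sum `⊤`,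
permuted transitively by a group `H` of isometries of `f`, the orthogonal of each member being the sum
of a subset of the family. -/
structure CompSys {σ : F ≃+* F} {f : (Fin n → F) → (Fin n → F) → F} (hf : IsReflSesq σ f)
    (H : Subgroup (GL (Fin n) F)) (C : Set (Submodule F (Fin n → F))) : Prop where
  isom : H ≤ isomGroup f
  fin : C.Finite
  indep : sSupIndep C
  top : sSup C = ⊤
  ne : ∀ c ∈ C, c ≠ ⊥
  perp : ∀ c ∈ C, ∃ s : Set (Submodule F (Fin n → F)), s ⊆ C ∧ gperp hf c = sSup s
  map : ∀ g ∈ H, ∀ c ∈ C, gmap g c ∈ C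
  trans : ∀ c ∈ C, ∀ c' ∈ C, ∃ g ∈ H, gmap g c = c'

namespace CompSys

variable {σ : F ≃+* F} {f : (Fin n → F) → (Fin n → F) → F} {hf : IsReflSesq σ f}
  {H : Subgroup (GL (Fin n) F)} {C : Set (Submodule F (Fin n → F))} (S : CompSys hf H C)

include S

theorem finrank_eq {c c' : Submodule F (Fin n → F)} (hc : c ∈ C) (hc' : c' ∈ C) :
    Module.finrank F c = Module.finrank F c' := by
  obtain ⟨g, _, rfl⟩ := S.trans c hc c' hc'
  exact (finrank_gmap g c).symm

theorem finrank_pos {c : Submodule F (Fin n → F)} (hc : c ∈ C) : 0 < Module.finrank F c := by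
  rw [Module.finrank_pos_iff]
  exact Submodule.nontrivial_iff_ne_bot.mpr (S.ne c hc)

/-- dichotomy: a member is inside the orthogonal of `c` or meets it trivially. -/
theorem le_or_inf_eq_bot {c d : Submodule F (Fin n → F)} (hc : c ∈ C) (hd : d ∈ C) :
    d ≤ gperp hf c ∨ d ⊓ gperp hf c = ⊥ := by
  obtain ⟨s, hs, hs2⟩ := S.perp c hc
  by_cases hds : d ∈ s
  · left
    rw [hs2]
    exact le_sSup hds
  · right
    rw [hs2]
    exact disjoint_iff.mp (S.indep.disjoint_sSup hd hs hds)

/-- two distinct members cannot both fail to be orthogonal to `c`. -/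
theorem eq_of_not_le_gperp {c d₁ d₂ : Submodule F (Fin n → F)} (hc : c ∈ C) (hd₁ : d₁ ∈ C)
    (hd₂ : d₂ ∈ C) (h1 : ¬ d₁ ≤ gperp hf c) (h2 : ¬ d₂ ≤ gperp hf c) : d₁ = d₂ := by
  by_contra hne
  obtain ⟨s, hs, hs2⟩ := S.perp c hc
  have hd₁s : d₁ ∉ s := fun h => h1 (by rw [hs2]; exact le_sSup h)
  have hd₂s : d₂ ∉ s := fun h => h2 (by rw [hs2]; exact le_sSup h)
  have hdisj : Disjoint (sSup ({d₁, d₂} : Set (Submodule F (Fin n → F)))) (sSup s) := by
    apply disjoint_sSup_sSup_of_sSupIndep S.indep _ hs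
    · rw [Set.disjoint_left]
      rintro x (rfl | rfl)
      · exact hd₁s
      · exact hd₂s
    · rintro x (rfl | rfl)
      · exact hd₁
      · exact hd₂
  rw [sSup_pair, ← hs2] at hdisj
  have h3 := finrank_le_of_inf_gperp_eq_bot hf (disjoint_iff.mp hdisj)
  have h4 : Disjoint d₁ d₂ := S.indep.pairwiseDisjoint hd₁ hd₂ hne
  have h5 := Submodule.finrank_sup_add_finrank_inf_eq d₁ d₂
  rw [disjoint_iff.mp h4, finrank_bot, add_zero] at h5
  have h6 := S.finrank_eq hd₁ hc
  have h7 := S.finrank_eq hd₂ hc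
  have h8 := S.finrank_pos hc
  omega

/-- some member is not orthogonal to `c`. -/
theorem exists_not_le_gperp {c : Submodule F (Fin n → F)} (hc : c ∈ C) :
    ∃ d ∈ C, ¬ d ≤ gperp hf c := by
  by_contra h
  push Not at h
  have : (⊤ : Submodule F (Fin n → F)) ≤ gperp hf c := by
    rw [← S.top]
    exact sSup_le h
  exact gperp_ne_top hf (S.ne c hc) (top_le_iff.mp this)

/-- The partner of a member `c`: the unique member not orthogonal to it. -/
noncomputable def partner (c : Submodule F (Fin n → F)) : Submodule F (Fin n → F) :=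
  open Classical in
  if hc : c ∈ C then (S.exists_not_le_gperp hc).choose else c

theorem partner_mem {c : Submodule F (Fin n → F)} (hc : c ∈ C) : S.partner c ∈ C := by
  rw [partner, dif_pos hc]
  exact (S.exists_not_le_gperp hc).choose_spec.1

theorem partner_not_le {c : Submodule F (Fin n → F)} (hc : c ∈ C) :
    ¬ S.partner c ≤ gperp hf c := by
  rw [partner, dif_pos hc]
  exact (S.exists_not_le_gperp hc).choose_spec.2

theorem eq_partner {c d : Submodule F (Fin n → F)} (hc : c ∈ C) (hd : d ∈ C)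
    (h : ¬ d ≤ gperp hf c) : d = S.partner c :=
  S.eq_of_not_le_gperp hc hd (S.partner_mem hc) h (S.partner_not_le hc)

theorem le_gperp_of_ne_partner {c d : Submodule F (Fin n → F)} (hc : c ∈ C) (hd : d ∈ C)
    (h : d ≠ S.partner c) : d ≤ gperp hf c := by
  by_contra h'
  exact h (S.eq_partner hc hd h')

theorem partner_inf_gperp {c : Submodule F (Fin n → F)} (hc : c ∈ C) :
    S.partner c ⊓ gperp hf c = ⊥ :=
  (S.le_or_inf_eq_bot hc (S.partner_mem hc)).resolve_left (S.partner_not_le hc)

theorem partner_partner {c : Submodule F (Fin n → F)} (hc : c ∈ C) :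
    S.partner (S.partner c) = c := by
  symm
  apply S.eq_partner (S.partner_mem hc) hc
  intro h
  exact S.partner_not_le hc (le_gperp_symm hf h)

theorem partner_gmap {g : GL (Fin n) F} (hg : g ∈ H) {c : Submodule F (Fin n → F)} (hc : c ∈ C) :
    S.partner (gmap g c) = gmap g (S.partner c) := by
  symm
  apply S.eq_partner (S.map g hg c hc) (S.map g hg _ (S.partner_mem hc))
  rw [gmap_le_gperp_gmap_iff hf (S.isom hg)]
  exact S.partner_not_le hc

/-- The block of a member: `c ⊔ partner c`. -/
noncomputable def block (c : Submodule F (Fin n → F)) : Submodule F (Fin n → F) :=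
  c ⊔ S.partner c

theorem le_block (c : Submodule F (Fin n → F)) : c ≤ S.block c := le_sup_left

theorem block_partner {c : Submodule F (Fin n → F)} (hc : c ∈ C) :
    S.block (S.partner c) = S.block c := by
  rw [block, block, S.partner_partner hc, sup_comm]

theorem block_gmap {g : GL (Fin n) F} (hg : g ∈ H) {c : Submodule F (Fin n → F)} (hc : c ∈ C) :
    S.block (gmap g c) = gmap g (S.block c) := by
  rw [block, block, S.partner_gmap hg hc, gmap_sup]

/-- The members outside the block of `c`. -/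
def rest (c : Submodule F (Fin n → F)) : Set (Submodule F (Fin n → F)) :=
  C \ {c, S.partner c}

theorem rest_subset (c : Submodule F (Fin n → F)) : S.rest c ⊆ C := Set.sdiff_subset

theorem block_eq_sSup (c : Submodule F (Fin n → F)) :
    S.block c = sSup ({c, S.partner c} : Set (Submodule F (Fin n → F))) := by
  rw [sSup_pair, block]

theorem disjoint_block_rest {c : Submodule F (Fin n → F)} (hc : c ∈ C) :
    Disjoint (S.block c) (sSup (S.rest c)) := by
  rw [S.block_eq_sSup]
  apply disjoint_sSup_sSup_of_sSupIndep S.indep _ (S.rest_subset c)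
  · rw [Set.disjoint_left]
    intro x hx hx'
    exact hx'.2 hx
  · rintro x (rfl | rfl)
    · exact hc
    · exact S.partner_mem hc

theorem block_sup_rest {c : Submodule F (Fin n → F)} (hc : c ∈ C) :
    S.block c ⊔ sSup (S.rest c) = ⊤ := by
  rw [eq_top_iff, ← S.top]
  apply sSup_le
  intro d hd
  by_cases h : d ∈ ({c, S.partner c} : Set (Submodule F (Fin n → F)))
  · rw [S.block_eq_sSup]
    exact le_sup_of_le_left (le_sSup h)
  · exact le_sup_of_le_right (le_sSup ⟨hd, h⟩)

theorem rest_le_gperp_block {c : Submodule F (Fin n → F)} (hc : c ∈ C) :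
    sSup (S.rest c) ≤ gperp hf (S.block c) := by
  apply sSup_le
  rintro d ⟨hd, hd'⟩
  simp only [Set.mem_insert_iff, Set.mem_singleton_iff, not_or] at hd'
  apply le_gperp_sup hf
  · exact S.le_gperp_of_ne_partner hc hd hd'.2
  · apply S.le_gperp_of_ne_partner (S.partner_mem hc) hd
    rw [S.partner_partner hc]
    exact hd'.1

/-- blocks are non-degenerate -/
theorem block_nondegenerate {c : Submodule F (Fin n → F)} (hc : c ∈ C) :
    IsNondegenerateOn f (S.block c) := by
  intro w hw hw0
  have key : ∀ v : Fin n → F, ∃ v₁ ∈ S.block c, ∃ v₂, f v₂ w = 0 ∧ f w v₂ = 0 ∧ v = v₁ + v₂ := by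
    intro v
    have hv : v ∈ S.block c ⊔ sSup (S.rest c) := by rw [S.block_sup_rest hc]; trivial
    obtain ⟨v₁, hv₁, v₂, hv₂, rfl⟩ := Submodule.mem_sup.mp hv
    have h0 := S.rest_le_gperp_block hc hv₂ w hw
    exact ⟨v₁, hv₁, v₂, h0, hf.refl _ _ h0, rfl⟩
  constructor
  · by_contra h
    push Not at h
    apply hw0
    apply hf.nondeg
    intro u
    obtain ⟨v₁, hv₁, v₂, h1, _, rfl⟩ := key u
    rw [hf.add_left, h v₁ hv₁, h1, add_zero]
  · by_contra h
    push Not at h
    apply hw0
    apply hf.nondeg_left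
    intro u
    obtain ⟨v₁, hv₁, v₂, _, h2, rfl⟩ := key u
    rw [hf.add_right, h v₁ hv₁, h2, add_zero]

/-- a member is in the rest of `c` iff its block differs from the block of `c` -/
theorem mem_rest_of_block_ne {c d : Submodule F (Fin n → F)} (hc : c ∈ C) (hd : d ∈ C)
    (h : S.block d ≠ S.block c) : d ∈ S.rest c := by
  refine ⟨hd, ?_⟩
  rintro (rfl | rfl)
  · exact h rfl
  · exact h (S.block_partner hc)

theorem block_le_rest {c d : Submodule F (Fin n → F)} (hc : c ∈ C) (hd : d ∈ C)
    (h : S.block d ≠ S.block c) : S.block d ≤ sSup (S.rest c) := by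
  apply sup_le
  · exact le_sSup (S.mem_rest_of_block_ne hc hd h)
  · apply le_sSup
    apply S.mem_rest_of_block_ne hc (S.partner_mem hd)
    rwa [S.block_partner hd]

/-- distinct blocks are orthogonal -/
theorem block_orthogonal {c d : Submodule F (Fin n → F)} (hc : c ∈ C) (hd : d ∈ C)
    (h : S.block c ≠ S.block d) : AreOrthogonalFor f (S.block c) (S.block d) := by
  intro u hu v hv
  have h1 := S.rest_le_gperp_block hc (S.block_le_rest hc hd h.symm hv) u hu
  exact hf.refl _ _ h1

/-- The set of blocks. -/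
def blocks : Set (Submodule F (Fin n → F)) := S.block '' C

theorem blocks_finite : S.blocks.Finite := S.fin.image _

theorem sSup_blocks : sSup S.blocks = ⊤ := by
  rw [eq_top_iff, ← S.top]
  apply sSup_le
  intro c hc
  exact (S.le_block c).trans (le_sSup ⟨c, hc, rfl⟩)

theorem sSupIndep_blocks : sSupIndep S.blocks := by
  rintro _ ⟨c, hc, rfl⟩
  apply (S.disjoint_block_rest hc).mono_right
  apply sSup_le
  rintro _ ⟨⟨d, hd, rfl⟩, hne⟩
  exact S.block_le_rest hc hd hne

theorem block_ne_bot {c : Submodule F (Fin n → F)} (hc : c ∈ C) : S.block c ≠ ⊥ := by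
  intro h
  exact S.ne c hc (le_bot_iff.mp (h ▸ S.le_block c))

theorem gmap_mem_blocks {g : GL (Fin n) F} (hg : g ∈ H) {b : Submodule F (Fin n → F)}
    (hb : b ∈ S.blocks) : gmap g b ∈ S.blocks := by
  obtain ⟨c, hc, rfl⟩ := hb
  exact ⟨gmap g c, S.map g hg c hc, S.block_gmap hg hc⟩

theorem blocks_trans {b b' : Submodule F (Fin n → F)} (hb : b ∈ S.blocks) (hb' : b' ∈ S.blocks) :
    ∃ g ∈ H, gmap g b = b' := by
  obtain ⟨c, hc, rfl⟩ := hb
  obtain ⟨c', hc', rfl⟩ := hb'
  obtain ⟨g, hg, rfl⟩ := S.trans c hc c' hc'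
  exact ⟨g, hg, (S.block_gmap hg hc).symm⟩

theorem finrank_blocks {b b' : Submodule F (Fin n → F)} (hb : b ∈ S.blocks) (hb' : b' ∈ S.blocks) :
    Module.finrank F b = Module.finrank F b' := by
  obtain ⟨g, _, rfl⟩ := S.blocks_trans hb hb'
  exact (finrank_gmap g b).symm

end CompSys

end Cfsg.Agent.Lib.H8.Asch
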