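/-
Aschbacher projects: GENERIC "Clifford with a form", part d: a system of components with at least
two members gives a non-degenerate orthogonal decomposition permuted transitively by `H`, or a pair of
complementary totally singular subspaces permuted by `H`.  (helper8)
-/
import Cfsg.Agent.Lib.H8.AschGM2c

set_option autoImplicit false
set_option linter.unusedSectionVars false

namespace Cfsg.Agent.Lib.H8.Asch

open Cfsg Cfsg.Geo Cfsg.Agent.Lib.Lead.Asch
open scoped MatrixGroups Matrix Kronecker

variable {F : Type*} [Field F] {n : ℕ}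

/-- A finite independent set `B` of subspaces of constant dimension `k > 0` with sum `⊤` and at least
two members, permuted by `H`: its enumeration is a `k`-decomposition stabilised by `H`. -/
theorem exists_decomposition_of_set (H : Subgroup (GL (Fin n) F))
    (B : Set (Submodule F (Fin n → F))) (hfin : B.Finite) (hindep : sSupIndep B)
    (htop : sSup B = ⊤) (hnt : B.Nontrivial) (k : ℕ) (hk : 0 < k)
    (hrank : ∀ b ∈ B, Module.finrank F b = k)
    (hmap : ∀ g ∈ H, ∀ b ∈ B, gmap g b ∈ B) :
    ∃ (t : ℕ) (D : Fin t → Submodule F (Fin n → F)), IsMDecomposition k D ∧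
      H ≤ decompositionStabilizer D ∧ (∀ i, D i ∈ B) ∧ (∀ b ∈ B, ∃ i, D i = b) ∧
      Function.Injective D := by
  classical
  haveI : Finite B := hfin
  set t := Nat.card B with ht
  let e : Fin t ≃ B := (Finite.equivFin _).symm
  refine ⟨t, fun i => (e i).1, ⟨?_, hk, fun i => hrank _ (e i).2, ?_, ?_⟩, ?_, fun i => (e i).2,
    fun b hb => ⟨e.symm ⟨b, hb⟩, by simp⟩, fun i j hij => e.injective (Subtype.ext hij)⟩
  · haveI : Nontrivial B := Set.nontrivial_coe_sort.mpr hnt
    exact Finite.one_lt_card_iff_nontrivial.mpr this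
  · have := (sSupIndep_iff _).mp hindep
    exact this.comp e.injective
  · rw [← htop, sSup_eq_iSup']
    exact e.iSup_comp (g := fun x : B => (x : Submodule F (Fin n → F)))
  · intro g hg
    -- the permutation of `B` induced by `g`
    let π : Equiv.Perm B :=
      { toFun := fun b => ⟨gmap g b.1, hmap g hg _ b.2⟩
        invFun := fun b => ⟨gmap g⁻¹ b.1, hmap g⁻¹ (H.inv_mem hg) _ b.2⟩
        left_inv := fun b => Subtype.ext (gmap_inv_gmap g b.1)
        right_inv := fun b => Subtype.ext (gmap_gmap_inv g b.1) }
    refine ⟨(e.trans π).trans e.symm, fun i => ?_⟩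
    simp only [Equiv.trans_apply, Equiv.apply_symm_apply]
    rfl

namespace CompSys

variable {σ : F ≃+* F} {f : (Fin n → F) → (Fin n → F) → F} {hf : IsReflSesq σ f}
  {H : Subgroup (GL (Fin n) F)} {C : Set (Submodule F (Fin n → F))} (S : CompSys hf H C)

include S

/-- **Generic Clifford with a form, the combinatorial core.** -/
theorem decomposition (hC : C.Nontrivial) :
    (∃ (t k : ℕ) (D : Fin t → Submodule F (Fin n → F)), IsNondegenerateMDecomposition f k D ∧
      H ≤ decompositionStabilizer D ∧ ∀ i j, ∃ g ∈ H, gmap g (D i) = D j) ∨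
    (∃ (k : ℕ) (D : Fin 2 → Submodule F (Fin n → F)), 2 * k = n ∧ IsMDecomposition k D ∧
      (∀ i, IsTotallySingularFor f (D i)) ∧ H ≤ decompositionStabilizer D) := by
  classical
  obtain ⟨c₀, hc₀⟩ := hC.nonempty
  by_cases hB : S.blocks.Nontrivial
  · -- at least two blocks
    left
    have hb₀ : S.block c₀ ∈ S.blocks := ⟨c₀, hc₀, rfl⟩
    set k := Module.finrank F (S.block c₀) with hk
    have hkpos : 0 < k := by
      rw [hk, Module.finrank_pos_iff]
      exact Submodule.nontrivial_iff_ne_bot.mpr (S.block_ne_bot hc₀)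
    obtain ⟨t, D, hD, hstab, hmem, hsurj, hinj⟩ := exists_decomposition_of_set H S.blocks
      S.blocks_finite S.sSupIndep_blocks S.sSup_blocks hB k hkpos
      (fun b hb => S.finrank_blocks hb hb₀) (fun g hg b hb => S.gmap_mem_blocks hg hb)
    refine ⟨t, k, D, ⟨hD, ?_, ?_⟩, hstab, fun i j => S.blocks_trans (hmem i) (hmem j)⟩
    · intro i
      obtain ⟨c, hc, hcb⟩ := hmem i
      rw [← hcb]
      exact S.block_nondegenerate hc
    · intro i j hij
      obtain ⟨c, hc, hcb⟩ := hmem i
      obtain ⟨d, hd, hdb⟩ := hmem j
      rw [← hcb, ← hdb]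
      apply S.block_orthogonal hc hd
      rw [hcb, hdb]
      exact fun h => hij (hinj h)
  · -- a single block: `C = {c₀, partner c₀}`
    right
    rw [Set.not_nontrivial_iff] at hB
    have hb₀ : S.block c₀ ∈ S.blocks := ⟨c₀, hc₀, rfl⟩
    have hB1 : S.blocks = {S.block c₀} := hB.eq_singleton_of_mem hb₀
    have htop : S.block c₀ = ⊤ := by
      have := S.sSup_blocks
      rwa [hB1, sSup_singleton] at this
    set p := S.partner c₀ with hp
    have hpC : p ∈ C := S.partner_mem hc₀
    have hCsub : ∀ d ∈ C, d = c₀ ∨ d = p := by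
      intro d hd
      by_contra h
      push Not at h
      have hd' : d ∈ S.rest c₀ := ⟨hd, by
        rintro (rfl | rfl)
        · exact h.1 rfl
        · exact h.2 rfl⟩
      have h1 := S.disjoint_block_rest hc₀
      rw [htop, top_disjoint] at h1
      have h2 : d ≤ sSup (S.rest c₀) := le_sSup hd'
      rw [h1] at h2
      exact S.ne d hd (le_bot_iff.mp h2)
    have hne : c₀ ≠ p := by
      obtain ⟨x, hx, y, hy, hxy⟩ := hC
      intro h
      apply hxy
      rcases hCsub x hx with rfl | rfl <;> rcases hCsub y hy with rfl | rfl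
      · rfl
      · exact h
      · exact h.symm
      · rfl
    have hdisj : Disjoint c₀ p := S.indep.pairwiseDisjoint hc₀ hpC hne
    have hsup : c₀ ⊔ p = ⊤ := htop
    set k := Module.finrank F c₀ with hk
    have hkp : Module.finrank F p = k := S.finrank_eq hpC hc₀
    have h2k : 2 * k = n := by
      have h5 := Submodule.finrank_sup_add_finrank_inf_eq c₀ p
      rw [disjoint_iff.mp hdisj, finrank_bot, add_zero, hsup, finrank_top, Module.finrank_fin_fun,
        hkp] at h5
      omega
    have hts : ∀ d ∈ C, IsTotallySingularFor f d := by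
      intro d hd u hu v hv
      have hdp : d ≠ S.partner d := by
        rcases hCsub d hd with rfl | rfl
        · exact hne
        · rw [hp, S.partner_partner hc₀]
          exact hne.symm
      exact S.le_gperp_of_ne_partner hd hd hdp hu v hv
    refine ⟨k, ![c₀, p], h2k, ⟨le_refl _, S.finrank_pos hc₀, ?_, ?_, ?_⟩, ?_, ?_⟩
    · intro i
      fin_cases i
      · rfl
      · exact hkp
    · rw [iSupIndep_pair (i := (0 : Fin 2)) (j := 1) (by decide) (by
        intro i; fin_cases i <;> simp)]
      exact hdisj
    · rw [eq_top_iff, ← hsup]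
      apply sup_le
      · exact le_iSup (fun i => (![c₀, p] : Fin 2 → Submodule F (Fin n → F)) i) 0
      · exact le_iSup (fun i => (![c₀, p] : Fin 2 → Submodule F (Fin n → F)) i) 1
    · intro i
      fin_cases i
      · exact hts c₀ hc₀
      · exact hts p hpC
    · intro g hg
      rcases hCsub _ (S.map g hg c₀ hc₀) with h | h
      · refine ⟨Equiv.refl _, fun i => ?_⟩
        fin_cases i
        · exact h
        · show gmap g p = p
          rw [hp, ← S.partner_gmap hg hc₀, h]
      · refine ⟨Equiv.swap 0 1, fun i => ?_⟩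
        fin_cases i
        · exact h
        · show gmap g p = c₀
          rw [hp, ← S.partner_gmap hg hc₀, h, hp, S.partner_partner hc₀]

end CompSys

end Cfsg.Agent.Lib.H8.Asch
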