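/-
S5630 project (Aschbacher, linear case), module M2 (Clifford): an irreducible group in no geometric
class restricts homogeneously to every subgroup it normalises.  (helper8; final step M2-E by helper22)
-/
import Cfsg.Agent.Lib.H8.AschM2c
import Cfsg.Agent.Lib.H22.AschM2E

set_option autoImplicit false

namespace Cfsg.Agent.Lib.H8.Asch

open Cfsg Cfsg.Geo Cfsg.Agent.Lib.Lead.Asch
open scoped MatrixGroups Matrix Kronecker

variable {F : Type*} [Field F] [Fintype F] {n : ℕ}

/-- **M2** (Clifford; C2). An irreducible `H` not in any geometric class (in particular primitive)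
restricts homogeneously to every subgroup it normalises. -/
theorem exists_homogData (hn : 0 < n) (H N : Subgroup (GL (Fin n) F))
    (hirr : ActsIrreducibly (matrixSet H)) (hnt : ¬ STame H) (_hNH : N ≤ H)
    (hnorm : NormalizedBy H N) : Nonempty (HomogData N) := by
  haveI := isSemisimpleModule_of_irreducible N hn hirr hnorm
  obtain ⟨S, hS, hiso⟩ := exists_isotypic N hnorm hn hirr (fun h => hnt (Or.inr (Or.inl h)))
  exact Cfsg.Agent.Lib.H22.Asch.homogData_of_isotypic N S hiso

end Cfsg.Agent.Lib.H8.Asch
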