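/-
Symplectic Phase 2 (helper9's SP2 project), stretch task SP2-S3: `Sp_2m(q)`, `q` odd, lies in no
tensor-wreath subgroup (`k, t ≥ 2`).  A symplectic transvection with centre `P ((E α + E β) ∘ e)`
(`α, β` differing in two slots) maps a basis tensor to `P ((E γ + E α + E β) ∘ e)`, which is not
pure.  (helper8)
-/
import Cfsg.Agent.Lib.H8.AschO2B6
import Cfsg.Agent.Lib.H11.SubspMax2
import Cfsg.Agent.Lib.H11.SimMax5

set_option autoImplicit false
set_option linter.unusedSectionVars false

namespace Cfsg.Agent.Lib.H8.AschSP2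

open Cfsg Cfsg.Geo Cfsg.Agent.Lib.H20.AschP2 Cfsg.Agent.Lib.H8.OP2
open scoped MatrixGroups Matrix Kronecker

variable {F : Type*} [Field F]

theorem pureVec_single {k t : ℕ} (γ : Fin t → Fin k) :
    PureVec k t (Pi.single γ (1 : F) : (Fin t → Fin k) → F) := by
  classical
  refine ⟨fun i => (Pi.single (γ i) (1 : F) : Fin k → F), fun x => ?_⟩
  by_cases hx : x = γ
  · subst hx; simp
  · rw [Pi.single_apply, if_neg hx]
    obtain ⟨i, hi'⟩ : ∃ i, x i ≠ γ i := by
      by_contra hcon
      push Not at hcon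
      exact hx (funext hcon)
    symm
    apply Finset.prod_eq_zero (Finset.mem_univ i)
    show (Pi.single (γ i) (1 : F) : Fin k → F) (x i) = 0
    rw [Pi.single_apply, if_neg hi']

/-- `E γ + E α + E β` is not pure when `α, β` differ in two slots (`2 ≠ 0`). -/
theorem not_pureVec_three (h2 : (2 : F) ≠ 0) {k t : ℕ} (γ α β : Fin t → Fin k) (i₀ i₁ : Fin t)
    (hi : i₀ ≠ i₁) (h0 : α i₀ ≠ β i₀) (h1 : α i₁ ≠ β i₁) :
    ¬ PureVec k t ((Pi.single γ (1 : F) + Pi.single α (1 : F) + Pi.single β (1 : F) :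
      (Fin t → Fin k) → F)) := by
  classical
  intro hW
  have hsw := pureVec_swap _ hW i₀ α β
  set z : Fin t → Fin k := Function.update α i₀ (β i₀) with hz
  set z' : Fin t → Fin k := Function.update β i₀ (α i₀) with hz'
  have hαβ : α ≠ β := fun h => h0 (congrFun h i₀)
  have hzα : z ≠ α := by
    intro h; apply h0; have := congrFun h i₀; simp [hz] at this; exact this.symm
  have hzβ : z ≠ β := by
    intro h; apply h1; have := congrFun h i₁; simp [hz, hi.symm] at this; exact this
  have hz'α : z' ≠ α := by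
    intro h; apply h1; have := congrFun h i₁; simp [hz', hi.symm] at this; exact this.symm
  have hz'β : z' ≠ β := by
    intro h; apply h0; have := congrFun h i₀; simp [hz'] at this; exact this
  have hzz' : z ≠ z' := by
    intro h; apply h0; have := congrFun h i₀; simp [hz, hz'] at this; exact this.symm
  simp only [Pi.add_apply, Pi.single_apply, hαβ, hαβ.symm, hzα, hzβ, hz'α, hz'β, if_true,
    if_false, add_zero] at hsw
  -- the right-hand side vanishes
  have hr : (if z = γ then (1 : F) else 0) * (if z' = γ then (1 : F) else 0) = 0 := by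
    by_cases h : z = γ
    · have : z' ≠ γ := fun h' => hzz' (h.trans h'.symm)
      rw [if_neg this, mul_zero]
    · rw [if_neg h, zero_mul]
  rw [hr] at hsw
  have hne : ∀ δ : Fin t → Fin k, (if δ = γ then (1 : F) else 0) + 1 ≠ 0 := by
    intro δ
    by_cases h : δ = γ
    · rw [if_pos h]
      have : (1 : F) + 1 = 2 := by norm_num
      rw [this]
      exact h2
    · rw [if_neg h, zero_add]
      exact one_ne_zero
  rcases mul_eq_zero.1 hsw with h | h
  · exact hne α h
  · exact hne β h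

variable [Fintype F] {m : ℕ}

/-- **SP2-S3**. -/
theorem not_sp_le_tensorWreathSubgroup (hm : 1 ≤ m) (hodd : Odd (Fintype.card F)) (k t : ℕ)
    (e : Fin m ⊕ Fin m ≃ (Fin t → Fin k)) (P : GL (Fin m ⊕ Fin m) F) (hk : 2 ≤ k) (ht : 2 ≤ t) :
    ¬ spGL m F ≤ tensorWreathSubgroup k t e P := by
  classical
  intro hle
  have h2 : (2 : F) ≠ 0 := Cfsg.Agent.Lib.H24.Asch.two_ne_zero_of_odd hodd
  have hf := Cfsg.Agent.Lib.H11.SimMax.sympForm_isSymplectic F m
  set i₀ : Fin t := ⟨0, by omega⟩ with hi₀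
  set i₁ : Fin t := ⟨1, by omega⟩ with hi₁
  have hi : i₀ ≠ i₁ := by simp [hi₀, hi₁, Fin.ext_iff]
  set c0 : Fin k := ⟨0, by omega⟩ with hc0
  set c1 : Fin k := ⟨1, by omega⟩ with hc1
  have hc : c0 ≠ c1 := by simp [hc0, hc1, Fin.ext_iff]
  set α : Fin t → Fin k := fun _ => c0 with hα
  set β : Fin t → Fin k := fun _ => c1 with hβ
  have hαβ : α ≠ β := fun h => hc (congrFun h i₀)
  set U : (Fin t → Fin k) → F := Pi.single α 1 + Pi.single β 1 with hU
  set u : Fin m ⊕ Fin m → F := (P : Matrix _ _ F) *ᵥ (U ∘ e) with hu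
  have hU0 : U ≠ 0 := by
    intro h
    have := congrFun h α
    simp [hU, hαβ] at this
  have hu0 : u ≠ 0 := by
    intro h
    apply hU0
    have h0 : U ∘ e = 0 :=
      mulVec_GL_injective P _ 0 (by rw [Matrix.mulVec_zero]; exact h)
    exact comp_equiv_injective e U 0 (by rw [h0]; rfl)
  -- a basis tensor not orthogonal to `u`
  obtain ⟨γ, hγ⟩ : ∃ γ : Fin t → Fin k,
      sympForm m F ((P : Matrix _ _ F) *ᵥ ((Pi.single γ (1 : F) : (Fin t → Fin k) → F) ∘ e)) u ≠ 0 := by
    by_contra hcon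
    push Not at hcon
    obtain ⟨x, hx⟩ := (hf.nondegenerate u hu0).1
    apply hx
    -- the linear functional `X ↦ f (P (X ∘ e)) u`
    let L : ((Fin t → Fin k) → F) →ₗ[F] F :=
      { toFun := fun X => sympForm m F ((P : Matrix _ _ F) *ᵥ (X ∘ e)) u
        map_add' := fun X Y => by
          have : (X + Y) ∘ e = X ∘ e + Y ∘ e := rfl
          rw [this, Matrix.mulVec_add, hf.bilinear.add_left]
        map_smul' := fun a X => by
          have : (a • X) ∘ e = a • (X ∘ e) := rfl
          rw [this, Matrix.mulVec_smul, hf.bilinear.smul_left]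
          rfl }
    have hL : L = 0 := by
      apply LinearMap.pi_ext
      intro γ a
      have : (Pi.single γ a : (Fin t → Fin k) → F) = a • Pi.single γ (1 : F) := by
        rw [← Pi.single_smul, smul_eq_mul, mul_one]
      rw [this, map_smul, LinearMap.zero_apply]
      show a • sympForm m F ((P : Matrix _ _ F) *ᵥ ((Pi.single γ (1 : F) : (Fin t → Fin k) → F) ∘ e)) u = 0
      rw [hcon γ, smul_zero]
    set X : (Fin t → Fin k) → F := (((P⁻¹ : GL (Fin m ⊕ Fin m) F) : Matrix _ _ F) *ᵥ x) ∘ e.symm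
      with hX
    have hxX : x = (P : Matrix _ _ F) *ᵥ (X ∘ e) := by
      have : X ∘ e = ((P⁻¹ : GL (Fin m ⊕ Fin m) F) : Matrix _ _ F) *ᵥ x := by
        funext i
        simp [hX]
      rw [this, Matrix.mulVec_mulVec, ← Units.val_mul, mul_inv_cancel, Units.val_one,
        Matrix.one_mulVec]
    have := congrArg (fun l : ((Fin t → Fin k) → F) →ₗ[F] F => l X) hL
    simp only [LinearMap.zero_apply] at this
    rw [hxX]
    exact this
  set x : Fin m ⊕ Fin m → F :=
    (P : Matrix _ _ F) *ᵥ ((Pi.single γ (1 : F) : (Fin t → Fin k) → F) ∘ e) with hx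
  set b : F := sympForm m F x u with hb
  -- the transvection
  set g := Cfsg.Agent.Lib.H11.SubspMax.stv u b⁻¹ with hg
  have hgmem : g ∈ spGL m F := Cfsg.Agent.Lib.H11.SubspMax.stv_mem_spGL u b⁻¹
  have hgx : (g : Matrix (Fin m ⊕ Fin m) (Fin m ⊕ Fin m) F) *ᵥ x =
      ((P : GL (Fin m ⊕ Fin m) F) : Matrix (Fin m ⊕ Fin m) (Fin m ⊕ Fin m) F) *ᵥ
      ((Pi.single γ (1 : F) + Pi.single α (1 : F) + Pi.single β (1 : F) :
        (Fin t → Fin k) → F) ∘ e) := by
    rw [hg, Cfsg.Agent.Lib.H11.SubspMax.stv_mulVec, ← hb, inv_mul_cancel₀ hγ, one_smul, hx, hu,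
      ← Matrix.mulVec_add, hU]
    congr 1
    funext i
    simp only [Function.comp_apply, Pi.add_apply]
    ring
  obtain ⟨w', hw', hgw'⟩ := mulVec_pure_of_mem_tensorWreath e P g (hle hgmem)
    (Pi.single γ (1 : F)) (pureVec_single γ)
  rw [← hx, hgx] at hgw'
  have h1 := comp_equiv_injective e _ _ (mulVec_GL_injective P _ _ hgw')
  apply not_pureVec_three h2 γ α β i₀ i₁ hi hc hc
  rw [h1]
  exact hw'

end Cfsg.Agent.Lib.H8.AschSP2
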