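/-
S5663 project (Aschbacher, unitary case), module UM2 (Clifford with a form), part a:
the adjoint for the hermitian form, and the orthogonal of an isotypic component is a sum of
isotypic components.  (helper8)
-/
import Cfsg.Agent.Lib.H8.AschM2c
import Cfsg.Agent.Lib.H8.AschUM2Defs
import Cfsg.Agent.Lib.H4.Herm

set_option autoImplicit false
set_option linter.unusedSectionVars false

namespace Cfsg.Agent.Lib.H8.Asch

open Cfsg Cfsg.Geo Cfsg.Agent.Lib.Lead.Asch Cfsg.Agent.Lib.H4
open scoped MatrixGroups Matrix Kronecker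

variable {F : Type*} [Field F] [Fintype F] {n q : ℕ}

/-- The adjoint of a matrix for `hermForm n F q` (when `|F| = q ^ 2`): `(M^(q))ᵀ`. -/
def adjM (q : ℕ) (M : Matrix (Fin n) (Fin n) F) : Matrix (Fin n) (Fin n) F :=
  (M.map (fun a => a ^ q))ᵀ

theorem hermForm_mulVec_left (hF : Fintype.card F = q ^ 2) (M : Matrix (Fin n) (Fin n) F)
    (u v : Fin n → F) :
    hermForm n F q (M *ᵥ u) v = hermForm n F q u (adjM q M *ᵥ v) := by
  obtain ⟨φ, hφ, hφ2⟩ := exists_frob hF
  simp only [hermForm, adjM, Matrix.mulVec, dotProduct, Matrix.transpose_apply, Matrix.map_apply,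
    ← hφ, map_sum, map_mul, hφ2]
  simp only [Finset.sum_mul, Finset.mul_sum]
  rw [Finset.sum_comm]
  refine Finset.sum_congr rfl fun i _ => Finset.sum_congr rfl fun j _ => by ring

theorem hermForm_sub_right' (hF : Fintype.card F = q ^ 2) (u v v' : Fin n → F) :
    hermForm n F q u (v - v') = hermForm n F q u v - hermForm n F q u v' := by
  have := hermForm_add_right n hF u (v - v') v'
  rw [sub_add_cancel] at this
  rw [this, add_sub_cancel_right]

/-- Non-degeneracy: a vector right-orthogonal to everything is zero. -/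
theorem eq_zero_of_hermForm_right (hF : Fintype.card F = q ^ 2) (w : Fin n → F)
    (h : ∀ u, hermForm n F q u w = 0) : w = 0 := by
  have hq0 : q ≠ 0 := by
    rintro rfl
    have : 0 < Fintype.card F := Fintype.card_pos
    omega
  funext i
  have := h (Pi.single i 1)
  simp only [hermForm, Pi.single_apply, ite_mul, one_mul, zero_mul, Finset.sum_ite_eq',
    Finset.mem_univ, if_true] at this
  exact pow_eq_zero_iff hq0 |>.mp this

/-- Non-degeneracy: a vector left-orthogonal to everything is zero. -/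
theorem eq_zero_of_hermForm_left (hF : Fintype.card F = q ^ 2) (w : Fin n → F)
    (h : ∀ u, hermForm n F q w u = 0) : w = 0 := by
  apply eq_zero_of_hermForm_right hF
  intro u
  rw [← hermForm_conj n hF, h u]
  have hq0 : q ≠ 0 := by
    rintro rfl
    have : 0 < Fintype.card F := Fintype.card_pos
    omega
  exact zero_pow hq0

theorem hermForm_gu {g : GL (Fin n) F} (hg : g ∈ GU n F q) (u v : Fin n → F) :
    hermForm n F q ((g : Matrix (Fin n) (Fin n) F) *ᵥ u) ((g : Matrix (Fin n) (Fin n) F) *ᵥ v) =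
      hermForm n F q u v := hg u v

theorem hermForm_gu_left {g : GL (Fin n) F} (hg : g ∈ GU n F q) (u v : Fin n → F) :
    hermForm n F q ((g : Matrix (Fin n) (Fin n) F) *ᵥ u) v =
      hermForm n F q u (((g⁻¹ : GL (Fin n) F) : Matrix (Fin n) (Fin n) F) *ᵥ v) := by
  have h1 := hermForm_gu hg u (((g⁻¹ : GL (Fin n) F) : Matrix (Fin n) (Fin n) F) *ᵥ v)
  rw [Matrix.mulVec_mulVec, ← Units.val_mul, mul_inv_cancel, Units.val_one, Matrix.one_mulVec] at h1
  exact h1

theorem hermForm_gu_right {g : GL (Fin n) F} (hg : g ∈ GU n F q) (u v : Fin n → F) :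
    hermForm n F q u ((g : Matrix (Fin n) (Fin n) F) *ᵥ v) =
      hermForm n F q (((g⁻¹ : GL (Fin n) F) : Matrix (Fin n) (Fin n) F) *ᵥ u) v := by
  have h1 := hermForm_gu hg (((g⁻¹ : GL (Fin n) F) : Matrix (Fin n) (Fin n) F) *ᵥ u) v
  rw [Matrix.mulVec_mulVec, ← Units.val_mul, mul_inv_cancel, Units.val_one, Matrix.one_mulVec] at h1
  exact h1

/-- The adjoint of a matrix commuting with a subgroup of `GU` commutes with it. -/
theorem adjM_commute (hF : Fintype.card F = q ^ 2) (N : Subgroup (GL (Fin n) F))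
    (hN : N ≤ GU n F q) (M : Matrix (Fin n) (Fin n) F)
    (hM : ∀ x ∈ N, (x : Matrix (Fin n) (Fin n) F) * M = M * (x : Matrix (Fin n) (Fin n) F))
    {x : GL (Fin n) F} (hx : x ∈ N) :
    (x : Matrix (Fin n) (Fin n) F) * adjM q M = adjM q M * (x : Matrix (Fin n) (Fin n) F) := by
  apply Matrix.toLin'.injective
  apply LinearMap.ext
  intro v
  rw [Matrix.toLin'_apply, Matrix.toLin'_apply, ← sub_eq_zero]
  apply eq_zero_of_hermForm_right hF
  intro u
  have hxi : x⁻¹ ∈ N := N.inv_mem hx
  rw [hermForm_sub_right' hF, sub_eq_zero, ← Matrix.mulVec_mulVec, ← Matrix.mulVec_mulVec,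
    hermForm_gu_right (hN hx), ← hermForm_mulVec_left hF, ← hermForm_mulVec_left hF,
    Matrix.mulVec_mulVec, ← hM _ hxi, ← Matrix.mulVec_mulVec, hermForm_gu_left (hN hxi), inv_inv]

variable (N : Subgroup (GL (Fin n) F))

/-- A matrix commuting with `N` gives an `nAlg N`-linear endomorphism. -/
noncomputable def endOfCommuteMat (M : Matrix (Fin n) (Fin n) F)
    (hM : ∀ x ∈ N, (x : Matrix (Fin n) (Fin n) F) * M = M * (x : Matrix (Fin n) (Fin n) F)) :
    (Fin n → F) →ₗ[nAlg N] (Fin n → F) where
  toFun v := M *ᵥ v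
  map_add' := by intro v w; exact Matrix.mulVec_add _ _ _
  map_smul' := by
    intro a v
    simp only [RingHom.id_apply]
    have hle : nAlg N ≤ Subalgebra.centralizer F {Matrix.toLin' M} := by
      apply Algebra.adjoin_le
      rintro _ ⟨x, hx, rfl⟩
      rw [SetLike.mem_coe, Subalgebra.mem_centralizer_iff]
      intro g hg
      rw [Set.mem_singleton_iff] at hg
      subst hg
      show Matrix.toLin' M * Matrix.toLin' (x : Matrix (Fin n) (Fin n) F) =
        Matrix.toLin' (x : Matrix (Fin n) (Fin n) F) * Matrix.toLin' M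
      rw [Module.End.mul_eq_comp, Module.End.mul_eq_comp, ← Matrix.toLin'_mul, ← Matrix.toLin'_mul,
        hM x hx]
    have h1 := hle a.2
    rw [Subalgebra.mem_centralizer_iff] at h1
    have h2 := LinearMap.congr_fun (h1 _ (Set.mem_singleton _)) v
    simp only [Module.End.mul_apply, Matrix.toLin'_apply] at h2
    rw [nAlg_smul_def, nAlg_smul_def]
    exact h2

theorem endOfCommuteMat_apply (M : Matrix (Fin n) (Fin n) F)
    (hM : ∀ x ∈ N, (x : Matrix (Fin n) (Fin n) F) * M = M * (x : Matrix (Fin n) (Fin n) F))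
    (v : Fin n → F) : endOfCommuteMat N M hM v = M *ᵥ v := rfl

/-- The matrix of an `nAlg N`-linear endomorphism commutes with `N`. -/
theorem toMatrix'_commute (φ : (Fin n → F) →ₗ[nAlg N] (Fin n → F)) {x : GL (Fin n) F}
    (hx : x ∈ N) :
    (x : Matrix (Fin n) (Fin n) F) * LinearMap.toMatrix' (φ.restrictScalars F) =
      LinearMap.toMatrix' (φ.restrictScalars F) * (x : Matrix (Fin n) (Fin n) F) := by
  apply Matrix.toLin'.injective
  apply LinearMap.ext
  intro v
  rw [Matrix.toLin'_mul, Matrix.toLin'_mul, Matrix.toLin'_toMatrix', LinearMap.comp_apply,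
    LinearMap.comp_apply, Matrix.toLin'_apply, Matrix.toLin'_apply]
  have h1 := φ.map_smul ⟨_, toLin'_mem_nAlg N hx⟩ v
  simp only [nAlg_smul_def, Matrix.toLin'_apply] at h1
  exact h1.symm

/-- The orthogonal of a submodule over the algebra is a submodule over the algebra (`N ≤ GU`). -/
theorem hperp_invariant (hN : N ≤ GU n F q) (m : Submodule (nAlg N) (Fin n → F)) :
    ∀ x ∈ N, (hperp q (m.restrictScalars F)).map
      (Matrix.toLin' (x : Matrix (Fin n) (Fin n) F)) ≤ hperp q (m.restrictScalars F) := by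
  rintro x hx _ ⟨v, hv, rfl⟩ w hw
  rw [Matrix.toLin'_apply, hermForm_gu_left (hN hx)]
  apply hv
  have := map_restrictScalars_le N m (N.inv_mem hx) (Submodule.mem_map_of_mem hw)
  rwa [Matrix.toLin'_apply] at this

/-- The orthogonal of a submodule, as a submodule over the algebra. -/
noncomputable def perpSub (hN : N ≤ GU n F q) (m : Submodule (nAlg N) (Fin n → F)) :
    Submodule (nAlg N) (Fin n → F) :=
  subOf N (hperp q (m.restrictScalars F)) (hperp_invariant N hN m)

theorem restrictScalars_perpSub (hN : N ≤ GU n F q) (m : Submodule (nAlg N) (Fin n → F)) :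
    (perpSub N hN m).restrictScalars F = hperp q (m.restrictScalars F) := rfl

/-- The orthogonal of a fully invariant submodule is fully invariant. -/
theorem perpSub_isFullyInvariant (hF : Fintype.card F = q ^ 2) (hN : N ≤ GU n F q)
    (m : Submodule (nAlg N) (Fin n → F)) (hm : m.IsFullyInvariant) :
    (perpSub N hN m).IsFullyInvariant := by
  intro φ v hv
  rw [Submodule.mem_comap]
  intro w hw
  set M := LinearMap.toMatrix' (φ.restrictScalars F) with hMdef
  have hφv : φ v = M *ᵥ v := by
    rw [hMdef, ← Matrix.toLin'_apply, Matrix.toLin'_toMatrix']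
    rfl
  have hMc : ∀ x ∈ N, (x : Matrix (Fin n) (Fin n) F) * M = M * (x : Matrix (Fin n) (Fin n) F) :=
    fun x hx => toMatrix'_commute N φ hx
  have hadj : ∀ x ∈ N, (x : Matrix (Fin n) (Fin n) F) * adjM q M =
      adjM q M * (x : Matrix (Fin n) (Fin n) F) := fun x hx => adjM_commute hF N hN M hMc hx
  rw [hφv, hermForm_mulVec_left hF]
  apply hv
  have := hm (endOfCommuteMat N (adjM q M) hadj) hw
  rwa [Submodule.mem_comap, endOfCommuteMat_apply] at this

variable [IsSemisimpleModule (nAlg N) (Fin n → F)]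

/-- **UM2, step 1**: the orthogonal of an isotypic component is the sum of a set of isotypic
components. -/
theorem perpSub_eq_sSup (hF : Fintype.card F = q ^ 2) (hN : N ≤ GU n F q)
    {c : Submodule (nAlg N) (Fin n → F)} (hc : c ∈ isotypicComponents (nAlg N) (Fin n → F)) :
    ∃ s ⊆ isotypicComponents (nAlg N) (Fin n → F), perpSub N hN c = sSup s := by
  apply isFullyInvariant_iff_sSup_isotypicComponents.mp
  apply perpSub_isFullyInvariant N hF hN
  obtain ⟨S, hS, rfl⟩ := hc
  exact Submodule.IsFullyInvariant.isotypicComponent _ _ S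

end Cfsg.Agent.Lib.H8.Asch
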