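import Mathlib
import Cfsg.Prelude.Def_Blocks

/-!
# S4484, part (A2)-(A5): the pure cyclotomic lemma (helper8)

`a : Fin n → ℂ` a list of `p`-th roots of unity (the eigenvalues of an element `x` of order `p` in a
representation of degree `n`), `u * e` = the class size of `x` with `u` prime to `n` and to `p`.
If all `(u e) (∑ a_k^j) / n` (`0 < j < p`) are algebraic integers (class sums act integrally) and
`(u e) - (u e) (∑ a_k) / n` lies in the local ideal at a `p`-modular `M` (principal block), then the list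
`a` has at most `e` distinct values.
-/

set_option autoImplicit false

namespace Cfsg.Agent.Lib.H8.BR6

open Cfsg Finset

variable {p : ℕ} {M : Ideal AlgInt}

/-- `z` is (the image of) an element of `M` -/
def InM (M : Ideal AlgInt) (z : ℂ) : Prop := ∃ a : AlgInt, a ∈ M ∧ (a : ℂ) = z

theorem inM_zero : InM M 0 := ⟨0, M.zero_mem, rfl⟩

theorem inM_add {z w : ℂ} (hz : InM M z) (hw : InM M w) : InM M (z + w) := by
  obtain ⟨a, ha, rfl⟩ := hz
  obtain ⟨b, hb, rfl⟩ := hw
  exact ⟨a + b, M.add_mem ha hb, rfl⟩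

theorem inM_neg {z : ℂ} (hz : InM M z) : InM M (-z) := by
  obtain ⟨a, ha, rfl⟩ := hz
  exact ⟨-a, M.neg_mem ha, rfl⟩

theorem inM_sub {z w : ℂ} (hz : InM M z) (hw : InM M w) : InM M (z - w) := by
  rw [sub_eq_add_neg]
  exact inM_add hz (inM_neg hw)

theorem inM_mul {z w : ℂ} (hw : IsIntegral ℤ w) (hz : InM M z) : InM M (w * z) := by
  obtain ⟨a, ha, rfl⟩ := hz
  exact ⟨(⟨w, hw⟩ : AlgInt) * a, M.mul_mem_left _ ha, rfl⟩

theorem inM_sum {ι : Type*} (s : Finset ι) (f : ι → ℂ) (h : ∀ i ∈ s, InM M (f i)) :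
    InM M (∑ i ∈ s, f i) := by
  classical
  induction s using Finset.induction_on with
  | empty => simpa using inM_zero
  | insert i s hi ih =>
    rw [Finset.sum_insert hi]
    exact inM_add (h i (Finset.mem_insert_self i s))
      (ih (fun j hj => h j (Finset.mem_insert_of_mem hj)))

theorem inM_natCast_p (hM : IsPModular p M) : InM M (p : ℂ) :=
  ⟨(p : AlgInt), hM.2.2, by simp⟩

/-- `M ∩ ℤ = pℤ` -/
theorem dvd_of_inM_int (hM : IsPModular p M) (z : ℤ) (h : InM M (z : ℂ)) : (p : ℤ) ∣ z := by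
  by_contra hnd
  have hp : Prime (p : ℤ) := Nat.prime_iff_prime_int.1 hM.1
  have hcop : IsCoprime (p : ℤ) z := (Prime.coprime_iff_not_dvd hp).2 hnd
  obtain ⟨A, B, hAB⟩ := hcop
  obtain ⟨a, ha, haz⟩ := h
  have hza : a = (z : AlgInt) := by
    apply Subtype.ext
    rw [haz]
    simp
  have h1 : (1 : AlgInt) ∈ M := by
    have : (1 : AlgInt) = (A : AlgInt) * (p : AlgInt) + (B : AlgInt) * (z : AlgInt) := by
      have := congrArg (fun t : ℤ => (t : AlgInt)) hAB
      simp only [Int.cast_add, Int.cast_mul, Int.cast_natCast, Int.cast_one] at this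
      exact this.symm
    rw [this]
    exact M.add_mem (M.mul_mem_left _ hM.2.2) (M.mul_mem_left _ (hza ▸ ha))
  exact hM.2.1.ne_top ((Ideal.eq_top_iff_one M).2 h1)

/-- a `p`-th root of unity is `≡ 1` modulo `M` -/
theorem inM_root_sub_one (hM : IsPModular p M) {η : ℂ} (hη : η ^ p = 1) : InM M (η - 1) := by
  have hp := hM.1
  have hint : IsIntegral ℤ η := IsIntegral.of_pow hp.pos (by rw [hη]; exact isIntegral_one)
  let w : AlgInt := ⟨η, hint⟩
  have hw : w ^ p = 1 := by
    apply Subtype.ext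
    simpa using hη
  haveI : M.IsPrime := hM.2.1.isPrime
  obtain ⟨r, hr⟩ := exists_add_pow_prime_eq hp w (-1)
  have hpow : (w - 1) ^ p ∈ M := by
    rw [sub_eq_add_neg, hr, hw]
    rcases hp.eq_two_or_odd' with h2 | hodd
    · subst h2
      have : (1 : AlgInt) + (-1) ^ 2 + ((2 : ℕ) : AlgInt) * w * -1 * r =
          ((2 : ℕ) : AlgInt) * (1 - w * r) := by
        push_cast
        ring
      rw [this]
      exact M.mul_mem_right _ hM.2.2
    · rw [Odd.neg_one_pow hodd]
      have : (1 : AlgInt) + -1 + (p : AlgInt) * w * -1 * r = (p : AlgInt) * (-(w * r)) := by ring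
      rw [this]
      exact M.mul_mem_right _ hM.2.2
  have := Ideal.IsPrime.mem_of_pow_mem (inferInstance : M.IsPrime) _ hpow
  exact ⟨w - 1, this, rfl⟩

/-- an algebraic integer in the local ideal lies in `M` -/
theorem inM_of_memLocalIdeal (hM : IsPModular p M) {z : ℂ} (hz : IsIntegral ℤ z)
    (h : MemLocalIdeal M z) : InM M z := by
  haveI : M.IsPrime := hM.2.1.isPrime
  obtain ⟨a, b, ha, hb, hab⟩ := h
  have hb0 : (b : ℂ) ≠ 0 := by
    intro h0
    apply hb
    have : b = 0 := Subtype.ext h0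
    rw [this]
    exact M.zero_mem
  have hmul : (⟨z, hz⟩ : AlgInt) * b = a := by
    apply Subtype.ext
    show z * (b : ℂ) = (a : ℂ)
    rw [← hab]
    field_simp
  have hmem : (⟨z, hz⟩ : AlgInt) * b ∈ M := by rw [hmul]; exact ha
  rcases (inferInstance : M.IsPrime).mem_or_mem hmem with h1 | h1
  · exact ⟨_, h1, rfl⟩
  · exact absurd h1 hb

/-- cancel a natural number prime to `p` -/
theorem inM_of_natCast_mul (hM : IsPModular p M) (u : ℕ) (hu : ¬ p ∣ u) {z : ℂ} (hz : IsIntegral ℤ z)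
    (h : InM M ((u : ℂ) * z)) : InM M z := by
  haveI : M.IsPrime := hM.2.1.isPrime
  obtain ⟨a, ha, haz⟩ := h
  have hmul : a = (u : AlgInt) * (⟨z, hz⟩ : AlgInt) := by
    apply Subtype.ext
    rw [haz]
    simp
  rw [hmul] at ha
  rcases (inferInstance : M.IsPrime).mem_or_mem ha with h1 | h1
  · exfalso
    have : InM M ((u : ℤ) : ℂ) := ⟨_, h1, by simp⟩
    have hd := dvd_of_inM_int hM (u : ℤ) this
    exact hu (Int.natCast_dvd_natCast.1 hd)
  · exact ⟨_, h1, rfl⟩

/-- the geometric sum of a `p`-th root of unity -/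
theorem geom_root (w : ℂ) (hw : w ^ p = 1) :
    ∑ i ∈ range p, w ^ i = if w = 1 then (p : ℂ) else 0 := by
  by_cases h1 : w = 1
  · rw [if_pos h1, h1]
    simp
  · rw [if_neg h1]
    have h := geom_sum_mul w p
    rw [hw, sub_self] at h
    rcases mul_eq_zero.1 h with h0 | h0
    · exact h0
    · exact absurd (sub_eq_zero.1 h0) h1

/-- (A2)-(A5): the eigenvalue list of `x` has at most `e` distinct values -/
theorem card_eigen_le (hM : IsPModular p M)
    (n : ℕ) (hn : 0 < n) (a : Fin n → ℂ) (ha : ∀ k, a k ^ p = 1)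
    (u e : ℕ) (he : 0 < e) (hup : ¬ p ∣ u) (hun : Nat.Coprime u n)
    (hint : ∀ j : ℕ, 0 < j → j < p → IsIntegral ℤ (((u * e : ℕ) : ℂ) * (∑ k, a k ^ j) / n))
    (hcong : MemLocalIdeal M (((u * e : ℕ) : ℂ) - ((u * e : ℕ) : ℂ) * (∑ k, a k) / n)) :
    (Finset.univ.image a).card ≤ e := by
  classical
  have hp := hM.1
  have hp0 : (p : ℂ) ≠ 0 := Nat.cast_ne_zero.2 hp.ne_zero
  have hn0 : (n : ℂ) ≠ 0 := Nat.cast_ne_zero.2 hn.ne'
  set ζ : ℂ := Complex.exp (2 * Real.pi * Complex.I / p) with hζdef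
  have hζ : IsPrimitiveRoot ζ p := Complex.isPrimitiveRoot_exp p hp.ne_zero
  have hζ0 : ζ ≠ 0 := hζ.ne_zero hp.ne_zero
  set ξ : ℂ := ζ⁻¹ with hξdef
  have hξ : IsPrimitiveRoot ξ p := hζ.inv
  have hξζ : ξ * ζ = 1 := inv_mul_cancel₀ hζ0
  have hξp : ξ ^ p = 1 := hξ.pow_eq_one
  have hζp : ζ ^ p = 1 := hζ.pow_eq_one
  have hinta : ∀ k, IsIntegral ℤ (a k) := fun k =>
    IsIntegral.of_pow hp.pos (by rw [ha k]; exact isIntegral_one)
  have hintξ : IsIntegral ℤ ξ := IsIntegral.of_pow hp.pos (by rw [hξp]; exact isIntegral_one)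
  have hintζ : IsIntegral ℤ ζ := IsIntegral.of_pow hp.pos (by rw [hζp]; exact isIntegral_one)
  have hintN : ∀ m : ℕ, IsIntegral ℤ (m : ℂ) := fun m => by
    have := isIntegral_algebraMap (R := ℤ) (A := ℂ) (x := (m : ℤ))
    simpa using this
  have hintZ : ∀ m : ℤ, IsIntegral ℤ (m : ℂ) := fun m => by
    have := isIntegral_algebraMap (R := ℤ) (A := ℂ) (x := m)
    simpa using this
  set S : ℕ → ℂ := fun j => ∑ k, a k ^ j with hS
  have hintS : ∀ j, IsIntegral ℤ (S j) := fun j =>
    IsIntegral.sum _ (fun k _ => (hinta k).pow j)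
  have hS0 : S 0 = n := by simp [hS]
  set α : ℕ → ℂ := fun j => (e : ℂ) * S j / n with hα
  -- (A2)
  have hintα : ∀ j, 0 < j → j < p → IsIntegral ℤ (α j) := by
    intro j hj0 hjp
    obtain ⟨A, B, hAB⟩ := Nat.isCoprime_iff_coprime.2 hun
    have h1 := hint j hj0 hjp
    have hAB' : (A : ℂ) * u + (B : ℂ) * n = 1 := by exact_mod_cast hAB
    have h2 : α j = (A : ℂ) * (((u * e : ℕ) : ℂ) * S j / n) + (B : ℂ) * ((e : ℂ) * S j) := by
      simp only [hα]
      push_cast
      field_simp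
      linear_combination (-(e : ℂ) * S j) * hAB'
    rw [h2]
    exact ((hintZ A).mul h1).add ((hintZ B).mul ((hintN e).mul (hintS j)))
  -- the multiplicities
  set m : ℕ → ℕ := fun i => (Finset.univ.filter (fun k => a k = ζ ^ i)).card with hm
  set t : ℕ → ℂ := fun i => (e : ℂ) + ∑ j ∈ Ico 1 p, α j * ξ ^ (i * j) with ht
  have hintt : ∀ i, IsIntegral ℤ (t i) := by
    intro i
    refine (hintN e).add (IsIntegral.sum _ (fun j hj => ?_))
    rw [Finset.mem_Ico] at hj
    exact (hintα j (by omega) hj.2).mul (hintξ.pow _)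
  -- (T1)
  have hgeomk : ∀ i k, ∑ j ∈ range p, (a k * ξ ^ i) ^ j = if a k = ζ ^ i then (p : ℂ) else 0 := by
    intro i k
    have hw : (a k * ξ ^ i) ^ p = 1 := by
      rw [mul_pow, ha k, one_mul, ← pow_mul, mul_comm i p, pow_mul, hξp, one_pow]
    rw [geom_root _ hw]
    have hiff : a k * ξ ^ i = 1 ↔ a k = ζ ^ i := by
      rw [hξdef, inv_pow, mul_inv_eq_one₀ (pow_ne_zero _ hζ0)]
    simp only [hiff]
  have hT1 : ∀ i, (n : ℂ) * t i = (p : ℂ) * e * m i := by
    intro i
    have h1 : (n : ℂ) * t i = (e : ℂ) * ∑ j ∈ range p, S j * ξ ^ (i * j) := by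
      rw [Finset.range_eq_Ico, Finset.sum_eq_sum_Ico_succ_bot hp.pos]
      simp only [ht, hα, hS0, mul_zero, pow_zero, mul_one, zero_add]
      rw [mul_add, mul_add, Finset.mul_sum, Finset.mul_sum]
      congr 1
      · ring
      · refine Finset.sum_congr rfl (fun j _ => ?_)
        field_simp
    have h2 : ∑ j ∈ range p, S j * ξ ^ (i * j) = (p : ℂ) * m i := by
      have h3 : ∀ j, S j * ξ ^ (i * j) = ∑ k, (a k * ξ ^ i) ^ j := by
        intro j
        simp only [hS]
        rw [Finset.sum_mul]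
        refine Finset.sum_congr rfl (fun k _ => ?_)
        rw [mul_pow, ← pow_mul]
      simp only [h3]
      rw [Finset.sum_comm]
      simp only [hgeomk]
      rw [Finset.sum_ite, Finset.sum_const_zero, add_zero, Finset.sum_const, nsmul_eq_mul]
      simp only [hm]
      ring
    rw [h1, h2]
    ring
  -- `t i` is a rational algebraic integer
  have hTex : ∀ i, ∃ z : ℤ, (z : ℂ) = t i := by
    intro i
    have h1 : t i = algebraMap ℚ ℂ (((p * e * m i : ℕ) : ℚ) / n) := by
      have := hT1 i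
      rw [map_div₀]
      simp only [map_natCast]
      push_cast
      field_simp
      linear_combination this
    have h2 : IsIntegral ℤ (((p * e * m i : ℕ) : ℚ) / n) := by
      have := hintt i
      rw [h1] at this
      exact (isIntegral_algebraMap_iff (algebraMap ℚ ℂ).injective).1 this
    obtain ⟨z, hz⟩ := IsIntegrallyClosed.isIntegral_iff.1 h2
    refine ⟨z, ?_⟩
    rw [h1, ← hz]
    simp
  choose T hT using hTex
  have hT1' : ∀ i, (n : ℤ) * T i = (p : ℤ) * e * m i := by
    intro i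
    have := hT1 i
    rw [← hT i] at this
    exact_mod_cast this
  -- (T2)
  have hT2 : ∑ i ∈ range p, t i = (p : ℂ) * e := by
    simp only [ht]
    rw [Finset.sum_add_distrib, Finset.sum_const, Finset.card_range, nsmul_eq_mul, Finset.sum_comm]
    have h0 : ∀ j ∈ Ico 1 p, ∑ i ∈ range p, α j * ξ ^ (i * j) = 0 := by
      intro j hj
      rw [Finset.mem_Ico] at hj
      rw [← Finset.mul_sum]
      have hw : (ξ ^ j) ^ p = 1 := by rw [← pow_mul, mul_comm, pow_mul, hξp, one_pow]
      have hne : ξ ^ j ≠ 1 := hξ.pow_ne_one_of_pos_of_lt (by omega) hj.2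
      have : ∑ i ∈ range p, ξ ^ (i * j) = 0 := by
        have h := geom_root _ hw
        rw [if_neg hne] at h
        rw [← h]
        refine Finset.sum_congr rfl (fun i _ => ?_)
        rw [pow_mul']
      rw [this, mul_zero]
    rw [Finset.sum_eq_zero h0, add_zero]
  have hζne : ζ ≠ 1 := hζ.ne_one hp.one_lt
  have hsumζ : ∑ i ∈ range p, ζ ^ i = 0 := by
    have h := geom_root _ hζp
    rw [if_neg hζne] at h
    exact h
  -- (T3)
  have hT3 : ∑ i ∈ range p, t i * ζ ^ i = (p : ℂ) * α 1 := by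
    simp only [ht]
    simp only [add_mul]
    rw [Finset.sum_add_distrib, ← Finset.mul_sum, hsumζ, mul_zero, zero_add]
    simp only [Finset.sum_mul]
    rw [Finset.sum_comm]
    have h1 : ∀ j ∈ Ico 1 p, ∑ i ∈ range p, α j * ξ ^ (i * j) * ζ ^ i =
        if j = 1 then (p : ℂ) * α 1 else 0 := by
      intro j hj
      rw [Finset.mem_Ico] at hj
      have hstep : ∀ i, α j * ξ ^ (i * j) * ζ ^ i = α j * (ξ ^ (j - 1)) ^ i := by
        intro i
        have : ξ ^ j * ζ = ξ ^ (j - 1) := by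
          have hj1 : j = (j - 1) + 1 := by omega
          rw [hj1, pow_succ, mul_assoc, hξζ, mul_one]
          simp
        rw [← this, mul_pow, pow_mul', mul_assoc]
      simp only [hstep]
      rw [← Finset.mul_sum]
      have hw : (ξ ^ (j - 1)) ^ p = 1 := by rw [← pow_mul, mul_comm, pow_mul, hξp, one_pow]
      rw [geom_root _ hw]
      by_cases hj1 : j = 1
      · subst hj1
        simp [mul_comm]
      · have hne : ξ ^ (j - 1) ≠ 1 := hξ.pow_ne_one_of_pos_of_lt (by omega) (by omega)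
        rw [if_neg hne, if_neg hj1, mul_zero]
    rw [Finset.sum_congr rfl h1, Finset.sum_ite_eq' (Ico 1 p) 1]
    have : 1 ∈ Ico 1 p := Finset.mem_Ico.2 ⟨le_rfl, hp.one_lt⟩
    rw [if_pos this]
  -- (T4)
  have hT4 : ∀ i, (p : ℤ) ∣ T i - T 0 := by
    intro i
    apply dvd_of_inM_int hM
    push_cast
    rw [hT i, hT 0]
    have : t i - t 0 = ∑ j ∈ Ico 1 p, α j * (ξ ^ (i * j) - 1) := by
      simp only [ht, zero_mul, pow_zero]
      rw [add_sub_add_left_eq_sub, ← Finset.sum_sub_distrib]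
      refine Finset.sum_congr rfl (fun j _ => ?_)
      ring
    rw [this]
    refine inM_sum _ _ (fun j hj => ?_)
    rw [Finset.mem_Ico] at hj
    refine inM_mul (hintα j (by omega) hj.2) (inM_root_sub_one hM ?_)
    rw [← pow_mul, mul_comm, pow_mul, hξp, one_pow]
  -- (T5)
  have hT5 : InM M ((e : ℂ) - α 1) := by
    have hα1 : IsIntegral ℤ ((e : ℂ) - α 1) := (hintN e).sub (hintα 1 one_pos hp.one_lt)
    have h1 : ((u * e : ℕ) : ℂ) - ((u * e : ℕ) : ℂ) * (∑ k, a k) / n = (u : ℂ) * ((e : ℂ) - α 1) := by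
      simp only [hα, hS, pow_one]
      push_cast
      ring
    rw [h1] at hcong
    exact inM_of_natCast_mul hM u hup hα1
      (inM_of_memLocalIdeal hM ((hintN u).mul hα1) hcong)
  -- (A5)
  choose s hs using hT4
  have hTs : ∀ i, T i = T 0 + (p : ℤ) * s i := fun i => by linarith [hs i]
  have hsumT : ∑ i ∈ range p, T i = (p : ℤ) * e := by
    have h := hT2
    simp only [← hT] at h
    exact_mod_cast h
  have hsums : T 0 + ∑ i ∈ range p, s i = e := by
    have h1 : ∑ i ∈ range p, T i = (p : ℤ) * T 0 + (p : ℤ) * ∑ i ∈ range p, s i := by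
      rw [Finset.sum_congr rfl (fun i _ => hTs i), Finset.sum_add_distrib, Finset.sum_const,
        Finset.card_range, nsmul_eq_mul, Finset.mul_sum]
    rw [hsumT, ← mul_add] at h1
    have hpz : (p : ℤ) ≠ 0 := by exact_mod_cast hp.ne_zero
    exact (mul_left_cancel₀ hpz h1).symm
  have hα1 : α 1 = ∑ i ∈ range p, (s i : ℂ) * ζ ^ i := by
    have h := hT3
    simp only [← hT] at h
    have h1 : ∑ i ∈ range p, (T i : ℂ) * ζ ^ i = (p : ℂ) * ∑ i ∈ range p, (s i : ℂ) * ζ ^ i := by
      have : ∀ i ∈ range p, (T i : ℂ) * ζ ^ i = (T 0 : ℂ) * ζ ^ i + (p : ℂ) * ((s i : ℂ) * ζ ^ i) := by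
        intro i _
        rw [hTs i]
        push_cast
        ring
      rw [Finset.sum_congr rfl this, Finset.sum_add_distrib, ← Finset.mul_sum, hsumζ, mul_zero,
        zero_add, Finset.mul_sum]
    rw [h1] at h
    exact (mul_left_cancel₀ hp0 h).symm
  have hT0 : InM M ((T 0 : ℤ) : ℂ) := by
    have h1 : ((T 0 : ℤ) : ℂ) = ((e : ℂ) - α 1) - ∑ i ∈ range p, (s i : ℂ) * (1 - ζ ^ i) := by
      have h2 : ((T 0 : ℤ) : ℂ) + ∑ i ∈ range p, (s i : ℂ) = e := by exact_mod_cast hsums
      rw [hα1]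
      simp only [mul_sub, mul_one]
      rw [Finset.sum_sub_distrib]
      linear_combination h2
    rw [h1]
    refine inM_sub hT5 (inM_sum _ _ (fun i _ => inM_mul (hintZ _) ?_))
    have : (1 : ℂ) - ζ ^ i = -(ζ ^ i - 1) := by ring
    rw [this]
    refine inM_neg (inM_root_sub_one hM ?_)
    rw [← pow_mul, mul_comm, pow_mul, hζp, one_pow]
  have hpT0 : (p : ℤ) ∣ T 0 := dvd_of_inM_int hM _ hT0
  have hpT : ∀ i, (p : ℤ) ∣ T i := fun i => by
    rw [hTs i]
    exact dvd_add hpT0 (dvd_mul_right _ _)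
  choose c hc using hpT
  have hpz : (p : ℤ) ≠ 0 := by exact_mod_cast hp.ne_zero
  have hnc : ∀ i, (n : ℤ) * c i = (e : ℤ) * m i := by
    intro i
    have h := hT1' i
    rw [hc i] at h
    have : (p : ℤ) * ((n : ℤ) * c i) = (p : ℤ) * ((e : ℤ) * m i) := by linarith
    exact mul_left_cancel₀ hpz this
  have hsumc : ∑ i ∈ range p, c i = e := by
    have h := hsumT
    rw [Finset.sum_congr rfl (fun i _ => hc i), ← Finset.mul_sum] at h
    exact mul_left_cancel₀ hpz h
  have hnz : (0 : ℤ) < n := by exact_mod_cast hn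
  have hc0 : ∀ i, 0 ≤ c i := by
    intro i
    have h := hnc i
    have h2 : (0 : ℤ) ≤ (e : ℤ) * m i := mul_nonneg (Int.natCast_nonneg _) (Int.natCast_nonneg _)
    by_contra hneg
    push Not at hneg
    nlinarith
  have hc1 : ∀ i, m i ≠ 0 → 1 ≤ c i := by
    intro i hi
    have h := hnc i
    have hmi : (0 : ℤ) < (m i : ℤ) := by
      have : 0 < m i := Nat.pos_of_ne_zero hi
      exact_mod_cast this
    have hez : (0 : ℤ) < (e : ℤ) := by exact_mod_cast he
    have hpos : (0 : ℤ) < (n : ℤ) * c i := by rw [h]; exact mul_pos hez hmi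
    have : 0 < c i := by
      by_contra hneg
      push Not at hneg
      nlinarith
    omega
  -- counting
  set I : Finset ℕ := (range p).filter (fun i => m i ≠ 0) with hI
  have hcardI : I.card ≤ e := by
    have h1 : ((I.card : ℕ) : ℤ) ≤ ∑ i ∈ I, c i := by
      rw [Finset.card_eq_sum_ones, Nat.cast_sum]
      refine Finset.sum_le_sum (fun i hi => ?_)
      rw [hI, Finset.mem_filter] at hi
      simpa using hc1 i hi.2
    have h2 : ∑ i ∈ I, c i ≤ ∑ i ∈ range p, c i :=
      Finset.sum_le_sum_of_subset_of_nonneg (Finset.filter_subset _ _) (fun i _ _ => hc0 i)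
    rw [hsumc] at h2
    exact_mod_cast h1.trans h2
  have hsub : Finset.univ.image a ⊆ I.image (fun i => ζ ^ i) := by
    intro v hv
    rw [Finset.mem_image] at hv
    obtain ⟨k, _, rfl⟩ := hv
    haveI : NeZero p := ⟨hp.ne_zero⟩
    obtain ⟨i, hip, hi⟩ := hζ.eq_pow_of_pow_eq_one (ha k)
    rw [Finset.mem_image]
    refine ⟨i, ?_, hi⟩
    rw [hI, Finset.mem_filter, Finset.mem_range]
    refine ⟨hip, ?_⟩
    simp only [hm]
    apply Finset.card_ne_zero_of_mem (a := k)
    rw [Finset.mem_filter]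
    exact ⟨Finset.mem_univ k, hi.symm⟩
  exact (Finset.card_le_card hsub).trans (Finset.card_image_le.trans hcardI)

end Cfsg.Agent.Lib.H8.BR6
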