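import Cfsg.Agent.Lib.L0.CharSpecial

/-!
# Duals of finite abelian groups, as needed for the Brauer–Suzuki–Wall theorem (S3282)

For a finite group `A` with commuting elements (`hA`), the dual `A →* ℂˣ`:
orthogonality relations, Fourier expansion, the unique character of order two when `A` has a
unique involution, and the values at that involution.
-/

set_option autoImplicit false

namespace Cfsg.Agent.Lib.H8.BSW

open Cfsg Cfsg.Agent.Lib.L0
open scoped ComplexConjugate

variable {A : Type*} [Group A] [Fintype A]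

noncomputable instance dualFintype : Fintype (A →* ℂˣ) := Fintype.ofFinite _

/-- the complex valued function attached to a linear character -/
noncomputable def lamF (ν : A →* ℂˣ) : A → ℂ := fun a => ((ν a : ℂˣ) : ℂ)

omit [Fintype A] in
theorem lamF_apply (ν : A →* ℂˣ) (a : A) : lamF ν a = ((ν a : ℂˣ) : ℂ) := rfl

omit [Fintype A] in
theorem lamF_one : lamF (1 : A →* ℂˣ) = 1 := by
  funext a; simp [lamF]

omit [Fintype A] in
theorem lamF_injective : Function.Injective (lamF (A := A)) := by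
  intro μ ν h
  ext a
  exact congrFun h a

omit [Fintype A] in
theorem lamF_irr (ν : A →* ℂˣ) : IsIrrCharacter A (lamF ν) := isIrrCharacter_of_hom ν

theorem norm_apply (ν : A →* ℂˣ) (a : A) : ‖((ν a : ℂˣ) : ℂ)‖ = 1 := by
  have h1 : ((ν a : ℂˣ) : ℂ) ^ (orderOf a) = 1 := by
    rw [← Units.val_pow_eq_pow_val, ← map_pow, pow_orderOf_eq_one, map_one, Units.val_one]
  exact Complex.norm_eq_one_of_pow_eq_one h1 (orderOf_pos a).ne'

theorem conj_apply (ν : A →* ℂˣ) (a : A) :
    conj ((ν a : ℂˣ) : ℂ) = (((ν a)⁻¹ : ℂˣ) : ℂ) := by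
  rw [Units.val_inv_eq_inv_val]
  have h := norm_apply ν a
  rw [Complex.inv_def, Complex.normSq_eq_norm_sq, h]
  simp

theorem conj_lamF (ν : A →* ℂˣ) (a : A) : conj (lamF ν a) = lamF ν⁻¹ a := by
  rw [lamF_apply, conj_apply, lamF_apply, MonoidHom.inv_apply]

theorem classInner_lamF [DecidableEq (A →* ℂˣ)] (μ ν : A →* ℂˣ) :
    classInner (lamF μ) (lamF ν) = if μ = ν then 1 else 0 := by
  split_ifs with h
  · subst h; exact irr_classInner_self (lamF_irr μ)
  · exact irr_classInner_ne (lamF_irr μ) (lamF_irr ν) (fun h' => h (lamF_injective h'))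

theorem sum_apply (ν : A →* ℂˣ) (hν : ν ≠ 1) : ∑ a : A, ((ν a : ℂˣ) : ℂ) = 0 := by
  classical
  have h := classInner_lamF ν 1
  rw [if_neg hν] at h
  unfold classInner at h
  have hA : (Nat.card A : ℂ) ≠ 0 := by exact_mod_cast (Nat.card_pos (α := A)).ne'
  have h2 := (mul_eq_zero.mp h).resolve_left (inv_ne_zero hA)
  rw [← h2]
  refine Finset.sum_congr rfl fun a _ => ?_
  simp [lamF]

section Comm
variable (hA : ∀ a b : A, a * b = b * a)
include hA

theorem card_dual : Fintype.card (A →* ℂˣ) = Fintype.card A := by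
  letI : CommGroup A := { ‹Group A› with mul_comm := hA }
  have := CommGroup.card_monoidHom_of_hasEnoughRootsOfUnity A ℂ
  rwa [Nat.card_eq_fintype_card, Nat.card_eq_fintype_card] at this

theorem exists_apply_ne_one {a : A} (ha : a ≠ 1) : ∃ φ : A →* ℂˣ, φ a ≠ 1 := by
  letI : CommGroup A := { ‹Group A› with mul_comm := hA }
  exact CommGroup.exists_apply_ne_one_of_hasEnoughRootsOfUnity A ℂ ha

theorem sum_dual_apply {a : A} (ha : a ≠ 1) : ∑ ν : A →* ℂˣ, ((ν a : ℂˣ) : ℂ) = 0 := by
  obtain ⟨φ, hφ⟩ := exists_apply_ne_one hA ha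
  have h1 : ∑ ν : A →* ℂˣ, ((ν a : ℂˣ) : ℂ) = ((φ a : ℂˣ) : ℂ) * ∑ ν : A →* ℂˣ, ((ν a : ℂˣ) : ℂ) := by
    rw [Finset.mul_sum]
    refine (Fintype.sum_equiv (Equiv.mulLeft φ) _ _ fun ν => ?_).symm
    simp
  have h2 : (1 - ((φ a : ℂˣ) : ℂ)) * ∑ ν : A →* ℂˣ, ((ν a : ℂˣ) : ℂ) = 0 := by
    rw [sub_mul, one_mul, ← h1, sub_self]
  rcases mul_eq_zero.mp h2 with h3 | h3
  · exfalso
    apply hφ
    apply Units.ext
    rw [Units.val_one]
    exact (sub_eq_zero.mp h3).symm
  · exact h3

theorem sum_dual_apply_one : ∑ ν : A →* ℂˣ, ((ν (1 : A) : ℂˣ) : ℂ) = (Fintype.card A : ℂ) := by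
  simp only [map_one, Units.val_one, Finset.sum_const, Finset.card_univ, nsmul_eq_mul, mul_one]
  rw [card_dual hA]

/-- Fourier expansion on a finite abelian group. -/
theorem expansion (f : A → ℂ) (a : A) :
    f a = ∑ ν : A →* ℂˣ, classInner f (lamF ν) * ((ν a : ℂˣ) : ℂ) := by
  classical
  have hA0 : (Nat.card A : ℂ) ≠ 0 := by exact_mod_cast (Nat.card_pos (α := A)).ne'
  have h1 : ∀ ν : A →* ℂˣ, classInner f (lamF ν) * ((ν a : ℂˣ) : ℂ)
      = (Nat.card A : ℂ)⁻¹ * ∑ b : A, f b * ((ν (b⁻¹ * a) : ℂˣ) : ℂ) := by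
    intro ν
    unfold classInner
    rw [mul_assoc, Finset.sum_mul]
    congr 1
    refine Finset.sum_congr rfl fun b _ => ?_
    rw [conj_lamF, lamF_apply, MonoidHom.inv_apply, map_mul, map_inv, Units.val_mul]
    ring
  simp only [h1]
  rw [← Finset.mul_sum, Finset.sum_comm]
  have h2 : ∀ b : A, ∑ ν : A →* ℂˣ, f b * ((ν (b⁻¹ * a) : ℂˣ) : ℂ)
      = if b = a then f b * (Fintype.card A : ℂ) else 0 := by
    intro b
    rw [← Finset.mul_sum]
    split_ifs with hb
    · subst hb
      rw [inv_mul_cancel, sum_dual_apply_one hA]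
    · rw [sum_dual_apply hA, mul_zero]
      intro h
      apply hb
      have : b * (b⁻¹ * a) = b * 1 := by rw [h]
      simpa using this.symm
  simp only [h2]
  rw [Finset.sum_ite_eq' Finset.univ a, if_pos (Finset.mem_univ a), Nat.card_eq_fintype_card]
  rw [Nat.card_eq_fintype_card] at hA0
  field_simp

end Comm

section UniqueInvolution
variable (hA : ∀ a b : A, a * b = b * a) {t : A} (ht1 : t ≠ 1) (htt : t * t = 1)
  (huniq : ∀ a : A, a * a = 1 → a = 1 ∨ a = t)

omit [Fintype A] in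
include htt in
theorem apply_t (ν : A →* ℂˣ) : ((ν t : ℂˣ) : ℂ) = 1 ∨ ((ν t : ℂˣ) : ℂ) = -1 := by
  have h : ((ν t : ℂˣ) : ℂ) * ((ν t : ℂˣ) : ℂ) = 1 := by
    rw [← Units.val_mul, ← map_mul, htt, map_one, Units.val_one]
  have h2 : (((ν t : ℂˣ) : ℂ) - 1) * (((ν t : ℂˣ) : ℂ) + 1) = 0 := by ring_nf; rw [sq, h]; ring
  rcases mul_eq_zero.mp h2 with h3 | h3
  · left; exact sub_eq_zero.mp h3
  · right; exact eq_neg_of_add_eq_zero_left h3

omit [Fintype A] in
include htt in
theorem apply_t_sq (ν : A →* ℂˣ) : ((ν t : ℂˣ) : ℂ) * ((ν t : ℂˣ) : ℂ) = 1 := by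
  rw [← Units.val_mul, ← map_mul, htt, map_one, Units.val_one]

include hA ht1 htt huniq in
/-- A finite abelian group with a unique involution has exactly two characters of order
dividing two. -/
theorem card_real_dual : (Finset.univ.filter fun ν : A →* ℂˣ => ν * ν = 1).card = 2 := by
  classical
  have hA0 : (Fintype.card A : ℂ) ≠ 0 := by exact_mod_cast (Fintype.card_pos (α := A)).ne'
  have h1 : ∑ ν : A →* ℂˣ, ∑ a : A, (((ν (a * a)) : ℂˣ) : ℂ)
      = (Fintype.card A : ℂ) * ((Finset.univ.filter fun ν : A →* ℂˣ => ν * ν = 1).card : ℂ) := by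
    have : ∀ ν : A →* ℂˣ, ∑ a : A, (((ν (a * a)) : ℂˣ) : ℂ)
        = if ν * ν = 1 then (Fintype.card A : ℂ) else 0 := by
      intro ν
      have h2 : ∀ a : A, (((ν (a * a)) : ℂˣ) : ℂ) = ((((ν * ν) a) : ℂˣ) : ℂ) := by
        intro a; rw [map_mul, MonoidHom.mul_apply]
      simp only [h2]
      split_ifs with h
      · rw [h]; simp
      · exact sum_apply _ h
    simp only [this]
    rw [Finset.sum_ite, Finset.sum_const_zero, add_zero, Finset.sum_const, nsmul_eq_mul, mul_comm]
  have h2 : ∑ ν : A →* ℂˣ, ∑ a : A, (((ν (a * a)) : ℂˣ) : ℂ)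
      = (Fintype.card A : ℂ) * ((Finset.univ.filter fun a : A => a * a = 1).card : ℂ) := by
    rw [Finset.sum_comm]
    have : ∀ a : A, ∑ ν : A →* ℂˣ, (((ν (a * a)) : ℂˣ) : ℂ)
        = if a * a = 1 then (Fintype.card A : ℂ) else 0 := by
      intro a
      split_ifs with h
      · rw [h]; exact sum_dual_apply_one hA
      · exact sum_dual_apply hA h
    simp only [this]
    rw [Finset.sum_ite, Finset.sum_const_zero, add_zero, Finset.sum_const, nsmul_eq_mul, mul_comm]
  have h3 : (Finset.univ.filter fun a : A => a * a = 1) = {1, t} := by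
    ext a
    simp only [Finset.mem_filter, Finset.mem_univ, true_and, Finset.mem_insert,
      Finset.mem_singleton]
    constructor
    · exact huniq a
    · rintro (rfl | rfl)
      · simp
      · exact htt
  rw [h1, h3, Finset.card_pair (Ne.symm ht1)] at h2
  have := mul_left_cancel₀ hA0 h2
  exact_mod_cast this

include hA ht1 htt huniq in
theorem exists_sigma : ∃ σ : A →* ℂˣ, σ ≠ 1 ∧ σ * σ = 1 ∧
    ∀ ν : A →* ℂˣ, ν * ν = 1 → ν = 1 ∨ ν = σ := by
  classical
  have hc := card_real_dual hA ht1 htt huniq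
  obtain ⟨x, y, hxy, hS⟩ := Finset.card_eq_two.mp hc
  have mem : ∀ ν : A →* ℂˣ, ν * ν = 1 → ν = x ∨ ν = y := by
    intro ν hν
    have : ν ∈ Finset.univ.filter fun ν : A →* ℂˣ => ν * ν = 1 := by simp [hν]
    rw [hS] at this
    simpa using this
  have hx : x * x = 1 := by
    have : x ∈ Finset.univ.filter fun ν : A →* ℂˣ => ν * ν = 1 := by rw [hS]; simp
    simpa using this
  have hy : y * y = 1 := by
    have : y ∈ Finset.univ.filter fun ν : A →* ℂˣ => ν * ν = 1 := by rw [hS]; simp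
    simpa using this
  rcases mem 1 (one_mul (1 : A →* ℂˣ)) with h | h
  · refine ⟨y, ?_, hy, ?_⟩
    · rw [h]; exact hxy.symm
    · intro ν hν
      rcases mem ν hν with h' | h'
      · left; rw [h', h]
      · right; exact h'
  · refine ⟨x, ?_, hx, ?_⟩
    · rw [h]; exact hxy
    · intro ν hν
      rcases mem ν hν with h' | h'
      · right; exact h'
      · left; rw [h', h]

include hA ht1 htt in
/-- Half of the characters are trivial on the involution. -/
theorem card_filter_apply_t :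
    2 * (Finset.univ.filter fun ν : A →* ℂˣ => ((ν t : ℂˣ) : ℂ) = 1).card = Fintype.card A ∧
    2 * (Finset.univ.filter fun ν : A →* ℂˣ => ((ν t : ℂˣ) : ℂ) = -1).card = Fintype.card A := by
  classical
  have hs := sum_dual_apply hA ht1
  have hval : ∀ ν : A →* ℂˣ, ((ν t : ℂˣ) : ℂ)
      = (if ((ν t : ℂˣ) : ℂ) = 1 then (1 : ℂ) else 0) - (if ((ν t : ℂˣ) : ℂ) = -1 then (1 : ℂ) else 0) := by
    intro ν
    rcases apply_t htt ν with h | h
    · rw [h]; norm_num
    · rw [h]; norm_num
  rw [Finset.sum_congr rfl fun ν _ => hval ν, Finset.sum_sub_distrib] at hs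
  simp only [Finset.sum_ite, Finset.sum_const_zero, add_zero, Finset.sum_const, nsmul_eq_mul,
    mul_one] at hs
  have hs' : (Finset.univ.filter fun ν : A →* ℂˣ => ((ν t : ℂˣ) : ℂ) = 1).card
      = (Finset.univ.filter fun ν : A →* ℂˣ => ((ν t : ℂˣ) : ℂ) = -1).card := by
    have := sub_eq_zero.mp hs
    exact_mod_cast this
  have htot : (Finset.univ.filter fun ν : A →* ℂˣ => ((ν t : ℂˣ) : ℂ) = 1).card
      + (Finset.univ.filter fun ν : A →* ℂˣ => ((ν t : ℂˣ) : ℂ) = -1).card = Fintype.card A := by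
    rw [← card_dual hA, ← Finset.card_union_of_disjoint]
    · congr 1
      ext ν
      simp only [Finset.mem_union, Finset.mem_filter, Finset.mem_univ, true_and, iff_true]
      exact apply_t htt ν
    · rw [Finset.disjoint_filter]
      intro ν _ h1 h2
      rw [h1] at h2
      norm_num at h2
  constructor <;> omega

include hA ht1 htt huniq in
/-- For `|A| ≥ 6` there are non-real characters with both values at the involution. -/
theorem exists_nonreal_apply_t (h6 : 6 ≤ Fintype.card A) :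
    (∃ ν : A →* ℂˣ, ν * ν ≠ 1 ∧ ((ν t : ℂˣ) : ℂ) = 1) ∧
    (∃ μ : A →* ℂˣ, μ * μ ≠ 1 ∧ ((μ t : ℂˣ) : ℂ) = -1) := by
  classical
  obtain ⟨hp, hm⟩ := card_filter_apply_t hA ht1 htt
  have hc := card_real_dual hA ht1 htt huniq
  constructor
  · by_contra hcon
    push Not at hcon
    have hsub : (Finset.univ.filter fun ν : A →* ℂˣ => ((ν t : ℂˣ) : ℂ) = 1)
        ⊆ Finset.univ.filter fun ν : A →* ℂˣ => ν * ν = 1 := by
      intro ν hν
      simp only [Finset.mem_filter, Finset.mem_univ, true_and] at hν ⊢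
      by_contra h
      exact hcon ν h hν
    have := Finset.card_le_card hsub
    omega
  · by_contra hcon
    push Not at hcon
    have hsub : (Finset.univ.filter fun ν : A →* ℂˣ => ((ν t : ℂˣ) : ℂ) = -1)
        ⊆ Finset.univ.filter fun ν : A →* ℂˣ => ν * ν = 1 := by
      intro ν hν
      simp only [Finset.mem_filter, Finset.mem_univ, true_and] at hν ⊢
      by_contra h
      exact hcon ν h hν
    have := Finset.card_le_card hsub
    omega

end UniqueInvolution

end Cfsg.Agent.Lib.H8.BSW
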