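import Cfsg.Agent.Lib.H8.BSWHyp
import Cfsg.Agent.Lib.H8.BSWDual
import Cfsg.Agent.Lib.H24.CharBasic

/-!
# Brauer–Suzuki–Wall (S3282): elementary consequences of the hypotheses
-/

set_option autoImplicit false

namespace Cfsg.Agent.Lib.H8

open Cfsg Cfsg.Agent.Lib.L0 Subgroup
open scoped ComplexConjugate

variable {G : Type*} [Group G] {t : G} {K : Subgroup G} {s : G}

namespace BSWHyp

theorem tt (h : BSWHyp t K s) : t * t = 1 := by
  have := pow_orderOf_eq_one t
  rwa [h.ht, sq] at this

theorem t_ne_one (h : BSWHyp t K s) : t ≠ 1 := by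
  intro h1
  have := h.ht
  rw [h1, orderOf_one] at this
  norm_num at this

theorem ss (h : BSWHyp t K s) : s * s = 1 := by
  have := pow_orderOf_eq_one s
  rwa [h.hs, sq] at this

theorem s_inv (h : BSWHyp t K s) : s⁻¹ = s := inv_eq_of_mul_eq_one_left h.ss

theorem s_ne_one (h : BSWHyp t K s) : s ≠ 1 := by
  intro h1
  exact h.hsK (h1 ▸ K.one_mem)

theorem comm (h : BSWHyp t K s) {a b : G} (ha : a ∈ K) (hb : b ∈ K) : a * b = b * a := by
  have := h.hKab
  have h1 := mul_comm' (⟨a, ha⟩ : K) ⟨b, hb⟩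
  exact congrArg Subtype.val h1

theorem commK (h : BSWHyp t K s) (a b : K) : a * b = b * a := by
  have := h.hKab
  exact mul_comm' a b

/-- conjugation by `s` on `K`, in the form `s * x * s = x⁻¹`. -/
theorem sxs (h : BSWHyp t K s) {x : G} (hx : x ∈ K) : s * x * s = x⁻¹ := by
  have := h.hinv x hx
  rwa [h.s_inv] at this

theorem ss_mul (h : BSWHyp t K s) (x : G) : s * (s * x) = x := by
  rw [← mul_assoc, h.ss, one_mul]

theorem mul_ss (h : BSWHyp t K s) (x : G) : x * s * s = x := by
  rw [mul_assoc, h.ss, mul_one]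

theorem mem_H_iff (g : G) : g ∈ centralizer ({t} : Set G) ↔ t * g = g * t := by
  rw [mem_centralizer_iff]
  simp

/-- `t` is the only involution of `K`. -/
theorem unique_involution (h : BSWHyp t K s) {k : G} (hk : k ∈ K) (hkk : k * k = 1) :
    k = 1 ∨ k = t := by
  have hinv : k⁻¹ = k := inv_eq_of_mul_eq_one_left hkk
  have h1 : s * k * s⁻¹ = k := by rw [h.hinv k hk, hinv]
  have h2 : k ∈ centralizer ({s} : Set G) := by
    rw [mem_centralizer_iff]
    intro x hx
    rw [Set.mem_singleton_iff] at hx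
    subst hx
    have : x * k = x * k * x⁻¹ * x := by group
    rw [this, h1]
  have h3 : k ∈ K ⊓ centralizer ({s} : Set G) := ⟨hk, h2⟩
  rw [h.hCK] at h3
  obtain ⟨i, rfl⟩ := mem_zpowers_iff.mp h3
  rcases Int.emod_two_eq_zero_or_one i with hi | hi
  · left
    have : i = 2 * (i / 2) := by omega
    rw [this, zpow_mul, zpow_ofNat, sq, h.tt, one_zpow]
  · right
    have : i = 2 * (i / 2) + 1 := by omega
    rw [this, zpow_add, zpow_mul, zpow_ofNat, sq, h.tt, one_zpow, one_mul, zpow_one]

/-- The auxiliary subgroup `K ∪ sK`. -/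
def Hs (h : BSWHyp t K s) : Subgroup G where
  carrier := {g | g ∈ K ∨ s * g ∈ K}
  one_mem' := Or.inl K.one_mem
  mul_mem' := by
    rintro a b (ha | ha) (hb | hb)
    · exact Or.inl (K.mul_mem ha hb)
    · right
      have h3 : s * (a * b) = (s * a * s) * (s * b) := by
        have : (s * a * s) * (s * b) = s * a * (s * (s * b)) := by group
        rw [this, h.ss_mul]; group
      rw [h3, h.sxs ha]
      exact K.mul_mem (K.inv_mem ha) hb
    · right
      rw [← mul_assoc]
      exact K.mul_mem ha hb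
    · left
      have h3 : a * b = (s * (s * a) * s) * (s * b) := by
        have : (s * (s * a) * s) * (s * b) = s * (s * a) * (s * (s * b)) := by group
        rw [this, h.ss_mul, h.ss_mul]
      rw [h3, h.sxs ha]
      exact K.mul_mem (K.inv_mem ha) hb
  inv_mem' := by
    rintro a (ha | ha)
    · exact Or.inl (K.inv_mem ha)
    · right
      have h3 : s * a⁻¹ = (s * (s * a) * s)⁻¹ := by
        rw [h.ss_mul, mul_inv_rev, h.s_inv]
      rw [h3, h.sxs ha, inv_inv]
      exact ha

theorem mem_H_cases (h : BSWHyp t K s) {g : G} (hg : g ∈ centralizer ({t} : Set G)) :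
    g ∈ K ∨ s * g ∈ K := by
  have hle : K ⊔ zpowers s ≤ h.Hs := by
    apply sup_le
    · intro x hx; exact Or.inl hx
    · rw [zpowers_le]
      right
      show s * s ∈ K
      rw [h.ss]; exact K.one_mem
  rw [← h.hH] at hg
  exact hle hg

theorem K_le_H (h : BSWHyp t K s) : K ≤ centralizer ({t} : Set G) := h.hKH

theorem mul_mem_H (h : BSWHyp t K s) {k : G} (hk : k ∈ K) : s * k ∈ centralizer ({t} : Set G) :=
  (centralizer ({t} : Set G)).mul_mem h.hsH (h.hKH hk)

theorem mul_not_mem_K (h : BSWHyp t K s) {k : G} (hk : k ∈ K) : s * k ∉ K := by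
  intro h1
  apply h.hsK
  have := K.mul_mem h1 (K.inv_mem hk)
  simpa using this

/-- Elements of `H ∖ K` are involutions. -/
theorem involution_of_not_mem (h : BSWHyp t K s) {g : G} (hg : g ∈ centralizer ({t} : Set G))
    (hgK : g ∉ K) : g * g = 1 ∧ g ≠ 1 := by
  rcases h.mem_H_cases hg with h1 | h1
  · exact absurd h1 hgK
  · constructor
    · have h3 : g * g = (s * (s * g) * s) * (s * g) := by
        have : (s * (s * g) * s) * (s * g) = s * (s * g) * (s * (s * g)) := by group
        rw [this, h.ss_mul]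
      rw [h3, h.sxs h1, inv_mul_cancel]
    · intro h2
      exact hgK (h2 ▸ K.one_mem)

theorem orderOf_eq_two_iff {u : G} : orderOf u = 2 ↔ u * u = 1 ∧ u ≠ 1 := by
  constructor
  · intro h
    constructor
    · have := pow_orderOf_eq_one u
      rwa [h, sq] at this
    · intro h1
      rw [h1, orderOf_one] at h
      norm_num at h
  · rintro ⟨h1, h2⟩
    exact orderOf_eq_prime (by rw [sq]; exact h1) h2

theorem isConj_t_iff (h : BSWHyp t K s) (u : G) : IsConj t u ↔ orderOf u = 2 := by
  constructor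
  · intro hc
    obtain ⟨g, hg⟩ := isConj_iff.mp hc
    rw [← hg]
    have : orderOf (g * t * g⁻¹) = orderOf t := by
      have := orderOf_injective (MulAut.conj g).toMonoidHom (MulAut.conj g).injective t
      simpa using this
    rw [this, h.ht]
  · intro hu
    exact h.hconj t u h.ht hu

/-- The fusion control coming from the T.I. hypothesis. -/
theorem mem_H_of_conj (h : BSWHyp t K s) {g k : G} (hk : k ∈ K) (hk1 : k ≠ 1)
    (hg : g⁻¹ * k * g ∈ K) : g ∈ centralizer ({t} : Set G) := by
  by_contra hgH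
  have h1 := h.hTI g hgH
  have h2 : k ∈ K ⊓ K.map (MulAut.conj g).toMonoidHom := by
    refine ⟨hk, ?_⟩
    show k ∈ K.map (MulAut.conj g).toMonoidHom
    rw [mem_map]
    refine ⟨g⁻¹ * k * g, hg, ?_⟩
    simp only [MulEquiv.coe_toMonoidHom, MulAut.conj_apply]
    group
  rw [h1, mem_bot] at h2
  exact hk1 h2

theorem mem_H_of_conj' (h : BSWHyp t K s) {g k : G} (hk : k ∈ K) (hk1 : k ≠ 1)
    (hg : g * k * g⁻¹ ∈ K) : g ∈ centralizer ({t} : Set G) := by
  have : g⁻¹ ∈ centralizer ({t} : Set G) := by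
    apply h.mem_H_of_conj hk hk1
    simpa using hg
  simpa using (centralizer ({t} : Set G)).inv_mem this

/-- `H` normalizes `K`. -/
theorem conj_mem_K (h : BSWHyp t K s) {g x : G} (hg : g ∈ centralizer ({t} : Set G)) (hx : x ∈ K) :
    g⁻¹ * x * g ∈ K := by
  rcases h.mem_H_cases hg with h1 | h1
  · exact K.mul_mem (K.mul_mem (K.inv_mem h1) hx) h1
  · have h2 : g⁻¹ * x * g = (s * g)⁻¹ * (s * x * s) * (s * g) := by
      have : (s * g)⁻¹ * (s * x * s) * (s * g) = g⁻¹ * (s⁻¹ * s) * x * (s * (s * g)) := by group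
      rw [this, h.ss_mul]; group
    rw [h2, h.sxs hx]
    exact K.mul_mem (K.mul_mem (K.inv_mem h1) (K.inv_mem hx)) h1

theorem specialData (h : BSWHyp t K s) (lam : K →* ℂˣ) :
    SpecialData K (centralizer ({t} : Set G)) lam s where
  le := h.hKH
  hb := h.hsH
  hbC := h.hsK
  cases := by
    intro g hg
    rw [h.s_inv]
    exact h.mem_H_cases hg
  norm := fun g hg x hx => h.conj_mem_K hg hx
  inv := by
    intro x hx
    have h1 : (⟨s⁻¹ * (x : G) * s, hx⟩ : K) = x⁻¹ := by
      apply Subtype.ext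
      show s⁻¹ * (x : G) * s = ((x⁻¹ : K) : G)
      rw [h.s_inv, h.sxs x.2]
      rfl
    rw [h1, map_inv]
  control := by
    intro g x hx hg
    apply h.mem_H_of_conj x.2 _ hg
    intro h1
    apply hx
    have : x = 1 := Subtype.ext h1
    rw [this, map_one]

end BSWHyp

end Cfsg.Agent.Lib.H8
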