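import Cfsg.Agent.Lib.H8.BSWBasic

/-!
# Brauer–Suzuki–Wall (S3282): orders and involution counts
-/

set_option autoImplicit false

namespace Cfsg.Agent.Lib.H8

open Cfsg Cfsg.Agent.Lib.L0 Subgroup
open scoped ComplexConjugate

variable {G : Type*} [Group G] {t : G} {K : Subgroup G} {s : G}

namespace BSWHyp

variable [Finite G]

omit [Finite G] in
theorem card_H (h : BSWHyp t K s) : Nat.card (centralizer ({t} : Set G)) = 2 * Nat.card K := by
  have hidx : (K.subgroupOf (centralizer ({t} : Set G))).index = 2 := by
    rw [Subgroup.index_eq_two_iff]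
    refine ⟨⟨s, h.hsH⟩, ?_⟩
    intro b
    simp only [mem_subgroupOf, coe_mul]
    rcases h.mem_H_cases b.2 with hb | hb
    · right
      refine ⟨hb, ?_⟩
      intro h1
      apply h.hsK
      have := K.mul_mem (K.inv_mem hb) h1
      simpa using this
    · left
      constructor
      · have : (b : G) * s = s * (s * b) * s := by rw [h.ss_mul]
        rw [this, h.sxs hb]
        exact K.inv_mem hb
      · intro h1
        exact h.mul_not_mem_K h1 hb
  have h1 := Subgroup.card_mul_index (K.subgroupOf (centralizer ({t} : Set G)))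
  rw [hidx] at h1
  have h2 : Nat.card (K.subgroupOf (centralizer ({t} : Set G))) = Nat.card K :=
    Nat.card_congr (Subgroup.subgroupOfEquivOfLe h.hKH).toEquiv
  rw [h2] at h1
  omega

omit [Finite G] in
theorem card_conj_t (h : BSWHyp t K s) :
    Nat.card {x : G // IsConj t x} * (2 * Nat.card K) = Nat.card G := by
  rw [← Cfsg.Agent.Lib.H24.index_centralizer_eq_card_conj, ← h.card_H, mul_comm]
  exact Subgroup.card_mul_index _

omit [Finite G] in
theorem even_card (h : BSWHyp t K s) : Even (Nat.card G) := by
  have := orderOf_dvd_natCard t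
  rw [h.ht] at this
  exact (even_iff_two_dvd).mpr this

/-- The number of involutions is odd. -/
theorem odd_card_conj_t (h : BSWHyp t K s) : Odd (Nat.card {x : G // IsConj t x}) := by
  classical
  have := Fintype.ofFinite G
  let f : Function.End G := fun x => x⁻¹
  have hf : f ^ 2 ^ 1 = 1 := by
    rw [pow_one, sq]
    funext x
    show (x⁻¹)⁻¹ = x
    simp
  have hp : Fact (Nat.Prime 2) := ⟨Nat.prime_two⟩
  have h1 := Equiv.Perm.card_fixedPoints_modEq (p := 2) (n := 1) hf
  have h2 : Fintype.card (Function.fixedPoints f)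
      = Nat.card {x : G // IsConj t x} + 1 := by
    rw [← Nat.card_eq_fintype_card]
    have e : Function.fixedPoints f ≃ Option {x : G // IsConj t x} :=
      { toFun := fun x => if hx : (x : G) = 1 then none else some ⟨x, by
          rw [h.isConj_t_iff, orderOf_eq_two_iff]
          refine ⟨?_, hx⟩
          have hx2 : (x : G)⁻¹ = x := x.2
          calc (x : G) * x = (x : G)⁻¹ * x := by rw [hx2]
            _ = 1 := inv_mul_cancel _⟩
        invFun := fun o => match o with
          | none => ⟨1, by show (1 : G)⁻¹ = 1; simp⟩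
          | some x => ⟨x, by
              show (x : G)⁻¹ = x
              have := (h.isConj_t_iff _).mp x.2
              rw [orderOf_eq_two_iff] at this
              exact inv_eq_of_mul_eq_one_left this.1⟩
        left_inv := by
          intro x
          by_cases hx : (x : G) = 1
          · simp only [hx, dite_true]
            exact Subtype.ext hx.symm
          · simp only [hx, dite_false]
        right_inv := by
          intro o
          cases o with
          | none => simp
          | some x =>
            have hx1 : (x : G) ≠ 1 := by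
              have := (h.isConj_t_iff _).mp x.2
              rw [orderOf_eq_two_iff] at this
              exact this.2
            simp [hx1] }
    rw [Nat.card_congr e, Nat.card_eq_fintype_card, Fintype.card_option,
      ← Nat.card_eq_fintype_card]
  rw [h2, ← Nat.card_eq_fintype_card] at h1
  have h3 := h.even_card
  rw [Nat.odd_iff]
  rw [Nat.even_iff] at h3
  have h4 : Nat.card G % 2 = (Nat.card {x : G // IsConj t x} + 1) % 2 := h1
  omega

omit [Finite G] in
theorem invPairs_eq (h : BSWHyp t K s) (y : G) :
    invPairs y = Nat.card {p : G × G // IsConj t p.1 ∧ IsConj t p.2 ∧ p.1 * p.2 = y} := by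
  unfold invPairs
  refine Nat.card_congr (Equiv.subtypeEquivRight fun p => ?_)
  rw [h.isConj_t_iff, h.isConj_t_iff]

omit [Finite G] in
/-- If `u v` are involutions with product in `K ∖ 1` then `u ∈ H ∖ K`. -/
theorem pair_mem (h : BSWHyp t K s) {u v y : G} (hu : orderOf u = 2) (hv : orderOf v = 2)
    (huv : u * v = y) (hy : y ∈ K) (hy1 : y ≠ 1) :
    u ∈ centralizer ({t} : Set G) ∧ u ∉ K := by
  rw [orderOf_eq_two_iff] at hu hv
  have huinv : u⁻¹ = u := inv_eq_of_mul_eq_one_left hu.1
  have hvinv : v⁻¹ = v := inv_eq_of_mul_eq_one_left hv.1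
  have hconj : u * y * u⁻¹ = y⁻¹ := by
    rw [← huv, mul_inv_rev, huinv, hvinv]
    calc u * (u * v) * u = (u * u) * v * u := by group
      _ = v * u := by rw [hu.1, one_mul]
  have huH : u ∈ centralizer ({t} : Set G) := by
    apply h.mem_H_of_conj' hy hy1
    rw [hconj]; exact K.inv_mem hy
  refine ⟨huH, ?_⟩
  intro huK
  rcases h.unique_involution huK hu.1 with h1 | h1
  · exact hu.2 h1
  · -- u = t centralizes y, so y = y⁻¹, y = t, v = 1
    have h2 : u * y * u⁻¹ = y := by
      rw [h.comm huK hy]; group
    rw [hconj] at h2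
    have h3 : y * y = 1 := by
      calc y * y = y⁻¹ * y := by rw [h2]
        _ = 1 := inv_mul_cancel _
    rcases h.unique_involution hy h3 with h4 | h4
    · exact hy1 h4
    · apply hv.2
      have : v = u⁻¹ * y := by rw [← huv]; group
      rw [this, h1, h4, inv_mul_cancel]

omit [Finite G] in
/-- The number of ways to write `y ∈ K ∖ 1` as a product of two involutions is `|K|`. -/
theorem card_pairs (h : BSWHyp t K s) {y : G} (hy : y ∈ K) (hy1 : y ≠ 1) :
    Nat.card {p : G × G // IsConj t p.1 ∧ IsConj t p.2 ∧ p.1 * p.2 = y} = Nat.card K := by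
  have hinvol : ∀ k : G, k ∈ K → orderOf (s * k) = 2 := by
    intro k hk
    rw [orderOf_eq_two_iff]
    exact h.involution_of_not_mem (h.mul_mem_H hk) (h.mul_not_mem_K hk)
  refine Nat.card_congr
    { toFun := fun p => ⟨s * p.1.1, ?_⟩
      invFun := fun k => ⟨(s * k, (s * k)⁻¹ * y), ?_, ?_, ?_⟩
      left_inv := ?_
      right_inv := ?_ }
  · obtain ⟨⟨u, v⟩, hu, hv, huv⟩ := p
    rw [h.isConj_t_iff] at hu hv
    obtain ⟨huH, huK⟩ := h.pair_mem hu hv huv hy hy1
    rcases h.mem_H_cases huH with h1 | h1
    · exact absurd h1 huK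
    · exact h1
  · rw [h.isConj_t_iff]; exact hinvol k k.2
  · rw [h.isConj_t_iff]
    have hk2 := hinvol k k.2
    rw [orderOf_eq_two_iff] at hk2
    have : (s * (k : G))⁻¹ = s * k := inv_eq_of_mul_eq_one_left hk2.1
    show orderOf ((s * (k : G))⁻¹ * y) = 2
    rw [this, mul_assoc]
    exact hinvol _ (K.mul_mem k.2 hy)
  · show s * (k : G) * ((s * (k : G))⁻¹ * y) = y
    group
  · rintro ⟨⟨u, v⟩, hu, hv, huv⟩
    apply Subtype.ext
    simp only
    have h1 : s * (s * u) = u := h.ss_mul u
    rw [Prod.mk.injEq]
    refine ⟨h1, ?_⟩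
    rw [h1, ← huv]; group
  · intro k
    apply Subtype.ext
    exact h.ss_mul k

end BSWHyp

end Cfsg.Agent.Lib.H8
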