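import Cfsg.Agent.Lib.H8.BSWOrder

/-!
# Brauer–Suzuki–Wall (S3282): the lower bound `(|K| - 1) (X(1) + δ)² ≤ 2 |G|`
-/

set_option autoImplicit false

namespace Cfsg.Agent.Lib.H8.BSW

open Cfsg Cfsg.Agent.Lib.L0 Cfsg.Agent.Lib.H8 Cfsg.Agent.Lib.H24 Subgroup
open scoped ComplexConjugate Classical

variable {G : Type*} [Group G] [Fintype G] {t : G} {K : Subgroup G} {s : G} [Fintype K]

/-- `T = ∑_ν Θ_ν`. -/
noncomputable def TT (K : Subgroup G) [Fintype K] : G → ℂ := ∑ ν : K →* ℂˣ, Theta K ν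

omit [Fintype G] [Fintype K] in
theorem eq_inv_iff_hom (μ ν : K →* ℂˣ) : μ = ν⁻¹ ↔ ν = μ⁻¹ := by
  constructor
  · intro hc
    ext x
    rw [hc, hom_inv_apply, hom_inv_apply, inv_inv]
  · intro hc
    ext x
    rw [hc, hom_inv_apply, hom_inv_apply, inv_inv]

theorem classInner_Theta_Theta_all (h : BSWHyp t K s) (μ ν : K →* ℂˣ) :
    classInner (Theta K μ) (Theta K ν)
      = if μ = 1 then 0 else ((if ν = 1 then 0 else 2) + (if ν = μ then 1 else 0)
          + (if ν = μ⁻¹ then 1 else 0)) := by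
  by_cases h1 : μ = 1
  · rw [if_pos h1, h1, Theta_one, classInner_zero_left]
  · rw [if_neg h1]
    by_cases h2 : ν = 1
    · have e1 : ¬ (ν = μ) := by rw [h2]; exact Ne.symm h1
      have e2 : ¬ (ν = μ⁻¹) := by
        rw [h2]; intro hc; exact h1 (hom_eq_one_of_inv_eq_one hc.symm)
      rw [if_pos h2, if_neg e1, if_neg e2, h2, Theta_one, classInner_zero_right]
      ring
    · rw [if_neg h2, classInner_Theta_Theta h μ ν h1 h2]
      have e1 : (μ = ν) = (ν = μ) := propext ⟨Eq.symm, Eq.symm⟩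
      have e2 : (μ = ν⁻¹) = (ν = μ⁻¹) := propext (eq_inv_iff_hom μ ν)
      simp only [e1, e2]

theorem classInner_Theta_TT (h : BSWHyp t K s) (μ : K →* ℂˣ) :
    classInner (Theta K μ) (TT K) = if μ = 1 then 0 else 2 * (Fintype.card K : ℂ) := by
  unfold TT
  rw [classInner_sum_right]
  simp only [classInner_Theta_Theta_all h μ]
  split_ifs with h1
  · simp
  · simp only [Finset.sum_add_distrib, Finset.sum_ite_eq', Finset.mem_univ, if_true,
      sum_dual_ne_one h]
    ring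

theorem classInner_TT_TT (h : BSWHyp t K s) :
    classInner (TT K) (TT K) = 2 * (Fintype.card K : ℂ) * ((Fintype.card K : ℂ) - 1) := by
  have e : classInner (TT K) (TT K) = classInner (∑ ν : K →* ℂˣ, Theta K ν) (TT K) := rfl
  rw [e, classInner_sum_left]
  simp only [classInner_Theta_TT h, sum_dual_ne_one h]
  ring

theorem classInner_TT_one (h : BSWHyp t K s) :
    classInner (TT K) (1 : G → ℂ) = (Fintype.card K : ℂ) - 1 := by
  unfold TT
  rw [classInner_sum_left]
  have h1 : ∀ ν : K →* ℂˣ, classInner (Theta K ν) (1 : G → ℂ) = if ν = 1 then 0 else 1 := by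
    intro ν
    split_ifs with h1
    · rw [h1, Theta_one, classInner_zero_left]
    · exact classInner_Theta_one h ν h1
  simp only [h1, sum_dual_ne_one h]
  ring

theorem TT_apply_one (h : BSWHyp t K s) : TT K (1 : G) = 0 := by
  unfold TT
  rw [Finset.sum_apply]
  exact Finset.sum_eq_zero fun ν _ => Theta_apply_one h ν

section
variable {h : BSWHyp t K s} {δ : ℤ} {X : IrrCharacter G} (sh : Shape h δ X)

include sh in
theorem Shape.classInner_TT_X :
    classInner (TT K) (X : G → ℂ) = ((Fintype.card K : ℂ) - 1) * (δ : ℂ) := by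
  unfold TT
  rw [classInner_sum_left]
  simp only [sh.inner_all, sum_dual_ne_one h]

include sh in
/-- The lower bound `(|K| - 1) (X(1) + δ)² ≤ 2 |G|`. -/
theorem Shape.bound (nx : ℕ) (hnx : (X : G → ℂ) 1 = (nx : ℂ)) :
    ((Fintype.card K : ℤ) - 1) * ((nx : ℤ) + δ) ^ 2 ≤ 2 * (Fintype.card G : ℤ) := by
  have hd := sh.δ_sq
  have hconjδ : conj (δ : ℂ) = (δ : ℂ) := map_intCast _ _
  set N : ℂ := (Fintype.card K : ℂ) - 1 with hN
  have hconjN : conj N = N := by
    rw [hN, map_sub, map_natCast, map_one]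
  set V : G → ℂ := ((δ : ℂ) * N) • (1 : G → ℂ) + N • (X : G → ℂ) - (δ : ℂ) • TT K with hV
  have h11 : classInner (1 : G → ℂ) (1 : G → ℂ) = 1 := by
    rw [← oneIrr_coe]; exact irr_classInner_self (oneIrr G).2
  have h1X : classInner (1 : G → ℂ) (X : G → ℂ) = 0 := by
    rw [← oneIrr_coe, irr_inner_eq, if_neg (Ne.symm sh.hX1)]
  have hX1 : classInner (X : G → ℂ) (1 : G → ℂ) = 0 := by
    rw [← oneIrr_coe, irr_inner_eq, if_neg sh.hX1]
  have hXX : classInner (X : G → ℂ) (X : G → ℂ) = 1 := irr_classInner_self X.2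
  have hT1 := classInner_TT_one h
  have h1T : classInner (1 : G → ℂ) (TT K) = N := by
    rw [← classInner_conj_symm, hT1, hconjN]
  have hTX := sh.classInner_TT_X
  have hXT : classInner (X : G → ℂ) (TT K) = N * (δ : ℂ) := by
    rw [← classInner_conj_symm, hTX, map_mul, hconjN, hconjδ]
  have hTT := classInner_TT_TT h
  have hVV : classInner V V = 2 * N := by
    rw [hV]
    simp only [classInner_sub_left, classInner_sub_right, classInner_add_left,
      classInner_add_right, classInner_smul_left, classInner_smul_right, map_mul, hconjδ, hconjN,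
      h11, h1X, hX1, hXX, hT1, h1T, hTX, hXT, hTT]
    linear_combination (2 * N - N ^ 2) * hd
  have hV1 : V 1 = N * ((nx : ℂ) + (δ : ℂ)) := by
    rw [hV]
    simp only [Pi.add_apply, Pi.sub_apply, Pi.smul_apply, Pi.one_apply, smul_eq_mul,
      TT_apply_one h, hnx]
    ring
  have hself := classInner_self_eq V
  rw [hVV] at hself
  set NR : ℝ := (Fintype.card K : ℝ) - 1 with hNR
  have hNNR : N = (NR : ℂ) := by rw [hN, hNR]; push_cast; ring
  have hreal : 2 * NR = (Nat.card G : ℝ)⁻¹ * ∑ g : G, ‖V g‖ ^ 2 := by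
    have : ((2 * NR : ℝ) : ℂ) = (((Nat.card G : ℝ)⁻¹ * ∑ g : G, ‖V g‖ ^ 2 : ℝ) : ℂ) := by
      rw [← hself, hNNR]; push_cast; ring
    exact Complex.ofReal_injective this
  have hGpos : (0 : ℝ) < (Nat.card G : ℝ) := by
    rw [Nat.card_eq_fintype_card]; exact_mod_cast Fintype.card_pos (α := G)
  have hsum : ∑ g : G, ‖V g‖ ^ 2 = 2 * NR * (Nat.card G : ℝ) := by
    rw [hreal]; field_simp
  have hle : ‖V 1‖ ^ 2 ≤ ∑ g : G, ‖V g‖ ^ 2 :=
    Finset.single_le_sum (f := fun g => ‖V g‖ ^ 2) (fun g _ => sq_nonneg _) (Finset.mem_univ 1)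
  have hV1R : V 1 = ((NR * ((nx : ℝ) + (δ : ℝ)) : ℝ) : ℂ) := by
    rw [hV1, hNNR]; push_cast; ring
  rw [hV1R, Complex.norm_real, Real.norm_eq_abs, sq_abs, hsum, Nat.card_eq_fintype_card] at hle
  have hNR0 : 0 ≤ NR := by
    rw [hNR]
    have : (1 : ℝ) ≤ (Fintype.card K : ℝ) := by exact_mod_cast Fintype.card_pos (α := K)
    linarith
  have hfin : NR * ((nx : ℝ) + (δ : ℝ)) ^ 2 ≤ 2 * (Fintype.card G : ℝ) := by
    rcases hNR0.lt_or_eq with hpos | h0
    · have : NR * (NR * ((nx : ℝ) + (δ : ℝ)) ^ 2) ≤ NR * (2 * (Fintype.card G : ℝ)) := by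
        nlinarith
      exact le_of_mul_le_mul_left this hpos
    · rw [← h0]; simp
  have : (((Fintype.card K : ℤ) - 1) * ((nx : ℤ) + δ) ^ 2 : ℤ) ≤ ((2 * (Fintype.card G : ℤ) : ℤ)) := by
    have hcast : ((((Fintype.card K : ℤ) - 1) * ((nx : ℤ) + δ) ^ 2 : ℤ) : ℝ)
        ≤ ((2 * (Fintype.card G : ℤ) : ℤ) : ℝ) := by
      push_cast
      rw [hNR] at hfin
      exact hfin
    exact_mod_cast hcast
  exact this

end

end Cfsg.Agent.Lib.H8.BSW
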