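import Cfsg.Agent.Lib.H8.BSWLfun

/-!
# Brauer–Suzuki–Wall (S3282): the common constituent of the `Θ_ν`, `ν` non-real
-/

set_option autoImplicit false

namespace Cfsg.Agent.Lib.H8.BSW

open Cfsg Cfsg.Agent.Lib.L0 Cfsg.Agent.Lib.H8 Cfsg.Agent.Lib.H24 Subgroup
open scoped ComplexConjugate

variable {G : Type*} [Group G] [Fintype G] {t : G} {K : Subgroup G} {s : G} [Fintype K]

omit [Fintype G] [Fintype K] in
theorem exists_sq_ne_one {ν : K →* ℂˣ} (hν : ν * ν ≠ 1) : ∃ x : K, ν x * ν x ≠ 1 := by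
  by_contra hcon
  push Not at hcon
  apply hν
  ext x
  rw [MonoidHom.mul_apply, hcon x]; rfl

omit [Fintype G] [Fintype K] in
theorem ne_one_of_sq_ne_one {ν : K →* ℂˣ} (hν : ν * ν ≠ 1) : ν ≠ 1 := by
  rintro rfl
  exact hν (one_mul (1 : K →* ℂˣ))

omit [Fintype G] [Fintype K] in
theorem hom_mul_inv (ν : K →* ℂˣ) : ν * ν⁻¹ = 1 := by
  ext x
  rw [MonoidHom.mul_apply, MonoidHom.inv_apply, mul_inv_cancel]; rfl

omit [Fintype G] [Fintype K] in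
theorem hom_inv_apply (ν : K →* ℂˣ) (x : K) : (ν⁻¹) x = (ν x)⁻¹ := rfl

omit [Fintype G] [Fintype K] in
theorem hom_eq_one_of_inv_eq_one {ν : K →* ℂˣ} (hc : ν⁻¹ = 1) : ν = 1 := by
  ext x
  have h1 : (ν⁻¹) x = (1 : K →* ℂˣ) x := by rw [hc]
  rw [hom_inv_apply, MonoidHom.one_apply, inv_eq_one] at h1
  rw [h1]; rfl

omit [Fintype G] [Fintype K] in
theorem hom_eq_of_inv_eq {ν σ : K →* ℂˣ} (hσσ : σ * σ = 1) (hc : ν⁻¹ = σ) : ν = σ := by
  ext x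
  have h1 : (ν⁻¹) x = σ x := by rw [hc]
  have h2 : (σ * σ) x = (1 : K →* ℂˣ) x := by rw [hσσ]
  rw [MonoidHom.mul_apply, MonoidHom.one_apply] at h2
  rw [hom_inv_apply] at h1
  have h3 : ν x = (σ x)⁻¹ := by rw [← h1, inv_inv]
  have h4 : (σ x)⁻¹ = σ x := inv_eq_of_mul_eq_one_left h2
  rw [h3, h4]

omit [Fintype G] [Fintype K] in
theorem ne_inv_of_sq_ne_one {ν : K →* ℂˣ} (hν : ν * ν ≠ 1) : ν ≠ ν⁻¹ := by
  intro hc
  apply hν
  have : ν * ν = ν * ν⁻¹ := by rw [← hc]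
  rw [this, hom_mul_inv]

omit [Fintype G] [Fintype K] in
theorem oneIrr_coe : ((oneIrr G : IrrCharacter G) : G → ℂ) = 1 := rfl

omit [Fintype K] in
/-- The decomposition `Θ_ν = 1 + A - B` for non-real `ν`. -/
theorem exists_AB (h : BSWHyp t K s) (ν : K →* ℂˣ) (hν : ν * ν ≠ 1) :
    ∃ A B : IrrCharacter G, A ≠ oneIrr G ∧ B ≠ oneIrr G ∧ A ≠ B ∧
      (B : G → ℂ) 1 = (A : G → ℂ) 1 + 1 ∧
      Theta K ν = 1 + (A : G → ℂ) - (B : G → ℂ) := by
  obtain ⟨χ₁, χ₂, h1, h2, hne1, hne2, hne, hdeg, heq⟩ :=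
    (h.specialData ν).exists_decomp (exists_sq_ne_one hν)
  refine ⟨⟨χ₂, h2⟩, ⟨χ₁, h1⟩, ?_, ?_, ?_, hdeg, heq⟩
  · intro hc; exact hne2 (congrArg Subtype.val hc)
  · intro hc; exact hne1 (congrArg Subtype.val hc)
  · intro hc; exact hne (congrArg Subtype.val hc).symm

open scoped Classical in
theorem classInner_one_add_sub (A B C D : IrrCharacter G) (hA : A ≠ oneIrr G) (hB : B ≠ oneIrr G)
    (hC : C ≠ oneIrr G) (hD : D ≠ oneIrr G) :
    classInner (1 + (A : G → ℂ) - (B : G → ℂ)) (1 + (C : G → ℂ) - (D : G → ℂ))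
      = ((1 + (kd A C - kd A D - kd B C + kd B D) : ℤ) : ℂ) := by
  have e1 : (1 : G → ℂ) + (A : G → ℂ) - (B : G → ℂ)
      = (oneIrr G : G → ℂ) + ((A : G → ℂ) - (B : G → ℂ)) := by rw [oneIrr_coe]; abel
  have e2 : (1 : G → ℂ) + (C : G → ℂ) - (D : G → ℂ)
      = (oneIrr G : G → ℂ) + ((C : G → ℂ) - (D : G → ℂ)) := by rw [oneIrr_coe]; abel
  have o : ∀ E : IrrCharacter G, E ≠ oneIrr G →
      classInner ((oneIrr G : IrrCharacter G) : G → ℂ) (E : G → ℂ) = 0 ∧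
      classInner (E : G → ℂ) ((oneIrr G : IrrCharacter G) : G → ℂ) = 0 := by
    intro E hE
    exact ⟨irr_classInner_ne (oneIrr G).2 E.2 (fun hc => hE (Subtype.ext hc).symm),
      irr_classInner_ne E.2 (oneIrr G).2 (fun hc => hE (Subtype.ext hc))⟩
  rw [e1, e2, classInner_add_left, classInner_add_right, classInner_add_right,
    classInner_irr_sub_irr, irr_classInner_self (oneIrr G).2, classInner_sub_right,
    classInner_sub_left, (o C hC).1, (o D hD).1, (o A hA).2, (o B hB).2]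
  push_cast
  ring

omit [Fintype G] in
theorem kd_le_one {X : Type*} [DecidableEq X] (x y : X) : kd x y ≤ 1 := by
  unfold kd; split_ifs <;> omega

omit [Fintype G] in
theorem kd_eq_one_iff {X : Type*} [DecidableEq X] (x y : X) : kd x y = 1 ↔ x = y := by
  unfold kd; split_ifs with h <;> simp [h]

/-- Two non-real characters: the decompositions share `A` or `B`. -/
theorem share_AB (h : BSWHyp t K s) {μ ν : K →* ℂˣ} (hμ : μ * μ ≠ 1) (hν : ν * ν ≠ 1)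
    {A B C D : IrrCharacter G} (hA : A ≠ oneIrr G) (hB : B ≠ oneIrr G)
    (hC : C ≠ oneIrr G) (hD : D ≠ oneIrr G) (hAB : A ≠ B) (hCD : C ≠ D)
    (e1 : Theta K μ = 1 + (A : G → ℂ) - (B : G → ℂ))
    (e2 : Theta K ν = 1 + (C : G → ℂ) - (D : G → ℂ)) :
    (A = C ∨ B = D) ∧ ((μ = ν ∨ μ = ν⁻¹) → A = C ∧ B = D) ∧
      ((μ ≠ ν ∧ μ ≠ ν⁻¹) → ¬ (A = C ∧ B = D)) := by
  classical
  have h1 := classInner_Theta_Theta h μ ν (ne_one_of_sq_ne_one hμ) (ne_one_of_sq_ne_one hν)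
  rw [e1, e2, classInner_one_add_sub A B C D hA hB hC hD] at h1
  have hνν : ν ≠ ν⁻¹ := ne_inv_of_sq_ne_one hν
  have hAD := kd_nonneg A D
  have hBC := kd_nonneg B C
  have hAC := kd_le_one A C
  have hBD := kd_le_one B D
  have hAC0 := kd_nonneg A C
  have hBD0 := kd_nonneg B D
  by_cases c1 : μ = ν
  · have c2 : μ ≠ ν⁻¹ := by rw [c1]; exact hνν
    rw [if_pos c1, if_neg c2] at h1
    have h2 : (1 + (kd A C - kd A D - kd B C + kd B D) : ℤ) = 3 := by exact_mod_cast h1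
    have hac : kd A C = 1 := by omega
    have hbd : kd B D = 1 := by omega
    rw [kd_eq_one_iff] at hac hbd
    exact ⟨Or.inl hac, fun _ => ⟨hac, hbd⟩, fun hc => absurd c1 hc.1⟩
  · by_cases c2 : μ = ν⁻¹
    · rw [if_neg c1, if_pos c2] at h1
      have h2 : (1 + (kd A C - kd A D - kd B C + kd B D) : ℤ) = 3 := by exact_mod_cast h1
      have hac : kd A C = 1 := by omega
      have hbd : kd B D = 1 := by omega
      rw [kd_eq_one_iff] at hac hbd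
      exact ⟨Or.inl hac, fun _ => ⟨hac, hbd⟩, fun hc => absurd c2 hc.2⟩
    · rw [if_neg c1, if_neg c2] at h1
      have h2 : (1 + (kd A C - kd A D - kd B C + kd B D) : ℤ) = 2 := by exact_mod_cast h1
      refine ⟨?_, fun hc => ?_, fun _ => ?_⟩
      · by_contra hcon
        push Not at hcon
        rw [kd_of_ne hcon.1, kd_of_ne hcon.2] at h2
        omega
      · rcases hc with hc | hc
        · exact absurd hc c1
        · exact absurd hc c2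
      · rintro ⟨rfl, rfl⟩
        rw [kd_of_ne hAB, kd_of_ne hAB.symm] at h2
        have : kd A A = 1 := (kd_eq_one_iff A A).mpr rfl
        have : kd B B = 1 := (kd_eq_one_iff B B).mpr rfl
        omega

/-- The non-real `Θ_ν` share the constituent `X` with sign `δ`:
`Θ_ν = 1 + δ X - δ Y_ν`. -/
structure PreCommon (K : Subgroup G) (δ : ℤ) (X : IrrCharacter G)
    (Y : (K →* ℂˣ) → IrrCharacter G) : Prop where
  hδ : δ = 1 ∨ δ = -1
  hX1 : X ≠ oneIrr G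
  hY1 : ∀ ν : K →* ℂˣ, ν * ν ≠ 1 → Y ν ≠ oneIrr G
  hXY : ∀ ν : K →* ℂˣ, ν * ν ≠ 1 → Y ν ≠ X
  deg : ∀ ν : K →* ℂˣ, ν * ν ≠ 1 → (Y ν : G → ℂ) 1 = (X : G → ℂ) 1 + (δ : ℂ)
  eq : ∀ ν : K →* ℂˣ, ν * ν ≠ 1 →
    Theta K ν = 1 + (δ : ℂ) • (X : G → ℂ) - (δ : ℂ) • (Y ν : G → ℂ)
  hYY : ∀ μ ν : K →* ℂˣ, μ * μ ≠ 1 → ν * ν ≠ 1 → (Y μ = Y ν ↔ (μ = ν ∨ μ = ν⁻¹))

omit [Fintype G] [Fintype K] in
theorem common_of_share {ι X : Type*} (a b : ι → X) (hab : ∀ i j, a i = a j ∨ b i = b j)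
    (i₀ : ι) : (∀ j, a j = a i₀) ∨ (∀ j, b j = b i₀) := by
  by_contra hcon
  push Not at hcon
  obtain ⟨⟨j, hj⟩, ⟨k, hk⟩⟩ := hcon
  have hbj : b j = b i₀ := (hab j i₀).resolve_left hj
  have hak : a k = a i₀ := (hab k i₀).resolve_right hk
  rcases hab j k with h1 | h1
  · exact hj (h1.trans hak)
  · exact hk (h1.symm.trans hbj)

/-- Existence of a common constituent for the non-real `Θ_ν`; when both alternatives hold
(a single pair of non-real characters) both decompositions are available. -/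
theorem exists_preCommon (h : BSWHyp t K s) (ν₀ : K →* ℂˣ) (hν₀ : ν₀ * ν₀ ≠ 1) :
    ∃ A B : (K →* ℂˣ) → IrrCharacter G,
      ((∀ ν : K →* ℂˣ, ν * ν ≠ 1 → A ν = A ν₀) → PreCommon K 1 (A ν₀) B) ∧
      ((∀ ν : K →* ℂˣ, ν * ν ≠ 1 → B ν = B ν₀) → PreCommon K (-1) (B ν₀) A) ∧
      ((∀ ν : K →* ℂˣ, ν * ν ≠ 1 → A ν = A ν₀) ∨ (∀ ν : K →* ℂˣ, ν * ν ≠ 1 → B ν = B ν₀)) ∧
      (∀ ν : K →* ℂˣ, ν * ν ≠ 1 → (ν = ν₀ ∨ ν = ν₀⁻¹) → A ν = A ν₀ ∧ B ν = B ν₀) := by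
  classical
  have hex : ∀ ν : K →* ℂˣ, ∃ AB : IrrCharacter G × IrrCharacter G, ν * ν ≠ 1 →
      AB.1 ≠ oneIrr G ∧ AB.2 ≠ oneIrr G ∧ AB.1 ≠ AB.2 ∧
      (AB.2 : G → ℂ) 1 = (AB.1 : G → ℂ) 1 + 1 ∧
      Theta K ν = 1 + (AB.1 : G → ℂ) - (AB.2 : G → ℂ) := by
    intro ν
    by_cases hν : ν * ν ≠ 1
    · obtain ⟨A, B, h1, h2, h3, h4, h5⟩ := exists_AB h ν hν
      exact ⟨(A, B), fun _ => ⟨h1, h2, h3, h4, h5⟩⟩
    · exact ⟨(oneIrr G, oneIrr G), fun hc => absurd hc hν⟩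
  choose AB hAB using hex
  let A : (K →* ℂˣ) → IrrCharacter G := fun ν => (AB ν).1
  let B : (K →* ℂˣ) → IrrCharacter G := fun ν => (AB ν).2
  have hsh : ∀ μ ν : K →* ℂˣ, μ * μ ≠ 1 → ν * ν ≠ 1 →
      (A μ = A ν ∨ B μ = B ν) ∧ ((μ = ν ∨ μ = ν⁻¹) → A μ = A ν ∧ B μ = B ν) ∧
      ((μ ≠ ν ∧ μ ≠ ν⁻¹) → ¬ (A μ = A ν ∧ B μ = B ν)) := by
    intro μ ν hμ hν
    obtain ⟨a1, a2, a3, a4, a5⟩ := hAB μ hμ
    obtain ⟨b1, b2, b3, b4, b5⟩ := hAB ν hν
    exact share_AB h hμ hν a1 a2 b1 b2 a3 b3 a5 b5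
  refine ⟨A, B, ?_, ?_, ?_, fun ν hν hc => (hsh ν ν₀ hν hν₀).2.1 hc⟩
  · intro hcom
    refine ⟨Or.inl rfl, (hAB ν₀ hν₀).1, fun ν hν => (hAB ν hν).2.1, ?_, ?_, ?_, ?_⟩
    · intro ν hν hc
      have := (hAB ν hν).2.2.1
      apply this
      show A ν = B ν
      rw [hcom ν hν]; exact hc.symm
    · intro ν hν
      have := (hAB ν hν).2.2.2.1
      show (B ν : G → ℂ) 1 = _
      rw [← hcom ν hν]
      rw [this]; push_cast; rfl
    · intro ν hν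
      have := (hAB ν hν).2.2.2.2
      rw [← hcom ν hν, this]
      simp only [Int.cast_one, one_smul]
      rfl
    · intro μ ν hμ hν
      obtain ⟨s1, s2, s3⟩ := hsh μ ν hμ hν
      constructor
      · intro hB
        by_contra hcon
        push Not at hcon
        exact s3 hcon ⟨(hcom μ hμ).trans (hcom ν hν).symm, hB⟩
      · intro hc; exact (s2 hc).2
  · intro hcom
    refine ⟨Or.inr rfl, (hAB ν₀ hν₀).2.1, fun ν hν => (hAB ν hν).1, ?_, ?_, ?_, ?_⟩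
    · intro ν hν hc
      have := (hAB ν hν).2.2.1
      apply this
      show A ν = B ν
      rw [hcom ν hν]; exact hc
    · intro ν hν
      have := (hAB ν hν).2.2.2.1
      show (A ν : G → ℂ) 1 = _
      rw [← hcom ν hν]
      show (A ν : G → ℂ) 1 = (B ν : G → ℂ) 1 + _
      rw [this]; push_cast; ring
    · intro ν hν
      have := (hAB ν hν).2.2.2.2
      rw [← hcom ν hν, this]
      simp only [Int.cast_neg, Int.cast_one, neg_smul, one_smul]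
      abel
    · intro μ ν hμ hν
      obtain ⟨s1, s2, s3⟩ := hsh μ ν hμ hν
      constructor
      · intro hA
        by_contra hcon
        push Not at hcon
        exact s3 hcon ⟨hA, (hcom μ hμ).trans (hcom ν hν).symm⟩
      · intro hc; exact (s2 hc).1
  · have key := common_of_share (ι := {ν : K →* ℂˣ // ν * ν ≠ 1})
      (fun ν => A ν.1) (fun ν => B ν.1) (fun μ ν => (hsh μ.1 ν.1 μ.2 ν.2).1) ⟨ν₀, hν₀⟩
    rcases key with k1 | k1
    · exact Or.inl fun ν hν => k1 ⟨ν, hν⟩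
    · exact Or.inr fun ν hν => k1 ⟨ν, hν⟩

end Cfsg.Agent.Lib.H8.BSW
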