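import Cfsg.Agent.Lib.H8.BSWSigma

/-!
# Brauer–Suzuki–Wall (S3282): existence of the common constituent `X` with `⟨Θ_ν, X⟩ = δ`
for all `ν ≠ 1` (case `|K| ≥ 4`)
-/

set_option autoImplicit false

namespace Cfsg.Agent.Lib.H8.BSW

open Cfsg Cfsg.Agent.Lib.L0 Cfsg.Agent.Lib.H8 Cfsg.Agent.Lib.H24 Subgroup
open scoped ComplexConjugate Classical

variable {G : Type*} [Group G] [Fintype G] {t : G} {K : Subgroup G} {s : G} [Fintype K]

/-- Bessel's inequality for three distinct irreducible characters. -/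
theorem bessel3 {Θ : G → ℂ} (hΘ : IsGeneralizedCharacter G Θ) (N : ℤ)
    (hN : classInner Θ Θ = N) (ξ₁ ξ₂ ξ₃ : IrrCharacter G) (h12 : ξ₁ ≠ ξ₂) (h13 : ξ₁ ≠ ξ₃)
    (h23 : ξ₂ ≠ ξ₃) (c₁ c₂ c₃ : ℤ) (h1 : classInner Θ (ξ₁ : G → ℂ) = c₁)
    (h2 : classInner Θ (ξ₂ : G → ℂ) = c₂) (h3 : classInner Θ (ξ₃ : G → ℂ) = c₃) :
    c₁ ^ 2 + c₂ ^ 2 + c₃ ^ 2 ≤ N := by
  haveI : Fintype (IrrCharacter G) := Fintype.ofFinite _
  have hc : ∀ ξ : IrrCharacter G, ∃ c : ℤ, classInner Θ (ξ : G → ℂ) = c :=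
    fun ξ => genChar_classInner_irr_int hΘ ξ.2
  choose c hc using hc
  have hn := genChar_norm hΘ c hc
  rw [hN] at hn
  have hn' : N = ∑ ξ : IrrCharacter G, c ξ ^ 2 := by exact_mod_cast hn
  have e1 : c ξ₁ = c₁ := by have := hc ξ₁; rw [h1] at this; exact_mod_cast this.symm
  have e2 : c ξ₂ = c₂ := by have := hc ξ₂; rw [h2] at this; exact_mod_cast this.symm
  have e3 : c ξ₃ = c₃ := by have := hc ξ₃; rw [h3] at this; exact_mod_cast this.symm
  rw [hn']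
  have hsub : ({ξ₁, ξ₂, ξ₃} : Finset (IrrCharacter G)) ⊆ Finset.univ := Finset.subset_univ _
  have := Finset.sum_le_sum_of_subset_of_nonneg (f := fun ξ => c ξ ^ 2) hsub
    (fun ξ _ _ => sq_nonneg (c ξ))
  rw [Finset.sum_insert (by simp [h12, h13]), Finset.sum_insert (by simp [h23]),
    Finset.sum_singleton, e1, e2, e3] at this
  linarith

omit [Fintype G] [Fintype K] in
theorem hom_eq_inv_of_sq {σ : K →* ℂˣ} (hσσ : σ * σ = 1) : σ = σ⁻¹ := by
  ext x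
  have h2 : (σ * σ) x = (1 : K →* ℂˣ) x := by rw [hσσ]
  rw [MonoidHom.mul_apply, MonoidHom.one_apply] at h2
  rw [hom_inv_apply, inv_eq_of_mul_eq_one_left h2]

theorem classInner_Theta_sigma (h : BSWHyp t K s) {σ : K →* ℂˣ} (hσ1 : σ ≠ 1) (hσσ : σ * σ = 1) :
    classInner (Theta K σ) (Theta K σ) = 4 := by
  rw [classInner_Theta_Theta h σ σ hσ1 hσ1, if_pos rfl, if_pos (hom_eq_inv_of_sq hσσ)]
  norm_num

/-- The case of a single pair of non-real characters: one of the two decompositions is good. -/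
theorem good_of_both (h : BSWHyp t K s) {σ ν₀ : K →* ℂˣ} (hσ1 : σ ≠ 1) (hσσ : σ * σ = 1)
    (hν₀ : ν₀ * ν₀ ≠ 1) {A₀ B₀ : IrrCharacter G} {YA YB : (K →* ℂˣ) → IrrCharacter G}
    (pA : PreCommon K 1 A₀ YB) (pB : PreCommon K (-1) B₀ YA) (hB : YB ν₀ = B₀) :
    classInner (Theta K σ) (A₀ : G → ℂ) = ((1 : ℤ) : ℂ)
      ∨ classInner (Theta K σ) (B₀ : G → ℂ) = ((-1 : ℤ) : ℂ) := by
  obtain ⟨a, ha⟩ := Theta_inner_int σ A₀
  obtain ⟨b, hb⟩ := Theta_inner_int σ B₀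
  have hν1 : ν₀ ≠ 1 := ne_one_of_sq_ne_one hν₀
  have hνσ : ν₀ ≠ σ := by rintro rfl; exact hν₀ hσσ
  have hσi : σ ≠ ν₀⁻¹ := by
    intro hc
    apply hνσ
    exact hom_eq_of_inv_eq hσσ hc.symm
  have hg := classInner_Theta_Theta h σ ν₀ hσ1 hν1
  rw [if_neg (Ne.symm hνσ), if_neg hσi, pA.eq ν₀ hν₀, classInner_right_decomp,
    classInner_Theta_one h σ hσ1, hB, ha, hb] at hg
  have hab : a - b = 1 := by
    have : ((1 + 1 * a - 1 * b : ℤ) : ℂ) = ((2 : ℤ) : ℂ) := by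
      push_cast; push_cast at hg; rw [hg]; norm_num
    have := Int.cast_injective this
    omega
  have hAB : A₀ ≠ B₀ := by
    intro hc
    exact pA.hXY ν₀ hν₀ (by rw [hB, hc])
  have hbes := bessel3 (Theta_isGeneralizedCharacter σ) 4
    (by rw [classInner_Theta_sigma h hσ1 hσσ]; norm_num) (oneIrr G) A₀ B₀
    (Ne.symm pA.hX1) (Ne.symm pB.hX1) hAB 1 a b
    (by rw [oneIrr_coe, classInner_Theta_one h σ hσ1]; norm_num) ha hb
  have hb' : b = 0 ∨ b = -1 := by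
    have : a = b + 1 := by omega
    rw [this] at hbes
    have h1 : b ≤ 0 := by nlinarith
    have h2 : -1 ≤ b := by nlinarith
    omega
  rcases hb' with h0 | h0
  · left
    rw [ha]
    have : a = 1 := by omega
    rw [this]
  · right
    rw [hb, h0]

end Cfsg.Agent.Lib.H8.BSW

namespace Cfsg.Agent.Lib.H8.BSW

open Cfsg Cfsg.Agent.Lib.L0 Cfsg.Agent.Lib.H8 Cfsg.Agent.Lib.H24 Subgroup
open scoped ComplexConjugate Classical

variable {G : Type*} [Group G] [Fintype G] {t : G} {K : Subgroup G} {s : G} [Fintype K]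

/-- `t` as an element of `K`. -/
def tK (h : BSWHyp t K s) : K := ⟨t, h.htK⟩

omit [Fintype G] [Fintype K] in
theorem tK_ne_one (h : BSWHyp t K s) : tK h ≠ 1 := fun hc => h.t_ne_one (congrArg Subtype.val hc)

omit [Fintype G] [Fintype K] in
theorem tK_mul_self (h : BSWHyp t K s) : tK h * tK h = 1 := Subtype.ext h.tt

omit [Fintype G] [Fintype K] in
theorem tK_unique (h : BSWHyp t K s) (a : K) (ha : a * a = 1) : a = 1 ∨ a = tK h := by
  rcases h.unique_involution a.2 (congrArg Subtype.val ha) with h1 | h1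
  · left; exact Subtype.ext h1
  · right; exact Subtype.ext h1

omit [Fintype G] in
theorem even_card_K (h : BSWHyp t K s) : 2 ∣ Fintype.card K := by
  have h1 : orderOf (tK h) = 2 := by
    rw [BSWHyp.orderOf_eq_two_iff]
    exact ⟨tK_mul_self h, tK_ne_one h⟩
  rw [← h1]
  exact orderOf_dvd_card

omit [Fintype G] in
theorem exists_sigma' (h : BSWHyp t K s) : ∃ σ : K →* ℂˣ, σ ≠ 1 ∧ σ * σ = 1 ∧
    ∀ ν : K →* ℂˣ, ν * ν = 1 → ν = 1 ∨ ν = σ :=
  exists_sigma h.commK (tK_ne_one h) (tK_mul_self h) (tK_unique h)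

omit [Fintype G] in
theorem exists_nonreal (h : BSWHyp t K s) (h4 : 4 ≤ Fintype.card K) :
    ∃ ν : K →* ℂˣ, ν * ν ≠ 1 := by
  by_contra hcon
  push Not at hcon
  have hc := card_real_dual h.commK (tK_ne_one h) (tK_mul_self h) (tK_unique h)
  have : (Finset.univ.filter fun ν : K →* ℂˣ => ν * ν = 1) = Finset.univ := by
    ext ν; simp [hcon ν]
  rw [this, Finset.card_univ, card_dual h.commK] at hc
  omega

/-- Existence of the common constituent for `|K| ≥ 4`. -/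
theorem exists_common (h : BSWHyp t K s) (h4 : 4 ≤ Fintype.card K) {σ : K →* ℂˣ}
    (hσ1 : σ ≠ 1) (hσσ : σ * σ = 1) (hσu : ∀ ν : K →* ℂˣ, ν * ν = 1 → ν = 1 ∨ ν = σ) :
    ∃ (δ : ℤ) (X : IrrCharacter G) (Y : (K →* ℂˣ) → IrrCharacter G),
      PreCommon K δ X Y ∧ classInner (Theta K σ) (X : G → ℂ) = (δ : ℂ) := by
  obtain ⟨ν₀, hν₀⟩ := exists_nonreal h h4
  obtain ⟨A, B, hA, hB, hor, hpair⟩ := exists_preCommon h ν₀ hν₀
  by_cases h6 : 6 ≤ Fintype.card K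
  · obtain ⟨⟨ν, hν, hνt⟩, ⟨μ, hμ, hμt⟩⟩ :=
      exists_nonreal_apply_t h.commK (tK_ne_one h) (tK_mul_self h) (tK_unique h) h6
    rcases hor with hc | hc
    · exact ⟨1, A ν₀, B, hA hc,
        inner_sigma_X_of_apply_t h (hA hc) hσ1 hσσ hσu hν hμ hνt hμt⟩
    · exact ⟨-1, B ν₀, A, hB hc,
        inner_sigma_X_of_apply_t h (hB hc) hσ1 hσσ hσu hν hμ hνt hμt⟩
  · have hcard : Fintype.card K = 4 := by
      have := even_card_K h
      omega
    -- the dual is `{1, σ, ν₀, ν₀⁻¹}`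
    have hν1 : ν₀ ≠ 1 := ne_one_of_sq_ne_one hν₀
    have hνσ : ν₀ ≠ σ := by rintro rfl; exact hν₀ hσσ
    have hνi1 : ν₀⁻¹ ≠ 1 := fun hc => hν1 (hom_eq_one_of_inv_eq_one hc)
    have hνiσ : ν₀⁻¹ ≠ σ := fun hc => hνσ (hom_eq_of_inv_eq hσσ hc)
    have hνν : ν₀ ≠ ν₀⁻¹ := ne_inv_of_sq_ne_one hν₀
    have hall : ∀ ν : K →* ℂˣ, ν = 1 ∨ ν = σ ∨ ν = ν₀ ∨ ν = ν₀⁻¹ := by
      have hS : ({1, σ, ν₀, ν₀⁻¹} : Finset (K →* ℂˣ)) = Finset.univ := by
        apply Finset.eq_univ_of_card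
        rw [card_dual h.commK, hcard, Finset.card_insert_of_notMem, Finset.card_insert_of_notMem,
          Finset.card_insert_of_notMem, Finset.card_singleton]
        · simp [hνν]
        · simp [Ne.symm hνσ, Ne.symm hνiσ]
        · simp [Ne.symm hσ1, Ne.symm hν1, Ne.symm hνi1]
      intro ν
      have : ν ∈ ({1, σ, ν₀, ν₀⁻¹} : Finset (K →* ℂˣ)) := by rw [hS]; exact Finset.mem_univ _
      simpa using this
    have hboth : ∀ ν : K →* ℂˣ, ν * ν ≠ 1 → A ν = A ν₀ ∧ B ν = B ν₀ := by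
      intro ν hν
      apply hpair ν hν
      rcases hall ν with h1 | h1 | h1 | h1
      · exact absurd h1 (ne_one_of_sq_ne_one hν)
      · exact absurd (by rw [h1]; exact hσσ) hν
      · exact Or.inl h1
      · exact Or.inr h1
    have pA := hA fun ν hν => (hboth ν hν).1
    have pB := hB fun ν hν => (hboth ν hν).2
    rcases good_of_both h hσ1 hσσ hν₀ pA pB rfl with hg | hg
    · exact ⟨1, A ν₀, B, pA, hg⟩
    · exact ⟨-1, B ν₀, A, pB, hg⟩

end Cfsg.Agent.Lib.H8.BSW
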