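import Cfsg.Agent.Lib.H8.BSWOrder2

/-!
# Brauer–Suzuki–Wall (S3282): the number of pairs of involutions with given product
-/

set_option autoImplicit false

namespace Cfsg.Agent.Lib.H8.BSW

open Cfsg Cfsg.Agent.Lib.L0 Cfsg.Agent.Lib.H8 Cfsg.Agent.Lib.H24 Subgroup
open scoped ComplexConjugate Classical

variable {G : Type*} [Group G] [Fintype G] {t : G} {K : Subgroup G} {s : G} [Fintype K]

section
variable {h : BSWHyp t K s} {δ : ℤ} {X : IrrCharacter G} (sh : Shape h δ X)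

omit [Fintype G] in
/-- `∑_{μ ≠ 1} μ(t) = -1`. -/
theorem sum_dual_ne_one_apply_t (h : BSWHyp t K s) :
    ∑ μ : K →* ℂˣ, (if μ = 1 then 0 else ((μ (tK h) : ℂˣ) : ℂ)) = -1 := by
  have h1 : ∀ μ : K →* ℂˣ, (if μ = 1 then 0 else ((μ (tK h) : ℂˣ) : ℂ))
      = ((μ (tK h) : ℂˣ) : ℂ) - (if μ = 1 then ((μ (tK h) : ℂˣ) : ℂ) else 0) := by
    intro μ; split_ifs <;> ring
  simp only [h1, Finset.sum_sub_distrib, sum_dual_apply h.commK (tK_ne_one h),
    Finset.sum_ite_eq', Finset.mem_univ, if_true]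
  simp

include sh in
/-- The character sum `∑_χ χ(t)² conj(χ(y)) / χ(1)` off the conjugates of `K ∖ 1`. -/
theorem Shape.charSum (y : G) (hy : ∀ k ∈ K, k ≠ 1 → ∀ g : G, g * k * g⁻¹ ≠ y) :
    ∑ᶠ χ : IrrCharacter G, (χ : G → ℂ) t * (χ : G → ℂ) t * conj ((χ : G → ℂ) y) / (χ : G → ℂ) 1
      = 1 + conj ((X : G → ℂ) y) / (X : G → ℂ) 1
        + 2 * ((Fintype.card K : ℂ) - 1) * (conj ((X : G → ℂ) y) + (δ : ℂ))
          / ((X : G → ℂ) 1 + (δ : ℂ)) := by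
  haveI : Fintype (IrrCharacter G) := Fintype.ofFinite _
  rw [finsum_eq_sum_of_fintype]
  have hΘy : ∀ μ : K →* ℂˣ, Theta K μ y = 0 := fun μ => Theta_eq_zero μ hy
  have hχt : ∀ χ : IrrCharacter G, (χ : G → ℂ) t
      = -∑ μ : K →* ℂˣ, classInner (Theta K μ) (χ : G → ℂ) * ((μ (tK h) : ℂˣ) : ℂ) := by
    intro χ
    have := char_apply_mem h _ (irr_isClassFunction χ) (tK h) (tK_ne_one h)
    simp only [Theta_inner_conj] at this
    exact this
  have h1 : ∀ χ : IrrCharacter G,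
      (χ : G → ℂ) t * (χ : G → ℂ) t * conj ((χ : G → ℂ) y) / (χ : G → ℂ) 1
        = -∑ μ : K →* ℂˣ, ((μ (tK h) : ℂˣ) : ℂ)
            * (Fy t y χ * classInner (Theta K μ) (χ : G → ℂ)) := by
    intro χ
    have e : (χ : G → ℂ) t * (χ : G → ℂ) t * conj ((χ : G → ℂ) y) / (χ : G → ℂ) 1
        = (χ : G → ℂ) t * Fy t y χ := by unfold Fy; ring
    rw [e]
    conv_lhs => rw [hχt χ]
    rw [neg_mul, Finset.sum_mul]
    congr 1
    refine Finset.sum_congr rfl fun μ _ => ?_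
    ring
  simp only [h1, Finset.sum_neg_distrib]
  rw [Finset.sum_comm]
  simp only [← Finset.mul_sum, ← Lf_eq_sum]
  have h2 : ∀ μ : K →* ℂˣ, ((μ (tK h) : ℂˣ) : ℂ) * Lf (Fy t y) (Theta K μ)
      = (1 + conj ((X : G → ℂ) y) / (X : G → ℂ) 1)
          * (if μ = 1 then 0 else ((μ (tK h) : ℂˣ) : ℂ))
        - (if μ = 1 then 0 else 2 * (conj ((X : G → ℂ) y) + (δ : ℂ))
          / ((X : G → ℂ) 1 + (δ : ℂ))) := by
    intro μ
    by_cases hμ : μ = 1
    · rw [if_pos hμ, if_pos hμ, hμ, Theta_one]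
      have : Lf (Fy t y) (0 : G → ℂ) = 0 := by
        have := Lf_smul (Fy t y) 0 (0 : G → ℂ)
        simpa using this
      rw [this]; ring
    · rw [if_neg hμ, if_neg hμ, sh.L2 μ hμ y (hΘy μ)]
      have hsq : ((μ (tK h) : ℂˣ) : ℂ) * ((μ (tK h) : ℂˣ) : ℂ) = 1 :=
        apply_t_sq (tK_mul_self h) μ
      linear_combination (-2 * (conj ((X : G → ℂ) y) + (δ : ℂ))
          / ((X : G → ℂ) 1 + (δ : ℂ))) * hsq
  simp only [h2, Finset.sum_sub_distrib, ← Finset.mul_sum, sum_dual_ne_one_apply_t h,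
    sum_dual_ne_one h]
  ring

end

end Cfsg.Agent.Lib.H8.BSW
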