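import Cfsg.Agent.Lib.H8.BSWCount

/-!
# Brauer–Suzuki–Wall (S3282): assembling `BSWCharData`
-/

set_option autoImplicit false

namespace Cfsg.Agent.Lib.H8.BSW

open Cfsg Cfsg.Agent.Lib.L0 Cfsg.Agent.Lib.H8 Cfsg.Agent.Lib.H24 Subgroup
open scoped ComplexConjugate Classical

variable {G : Type*} [Group G] [Fintype G] {t : G} {K : Subgroup G} {s : G} [Fintype K]

theorem Shape.charData {h : BSWHyp t K s} {δ : ℤ} {X : IrrCharacter G} (sh : Shape h δ X)
    (od : OrderData K δ X) : ∃ q : ℕ, BSWCharData K δ q (X : G → ℂ) := by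
  obtain ⟨q, hXq, hq, hG⟩ := od
  have hd := sh.δ_sq
  refine ⟨q, sh.hδ, ?_, ?_, X.2, hXq, ?_, ?_⟩
  · rw [Nat.card_eq_fintype_card]; exact hq
  · rw [Nat.card_eq_fintype_card, Nat.card_eq_fintype_card]; exact hG
  · intro k hk hk1 g
    rw [irr_isClassFunction X k g]
    exact sh.hXK ⟨k, hk⟩ (fun hc => hk1 (congrArg Subtype.val hc))
  · intro y hy
    rw [h.invPairs_eq y, Cfsg.Agent.S0840.result t t y, sh.charSum y hy, hXq]
    have hc := h.card_conj_t
    set c : ℂ := (Nat.card {x : G // IsConj t x} : ℂ) with hcdef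
    have hK0 : (Fintype.card K : ℂ) ≠ 0 := by exact_mod_cast (Fintype.card_pos (α := K)).ne'
    have hG0 : (Fintype.card G : ℂ) ≠ 0 := by exact_mod_cast (Fintype.card_pos (α := G)).ne'
    have hqC : (q : ℂ) = 2 * (Fintype.card K : ℂ) + (δ : ℂ) := by exact_mod_cast hq
    have hGC : (Fintype.card G : ℂ) = (Fintype.card K : ℂ) * q * ((q : ℂ) + (δ : ℂ)) := by
      exact_mod_cast hG
    have hcC : c * (2 * (Fintype.card K : ℂ)) = (Fintype.card G : ℂ) := by
      rw [hcdef, ← Nat.card_eq_fintype_card, ← Nat.card_eq_fintype_card]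
      exact_mod_cast hc
    have hq0 : (q : ℂ) ≠ 0 := by
      intro h0; rw [h0] at hGC; simp at hGC
    have hqd0 : (q : ℂ) + (δ : ℂ) ≠ 0 := by
      intro h0; rw [h0] at hGC; simp at hGC
    have hcq : c = (q : ℂ) * ((q : ℂ) + (δ : ℂ)) / 2 := by
      have : (Fintype.card K : ℂ) * (2 * c) = (Fintype.card K : ℂ) * ((q : ℂ) * ((q : ℂ) + (δ : ℂ))) := by
        rw [← mul_assoc, ← mul_assoc, ← hGC, ← hcC]; ring
      have := mul_left_cancel₀ hK0 this
      rw [← this]; ring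
    rw [Nat.card_eq_fintype_card (α := G), hcq, hGC]
    have hn : (Fintype.card K : ℂ) = ((q : ℂ) - (δ : ℂ)) / 2 := by rw [hqC]; ring
    rw [hn]
    have hqm0 : (q : ℂ) - (δ : ℂ) ≠ 0 := by
      intro h0; rw [h0] at hn; simp at hn
    field_simp
    ring

end Cfsg.Agent.Lib.H8.BSW
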