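import Cfsg.Agent.Lib.H8.BSWShape2
import Cfsg.Agent.Lib.H8.Coherence

/-!
# Brauer–Suzuki–Wall (S3282): the order of `G` (case `|K| ≥ 4`)
-/

set_option autoImplicit false

namespace Cfsg.Agent.Lib.H8.BSW

open Cfsg Cfsg.Agent.Lib.L0 Cfsg.Agent.Lib.H8 Cfsg.Agent.Lib.H24 Subgroup
open scoped ComplexConjugate Classical

variable {G : Type*} [Group G] [Fintype G] {t : G} {K : Subgroup G} {s : G} [Fintype K]

omit [Fintype G] in
theorem sum_dual_ne_one (h : BSWHyp t K s) (c : ℂ) :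
    ∑ ν : K →* ℂˣ, (if ν = 1 then 0 else c) = ((Fintype.card K : ℂ) - 1) * c := by
  have h1 : ∀ ν : K →* ℂˣ, (if ν = 1 then 0 else c) = c - (if ν = 1 then c else 0) := by
    intro ν; split_ifs <;> ring
  simp only [h1, Finset.sum_sub_distrib, Finset.sum_const, Finset.card_univ, card_dual h.commK,
    Finset.sum_ite_eq', Finset.mem_univ, if_true, nsmul_eq_mul]
  ring

section
variable {h : BSWHyp t K s} {δ : ℤ} {X : IrrCharacter G} (sh : Shape h δ X)

include sh in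
omit [Fintype K] in
theorem Shape.δ_sq : (δ : ℂ) * (δ : ℂ) = 1 := by
  rcases sh.hδ with h | h <;> rw [h] <;> norm_num

include sh in
theorem Shape.inner_all (μ : K →* ℂˣ) :
    classInner (Theta K μ) (X : G → ℂ) = if μ = 1 then 0 else (δ : ℂ) := by
  split_ifs with h1
  · rw [h1, Theta_one, classInner_zero_left]
  · exact sh.hΘX μ h1

include sh in
/-- `X(1) = δ + m |K|` with `m` a natural number. -/
theorem Shape.degree : ∃ m : ℕ, (X : G → ℂ) 1 = (δ : ℂ) + (m : ℂ) * (Fintype.card K : ℂ) := by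
  obtain ⟨σ, hσ1, -, -⟩ := exists_sigma' h
  obtain ⟨m, hm⟩ := classInner_char_irr_nat
    (isCharacter_restrict K (isCharacter_of_irr X.2)) (lamF_irr σ)
  refine ⟨m, ?_⟩
  have h1 := classInner_restrict_lamF σ (X : G → ℂ) (irr_isClassFunction X)
  rw [hm, sh.hΘX σ hσ1, map_intCast] at h1
  have h2 := char_apply_one h (X : G → ℂ) (irr_isClassFunction X)
  have h3 : ∑ ν : K →* ℂˣ, conj (classInner (Theta K ν) (X : G → ℂ))
      = ((Fintype.card K : ℂ) - 1) * (δ : ℂ) := by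
    rw [← sum_dual_ne_one h]
    refine Finset.sum_congr rfl fun ν _ => ?_
    rw [sh.inner_all ν]
    split_ifs
    · simp
    · exact map_intCast _ _
  rw [h3] at h2
  rw [h2]
  linear_combination (-(Fintype.card K : ℂ)) * h1

include sh in
/-- The `β` identity as an integer equation. -/
theorem Shape.order_eq (hβ : 4 * (Fintype.card K : ℂ) ^ 3 / (Fintype.card G : ℂ)
      = 1 + (δ : ℂ) / (X : G → ℂ) 1 - 4 * (δ : ℂ) / ((X : G → ℂ) 1 + (δ : ℂ)))
    (m : ℕ) (hm : (X : G → ℂ) 1 = (δ : ℂ) + (m : ℂ) * (Fintype.card K : ℂ)) :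
    (Fintype.card G : ℤ) * (m : ℤ) ^ 2
      = 4 * (Fintype.card K : ℤ) * (δ + m * Fintype.card K) * (2 * δ + m * Fintype.card K) := by
  have hd := sh.δ_sq
  have hG : (Fintype.card G : ℂ) ≠ 0 := by exact_mod_cast (Fintype.card_pos (α := G)).ne'
  have hK : (Fintype.card K : ℂ) ≠ 0 := by exact_mod_cast (Fintype.card_pos (α := K)).ne'
  have hx0 : (X : G → ℂ) 1 ≠ 0 := irr_one_ne_zero X
  have hxd : (X : G → ℂ) 1 + (δ : ℂ) ≠ 0 := by
    intro h0
    rw [h0, div_zero, sub_zero] at hβ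
    have hx : (X : G → ℂ) 1 = -(δ : ℂ) := by linear_combination h0
    rw [hx] at hβ
    have : (δ : ℂ) / -(δ : ℂ) = -1 := by
      have hδ0 : (δ : ℂ) ≠ 0 := by
        intro h1; rw [h1] at hd; simp at hd
      field_simp
    rw [this] at hβ
    have h1 : 4 * (Fintype.card K : ℂ) ^ 3 / (Fintype.card G : ℂ) ≠ 0 :=
      div_ne_zero (mul_ne_zero (by norm_num) (pow_ne_zero 3 hK)) hG
    apply h1
    rw [hβ]; ring
  field_simp at hβ
  rw [hm] at hβ
  have key : (Fintype.card K : ℂ) ^ 2 * ((Fintype.card G : ℂ) * (m : ℂ) ^ 2)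
      = (Fintype.card K : ℂ) ^ 2 * (4 * (Fintype.card K : ℂ) * ((δ : ℂ) + m * Fintype.card K)
        * (2 * (δ : ℂ) + m * Fintype.card K)) := by
    linear_combination (-1 : ℂ) * hβ
  have key2 := mul_left_cancel₀ (pow_ne_zero 2 hK) key
  exact_mod_cast key2

end

end Cfsg.Agent.Lib.H8.BSW
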