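import Cfsg.Agent.Lib.H8.BSWBound

/-!
# Brauer–Suzuki–Wall (S3282): the order of `G` and the degree of `X` (case `|K| ≥ 4`)
-/

set_option autoImplicit false

namespace Cfsg.Agent.Lib.H8.BSW

open Cfsg Cfsg.Agent.Lib.L0 Cfsg.Agent.Lib.H8 Cfsg.Agent.Lib.H24 Subgroup
open scoped ComplexConjugate Classical

variable {G : Type*} [Group G] [Fintype G] {t : G} {K : Subgroup G} {s : G} [Fintype K]

theorem arith_order (n g c δ m : ℤ) (hn : 4 ≤ n) (hδ : δ = 1 ∨ δ = -1) (hm0 : 0 ≤ m)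
    (hc : Odd c) (hG : g = c * (2 * n))
    (E1 : g * m ^ 2 = 4 * n * (δ + m * n) * (2 * δ + m * n))
    (E2 : (n - 1) * (2 * δ + m * n) ^ 2 ≤ 2 * g) : m = 2 := by
  have hδ2 : δ * δ = 1 := by rcases hδ with rfl | rfl <;> norm_num
  have hδle : -1 ≤ δ ∧ δ ≤ 1 := by rcases hδ with rfl | rfl <;> norm_num
  have hm1 : m ≠ 0 := by
    rintro rfl
    have : 4 * n * (δ + 0 * n) * (2 * δ + 0 * n) = 8 * n * (δ * δ) := by ring
    rw [this, hδ2] at E1
    nlinarith
  -- `m` is even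
  have hcm : c * m ^ 2 = 2 * ((δ + m * n) * (2 * δ + m * n)) := by
    have h2n : (2 * n) ≠ 0 := by omega
    apply mul_left_cancel₀ h2n
    rw [hG] at E1
    linear_combination E1
  have hmeven : Even m := by
    by_contra hodd
    rw [Int.not_even_iff_odd] at hodd
    have h1 : Odd (c * m ^ 2) := hc.mul hodd.pow
    rw [hcm] at h1
    exact (Int.not_odd_iff_even.mpr (even_two_mul _)) h1
  obtain ⟨k, hk⟩ := hmeven
  have hk1 : 1 ≤ k := by omega
  by_contra hne
  have hk2 : 2 ≤ k := by omega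
  have hm4 : 4 ≤ m := by omega
  set d := 2 * δ + m * n with hd
  set x := δ + m * n with hx
  have hmn : 16 ≤ m * n := by nlinarith
  have hd14 : 14 ≤ d := by rw [hd]; linarith [hδle.1]
  have hxd : x ≤ d + 1 := by rw [hx, hd]; linarith [hδle.1, hδle.2]
  have hgpos : 0 < g := by
    rw [hG]
    obtain ⟨j, hj⟩ := hc
    have hcpos : 0 < c * (2 * n) ∨ c * (2 * n) ≤ 0 := lt_or_ge _ _
    rcases hcpos with hp | hp
    · exact hp
    · exfalso
      have : g * m ^ 2 ≤ 0 := by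
        rw [hG]; exact mul_nonpos_of_nonpos_of_nonneg hp (sq_nonneg m)
      have hx1 : 0 < x := by rw [hx]; linarith [hδle.1]
      have : 0 < 4 * n * x * d := by positivity
      linarith
  have hm16 : 16 ≤ m ^ 2 := by nlinarith
  have h16 : 16 * g ≤ g * m ^ 2 := by
    have := mul_le_mul_of_nonneg_left hm16 hgpos.le
    linarith
  have h4g : 4 * g ≤ n * x * d := by linarith
  have h3 : 2 * (n - 1) * d * d ≤ n * x * d := by nlinarith
  have h4 : 2 * (n - 1) * d ≤ n * x := by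
    have hdpos : 0 < d := by linarith
    exact le_of_mul_le_mul_right h3 hdpos
  have h5 : n * x ≤ n * (d + 1) := by
    apply mul_le_mul_of_nonneg_left hxd; linarith
  nlinarith

/-- The order data: `X(1) = q = 2|K| + δ` and `|G| = |K| q (q + δ)`. -/
def OrderData (K : Subgroup G) [Fintype K] (δ : ℤ) (X : IrrCharacter G) : Prop :=
  ∃ q : ℕ, (X : G → ℂ) 1 = q ∧ (q : ℤ) = 2 * (Fintype.card K : ℤ) + δ ∧
    (Fintype.card G : ℤ) = (Fintype.card K : ℤ) * q * (q + δ)

theorem Shape.order {h : BSWHyp t K s} {δ : ℤ} {X : IrrCharacter G} (sh : Shape h δ X)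
    (h4 : 4 ≤ Fintype.card K)
    (hβ : 4 * (Fintype.card K : ℂ) ^ 3 / (Fintype.card G : ℂ)
      = 1 + (δ : ℂ) / (X : G → ℂ) 1 - 4 * (δ : ℂ) / ((X : G → ℂ) 1 + (δ : ℂ))) :
    OrderData K δ X := by
  obtain ⟨m, hm⟩ := sh.degree
  obtain ⟨nx, hnx0, hnx⟩ := irr_one_eq X
  have hxm : (nx : ℤ) = δ + m * (Fintype.card K : ℤ) := by
    rw [hnx] at hm
    exact_mod_cast hm
  have E1 := sh.order_eq hβ m hm
  have E2 := sh.bound nx hnx
  have hc := h.odd_card_conj_t
  have hG := h.card_conj_t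
  rw [Nat.card_eq_fintype_card (α := G), Nat.card_eq_fintype_card (α := K)] at hG
  have hG' : (Fintype.card G : ℤ)
      = (Nat.card {x : G // IsConj t x} : ℤ) * (2 * (Fintype.card K : ℤ)) := by
    exact_mod_cast hG.symm
  have hc' : Odd ((Nat.card {x : G // IsConj t x} : ℕ) : ℤ) := by exact_mod_cast hc
  have e2 : (nx : ℤ) + δ = 2 * δ + m * (Fintype.card K : ℤ) := by rw [hxm]; ring
  rw [e2] at E2
  have hm2 : (m : ℤ) = 2 := arith_order (Fintype.card K : ℤ) (Fintype.card G : ℤ) _ δ m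
    (by exact_mod_cast h4) sh.hδ (by positivity) hc' hG' E1 E2
  refine ⟨nx, hnx, ?_, ?_⟩
  · rw [hxm, hm2]; ring
  · rw [hm2] at E1
    have hq : (nx : ℤ) = δ + 2 * (Fintype.card K : ℤ) := by rw [hxm, hm2]
    rw [hq]
    have h4' : (4 : ℤ) * (Fintype.card G : ℤ) = 4 * ((Fintype.card K : ℤ)
        * (δ + 2 * (Fintype.card K : ℤ)) * (δ + 2 * (Fintype.card K : ℤ) + δ)) := by
      linear_combination E1
    exact mul_left_cancel₀ (by norm_num) h4'

end Cfsg.Agent.Lib.H8.BSW
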