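import Cfsg.Agent.Lib.H8.BSWCommon2

/-!
# Brauer–Suzuki–Wall (S3282): the shape of `Θ_σ` and the uniform evaluation of
`∑_χ χ(t) conj(χ(y))/χ(1) ⟨Θ_μ, χ⟩`
-/

set_option autoImplicit false

namespace Cfsg.Agent.Lib.H8.BSW

open Cfsg Cfsg.Agent.Lib.L0 Cfsg.Agent.Lib.H8 Cfsg.Agent.Lib.H24 Subgroup
open scoped ComplexConjugate Classical

variable {G : Type*} [Group G] [Fintype G] {t : G} {K : Subgroup G} {s : G} [Fintype K]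

/-- the function `χ ↦ χ(t) conj(χ(y)) / χ(1)` -/
noncomputable def Fy (t y : G) : IrrCharacter G → ℂ :=
  fun χ => (χ : G → ℂ) t * conj ((χ : G → ℂ) y) / (χ : G → ℂ) 1

omit [Fintype G] in
theorem Fy_one (t y : G) : Fy t y (oneIrr G) = 1 := by
  unfold Fy; rw [oneIrr_coe]; simp

omit [Fintype G] in
theorem irr_smul_gen (δ : ℤ) (X : IrrCharacter G) :
    IsGeneralizedCharacter G ((δ : ℂ) • (X : G → ℂ)) := by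
  rw [Int.cast_smul_eq_zsmul]
  exact isGeneralizedCharacter_zsmul
    (isGeneralizedCharacter_of_isCharacter (isCharacter_of_irr X.2)) δ

/-- Evaluation of `Lf (Fy t y)` on `Θ = 1 + δ X - δ Y`. -/
theorem L2_irr {δ : ℤ} (hδ : (δ : ℂ) * (δ : ℂ) = 1) (X Y : IrrCharacter G) {Θ : G → ℂ}
    (hΘ : Θ = 1 + (δ : ℂ) • (X : G → ℂ) - (δ : ℂ) • (Y : G → ℂ)) (m : ℂ)
    (hXt : (X : G → ℂ) t = (δ : ℂ)) (hYt : (Y : G → ℂ) t = 2 * (δ : ℂ) * m)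
    (hY1 : (Y : G → ℂ) 1 = (X : G → ℂ) 1 + (δ : ℂ)) (y : G) (hy : Θ y = 0) :
    Lf (Fy t y) Θ = 1 + conj ((X : G → ℂ) y) / (X : G → ℂ) 1
      - 2 * m * (conj ((X : G → ℂ) y) + (δ : ℂ)) / ((X : G → ℂ) 1 + (δ : ℂ)) := by
  have hYy : (Y : G → ℂ) y = (δ : ℂ) + (X : G → ℂ) y := by
    rw [hΘ] at hy
    simp only [Pi.add_apply, Pi.sub_apply, Pi.smul_apply, Pi.one_apply, smul_eq_mul] at hy
    linear_combination (-(δ : ℂ)) * hy - ((Y : G → ℂ) y - (X : G → ℂ) y) * hδ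
  rw [hΘ, Lf_decomp, Fy_one]
  unfold Fy
  rw [hXt, hYt, hY1, hYy, map_add, map_intCast]
  linear_combination (conj ((X : G → ℂ) y) / (X : G → ℂ) 1
    - 2 * m * ((δ : ℂ) + conj ((X : G → ℂ) y)) / ((X : G → ℂ) 1 + (δ : ℂ))) * hδ

omit [Fintype K] in
theorem Lf_decomp2 (F : IrrCharacter G → ℂ) (δ : ℤ) (X η₁ η₂ : IrrCharacter G) :
    Lf F (1 + (δ : ℂ) • (X : G → ℂ) - (δ : ℂ) • (η₁ : G → ℂ) - (δ : ℂ) • (η₂ : G → ℂ))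
      = F (oneIrr G) + (δ : ℂ) * F X - (δ : ℂ) * F η₁ - (δ : ℂ) * F η₂ := by
  rw [Lf_sub, Lf_sub, Lf_add, Lf_smul, Lf_smul, Lf_smul, Lf_one, Lf_irr, Lf_irr, Lf_irr]

/-- Evaluation of `Lf (Fy t y)` on `Θ = 1 + δ X - δ η₁ - δ η₂`. -/
theorem L2_pair {δ : ℤ} (hδ : (δ : ℂ) * (δ : ℂ) = 1) (X η₁ η₂ : IrrCharacter G) {Θ : G → ℂ}
    (hΘ : Θ = 1 + (δ : ℂ) • (X : G → ℂ) - (δ : ℂ) • (η₁ : G → ℂ) - (δ : ℂ) • (η₂ : G → ℂ))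
    (m : ℂ) (hXt : (X : G → ℂ) t = (δ : ℂ)) (h1t : (η₁ : G → ℂ) t = (δ : ℂ) * m)
    (h2t : (η₂ : G → ℂ) t = (δ : ℂ) * m)
    (h11 : 2 * (η₁ : G → ℂ) 1 = (X : G → ℂ) 1 + (δ : ℂ))
    (h21 : 2 * (η₂ : G → ℂ) 1 = (X : G → ℂ) 1 + (δ : ℂ)) (y : G) (hy : Θ y = 0) :
    Lf (Fy t y) Θ = 1 + conj ((X : G → ℂ) y) / (X : G → ℂ) 1
      - 2 * m * (conj ((X : G → ℂ) y) + (δ : ℂ)) / ((X : G → ℂ) 1 + (δ : ℂ)) := by
  have hYy : (η₁ : G → ℂ) y + (η₂ : G → ℂ) y = (δ : ℂ) + (X : G → ℂ) y := by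
    rw [hΘ] at hy
    simp only [Pi.add_apply, Pi.sub_apply, Pi.smul_apply, Pi.one_apply, smul_eq_mul] at hy
    linear_combination (-(δ : ℂ)) * hy
      - ((η₁ : G → ℂ) y + (η₂ : G → ℂ) y - (X : G → ℂ) y) * hδ
  have hYc : conj ((η₁ : G → ℂ) y) + conj ((η₂ : G → ℂ) y)
      = (δ : ℂ) + conj ((X : G → ℂ) y) := by
    rw [← map_add, hYy, map_add, map_intCast]
  have e1 : (η₁ : G → ℂ) 1 = ((X : G → ℂ) 1 + (δ : ℂ)) / 2 := by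
    rw [← h11]; ring
  have e2 : (η₂ : G → ℂ) 1 = ((X : G → ℂ) 1 + (δ : ℂ)) / 2 := by
    rw [← h21]; ring
  rw [hΘ, Lf_decomp2, Fy_one]
  unfold Fy
  rw [hXt, h1t, h2t, e1, e2]
  have hc2 : conj ((η₂ : G → ℂ) y) = (δ : ℂ) + conj ((X : G → ℂ) y) - conj ((η₁ : G → ℂ) y) := by
    rw [← hYc]; ring
  rw [hc2]
  have hx0 : (X : G → ℂ) 1 ≠ 0 := irr_one_ne_zero X
  have hd0 : (X : G → ℂ) 1 + (δ : ℂ) ≠ 0 := by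
    rw [← h11]
    exact mul_ne_zero two_ne_zero (irr_one_ne_zero η₁)
  field_simp
  linear_combination (((X : G → ℂ) 1 + (δ : ℂ)) * conj ((X : G → ℂ) y)
    - 2 * m * (X : G → ℂ) 1 * ((δ : ℂ) + conj ((X : G → ℂ) y))) * hδ

end Cfsg.Agent.Lib.H8.BSW
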