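import Cfsg.Agent.Lib.H8.BSWShape

/-!
# Brauer–Suzuki–Wall (S3282): the shape of `Θ_σ` for `|K| ≥ 4`
-/

set_option autoImplicit false

namespace Cfsg.Agent.Lib.H8.BSW

open Cfsg Cfsg.Agent.Lib.L0 Cfsg.Agent.Lib.H8 Cfsg.Agent.Lib.H24 Subgroup
open scoped ComplexConjugate Classical

variable {G : Type*} [Group G] [Fintype G] {t : G} {K : Subgroup G} {s : G} [Fintype K]

theorem arith_shape (δ ε₁ ε₂ n₁ n₂ nd : ℤ) (hδ : δ = 1 ∨ δ = -1) (hε₁ : ε₁ = 1 ∨ ε₁ = -1)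
    (hε₂ : ε₂ = 1 ∨ ε₂ = -1) (h1 : 0 < n₁) (h2 : 0 < n₂) (hd : 0 < nd)
    (hdeg : ε₁ * n₁ + ε₂ * n₂ = -δ * nd)
    (hβ : (ε₁ * n₂ + ε₂ * n₁) * nd = -4 * δ * (n₁ * n₂)) :
    ε₁ = -δ ∧ ε₂ = -δ ∧ 2 * n₁ = nd ∧ 2 * n₂ = nd := by
  have hpos : 0 < n₁ * n₂ := mul_pos h1 h2
  have hdd : 0 < nd * nd := mul_pos hd hd
  rcases hδ with rfl | rfl <;> rcases hε₁ with rfl | rfl <;> rcases hε₂ with rfl | rfl
  · exfalso; nlinarith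
  · exfalso
    have : nd = n₂ - n₁ := by linarith
    subst this; nlinarith
  · exfalso
    have : nd = n₁ - n₂ := by linarith
    subst this; nlinarith
  · have e : nd = n₁ + n₂ := by linarith
    subst e
    have : (n₁ - n₂) ^ 2 = 0 := by nlinarith
    have : n₁ - n₂ = 0 := by simpa using this
    refine ⟨rfl, rfl, ?_, ?_⟩ <;> linarith
  · have e : nd = n₁ + n₂ := by linarith
    subst e
    have : (n₁ - n₂) ^ 2 = 0 := by nlinarith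
    have : n₁ - n₂ = 0 := by simpa using this
    refine ⟨by norm_num, by norm_num, ?_, ?_⟩ <;> linarith
  · exfalso
    have : nd = n₁ - n₂ := by linarith
    subst this; nlinarith
  · exfalso
    have : nd = n₂ - n₁ := by linarith
    subst this; nlinarith
  · exfalso; nlinarith

section
variable (h : BSWHyp t K s) {δ : ℤ} {X : IrrCharacter G} {Y : (K →* ℂˣ) → IrrCharacter G}
  (pc : PreCommon K δ X Y) {σ : K →* ℂˣ} (hσ1 : σ ≠ 1) (hσσ : σ * σ = 1)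
  (hσu : ∀ ν : K →* ℂˣ, ν * ν = 1 → ν = 1 ∨ ν = σ)
  (ha : classInner (Theta K σ) (X : G → ℂ) = (δ : ℂ))

include h pc hσ1 hσu ha in
/-- `X = δ` on `K ∖ 1`. -/
theorem X_apply' (k : K) (hk : k ≠ 1) : (X : G → ℂ) k = (δ : ℂ) := by
  rw [X_apply h pc hσ1 hσu k hk, ha]; ring

include h pc hσ1 hσσ hσu ha in
/-- `Y_ν(t) = 2 δ ν(t)`. -/
theorem Y_apply_t (ν : K →* ℂˣ) (hν : ν * ν ≠ 1) :
    (Y ν : G → ℂ) t = 2 * (δ : ℂ) * ((ν (tK h) : ℂˣ) : ℂ) := by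
  have y1 := Y_apply h pc hσ1 hσσ hσu ν hν (tK h) (tK_ne_one h)
  rw [ha] at y1
  have e1 : (((ν⁻¹) (tK h) : ℂˣ) : ℂ) = ((ν (tK h) : ℂˣ) : ℂ) := by
    rw [hom_inv_apply, Units.val_inv_eq_inv_val]
    have := apply_t_sq (tK_mul_self h) ν
    exact inv_eq_of_mul_eq_one_left this
  rw [e1] at y1
  have : (Y ν : G → ℂ) t = (Y ν : G → ℂ) ((tK h : K) : G) := rfl
  rw [this, y1]; ring

include h pc hσ1 hσσ hσu ha in
/-- The shape of `Θ_σ` when there is a non-real character. -/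
theorem sigma_shape {ν₀ : K →* ℂˣ} (hν₀ : ν₀ * ν₀ ≠ 1) :
    ∃ η₁ η₂ : IrrCharacter G,
      Theta K σ = 1 + (δ : ℂ) • (X : G → ℂ) - (δ : ℂ) • (η₁ : G → ℂ) - (δ : ℂ) • (η₂ : G → ℂ) ∧
      (η₁ : G → ℂ) t = (δ : ℂ) * ((σ (tK h) : ℂˣ) : ℂ) ∧
      (η₂ : G → ℂ) t = (δ : ℂ) * ((σ (tK h) : ℂˣ) : ℂ) ∧
      2 * (η₁ : G → ℂ) 1 = (X : G → ℂ) 1 + (δ : ℂ) ∧
      2 * (η₂ : G → ℂ) 1 = (X : G → ℂ) 1 + (δ : ℂ) := by
  have hd := pc.δ_sq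
  have hconjδ : conj (δ : ℂ) = (δ : ℂ) := map_intCast _ _
  set R : G → ℂ := Theta K σ - 1 - (δ : ℂ) • (X : G → ℂ) with hR
  have hRgen : IsGeneralizedCharacter G R :=
    isGeneralizedCharacter_sub (isGeneralizedCharacter_sub (Theta_isGeneralizedCharacter σ)
      (isGeneralizedCharacter_of_isCharacter (isCharacter_of_irr (oneIrr G).2)))
      (irr_smul_gen δ X)
  have hΘ1 : classInner (Theta K σ) (1 : G → ℂ) = 1 := classInner_Theta_one h σ hσ1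
  have h1Θ : classInner (1 : G → ℂ) (Theta K σ) = 1 := by
    rw [← classInner_conj_symm, hΘ1, map_one]
  have hXΘ : classInner (X : G → ℂ) (Theta K σ) = (δ : ℂ) := by
    rw [← classInner_conj_symm, ha, hconjδ]
  have h11 : classInner (1 : G → ℂ) (1 : G → ℂ) = 1 := by
    rw [← oneIrr_coe]; exact irr_classInner_self (oneIrr G).2
  have h1X : classInner (1 : G → ℂ) (X : G → ℂ) = 0 := by
    rw [← oneIrr_coe, irr_inner_eq, if_neg (Ne.symm pc.hX1)]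
  have hX1 : classInner (X : G → ℂ) (1 : G → ℂ) = 0 := by
    rw [← oneIrr_coe, irr_inner_eq, if_neg pc.hX1]
  have hXX : classInner (X : G → ℂ) (X : G → ℂ) = 1 := irr_classInner_self X.2
  -- inner products of `R` with irreducibles
  have hRZ : ∀ Z : IrrCharacter G, classInner R (Z : G → ℂ)
      = classInner (Theta K σ) (Z : G → ℂ) - (if oneIrr G = Z then 1 else 0)
        - (δ : ℂ) * (if X = Z then 1 else 0) := by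
    intro Z
    rw [hR, classInner_sub_left, classInner_sub_left, classInner_smul_left, ← oneIrr_coe,
      irr_inner_eq, irr_inner_eq]
  have hRR : classInner R R = 2 := by
    rw [hR]
    simp only [classInner_sub_left, classInner_sub_right, classInner_smul_left,
      classInner_smul_right, hconjδ, classInner_Theta_sigma h hσ1 hσσ, hΘ1, h1Θ, ha, hXΘ, h11,
      h1X, hX1, hXX]
    linear_combination (-1 : ℂ) * hd
  obtain ⟨ξ₁, ξ₂, ε₁, ε₂, hne, hε₁, hε₂, hRexp⟩ := genChar_norm_two' hRgen hRR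
  have hε₁sq : (ε₁ : ℂ) * (ε₁ : ℂ) = 1 := by rcases hε₁ with h1 | h1 <;> rw [h1] <;> norm_num
  have hε₂sq : (ε₂ : ℂ) * (ε₂ : ℂ) = 1 := by rcases hε₂ with h1 | h1 <;> rw [h1] <;> norm_num
  have hε₁0 : (ε₁ : ℂ) ≠ 0 := by rcases hε₁ with h1 | h1 <;> rw [h1] <;> norm_num
  have hε₂0 : (ε₂ : ℂ) ≠ 0 := by rcases hε₂ with h1 | h1 <;> rw [h1] <;> norm_num
  have hRξ : ∀ Z : IrrCharacter G, classInner R (Z : G → ℂ)
      = (ε₁ : ℂ) * (if ξ₁ = Z then 1 else 0) + (ε₂ : ℂ) * (if ξ₂ = Z then 1 else 0) := by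
    intro Z
    rw [hRexp, classInner_add_left, classInner_smul_left, classInner_smul_left, irr_inner_eq,
      irr_inner_eq]
  have hRξ₁ : classInner R (ξ₁ : G → ℂ) = (ε₁ : ℂ) := by
    rw [hRξ, if_pos rfl, if_neg (Ne.symm hne)]; ring
  have hRξ₂ : classInner R (ξ₂ : G → ℂ) = (ε₂ : ℂ) := by
    rw [hRξ, if_neg hne, if_pos rfl]; ring
  -- `R` is orthogonal to `1`, `X`, `Y ν`
  have hR1 : classInner R ((oneIrr G : IrrCharacter G) : G → ℂ) = 0 := by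
    rw [hRZ, if_pos rfl, if_neg pc.hX1, oneIrr_coe, hΘ1]; ring
  have hRX : classInner R (X : G → ℂ) = 0 := by
    rw [hRZ, if_neg (Ne.symm pc.hX1), if_pos rfl, ha]; ring
  have hRY : ∀ ν : K →* ℂˣ, ν * ν ≠ 1 → classInner R (Y ν : G → ℂ) = 0 := by
    intro ν hν
    have hνσ : ν ≠ σ := by rintro rfl; exact hν hσσ
    have hνiσ : ν⁻¹ ≠ σ := fun hc => hνσ (hom_eq_of_inv_eq hσσ hc)
    rw [hRZ, if_neg (Ne.symm (pc.hY1 ν hν)), if_neg (Ne.symm (pc.hXY ν hν)),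
      inner_Y h pc hσ1 hσσ hσu ν hν σ, if_neg (Ne.symm hνσ), if_neg (Ne.symm hνiσ), if_pos rfl,
      ha]
    ring
  have hξne : ∀ ξ : IrrCharacter G, classInner R (ξ : G → ℂ) ≠ 0 →
      ξ ≠ oneIrr G ∧ ξ ≠ X ∧ ∀ ν : K →* ℂˣ, ν * ν ≠ 1 → Y ν ≠ ξ := by
    intro ξ hξ
    refine ⟨?_, ?_, ?_⟩
    · rintro rfl; exact hξ hR1
    · rintro rfl; exact hξ hRX
    · rintro ν hν rfl; exact hξ (hRY ν hν)
  -- `⟨Θ_μ, ξ⟩` for the constituents of `R`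
  have hΘξ : ∀ (ξ : IrrCharacter G) (ε : ℂ), classInner R (ξ : G → ℂ) = ε → ε ≠ 0 →
      ∀ μ : K →* ℂˣ, classInner (Theta K μ) (ξ : G → ℂ) = ε * (if μ = σ then 1 else 0) := by
    intro ξ ε hξ hε μ
    obtain ⟨n1, n2, n3⟩ := hξne ξ (by rw [hξ]; exact hε)
    by_cases c1 : μ = 1
    · rw [c1, Theta_one, classInner_zero_left, if_neg (Ne.symm hσ1), mul_zero]
    · by_cases c2 : μ = σ
      · rw [if_pos c2, mul_one, c2]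
        have := hRZ ξ
        rw [hξ, if_neg (Ne.symm n1), if_neg (Ne.symm n2)] at this
        linear_combination (-1 : ℂ) * this
      · rw [if_neg c2, mul_zero]
        have hμ : μ * μ ≠ 1 := by
          intro hc
          rcases hσu μ hc with h3 | h3
          · exact c1 h3
          · exact c2 h3
        rw [pc.eq μ hμ, classInner_decomp_irr, if_neg (Ne.symm n1), if_neg (Ne.symm n2),
          if_neg (n3 μ hμ)]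
        ring
  -- values on `K ∖ 1`
  have hξK : ∀ (ξ : IrrCharacter G) (ε : ℤ), classInner R (ξ : G → ℂ) = (ε : ℂ) → (ε : ℂ) ≠ 0 →
      ∀ k : K, k ≠ 1 → (ξ : G → ℂ) k = -(ε : ℂ) * ((σ k : ℂˣ) : ℂ) := by
    intro ξ ε hξ hε k hk
    rw [char_apply_mem h _ (irr_isClassFunction ξ) k hk]
    have h1 : ∀ μ : K →* ℂˣ, conj (classInner (Theta K μ) (ξ : G → ℂ)) * ((μ k : ℂˣ) : ℂ)
        = (ε : ℂ) * (if μ = σ then 1 else 0) * ((μ k : ℂˣ) : ℂ) := by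
      intro μ
      rw [Theta_inner_conj, hΘξ ξ ε hξ hε]
    simp only [h1, sum_ite_eq_apply]
    ring
  have hξ₁t : (ξ₁ : G → ℂ) t = -(ε₁ : ℂ) * ((σ (tK h) : ℂˣ) : ℂ) :=
    hξK ξ₁ ε₁ hRξ₁ hε₁0 (tK h) (tK_ne_one h)
  have hξ₂t : (ξ₂ : G → ℂ) t = -(ε₂ : ℂ) * ((σ (tK h) : ℂˣ) : ℂ) :=
    hξK ξ₂ ε₂ hRξ₂ hε₂0 (tK h) (tK_ne_one h)
  have hσt : ((σ (tK h) : ℂˣ) : ℂ) * ((σ (tK h) : ℂˣ) : ℂ) = 1 := apply_t_sq (tK_mul_self h) σ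
  have hXt : (X : G → ℂ) t = (δ : ℂ) := X_apply' h pc hσ1 hσu ha (tK h) (tK_ne_one h)
  -- degrees
  obtain ⟨n₁, hn₁, he₁⟩ := irr_one_eq ξ₁
  obtain ⟨n₂, hn₂, he₂⟩ := irr_one_eq ξ₂
  obtain ⟨nd, hnd, hed⟩ := irr_one_eq (Y ν₀)
  have hdeg : (ε₁ : ℂ) * n₁ + (ε₂ : ℂ) * n₂ = -(δ : ℂ) * nd := by
    have h1 : R 1 = (ε₁ : ℂ) * n₁ + (ε₂ : ℂ) * n₂ := by
      rw [hRexp]
      simp only [Pi.add_apply, Pi.smul_apply, smul_eq_mul, he₁, he₂]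
    have h2 : R 1 = -1 - (δ : ℂ) * (X : G → ℂ) 1 := by
      rw [hR]
      simp only [Pi.sub_apply, Pi.smul_apply, Pi.one_apply, smul_eq_mul, Theta_apply_one h σ]
      ring
    have h3 := pc.deg ν₀ hν₀
    rw [hed] at h3
    rw [← h1, h2]
    linear_combination (δ : ℂ) * h3 + hd
  -- the β identity
  have hβ : (ε₁ : ℂ) / n₁ + (ε₂ : ℂ) / n₂ = -4 * (δ : ℂ) / nd := by
    have b1 := beta_eq' h σ hσ1
    have b2 := beta_eq' h ν₀ (ne_one_of_sq_ne_one hν₀)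
    have hΘσ : Theta K σ = 1 + (δ : ℂ) • (X : G → ℂ) + ((ε₁ : ℂ) • (ξ₁ : G → ℂ)
        + (ε₂ : ℂ) • (ξ₂ : G → ℂ)) := by
      rw [← hRexp, hR]; abel
    rw [hΘσ, Lf_add, Lf_add, Lf_add, Lf_smul, Lf_smul, Lf_smul, Lf_one, Lf_irr, Lf_irr,
      Lf_irr] at b1
    rw [pc.eq ν₀ hν₀, Lf_decomp] at b2
    have hYt := Y_apply_t h pc hσ1 hσσ hσu ha ν₀ hν₀
    have hνt : ((ν₀ (tK h) : ℂˣ) : ℂ) * ((ν₀ (tK h) : ℂˣ) : ℂ) = 1 :=
      apply_t_sq (tK_mul_self h) ν₀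
    unfold F1 at b1 b2
    rw [oneIrr_coe, hXt, hξ₁t, hξ₂t, he₁, he₂] at b1
    rw [oneIrr_coe, hXt, hYt, hed] at b2
    have hn₁0 : (n₁ : ℂ) ≠ 0 := by exact_mod_cast hn₁.ne'
    have hn₂0 : (n₂ : ℂ) ≠ 0 := by exact_mod_cast hn₂.ne'
    have hnd0 : (nd : ℂ) ≠ 0 := by exact_mod_cast hnd.ne'
    have e1 : -(ε₁ : ℂ) * ((σ (tK h) : ℂˣ) : ℂ) * (-(ε₁ : ℂ) * ((σ (tK h) : ℂˣ) : ℂ)) = 1 := by
      linear_combination (((σ (tK h) : ℂˣ) : ℂ) ^ 2) * hε₁sq + hσt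
    have e2 : -(ε₂ : ℂ) * ((σ (tK h) : ℂˣ) : ℂ) * (-(ε₂ : ℂ) * ((σ (tK h) : ℂˣ) : ℂ)) = 1 := by
      linear_combination (((σ (tK h) : ℂˣ) : ℂ) ^ 2) * hε₂sq + hσt
    have e3 : 2 * (δ : ℂ) * ((ν₀ (tK h) : ℂˣ) : ℂ) * (2 * (δ : ℂ) * ((ν₀ (tK h) : ℂˣ) : ℂ)) = 4 := by
      linear_combination (4 * ((ν₀ (tK h) : ℂˣ) : ℂ) ^ 2) * hd + 4 * hνt
    rw [e1, e2] at b1
    rw [e3] at b2
    linear_combination b1 - b2
  have hn₁0 : (n₁ : ℂ) ≠ 0 := by exact_mod_cast hn₁.ne'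
  have hn₂0 : (n₂ : ℂ) ≠ 0 := by exact_mod_cast hn₂.ne'
  have hnd0 : (nd : ℂ) ≠ 0 := by exact_mod_cast hnd.ne'
  have hβ' : ((ε₁ : ℂ) * n₂ + (ε₂ : ℂ) * n₁) * nd = -4 * (δ : ℂ) * ((n₁ : ℂ) * n₂) := by
    have := hβ
    field_simp at this
    linear_combination this
  have hdegZ : ε₁ * (n₁ : ℤ) + ε₂ * (n₂ : ℤ) = -δ * (nd : ℤ) := by exact_mod_cast hdeg
  have hβZ : (ε₁ * (n₂ : ℤ) + ε₂ * (n₁ : ℤ)) * (nd : ℤ) = -4 * δ * ((n₁ : ℤ) * (n₂ : ℤ)) := by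
    exact_mod_cast hβ'
  obtain ⟨r1, r2, r3, r4⟩ := arith_shape δ ε₁ ε₂ n₁ n₂ nd pc.hδ hε₁ hε₂ (by exact_mod_cast hn₁)
    (by exact_mod_cast hn₂) (by exact_mod_cast hnd) hdegZ hβZ
  have hdX : (nd : ℂ) = (X : G → ℂ) 1 + (δ : ℂ) := by rw [← hed]; exact pc.deg ν₀ hν₀
  refine ⟨ξ₁, ξ₂, ?_, ?_, ?_, ?_, ?_⟩
  · have : Theta K σ = R + 1 + (δ : ℂ) • (X : G → ℂ) := by rw [hR]; abel
    rw [this, hRexp, r1, r2]
    push_cast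
    funext g
    simp only [Pi.add_apply, Pi.sub_apply, Pi.smul_apply, Pi.one_apply, smul_eq_mul]
    ring
  · rw [hξ₁t, r1]; push_cast; ring
  · rw [hξ₂t, r2]; push_cast; ring
  · rw [he₁, ← hdX]; exact_mod_cast r3
  · rw [he₂, ← hdX]; exact_mod_cast r4

include h pc hσ1 hσσ hσu ha in
/-- The value of `β` in terms of the degree of `X`. -/
theorem beta_value {ν₀ : K →* ℂˣ} (hν₀ : ν₀ * ν₀ ≠ 1) :
    4 * (Fintype.card K : ℂ) ^ 3 / (Fintype.card G : ℂ)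
      = 1 + (δ : ℂ) / (X : G → ℂ) 1 - 4 * (δ : ℂ) / ((X : G → ℂ) 1 + (δ : ℂ)) := by
  have hd := pc.δ_sq
  have b2 := beta_eq' h ν₀ (ne_one_of_sq_ne_one hν₀)
  rw [pc.eq ν₀ hν₀, Lf_decomp] at b2
  have hYt := Y_apply_t h pc hσ1 hσσ hσu ha ν₀ hν₀
  have hXt : (X : G → ℂ) t = (δ : ℂ) := X_apply' h pc hσ1 hσu ha (tK h) (tK_ne_one h)
  have hνt : ((ν₀ (tK h) : ℂˣ) : ℂ) * ((ν₀ (tK h) : ℂˣ) : ℂ) = 1 :=
    apply_t_sq (tK_mul_self h) ν₀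
  unfold F1 at b2
  rw [oneIrr_coe, hXt, hYt, pc.deg ν₀ hν₀] at b2
  have e3 : 2 * (δ : ℂ) * ((ν₀ (tK h) : ℂˣ) : ℂ) * (2 * (δ : ℂ) * ((ν₀ (tK h) : ℂˣ) : ℂ)) = 4 := by
    linear_combination (4 * ((ν₀ (tK h) : ℂˣ) : ℂ) ^ 2) * hd + 4 * hνt
  rw [e3] at b2
  rw [← b2]
  simp only [Pi.one_apply]
  linear_combination ((δ : ℂ) / (X : G → ℂ) 1) * hd

/-- The uniform data extracted from the decomposition of the `Θ_μ`. -/
structure Shape (h : BSWHyp t K s) (δ : ℤ) (X : IrrCharacter G) : Prop where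
  hδ : δ = 1 ∨ δ = -1
  hX1 : X ≠ oneIrr G
  hXK : ∀ k : K, k ≠ 1 → (X : G → ℂ) k = (δ : ℂ)
  hΘX : ∀ μ : K →* ℂˣ, μ ≠ 1 → classInner (Theta K μ) (X : G → ℂ) = (δ : ℂ)
  L2 : ∀ μ : K →* ℂˣ, μ ≠ 1 → ∀ y : G, Theta K μ y = 0 →
    Lf (Fy t y) (Theta K μ) = 1 + conj ((X : G → ℂ) y) / (X : G → ℂ) 1
      - 2 * ((μ (tK h) : ℂˣ) : ℂ) * (conj ((X : G → ℂ) y) + (δ : ℂ))
        / ((X : G → ℂ) 1 + (δ : ℂ))

include pc hσ1 hσσ hσu ha in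
theorem shape_of_common {ν₀ : K →* ℂˣ} (hν₀ : ν₀ * ν₀ ≠ 1) : Shape h δ X := by
  have hd := pc.δ_sq
  have hXK := X_apply' h pc hσ1 hσu ha
  have hXt : (X : G → ℂ) t = (δ : ℂ) := hXK (tK h) (tK_ne_one h)
  refine ⟨pc.hδ, pc.hX1, hXK, ?_, ?_⟩
  · intro μ hμ
    rw [inner_X pc hσu μ, if_neg hμ]
    split_ifs
    · exact ha
    · rfl
  · intro μ hμ y hy
    by_cases c2 : μ = σ
    · subst c2
      obtain ⟨η₁, η₂, e, t1, t2, d1, d2⟩ := sigma_shape h pc hμ hσσ hσu ha hν₀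
      exact L2_pair hd X η₁ η₂ e _ hXt t1 t2 d1 d2 y hy
    · have hμμ : μ * μ ≠ 1 := by
        intro hc
        rcases hσu μ hc with h3 | h3
        · exact hμ h3
        · exact c2 h3
      exact L2_irr hd X (Y μ) (pc.eq μ hμμ) _ hXt (Y_apply_t h pc hσ1 hσσ hσu ha μ hμμ)
        (pc.deg μ hμμ) y hy

end

end Cfsg.Agent.Lib.H8.BSW
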