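import Cfsg.Agent.Lib.H8.BSWCommon

/-!
# Brauer–Suzuki–Wall (S3282): interaction of the common constituent with `Θ_σ`
-/

set_option autoImplicit false

namespace Cfsg.Agent.Lib.H8.BSW

open Cfsg Cfsg.Agent.Lib.L0 Cfsg.Agent.Lib.H8 Cfsg.Agent.Lib.H24 Subgroup
open scoped ComplexConjugate Classical

variable {G : Type*} [Group G] [Fintype G] {t : G} {K : Subgroup G} {s : G} [Fintype K]

theorem irr_inner_eq (A B : IrrCharacter G) :
    classInner (A : G → ℂ) (B : G → ℂ) = if A = B then 1 else 0 := by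
  split_ifs with h
  · subst h; exact irr_classInner_self A.2
  · exact irr_classInner_ne A.2 B.2 (fun hc => h (Subtype.ext hc))

/-- inner product of `1 + δ X - δ Y` with an irreducible character -/
theorem classInner_decomp_irr (δ : ℤ) (X Y Z : IrrCharacter G) :
    classInner (1 + (δ : ℂ) • (X : G → ℂ) - (δ : ℂ) • (Y : G → ℂ)) (Z : G → ℂ)
      = (if oneIrr G = Z then 1 else 0) + (δ : ℂ) * (if X = Z then 1 else 0)
        - (δ : ℂ) * (if Y = Z then 1 else 0) := by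
  rw [classInner_sub_left, classInner_add_left, classInner_smul_left, classInner_smul_left,
    ← oneIrr_coe, irr_inner_eq, irr_inner_eq, irr_inner_eq]

/-- inner product of a class function with `1 + δ X - δ Y` -/
theorem classInner_right_decomp (δ : ℤ) (X Y : IrrCharacter G) (Θ : G → ℂ) :
    classInner Θ (1 + (δ : ℂ) • (X : G → ℂ) - (δ : ℂ) • (Y : G → ℂ))
      = classInner Θ (1 : G → ℂ) + (δ : ℂ) * classInner Θ (X : G → ℂ)
        - (δ : ℂ) * classInner Θ (Y : G → ℂ) := by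
  rw [classInner_sub_right, classInner_add_right, classInner_smul_right, classInner_smul_right]
  simp

omit [Fintype K] in
theorem Theta_inner_int (ν : K →* ℂˣ) (Z : IrrCharacter G) :
    ∃ c : ℤ, classInner (Theta K ν) (Z : G → ℂ) = c :=
  genChar_classInner_irr_int (Theta_isGeneralizedCharacter ν) Z.2

omit [Fintype K] in
theorem Theta_inner_conj (ν : K →* ℂˣ) (Z : IrrCharacter G) :
    conj (classInner (Theta K ν) (Z : G → ℂ)) = classInner (Theta K ν) (Z : G → ℂ) := by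
  obtain ⟨c, hc⟩ := Theta_inner_int ν Z
  rw [hc]; simp

omit [Fintype K] in
theorem Lf_decomp (F : IrrCharacter G → ℂ) (δ : ℤ) (X Y : IrrCharacter G) :
    Lf F (1 + (δ : ℂ) • (X : G → ℂ) - (δ : ℂ) • (Y : G → ℂ))
      = F (oneIrr G) + (δ : ℂ) * F X - (δ : ℂ) * F Y := by
  rw [Lf_sub, Lf_add, Lf_smul, Lf_smul, Lf_one, Lf_irr, Lf_irr]

/-- the function `χ ↦ χ(t)² / χ(1)` -/
noncomputable def F1 (t : G) : IrrCharacter G → ℂ :=
  fun χ => (χ : G → ℂ) t * (χ : G → ℂ) t / (χ : G → ℂ) 1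

theorem beta_eq' (h : BSWHyp t K s) (ν : K →* ℂˣ) (hν : ν ≠ 1) :
    Lf (F1 t) (Theta K ν) = 4 * (Fintype.card K : ℂ) ^ 3 / (Fintype.card G : ℂ) :=
  beta_eq h ν hν

section
variable (h : BSWHyp t K s) {δ : ℤ} {X : IrrCharacter G} {Y : (K →* ℂˣ) → IrrCharacter G}
  (pc : PreCommon K δ X Y) {σ : K →* ℂˣ} (hσ1 : σ ≠ 1) (hσσ : σ * σ = 1)
  (hσu : ∀ ν : K →* ℂˣ, ν * ν = 1 → ν = 1 ∨ ν = σ)

include pc in
omit [Fintype K] in
theorem PreCommon.δ_sq : (δ : ℂ) * (δ : ℂ) = 1 := by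
  rcases pc.hδ with h | h <;> rw [h] <;> norm_num

include pc hσu in
/-- `⟨Θ_μ, X⟩` for all `μ`. -/
theorem inner_X (μ : K →* ℂˣ) :
    classInner (Theta K μ) (X : G → ℂ)
      = if μ = 1 then 0 else if μ = σ then classInner (Theta K σ) (X : G → ℂ) else (δ : ℂ) := by
  by_cases h1 : μ = 1
  · rw [if_pos h1, h1, Theta_one, classInner_zero_left]
  · rw [if_neg h1]
    by_cases h2 : μ = σ
    · rw [if_pos h2, h2]
    · rw [if_neg h2]
      have hμ : μ * μ ≠ 1 := by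
        intro hc
        rcases hσu μ hc with h3 | h3
        · exact h1 h3
        · exact h2 h3
      rw [pc.eq μ hμ, classInner_decomp_irr, if_neg (Ne.symm pc.hX1), if_pos rfl,
        if_neg (pc.hXY μ hμ)]
      ring

include h pc hσ1 hσσ hσu in
/-- `⟨Θ_μ, Y_ν⟩` for all `μ`, `ν` non-real. -/
theorem inner_Y (ν : K →* ℂˣ) (hν : ν * ν ≠ 1) (μ : K →* ℂˣ) :
    classInner (Theta K μ) (Y ν : G → ℂ)
      = -(δ : ℂ) * ((if μ = ν then 1 else 0) + (if μ = ν⁻¹ then 1 else 0))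
        + (classInner (Theta K σ) (X : G → ℂ) - (δ : ℂ)) * (if μ = σ then 1 else 0) := by
  have hν1 : ν ≠ 1 := ne_one_of_sq_ne_one hν
  have hνσ : ν ≠ σ := by rintro rfl; exact hν hσσ
  have hνi1 : ν⁻¹ ≠ 1 := fun hc => hν1 (hom_eq_one_of_inv_eq_one hc)
  have hνiσ : ν⁻¹ ≠ σ := fun hc => hνσ (hom_eq_of_inv_eq hσσ hc)
  by_cases h1 : μ = 1
  · subst h1
    rw [Theta_one, classInner_zero_left, if_neg (Ne.symm hν1), if_neg (Ne.symm hνi1),
      if_neg (Ne.symm hσ1)]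
    ring
  · by_cases h2 : μ = σ
    · subst h2
      rw [if_neg (Ne.symm hνσ), if_neg (Ne.symm hνiσ), if_pos rfl]
      have hg := classInner_Theta_Theta h μ ν hσ1 hν1
      rw [if_neg (Ne.symm hνσ), if_neg (Ne.symm hνiσ), pc.eq ν hν, classInner_right_decomp,
        classInner_Theta_one h μ hσ1] at hg
      have hd := pc.δ_sq
      linear_combination (-(δ : ℂ)) * hg + (classInner (Theta K μ) (X : G → ℂ) - classInner (Theta K μ) (Y ν : G → ℂ)) * hd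
    · rw [if_neg h2, mul_zero, add_zero]
      have hμ : μ * μ ≠ 1 := by
        intro hc
        rcases hσu μ hc with h3 | h3
        · exact h1 h3
        · exact h2 h3
      rw [pc.eq μ hμ, classInner_decomp_irr, if_neg (Ne.symm (pc.hY1 ν hν)),
        if_neg (Ne.symm (pc.hXY ν hν))]
      have hyy := pc.hYY μ ν hμ hν
      have hνν := ne_inv_of_sq_ne_one hν
      by_cases c1 : μ = ν
      · rw [if_pos (hyy.mpr (Or.inl c1)), if_pos c1, if_neg (by rw [c1]; exact hνν)]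
        ring
      · by_cases c2 : μ = ν⁻¹
        · rw [if_pos (hyy.mpr (Or.inr c2)), if_neg c1, if_pos c2]
          ring
        · have : ¬ (Y μ = Y ν) := fun hc => by
            rcases hyy.mp hc with h3 | h3
            · exact c1 h3
            · exact c2 h3
          rw [if_neg this, if_neg c1, if_neg c2]
          ring

omit [Fintype G] in
theorem sum_ite_eq_apply (ρ : K →* ℂˣ) (c : ℂ) (k : K) :
    ∑ μ : K →* ℂˣ, c * (if μ = ρ then 1 else 0) * ((μ k : ℂˣ) : ℂ) = c * ((ρ k : ℂˣ) : ℂ) := by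
  have : ∀ μ : K →* ℂˣ, c * (if μ = ρ then 1 else 0) * ((μ k : ℂˣ) : ℂ)
      = if μ = ρ then c * ((μ k : ℂˣ) : ℂ) else 0 := by
    intro μ; split_ifs <;> ring
  simp only [this, Finset.sum_ite_eq', Finset.mem_univ, if_true]

include h pc hσ1 hσu in
/-- Values of `X` on `K ∖ 1`. -/
theorem X_apply (k : K) (hk : k ≠ 1) :
    (X : G → ℂ) k = (δ : ℂ) - (classInner (Theta K σ) (X : G → ℂ) - (δ : ℂ)) * ((σ k : ℂˣ) : ℂ) := by
  rw [char_apply_mem h _ (irr_isClassFunction X) k hk]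
  simp only [Theta_inner_conj]
  have h1 : ∀ μ : K →* ℂˣ, classInner (Theta K μ) (X : G → ℂ) * ((μ k : ℂˣ) : ℂ)
      = (δ : ℂ) * ((μ k : ℂˣ) : ℂ) + (-(δ : ℂ)) * (if μ = 1 then 1 else 0) * ((μ k : ℂˣ) : ℂ)
        + (classInner (Theta K σ) (X : G → ℂ) - (δ : ℂ)) * (if μ = σ then 1 else 0)
          * ((μ k : ℂˣ) : ℂ) := by
    intro μ
    rw [inner_X pc hσu μ]
    by_cases c1 : μ = 1
    · rw [if_pos c1, if_pos c1, if_neg (by rw [c1]; exact Ne.symm hσ1)]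
      ring
    · by_cases c2 : μ = σ
      · rw [if_neg c1, if_pos c2, if_neg c1, if_pos c2]; ring
      · rw [if_neg c1, if_neg c2, if_neg c1, if_neg c2]; ring
  simp only [h1, Finset.sum_add_distrib, sum_ite_eq_apply, ← Finset.mul_sum,
    sum_dual_apply h.commK hk]
  simp only [MonoidHom.one_apply, Units.val_one]
  ring

include h pc hσ1 hσσ hσu in
/-- Values of `Y_ν` on `K ∖ 1`. -/
theorem Y_apply (ν : K →* ℂˣ) (hν : ν * ν ≠ 1) (k : K) (hk : k ≠ 1) :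
    (Y ν : G → ℂ) k = (δ : ℂ) * (((ν k : ℂˣ) : ℂ) + (((ν⁻¹) k : ℂˣ) : ℂ))
      - (classInner (Theta K σ) (X : G → ℂ) - (δ : ℂ)) * ((σ k : ℂˣ) : ℂ) := by
  rw [char_apply_mem h _ (irr_isClassFunction (Y ν)) k hk]
  simp only [Theta_inner_conj]
  have h1 : ∀ μ : K →* ℂˣ, classInner (Theta K μ) (Y ν : G → ℂ) * ((μ k : ℂˣ) : ℂ)
      = (-(δ : ℂ)) * (if μ = ν then 1 else 0) * ((μ k : ℂˣ) : ℂ)
        + (-(δ : ℂ)) * (if μ = ν⁻¹ then 1 else 0) * ((μ k : ℂˣ) : ℂ)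
        + (classInner (Theta K σ) (X : G → ℂ) - (δ : ℂ)) * (if μ = σ then 1 else 0)
          * ((μ k : ℂˣ) : ℂ) := by
    intro μ
    rw [inner_Y h pc hσ1 hσσ hσu ν hν μ]
    ring
  simp only [h1, Finset.sum_add_distrib, sum_ite_eq_apply]
  ring

include h pc hσ1 hσσ hσu in
/-- The `β`-argument: if two non-real characters take different values at `t` then
`⟨Θ_σ, X⟩ = δ`. -/
theorem inner_sigma_X_of_apply_t {ν μ : K →* ℂˣ} (hν : ν * ν ≠ 1) (hμ : μ * μ ≠ 1)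
    (hνt : ((ν ⟨t, h.htK⟩ : ℂˣ) : ℂ) = 1) (hμt : ((μ ⟨t, h.htK⟩ : ℂˣ) : ℂ) = -1) :
    classInner (Theta K σ) (X : G → ℂ) = (δ : ℂ) := by
  set tK : K := ⟨t, h.htK⟩ with htK
  have ht1 : tK ≠ 1 := fun hc => h.t_ne_one (congrArg Subtype.val hc)
  have b1 := beta_eq' h ν (ne_one_of_sq_ne_one hν)
  have b2 := beta_eq' h μ (ne_one_of_sq_ne_one hμ)
  rw [pc.eq ν hν, Lf_decomp] at b1
  rw [pc.eq μ hμ, Lf_decomp] at b2
  have hd := pc.δ_sq
  have hF : F1 t (Y ν) = F1 t (Y μ) := by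
    have : (δ : ℂ) * F1 t (Y ν) = (δ : ℂ) * F1 t (Y μ) := by
      linear_combination b2 - b1
    have h2 : (δ : ℂ) * ((δ : ℂ) * F1 t (Y ν)) = (δ : ℂ) * ((δ : ℂ) * F1 t (Y μ)) := by rw [this]
    rwa [← mul_assoc, ← mul_assoc, hd, one_mul, one_mul] at h2
  unfold F1 at hF
  rw [pc.deg ν hν, pc.deg μ hμ] at hF
  have hdeg0 : (X : G → ℂ) 1 + (δ : ℂ) ≠ 0 := by
    rw [← pc.deg ν hν]; exact irr_one_ne_zero (Y ν)
  have hsq : (Y ν : G → ℂ) t * (Y ν : G → ℂ) t = (Y μ : G → ℂ) t * (Y μ : G → ℂ) t := by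
    field_simp at hF
    rw [sq, sq] at hF
    exact hF
  have y1 := Y_apply h pc hσ1 hσσ hσu ν hν tK ht1
  have y2 := Y_apply h pc hσ1 hσσ hσu μ hμ tK ht1
  have e1 : (((ν⁻¹) tK : ℂˣ) : ℂ) = 1 := by
    rw [hom_inv_apply, Units.val_inv_eq_inv_val, hνt, inv_one]
  have e2 : (((μ⁻¹) tK : ℂˣ) : ℂ) = -1 := by
    rw [hom_inv_apply, Units.val_inv_eq_inv_val, hμt]; norm_num
  rw [hνt, e1] at y1
  rw [hμt, e2] at y2
  have y1' : (Y ν : G → ℂ) t = (δ : ℂ) * (1 + 1)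
      - (classInner (Theta K σ) (X : G → ℂ) - (δ : ℂ)) * ((σ tK : ℂˣ) : ℂ) := y1
  have y2' : (Y μ : G → ℂ) t = (δ : ℂ) * (-1 + -1)
      - (classInner (Theta K σ) (X : G → ℂ) - (δ : ℂ)) * ((σ tK : ℂˣ) : ℂ) := y2
  rw [y1', y2'] at hsq
  have hσt : ((σ tK : ℂˣ) : ℂ) * ((σ tK : ℂˣ) : ℂ) = 1 := by
    apply apply_t_sq
    apply Subtype.ext
    exact h.tt
  set b := classInner (Theta K σ) (X : G → ℂ) - (δ : ℂ) with hb
  set w := ((σ tK : ℂˣ) : ℂ) with hw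
  have h8 : (δ : ℂ) * b * w = 0 := by linear_combination (-1 / 8 : ℂ) * hsq
  have hb0 : b = 0 := by
    have : (δ : ℂ) * (δ : ℂ) * b * (w * w) = 0 := by
      linear_combination (δ : ℂ) * w * h8
    rwa [hd, hσt, one_mul, mul_one] at this
  exact sub_eq_zero.mp hb0

end

end Cfsg.Agent.Lib.H8.BSW
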