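import Cfsg.Agent.Lib.H8.BSWBasic2
import Cfsg.Agent.Lib.L0.CharPairs

/-!
# Brauer–Suzuki–Wall (S3282): the generalized characters `Θ_ν = Ind_K^G (1 - ν)`
-/

set_option autoImplicit false

namespace Cfsg.Agent.Lib.H8.BSW

open Cfsg Cfsg.Agent.Lib.L0 Cfsg.Agent.Lib.H8 Subgroup
open scoped ComplexConjugate

variable {G : Type*} [Group G] [Fintype G] {t : G} {K : Subgroup G} {s : G}

omit [Fintype G] in
theorem oneSub_eq_sub (ν : K →* ℂˣ) : oneSub ν = 1 - lamF ν := by
  funext x; rfl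

/-- `Θ_ν = Ind_K^G (1 - ν)`. -/
noncomputable def Theta (K : Subgroup G) (ν : K →* ℂˣ) : G → ℂ := indFun K (oneSub ν)

theorem Theta_one : Theta K (1 : K →* ℂˣ) = 0 := by
  unfold Theta
  have : oneSub (1 : K →* ℂˣ) = 0 := by
    funext x; unfold oneSub; simp
  rw [this, indFun_zero]

theorem Theta_isClassFunction (ν : K →* ℂˣ) : IsClassFunction G (Theta K ν) :=
  indFun_isClassFunction K _

theorem Theta_isGeneralizedCharacter (ν : K →* ℂˣ) : IsGeneralizedCharacter G (Theta K ν) :=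
  SpecialData.isGeneralizedCharacter ν

theorem Theta_apply_mem (h : BSWHyp t K s) (ν : K →* ℂˣ) (k : K) :
    Theta K ν (k : G) = 2 - ((ν k : ℂˣ) : ℂ) - (((ν k)⁻¹ : ℂˣ) : ℂ) :=
  (h.specialData ν).indFun_apply_mem k

theorem Theta_apply_one (h : BSWHyp t K s) (ν : K →* ℂˣ) : Theta K ν 1 = 0 :=
  (h.specialData ν).indFun_one

/-- `Θ_ν` vanishes off the conjugates of `K ∖ 1`. -/
theorem Theta_eq_zero (ν : K →* ℂˣ) {g : G}
    (hg : ∀ k ∈ K, k ≠ 1 → ∀ x : G, x * k * x⁻¹ ≠ g) : Theta K ν g = 0 := by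
  apply indFun_oneSub_eq_zero
  intro x hx
  have h1 : x⁻¹ * g * x = 1 := by
    by_contra hne
    apply hg (x⁻¹ * g * x) hx hne x
    group
  have : (⟨x⁻¹ * g * x, hx⟩ : K) = 1 := Subtype.ext h1
  rw [this, map_one]

theorem restrict_Theta (h : BSWHyp t K s) (ν : K →* ℂˣ) :
    (fun k : K => Theta K ν (k : G)) = 1 + 1 - lamF ν - lamF ν⁻¹ :=
  (h.specialData ν).restrict_eq

variable [Fintype K]

/-- Frobenius reciprocity for `Θ_ν`. -/
theorem classInner_Theta_left (ν : K →* ℂˣ) (χ : G → ℂ) (hχ : IsClassFunction G χ) :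
    classInner (Theta K ν) χ
      = classInner (1 : K → ℂ) (fun k : K => χ k) - classInner (lamF ν) (fun k : K => χ k) := by
  unfold Theta
  rw [frobenius_reciprocity K _ _ hχ, oneSub_eq_sub, classInner_sub_left]

open scoped Classical in
theorem classInner_Theta_Theta (h : BSWHyp t K s) (μ ν : K →* ℂˣ) (hμ : μ ≠ 1) (hν : ν ≠ 1) :
    classInner (Theta K μ) (Theta K ν)
      = 2 + (if μ = ν then 1 else 0) + (if μ = ν⁻¹ then 1 else 0) := by
  rw [classInner_Theta_left μ _ (Theta_isClassFunction ν), restrict_Theta h ν]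
  have hν' : ν⁻¹ ≠ 1 := by
    intro h1
    apply hν
    ext x
    have h2 : (ν⁻¹) x = (1 : K →* ℂˣ) x := by rw [h1]
    rw [MonoidHom.inv_apply, MonoidHom.one_apply, inv_eq_one] at h2
    rw [h2]; rfl
  have e1 : (1 : K → ℂ) = lamF (1 : K →* ℂˣ) := lamF_one.symm
  rw [e1]
  simp only [classInner_sub_right, classInner_add_right, classInner_lamF]
  rw [if_neg (Ne.symm hν), if_neg (Ne.symm hν'), if_neg hμ]
  simp only [if_true]
  ring

theorem classInner_Theta_one (h : BSWHyp t K s) (ν : K →* ℂˣ) (hν : ν ≠ 1) :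
    classInner (Theta K ν) (1 : G → ℂ) = 1 := by
  apply (h.specialData ν).classInner_one
  by_contra hcon
  push Not at hcon
  apply hν
  ext x
  rw [hcon x]; rfl

end Cfsg.Agent.Lib.H8.BSW

namespace Cfsg.Agent.Lib.H8.BSW

open Cfsg Cfsg.Agent.Lib.L0 Cfsg.Agent.Lib.H8 Subgroup
open scoped ComplexConjugate

variable {G : Type*} [Group G] [Fintype G] {t : G} {K : Subgroup G} {s : G} [Fintype K]

/-- multiplicities in the restriction to `K` in terms of `Θ`. -/
theorem classInner_restrict_lamF (ν : K →* ℂˣ) (χ : G → ℂ) (hχ : IsClassFunction G χ) :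
    classInner (fun k : K => χ k) (lamF ν)
      = classInner (fun k : K => χ k) (1 : K → ℂ) - conj (classInner (Theta K ν) χ) := by
  rw [classInner_Theta_left ν χ hχ, map_sub, classInner_conj_symm, classInner_conj_symm]
  ring

/-- Values of a class function on `K ∖ 1` in terms of its inner products with the `Θ_ν`. -/
theorem char_apply_mem (h : BSWHyp t K s) (χ : G → ℂ) (hχ : IsClassFunction G χ) (k : K)
    (hk : k ≠ 1) :
    χ k = - ∑ ν : K →* ℂˣ, conj (classInner (Theta K ν) χ) * ((ν k : ℂˣ) : ℂ) := by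
  have hexp := expansion h.commK (fun k : K => χ k) k
  simp only [classInner_restrict_lamF _ χ hχ, sub_mul, Finset.sum_sub_distrib] at hexp
  rw [← Finset.mul_sum, sum_dual_apply h.commK hk, mul_zero, zero_sub] at hexp
  exact hexp

theorem char_apply_one (h : BSWHyp t K s) (χ : G → ℂ) (hχ : IsClassFunction G χ) :
    χ 1 = (Fintype.card K : ℂ) * classInner (fun k : K => χ k) (1 : K → ℂ)
      - ∑ ν : K →* ℂˣ, conj (classInner (Theta K ν) χ) := by
  have hexp := expansion h.commK (fun k : K => χ k) 1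
  simp only [classInner_restrict_lamF _ χ hχ, sub_mul, Finset.sum_sub_distrib] at hexp
  rw [← Finset.mul_sum, sum_dual_apply_one h.commK] at hexp
  simp only [map_one, Units.val_one, mul_one, OneMemClass.coe_one] at hexp
  rw [hexp]; ring

/-- The basic identity: `∑_χ χ(t)²/χ(1) ⟨Θ_ν, χ⟩ = 4 n³ / |G|`. -/
theorem beta_eq (h : BSWHyp t K s) (ν : K →* ℂˣ) (hν : ν ≠ 1) :
    ∑ᶠ χ : IrrCharacter G, (χ : G → ℂ) t * (χ : G → ℂ) t / (χ : G → ℂ) 1
        * classInner (Theta K ν) (χ : G → ℂ)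
      = 4 * (Fintype.card K : ℂ) ^ 3 / (Fintype.card G : ℂ) := by
  classical
  have key := sum_mul_card_pairs K (oneSub ν) t
  have hL : ∑ y : K, oneSub ν y *
      (Nat.card {p : G × G // IsConj t p.1 ∧ IsConj t p.2 ∧ p.1 * p.2 = (y : G)} : ℂ)
      = (Fintype.card K : ℂ) ^ 2 := by
    have h1 : ∀ y : K, oneSub ν y *
        (Nat.card {p : G × G // IsConj t p.1 ∧ IsConj t p.2 ∧ p.1 * p.2 = (y : G)} : ℂ)
        = (Fintype.card K : ℂ) * (1 - ((ν y : ℂˣ) : ℂ)) := by
      intro y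
      by_cases hy : y = 1
      · subst hy
        unfold oneSub
        simp
      · have hy' : (y : G) ≠ 1 := fun h1 => hy (Subtype.ext h1)
        rw [h.card_pairs y.2 hy', Nat.card_eq_fintype_card]
        unfold oneSub
        ring
    rw [Finset.sum_congr rfl fun y _ => h1 y, ← Finset.mul_sum, Finset.sum_sub_distrib,
      sum_apply ν hν]
    simp only [Finset.sum_const, Finset.card_univ, nsmul_eq_mul, mul_one, sub_zero]
    ring
  rw [hL] at key
  have hc := h.card_conj_t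
  have hG : (Fintype.card G : ℂ) ≠ 0 := by exact_mod_cast (Fintype.card_pos (α := G)).ne'
  have hK : (Fintype.card K : ℂ) ≠ 0 := by exact_mod_cast (Fintype.card_pos (α := K)).ne'
  have hc' : (Nat.card {x : G // IsConj t x} : ℂ) * (2 * (Fintype.card K : ℂ))
      = (Fintype.card G : ℂ) := by
    rw [← Nat.card_eq_fintype_card, ← Nat.card_eq_fintype_card]
    exact_mod_cast hc
  have hc0 : (Nat.card {x : G // IsConj t x} : ℂ) ≠ 0 := by
    intro h0
    rw [h0, zero_mul] at hc'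
    exact hG hc'.symm
  rw [Nat.card_eq_fintype_card (α := G), Nat.card_eq_fintype_card (α := K)] at key
  set S := ∑ᶠ χ : IrrCharacter G, (χ : G → ℂ) t * (χ : G → ℂ) t / (χ : G → ℂ) 1
        * classInner (indFun K (oneSub ν)) (χ : G → ℂ) with hS
  have hS' : ∑ᶠ χ : IrrCharacter G, (χ : G → ℂ) t * (χ : G → ℂ) t / (χ : G → ℂ) 1
        * classInner (Theta K ν) (χ : G → ℂ) = S := rfl
  rw [hS']
  set c := (Nat.card {x : G // IsConj t x} : ℂ) with hcdef
  have hGc : (Fintype.card G : ℂ) = c * (2 * (Fintype.card K : ℂ)) := hc'.symm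
  rw [hGc] at key ⊢
  field_simp at key ⊢
  linear_combination (-2 : ℂ) * key

end Cfsg.Agent.Lib.H8.BSW
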