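import Cfsg.Agent.Lib.H8.BSWCount2

/-!
# Brauer–Suzuki–Wall (S3282): the case `|K| = 2`, part A (arithmetic and set-up)
-/

set_option autoImplicit false

namespace Cfsg.Agent.Lib.H8.BSW

open Cfsg Cfsg.Agent.Lib.L0 Cfsg.Agent.Lib.H8 Cfsg.Agent.Lib.H24 Subgroup
open scoped ComplexConjugate Classical

variable {G : Type*} [Group G] [Fintype G] {t : G} {K : Subgroup G} {s : G} [Fintype K]

theorem abs_two_mul_sub_one_le (v : ℤ) (hv : v ≠ 0) : |2 * v - 1| ≤ 3 * |v| := by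
  have h1 : 1 ≤ |v| := Int.one_le_abs hv
  have h2 : |2 * v - 1| ≤ |2 * v| + |(1 : ℤ)| := abs_sub _ _
  rw [abs_mul, abs_one] at h2
  have : |(2 : ℤ)| = 2 := by norm_num
  rw [this] at h2
  linarith

theorem arith_two (v₁ v₂ v₃ c : ℤ) (hsum : v₁ + v₂ + v₃ = 1) (hc : 0 < c)
    (heq : c * (v₁ * v₂ * v₃) = (2 * v₁ - 1) * (2 * v₂ - 1) * (2 * v₃ - 1))
    (hb : 1 + (2 * v₁ - 1) ^ 2 + (2 * v₂ - 1) ^ 2 + (2 * v₃ - 1) ^ 2 ≤ 4 * c) :
    (v₁ = -1 ∧ v₂ = 1 ∧ v₃ = 1 ∧ c = 3) ∨ (v₁ = 1 ∧ v₂ = -1 ∧ v₃ = 1 ∧ c = 3) ∨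
    (v₁ = 1 ∧ v₂ = 1 ∧ v₃ = -1 ∧ c = 3) ∨ (v₁ = 3 ∧ v₂ = -1 ∧ v₃ = -1 ∧ c = 15) ∨
    (v₁ = -1 ∧ v₂ = 3 ∧ v₃ = -1 ∧ c = 15) ∨ (v₁ = -1 ∧ v₂ = -1 ∧ v₃ = 3 ∧ c = 15) := by
  have hu1 : 2 * v₁ - 1 ≠ 0 := by omega
  have hu2 : 2 * v₂ - 1 ≠ 0 := by omega
  have hu3 : 2 * v₃ - 1 ≠ 0 := by omega
  have hP : (2 * v₁ - 1) * (2 * v₂ - 1) * (2 * v₃ - 1) ≠ 0 :=
    mul_ne_zero (mul_ne_zero hu1 hu2) hu3
  have hQ : v₁ * v₂ * v₃ ≠ 0 := by
    intro h0; rw [h0, mul_zero] at heq; exact hP heq.symm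
  have hv1 : v₁ ≠ 0 := by rintro rfl; simp at hQ
  have hv2 : v₂ ≠ 0 := by rintro rfl; simp at hQ
  have hv3 : v₃ ≠ 0 := by rintro rfl; simp at hQ
  have hc27 : c ≤ 27 := by
    have h1 := congrArg abs heq
    rw [abs_mul, abs_mul, abs_mul, abs_mul, abs_mul, abs_of_pos hc] at h1
    have a1 := abs_two_mul_sub_one_le v₁ hv1
    have a2 := abs_two_mul_sub_one_le v₂ hv2
    have a3 := abs_two_mul_sub_one_le v₃ hv3
    have p1 : 0 < |v₁| := abs_pos.mpr hv1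
    have p2 : 0 < |v₂| := abs_pos.mpr hv2
    have p3 : 0 < |v₃| := abs_pos.mpr hv3
    have hle : |2 * v₁ - 1| * |2 * v₂ - 1| * |2 * v₃ - 1| ≤ (3 * |v₁|) * (3 * |v₂|) * (3 * |v₃|) := by
      apply mul_le_mul (mul_le_mul a1 a2 (abs_nonneg _) (by positivity)) a3 (abs_nonneg _)
        (by positivity)
    have hpos : 0 < |v₁| * |v₂| * |v₃| := by positivity
    have : c * (|v₁| * |v₂| * |v₃|) ≤ 27 * (|v₁| * |v₂| * |v₃|) := by
      rw [h1]; linarith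
    exact le_of_mul_le_mul_right this hpos
  have b1 : -4 ≤ v₁ ∧ v₁ ≤ 5 := by constructor <;> nlinarith [sq_nonneg (2 * v₂ - 1), sq_nonneg (2 * v₃ - 1)]
  have b2 : -4 ≤ v₂ ∧ v₂ ≤ 5 := by constructor <;> nlinarith [sq_nonneg (2 * v₁ - 1), sq_nonneg (2 * v₃ - 1)]
  obtain ⟨l1, r1⟩ := b1
  obtain ⟨l2, r2⟩ := b2
  have hv3e : v₃ = 1 - v₁ - v₂ := by linarith
  subst hv3e
  interval_cases v₁ <;> interval_cases v₂ <;> omega

section
variable (h : BSWHyp t K s) (h2 : Fintype.card K = 2) {σ : K →* ℂˣ} (hσ1 : σ ≠ 1)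

include h h2 hσ1 in
omit [Fintype G] in
theorem two_univ : (Finset.univ : Finset (K →* ℂˣ)) = {1, σ} := by
  symm
  apply Finset.eq_univ_of_card
  rw [card_dual h.commK, h2, Finset.card_pair (Ne.symm hσ1)]

include h h2 hσ1 in
omit [Fintype G] in
theorem two_cases (μ : K →* ℂˣ) : μ = 1 ∨ μ = σ := by
  have : μ ∈ ({1, σ} : Finset (K →* ℂˣ)) := by
    rw [← two_univ h h2 hσ1]; exact Finset.mem_univ _
  simpa using this

include h h2 hσ1 in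
omit [Fintype G] in
theorem two_sigma_t : ((σ (tK h) : ℂˣ) : ℂ) = -1 := by
  have := sum_dual_apply h.commK (tK_ne_one h)
  rw [two_univ h h2 hσ1, Finset.sum_pair (Ne.symm hσ1)] at this
  simp only [MonoidHom.one_apply, Units.val_one] at this
  linear_combination this

include h h2 in
omit [Fintype G] in
theorem two_K_cases (k : K) : k = 1 ∨ k = tK h := by
  have hu : (Finset.univ : Finset K) = {1, tK h} := by
    symm
    apply Finset.eq_univ_of_card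
    rw [h2, Finset.card_pair (Ne.symm (tK_ne_one h))]
  have : k ∈ ({1, tK h} : Finset K) := by rw [← hu]; exact Finset.mem_univ _
  simpa using this

include h h2 hσ1 in
/-- For `|K| = 2`: `χ(t) = ⟨Θ_σ, χ⟩`. -/
theorem two_apply_t (χ : IrrCharacter G) :
    (χ : G → ℂ) t = classInner (Theta K σ) (χ : G → ℂ) := by
  have := char_apply_mem h _ (irr_isClassFunction χ) (tK h) (tK_ne_one h)
  rw [two_univ h h2 hσ1, Finset.sum_pair (Ne.symm hσ1), Theta_one, classInner_zero_left,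
    map_zero, zero_mul, zero_add, Theta_inner_conj, two_sigma_t h h2 hσ1] at this
  have e : (χ : G → ℂ) t = (χ : G → ℂ) ((tK h : K) : G) := rfl
  rw [e, this]; ring

include h h2 hσ1 in
/-- For `|K| = 2`: `χ(1) = 2 m - ⟨Θ_σ, χ⟩` with `m` a natural number. -/
theorem two_apply_one (χ : IrrCharacter G) :
    ∃ m : ℕ, (χ : G → ℂ) 1 = 2 * (m : ℂ) - classInner (Theta K σ) (χ : G → ℂ) := by
  obtain ⟨m, hm⟩ := classInner_char_irr_nat
    (isCharacter_restrict K (isCharacter_of_irr χ.2)) (Cfsg.Agent.Lib.L0.isIrrCharacter_one (G := K))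
  refine ⟨m, ?_⟩
  have := char_apply_one h _ (irr_isClassFunction χ)
  rw [two_univ h h2 hσ1, Finset.sum_pair (Ne.symm hσ1), Theta_one, classInner_zero_left,
    map_zero, zero_add, Theta_inner_conj, hm, h2] at this
  rw [this]; push_cast; ring

end

end Cfsg.Agent.Lib.H8.BSW
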