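import Cfsg.Agent.Lib.H8.BSWTwoA

/-!
# Brauer–Suzuki–Wall (S3282): the case `|K| = 2`, part B
-/

set_option autoImplicit false

namespace Cfsg.Agent.Lib.H8.BSW

open Cfsg Cfsg.Agent.Lib.L0 Cfsg.Agent.Lib.H8 Cfsg.Agent.Lib.H24 Subgroup
open scoped ComplexConjugate Classical

variable {G : Type*} [Group G] [Fintype G] {t : G} {K : Subgroup G} {s : G} [Fintype K]

theorem final_two (h : BSWHyp t K s) (h2 : Fintype.card K = 2) {σ : K →* ℂˣ} (hσ1 : σ ≠ 1)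
    (X η₁ η₂ : IrrCharacter G) (δ : ℤ) (hδ : δ = 1 ∨ δ = -1)
    (hexp : Theta K σ
      = 1 + (δ : ℂ) • (X : G → ℂ) - (δ : ℂ) • (η₁ : G → ℂ) - (δ : ℂ) • (η₂ : G → ℂ))
    (hX1 : X ≠ oneIrr G) (hXη₁ : X ≠ η₁) (hXη₂ : X ≠ η₂)
    (hXt : (X : G → ℂ) t = (δ : ℂ)) (h1t : (η₁ : G → ℂ) t = -(δ : ℂ))
    (h2t : (η₂ : G → ℂ) t = -(δ : ℂ))
    (q : ℕ) (hXq : (X : G → ℂ) 1 = q) (hq : (q : ℤ) = 4 + δ)
    (hη₁ : 2 * (η₁ : G → ℂ) 1 = (q : ℂ) + (δ : ℂ)) (hη₂ : 2 * (η₂ : G → ℂ) 1 = (q : ℂ) + (δ : ℂ))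
    (hG : (Fintype.card G : ℤ) = 2 * q * (q + δ)) :
    Shape h δ X ∧ OrderData K δ X := by
  have hd : (δ : ℂ) * (δ : ℂ) = 1 := by rcases hδ with h | h <;> rw [h] <;> norm_num
  have hσt := two_sigma_t h h2 hσ1
  refine ⟨⟨hδ, hX1, ?_, ?_, ?_⟩, ⟨q, hXq, ?_, ?_⟩⟩
  · intro k hk
    rcases two_K_cases h h2 k with h1 | h1
    · exact absurd h1 hk
    · rw [h1]; exact hXt
  · intro μ hμ
    rcases two_cases h h2 hσ1 μ with h1 | h1
    · exact absurd h1 hμ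
    · rw [h1, hexp, classInner_sub_left, classInner_sub_left, classInner_add_left,
        classInner_smul_left, classInner_smul_left, classInner_smul_left, ← oneIrr_coe,
        irr_inner_eq, irr_inner_eq, irr_inner_eq, irr_inner_eq, if_neg (Ne.symm hX1), if_pos rfl,
        if_neg (Ne.symm hXη₁), if_neg (Ne.symm hXη₂)]
      ring
  · intro μ hμ y hy
    rcases two_cases h h2 hσ1 μ with h1 | h1
    · exact absurd h1 hμ
    · subst h1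
      refine L2_pair hd X η₁ η₂ hexp _ hXt ?_ ?_ ?_ ?_ y hy
      · rw [h1t, hσt]; ring
      · rw [h2t, hσt]; ring
      · rw [hη₁, hXq]
      · rw [hη₂, hXq]
  · rw [h2, hq]; push_cast; ring
  · rw [h2, hG]; push_cast; ring

/-- Four distinct irreducible characters: the sum of the squares of the degrees is at most
`|G|`. -/
theorem sum_sq_four_le (ξ₀ ξ₁ ξ₂ ξ₃ : IrrCharacter G) (h01 : ξ₀ ≠ ξ₁) (h02 : ξ₀ ≠ ξ₂)
    (h03 : ξ₀ ≠ ξ₃) (h12 : ξ₁ ≠ ξ₂) (h13 : ξ₁ ≠ ξ₃) (h23 : ξ₂ ≠ ξ₃) (n₀ n₁ n₂ n₃ : ℕ)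
    (e0 : (ξ₀ : G → ℂ) 1 = n₀) (e1 : (ξ₁ : G → ℂ) 1 = n₁) (e2 : (ξ₂ : G → ℂ) 1 = n₂)
    (e3 : (ξ₃ : G → ℂ) 1 = n₃) :
    n₀ ^ 2 + n₁ ^ 2 + n₂ ^ 2 + n₃ ^ 2 ≤ Fintype.card G := by
  haveI : Fintype (IrrCharacter G) := Fintype.ofFinite _
  have hex : ∀ χ : IrrCharacter G, ∃ n : ℕ, (χ : G → ℂ) 1 = n := fun χ => by
    obtain ⟨n, -, hn⟩ := irr_one_eq χ
    exact ⟨n, hn⟩
  choose d hd using hex
  have hsum : ∑ χ : IrrCharacter G, d χ ^ 2 = Fintype.card G := by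
    have := sum_irr_one_sq (G := G)
    simp only [hd, Nat.card_eq_fintype_card] at this
    exact_mod_cast this
  have c0 : d ξ₀ = n₀ := by have := hd ξ₀; rw [e0] at this; exact_mod_cast this.symm
  have c1 : d ξ₁ = n₁ := by have := hd ξ₁; rw [e1] at this; exact_mod_cast this.symm
  have c2 : d ξ₂ = n₂ := by have := hd ξ₂; rw [e2] at this; exact_mod_cast this.symm
  have c3 : d ξ₃ = n₃ := by have := hd ξ₃; rw [e3] at this; exact_mod_cast this.symm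
  rw [← hsum]
  have hsub : ({ξ₀, ξ₁, ξ₂, ξ₃} : Finset (IrrCharacter G)) ⊆ Finset.univ := Finset.subset_univ _
  have := Finset.sum_le_sum_of_subset (f := fun χ => d χ ^ 2) hsub
  rw [Finset.sum_insert (by simp [h01, h02, h03]), Finset.sum_insert (by simp [h12, h13]),
    Finset.sum_insert (by simp [h23]), Finset.sum_singleton, c0, c1, c2, c3] at this
  linarith

end Cfsg.Agent.Lib.H8.BSW
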