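import Cfsg.Agent.Lib.H8.BSWTwoB

/-!
# Brauer–Suzuki–Wall (S3282): the case `|K| = 2`, part C
-/

set_option autoImplicit false

namespace Cfsg.Agent.Lib.H8.BSW

open Cfsg Cfsg.Agent.Lib.L0 Cfsg.Agent.Lib.H8 Cfsg.Agent.Lib.H24 Subgroup
open scoped ComplexConjugate Classical

variable {G : Type*} [Group G] [Fintype G] {t : G} {K : Subgroup G} {s : G} [Fintype K]

/-- sign and absolute value from the product -/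
theorem sign_of_mul (ε : ℤ) (n : ℕ) (hε : ε = 1 ∨ ε = -1) (hn : 0 < n) (u : ℤ)
    (hu : ε * (n : ℤ) = u) : (0 < u → ε = 1 ∧ (n : ℤ) = u) ∧ (u < 0 → ε = -1 ∧ (n : ℤ) = -u) := by
  rcases hε with rfl | rfl
  · constructor
    · intro _; exact ⟨rfl, by linarith⟩
    · intro hneg; exfalso; have : (0 : ℤ) < n := by exact_mod_cast hn
      linarith
  · constructor
    · intro hpos; exfalso; have : (0 : ℤ) < n := by exact_mod_cast hn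
      linarith
    · intro _; exact ⟨rfl, by linarith⟩

/-- The numerical data in the case `|K| = 2`. -/
theorem two_numeric (h : BSWHyp t K s) (h2 : Fintype.card K = 2) {σ : K →* ℂˣ} (hσ1 : σ ≠ 1)
    (hσσ : σ * σ = 1) :
    ∃ (ξ₁ ξ₂ ξ₃ : IrrCharacter G) (ε₁ ε₂ ε₃ : ℤ) (n₁ n₂ n₃ : ℕ) (m₁ m₂ m₃ : ℕ) (c : ℕ),
      ξ₁ ≠ ξ₂ ∧ ξ₁ ≠ ξ₃ ∧ ξ₂ ≠ ξ₃ ∧ ξ₁ ≠ oneIrr G ∧ ξ₂ ≠ oneIrr G ∧ ξ₃ ≠ oneIrr G ∧
      (ε₁ = 1 ∨ ε₁ = -1) ∧ (ε₂ = 1 ∨ ε₂ = -1) ∧ (ε₃ = 1 ∨ ε₃ = -1) ∧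
      Theta K σ = 1 + (ε₁ : ℂ) • (ξ₁ : G → ℂ) + (ε₂ : ℂ) • (ξ₂ : G → ℂ)
        + (ε₃ : ℂ) • (ξ₃ : G → ℂ) ∧
      (ξ₁ : G → ℂ) t = (ε₁ : ℂ) ∧ (ξ₂ : G → ℂ) t = (ε₂ : ℂ) ∧ (ξ₃ : G → ℂ) t = (ε₃ : ℂ) ∧
      (ξ₁ : G → ℂ) 1 = (n₁ : ℂ) ∧ (ξ₂ : G → ℂ) 1 = (n₂ : ℂ) ∧ (ξ₃ : G → ℂ) 1 = (n₃ : ℂ) ∧
      0 < n₁ ∧ 0 < n₂ ∧ 0 < n₃ ∧
      (n₁ : ℤ) = 2 * m₁ - ε₁ ∧ (n₂ : ℤ) = 2 * m₂ - ε₂ ∧ (n₃ : ℤ) = 2 * m₃ - ε₃ ∧
      Fintype.card G = 4 * c ∧ 0 < c := by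
  have hconj1 : conj (1 : ℂ) = 1 := map_one _
  set R : G → ℂ := Theta K σ - 1 with hR
  have hRgen : IsGeneralizedCharacter G R :=
    isGeneralizedCharacter_sub (Theta_isGeneralizedCharacter σ)
      (isGeneralizedCharacter_of_isCharacter (isCharacter_of_irr (oneIrr G).2))
  have hΘ1 : classInner (Theta K σ) (1 : G → ℂ) = 1 := classInner_Theta_one h σ hσ1
  have h1Θ : classInner (1 : G → ℂ) (Theta K σ) = 1 := by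
    rw [← classInner_conj_symm, hΘ1, map_one]
  have h11 : classInner (1 : G → ℂ) (1 : G → ℂ) = 1 := by
    rw [← oneIrr_coe]; exact irr_classInner_self (oneIrr G).2
  have hRR : classInner R R = 3 := by
    rw [hR]
    simp only [classInner_sub_left, classInner_sub_right, classInner_Theta_sigma h hσ1 hσσ, hΘ1,
      h1Θ, h11]
    norm_num
  obtain ⟨ξ₁, ξ₂, ξ₃, ε₁, ε₂, ε₃, h12, h13, h23, hε₁, hε₂, hε₃, hRexp⟩ :=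
    genChar_norm_three' hRgen hRR
  have hε₁0 : (ε₁ : ℂ) ≠ 0 := by rcases hε₁ with h1 | h1 <;> rw [h1] <;> norm_num
  have hε₂0 : (ε₂ : ℂ) ≠ 0 := by rcases hε₂ with h1 | h1 <;> rw [h1] <;> norm_num
  have hε₃0 : (ε₃ : ℂ) ≠ 0 := by rcases hε₃ with h1 | h1 <;> rw [h1] <;> norm_num
  have hRZ : ∀ Z : IrrCharacter G, classInner R (Z : G → ℂ)
      = classInner (Theta K σ) (Z : G → ℂ) - (if oneIrr G = Z then 1 else 0) := by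
    intro Z
    rw [hR, classInner_sub_left, ← oneIrr_coe, irr_inner_eq]
  have hRξ : ∀ Z : IrrCharacter G, classInner R (Z : G → ℂ)
      = (ε₁ : ℂ) * (if ξ₁ = Z then 1 else 0) + (ε₂ : ℂ) * (if ξ₂ = Z then 1 else 0)
        + (ε₃ : ℂ) * (if ξ₃ = Z then 1 else 0) := by
    intro Z
    rw [hRexp, classInner_add_left, classInner_add_left, classInner_smul_left,
      classInner_smul_left, classInner_smul_left, irr_inner_eq, irr_inner_eq, irr_inner_eq]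
  have hR1 : classInner R ((oneIrr G : IrrCharacter G) : G → ℂ) = 0 := by
    rw [hRZ, if_pos rfl, oneIrr_coe, hΘ1]; ring
  have hRξ₁ : classInner R (ξ₁ : G → ℂ) = (ε₁ : ℂ) := by
    rw [hRξ, if_pos rfl, if_neg (Ne.symm h12), if_neg (Ne.symm h13)]; ring
  have hRξ₂ : classInner R (ξ₂ : G → ℂ) = (ε₂ : ℂ) := by
    rw [hRξ, if_neg h12, if_pos rfl, if_neg (Ne.symm h23)]; ring
  have hRξ₃ : classInner R (ξ₃ : G → ℂ) = (ε₃ : ℂ) := by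
    rw [hRξ, if_neg h13, if_neg h23, if_pos rfl]; ring
  have hne1 : ξ₁ ≠ oneIrr G := by
    intro hc; rw [hc] at hRξ₁; rw [hRξ₁] at hR1; exact hε₁0 hR1
  have hne2 : ξ₂ ≠ oneIrr G := by
    intro hc; rw [hc] at hRξ₂; rw [hRξ₂] at hR1; exact hε₂0 hR1
  have hne3 : ξ₃ ≠ oneIrr G := by
    intro hc; rw [hc] at hRξ₃; rw [hRξ₃] at hR1; exact hε₃0 hR1
  have hΘξ₁ : classInner (Theta K σ) (ξ₁ : G → ℂ) = (ε₁ : ℂ) := by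
    have := hRZ ξ₁
    rw [hRξ₁, if_neg (Ne.symm hne1)] at this
    linear_combination (-1 : ℂ) * this
  have hΘξ₂ : classInner (Theta K σ) (ξ₂ : G → ℂ) = (ε₂ : ℂ) := by
    have := hRZ ξ₂
    rw [hRξ₂, if_neg (Ne.symm hne2)] at this
    linear_combination (-1 : ℂ) * this
  have hΘξ₃ : classInner (Theta K σ) (ξ₃ : G → ℂ) = (ε₃ : ℂ) := by
    have := hRZ ξ₃
    rw [hRξ₃, if_neg (Ne.symm hne3)] at this
    linear_combination (-1 : ℂ) * this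
  obtain ⟨n₁, hn₁, he₁⟩ := irr_one_eq ξ₁
  obtain ⟨n₂, hn₂, he₂⟩ := irr_one_eq ξ₂
  obtain ⟨n₃, hn₃, he₃⟩ := irr_one_eq ξ₃
  obtain ⟨m₁, hm₁⟩ := two_apply_one h h2 hσ1 ξ₁
  obtain ⟨m₂, hm₂⟩ := two_apply_one h h2 hσ1 ξ₂
  obtain ⟨m₃, hm₃⟩ := two_apply_one h h2 hσ1 ξ₃
  rw [he₁, hΘξ₁] at hm₁
  rw [he₂, hΘξ₂] at hm₂
  rw [he₃, hΘξ₃] at hm₃
  have hc := h.card_conj_t
  rw [Nat.card_eq_fintype_card (α := G), Nat.card_eq_fintype_card (α := K), h2] at hc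
  have hGpos : 0 < Fintype.card G := Fintype.card_pos
  refine ⟨ξ₁, ξ₂, ξ₃, ε₁, ε₂, ε₃, n₁, n₂, n₃, m₁, m₂, m₃, Nat.card {x : G // IsConj t x},
    h12, h13, h23, hne1, hne2, hne3, hε₁, hε₂, hε₃, ?_, ?_, ?_, ?_, he₁, he₂, he₃, hn₁, hn₂, hn₃,
    by exact_mod_cast hm₁, by exact_mod_cast hm₂, by exact_mod_cast hm₃, by omega, by omega⟩
  · have : Theta K σ = R + 1 := by rw [hR]; abel
    rw [this, hRexp]; abel
  · rw [two_apply_t h h2 hσ1, hΘξ₁]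
  · rw [two_apply_t h h2 hσ1, hΘξ₂]
  · rw [two_apply_t h h2 hσ1, hΘξ₃]

end Cfsg.Agent.Lib.H8.BSW
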