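import Cfsg.Agent.Lib.H8.BSWTwoC

/-!
# Brauer–Suzuki–Wall (S3282): the case `|K| = 2`, part D
-/

set_option autoImplicit false

namespace Cfsg.Agent.Lib.H8.BSW

open Cfsg Cfsg.Agent.Lib.L0 Cfsg.Agent.Lib.H8 Cfsg.Agent.Lib.H24 Subgroup
open scoped ComplexConjugate Classical

variable {G : Type*} [Group G] [Fintype G] {t : G} {K : Subgroup G} {s : G} [Fintype K]

theorem two_finish (h : BSWHyp t K s) (h2 : Fintype.card K = 2) {σ : K →* ℂˣ} (hσ1 : σ ≠ 1)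
    (X η₁ η₂ : IrrCharacter G) (εX ε₁ ε₂ : ℤ) (nX n₁ n₂ : ℕ) (c : ℕ)
    (hX1 : X ≠ oneIrr G) (hXη₁ : X ≠ η₁) (hXη₂ : X ≠ η₂)
    (hεX : εX = 1 ∨ εX = -1) (hε₁ : ε₁ = 1 ∨ ε₁ = -1) (hε₂ : ε₂ = 1 ∨ ε₂ = -1)
    (hexp : Theta K σ = 1 + (εX : ℂ) • (X : G → ℂ) + (ε₁ : ℂ) • (η₁ : G → ℂ)
      + (ε₂ : ℂ) • (η₂ : G → ℂ))
    (hXt : (X : G → ℂ) t = (εX : ℂ)) (h1t : (η₁ : G → ℂ) t = (ε₁ : ℂ))
    (h2t : (η₂ : G → ℂ) t = (ε₂ : ℂ))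
    (hXn : (X : G → ℂ) 1 = (nX : ℂ)) (h1n : (η₁ : G → ℂ) 1 = (n₁ : ℂ))
    (h2n : (η₂ : G → ℂ) 1 = (n₂ : ℂ)) (pX : 0 < nX) (p1 : 0 < n₁) (p2 : 0 < n₂)
    (hG : Fintype.card G = 4 * c)
    (hcase : (εX * (nX : ℤ) = -3 ∧ ε₁ * (n₁ : ℤ) = 1 ∧ ε₂ * (n₂ : ℤ) = 1 ∧ c = 3) ∨
      (εX * (nX : ℤ) = 5 ∧ ε₁ * (n₁ : ℤ) = -3 ∧ ε₂ * (n₂ : ℤ) = -3 ∧ c = 15)) :
    ∃ (δ : ℤ) (X : IrrCharacter G), Shape h δ X ∧ OrderData K δ X := by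
  rcases hcase with ⟨uX, u1, u2, hc⟩ | ⟨uX, u1, u2, hc⟩
  · obtain ⟨eX, dX⟩ := (sign_of_mul εX nX hεX pX _ uX).2 (by norm_num)
    obtain ⟨e1, d1⟩ := (sign_of_mul ε₁ n₁ hε₁ p1 _ u1).1 (by norm_num)
    obtain ⟨e2, d2⟩ := (sign_of_mul ε₂ n₂ hε₂ p2 _ u2).1 (by norm_num)
    have dX' : nX = 3 := by omega
    have d1' : n₁ = 1 := by omega
    have d2' : n₂ = 1 := by omega
    subst eX e1 e2 dX' d1' d2' hc
    refine ⟨-1, X, final_two h h2 hσ1 X η₁ η₂ (-1) (Or.inr rfl) ?_ hX1 hXη₁ hXη₂ hXt ?_ ?_ 3 hXn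
      (by norm_num) ?_ ?_ ?_⟩
    · rw [hexp]
      funext g
      simp only [Pi.add_apply, Pi.sub_apply, Pi.smul_apply, Pi.one_apply, smul_eq_mul]
      push_cast; ring
    · rw [h1t]; push_cast; ring
    · rw [h2t]; push_cast; ring
    · rw [h1n]; push_cast; ring
    · rw [h2n]; push_cast; ring
    · rw [hG]; push_cast
  · obtain ⟨eX, dX⟩ := (sign_of_mul εX nX hεX pX _ uX).1 (by norm_num)
    obtain ⟨e1, d1⟩ := (sign_of_mul ε₁ n₁ hε₁ p1 _ u1).2 (by norm_num)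
    obtain ⟨e2, d2⟩ := (sign_of_mul ε₂ n₂ hε₂ p2 _ u2).2 (by norm_num)
    have dX' : nX = 5 := by omega
    have d1' : n₁ = 3 := by omega
    have d2' : n₂ = 3 := by omega
    subst eX e1 e2 dX' d1' d2' hc
    refine ⟨1, X, final_two h h2 hσ1 X η₁ η₂ 1 (Or.inl rfl) ?_ hX1 hXη₁ hXη₂ hXt ?_ ?_ 5 hXn
      (by norm_num) ?_ ?_ ?_⟩
    · rw [hexp]
      funext g
      simp only [Pi.add_apply, Pi.sub_apply, Pi.smul_apply, Pi.one_apply, smul_eq_mul]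
      push_cast; ring
    · rw [h1t]; push_cast; ring
    · rw [h2t]; push_cast; ring
    · rw [h1n]; push_cast; ring
    · rw [h2n]; push_cast; ring
    · rw [hG]; push_cast

end Cfsg.Agent.Lib.H8.BSW
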