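import Cfsg.Agent.Lib.H8.BSWTwoD

/-!
# Brauer–Suzuki–Wall (S3282): the case `|K| = 2`, part E
-/

set_option autoImplicit false

namespace Cfsg.Agent.Lib.H8.BSW

open Cfsg Cfsg.Agent.Lib.L0 Cfsg.Agent.Lib.H8 Cfsg.Agent.Lib.H24 Subgroup
open scoped ComplexConjugate Classical

variable {G : Type*} [Group G] [Fintype G] {t : G} {K : Subgroup G} {s : G} [Fintype K]

theorem term_eq (ε : ℤ) (n : ℕ) (hε : ε = 1 ∨ ε = -1) (hn : 0 < n) :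
    (ε : ℂ) * ((ε : ℂ) * (ε : ℂ) / (n : ℂ)) = 1 / (((ε * (n : ℤ) : ℤ)) : ℂ) := by
  have hn0 : (n : ℂ) ≠ 0 := by exact_mod_cast hn.ne'
  rcases hε with rfl | rfl
  · push_cast; field_simp
  · push_cast; field_simp

theorem exists_two (h : BSWHyp t K s) (h2 : Fintype.card K = 2) :
    ∃ (δ : ℤ) (X : IrrCharacter G), Shape h δ X ∧ OrderData K δ X := by
  obtain ⟨σ, hσ1, hσσ, -⟩ := exists_sigma' h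
  obtain ⟨ξ₁, ξ₂, ξ₃, ε₁, ε₂, ε₃, n₁, n₂, n₃, m₁, m₂, m₃, c, h12, h13, h23, hne1, hne2, hne3,
    hε₁, hε₂, hε₃, hexp, t1, t2, t3, e1, e2, e3, p1, p2, p3, d1, d2, d3, hG, hc⟩ :=
    two_numeric h h2 hσ1 hσσ
  have sq1 : ε₁ * ε₁ = 1 := by rcases hε₁ with rfl | rfl <;> norm_num
  have sq2 : ε₂ * ε₂ = 1 := by rcases hε₂ with rfl | rfl <;> norm_num
  have sq3 : ε₃ * ε₃ = 1 := by rcases hε₃ with rfl | rfl <;> norm_num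
  set u₁ : ℤ := ε₁ * (n₁ : ℤ) with hu₁
  set u₂ : ℤ := ε₂ * (n₂ : ℤ) with hu₂
  set u₃ : ℤ := ε₃ * (n₃ : ℤ) with hu₃
  set v₁ : ℤ := ε₁ * (m₁ : ℤ) with hv₁
  set v₂ : ℤ := ε₂ * (m₂ : ℤ) with hv₂
  set v₃ : ℤ := ε₃ * (m₃ : ℤ) with hv₃
  have uv1 : u₁ = 2 * v₁ - 1 := by rw [hu₁, hv₁, d1]; linear_combination (-1 : ℤ) * sq1
  have uv2 : u₂ = 2 * v₂ - 1 := by rw [hu₂, hv₂, d2]; linear_combination (-1 : ℤ) * sq2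
  have uv3 : u₃ = 2 * v₃ - 1 := by rw [hu₃, hv₃, d3]; linear_combination (-1 : ℤ) * sq3
  -- degree equation
  have hdeg : 1 + u₁ + u₂ + u₃ = 0 := by
    have h0 := Theta_apply_one h σ
    rw [hexp] at h0
    simp only [Pi.add_apply, Pi.smul_apply, Pi.one_apply, smul_eq_mul, e1, e2, e3] at h0
    rw [hu₁, hu₂, hu₃]
    exact_mod_cast h0
  have hvsum : v₁ + v₂ + v₃ = 1 := by linarith
  -- the β equation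
  have hu₁0 : ((u₁ : ℤ) : ℂ) ≠ 0 := by
    have : u₁ ≠ 0 := by omega
    exact_mod_cast this
  have hu₂0 : ((u₂ : ℤ) : ℂ) ≠ 0 := by
    have : u₂ ≠ 0 := by omega
    exact_mod_cast this
  have hu₃0 : ((u₃ : ℤ) : ℂ) ≠ 0 := by
    have : u₃ ≠ 0 := by omega
    exact_mod_cast this
  have hc0 : (c : ℂ) ≠ 0 := by exact_mod_cast hc.ne'
  have hβ : (c : ℤ) * (u₁ * u₂ * u₃ + u₂ * u₃ + u₁ * u₃ + u₁ * u₂) = 8 * (u₁ * u₂ * u₃) := by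
    have b1 := beta_eq' h σ hσ1
    rw [hexp, Lf_add, Lf_add, Lf_add, Lf_smul, Lf_smul, Lf_smul, Lf_one, Lf_irr, Lf_irr,
      Lf_irr] at b1
    unfold F1 at b1
    rw [oneIrr_coe, t1, t2, t3, e1, e2, e3, term_eq ε₁ n₁ hε₁ p1, term_eq ε₂ n₂ hε₂ p2,
      term_eq ε₃ n₃ hε₃ p3, h2, hG] at b1
    simp only [Pi.one_apply] at b1
    rw [← hu₁, ← hu₂, ← hu₃] at b1
    have b2 : ((c : ℂ)) * ((u₁ : ℂ) * u₂ * u₃ + (u₂ : ℂ) * u₃ + (u₁ : ℂ) * u₃ + (u₁ : ℂ) * u₂)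
        = 8 * ((u₁ : ℂ) * u₂ * u₃) := by
      push_cast at b1
      field_simp at b1
      linear_combination b1
    exact_mod_cast b2
  have heq : (c : ℤ) * (v₁ * v₂ * v₃) = (2 * v₁ - 1) * (2 * v₂ - 1) * (2 * v₃ - 1) := by
    rw [uv1, uv2, uv3] at hβ
    have hv3e : v₃ = 1 - v₁ - v₂ := by linarith
    rw [hv3e] at hβ ⊢
    have : (8 : ℤ) * ((c : ℤ) * (v₁ * v₂ * (1 - v₁ - v₂)))
        = 8 * ((2 * v₁ - 1) * (2 * v₂ - 1) * (2 * (1 - v₁ - v₂) - 1)) := by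
      linear_combination hβ
    exact mul_left_cancel₀ (by norm_num) this
  -- the bound
  have hbound : 1 + (2 * v₁ - 1) ^ 2 + (2 * v₂ - 1) ^ 2 + (2 * v₃ - 1) ^ 2 ≤ 4 * (c : ℤ) := by
    have hb := sum_sq_four_le (oneIrr G) ξ₁ ξ₂ ξ₃ (Ne.symm hne1) (Ne.symm hne2) (Ne.symm hne3)
      h12 h13 h23 1 n₁ n₂ n₃ (by rw [oneIrr_coe]; simp) e1 e2 e3
    rw [hG] at hb
    have hb' : (1 : ℤ) ^ 2 + (n₁ : ℤ) ^ 2 + (n₂ : ℤ) ^ 2 + (n₃ : ℤ) ^ 2 ≤ 4 * (c : ℤ) := by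
      exact_mod_cast hb
    have s1 : (2 * v₁ - 1) ^ 2 = (n₁ : ℤ) ^ 2 := by
      rw [← uv1, hu₁]; linear_combination ((n₁ : ℤ) ^ 2) * sq1
    have s2 : (2 * v₂ - 1) ^ 2 = (n₂ : ℤ) ^ 2 := by
      rw [← uv2, hu₂]; linear_combination ((n₂ : ℤ) ^ 2) * sq2
    have s3 : (2 * v₃ - 1) ^ 2 = (n₃ : ℤ) ^ 2 := by
      rw [← uv3, hu₃]; linear_combination ((n₃ : ℤ) ^ 2) * sq3
    rw [s1, s2, s3]; linarith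
  have hcZ : (0 : ℤ) < (c : ℤ) := by exact_mod_cast hc
  rcases arith_two v₁ v₂ v₃ c hvsum hcZ heq hbound with
    ⟨a1, a2, a3, ac⟩ | ⟨a1, a2, a3, ac⟩ | ⟨a1, a2, a3, ac⟩ | ⟨a1, a2, a3, ac⟩ |
    ⟨a1, a2, a3, ac⟩ | ⟨a1, a2, a3, ac⟩
  · -- (-1, 1, 1, 3)
    exact two_finish h h2 hσ1 ξ₁ ξ₂ ξ₃ ε₁ ε₂ ε₃ n₁ n₂ n₃ c hne1 h12 h13 hε₁ hε₂ hε₃ hexp t1 t2 t3
      e1 e2 e3 p1 p2 p3 hG (Or.inl ⟨by rw [← hu₁, uv1, a1]; norm_num,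
        by rw [← hu₂, uv2, a2]; norm_num, by rw [← hu₃, uv3, a3]; norm_num, by exact_mod_cast ac⟩)
  · -- (1, -1, 1, 3)
    exact two_finish h h2 hσ1 ξ₂ ξ₁ ξ₃ ε₂ ε₁ ε₃ n₂ n₁ n₃ c hne2 (Ne.symm h12) h23 hε₂ hε₁ hε₃
      (by rw [hexp]; abel) t2 t1 t3
      e2 e1 e3 p2 p1 p3 hG (Or.inl ⟨by rw [← hu₂, uv2, a2]; norm_num,
        by rw [← hu₁, uv1, a1]; norm_num, by rw [← hu₃, uv3, a3]; norm_num, by exact_mod_cast ac⟩)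
  · -- (1, 1, -1, 3)
    exact two_finish h h2 hσ1 ξ₃ ξ₁ ξ₂ ε₃ ε₁ ε₂ n₃ n₁ n₂ c hne3 (Ne.symm h13) (Ne.symm h23)
      hε₃ hε₁ hε₂ (by rw [hexp]; abel) t3 t1 t2
      e3 e1 e2 p3 p1 p2 hG (Or.inl ⟨by rw [← hu₃, uv3, a3]; norm_num,
        by rw [← hu₁, uv1, a1]; norm_num, by rw [← hu₂, uv2, a2]; norm_num, by exact_mod_cast ac⟩)
  · -- (3, -1, -1, 15)
    exact two_finish h h2 hσ1 ξ₁ ξ₂ ξ₃ ε₁ ε₂ ε₃ n₁ n₂ n₃ c hne1 h12 h13 hε₁ hε₂ hε₃ hexp t1 t2 t3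
      e1 e2 e3 p1 p2 p3 hG (Or.inr ⟨by rw [← hu₁, uv1, a1]; norm_num,
        by rw [← hu₂, uv2, a2]; norm_num, by rw [← hu₃, uv3, a3]; norm_num, by exact_mod_cast ac⟩)
  · -- (-1, 3, -1, 15)
    exact two_finish h h2 hσ1 ξ₂ ξ₁ ξ₃ ε₂ ε₁ ε₃ n₂ n₁ n₃ c hne2 (Ne.symm h12) h23 hε₂ hε₁ hε₃
      (by rw [hexp]; abel) t2 t1 t3
      e2 e1 e3 p2 p1 p3 hG (Or.inr ⟨by rw [← hu₂, uv2, a2]; norm_num,
        by rw [← hu₁, uv1, a1]; norm_num, by rw [← hu₃, uv3, a3]; norm_num, by exact_mod_cast ac⟩)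
  · -- (-1, -1, 3, 15)
    exact two_finish h h2 hσ1 ξ₃ ξ₁ ξ₂ ε₃ ε₁ ε₂ n₃ n₁ n₂ c hne3 (Ne.symm h13) (Ne.symm h23)
      hε₃ hε₁ hε₂ (by rw [hexp]; abel) t3 t1 t2
      e3 e1 e2 p3 p1 p2 hG (Or.inr ⟨by rw [← hu₃, uv3, a3]; norm_num,
        by rw [← hu₁, uv1, a1]; norm_num, by rw [← hu₂, uv2, a2]; norm_num, by exact_mod_cast ac⟩)

end Cfsg.Agent.Lib.H8.BSW
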