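import Mathlib
import Cfsg.Prelude.Def_ChevStructure
import Cfsg.Agent.Lib.H29.ChevAut1
import Cfsg.Agent.Lib.H29.BtDefs2

/-!
# S2154 (Borel–Tits), stage 2, piece CLO (helper8)

The admissible functionals form a closed set; a minimiser of `Q`.
-/

set_option autoImplicit false
set_option linter.unusedSectionVars false
set_option linter.unusedVariables false

namespace Cfsg.Agent.Lib.H8.BT2

open Cfsg.Lie Matrix Cfsg.Agent.Lib.H29.BT Cfsg.Agent.Lib.H29.Chev

variable {D : ChevalleyDatum} {fd : FD} {fx : FX} {fc : FC} {fz : FZ} {F : Type*} [Field F]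

theorem clo_continuous_omrR (r : ℕ) : Continuous fun a : Fin fd.l → ℝ => fd.omrR fx a r := by
  unfold FD.omrR
  exact continuous_finsetSum _ fun j _ => (continuous_apply j).mul continuous_const

theorem clo_continuous_QR : Continuous (fd.QR fx) := by
  unfold FD.QR
  exact continuous_finsetSum _ fun s _ => (clo_continuous_omrR s).pow 2

theorem clo_continuous_wR (i : D.Idx) : Continuous fun a : Fin fd.l → ℝ => wR D fd fx a i := by
  unfold wR FD.omR
  exact continuous_finsetSum _ fun j _ => (continuous_apply j).mul continuous_const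

theorem clo_omrR_simple (C : Cert12 D fd fx fc fz) (a : Fin fd.l → ℝ) (j : Fin fd.l) :
    fd.omrR fx a (fd.simples.getD j.val 0) = a j := by
  unfold FD.omrR
  rw [Finset.sum_eq_single j]
  · rw [C.rcZ_simple j.val j.val j.isLt j.isLt, if_pos rfl]
    simp
  · intro b _ hb
    rw [C.rcZ_simple j.val b.val j.isLt b.isLt, if_neg (fun h => hb (Fin.ext h.symm))]
    simp
  · intro h; exact absurd (Finset.mem_univ j) h

theorem clo_sq_le_QR (C : Cert12 D fd fx fc fz) (a : Fin fd.l → ℝ) (j : Fin fd.l) : (a j) ^ 2 ≤ fd.QR fx a := by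
  unfold FD.QR
  have hlt : fd.simples.getD j.val 0 < fd.n := C.c6.c2.simple_lt j.val j.isLt
  have h := Finset.single_le_sum (f := fun s => (fd.omrR fx a s) ^ 2) (fun s _ => sq_nonneg _)
    (Finset.mem_range.mpr hlt)
  simp only [clo_omrR_simple C a j] at h
  exact h

section fin
variable [Finite F]

theorem isClosed_adm (V : Subgroup (GL D.Idx F)) :
    IsClosed {a : Fin fd.l → ℝ | ∃ g ∈ D.group F, ∀ v ∈ V, g⁻¹ * v * g ∈ UWG (wR D fd fx a)} := by
  have hfin : Finite (GL D.Idx F) := inferInstance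
  have e : {a : Fin fd.l → ℝ | ∃ g ∈ D.group F, ∀ v ∈ V, g⁻¹ * v * g ∈ UWG (wR D fd fx a)} =
      ⋃ g ∈ (D.group F : Set (GL D.Idx F)), ⋂ v ∈ (V : Set (GL D.Idx F)),
        {a : Fin fd.l → ℝ | ((g⁻¹ * v * g : GL D.Idx F) : Matrix D.Idx D.Idx F) ∈ UW (wR D fd fx a)} := by
    ext a
    simp only [Set.mem_ofPred_eq, Set.mem_iUnion, Set.mem_iInter, SetLike.mem_coe, exists_prop, mem_UWG]
  rw [e]
  apply Set.Finite.isClosed_biUnion (Set.toFinite _)
  intro g _
  apply isClosed_biInter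
  intro v _
  exact isClosed_UW fd.l (fun a => wR D fd fx a) (fun i => clo_continuous_wR i) _

theorem exists_minimiser (C : Cert12 D fd fx fc fz) (V : Subgroup (GL D.Idx F))
    (hne : ∃ a : Fin fd.l → ℝ, ∃ g ∈ D.group F, ∀ v ∈ V, g⁻¹ * v * g ∈ UWG (wR D fd fx a)) :
    ∃ a : Fin fd.l → ℝ, (∃ g ∈ D.group F, ∀ v ∈ V, g⁻¹ * v * g ∈ UWG (wR D fd fx a)) ∧
      ∀ b : Fin fd.l → ℝ, (∃ g ∈ D.group F, ∀ v ∈ V, g⁻¹ * v * g ∈ UWG (wR D fd fx b)) →
        fd.QR fx a ≤ fd.QR fx b := by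
  obtain ⟨a, ha, hmin⟩ := exists_min fd.l (fd.QR fx) clo_continuous_QR (fun x j => clo_sq_le_QR C x j)
    {a : Fin fd.l → ℝ | ∃ g ∈ D.group F, ∀ v ∈ V, g⁻¹ * v * g ∈ UWG (wR D fd fx a)}
    (isClosed_adm V) hne
  exact ⟨a, ha, fun b hb => hmin b hb⟩

end fin

end Cfsg.Agent.Lib.H8.BT2
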