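import Cfsg.Agent.Lib.H29.BtDefs
import Cfsg.Agent.Lib.H8.BtGRD2

/-!
# S2154 (Borel–Tits) piece GRD2, restated about helper29's definitions `Cfsg.Agent.Lib.H29.BT.*`
(helper8; same names and binders as `tools/blueprints/S2154_sigs.lean`).
-/

set_option autoImplicit false
set_option linter.unusedSectionVars false

namespace Cfsg.Agent.Lib.H8.BTb

open Cfsg.Agent.Lib.H29.BT

variable {ι : Type*} [Fintype ι] [DecidableEq ι] {F : Type*} [Field F]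

theorem UW_mid (ω₁ ω₂ : ι → ℝ) (M : Matrix ι ι F) (h1 : M ∈ UW ω₁) (h2 : M ∈ UW ω₂) :
    M ∈ UW (fun a => (ω₁ a + ω₂ a) / 2) := Cfsg.Agent.Lib.H8.BT.UW_mid ω₁ ω₂ M h1 h2
theorem eq_one_of_TrW_U0W (ω : ι → ℝ) (M : Matrix ι ι F) (h1 : M ∈ TrW ω ω) (h2 : M ∈ U0W ω) : M = 1 :=
  Cfsg.Agent.Lib.H8.BT.eq_one_of_TrW_U0W ω M h1 h2
/-- `UW ω₀ = {1}` for the zero grading -/
theorem eq_one_of_UW_zero (M : Matrix ι ι F) (h : M ∈ UW (fun _ : ι => (0 : ℝ))) : M = 1 :=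
  Cfsg.Agent.Lib.H8.BT.eq_one_of_UW_zero M h
theorem conj_UW_of_TrW (ω ω' : ι → ℝ) (n n' M : Matrix ι ι F) (h1 : n * n' = 1) (hn : n ∈ TrW ω ω')
    (hn' : n' ∈ TrW ω' ω) (hM : M ∈ UW ω) : n * M * n' ∈ UW ω' :=
  Cfsg.Agent.Lib.H8.BT.conj_UW_of_TrW ω ω' n n' M h1 hn hn' hM
theorem conj_UW_of_PW (ω : ι → ℝ) (h h' M : Matrix ι ι F) (h1 : h * h' = 1) (hh : h ∈ PW ω) (hh' : h' ∈ PW ω)
    (hM : M ∈ UW ω) : h * M * h' ∈ UW ω := Cfsg.Agent.Lib.H8.BT.conj_UW_of_PW ω h h' M h1 hh hh' hM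
theorem conj_U0W_of_PW (ω : ι → ℝ) (h h' M : Matrix ι ι F) (h1 : h * h' = 1) (hh : h ∈ PW ω) (hh' : h' ∈ PW ω)
    (hM : M ∈ U0W ω) : h * M * h' ∈ U0W ω := Cfsg.Agent.Lib.H8.BT.conj_U0W_of_PW ω h h' M h1 hh hh' hM
theorem exists_row_ne_zero (g : GL ι F) (a : ι) : ∃ b, (g : Matrix ι ι F) a b ≠ 0 :=
  Cfsg.Agent.Lib.H8.BT.exists_row_ne_zero g a
theorem le_of_TrW_PW (ω ω' : ι → ℝ) (g : GL ι F) (h1 : (g : Matrix ι ι F) ∈ TrW ω ω')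
    (h2 : (g : Matrix ι ι F) ∈ PW ω) (a : ι) : ω' a ≤ ω a :=
  Cfsg.Agent.Lib.H8.BT.le_of_TrW_PW ω ω' g h1 h2 a

end Cfsg.Agent.Lib.H8.BTb
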