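/-
S5634 farm-out (architect helper14), task A5: a subgroup `G` of `GL` containing the monomial matrices of
determinant one, with the structure property `STprop` and all column weights `1` or `n`, consists of
monomial matrices.  (helper8)
-/
import Cfsg.Agent.Lib.H14.C2Defs

set_option autoImplicit false
set_option linter.unusedSectionVars false

namespace Cfsg.Agent.Lib.H8.C2

open Matrix Cfsg.Agent.Lib.H14.C2

variable {ι : Type} [Fintype ι] [DecidableEq ι] {F : Type*} [Field F]

theorem colWt_eq_card_iff (A : Matrix ι ι F) (l : ι) :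
    colWt A l = Fintype.card ι ↔ ∀ k, A k l ≠ 0 := by
  classical
  unfold colWt
  rw [← Finset.card_univ, Finset.card_filter_eq_iff]
  simp

theorem colWt_eq_one_iff (A : Matrix ι ι F) (l : ι) :
    colWt A l = 1 ↔ ∃ c, A c l ≠ 0 ∧ ∀ a, a ≠ c → A a l = 0 := by
  classical
  unfold colWt
  rw [Finset.card_eq_one]
  constructor
  · rintro ⟨c, hc⟩
    refine ⟨c, ?_, fun a ha => ?_⟩
    · have : c ∈ Finset.univ.filter fun k => A k l ≠ 0 := by rw [hc]; exact Finset.mem_singleton_self c
      exact (Finset.mem_filter.mp this).2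
    · by_contra h
      have : a ∈ Finset.univ.filter fun k => A k l ≠ 0 := Finset.mem_filter.mpr ⟨Finset.mem_univ _, h⟩
      rw [hc] at this
      exact ha (Finset.mem_singleton.mp this)
  · rintro ⟨c, hc, hc'⟩
    refine ⟨c, ?_⟩
    ext a
    rw [Finset.mem_filter, Finset.mem_singleton]
    constructor
    · rintro ⟨_, h⟩
      by_contra hne
      exact h (hc' a hne)
    · rintro rfl
      exact ⟨Finset.mem_univ _, hc⟩

theorem val_mul_inv (g : GL ι F) : (g : Matrix ι ι F) * ((g⁻¹ : GL ι F) : Matrix ι ι F) = 1 := by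
  rw [← Units.val_mul, mul_inv_cancel, Units.val_one]

theorem val_inv_mul (g : GL ι F) : ((g⁻¹ : GL ι F) : Matrix ι ι F) * (g : Matrix ι ι F) = 1 := by
  rw [← Units.val_mul, inv_mul_cancel, Units.val_one]

/-- A non-monomial element has no zero entry. -/
theorem full_of_not_mono (G : Subgroup (GL ι F)) (hST : STprop G)
    (hW : ∀ g ∈ G, ∀ l, colWt (g : Matrix ι ι F) l = 1 ∨ colWt (g : Matrix ι ι F) l = Fintype.card ι)
    (g : GL ι F) (hg : g ∈ G) (hm : ¬ IsMono (g : Matrix ι ι F)) :
    ∀ a b, (g : Matrix ι ι F) a b ≠ 0 := by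
  classical
  unfold IsMono at hm
  push Not at hm
  obtain ⟨k, a, a', ha, ha', haa⟩ := hm
  -- column `k` is full
  have hk : ∀ x, (g : Matrix ι ι F) x k ≠ 0 := by
    rcases hW g hg k with h | h
    · exfalso
      obtain ⟨c, _, hc'⟩ := (colWt_eq_one_iff _ _).mp h
      have h1 : a = c := by by_contra hne; exact ha (hc' a hne)
      have h2 : a' = c := by by_contra hne; exact ha' (hc' a' hne)
      exact haa (h1.trans h2.symm)
    · exact (colWt_eq_card_iff _ _).mp h
  by_contra hcon
  push Not at hcon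
  obtain ⟨x, k', hx⟩ := hcon
  -- column `k'` has weight one
  have hk' : colWt (g : Matrix ι ι F) k' = 1 := by
    rcases hW g hg k' with h | h
    · exact h
    · exact absurd hx ((colWt_eq_card_iff _ _).mp h x)
  obtain ⟨c, hc, hc'⟩ := (colWt_eq_one_iff _ _).mp hk'
  -- a row `c' ≠ c`
  have hxc : x ≠ c := by rintro rfl; exact hc hx
  have hginv := G.inv_mem hg
  -- column `x` of `g⁻¹` is supported at `k`
  have h0 : ((g⁻¹ : GL ι F) : Matrix ι ι F) k' x = 0 := by
    by_contra h
    exact ((hST g hg x k').1.mpr h) hx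
  have h1 : ((g⁻¹ : GL ι F) : Matrix ι ι F) k x ≠ 0 := (hST g hg x k).1.mp (hk x)
  have hwx : colWt ((g⁻¹ : GL ι F) : Matrix ι ι F) x = 1 := by
    rcases hW g⁻¹ hginv x with h | h
    · exact h
    · exact absurd h0 ((colWt_eq_card_iff _ _).mp h k')
  obtain ⟨d, hd, hd'⟩ := (colWt_eq_one_iff _ _).mp hwx
  have hdk : k = d := by by_contra hne; exact h1 (hd' k hne)
  subst hdk
  -- another row
  have hcard : 1 < Fintype.card ι := by
    rw [Fintype.one_lt_card_iff]
    exact ⟨a, a', haa⟩
  obtain ⟨z, hz⟩ : ∃ z, z ≠ x := by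
    rw [Fintype.one_lt_card_iff] at hcard
    obtain ⟨u, v, huv⟩ := hcard
    by_cases h : u = x
    · exact ⟨v, fun hv => huv (h.trans hv.symm)⟩
    · exact ⟨u, h⟩
  have h2 := congrFun (congrFun (val_mul_inv g) z) x
  rw [Matrix.mul_apply, Matrix.one_apply_ne hz, Finset.sum_eq_single k] at h2
  · rcases mul_eq_zero.mp h2 with h | h
    · exact hk z h
    · exact h1 h
  · intro b _ hb
    rw [hd' b hb, mul_zero]
  · intro h; exact absurd (Finset.mem_univ _) h

variable [Fintype F]

/-- **A5**. -/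
theorem isMono_of_colWt (hq : 3 ≤ Fintype.card F) (hn : 6 ≤ Fintype.card ι) (G : Subgroup (GL ι F))
    (hG : HasMonP G) (hST : STprop G)
    (hW : ∀ g ∈ G, ∀ l, colWt (g : Matrix ι ι F) l = 1 ∨ colWt (g : Matrix ι ι F) l = Fintype.card ι) :
    ∀ g ∈ G, IsMono (g : Matrix ι ι F) := by
  classical
  intro g hg
  by_contra hm
  have hfull := full_of_not_mono G hST hW g hg hm
  have hfull' : ∀ a b, ((g⁻¹ : GL ι F) : Matrix ι ι F) a b ≠ 0 := fun a b =>
    (hST g hg b a).1.mp (hfull b a)
  have hcard : 1 < Fintype.card ι := by omega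
  obtain ⟨i, j, hij⟩ := Fintype.one_lt_card_iff.mp hcard
  -- the key claim
  have key : ∀ k k', (g : Matrix ι ι F) i k * ((g⁻¹ : GL ι F) : Matrix ι ι F) k j =
      (g : Matrix ι ι F) i k' * ((g⁻¹ : GL ι F) : Matrix ι ι F) k' j := by
    intro k k'
    by_contra hne
    have hkk : k ≠ k' := by rintro rfl; exact hne rfl
    set ck := (g : Matrix ι ι F) i k * ((g⁻¹ : GL ι F) : Matrix ι ι F) k j with hck
    set ck' := (g : Matrix ι ι F) i k' * ((g⁻¹ : GL ι F) : Matrix ι ι F) k' j with hck'
    have hck0 : ck ≠ 0 := mul_ne_zero (hfull i k) (hfull' k j)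
    have hck'0 : ck' ≠ 0 := mul_ne_zero (hfull i k') (hfull' k' j)
    set lam : F := ck' / ck with hlam
    have hlam0 : lam ≠ 0 := div_ne_zero hck'0 hck0
    have hlam1 : lam ≠ 1 := by
      intro h
      rw [hlam, div_eq_one_iff_eq hck0] at h
      exact hne h.symm
    set u : Fˣ := Units.mk0 lam hlam0 with hu
    set d : ι → Fˣ := fun a => if a = k then u else if a = k' then u⁻¹ else 1 with hd
    have hdk : d k = u := by simp [hd]
    have hdk' : d k' = u⁻¹ := by simp [hd, hkk.symm]
    have hdo : ∀ a, a ≠ k → a ≠ k' → d a = 1 := by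
      intro a h1 h2; simp [hd, h1, h2]
    have htG : monGL 1 d ∈ G := by
      apply monGL_mem_of_hasMonP hG
      rw [Equiv.Perm.sign_one]
      have : ∏ a, ((d a : Fˣ) : F) = ((d k : Fˣ) : F) * ((d k' : Fˣ) : F) := by
        apply Finset.prod_eq_mul k k' hkk
        · intro c _ hc
          rw [hdo c hc.1 hc.2, Units.val_one]
        · intro h; exact absurd (Finset.mem_univ _) h
        · intro h; exact absurd (Finset.mem_univ _) h
      rw [this, hdk, hdk', ← Units.val_mul, mul_inv_cancel]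
      simp
    set y : GL ι F := g * monGL 1 d * g⁻¹ with hy
    have hyG : y ∈ G := G.mul_mem (G.mul_mem hg htG) (G.inv_mem hg)
    -- entries of `y`
    have hyab : ∀ a b, (y : Matrix ι ι F) a b = (1 : Matrix ι ι F) a b +
        (g : Matrix ι ι F) a k * (lam - 1) * ((g⁻¹ : GL ι F) : Matrix ι ι F) k b +
        (g : Matrix ι ι F) a k' * (lam⁻¹ - 1) * ((g⁻¹ : GL ι F) : Matrix ι ι F) k' b := by
      intro a b
      have h1 : (y : Matrix ι ι F) a b =
          ∑ f, (g : Matrix ι ι F) a f * ((d f : Fˣ) : F) * ((g⁻¹ : GL ι F) : Matrix ι ι F) f b := by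
        rw [hy, Units.val_mul, Units.val_mul, Matrix.mul_apply]
        apply Finset.sum_congr rfl
        intro f _
        congr 1
        rw [Matrix.mul_apply, Finset.sum_eq_single f]
        · rw [monGL_apply, Equiv.Perm.one_apply, if_pos rfl]
        · intro b' _ hb'
          rw [monGL_apply, Equiv.Perm.one_apply, if_neg hb', mul_zero]
        · intro h; exact absurd (Finset.mem_univ _) h
      have h2 : (1 : Matrix ι ι F) a b =
          ∑ f, (g : Matrix ι ι F) a f * ((g⁻¹ : GL ι F) : Matrix ι ι F) f b := by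
        rw [← val_mul_inv g, Matrix.mul_apply]
      have h3 : ∑ f, (g : Matrix ι ι F) a f * (((d f : Fˣ) : F) - 1) *
          ((g⁻¹ : GL ι F) : Matrix ι ι F) f b =
          (g : Matrix ι ι F) a k * (((d k : Fˣ) : F) - 1) * ((g⁻¹ : GL ι F) : Matrix ι ι F) k b +
          (g : Matrix ι ι F) a k' * (((d k' : Fˣ) : F) - 1) * ((g⁻¹ : GL ι F) : Matrix ι ι F) k' b := by
        apply Finset.sum_eq_add k k' hkk
        · intro c _ hc
          rw [hdo c hc.1 hc.2, Units.val_one, sub_self, mul_zero, zero_mul]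
        · intro h; exact absurd (Finset.mem_univ _) h
        · intro h; exact absurd (Finset.mem_univ _) h
      rw [hdk, hdk'] at h3
      have h4 : ((u : Fˣ) : F) = lam := rfl
      have h5 : ((u⁻¹ : Fˣ) : F) = lam⁻¹ := by rw [Units.val_inv_eq_inv_val, h4]
      rw [h4, h5] at h3
      rw [h1, h2, add_assoc, ← h3, ← Finset.sum_add_distrib]
      apply Finset.sum_congr rfl
      intro f _
      ring
    -- `y i j = 0`
    have hyij : (y : Matrix ι ι F) i j = 0 := by
      rw [hyab, Matrix.one_apply_ne hij]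
      have e1 : (g : Matrix ι ι F) i k * (lam - 1) * ((g⁻¹ : GL ι F) : Matrix ι ι F) k j =
          (lam - 1) * ck := by rw [hck]; ring
      have e2 : (g : Matrix ι ι F) i k' * (lam⁻¹ - 1) * ((g⁻¹ : GL ι F) : Matrix ι ι F) k' j =
          (lam⁻¹ - 1) * ck' := by rw [hck']; ring
      rw [e1, e2, hlam]
      field_simp
      ring
    -- so `y` is monomial
    have hymono : IsMono (y : Matrix ι ι F) := by
      by_contra h
      exact full_of_not_mono G hST hW y hyG h i j hyij
    -- vanishing of the minors of rows `k`, `k'` of `g⁻¹`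
    have hminor : ∀ b1 b2, ((g⁻¹ : GL ι F) : Matrix ι ι F) k b1 * ((g⁻¹ : GL ι F) : Matrix ι ι F) k' b2 =
        ((g⁻¹ : GL ι F) : Matrix ι ι F) k' b1 * ((g⁻¹ : GL ι F) : Matrix ι ι F) k b2 := by
      intro b1 b2
      by_cases hb : b1 = b2
      · subst hb; ring
      -- a row `a ∉ {b1, b2}` with `y a b1 = 0 = y a b2`
      obtain ⟨a, ha1, ha2, hy1, hy2⟩ : ∃ a, a ≠ b1 ∧ a ≠ b2 ∧ (y : Matrix ι ι F) a b1 = 0 ∧
          (y : Matrix ι ι F) a b2 = 0 := by
        by_contra hcon
        push Not at hcon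
        have hsub : (Finset.univ : Finset ι) ⊆ ({b1, b2} : Finset ι) ∪
            ((Finset.univ.filter fun a => (y : Matrix ι ι F) a b1 ≠ 0) ∪
             (Finset.univ.filter fun a => (y : Matrix ι ι F) a b2 ≠ 0)) := by
          intro a _
          rw [Finset.mem_union, Finset.mem_union, Finset.mem_insert, Finset.mem_singleton,
            Finset.mem_filter, Finset.mem_filter]
          by_cases h1 : a = b1
          · exact Or.inl (Or.inl h1)
          by_cases h2 : a = b2
          · exact Or.inl (Or.inr h2)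
          by_cases h3 : (y : Matrix ι ι F) a b1 = 0
          · exact Or.inr (Or.inr ⟨Finset.mem_univ _, hcon a h1 h2 h3⟩)
          · exact Or.inr (Or.inl ⟨Finset.mem_univ _, h3⟩)
        have hc1 : ∀ b, (Finset.univ.filter fun a => (y : Matrix ι ι F) a b ≠ 0).card ≤ 1 := by
          intro b
          rw [Finset.card_le_one]
          intro a ha a' ha'
          exact hymono b a a' (Finset.mem_filter.mp ha).2 (Finset.mem_filter.mp ha').2
        have := Finset.card_le_card hsub
        have h2 : (({b1, b2} : Finset ι) ∪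
            ((Finset.univ.filter fun a => (y : Matrix ι ι F) a b1 ≠ 0) ∪
             (Finset.univ.filter fun a => (y : Matrix ι ι F) a b2 ≠ 0))).card ≤ 2 + (1 + 1) := by
          refine (Finset.card_union_le _ _).trans (add_le_add ?_ ?_)
          · exact Finset.card_le_two
          · exact (Finset.card_union_le _ _).trans (add_le_add (hc1 b1) (hc1 b2))
        rw [Finset.card_univ] at this
        omega
      rw [hyab, Matrix.one_apply_ne ha1] at hy1
      rw [hyab, Matrix.one_apply_ne ha2] at hy2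
      have hl1 : lam - 1 ≠ 0 := sub_ne_zero.mpr hlam1
      have e : lam⁻¹ - 1 = -(lam - 1) * lam⁻¹ := by field_simp; ring
      rw [e] at hy1 hy2
      -- `g a k * ginv k b = lam⁻¹ * g a k' * ginv k' b`
      have hy1' : (g : Matrix ι ι F) a k * ((g⁻¹ : GL ι F) : Matrix ι ι F) k b1 =
          lam⁻¹ * ((g : Matrix ι ι F) a k' * ((g⁻¹ : GL ι F) : Matrix ι ι F) k' b1) := by
        have : (lam - 1) * ((g : Matrix ι ι F) a k * ((g⁻¹ : GL ι F) : Matrix ι ι F) k b1 -
            lam⁻¹ * ((g : Matrix ι ι F) a k' * ((g⁻¹ : GL ι F) : Matrix ι ι F) k' b1)) = 0 := by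
          rw [← hy1]; ring
        rcases mul_eq_zero.mp this with h | h
        · exact absurd h hl1
        · exact sub_eq_zero.mp h
      have hy2' : (g : Matrix ι ι F) a k * ((g⁻¹ : GL ι F) : Matrix ι ι F) k b2 =
          lam⁻¹ * ((g : Matrix ι ι F) a k' * ((g⁻¹ : GL ι F) : Matrix ι ι F) k' b2) := by
        have : (lam - 1) * ((g : Matrix ι ι F) a k * ((g⁻¹ : GL ι F) : Matrix ι ι F) k b2 -
            lam⁻¹ * ((g : Matrix ι ι F) a k' * ((g⁻¹ : GL ι F) : Matrix ι ι F) k' b2)) = 0 := by
          rw [← hy2]; ring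
        rcases mul_eq_zero.mp this with h | h
        · exact absurd h hl1
        · exact sub_eq_zero.mp h
      have hne0 : (g : Matrix ι ι F) a k * (lam⁻¹ * (g : Matrix ι ι F) a k') ≠ 0 :=
        mul_ne_zero (hfull a k) (mul_ne_zero (inv_ne_zero hlam0) (hfull a k'))
      apply mul_left_cancel₀ hne0
      calc (g : Matrix ι ι F) a k * (lam⁻¹ * (g : Matrix ι ι F) a k') *
            (((g⁻¹ : GL ι F) : Matrix ι ι F) k b1 * ((g⁻¹ : GL ι F) : Matrix ι ι F) k' b2)
          = ((g : Matrix ι ι F) a k * ((g⁻¹ : GL ι F) : Matrix ι ι F) k b1) *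
            (lam⁻¹ * ((g : Matrix ι ι F) a k' * ((g⁻¹ : GL ι F) : Matrix ι ι F) k' b2)) := by ring
        _ = (lam⁻¹ * ((g : Matrix ι ι F) a k' * ((g⁻¹ : GL ι F) : Matrix ι ι F) k' b1)) *
            ((g : Matrix ι ι F) a k * ((g⁻¹ : GL ι F) : Matrix ι ι F) k b2) := by
              rw [hy1', ← hy2']
        _ = (g : Matrix ι ι F) a k * (lam⁻¹ * (g : Matrix ι ι F) a k') *
            (((g⁻¹ : GL ι F) : Matrix ι ι F) k' b1 * ((g⁻¹ : GL ι F) : Matrix ι ι F) k b2) := by ring
    -- contradiction with invertibility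
    have h1 := congrFun (congrFun (val_inv_mul g) k') k
    have h2 := congrFun (congrFun (val_inv_mul g) k) k
    rw [Matrix.mul_apply, Matrix.one_apply_ne hkk.symm] at h1
    rw [Matrix.mul_apply, Matrix.one_apply_eq] at h2
    have : ((g⁻¹ : GL ι F) : Matrix ι ι F) k' i = 0 := by
      calc ((g⁻¹ : GL ι F) : Matrix ι ι F) k' i
          = ((g⁻¹ : GL ι F) : Matrix ι ι F) k' i *
              ∑ b, ((g⁻¹ : GL ι F) : Matrix ι ι F) k b * (g : Matrix ι ι F) b k := by rw [h2, mul_one]
        _ = ∑ b, (((g⁻¹ : GL ι F) : Matrix ι ι F) k' i * ((g⁻¹ : GL ι F) : Matrix ι ι F) k b) *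
              (g : Matrix ι ι F) b k := by
            rw [Finset.mul_sum]; apply Finset.sum_congr rfl; intro b _; ring
        _ = ∑ b, (((g⁻¹ : GL ι F) : Matrix ι ι F) k i * ((g⁻¹ : GL ι F) : Matrix ι ι F) k' b) *
              (g : Matrix ι ι F) b k := by
            apply Finset.sum_congr rfl; intro b _; rw [hminor i b]
        _ = ((g⁻¹ : GL ι F) : Matrix ι ι F) k i *
              ∑ b, ((g⁻¹ : GL ι F) : Matrix ι ι F) k' b * (g : Matrix ι ι F) b k := by
            rw [Finset.mul_sum]; apply Finset.sum_congr rfl; intro b _; ring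
        _ = 0 := by rw [h1, mul_zero]
    exact hfull' k' i this
  -- all `c_a` equal, so `n = 0` in `F`
  have hsum := congrFun (congrFun (val_mul_inv g) i) j
  rw [Matrix.mul_apply, Matrix.one_apply_ne hij] at hsum
  have hsum' : ∑ a : ι, (g : Matrix ι ι F) i a * ((g⁻¹ : GL ι F) : Matrix ι ι F) a j =
      (Fintype.card ι : F) * ((g : Matrix ι ι F) i i * ((g⁻¹ : GL ι F) : Matrix ι ι F) i j) := by
    rw [Finset.sum_congr rfl (fun a _ => key a i), Finset.sum_const, Finset.card_univ, nsmul_eq_mul]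
  rw [hsum'] at hsum
  have hn0 : (Fintype.card ι : F) = 0 := by
    rcases mul_eq_zero.mp hsum with h | h
    · exact h
    · exact absurd h (mul_ne_zero (hfull i i) (hfull' i j))
  have h3 := (hST g hg i i).2 (hfull i i)
  rw [(colWt_eq_card_iff _ _).mpr (fun k => hfull k i), hn0, mul_zero] at h3
  exact zero_ne_one h3

end Cfsg.Agent.Lib.H8.C2
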