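import Cfsg.Agent.Lib.H8.ExcFamily

/-!
# CA-groups of odd order (helper8), part A

In a CA-group (centralizers of non-identity elements are abelian) the centralizers `C(x)`, `x ≠ 1`,
are abelian T.I. subgroups; a perfect nontrivial CA-group of odd order does not exist.
-/

set_option autoImplicit false

namespace Cfsg.Agent.Lib.H8

open Cfsg Cfsg.Agent.Lib.L0

/-- The CA property, in the form of S0182. -/
def IsCA (G : Type*) [Group G] : Prop :=
  ∀ x : G, x ≠ 1 → ∀ a ∈ Subgroup.centralizer ({x} : Set G),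
    ∀ b ∈ Subgroup.centralizer ({x} : Set G), a * b = b * a

section basic

variable {G : Type*} [Group G]

theorem mem_cent {x y : G} : y ∈ Subgroup.centralizer ({x} : Set G) ↔ x * y = y * x := by
  rw [Subgroup.mem_centralizer_singleton_iff]
  exact eq_comm

theorem self_mem_cent (x : G) : x ∈ Subgroup.centralizer ({x} : Set G) := mem_cent.mpr rfl

/-- In a CA-group, `C(a) = C(x)` for `1 ≠ a ∈ C(x)`. -/
theorem ca_cent_eq (hCA : IsCA G) {x a : G} (hx : x ≠ 1) (ha : a ≠ 1)
    (hax : a ∈ Subgroup.centralizer ({x} : Set G)) :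
    Subgroup.centralizer ({a} : Set G) = Subgroup.centralizer ({x} : Set G) := by
  apply le_antisymm
  · intro y hy
    have hxa : x ∈ Subgroup.centralizer ({a} : Set G) := mem_cent.mpr (mem_cent.mp hax).symm
    have := hCA a ha y hy x hxa
    exact mem_cent.mpr this.symm
  · intro y hy
    have := hCA x hx y hy a hax
    exact mem_cent.mpr this.symm

theorem conj_mem_cent_conj {x y g : G} (hy : y ∈ Subgroup.centralizer ({x} : Set G)) :
    g * y * g⁻¹ ∈ Subgroup.centralizer ({g * x * g⁻¹} : Set G) := by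
  rw [mem_cent] at hy ⊢
  calc g * x * g⁻¹ * (g * y * g⁻¹) = g * (x * y) * g⁻¹ := by group
    _ = g * (y * x) * g⁻¹ := by rw [hy]
    _ = g * y * g⁻¹ * (g * x * g⁻¹) := by group

theorem conj_ne_one {x : G} (hx : x ≠ 1) (g : G) : g * x * g⁻¹ ≠ 1 := by
  intro h
  apply hx
  have : x = g⁻¹ * (g * x * g⁻¹) * g := by group
  rw [this, h]; group

theorem ca_frobTI (hCA : IsCA G) {x : G} (hx : x ≠ 1) :
    FrobTI (Subgroup.centralizer ({x} : Set G)) := by
  refine ⟨?_, ?_⟩
  · intro g hg k hk hgk
    by_contra hk1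
    apply hg
    have hgk1 : g * k * g⁻¹ ≠ 1 := conj_ne_one hk1 g
    have e1 := ca_cent_eq hCA hx hk1 hk
    have e2 := ca_cent_eq hCA hx hgk1 hgk
    rw [Subgroup.mem_normalizer_iff]
    intro h
    constructor
    · intro hh
      rw [← e1] at hh
      have := conj_mem_cent_conj (g := g) hh
      rw [e2] at this
      exact this
    · intro hh
      rw [← e2] at hh
      have := conj_mem_cent_conj (g := g⁻¹) hh
      have e3 : g⁻¹ * (g * k * g⁻¹) * g⁻¹⁻¹ = k := by group
      have e4 : g⁻¹ * (g * h * g⁻¹) * g⁻¹⁻¹ = h := by group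
      rw [e3, e4, e1] at this
      exact this
  · intro k hk hk1
    rw [ca_cent_eq hCA hx hk1 hk]

end basic

end Cfsg.Agent.Lib.H8
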