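import Cfsg.Agent.Lib.H8.CAGroupA

/-!
# CA-groups of odd order (helper8), part B: no perfect CA-group of odd order
-/

set_option autoImplicit false

namespace Cfsg.Agent.Lib.H8

open Cfsg Cfsg.Agent.Lib.L0

variable {G : Type*} [Group G]

/-- `x ~ y` iff `x` is conjugate into `C(y)`. -/
def caRel (hCA : IsCA G) : Setoid {x : G // x ≠ 1} where
  r x y := ∃ g : G, g * x.1 * g⁻¹ ∈ Subgroup.centralizer ({y.1} : Set G)
  iseqv := by
    refine ⟨?_, ?_, ?_⟩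
    · intro x
      exact ⟨1, by simpa using self_mem_cent x.1⟩
    · rintro x y ⟨g, hg⟩
      refine ⟨g⁻¹, ?_⟩
      have h1 : y.1 ∈ Subgroup.centralizer ({g * x.1 * g⁻¹} : Set G) :=
        mem_cent.mpr (mem_cent.mp hg).symm
      have h2 := conj_mem_cent_conj (g := g⁻¹) h1
      have e3 : g⁻¹ * (g * x.1 * g⁻¹) * g⁻¹⁻¹ = x.1 := by group
      rw [e3] at h2
      exact h2
    · rintro x y z ⟨g, hg⟩ ⟨h, hh⟩
      refine ⟨h * g, ?_⟩
      have hb1 : h * y.1 * h⁻¹ ≠ 1 := conj_ne_one y.2 h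
      have e1 := ca_cent_eq hCA z.2 hb1 hh
      have h2 := conj_mem_cent_conj (g := h) hg
      rw [e1] at h2
      have e3 : h * g * x.1 * (h * g)⁻¹ = h * (g * x.1 * g⁻¹) * h⁻¹ := by group
      rw [e3]
      exact h2

theorem ca_perfect_false [Fintype G] (hodd : Odd (Nat.card G)) (hCA : IsCA G)
    (hnt : ∃ x : G, x ≠ 1)
    (hperf : ∀ χ : G → ℂ, IsIrrCharacter G χ → χ 1 = 1 → χ = 1) : False := by
  classical
  let S := caRel hCA
  let ι := Quotient S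
  haveI : Fintype ι := Fintype.ofFinite _
  obtain ⟨x₀, hx₀⟩ := hnt
  haveI : Nonempty ι := ⟨Quotient.mk S ⟨x₀, hx₀⟩⟩
  let rep : ι → {x : G // x ≠ 1} := fun i => Quotient.out i
  let A : ι → Subgroup G := fun i => Subgroup.centralizer ({(rep i).1} : Set G)
  have hfrob : ∀ j, FrobTI (A j) := fun j => ca_frobTI hCA (rep j).2
  have hab : ∀ j, ∀ a ∈ A j, ∀ b ∈ A j, a * b = b * a := fun j a ha b hb =>
    hCA (rep j).1 (rep j).2 a ha b hb
  have hne : ∀ j, A j ≠ ⊥ := by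
    intro j hbot
    have h1 : (rep j).1 ∈ A j := self_mem_cent _
    rw [hbot, Subgroup.mem_bot] at h1
    exact (rep j).2 h1
  -- membership in A j gives the relation
  have hrel : ∀ j (a : G) (ha1 : a ≠ 1), a ∈ A j → S.r ⟨a, ha1⟩ (rep j) := by
    intro j a ha1 ha
    exact ⟨1, by simpa using ha⟩
  have hdisj : ∀ i j, i ≠ j → Disjoint (conjSet (A i)) (conjSet (A j)) := by
    intro i j hij
    rw [Set.disjoint_left]
    rintro g ⟨k, a, ha, ha1, rfl⟩ ⟨k', a', ha', ha'1, hg⟩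
    apply hij
    have r1 : S.r (rep i) ⟨a, ha1⟩ := S.iseqv.symm (hrel i a ha1 ha)
    have r2 : S.r ⟨a, ha1⟩ ⟨a', ha'1⟩ := by
      refine ⟨k'⁻¹ * k, ?_⟩
      have e : k'⁻¹ * k * a * (k'⁻¹ * k)⁻¹ = a' := by
        have : a' = k'⁻¹ * (k' * a' * k'⁻¹) * k' := by group
        rw [this, ← hg]; group
      show k'⁻¹ * k * a * (k'⁻¹ * k)⁻¹ ∈ Subgroup.centralizer ({a'} : Set G)
      rw [e]
      exact self_mem_cent a'
    have r3 : S.r ⟨a', ha'1⟩ (rep j) := hrel j a' ha'1 ha'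
    have r4 : S.r (rep i) (rep j) := S.iseqv.trans r1 (S.iseqv.trans r2 r3)
    have h5 : Quotient.mk S (rep i) = Quotient.mk S (rep j) := Quotient.sound r4
    have h6 : ∀ l : ι, Quotient.mk S (rep l) = l := fun l => Quotient.out_eq l
    rw [h6 i, h6 j] at h5
    exact h5
  have hcover : ∀ g : G, g ≠ 1 → ∃ j, g ∈ conjSet (A j) := by
    intro g hg
    refine ⟨Quotient.mk S ⟨g, hg⟩, ?_⟩
    have h1 : S.r (rep (Quotient.mk S ⟨g, hg⟩)) ⟨g, hg⟩ :=
      Quotient.exact (Quotient.out_eq (Quotient.mk S ⟨g, hg⟩))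
    obtain ⟨h, hh⟩ := S.iseqv.symm h1
    refine ⟨h⁻¹, h * g * h⁻¹, hh, conj_ne_one hg h, by group⟩
  obtain ⟨χ, hχ, hχ1, hχd⟩ := exists_linear_of_family hodd A hfrob hab hne hdisj hcover
  exact hχ1 (hperf χ hχ hχd)

end Cfsg.Agent.Lib.H8
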