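import Cfsg.Agent.Lib.H8.CAGroupC
import Cfsg.Agent.Lib.L0.CharLinear

/-!
# CA-groups of odd order are solvable (helper8), part D: the induction
-/

set_option autoImplicit false

namespace Cfsg.Agent.Lib.H8

open Cfsg Cfsg.Agent.Lib.L0

universe u

/-- A perfect group has no non-principal linear characters. -/
theorem linear_trivial_of_perfect {G : Type*} [Group G] (hperf : commutator G = ⊤)
    (χ : G → ℂ) (hχ : IsIrrCharacter G χ) (h1 : χ 1 = 1) : χ = 1 := by
  funext g
  have hk : commutator G ≤ (linearCharHom (isCharacter_of_irr hχ) h1).ker :=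
    Abelianization.commutator_subset_ker _
  have hg : g ∈ (linearCharHom (isCharacter_of_irr hχ) h1).ker := hk (by rw [hperf]; trivial)
  rw [MonoidHom.mem_ker] at hg
  have := linearCharHom_apply (isCharacter_of_irr hχ) h1 g
  rw [hg] at this
  simpa using this.symm

theorem ca_solvable_aux : ∀ n : ℕ, ∀ (G : Type u) [Group G] [Finite G], Nat.card G = n →
    Odd n → IsCA G → Group.IsSolvable G := by
  intro n
  induction n using Nat.strong_induction_on with
  | _ n IH =>
  intro G _ _ hcard hodd hCA
  classical
  by_cases hcomm : ∀ a b : G, a * b = b * a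
  · exact Group.isSolvable_of_comm hcomm
  by_cases hsimple : ∀ N : Subgroup G, N.Normal → N = ⊥ ∨ N = ⊤
  · -- perfect case: contradiction
    exfalso
    haveI : Fintype G := Fintype.ofFinite G
    have hperf : commutator G = ⊤ := by
      rcases hsimple (commutator G) inferInstance with h | h
      · exfalso
        apply hcomm
        intro a b
        have h1 : a * b * a⁻¹ * b⁻¹ ∈ commutator G :=
          Subgroup.commutator_mem_commutator (Subgroup.mem_top a) (Subgroup.mem_top b)
        rw [h, Subgroup.mem_bot] at h1
        have : a * b = (a * b * a⁻¹ * b⁻¹) * (b * a) := by group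
        rw [this, h1, one_mul]
      · exact h
    have hnt : ∃ x : G, x ≠ 1 := by
      by_contra hcon
      push Not at hcon
      apply hcomm
      intro a b
      rw [hcon a, hcon b]
    exact ca_perfect_false (hcard ▸ hodd) hCA hnt (linear_trivial_of_perfect hperf)
  · push Not at hsimple
    obtain ⟨N, hNn, hN1, hNt⟩ := hsimple
    haveI := hNn
    have hNlt : Nat.card N < n := by
      rw [← hcard]
      exact lt_of_le_of_ne (Subgroup.card_le_card_group N)
        (fun h => hNt (N.card_eq_iff_eq_top.mp h))
    have hoddG : Odd (Nat.card G) := hcard ▸ hodd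
    haveI hNs : Group.IsSolvable N := IH (Nat.card N) hNlt N rfl
      (Odd.of_dvd_nat hoddG (Subgroup.card_subgroup_dvd_card N)) (ca_subgroup hCA N)
    obtain ⟨B, hBn, hB1, hBab⟩ := exists_normal_abelian N hN1
    haveI := hBn
    obtain ⟨A, hAn, hA1, hAab, hAC⟩ := ca_kernel hCA B hB1 hBab
    haveI := hAn
    have hAt : A ≠ ⊤ := by
      intro h
      apply hcomm
      intro a b
      exact hAab a (h ▸ Subgroup.mem_top a) b (h ▸ Subgroup.mem_top b)
    obtain ⟨H, hH⟩ := Subgroup.exists_right_complement'_of_coprime (coprime_of_kernel A hAC)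
    have hHlt : Nat.card H < n := by
      have h1 := hH.card_mul_card
      rw [hcard] at h1
      have h2 : 1 < Nat.card A := A.one_lt_card_iff_ne_bot.mpr hA1
      have h3 : 0 < Nat.card H := Nat.card_pos
      nlinarith
    haveI hHs : Group.IsSolvable H := IH (Nat.card H) hHlt H rfl
      (Odd.of_dvd_nat hoddG (Subgroup.card_subgroup_dvd_card H)) (ca_subgroup hCA H)
    haveI hAs : Group.IsSolvable A := Group.isSolvable_of_comm (fun a b =>
      Subtype.ext (hAab a a.2 b b.2))
    haveI hQs : Group.IsSolvable (G ⧸ A) :=
      Group.isSolvable_of_surjective (f := (hH.symm.QuotientMulEquiv).symm.toMonoidHom)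
        (hH.symm.QuotientMulEquiv).symm.surjective
    exact (Group.isSolvable_iff_subgroup_quotient A).mpr ⟨hAs, hQs⟩

theorem ca_solvable {G : Type u} [Group G] [Finite G] (hodd : Odd (Nat.card G)) (hCA : IsCA G) :
    Group.IsSolvable G :=
  ca_solvable_aux (Nat.card G) G rfl hodd hCA

end Cfsg.Agent.Lib.H8
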