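import Mathlib
import Cfsg.Agent.Lib.H5.CS4a
import Cfsg.Agent.Lib.H7.Coprime

set_option autoImplicit false

/-!
# S4146, task T4 (part a): generic lemmas and the key step

In situation `G1` with `m < n` no `p`-element has class size `n * m`.
-/

namespace Cfsg.Agent.Lib.H8.CS4T4

open Cfsg.Agent.Lib.H20.BHM (cs)
open Cfsg.Agent.Lib.H5.CS4
open Subgroup

variable {G : Type*} [Group G]

/-- If `a v a⁻¹ v⁻¹` is central and `u` commutes with `v`, then `a u a⁻¹` commutes with `v`. -/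
theorem commute_conj_of_central {v a u : G} (hc : a * v * a⁻¹ * v⁻¹ ∈ center G)
    (hu : Commute u v) : Commute (a * u * a⁻¹) v := by
  have h1 : Commute (a * u * a⁻¹) (a * v * a⁻¹) := by
    show a * u * a⁻¹ * (a * v * a⁻¹) = a * v * a⁻¹ * (a * u * a⁻¹)
    calc a * u * a⁻¹ * (a * v * a⁻¹) = a * (u * v) * a⁻¹ := by group
      _ = a * (v * u) * a⁻¹ := by rw [hu.eq]
      _ = a * v * a⁻¹ * (a * u * a⁻¹) := by group
  have h2 : Commute (a * u * a⁻¹) (a * v * a⁻¹ * v⁻¹) := mem_center_iff.1 hc _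
  have h3 : (a * v * a⁻¹ * v⁻¹)⁻¹ * (a * v * a⁻¹) = v := by group
  have h4 := h2.inv_right.mul_right h1
  rwa [h3] at h4

/-- In a `p`-group `P`, iterating `x ↦ ⁅x, g⁆` from `w ∉ Z` reaches a last term outside `Z`. -/
theorem exists_last_noncentral [Finite G] {p : ℕ} [Fact p.Prime] (P : Subgroup G)
    (hP : IsPGroup p P) (N : Subgroup G) [N.Normal] (Z : Subgroup G) {g w : G} (hg : g ∈ P)
    (hw : w ∈ P) (hwN : w ∈ N) (hwZ : w ∉ Z) :
    ∃ v ∈ P, v ∈ N ∧ v ∉ Z ∧ v * g * v⁻¹ * g⁻¹ ∈ Z := by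
  let f : ℕ → G := fun i => Nat.rec w (fun _ x => x * g * x⁻¹ * g⁻¹) i
  have hf0 : f 0 = w := rfl
  have hfs : ∀ i, f (i + 1) = f i * g * (f i)⁻¹ * g⁻¹ := fun i => rfl
  have hfP : ∀ i, f i ∈ P := by
    intro i
    induction i with
    | zero => exact hw
    | succ i ih =>
      rw [hfs]
      exact P.mul_mem (P.mul_mem (P.mul_mem ih hg) (P.inv_mem ih)) (P.inv_mem hg)
  have hfN : ∀ i, f i ∈ N := by
    intro i
    induction i with
    | zero => exact hwN
    | succ i ih =>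
      rw [hfs]
      have h1 : g * (f i)⁻¹ * g⁻¹ ∈ N := ‹N.Normal›.conj_mem _ (N.inv_mem ih) g
      have h2 : f i * g * (f i)⁻¹ * g⁻¹ = f i * (g * (f i)⁻¹ * g⁻¹) := by group
      rw [h2]
      exact N.mul_mem ih h1
  haveI : Group.IsNilpotent P := hP.isNilpotent
  obtain ⟨k, hk⟩ := (Subgroup.isNilpotent_iff_lowerCentralSeries P).1 inferInstance
  have hfL : ∀ i, f i ∈ P.lowerCentralSeries i := by
    intro i
    induction i with
    | zero => rw [Subgroup.lowerCentralSeries_zero]; exact hw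
    | succ i ih =>
      rw [Subgroup.mem_lowerCentralSeries_succ_iff]
      apply Subgroup.subset_closure
      exact ⟨f i, ih, g, hg, by rw [hfs, commutatorElement_def]⟩
  have hfk : f k ∈ Z := by
    have := hfL k
    rw [hk, mem_bot] at this
    rw [this]
    exact Z.one_mem
  classical
  have hex : ∃ i, f i ∈ Z := ⟨k, hfk⟩
  have hmin : ∀ j, j < Nat.find hex → f j ∉ Z := fun j hj => Nat.find_min hex hj
  have hspec := Nat.find_spec hex
  have h0 : Nat.find hex ≠ 0 := by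
    intro h0
    rw [h0, hf0] at hspec
    exact hwZ hspec
  obtain ⟨i, hi⟩ := Nat.exists_eq_succ_of_ne_zero h0
  refine ⟨f i, hfP i, hfN i, ?_, ?_⟩
  · exact hmin i (by omega)
  · rw [← hfs, ← Nat.succ_eq_add_one, ← hi]
    exact hspec


theorem commutator_zpowers_eq_bot {g : G} {K : Subgroup G} (hK : ∀ u ∈ K, Commute u g) :
    ⁅zpowers g, K⁆ = ⊥ := by
  rw [commutator_eq_bot_iff_le_centralizer, zpowers_le, mem_centralizer_iff]
  intro u hu
  exact (hK u hu).eq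

theorem commute_of_commutator_zpowers_eq_bot {g : G} {K : Subgroup G} (h : ⁅zpowers g, K⁆ = ⊥)
    {u : G} (hu : u ∈ K) : Commute u g := by
  rw [commutator_eq_bot_iff_le_centralizer, zpowers_le, mem_centralizer_iff] at h
  exact h u hu

/-- A `t`-element in `zpowers u` with `t ∤ orderOf u` is trivial. -/
theorem eq_one_of_pe_of_mem_zpowers {t : ℕ} (ht : t.Prime) {u y : G} (hy : y ∈ zpowers u)
    (hyt : PE t y) (hu : ¬ t ∣ orderOf u) : y = 1 := by
  obtain ⟨j, hj⟩ := hyt.orderOf_eq ht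
  have hd : orderOf y ∣ orderOf u := orderOf_dvd_of_mem_zpowers hy
  rcases Nat.eq_zero_or_pos j with rfl | hj0
  · rw [pow_zero] at hj
    exact orderOf_eq_one_iff.1 hj
  · exfalso
    apply hu
    refine dvd_trans ?_ hd
    rw [hj]
    exact dvd_pow_self t hj0.ne'

end Cfsg.Agent.Lib.H8.CS4T4

namespace Cfsg.Agent.Lib.H5.CS4

open Cfsg.Agent.Lib.H20.BHM (cs)
open Cfsg.Agent.Lib.H8.CS4T4
open Subgroup

variable {G : Type*} [Group G] {n m : ℕ}

theorem G1.t4_q_dvd_n {p q : ℕ} (h : G1 G n m p q) : q ∣ n := by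
  obtain ⟨a, ha⟩ := h.n_eq
  rcases Nat.eq_zero_or_pos a with rfl | ha0
  · rw [pow_zero] at ha
    exact absurd ha h.hyp.hn.ne'
  · rw [ha]
    exact dvd_pow_self q ha0.ne'

theorem G1.t4_p_dvd_m {p q : ℕ} (h : G1 G n m p q) : p ∣ m := h.symm.t4_q_dvd_n

theorem G1.t4_not_p_dvd_n {p q : ℕ} (h : G1 G n m p q) : ¬ p ∣ n := by
  obtain ⟨a, ha⟩ := h.n_eq
  rw [ha]
  intro hd
  exact h.hpq ((Nat.prime_dvd_prime_iff_eq h.hp h.hq).1 (h.hp.dvd_of_dvd_pow hd))

theorem G1.t4_not_q_dvd_m {p q : ℕ} (h : G1 G n m p q) : ¬ q ∣ m := h.symm.t4_not_p_dvd_n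

theorem G1.t4_eq_of_dvd_nm {p q : ℕ} (h : G1 G n m p q) {t : ℕ} (ht : t.Prime) (hd : t ∣ n * m) :
    t = p ∨ t = q := by
  obtain ⟨a, ha⟩ := h.n_eq
  obtain ⟨b, hb⟩ := h.m_eq
  rcases (Nat.Prime.dvd_mul ht).1 hd with h1 | h1
  · rw [ha] at h1
    exact Or.inr ((Nat.prime_dvd_prime_iff_eq ht h.hq).1 (ht.dvd_of_dvd_pow h1))
  · rw [hb] at h1
    exact Or.inl ((Nat.prime_dvd_prime_iff_eq ht h.hp).1 (ht.dvd_of_dvd_pow h1))

variable [Finite G]

/-- A `q`-element of `S_n` commuting with a given `p`-element. -/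
theorem G1.t4_exists_n_commute {p q : ℕ} (h : G1 G n m p q) {g : G} (hg : PE p g) :
    ∃ x : G, cs x = n ∧ PE q x ∧ Commute x g := by
  haveI : Fact p.Prime := ⟨h.hp⟩
  have H := h.hyp
  obtain ⟨x1, hx1⟩ := H.ex_n
  obtain ⟨t, ht, y, hy, hyt, hyZ⟩ := exists_pe_part (center G) _ x1 rfl (H.not_central_n hx1)
  have hycs : cs y = n := H.cs_of_mem_zpowers_n hx1 hy hyZ
  have htq : t = q := h.pe_n y hycs t ht hyt
  rw [htq] at hyt
  obtain ⟨j, hj⟩ := hg.orderOf_eq h.hp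
  have hidx : ¬ p ∣ (centralizer ({y} : Set G)).index := by
    have : (centralizer ({y} : Set G)).index = n := hycs
    rw [this]
    exact h.t4_not_p_dvd_n
  obtain ⟨a, ha⟩ := Cfsg.Agent.Lib.H20.BGC.exists_conj_mem_of_not_dvd_index
    (centralizer ({y} : Set G)) hidx hj
  rw [mem_centralizer_singleton_comm] at ha
  refine ⟨a⁻¹ * y * a, ?_, ?_, ?_⟩
  · rw [cs_conj']
    exact hycs
  · have := hyt.conj a⁻¹
    rwa [inv_inv] at this
  · show a⁻¹ * y * a * g = g * (a⁻¹ * y * a)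
    calc a⁻¹ * y * a * g = a⁻¹ * (y * (a * g * a⁻¹)) * a := by group
      _ = a⁻¹ * ((a * g * a⁻¹) * y) * a := by rw [ha.eq]
      _ = g * (a⁻¹ * y * a) := by group

/-- KEY: in situation `G1` with `m < n`, no `p`-element has class size `n * m`. -/
theorem G1.t4_no_pe_nm {p q : ℕ} (h : G1 G n m p q) (hnm : m < n) {g : G} (hg : PE p g) :
    cs g ≠ n * m := by
  intro hcs
  haveI : Fact p.Prime := ⟨h.hp⟩
  haveI : Fact q.Prime := ⟨h.hq⟩
  have H := h.hyp
  have hpn : ¬ p ∣ n := h.t4_not_p_dvd_n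
  obtain ⟨P, hgP⟩ := hg.exists_sylow
  -- a `p`-element of `S_m` inside `P`
  obtain ⟨h0, hh0⟩ := H.ex_m
  obtain ⟨t, ht, y, hy, hyt, hyZ⟩ := exists_pe_part (center G) _ h0 rfl (H.not_central_m hh0)
  have hycs : cs y = m := H.cs_of_mem_zpowers_m hh0 hy hyZ
  have htp : t = p := h.pe_m y hycs t ht hyt
  rw [htp] at hyt
  obtain ⟨j, hj⟩ := hyt.orderOf_eq h.hp
  obtain ⟨a, ha⟩ := Cfsg.Agent.Lib.H20.BGC.exists_conj_mem_of_not_dvd_index (P : Subgroup G)
    P.not_dvd_index hj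
  have hwcs : cs (a * y * a⁻¹) = m := by
    rw [Cfsg.Agent.Lib.H20.BHM.cs_conj]
    exact hycs
  have hwM : a * y * a⁻¹ ∈ H.M hnm := Or.inr hwcs
  have hwZ : a * y * a⁻¹ ∉ center G := H.not_central_m hwcs
  obtain ⟨v, hvP, hvM, hvZ, hvg⟩ := exists_last_noncentral (P : Subgroup G) P.2 (H.M hnm)
    (center G) hgP ha hwM hwZ
  have hvcs : cs v = m := H.cs_eq_m_of_mem_M hnm hvM hvZ
  have hvp : PE p v := pe_of_mem P.2 hvP
  obtain ⟨Q, hQv, hQq, hQi, hQall⟩ := h.syl_m v hvcs hvp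
  have hc1 : g * v * g⁻¹ * v⁻¹ ∈ center G := by
    have e : g * v * g⁻¹ * v⁻¹ = (v * g * v⁻¹ * g⁻¹)⁻¹ := by group
    rw [e]
    exact (center G).inv_mem hvg
  have hc2 : g⁻¹ * v * g⁻¹⁻¹ * v⁻¹ ∈ center G := by
    have h1 : g⁻¹ * v * g⁻¹⁻¹ * v⁻¹ = g⁻¹ * (v * g * v⁻¹ * g⁻¹) * g := by group
    have h2 : g⁻¹ * (v * g * v⁻¹ * g⁻¹) * g = v * g * v⁻¹ * g⁻¹ := by
      rw [mem_center_iff.1 hvg g⁻¹]
      group
    rw [h1, h2]
    exact hvg
  have hQmem : ∀ u, u ∈ Q ↔ (Commute u v ∧ PE q u) := by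
    intro u
    constructor
    · intro hu
      exact ⟨mem_centralizer_singleton_comm.1 (hQv hu), pe_of_mem hQq hu⟩
    · rintro ⟨h1, h2⟩
      exact hQall u (mem_centralizer_singleton_comm.2 h1) h2
  have hconj : ∀ b : G, b * v * b⁻¹ * v⁻¹ ∈ center G → ∀ u ∈ Q, b * u * b⁻¹ ∈ Q := by
    intro b hc u hu
    have hu' := (hQmem u).1 hu
    exact (hQmem _).2 ⟨commute_conj_of_central hc hu'.1, hu'.2.conj b⟩
  have hgN : g ∈ normalizer (Q : Set G) := by
    rw [mem_normalizer_iff]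
    intro u
    constructor
    · exact hconj g hc1 u
    · intro hu
      have := hconj g⁻¹ hc2 _ hu
      have e : g⁻¹ * (g * u * g⁻¹) * g⁻¹⁻¹ = u := by group
      rwa [e] at this
  obtain ⟨x, hxcs, hxq, hxg⟩ := h.t4_exists_n_commute hg
  have hxv : Commute v x := H.commute_of_pe hvcs hvp hpn hxcs
  have hxQ : x ∈ Q := (hQmem x).2 ⟨hxv.symm, hxq⟩
  have hcop : (orderOf g).Coprime (orderOf x) := hg.coprime_of_ne hxq h.hp h.hq h.hpq
  have hle : centralizer ({g} : Set G) ≤ centralizer ({x} : Set G) :=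
    H.centralizer_le_of_nm hcs hxg.symm hcop
  have hgx : g ∈ centralizer ({x} : Set G) := mem_centralizer_singleton_comm.2 hxg.symm
  have hqg : ¬ q ∣ orderOf g := hg.not_dvd_orderOf h.hp h.hq h.hpq
  have hT : ⁅zpowers g, Q⁆ = ⊥ := by
    apply Cfsg.Agent.Lib.H7.thompson_AxB' q (A := zpowers g)
      (B := Q ⊓ centralizer ({g} : Set G)) hQq (hQq.to_le inf_le_left)
    · rw [Nat.card_zpowers]
      obtain ⟨k, hk⟩ := hg.orderOf_eq h.hp
      rw [hk]
      exact Nat.Coprime.pow_left k ((Nat.coprime_primes h.hp h.hq).2 h.hpq)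
    · apply commutator_zpowers_eq_bot
      intro u hu
      exact mem_centralizer_singleton_comm.1 hu.2
    · rw [zpowers_le]
      exact hgN
    · exact inf_le_left.trans le_normalizer
    · apply commutator_zpowers_eq_bot
      intro u hu
      have hxB : x ∈ Q ⊓ centralizer ({g} : Set G) :=
        ⟨hxQ, mem_centralizer_singleton_comm.2 hxg⟩
      have hux : Commute u x := ((mem_centralizer_iff.1 hu.2) x hxB).symm
      exact h.comm_n x hxcs hxq u (mem_centralizer_singleton_comm.2 hux) g hgx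
        (pe_of_mem hQq hu.1) hqg
  have hQg : Q ≤ centralizer ({g} : Set G) := fun u hu =>
    mem_centralizer_singleton_comm.2 (commute_of_commutator_zpowers_eq_bot hT hu)
  have h1 : q ∣ cs g := by
    rw [hcs]
    exact h.t4_q_dvd_n.trans (dvd_mul_right n m)
  exact hQi (h1.trans (index_dvd_of_le hQg))

end Cfsg.Agent.Lib.H5.CS4
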