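import Mathlib
import Cfsg.Agent.Lib.H8.CS4T4a

set_option autoImplicit false

/-!
# S4146, task T4 (part b): nilpotency in situation `G1` from Camina's lemma for `Y = ⊤`
-/

namespace Cfsg.Agent.Lib.H8.CS4T4

open Cfsg.Agent.Lib.H20.BHM (cs)
open Cfsg.Agent.Lib.H5.CS4
open Subgroup

/-- Camina's lemma for the whole group (the case `Y = ⊤` of task T1). -/
def CaminaTop (G : Type*) [Group G] : Prop :=
  ∀ (t : ℕ) [Fact t.Prime], (∀ u : G, ¬ t ∣ orderOf u → ¬ t ∣ cs u) →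
    ∃ P K : Subgroup G, (∀ u : G, PE t u → u ∈ P) ∧ (∀ u ∈ P, PE t u) ∧
      (∀ u : G, ¬ t ∣ orderOf u → u ∈ K) ∧ (∀ u ∈ K, ¬ t ∣ orderOf u) ∧
      (∀ a ∈ P, ∀ b ∈ K, Commute a b) ∧ Nat.card P * Nat.card K = Nat.card G

variable {G : Type*} [Group G]

/-- If the `t`-elements form a subgroup, every Sylow `t`-subgroup is normal. -/
theorem sylow_normal_of_pe_subgroup {t : ℕ} [Fact t.Prime] (T : Subgroup G)
    (h1 : ∀ u : G, PE t u → u ∈ T) (h2 : ∀ u ∈ T, PE t u) (S : Sylow t G) :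
    (S : Subgroup G).Normal := by
  have hT : IsPGroup t T := by
    intro u
    obtain ⟨k, hk⟩ := h2 u u.2
    exact ⟨k, Subtype.ext (by simpa using hk)⟩
  have hle : (S : Subgroup G) ≤ T := fun u hu => h1 u (pe_of_mem S.2 hu)
  have heq : T = S := S.is_maximal' hT hle
  rw [← heq]
  constructor
  intro u hu a
  exact h1 _ ((h2 u hu).conj a)

end Cfsg.Agent.Lib.H8.CS4T4

namespace Cfsg.Agent.Lib.H5.CS4

open Cfsg.Agent.Lib.H20.BHM (cs)
open Cfsg.Agent.Lib.H8.CS4T4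
open Subgroup

variable {G : Type*} [Group G] [Finite G] {n m : ℕ}

/-- Every `p`-element lies in `M`. -/
theorem G1.t4_mem_M_of_pe {p q : ℕ} (h : G1 G n m p q) (hnm : m < n) {g : G} (hg : PE p g) :
    g ∈ h.hyp.M hnm := by
  rcases h.hyp.mem g with h1 | h1 | h1 | h1
  · exact Or.inl h1
  · exact absurd (h.pe_n g h1 p h.hp hg) h.hpq
  · exact Or.inr h1
  · exact absurd h1 (h.t4_no_pe_nm hnm hg)

/-- Every `q'`-element lies in `M`. -/
theorem G1.t4_mem_M_of_q' {p q : ℕ} (h : G1 G n m p q) (hnm : m < n) {u : G}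
    (hu : ¬ q ∣ orderOf u) : u ∈ h.hyp.M hnm := by
  by_contra huM
  obtain ⟨t, ht, y, hy, hyt, hyM⟩ := exists_pe_part (h.hyp.M hnm) _ u rfl huM
  haveI : Fact t.Prime := ⟨ht⟩
  by_cases htd : t ∣ n * m
  · rcases h.t4_eq_of_dvd_nm ht htd with e | e
    · rw [e] at hyt
      exact hyM (h.t4_mem_M_of_pe hnm hyt)
    · rw [e] at hyt
      have : y = 1 := eq_one_of_pe_of_mem_zpowers h.hq hy hyt hu
      exact hyM (this ▸ one_mem _)
  · exact hyM (h.hyp.center_le_M hnm (h.hyp.central_of_pe htd hyt))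

/-- A `t`-element of `M`, `t ≠ p`, is central. -/
theorem G1.t4_central_of_mem_M {p q : ℕ} (h : G1 G n m p q) (hnm : m < n) {t : ℕ} (ht : t.Prime)
    (htp : t ≠ p) {u : G} (hu : u ∈ h.hyp.M hnm) (hut : PE t u) : u ∈ center G := by
  by_contra huZ
  exact htp (h.pe_m u (h.hyp.cs_eq_m_of_mem_M hnm hu huZ) t ht hut)

/-- A `p'`-element of `M` is central. -/
theorem G1.t4_central_of_mem_M' {p q : ℕ} (h : G1 G n m p q) (hnm : m < n) {u : G}
    (hu : u ∈ h.hyp.M hnm) (hup : ¬ p ∣ orderOf u) : u ∈ center G := by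
  by_contra huZ
  obtain ⟨t, ht, y, hy, hyt, hyZ⟩ := exists_pe_part (center G) _ u rfl huZ
  have hycs : cs y = m :=
    h.hyp.cs_of_mem_zpowers_m (h.hyp.cs_eq_m_of_mem_M hnm hu huZ) hy hyZ
  have htp : t = p := h.pe_m y hycs t ht hyt
  rw [htp] at hyt
  have : y = 1 := eq_one_of_pe_of_mem_zpowers h.hp hy hyt hup
  exact hyZ (this ▸ one_mem _)

/-- T4 modulo Camina's lemma for `Y = ⊤`. -/
theorem G1.t4_nilpotent_of_camina {p q : ℕ} (h : G1 G n m p q) (hnm : m < n)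
    (hT : CaminaTop G) : Group.IsNilpotent G := by
  haveI : Fact p.Prime := ⟨h.hp⟩
  haveI : Fact q.Prime := ⟨h.hq⟩
  have H := h.hyp
  -- the prime `q`
  have hq' : ∀ u : G, ¬ q ∣ orderOf u → ¬ q ∣ cs u := by
    intro u hu
    rcases h.t4_mem_M_of_q' hnm hu with h1 | h1
    · rw [h1]
      exact h.hq.one_lt.ne' ∘ Nat.dvd_one.1
    · rw [h1]
      exact h.t4_not_q_dvd_m
  obtain ⟨Q0, K, hQall, hQpe, hKall, hKq, hcomm, hcard⟩ := hT q hq'
  -- `K.index = |Q0|` is a power of `q`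
  have hQ0 : IsPGroup q Q0 := by
    intro u
    obtain ⟨k, hk⟩ := hQpe u u.2
    exact ⟨k, Subtype.ext (by simpa using hk)⟩
  have hKidx : K.index = Nat.card Q0 := by
    have h1 := K.card_mul_index
    rw [← hcard, mul_comm] at h1
    exact Nat.eq_of_mul_eq_mul_right Nat.card_pos h1
  obtain ⟨c, hc⟩ := (IsPGroup.iff_card).1 hQ0
  -- the prime `p`
  have hp' : ∀ u : G, ¬ p ∣ orderOf u → ¬ p ∣ cs u := by
    intro u hu
    obtain ⟨k, l, hkl, ⟨e, he⟩, hcop⟩ :=
      Cfsg.Agent.Lib.H20.exists_pPart_pPrimePart u (isOfFinOrder_of_finite u) q h.hq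
    -- the `q'`-part is central
    have hl1 : ¬ q ∣ orderOf (u ^ l) := fun hd =>
      h.hq.one_lt.ne' (Nat.dvd_one.1 (hcop ▸ Nat.dvd_gcd hd dvd_rfl))
    have hl2 : ¬ p ∣ orderOf (u ^ l) := fun hd => hu (hd.trans (orderOf_pow_dvd l))
    have hlZ : u ^ l ∈ center G :=
      h.t4_central_of_mem_M' hnm (h.t4_mem_M_of_q' hnm hl1) hl2
    have hcs : cs u = cs (u ^ k) := by
      rw [← hkl, cs_mul_central hlZ, hkl]
    rw [hcs]
    have hkQ : u ^ k ∈ Q0 := hQall _ (pe_of_orderOf he)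
    have hKle : K ≤ centralizer ({u ^ k} : Set G) := fun b hb =>
      mem_centralizer_singleton_comm.2 (hcomm _ hkQ b hb).symm
    have hd : cs (u ^ k) ∣ q ^ c := by
      rw [← hc, ← hKidx]
      exact index_dvd_of_le hKle
    intro hpd
    exact h.hpq ((Nat.prime_dvd_prime_iff_eq h.hp h.hq).1 (h.hp.dvd_of_dvd_pow (hpd.trans hd)))
  obtain ⟨P0, K', hPall, hPpe, -, -, -, -⟩ := hT p hp'
  -- all Sylow subgroups are normal
  refine ((Group.isNilpotent_of_finite_tfae (G := G)).out 0 3).2 ?_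
  intro t ht S
  haveI := ht
  by_cases htq : t = q
  · subst htq
    exact sylow_normal_of_pe_subgroup Q0 hQall hQpe S
  by_cases htp : t = p
  · subst htp
    exact sylow_normal_of_pe_subgroup P0 hPall hPpe S
  -- other primes: central Sylow subgroups
  have hSZ : (S : Subgroup G) ≤ center G := by
    intro u hu
    have hut : PE t u := pe_of_mem S.2 hu
    have huq : ¬ q ∣ orderOf u := hut.not_dvd_orderOf ht.out h.hq htq
    exact h.t4_central_of_mem_M hnm ht.out htp (h.t4_mem_M_of_q' hnm huq) hut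
  constructor
  intro u hu a
  have : a * u * a⁻¹ = u := by
    rw [(mem_center_iff.1 (hSZ hu) a)]
    group
  rw [this]
  exact hu

end Cfsg.Agent.Lib.H5.CS4
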