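import Mathlib
import Cfsg.Agent.Lib.H8.CS4T4b
import Cfsg.Agent.Lib.H16.CS4_T1

set_option autoImplicit false

/-!
# S4146, task T4: situation `G1` with `m < n` gives nilpotency
-/

namespace Cfsg.Agent.Lib.H5.CS4

open Cfsg.Agent.Lib.H20.BHM (cs)
open Cfsg.Agent.Lib.H8.CS4T4
open Subgroup

variable {G : Type*} [Group G] [Finite G] {n m : ℕ}

/-- T4 (A5): situation G1 with `m < n` gives nilpotency. -/
theorem G1.nilpotent {p q : ℕ} (h : G1 G n m p q) (hnm : m < n) : Group.IsNilpotent G := by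
  apply h.t4_nilpotent_of_camina hnm
  intro t _ ht
  obtain ⟨P, K, -, -, h1, h2, h3, h4, h5, h6⟩ := camina_split t (⊤ : Subgroup G) (by
    intro u _ hu
    rw [relIndex_top_right]
    exact ht u hu)
  refine ⟨P, K, fun u hu => h1 u (mem_top u) hu, h2, fun u hu => h3 u (mem_top u) hu, h4, h5, ?_⟩
  rw [h6, Nat.card_congr (Subgroup.topEquiv (G := G)).toEquiv]

end Cfsg.Agent.Lib.H5.CS4
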