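import Mathlib
import Cfsg.Prelude.Def_BrauerPairs
import Cfsg.Prelude.Def_BlockLocal
import Cfsg.Agent.Lib.L0.AbelianInertial

/-!
# S4645 piece (A) (helper8): `core'`

A copy of lead's `L0.AbelianInertial.core` whose conclusion also exports that the block `f₁` of
`C_G(Q)` is a block (`IsPBlock`) and that `(Q, f₁) ≤ (P, c)` (`SubpairLE`).  Same hypotheses, same
proof (the two extra facts are the ones `core` obtains first from `exists_unique_subpairLE`).
-/

set_option autoImplicit false

namespace Cfsg.Agent.Lib.H8.CY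

open Cfsg MonoidAlgebra Cfsg.Agent.Lib.H23 Cfsg.Agent.Lib.H24 Cfsg.Agent.Lib.L0
  Cfsg.Agent.Lib.L0.BrauerPairHom Cfsg.Agent.Lib.L0.BrauerLam
  Cfsg.Agent.Lib.L0.BrauerNormal Cfsg.Agent.Lib.L0.BrauerSubpair Cfsg.Agent.Lib.L0.BrauerConj
  Cfsg.Agent.Lib.L0.BrauerDefect Cfsg.Agent.Lib.L0.BrauerSylow Cfsg.Agent.Lib.L0.BrauerCentric
  Cfsg.Agent.Lib.L0.BlockOrbitCover Cfsg.Agent.Lib.L0.BrauerNormalizer
  Cfsg.Agent.Lib.L0.BrauerFully Cfsg.Agent.Lib.L0.BrauerRelative Cfsg.Agent.Lib.L0.BrauerStab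
  Cfsg.Agent.Lib.L0.BrauerAutomizer Cfsg.Agent.Lib.L0.BrauerAbelian
  Cfsg.Agent.Lib.L0.BrauerNilpotent Cfsg.Agent.Lib.L0.AbelianInertial
open scoped ComplexConjugate

variable {G : Type*} [Group G] [Fintype G] {p : ℕ} {M : Ideal AlgInt}

theorem core' (hM : IsPModular p M) {B : Set (IrrCharacter G)} {P : Subgroup G}
    {c : Set (IrrCharacter (Subgroup.centralizer (P : Set G)))}
    (hmax : IsMaximalBrauerPair p M B P c) (hab : ∀ x ∈ P, ∀ y ∈ P, x * y = y * x)
    {Q : Subgroup G} (hQP : Q ≤ P) :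
    ∃ f₁ : Set (IrrCharacter (Subgroup.centralizer (Q : Set G))),
      IsPBlock M f₁ ∧ SubpairLE p M Q f₁ P c ∧
      IsInducedBlockIn M (Subgroup.centralizer (Q : Set G)) (Subgroup.centralizer (P : Set G)) c f₁ ∧
      (∀ f : Set (IrrCharacter (Subgroup.centralizer (Q : Set G))),
        IsInducedBlockIn M (Subgroup.centralizer (Q : Set G))
          (Subgroup.centralizer (P : Set G)) c f → f = f₁) ∧
      (IsNilpotentBlock p M f₁ ↔ ∀ g : G, g ∈ Subgroup.centralizer (Q : Set G) →
        g ∈ Subgroup.normalizer (P : Set G) →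
        StabilizesBlock (Subgroup.centralizer (P : Set G)) c g →
        g ∈ Subgroup.centralizer (P : Set G)) := by
  classical
  haveI hPr := isPrime_of_isPModular hM
  have hPe : IsBrauerPair p M P c := hmax.1.1
  have hPK : P ≤ Subgroup.centralizer (Q : Set G) := le_centralizer_of_abelian hab hQP
  have hCK : Subgroup.centralizer (P : Set G) ≤ Subgroup.centralizer (Q : Set G) :=
    Subgroup.centralizer_le hQP
  have hCN := Subgroup.centralizer_le_normalizer ((Q : Subgroup G) : Set G)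
  obtain ⟨f₁, ⟨hf₁, hle⟩, _⟩ := exists_unique_subpairLE hM P Q c hPe hQP
  have hnorm : IsNormalSubpair p M Q f₁ P c :=
    normalSubpair_of_subpairLE hM (a := ⟨Q, f₁⟩) (c := ⟨P, c⟩) hle hPe (hPK.trans hCN)
  -- `P` is a defect group of `f₁`
  have hloc : LocalMax p M P Q f₁ (fun Q' => Subgroup.centralizer (Q' : Set G)) := by
    refine localMax_of_fully hM hmax hle _ map_conj_centralizer_le fun y hy => ?_
    have hyP : Q.map (MulAut.conj y).toMonoidHom ≤ P :=
      fst_le_of_reflTransGen (a := ⟨_, conjBlock Q y f₁⟩) (b := ⟨P, c⟩) hy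
    have h1 : P ⊓ Subgroup.centralizer
        ((Q.map (MulAut.conj y).toMonoidHom : Subgroup G) : Set G) = P :=
      inf_eq_left.2 (le_centralizer_of_abelian hab hyP)
    have h2 : P ⊓ Subgroup.centralizer (Q : Set G) = P := inf_eq_left.2 hPK
    show Nat.card ↥(P ⊓ Subgroup.centralizer
      ((Q.map (MulAut.conj y).toMonoidHom : Subgroup G) : Set G)) ≤
      Nat.card ↥(P ⊓ Subgroup.centralizer (Q : Set G))
    rw [h1, h2]
  have hD := isDefectGroup_centralizer_of_localMax hM hPe hf₁ hle hloc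
  rw [inf_eq_left.2 hPK] at hD
  -- descend `(P, c)` to the group `C_G(Q)`
  obtain ⟨b', hb1, hb2, hb3⟩ := exists_up_eq (Subgroup.centralizer (Q : Set G)) hPK hCK hPe.2
  have hup : upSub (Subgroup.centralizer (Q : Set G)) b'.1 = P := by
    rw [hb1, upSub_subgroupOf _ hPK]
  have hCb : Subgroup.centralizer
      ((upSub (Subgroup.centralizer (Q : Set G)) b'.1 : Subgroup G) : Set G) ≤
      Subgroup.centralizer (Q : Set G) := by
    rw [hup]; exact hCK
  have hb'p : IsBrauerPair p M b'.1 b'.2 := by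
    refine ⟨?_, hb2⟩
    rw [hb1]
    exact hPe.1.comap_subtype
  have hfc : ∀ t : Subgroup.centralizer (Q : Set G), blockCoeff f₁ t =
      subgroupBlockCoeff (Subgroup.centralizer (Q : Set G)) f₁ (t : G) := by
    intro t
    unfold subgroupBlockCoeff
    rw [dif_pos t.2]
  have hb'F : IsBrauerPairOf p M f₁ b'.1 b'.2 := by
    refine isBrauerPairOf_of_up _ hf₁ hfc hb'p hCb ?_
    rw [hb3]
    exact hnorm
  have hmax' : IsMaximalBrauerPair p M f₁ b'.1 b'.2 := by
    refine isMaximal_of_isDefectGroup hM hb'F ?_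
    rw [hb1]
    exact hD
  have hab' : ∀ x ∈ b'.1, ∀ y ∈ b'.1, x * y = y * x := by
    rw [hb1]
    intro x hx y hy
    apply Subtype.ext
    exact hab _ (Subgroup.mem_subgroupOf.1 hx) _ (Subgroup.mem_subgroupOf.1 hy)
  have hnil := nilpotent_iff_of_abelian hM hmax' hab'
  haveI : Fintype (Subgroup.centralizer (b'.1 : Set (Subgroup.centralizer (Q : Set G)))) :=
    Fintype.ofFinite _
  have hind₁ := isInducedBlock_of_pair hM hb'F
  have hupP : (up (Subgroup.centralizer (Q : Set G)) b').1 = P := by rw [hb3]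
  refine ⟨f₁, hf₁, hle, ?_, ?_, ?_⟩
  · have h1 := isInducedBlockIn_of_up _ b'.1 hCb hind₁
    exact (isInducedBlockIn_congr _ hb3 f₁).1 h1
  · intro f hf
    have h1 := (isInducedBlockIn_congr _ hb3 f).2 hf
    have h2 := isInducedBlock_of_in _ b'.1 hCb hb2 h1
    exact isInducedBlock_unique _ h2 hind₁
  · rw [hnil]
    constructor
    · intro h g hgK hgN hgst
      have hxN : (⟨g, hgK⟩ : Subgroup.centralizer (Q : Set G)) ∈
          Subgroup.normalizer (b'.1 : Set (Subgroup.centralizer (Q : Set G))) := by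
        rw [hb1, Subgroup.mem_normalizer_iff]
        intro y
        rw [Subgroup.mem_subgroupOf, Subgroup.mem_subgroupOf]
        exact Subgroup.mem_normalizer_iff.1 hgN (y : G)
      have hst1 := (stabilizesBlock_congr hb3 g).2 hgst
      have hst2 := stabilizesBlock_down _ hCb (x := ⟨g, hgK⟩) hst1
      have h3 := h ⟨g, hgK⟩ hxN hst2
      have h4 := coe_mem_centralizer_upSub _ b'.1 h3
      rw [hup] at h4
      exact h4
    · intro h x hxN hxst
      have hst1 := stabilizesBlock_up _ hCb hxst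
      have hst2 := (stabilizesBlock_congr hb3 (x : G)).1 hst1
      have hN : (x : G) ∈ Subgroup.normalizer (P : Set G) := by
        rw [hb1] at hxN
        rw [Subgroup.mem_normalizer_iff]
        intro g
        constructor
        · intro hg
          have h5 := (Subgroup.mem_normalizer_iff.1 hxN ⟨g, hPK hg⟩).1
            (Subgroup.mem_subgroupOf.2 hg)
          exact Subgroup.mem_subgroupOf.1 h5
        · intro hg
          have hgK : g ∈ Subgroup.centralizer (Q : Set G) := by
            have h6 := hPK hg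
            have h7 : g = (x : G)⁻¹ * ((x : G) * g * (x : G)⁻¹) * (x : G) := by group
            rw [h7]
            exact Subgroup.mul_mem _ (Subgroup.mul_mem _ (Subgroup.inv_mem _ x.2) h6) x.2
          have h5 := (Subgroup.mem_normalizer_iff.1 hxN ⟨g, hgK⟩).2
            (Subgroup.mem_subgroupOf.2 hg)
          exact Subgroup.mem_subgroupOf.1 h5
      have h3 := h (x : G) x.2 hN hst2
      apply mem_centralizer_of_coe_mem _ b'.1
      rw [hup]
      exact h3

/-- (A), exact sig of `tools/blueprints/S4645_sigs.lean`. -/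
theorem subpair_of_inducedIn (hM : Cfsg.IsPModular p M) {B : Set (Cfsg.IrrCharacter G)}
    {P : Subgroup G} {c : Set (Cfsg.IrrCharacter (Subgroup.centralizer (P : Set G)))}
    (hmax : Cfsg.IsMaximalBrauerPair p M B P c) (hab : ∀ x ∈ P, ∀ y ∈ P, x * y = y * x)
    {Q : Subgroup G} (hQP : Q ≤ P)
    (f : Set (Cfsg.IrrCharacter (Subgroup.centralizer (Q : Set G))))
    (hf : Cfsg.IsInducedBlockIn M (Subgroup.centralizer (Q : Set G))
      (Subgroup.centralizer (P : Set G)) c f) :
    Cfsg.IsPBlock M f ∧ Cfsg.SubpairLE p M Q f P c := by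
  obtain ⟨f₁, hf₁, hle, _, huniq, _⟩ := core' hM hmax hab hQP
  rw [huniq f hf]
  exact ⟨hf₁, hle⟩

end Cfsg.Agent.Lib.H8.CY
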