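import Mathlib

/-!
# S1950 piece ARITH3 (helper8): the arithmetic endgame of the case `e = p - 1`, `q ≥ p²` (pure)

Exact statement of `arith3` in `tools/blueprints/S1950_sigs_h12.lean`.
-/

set_option autoImplicit false

namespace Cfsg.Agent.Lib.H8.CYA

open scoped ComplexConjugate

theorem arith3 {ι : Type*} [Fintype ι] [DecidableEq ι] (X Y : Finset ι) (hXY : Disjoint X Y)
    (hU : X ∪ Y = Finset.univ) (i₀ : ι) (hi₀ : i₀ ∈ X) (p q m : ℕ) (hp3 : 3 ≤ p) (hq : p ^ 2 ≤ q) (hm : m ≤ p - 1)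
    (a : ι → ℤ) (c : ι → ℂ) (D : ι → ℕ) (hDpos : ∀ i, 0 < D i)
    (hXc : ∀ i ∈ X, c i = (a i : ℂ)) (ha0 : a i₀ = 1) (hD0 : D i₀ = 1)
    (hXdeg : ∀ i ∈ X, i ≠ i₀ → 0 < a i → a i + (q : ℤ) ≤ (D i : ℤ))
    (hXsum : ∑ i ∈ X, (a i) ^ 2 = (m : ℤ))
    (hYc : ∀ i ∈ Y, ‖c i‖ ≤ (p : ℝ) - 1) (hYdeg : ∀ i ∈ Y, (q : ℤ) - (m : ℤ) ≤ (D i : ℤ))
    (hnorm : ∑ i, c i * conj (c i) = (q : ℂ))
    (hcube : ((p : ℂ) - 1) * ∑ i, c i * c i * conj (c i) / (D i : ℂ) = (q : ℂ) * ((p : ℂ) - 2)) : False := by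
  have hp3' : (3 : ℝ) ≤ p := by exact_mod_cast hp3
  have hq' : (p : ℝ) ^ 2 ≤ q := by exact_mod_cast hq
  have hm' : (m : ℝ) ≤ p - 1 := by
    have h1 : (m : ℝ) ≤ ((p - 1 : ℕ) : ℝ) := by exact_mod_cast hm
    rwa [Nat.cast_sub (by omega), Nat.cast_one] at h1
  have hqm : (0 : ℝ) < (q : ℝ) - m := by nlinarith
  set T : ι → ℂ := fun i => c i * c i * conj (c i) / (D i : ℂ) with hT
  -- real part of the cube identity
  have hre : ((p : ℝ) - 1) * ∑ i, (T i).re = (q : ℝ) * ((p : ℝ) - 2) := by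
    have h1 := congrArg Complex.re hcube
    have e1 : ((p : ℂ) - 1) = (((p : ℝ) - 1 : ℝ) : ℂ) := by push_cast; ring
    have e2 : (q : ℂ) * ((p : ℂ) - 2) = (((q : ℝ) * ((p : ℝ) - 2) : ℝ) : ℂ) := by push_cast; ring
    rw [e1, e2, Complex.re_ofReal_mul, Complex.ofReal_re, Complex.re_sum] at h1
    exact h1
  -- the `X`-terms are real
  have hTX : ∀ i ∈ X, (T i).re = (a i : ℝ) ^ 3 / (D i : ℝ) := by
    intro i hi
    have hc : c i = (((a i : ℝ)) : ℂ) := by rw [hXc i hi]; push_cast; rfl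
    have h1 : T i = (((a i : ℝ) ^ 3 / (D i : ℝ) : ℝ) : ℂ) := by
      simp only [hT, hc, Complex.conj_ofReal]
      push_cast
      ring
    rw [h1, Complex.ofReal_re]
  have hT0 : (T i₀).re = 1 := by
    rw [hTX i₀ hi₀, ha0, hD0]; norm_num
  -- sums of squares
  have hS1 : ∑ i ∈ X, (a i : ℝ) ^ 2 = (m : ℝ) := by
    have h1 : ((∑ i ∈ X, (a i) ^ 2 : ℤ) : ℝ) = ((m : ℤ) : ℝ) := by rw [hXsum]
    push_cast at h1
    exact h1
  have hS1' : ∑ i ∈ X.erase i₀, (a i : ℝ) ^ 2 = (m : ℝ) - 1 := by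
    have h1 := Finset.add_sum_erase X (fun i => (a i : ℝ) ^ 2) hi₀
    simp only [ha0] at h1
    rw [hS1] at h1
    push_cast at h1
    linarith
  have hm1 : (1 : ℝ) ≤ m := by
    have h1 : (0 : ℝ) ≤ ∑ i ∈ X.erase i₀, (a i : ℝ) ^ 2 :=
      Finset.sum_nonneg (fun i _ => sq_nonneg _)
    rw [hS1'] at h1
    linarith
  have hS2 : ∑ i ∈ Y, Complex.normSq (c i) = (q : ℝ) - m := by
    have h1 : ∑ i, Complex.normSq (c i) = (q : ℝ) := by
      have h2 : ∀ i, c i * conj (c i) = ((Complex.normSq (c i) : ℝ) : ℂ) :=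
        fun i => Complex.mul_conj (c i)
      simp only [h2] at hnorm
      rw [← Complex.ofReal_sum] at hnorm
      exact_mod_cast hnorm
    rw [← hU, Finset.sum_union hXY] at h1
    have h3 : ∑ i ∈ X, Complex.normSq (c i) = (m : ℝ) := by
      rw [← hS1]
      refine Finset.sum_congr rfl (fun i hi => ?_)
      have hc : c i = (((a i : ℝ)) : ℂ) := by rw [hXc i hi]; push_cast; rfl
      rw [hc, Complex.normSq_ofReal]; ring
    linarith
  -- the bound on `X`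
  have hB1 : ∀ i ∈ X.erase i₀, (T i).re ≤ (a i : ℝ) ^ 2 / ((p : ℝ) + 1) := by
    intro i hi
    obtain ⟨hne, hiX⟩ := Finset.mem_erase.1 hi
    rw [hTX i hiX]
    have hDr : (0 : ℝ) < D i := by exact_mod_cast hDpos i
    have hp1 : (0 : ℝ) < (p : ℝ) + 1 := by linarith
    rcases le_or_gt (a i) 0 with ha | ha
    · have ha' : (a i : ℝ) ≤ 0 := by exact_mod_cast ha
      have h1 : (a i : ℝ) ^ 3 ≤ 0 := by
        have : (a i : ℝ) ^ 3 = (a i : ℝ) ^ 2 * (a i : ℝ) := by ring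
        rw [this]
        exact mul_nonpos_of_nonneg_of_nonpos (sq_nonneg _) ha'
      calc (a i : ℝ) ^ 3 / (D i : ℝ) ≤ 0 := div_nonpos_of_nonpos_of_nonneg h1 hDr.le
        _ ≤ (a i : ℝ) ^ 2 / ((p : ℝ) + 1) := div_nonneg (sq_nonneg _) hp1.le
    · have ha' : (1 : ℝ) ≤ (a i : ℝ) := by exact_mod_cast ha
      have hsq : (a i : ℝ) ^ 2 ≤ (m : ℝ) - 1 := by
        rw [← hS1']
        exact Finset.single_le_sum (f := fun j => (a j : ℝ) ^ 2) (fun j _ => sq_nonneg _) hi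
      have hale : (a i : ℝ) ≤ (p : ℝ) - 2 := by nlinarith
      have hDge : (a i : ℝ) + (q : ℝ) ≤ (D i : ℝ) := by
        have := hXdeg i hiX hne ha
        exact_mod_cast this
      have hap : (a i : ℝ) * p ≤ q := by nlinarith
      rw [div_le_div_iff₀ hDr hp1]
      have h2 : (a i : ℝ) ^ 2 * ((a i : ℝ) + (a i : ℝ) * p) ≤ (a i : ℝ) ^ 2 * (D i : ℝ) :=
        mul_le_mul_of_nonneg_left (by linarith) (sq_nonneg _)
      nlinarith
  have hXpart : ∑ i ∈ X, (T i).re ≤ 1 + ((m : ℝ) - 1) / ((p : ℝ) + 1) := by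
    rw [← Finset.add_sum_erase X (fun i => (T i).re) hi₀, hT0]
    have h1 : ∑ i ∈ X.erase i₀, (T i).re ≤ ∑ i ∈ X.erase i₀, (a i : ℝ) ^ 2 / ((p : ℝ) + 1) :=
      Finset.sum_le_sum hB1
    rw [← Finset.sum_div, hS1'] at h1
    linarith
  -- the bound on `Y`
  have hB2 : ∀ i ∈ Y, (T i).re ≤ ((p : ℝ) - 1) / ((q : ℝ) - m) * Complex.normSq (c i) := by
    intro i hi
    have hDr : (0 : ℝ) < D i := by exact_mod_cast hDpos i
    have hDge : (q : ℝ) - m ≤ (D i : ℝ) := by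
      have := hYdeg i hi
      exact_mod_cast this
    have hn : ‖T i‖ = ‖c i‖ ^ 2 * ‖c i‖ / (D i : ℝ) := by
      simp only [hT, norm_div, norm_mul, Complex.norm_conj, Complex.norm_natCast]
      ring
    have hns : Complex.normSq (c i) = ‖c i‖ ^ 2 := Complex.normSq_eq_norm_sq (c i)
    calc (T i).re ≤ ‖T i‖ := Complex.re_le_norm (T i)
      _ = ‖c i‖ ^ 2 * ‖c i‖ / (D i : ℝ) := hn
      _ ≤ ‖c i‖ ^ 2 * ((p : ℝ) - 1) / ((q : ℝ) - m) := by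
          have h1 : ‖c i‖ ^ 2 * ‖c i‖ ≤ ‖c i‖ ^ 2 * ((p : ℝ) - 1) :=
            mul_le_mul_of_nonneg_left (hYc i hi) (sq_nonneg _)
          have h2 : (0 : ℝ) ≤ ‖c i‖ ^ 2 * ((p : ℝ) - 1) :=
            mul_nonneg (sq_nonneg _) (by linarith)
          calc ‖c i‖ ^ 2 * ‖c i‖ / (D i : ℝ) ≤ ‖c i‖ ^ 2 * ((p : ℝ) - 1) / (D i : ℝ) :=
                div_le_div_of_nonneg_right h1 hDr.le
            _ ≤ ‖c i‖ ^ 2 * ((p : ℝ) - 1) / ((q : ℝ) - m) :=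
                div_le_div_of_nonneg_left h2 hqm hDge
      _ = ((p : ℝ) - 1) / ((q : ℝ) - m) * Complex.normSq (c i) := by rw [hns]; ring
  have hYpart : ∑ i ∈ Y, (T i).re ≤ (p : ℝ) - 1 := by
    have h1 : ∑ i ∈ Y, (T i).re ≤
        ∑ i ∈ Y, ((p : ℝ) - 1) / ((q : ℝ) - m) * Complex.normSq (c i) := Finset.sum_le_sum hB2
    rw [← Finset.mul_sum, hS2, div_mul_cancel₀ _ hqm.ne'] at h1
    exact h1
  -- total
  have htot : ∑ i, (T i).re ≤ 1 + ((m : ℝ) - 1) / ((p : ℝ) + 1) + ((p : ℝ) - 1) := by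
    rw [← hU, Finset.sum_union hXY]
    linarith
  have hfrac : ((m : ℝ) - 1) / ((p : ℝ) + 1) < 1 := by
    rw [div_lt_one (by linarith)]
    linarith
  have hlt : ∑ i, (T i).re < (p : ℝ) + 1 := by linarith
  have h1 : ((p : ℝ) - 1) * ∑ i, (T i).re < ((p : ℝ) - 1) * ((p : ℝ) + 1) :=
    mul_lt_mul_of_pos_left hlt (by linarith)
  rw [hre] at h1
  have h2 : (p : ℝ) ^ 2 * 1 ≤ (q : ℝ) * ((p : ℝ) - 2) :=
    mul_le_mul hq' (by linarith) (by norm_num) (by positivity)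
  nlinarith

end Cfsg.Agent.Lib.H8.CYA
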