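import Mathlib
import Cfsg.Prelude.Def_BrauerPairs
import Cfsg.Prelude.Def_BlockLocal
import Cfsg.Agent.Lib.L0.AbelianInertial

/-!
# S4645 pieces (B2), (B3) (helper8)

* `exists_pow_mem_centralizer` (B2): for a maximal `B`-pair `(P, c)` with `P` abelian, every
  `g ∈ N_G(P, c)` has a power `g ^ r`, `p ∤ r`, in `C_G(P)` (the inertial quotient is a `p'`-group:
  lead's `fong_of_localMax`).
* `mem_of_pow_mem_of_coprime` (B3): Bezout.
* `cyclic_free_of_pow`: (B2) + (B3) given a `p`-power of `g` in `C_G(P)` (that is piece (B1)).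
-/

set_option autoImplicit false

namespace Cfsg.Agent.Lib.H8.CY

open Cfsg MonoidAlgebra Cfsg.Agent.Lib.H23 Cfsg.Agent.Lib.H24 Cfsg.Agent.Lib.L0
  Cfsg.Agent.Lib.L0.BrauerPairHom Cfsg.Agent.Lib.L0.BrauerLam
  Cfsg.Agent.Lib.L0.BrauerNormal Cfsg.Agent.Lib.L0.BrauerSubpair Cfsg.Agent.Lib.L0.BrauerConj
  Cfsg.Agent.Lib.L0.BrauerDefect Cfsg.Agent.Lib.L0.BrauerSylow Cfsg.Agent.Lib.L0.BrauerCentric
  Cfsg.Agent.Lib.L0.BlockOrbitCover Cfsg.Agent.Lib.L0.BrauerNormalizer
  Cfsg.Agent.Lib.L0.BrauerFully Cfsg.Agent.Lib.L0.BrauerRelative Cfsg.Agent.Lib.L0.BrauerStab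
  Cfsg.Agent.Lib.L0.BrauerAutomizer Cfsg.Agent.Lib.L0.BrauerAbelian
  Cfsg.Agent.Lib.L0.BrauerNilpotent Cfsg.Agent.Lib.L0.AbelianInertial

/-- (B3) Bezout: coprime powers of `g` in a subgroup force `g` into it. -/
theorem mem_of_pow_mem_of_coprime {G : Type*} [Group G] (H : Subgroup G) (g : G) (r s : ℕ)
    (hrs : Nat.Coprime r s) (hr : g ^ r ∈ H) (hs : g ^ s ∈ H) : g ∈ H := by
  have h1 : g ^ ((r : ℤ) * Nat.gcdA r s + (s : ℤ) * Nat.gcdB r s) = g ^ (1 : ℤ) := by
    rw [← Nat.gcd_eq_gcd_ab, hrs.gcd_eq_one]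
    norm_num
  rw [zpow_one] at h1
  rw [← h1, zpow_add, zpow_mul, zpow_mul, zpow_natCast, zpow_natCast]
  exact H.mul_mem (H.zpow_mem hr _) (H.zpow_mem hs _)

variable {G : Type*} [Group G] [Fintype G] {p : ℕ} {M : Ideal AlgInt}

/-- (B2), exact sig of `tools/blueprints/S4645_sigs.lean`: the inertial quotient `T / C_G(P)` of a
maximal pair with abelian `P` is a `p'`-group. -/
theorem not_dvd_index_centralizer (hM : Cfsg.IsPModular p M) {B : Set (Cfsg.IrrCharacter G)}
    {P : Subgroup G} {c : Set (Cfsg.IrrCharacter (Subgroup.centralizer (P : Set G)))}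
    (hmax : Cfsg.IsMaximalBrauerPair p M B P c) (hab : ∀ x ∈ P, ∀ y ∈ P, x * y = y * x)
    (T : Subgroup G) (hT : ∀ g : G, g ∈ T ↔ (g ∈ Subgroup.normalizer (P : Set G) ∧
      Cfsg.StabilizesBlock (Subgroup.centralizer (P : Set G)) c g)) :
    ¬ p ∣ ((Subgroup.centralizer (P : Set G)).subgroupOf T).index := by
  classical
  haveI hPr := isPrime_of_isPModular hM
  have hPe : IsBrauerPair p M P c := hmax.1.1
  have hfong := (fong_of_localMax hM hPe hPe.2 Relation.ReflTransGen.refl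
    (localMax_of_maximal hM hmax _) T hT).2
  have hPC : P ≤ Subgroup.centralizer (P : Set G) := le_centralizer_of_abelian hab le_rfl
  have hsup : (P ⊓ Subgroup.normalizer (P : Set G)).subgroupOf T ⊔
      (Subgroup.centralizer (P : Set G)).subgroupOf T =
      (Subgroup.centralizer (P : Set G)).subgroupOf T := by
    apply sup_eq_right.2
    intro y hy
    rw [Subgroup.mem_subgroupOf] at hy ⊢
    exact hPC hy.1
  rw [hsup] at hfong
  exact hfong

/-- `C_G(P) ∩ T` is normal in `T` for `T ≤ N_G(P)`. -/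
theorem centralizer_subgroupOf_normal {G : Type*} [Group G] (P T : Subgroup G)
    (hTN : T ≤ Subgroup.normalizer (P : Set G)) :
    ((Subgroup.centralizer (P : Set G)).subgroupOf T).Normal := by
  refine ⟨fun y hy t => ?_⟩
  rw [Subgroup.mem_subgroupOf] at hy ⊢
  have htN := hTN t.2
  rw [Subgroup.mem_centralizer_iff] at hy ⊢
  intro x hx
  have hx' : (t : G)⁻¹ * x * (t : G) ∈ P := by
    have := (Subgroup.mem_normalizer_iff.1 (Subgroup.inv_mem _ htN) x).1 hx
    simpa using this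
  have h1 := hy _ hx'
  show x * ((t * y * t⁻¹ : T) : G) = ((t * y * t⁻¹ : T) : G) * x
  push_cast
  calc x * ((t : G) * (y : G) * (t : G)⁻¹)
      = (t : G) * (((t : G)⁻¹ * x * (t : G)) * (y : G)) * (t : G)⁻¹ := by group
    _ = (t : G) * ((y : G) * ((t : G)⁻¹ * x * (t : G))) * (t : G)⁻¹ := by rw [h1]
    _ = (t : G) * (y : G) * (t : G)⁻¹ * x := by group

/-- (B2) in element form: every `g ∈ N_G(P, c)` has a power prime to `p` in `C_G(P)`. -/
theorem exists_pow_mem_centralizer (hM : IsPModular p M) {B : Set (IrrCharacter G)}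
    {P : Subgroup G} {c : Set (IrrCharacter (Subgroup.centralizer (P : Set G)))}
    (hmax : IsMaximalBrauerPair p M B P c) (hab : ∀ x ∈ P, ∀ y ∈ P, x * y = y * x)
    (g : G) (hgN : g ∈ Subgroup.normalizer (P : Set G))
    (hgst : StabilizesBlock (Subgroup.centralizer (P : Set G)) c g) :
    ∃ r : ℕ, ¬ p ∣ r ∧ g ^ r ∈ Subgroup.centralizer (P : Set G) := by
  classical
  haveI hPr := isPrime_of_isPModular hM
  have hPe : IsBrauerPair p M P c := hmax.1.1
  set T0 : Subgroup G := stabSub P c with hT0def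
  have hT0 : ∀ y : G, y ∈ T0 ↔ y ∈ Subgroup.normalizer (P : Set G) ∧
      StabilizesBlock (Subgroup.centralizer (P : Set G)) c y :=
    fun y => mem_stabSub_iff (M := M) P hPe.2 y
  have hfong := not_dvd_index_centralizer hM hmax hab T0 hT0
  have hT0N : T0 ≤ Subgroup.normalizer (P : Set G) := fun y hy => ((hT0 y).1 hy).1
  haveI hnC : ((Subgroup.centralizer (P : Set G)).subgroupOf T0).Normal :=
    centralizer_subgroupOf_normal P T0 hT0N
  have hgT0 : g ∈ T0 := (hT0 g).2 ⟨hgN, hgst⟩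
  refine ⟨((Subgroup.centralizer (P : Set G)).subgroupOf T0).index, hfong, ?_⟩
  have h2 := Subgroup.pow_index_mem ((Subgroup.centralizer (P : Set G)).subgroupOf T0)
    (⟨g, hgT0⟩ : T0)
  rw [Subgroup.mem_subgroupOf] at h2
  simpa using h2

/-- (B2) + (B3): if moreover some `p`-power of `g` centralizes `P` (piece (B1) for cyclic `P`),
then `g ∈ C_G(P)`. -/
theorem cyclic_free_of_pow (hM : IsPModular p M) {B : Set (IrrCharacter G)}
    {P : Subgroup G} {c : Set (IrrCharacter (Subgroup.centralizer (P : Set G)))}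
    (hmax : IsMaximalBrauerPair p M B P c) (hab : ∀ x ∈ P, ∀ y ∈ P, x * y = y * x)
    (g : G) (hgN : g ∈ Subgroup.normalizer (P : Set G))
    (hgst : StabilizesBlock (Subgroup.centralizer (P : Set G)) c g)
    (k : ℕ) (hk : g ^ (p ^ k) ∈ Subgroup.centralizer (P : Set G)) :
    g ∈ Subgroup.centralizer (P : Set G) := by
  obtain ⟨r, hr, hgr⟩ := exists_pow_mem_centralizer hM hmax hab g hgN hgst
  have hp : p.Prime := prime_of_isPModular hM
  have hcop : Nat.Coprime r (p ^ k) :=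
    Nat.Coprime.pow_right k ((Nat.Prime.coprime_iff_not_dvd hp).2 hr).symm
  exact mem_of_pow_mem_of_coprime _ g r (p ^ k) hcop hgr hk

end Cfsg.Agent.Lib.H8.CY
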