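import Cfsg.Agent.Lib.H8.CYB
import Cfsg.Agent.Lib.H25.CYB1X

/-!
# S4645 piece (B3) `cyclic_free`, exact sig (helper8)

`(P, c)` a maximal `B`-pair with `P` cyclic, `1 ≠ Q ≤ P`: an element of `C_G(Q) ∩ N_G(P, c)` lies in
`C_G(P)`.  (B1) = helper25's `H25.CY.exists_pow_mem_centralizer_of_cyclic` (a `p`-power of `g`
centralizes `P`), (B2) = `H8.CY.exists_pow_mem_centralizer` (a `p'`-power of `g` centralizes `P`),
(B3) = Bezout (`H8.CY.cyclic_free_of_pow`).
-/

set_option autoImplicit false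

namespace Cfsg.Agent.Lib.H8.CY

open Cfsg

variable {G : Type*} [Group G] [Fintype G] {p : ℕ} {M : Ideal Cfsg.AlgInt}

theorem cyclic_free (hM : Cfsg.IsPModular p M) {B : Set (Cfsg.IrrCharacter G)}
    {P : Subgroup G} {c : Set (Cfsg.IrrCharacter (Subgroup.centralizer (P : Set G)))}
    (hmax : Cfsg.IsMaximalBrauerPair p M B P c) (hcyc : IsCyclic P)
    {Q : Subgroup G} (hQP : Q ≤ P) (hQ1 : Q ≠ ⊥) :
    ∀ g : G, g ∈ Subgroup.centralizer (Q : Set G) → g ∈ Subgroup.normalizer (P : Set G) →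
      Cfsg.StabilizesBlock (Subgroup.centralizer (P : Set G)) c g →
      g ∈ Subgroup.centralizer (P : Set G) := by
  intro g hgQ hgN hgst
  haveI : Fact p.Prime := ⟨Cfsg.Agent.Lib.H23.prime_of_isPModular hM⟩
  have hPp : IsPGroup p P := hmax.1.1.1
  have hab : ∀ x ∈ P, ∀ y ∈ P, x * y = y * x := by
    intro x hx y hy
    haveI := hcyc
    have h := (IsCyclic.isMulCommutative (α := P)).is_comm.comm (⟨x, hx⟩ : P) ⟨y, hy⟩
    exact congrArg Subtype.val h
  obtain ⟨⟨q, hq⟩, hq1'⟩ := (Subgroup.ne_bot_iff_exists_ne_one).1 hQ1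
  have hq1 : q ≠ 1 := fun h => hq1' (Subtype.ext h)
  have hgq : g * q * g⁻¹ = q := by
    have h1 := Subgroup.mem_centralizer_iff.1 hgQ q hq
    rw [← h1]
    group
  obtain ⟨k, hk⟩ := Cfsg.Agent.Lib.H25.CY.exists_pow_mem_centralizer_of_cyclic p P hcyc hPp g hgN
    q (hQP hq) hq1 hgq
  exact cyclic_free_of_pow hM hmax hab g hgN hgst k hk

end Cfsg.Agent.Lib.H8.CY
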