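import Mathlib
import Cfsg.Prelude.Def_Blocks
import Cfsg.Agent.Lib.H23.PPart2

/-!
# S1950 piece EQUI + COUNT (helper8)

`z` of order `p`; for every `y` of order `p` the subgroup `⟨z, y⟩` has a normal `p'`-subgroup `K` of
index `p` (PAIR, K-form).  Then the `G`-conjugates `y` of `z^b` are equidistributed over the coset
`bE` by the residue `j(y)` with `y ∈ z^j K`, and `z^a y` lies in the `p`-section of `z^(a+j)`.
-/

set_option autoImplicit false

namespace Cfsg.Agent.Lib.H8.CYE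

open Cfsg

/-! ## Section 1: a group `L` with a normal `p'`-subgroup `K` of index `p` -/

section abstract

variable {L : Type*} [Group L] [Finite L] {p : ℕ} [hp : Fact p.Prime]

theorem card_quot (K : Subgroup L) [K.Normal] (hKi : K.index = p) : Nat.card (L ⧸ K) = p := by
  rw [← Subgroup.index_eq_card]; exact hKi

theorem regular_of_mem (K : Subgroup L) (hKc : (Nat.card K).Coprime p) {g : L} (hg : g ∈ K) :
    ¬ p ∣ orderOf g := by
  intro h
  have h1 : orderOf (⟨g, hg⟩ : K) ∣ Nat.card K := orderOf_dvd_natCard _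
  rw [Subgroup.orderOf_mk] at h1
  exact hp.out.one_lt.ne' (Nat.Coprime.eq_one_of_dvd hKc.symm (h.trans h1))

theorem not_mem_of_orderOf (K : Subgroup L) (hKc : (Nat.card K).Coprime p) {z : L}
    (hz : orderOf z = p) : z ∉ K := by
  intro h
  exact regular_of_mem K hKc h (by rw [hz])

theorem mk_ne_one (K : Subgroup L) [K.Normal] (hKc : (Nat.card K).Coprime p) {z : L}
    (hz : orderOf z = p) : (QuotientGroup.mk z : L ⧸ K) ≠ 1 := by
  rw [Ne, QuotientGroup.eq_one_iff]; exact not_mem_of_orderOf K hKc hz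

theorem orderOf_mk (K : Subgroup L) [K.Normal] (hKc : (Nat.card K).Coprime p)
    (hKi : K.index = p) {z : L} (hz : orderOf z = p) :
    orderOf (QuotientGroup.mk z : L ⧸ K) = p := by
  have h1 : orderOf (QuotientGroup.mk z : L ⧸ K) ∣ p := by
    have := orderOf_dvd_natCard (QuotientGroup.mk z : L ⧸ K)
    rwa [card_quot K hKi] at this
  rcases (Nat.dvd_prime hp.out).1 h1 with h | h
  · exact absurd (orderOf_eq_one_iff.1 h) (mk_ne_one K hKc hz)
  · exact h

theorem exists_pow_mk (K : Subgroup L) [K.Normal] (hKc : (Nat.card K).Coprime p)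
    (hKi : K.index = p) {z : L} (hz : orderOf z = p) (g : L) :
    ∃ i : ℕ, (QuotientGroup.mk g : L ⧸ K) = (QuotientGroup.mk z : L ⧸ K) ^ i := by
  obtain ⟨i, hi⟩ := mem_powers_of_prime_card (card_quot K hKi) (mk_ne_one K hKc hz)
    (g' := (QuotientGroup.mk g : L ⧸ K))
  exact ⟨i, hi.symm⟩

theorem mk_eq_one_of_regular (K : Subgroup L) [K.Normal] (hKi : K.index = p) {w : L}
    (hw : ¬ p ∣ orderOf w) : (QuotientGroup.mk w : L ⧸ K) = 1 := by
  have h1 : orderOf (QuotientGroup.mk w : L ⧸ K) ∣ p := by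
    have := orderOf_dvd_natCard (QuotientGroup.mk w : L ⧸ K)
    rwa [card_quot K hKi] at this
  have h2 : orderOf (QuotientGroup.mk w : L ⧸ K) ∣ orderOf w :=
    orderOf_map_dvd (QuotientGroup.mk' K) w
  rcases (Nat.dvd_prime hp.out).1 h1 with h | h
  · exact orderOf_eq_one_iff.1 h
  · exact absurd (h ▸ h2) hw

/-- every `p`-element of `L` is conjugate to a power of `z` -/
theorem exists_conj_pow (K : Subgroup L) [K.Normal] (hKc : (Nat.card K).Coprime p)
    (hKi : K.index = p) {z : L} (hz : orderOf z = p) {x : L} (hx : ∃ k : ℕ, orderOf x = p ^ k) :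
    ∃ (h : L) (m : ℕ), x = h * z ^ m * h⁻¹ := by
  have hcard : Nat.card L = Nat.card K * p := by rw [← hKi]; exact (K.card_mul_index).symm
  have hpz : IsPGroup p (Subgroup.zpowers z) :=
    IsPGroup.of_card (n := 1) (by rw [Nat.card_zpowers, hz, pow_one])
  obtain ⟨S, hS⟩ := hpz.exists_le_sylow
  have hKpos : Nat.card K ≠ 0 := Nat.card_pos.ne'
  have hnd : ¬ p ∣ Nat.card K := fun h =>
    hp.out.one_lt.ne' (Nat.Coprime.eq_one_of_dvd hKc.symm h)
  have hScard : Nat.card S = p := by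
    rw [S.card_eq_multiplicity, hcard, Nat.factorization_mul hKpos hp.out.ne_zero]
    simp [Nat.factorization_eq_zero_of_not_dvd hnd, hp.out.factorization_self]
  have hSz : Subgroup.zpowers z = (S : Subgroup L) := by
    refine Subgroup.eq_of_le_of_card_ge hS ?_
    rw [hScard, Nat.card_zpowers, hz]
  obtain ⟨k, hk⟩ := hx
  have hpx : IsPGroup p (Subgroup.zpowers x) :=
    IsPGroup.of_card (n := k) (by rw [Nat.card_zpowers, hk])
  obtain ⟨S', hS'⟩ := hpx.exists_le_sylow
  obtain ⟨h, hh⟩ := MulAction.exists_smul_eq L S S'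
  have hxS' : x ∈ (S' : Subgroup L) := hS' (Subgroup.mem_zpowers x)
  rw [← hh, Sylow.coe_subgroup_smul, Subgroup.mem_smul_pointwise_iff_exists] at hxS'
  obtain ⟨s, hs, hsx⟩ := hxS'
  rw [← SetLike.mem_coe, ← hSz, SetLike.mem_coe, ← mem_powers_iff_mem_zpowers] at hs
  obtain ⟨m, hm⟩ := hs
  refine ⟨h, m, ?_⟩
  have hm2 : z ^ m = s := hm
  rw [← hsx, MulAut.smul_def, MulAut.conj_apply, hm2]

/-- the `p`-part of an element of the coset `z^m K`, `p ∤ m`, is conjugate to `z^m` -/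
theorem ppart_of_mk_eq (K : Subgroup L) [K.Normal] (hKc : (Nat.card K).Coprime p)
    (hKi : K.index = p) {z : L} (hz : orderOf z = p) (g : L) (m : ℕ)
    (hg : (QuotientGroup.mk g : L ⧸ K) = (QuotientGroup.mk z : L ⧸ K) ^ m) :
    ∃ x h : L, IsPPart p g x ∧ x = h * z ^ m * h⁻¹ := by
  obtain ⟨x, hx⟩ := Cfsg.Agent.Lib.H23.exists_isPPart hp.out g (isOfFinOrder_of_finite g)
  obtain ⟨w, hxw, -, hxp, hwp⟩ := id hx
  obtain ⟨h, m', hm'⟩ := exists_conj_pow K hKc hKi hz hxp
  obtain ⟨i, hi⟩ := exists_pow_mk K hKc hKi hz h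
  have h1 : (QuotientGroup.mk x : L ⧸ K) = (QuotientGroup.mk z : L ⧸ K) ^ m' := by
    rw [hm', QuotientGroup.mk_mul, QuotientGroup.mk_mul, QuotientGroup.mk_inv, hi,
      QuotientGroup.mk_pow, ← pow_add, add_comm, pow_add, mul_inv_cancel_right]
  have h2 : (QuotientGroup.mk g : L ⧸ K) = (QuotientGroup.mk x : L ⧸ K) := by
    rw [← hxw, QuotientGroup.mk_mul, mk_eq_one_of_regular K hKi hwp, mul_one]
  have h3 : m' ≡ m [MOD p] := by
    have := pow_eq_pow_iff_modEq.1 (h1.symm.trans (h2.symm.trans hg))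
    rwa [orderOf_mk K hKc hKi hz] at this
  have h4 : z ^ m' = z ^ m := by
    rw [pow_eq_pow_iff_modEq, hz]; exact h3
  exact ⟨x, h, hx, by rw [hm', h4]⟩

end abstract

/-! ## Section 2: powers of `z` indexed by `ZMod p` -/

section zp

variable {G : Type*} [Group G] {p : ℕ} [hp : Fact p.Prime]

/-- `z ^ v` for `v : ZMod p` -/
def zp (z : G) (v : ZMod p) : G := z ^ v.val

theorem zp_natCast {z : G} (hz : orderOf z = p) (n : ℕ) : zp z (n : ZMod p) = z ^ n := by
  rw [zp, ZMod.val_natCast]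
  conv_lhs => rw [← hz]
  exact pow_mod_orderOf z n

theorem zp_zero (z : G) : zp z (0 : ZMod p) = 1 := by
  rw [zp, ZMod.val_zero, pow_zero]

theorem zp_one (z : G) : zp z (1 : ZMod p) = z := by
  rw [zp, ZMod.val_one, pow_one]

theorem zp_add {z : G} (hz : orderOf z = p) (u v : ZMod p) :
    zp z (u + v) = zp z u * zp z v := by
  have h : u + v = ((u.val + v.val : ℕ) : ZMod p) := by
    rw [Nat.cast_add, ZMod.natCast_zmod_val, ZMod.natCast_zmod_val]
  rw [h, zp_natCast hz, pow_add]; rfl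

theorem zp_mul {z : G} (hz : orderOf z = p) (u v : ZMod p) :
    zp z (u * v) = (zp z u) ^ v.val := by
  have h : u * v = ((u.val * v.val : ℕ) : ZMod p) := by
    rw [Nat.cast_mul, ZMod.natCast_zmod_val, ZMod.natCast_zmod_val]
  rw [h, zp_natCast hz, pow_mul]; rfl

theorem zp_eq_one_iff {z : G} (hz : orderOf z = p) (v : ZMod p) : zp z v = 1 ↔ v = 0 := by
  constructor
  · intro h
    rw [zp, ← orderOf_dvd_iff_pow_eq_one, hz] at h
    rw [← ZMod.natCast_zmod_val v, ZMod.natCast_eq_zero_iff]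
    exact h
  · rintro rfl; exact zp_zero z

theorem orderOf_zp {z : G} (hz : orderOf z = p) {v : ZMod p} (hv : v ≠ 0) :
    orderOf (zp z v) = p := by
  have h1 : orderOf (zp z v) ∣ p := by
    have hzp : z ^ p = 1 := by rw [← hz]; exact pow_orderOf_eq_one z
    rw [orderOf_dvd_iff_pow_eq_one, zp, ← pow_mul, mul_comm, pow_mul, hzp, one_pow]
  rcases (Nat.dvd_prime hp.out).1 h1 with h | h
  · exact absurd ((zp_eq_one_iff hz v).1 (orderOf_eq_one_iff.1 h)) hv
  · exact h

theorem pow_val_inv {y : G} (hy : orderOf y = p) {r : ZMod p} (hr : r ≠ 0) :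
    (y ^ r.val) ^ (r⁻¹).val = y := by
  have h := zp_mul hy r r⁻¹
  rw [mul_inv_cancel₀ hr, zp_one] at h
  exact h.symm

theorem isConj_pow {u v : G} (h : IsConj u v) (n : ℕ) : IsConj (u ^ n) (v ^ n) := by
  obtain ⟨g, hg⟩ := isConj_iff.1 h
  exact isConj_iff.2 ⟨g, by rw [← hg, conj_pow]⟩

/-- the residues `t ≠ 0` with `z^t ~ z` -/
def EE (z : G) : Set (ZMod p) := {t | t ≠ 0 ∧ IsConj (zp z t) z}

theorem one_mem_EE (z : G) : (1 : ZMod p) ∈ EE z :=
  ⟨one_ne_zero, by rw [zp_one]⟩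

theorem mul_mem_EE {z : G} (hz : orderOf z = p) {s t : ZMod p} (hs : s ∈ EE z) (ht : t ∈ EE z) :
    s * t ∈ EE z := by
  refine ⟨mul_ne_zero hs.1 ht.1, ?_⟩
  rw [zp_mul hz]
  exact (isConj_pow hs.2 t.val).trans ht.2

theorem inv_mem_EE {z : G} (hz : orderOf z = p) {t : ZMod p} (ht : t ∈ EE z) : t⁻¹ ∈ EE z := by
  refine ⟨inv_ne_zero ht.1, ?_⟩
  have h := isConj_pow ht.2 (t⁻¹).val
  rw [← zp_mul hz, mul_inv_cancel₀ ht.1, zp_one] at h
  exact h.symm

/-- `z^v ~ z^c` iff `v ∈ cE` -/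
theorem isConj_zp_iff {z : G} (hz : orderOf z = p) {c : ZMod p} (hc : c ≠ 0) (v : ZMod p) :
    IsConj (zp z v) (zp z c) ↔ ∃ t ∈ EE z, v = c * t := by
  constructor
  · intro h
    have hv : v ≠ 0 := by
      rintro rfl
      rw [zp_zero, isConj_one_right] at h
      exact hc ((zp_eq_one_iff hz c).1 h)
    refine ⟨v * c⁻¹, ⟨mul_ne_zero hv (inv_ne_zero hc), ?_⟩, ?_⟩
    · have h1 := isConj_pow h (c⁻¹).val
      rwa [← zp_mul hz, ← zp_mul hz, mul_inv_cancel₀ hc, zp_one] at h1
    · rw [mul_comm v, ← mul_assoc, mul_inv_cancel₀ hc, one_mul]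
  · rintro ⟨t, ht, rfl⟩
    have h1 : IsConj ((zp z t) ^ c.val) (z ^ c.val) := isConj_pow ht.2 c.val
    rw [← zp_mul hz, mul_comm] at h1
    exact h1

end zp

/-! ## Section 3: the K-form of PAIR and the residue `j(y)` -/

section pack

variable {G : Type*} [Group G] [Finite G] {p : ℕ} [hp : Fact p.Prime]

/-- K-form of PAIR: `⟨z, y⟩` has a normal `p'`-subgroup `K` of index `p` -/
def KForm (p : ℕ) (z y : G) (K : Subgroup G) : Prop :=
  K ≤ Subgroup.closure ({z, y} : Set G) ∧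
  (∀ h ∈ Subgroup.closure ({z, y} : Set G), ∀ k ∈ K, h * k * h⁻¹ ∈ K) ∧
  (Nat.card K).Coprime p ∧ K.relIndex (Subgroup.closure ({z, y} : Set G)) = p

omit [Finite G] hp in
theorem isPPart_coe {H : Subgroup G} {g x : H} (h : IsPPart p g x) :
    IsPPart p (g : G) (x : G) := by
  obtain ⟨w, hxw, hc, ⟨k, hk⟩, hw⟩ := h
  refine ⟨(w : G), ?_, ?_, ⟨k, ?_⟩, ?_⟩
  · rw [← hxw]; rfl
  · have := congrArg (Subtype.val) hc.eq
    exact this
  · rw [← hk, Subgroup.orderOf_coe]
  · rwa [Subgroup.orderOf_coe]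

/-- natural-exponent form -/
theorem pack_nat {z y : G} (hz : orderOf z = p) {K : Subgroup G} (hK : KForm p z y K) :
    ∃ j : ℕ, ∀ a r : ℕ,
      (p ∣ a + j * r → ¬ p ∣ orderOf (z ^ a * y ^ r)) ∧
      (¬ p ∣ a + j * r → ∃ x g : G, IsPPart p (z ^ a * y ^ r) x ∧
        x = g * z ^ (a + j * r) * g⁻¹) := by
  obtain ⟨hKL, hKn, hKc, hKi⟩ := hK
  set L : Subgroup G := Subgroup.closure ({z, y} : Set G) with hL
  set K' : Subgroup L := K.subgroupOf L with hK'
  haveI : K'.Normal := by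
    refine ⟨fun k hk h => ?_⟩
    rw [hK', Subgroup.mem_subgroupOf] at hk ⊢
    exact hKn h h.2 k hk
  have hK'c : (Nat.card K').Coprime p := by
    rw [hK', Nat.card_congr (Subgroup.subgroupOfEquivOfLe hKL).toEquiv]
    exact hKc
  have hK'i : K'.index = p := hKi
  set zL : L := ⟨z, Subgroup.subset_closure (by simp)⟩ with hzL
  set yL : L := ⟨y, Subgroup.subset_closure (by simp)⟩ with hyL
  have hzLo : orderOf zL = p := by rw [hzL, Subgroup.orderOf_mk, hz]
  obtain ⟨j, hj⟩ := exists_pow_mk K' hK'c hK'i hzLo yL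
  refine ⟨j, fun a r => ?_⟩
  have hval : (QuotientGroup.mk (zL ^ a * yL ^ r) : L ⧸ K') =
      (QuotientGroup.mk zL : L ⧸ K') ^ (a + j * r) := by
    rw [QuotientGroup.mk_mul, QuotientGroup.mk_pow, QuotientGroup.mk_pow, hj, ← pow_mul, ← pow_add]
  have hcoe : ((zL ^ a * yL ^ r : L) : G) = z ^ a * y ^ r := rfl
  constructor
  · intro hdvd
    have h1 : (QuotientGroup.mk (zL ^ a * yL ^ r) : L ⧸ K') = 1 := by
      rw [hval]
      rw [← orderOf_mk K' hK'c hK'i hzLo] at hdvd
      exact orderOf_dvd_iff_pow_eq_one.1 hdvd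
    rw [QuotientGroup.eq_one_iff] at h1
    have h2 := regular_of_mem K' hK'c h1
    rwa [← Subgroup.orderOf_coe, hcoe] at h2
  · intro _
    obtain ⟨x, g, hx, hxg⟩ := ppart_of_mk_eq K' hK'c hK'i hzLo _ _ hval
    refine ⟨(x : G), (g : G), ?_, ?_⟩
    · have := isPPart_coe hx
      rwa [hcoe] at this
    · rw [hxg]; rfl

/-- `ZMod p` form: the residue `j` of `y` -/
theorem pack_zmod {z y : G} (hz : orderOf z = p) {K : Subgroup G}
    (hK : KForm p z y K) :
    ∃ j : ZMod p, ∀ a r : ZMod p,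
      (a + j * r = 0 → ¬ p ∣ orderOf (zp z a * zp y r)) ∧
      (a + j * r ≠ 0 → ∃ x g : G, IsPPart p (zp z a * zp y r) x ∧
        x = g * zp z (a + j * r) * g⁻¹) := by
  obtain ⟨j, hj⟩ := pack_nat hz hK
  refine ⟨(j : ZMod p), fun a r => ?_⟩
  have hcast : a + (j : ZMod p) * r = ((a.val + j * r.val : ℕ) : ZMod p) := by
    rw [Nat.cast_add, Nat.cast_mul, ZMod.natCast_zmod_val, ZMod.natCast_zmod_val]
  obtain ⟨h1, h2⟩ := hj a.val r.val
  constructor
  · intro h0
    rw [hcast, ZMod.natCast_eq_zero_iff] at h0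
    exact h1 h0
  · intro h0
    rw [hcast, Ne, ZMod.natCast_eq_zero_iff] at h0
    obtain ⟨x, g, hx, hxg⟩ := h2 h0
    refine ⟨x, g, hx, ?_⟩
    rw [hcast, zp_natCast hz]
    exact hxg

end pack

/-! ## Section 4: the residue, intrinsically -/

section res

variable {G : Type*} [Group G] {p : ℕ} [hp : Fact p.Prime]

/-- `j` is the residue of `y` with respect to `z` -/
def IsRes (p : ℕ) (z y : G) (j : ZMod p) : Prop :=
  ∀ a r : ZMod p,
    (a + j * r = 0 → ¬ p ∣ orderOf (zp z a * zp y r)) ∧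
    (a + j * r ≠ 0 → ∃ x g : G, IsPPart p (zp z a * zp y r) x ∧
      x = g * zp z (a + j * r) * g⁻¹)

omit hp in
theorem isPPart_one_of_regular {g : G} (h : ¬ p ∣ orderOf g) : IsPPart p g 1 :=
  ⟨g, one_mul g, Commute.one_left g, ⟨0, by simp⟩, h⟩

theorem IsRes.ne_zero {z y : G} {j : ZMod p} (h : IsRes p z y j) (hy : orderOf y = p) :
    j ≠ 0 := by
  rintro rfl
  have := (h 0 1).1 (by simp)
  rw [zp_zero, zp_one, one_mul, hy] at this
  exact this dvd_rfl

theorem IsRes.pow {z y : G} {j : ZMod p} (h : IsRes p z y j) (hy : orderOf y = p)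
    (r : ZMod p) : IsRes p z (zp y r) (j * r) := by
  intro a s
  have h1 : zp (zp y r) s = zp y (r * s) := (zp_mul hy r s).symm
  rw [h1, mul_assoc]
  exact h a (r * s)

/-- the `p`-section test -/
theorem IsRes.mem_section_iff {z y : G} {j : ZMod p} (h : IsRes p z y j) (hz : orderOf z = p)
    (a : ZMod p) {c : ZMod p} (hc : c ≠ 0) :
    (∃ x : G, IsPPart p (zp z a * y) x ∧ IsConj x (zp z c)) ↔ ∃ t ∈ EE z, a + j = c * t := by
  have h1 := h a 1
  rw [zp_one, mul_one] at h1
  by_cases h0 : a + j = 0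
  · constructor
    · rintro ⟨x, hx, hxc⟩
      have hx1 : x = 1 :=
        Cfsg.Agent.Lib.H23.IsPPart.unique hp.out hx (isPPart_one_of_regular (h1.1 h0))
      rw [hx1, isConj_one_right] at hxc
      exact absurd ((zp_eq_one_iff hz c).1 hxc) hc
    · rintro ⟨t, ht, h2⟩
      rw [h0] at h2
      rcases mul_eq_zero.1 h2.symm with h3 | h3
      · exact absurd h3 hc
      · exact absurd h3 ht.1
  · obtain ⟨x₀, g, hx₀, hx₀g⟩ := h1.2 h0
    have hconj : IsConj (zp z (a + j)) x₀ := isConj_iff.2 ⟨g, hx₀g.symm⟩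
    rw [← isConj_zp_iff hz hc]
    constructor
    · rintro ⟨x, hx, hxc⟩
      rw [Cfsg.Agent.Lib.H23.IsPPart.unique hp.out hx hx₀] at hxc
      exact hconj.trans hxc
    · intro h2
      exact ⟨x₀, hx₀, hconj.symm.trans h2⟩

theorem IsRes.unique {z y : G} {j j' : ZMod p} (h : IsRes p z y j) (h' : IsRes p z y j')
    (hz : orderOf z = p) : j = j' := by
  by_contra hne
  have h1 := (h (-j) 1).1 (by ring)
  have h2 : -j + j' * 1 ≠ 0 := by
    intro h3
    apply hne
    rw [mul_one, neg_add_eq_zero] at h3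
    exact h3
  obtain ⟨x, g, hx, hxg⟩ := (h' (-j) 1).2 h2
  have hx1 : x = 1 :=
    Cfsg.Agent.Lib.H23.IsPPart.unique hp.out hx (isPPart_one_of_regular h1)
  rw [hx1] at hxg
  have h4 : zp z (-j + j' * 1) = 1 := by
    have : zp z (-j + j' * 1) = g⁻¹ * (g * zp z (-j + j' * 1) * g⁻¹) * g := by group
    rw [this, ← hxg]; group
  exact h2 ((zp_eq_one_iff hz _).1 h4)

end res

/-! ## Section 5: the count -/

section count

variable {G : Type*} [Group G] {p : ℕ} [hp : Fact p.Prime]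

omit hp in
theorem isPPart_self_of_orderOf {y : G} (hp1 : 1 < p) (hy : orderOf y = p) : IsPPart p y y :=
  ⟨1, mul_one y, Commute.one_right y, ⟨1, by rw [hy, pow_one]⟩, by
    rw [orderOf_one]; exact fun h => absurd (Nat.le_of_dvd one_pos h) (not_le.2 hp1)⟩

open Classical in
/-- the count, classical `Finset` form, "`a + b t ∈ cE`" version -/
theorem count_finset [Fintype G] (z : G) (hz : orderOf z = p)
    (hall : ∀ y : G, orderOf y = p → ∃ j, IsRes p z y j) (a b c : ZMod p) (hb : b ≠ 0)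
    (hc : c ≠ 0) :
    (Finset.univ.filter (fun t : ZMod p => t ∈ EE z)).card *
      (Finset.univ.filter (fun y : G => IsConj (zp z b) y ∧
          ∃ x, IsPPart p (zp z a * y) x ∧ IsConj x (zp z c))).card =
    (Finset.univ.filter (fun y : G => IsConj (zp z b) y)).card *
      (Finset.univ.filter (fun t : ZMod p => t ∈ EE z ∧
          ∃ t' ∈ EE z, a + b * t = c * t')).card := by
  set Ef := Finset.univ.filter (fun t : ZMod p => t ∈ EE z) with hEf
  set S := Finset.univ.filter (fun y : G => IsConj (zp z b) y) with hS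
  have hmemS : ∀ y, y ∈ S ↔ IsConj (zp z b) y := fun y => by
    rw [hS, Finset.mem_filter]; simp
  have hmemE : ∀ t, t ∈ Ef ↔ t ∈ EE z := fun t => by
    rw [hEf, Finset.mem_filter]; simp
  have hSo : ∀ y ∈ S, orderOf y = p := by
    intro y hy
    obtain ⟨g, hg⟩ := isConj_iff.1 ((hmemS y).1 hy)
    rw [← hg]
    have : orderOf (g * zp z b * g⁻¹) = orderOf (zp z b) := (MulAut.conj g).orderOf_eq (zp z b)
    rw [this]; exact orderOf_zp hz hb
  -- the residue function
  let J : G → ZMod p := fun y => if h : ∃ j, IsRes p z y j then h.choose else 0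
  have hJ : ∀ y, (∃ j, IsRes p z y j) → IsRes p z y (J y) := by
    intro y h
    simp only [J, dif_pos h]
    exact h.choose_spec
  have hJpow : ∀ y, orderOf y = p → ∀ r, J (zp y r) = J y * r := by
    intro y hy r
    have h1 := (hJ y (hall y hy)).pow hy r
    exact (hJ (zp y r) ⟨_, h1⟩).unique h1 hz
  -- fibres
  have hT : ∀ v r, r ∈ EE z → (S.filter (fun y => J y = v)).card ≤
      (S.filter (fun y => J y = v * r)).card := by
    intro v r hr
    apply Finset.card_le_card_of_injOn (fun y => zp y r)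
    · intro y hy
      rw [Finset.mem_coe, Finset.mem_filter] at hy ⊢
      refine ⟨(hmemS _).2 ?_, ?_⟩
      · have h1 : IsConj ((zp z b) ^ r.val) (y ^ r.val) := isConj_pow ((hmemS y).1 hy.1) r.val
        rw [← zp_mul hz] at h1
        exact ((isConj_zp_iff hz hb (b * r)).2 ⟨r, hr, rfl⟩).symm.trans h1
      · rw [hJpow y (hSo y hy.1) r, hy.2]
    · intro y hy y' hy' hyy'
      rw [Finset.mem_coe, Finset.mem_filter] at hy hy'
      have h1 : (zp y r) ^ (r⁻¹).val = (zp y' r) ^ (r⁻¹).val := by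
        have : zp y r = zp y' r := hyy'
        rw [this]
      rwa [zp, zp, pow_val_inv (hSo y hy.1) hr.1, pow_val_inv (hSo y' hy'.1) hr.1] at h1
  have hTeq : ∀ r, r ∈ EE z → (S.filter (fun y => J y = b * r)).card =
      (S.filter (fun y => J y = b)).card := by
    intro r hr
    apply le_antisymm
    · have := hT (b * r) r⁻¹ (inv_mem_EE hz hr)
      rwa [mul_assoc, mul_inv_cancel₀ hr.1, mul_one] at this
    · exact hT b r hr
  have hval : ∀ y ∈ S, J y ∈ Ef.image (fun t => b * t) := by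
    intro y hy
    have hyo := hSo y hy
    have h1 := ((hJ y (hall y hyo)).mem_section_iff hz 0 hb).1
      ⟨y, by rw [zp_zero, one_mul]; exact isPPart_self_of_orderOf hp.out.one_lt hyo,
        ((hmemS y).1 hy).symm⟩
    obtain ⟨t, ht, h2⟩ := h1
    rw [zero_add] at h2
    exact Finset.mem_image.2 ⟨t, (hmemE t).2 ht, h2.symm⟩
  have hinj : ∀ t ∈ Ef, ∀ t' ∈ Ef, b * t = b * t' → t = t' :=
    fun t _ t' _ h => mul_left_cancel₀ hb h
  have hScard : S.card = Ef.card * (S.filter (fun y => J y = b)).card := by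
    rw [Finset.card_eq_sum_card_fiberwise hval, Finset.sum_image hinj,
      Finset.sum_congr rfl (fun t ht => hTeq t ((hmemE t).1 ht)), Finset.sum_const, smul_eq_mul]
  -- the numerator
  set N := Finset.univ.filter (fun y : G => IsConj (zp z b) y ∧
          ∃ x, IsPPart p (zp z a * y) x ∧ IsConj x (zp z c)) with hN
  have hNS : N = S.filter (fun y => ∃ x, IsPPart p (zp z a * y) x ∧ IsConj x (zp z c)) := by
    rw [hN, hS, Finset.filter_filter]
  have hNval : ∀ y ∈ N, J y ∈ Ef.image (fun t => b * t) := by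
    intro y hy
    rw [hNS, Finset.mem_filter] at hy
    exact hval y hy.1
  have hfib : ∀ t ∈ Ef, (N.filter (fun y => J y = b * t)).card =
      if (∃ t' ∈ EE z, a + b * t = c * t') then (S.filter (fun y => J y = b)).card else 0 := by
    intro t ht
    have hiff : ∀ y ∈ S, J y = b * t →
        ((∃ x, IsPPart p (zp z a * y) x ∧ IsConj x (zp z c)) ↔
          ∃ t' ∈ EE z, a + b * t = c * t') := by
      intro y hy hJy
      rw [(hJ y (hall y (hSo y hy))).mem_section_iff hz a hc, hJy]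
    split_ifs with hg
    · rw [← hTeq t ((hmemE t).1 ht)]
      congr 1
      ext y
      simp only [hNS, Finset.mem_filter]
      constructor
      · rintro ⟨⟨h1, _⟩, h3⟩; exact ⟨h1, h3⟩
      · rintro ⟨h1, h3⟩; exact ⟨⟨h1, (hiff y h1 h3).2 hg⟩, h3⟩
    · rw [Finset.card_eq_zero, Finset.eq_empty_iff_forall_notMem]
      intro y hy
      rw [hNS, Finset.mem_filter, Finset.mem_filter] at hy
      exact hg ((hiff y hy.1.1 hy.2).1 hy.1.2)
  have hNcard : N.card = (S.filter (fun y => J y = b)).card *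
      (Ef.filter (fun t => ∃ t' ∈ EE z, a + b * t = c * t')).card := by
    rw [Finset.card_eq_sum_card_fiberwise hNval, Finset.sum_image hinj,
      Finset.sum_congr rfl hfib, Finset.sum_ite, Finset.sum_const, Finset.sum_const_zero,
      add_zero, smul_eq_mul, mul_comm]
  have hfin : Finset.univ.filter (fun t : ZMod p => t ∈ EE z ∧
      ∃ t' ∈ EE z, a + b * t = c * t') =
      Ef.filter (fun t => ∃ t' ∈ EE z, a + b * t = c * t') := by
    rw [hEf, Finset.filter_filter]
  rw [hfin, hNcard, hScard]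
  ring

open Classical in
omit hp in
theorem ncard_setOf_eq_card_filter {α : Type*} [Fintype α] (P : α → Prop) :
    {x | P x}.ncard = (Finset.univ.filter P).card := by
  rw [Set.ncard_eq_toFinset_card', Set.toFinset_ofPred]

/-- the two forms of the right-hand count agree (`t ↦ t⁻¹`) -/
theorem ncard_forms {z : G} (hz : orderOf z = p) (a b c : ZMod p) :
    {t : ZMod p | t ∈ EE z ∧ ∃ t' ∈ EE z, a + b * t = c * t'}.ncard =
      {j : ZMod p | j ∈ EE z ∧ ∃ t' ∈ EE z, j * a + b = c * t'}.ncard := by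
  have himg : {j : ZMod p | j ∈ EE z ∧ ∃ t' ∈ EE z, j * a + b = c * t'} =
      (fun t : ZMod p => t⁻¹) '' {t : ZMod p | t ∈ EE z ∧ ∃ t' ∈ EE z, a + b * t = c * t'} := by
    ext j
    simp only [Set.mem_ofPred_eq, Set.mem_image]
    constructor
    · rintro ⟨hj, t', ht', h⟩
      refine ⟨j⁻¹, ⟨inv_mem_EE hz hj, t' * j⁻¹, mul_mem_EE hz ht' (inv_mem_EE hz hj), ?_⟩,
        inv_inv j⟩
      have hj0 : j ≠ 0 := hj.1
      calc a + b * j⁻¹ = (j * a + b) * j⁻¹ := by field_simp
        _ = c * (t' * j⁻¹) := by rw [h]; ring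
    · rintro ⟨t, ⟨ht, t', ht', h⟩, rfl⟩
      refine ⟨inv_mem_EE hz ht, t' * t⁻¹, mul_mem_EE hz ht' (inv_mem_EE hz ht), ?_⟩
      have ht0 : t ≠ 0 := ht.1
      calc t⁻¹ * a + b = (a + b * t) * t⁻¹ := by field_simp
        _ = c * (t' * t⁻¹) := by rw [h]; ring
  rw [himg, Set.ncard_image_of_injective _ inv_injective]

/-- **EQUI + COUNT**, instance-free form.  `z` of order `p`, every `⟨z, y⟩` (`y` of order `p`) has
a normal `p'`-subgroup of index `p`; then for `a b c : ZMod p`, `b c ≠ 0`: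
`e · #{y ∈ (z^b)^G | z^a y ∈ sect(z^c)} = |(z^b)^G| · #{j ∈ E | j a + b ∈ cE}`. -/
theorem count_ncard [Finite G] (z : G) (hz : orderOf z = p)
    (hK : ∀ y : G, orderOf y = p → ∃ K : Subgroup G, KForm p z y K) (a b c : ZMod p)
    (hb : b ≠ 0) (hc : c ≠ 0) :
    (EE z : Set (ZMod p)).ncard *
      {y : G | IsConj (zp z b) y ∧
          ∃ x, IsPPart p (zp z a * y) x ∧ IsConj x (zp z c)}.ncard =
    {y : G | IsConj (zp z b) y}.ncard *
      {j : ZMod p | j ∈ EE z ∧ ∃ t ∈ EE z, j * a + b = c * t}.ncard := by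
  classical
  haveI : Fintype G := Fintype.ofFinite G
  have hall : ∀ y : G, orderOf y = p → ∃ j, IsRes p z y j := by
    intro y hy
    obtain ⟨K, hKy⟩ := hK y hy
    exact pack_zmod hz hKy
  have h := count_finset z hz hall a b c hb hc
  rw [← ncard_forms hz a b c]
  have e1 : (EE z : Set (ZMod p)).ncard =
      (Finset.univ.filter (fun t : ZMod p => t ∈ EE z)).card :=
    ncard_setOf_eq_card_filter (fun t : ZMod p => t ∈ EE z)
  rw [e1, ncard_setOf_eq_card_filter, ncard_setOf_eq_card_filter, ncard_setOf_eq_card_filter]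
  convert h using 3 <;>
    (ext y; simp only [Finset.mem_filter, Finset.mem_univ, true_and])

end count

end Cfsg.Agent.Lib.H8.CYE
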