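import Mathlib

/-!
# S1950 piece RANK: rank-one rigidity of a nonnegative combination of rank-one Gram matrices

If `∑ i, w i • v_i v_i^* = κ • h h^*` with all `w i ≥ 0`, then every `v_i` with `w i > 0`
is parallel to `h`: `v_i a * h c = v_i c * h a`.
-/

namespace Cfsg.Agent.Lib.H8.CYR

open scoped ComplexConjugate

/-- Finset form. -/
theorem rank_one {ι α : Type*} (s : Finset ι) (w : ι → ℝ) (hw : ∀ i ∈ s, 0 ≤ w i)
    (v : ι → α → ℂ) (h : α → ℂ) (κ : ℂ)
    (hM : ∀ a c, ∑ i ∈ s, (w i : ℂ) * (v i a * conj (v i c)) = κ * (h a * conj (h c))) :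
    ∀ i ∈ s, 0 < w i → ∀ a c, v i a * h c = v i c * h a := by
  intro i hi hwi a c
  have key : ∑ j ∈ s, (w j : ℂ) *
      ((v j a * h c - v j c * h a) * conj (v j a * h c - v j c * h a)) = 0 := by
    have h1 : ∀ j, (w j : ℂ) *
        ((v j a * h c - v j c * h a) * conj (v j a * h c - v j c * h a))
        = (h c * conj (h c)) * ((w j : ℂ) * (v j a * conj (v j a)))
          + (h a * conj (h a)) * ((w j : ℂ) * (v j c * conj (v j c)))
          - (h c * conj (h a)) * ((w j : ℂ) * (v j a * conj (v j c)))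
          - (h a * conj (h c)) * ((w j : ℂ) * (v j c * conj (v j a))) := by
      intro j; simp only [map_sub, map_mul]; ring
    simp_rw [h1]
    rw [Finset.sum_sub_distrib, Finset.sum_sub_distrib, Finset.sum_add_distrib,
      ← Finset.mul_sum, ← Finset.mul_sum, ← Finset.mul_sum, ← Finset.mul_sum,
      hM a a, hM c c, hM a c, hM c a]
    ring
  have h2 : ∀ j, (w j : ℂ) *
      ((v j a * h c - v j c * h a) * conj (v j a * h c - v j c * h a))
      = ((w j * Complex.normSq (v j a * h c - v j c * h a) : ℝ) : ℂ) := by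
    intro j; rw [Complex.mul_conj]; push_cast; ring
  simp_rw [h2] at key
  rw [← Complex.ofReal_sum, Complex.ofReal_eq_zero] at key
  have h3 := (Finset.sum_eq_zero_iff_of_nonneg
    (fun j hj => mul_nonneg (hw j hj) (Complex.normSq_nonneg _))).1 key i hi
  have h4 : Complex.normSq (v i a * h c - v i c * h a) = 0 := by
    rcases mul_eq_zero.1 h3 with h5 | h5
    · exact absurd h5 hwi.ne'
    · exact h5
  exact sub_eq_zero.1 (Complex.normSq_eq_zero.1 h4)

/-- Fintype form, with the `w i * v i a * conj (v i c)` / `κ * h a * conj (h c)` bracketing. -/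
theorem rank_one_fintype {ι α : Type*} [Fintype ι] (w : ι → ℝ) (hw : ∀ i, 0 ≤ w i)
    (v : ι → α → ℂ) (h : α → ℂ) (κ : ℂ)
    (hM : ∀ a c, ∑ i, (w i : ℂ) * v i a * conj (v i c) = κ * h a * conj (h c)) :
    ∀ i, 0 < w i → ∀ a c, v i a * h c = v i c * h a := by
  intro i hwi a c
  refine rank_one Finset.univ w (fun i _ => hw i) v h κ ?_ i (Finset.mem_univ i) hwi a c
  intro a c
  have := hM a c
  simp only [mul_assoc] at this ⊢
  exact this

/-- `finsum` over a finite set form. -/
theorem rank_one_finsum {ι α : Type*} (S : Set ι) (hS : S.Finite) (w : ι → ℝ)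
    (hw : ∀ i ∈ S, 0 ≤ w i) (v : ι → α → ℂ) (h : α → ℂ) (κ : ℂ)
    (hM : ∀ a c, ∑ᶠ i ∈ S, (w i : ℂ) * (v i a * conj (v i c)) = κ * (h a * conj (h c))) :
    ∀ i ∈ S, 0 < w i → ∀ a c, v i a * h c = v i c * h a := by
  intro i hi hwi a c
  refine rank_one hS.toFinset w (fun i hi => hw i (hS.mem_toFinset.1 hi)) v h κ ?_ i
    (hS.mem_toFinset.2 hi) hwi a c
  intro a c
  rw [← finsum_mem_eq_finite_toFinset_sum _ hS]
  exact hM a c

end Cfsg.Agent.Lib.H8.CYR
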