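import Mathlib
import Cfsg.Prelude.Def_ChevStructure
import Cfsg.Agent.Lib.H29.ChevGen19
import Cfsg.Agent.Lib.H29.ChevGen7

/-!
# Rank certificates for `y - 1`, `y` a product of root elements `x_γ(1)` in characteristic two

For a word `w` of root elements (`wMat D 1 1 w`), lower and upper bounds for the rank of `wMat D 1 1 w - 1` over a field
of characteristic two are certified by lists of sparse vectors with a pivot structure, checked on parity bitmasks.
-/

set_option autoImplicit false
set_option linter.unusedSectionVars false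
set_option linter.unusedSimpArgs false
set_option linter.unusedVariables false

namespace Cfsg.Agent.Lib.H8.ChevRank

open Cfsg.Lie Matrix Cfsg.Agent.Lib.H29.Chev

/-- the parity bitmask of a polynomial vector evaluated at `t = u = 1` -/
def pvMask : PV → ℕ
  | [] => 0
  | e :: v => pvMask v ^^^ ((Int.natAbs e.2.2.2 % 2) <<< e.1)

/-- the bitmask of a list of positions -/
def maskOf : List ℕ → ℕ
  | [] => 0
  | p :: l => maskOf l ||| (1 <<< p)

theorem testBit_maskOf (l : List ℕ) (q : ℕ) (hq : q ∈ l) : (maskOf l).testBit q = true := by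
  induction l with
  | nil => exact absurd hq List.not_mem_nil
  | cons p l ih =>
    unfold maskOf
    rw [Nat.testBit_or]
    rcases List.mem_cons.mp hq with h | h
    · subst h
      rw [Nat.one_shiftLeft, Nat.testBit_two_pow_self, Bool.or_true]
    · rw [ih h, Bool.true_or]

/-- the number of odd entries of a polynomial vector at the position `i` -/
def pvCnt (v : PV) (i : ℕ) : ℕ := (v.map fun e => if e.1 = i then Int.natAbs e.2.2.2 % 2 else 0).sum

theorem pvCnt_nil (i : ℕ) : pvCnt [] i = 0 := rfl

theorem pvCnt_cons (e : ℕ × ℕ × ℕ × ℤ) (v : PV) (i : ℕ) :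
    pvCnt (e :: v) i = (if e.1 = i then Int.natAbs e.2.2.2 % 2 else 0) + pvCnt v i := by
  simp [pvCnt]

theorem testBit_pvMask (v : PV) (i : ℕ) : (pvMask v).testBit i = decide (pvCnt v i % 2 = 1) := by
  induction v with
  | nil => simp [pvMask, pvCnt]
  | cons e v ih =>
    unfold pvMask
    rw [Nat.testBit_xor, ih, pvCnt_cons]
    rcases Nat.mod_two_eq_zero_or_one (Int.natAbs e.2.2.2) with h | h
    · rw [h, Nat.zero_shiftLeft, Nat.zero_testBit, Bool.xor_false]
      simp
    · rw [h, Nat.one_shiftLeft, Nat.testBit_two_pow]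
      by_cases hi : e.1 = i
      · rw [if_pos hi]
        simp only [hi, decide_true]
        rcases Nat.mod_two_eq_zero_or_one (pvCnt v i) with h' | h'
        · have : (1 + pvCnt v i) % 2 = 1 := by omega
          simp [h', this]
        · have : (1 + pvCnt v i) % 2 = 0 := by omega
          simp [h', this]
      · rw [if_neg hi]
        simp [hi]

variable {D : ChevalleyDatum} {fd : FD} {fx : FX} {F : Type*} [Field F]

theorem intCast_char2 [CharP F 2] (c : ℤ) : ((c : ℤ) : F) = ((Int.natAbs c % 2 : ℕ) : F) := by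
  rw [← CharP.cast_eq_mod F 2]
  rcases Int.natAbs_eq c with h | h
  · conv_lhs => rw [h]
    simp
  · conv_lhs => rw [h]
    rw [Int.cast_neg, CharTwo.neg_eq]
    simp

/-- the value at `t = u = 1` of a polynomial vector, in characteristic two -/
theorem pvEv_eq_cnt [CharP F 2] (v : PV) (a : D.Idx) :
    pvEv D (1 : F) 1 v a = ((pvCnt v (code D a) : ℕ) : F) := by
  induction v with
  | nil => simp [pvEv, pvCnt]
  | cons e v ih =>
    rw [pvEv_cons, ih, pvCnt_cons, Nat.cast_add]
    congr 1
    by_cases h : e.1 = code D a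
    · rw [if_pos h, if_pos h, one_pow, one_pow, mul_one, mul_one, intCast_char2]
    · rw [if_neg h, if_neg h, Nat.cast_zero]

theorem pvEv_eq_mask [CharP F 2] (v : PV) (a : D.Idx) :
    pvEv D (1 : F) 1 v a = if (pvMask v).testBit (code D a) then 1 else 0 := by
  rw [pvEv_eq_cnt, testBit_pvMask, CharP.cast_eq_mod F 2]
  rcases Nat.mod_two_eq_zero_or_one (pvCnt v (code D a)) with h | h
  · rw [h]; simp
  · rw [h]; simp

/-- `y - 1` applied to a sparse vector -/
theorem mulVec_pvEv (C : Cert2 D fd fx) [CharP F 2] (w : List (ℕ × ℤ × ℕ × ℕ)) (hw : ∀ x ∈ w, x.1 < fd.n)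
    (v : PV) (hv : pvBdd (fd.l + fd.n) v) :
    (wMat D (1 : F) 1 w - 1).mulVec (pvEv D 1 1 v) = pvEv D 1 1 (fd.pvWord w v ++ v) := by
  rw [Matrix.sub_mulVec, Matrix.one_mulVec, pvEv_append, ← (pvWord_spec C.agrees C.chk.add 1 1 w hw v hv).2]
  funext a
  rw [Pi.sub_apply, Pi.add_apply, CharTwo.sub_eq_add]

section LinAlg

variable {ι κ : Type*} [Fintype ι] [DecidableEq ι] [Fintype κ] [DecidableEq κ]

theorem linIndep_of_pivots (f : ι → κ → F) (p : ι → κ) (h : ∀ i j, f j (p i) = if i = j then 1 else 0) :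
    LinearIndependent F f := by
  rw [Fintype.linearIndependent_iff]
  intro g hg i
  have := congrFun hg (p i)
  rw [Finset.sum_apply] at this
  simp only [Pi.smul_apply, smul_eq_mul, Pi.zero_apply, h] at this
  rw [Finset.sum_eq_single i] at this
  · simpa using this
  · intro j _ hj
    rw [if_neg (Ne.symm hj), mul_zero]
  · intro hi; exact absurd (Finset.mem_univ i) hi

theorem card_le_rank (M : Matrix κ κ F) (f : ι → κ → F) (hf : LinearIndependent F f)
    (hr : ∀ i, ∃ u, M.mulVec u = f i) : Fintype.card ι ≤ M.rank := by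
  have h1 : Submodule.span F (Set.range f) ≤ LinearMap.range M.mulVecLin := by
    rw [Submodule.span_le]
    rintro _ ⟨i, rfl⟩
    obtain ⟨u, hu⟩ := hr i
    exact ⟨u, by rw [Matrix.mulVecLin_apply, hu]⟩
  have h2 := Submodule.finrank_mono h1
  rw [finrank_span_eq_card hf] at h2
  exact h2

theorem rank_add_card_le (M : Matrix κ κ F) (f : ι → κ → F) (hf : LinearIndependent F f)
    (hk : ∀ i, M.mulVec (f i) = 0) : M.rank + Fintype.card ι ≤ Fintype.card κ := by
  have h1 : Submodule.span F (Set.range f) ≤ LinearMap.ker M.mulVecLin := by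
    rw [Submodule.span_le]
    rintro _ ⟨i, rfl⟩
    rw [SetLike.mem_coe, LinearMap.mem_ker, Matrix.mulVecLin_apply, hk i]
  have h2 := Submodule.finrank_mono h1
  rw [finrank_span_eq_card hf] at h2
  have h3 := LinearMap.finrank_range_add_finrank_ker M.mulVecLin
  rw [Module.finrank_fintype_fun_eq_card] at h3
  unfold Matrix.rank
  omega

end LinAlg

/-- extraction of the entries of a check on a zipped list -/
theorem zip_all_get {α β : Type*} (U : List α) (P : List β) (g : α × β → Bool) (hlen : U.length = P.length)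
    (h : (U.zip P).all g = true) (j : ℕ) (hj : j < P.length) :
    g (U[j]'(by rw [hlen]; exact hj), P[j]) = true := by
  rw [List.all_eq_true] at h
  apply h
  have hj' : j < (U.zip P).length := by rw [List.length_zip, hlen, Nat.min_self]; exact hj
  have : (U.zip P)[j] = (U[j]'(by rw [hlen]; exact hj), P[j]) := List.getElem_zip
  rw [← this]
  exact List.getElem_mem hj'

/-- the check of one vector of a lower bound certificate -/
def chkVec (fd : FD) (w : List (ℕ × ℤ × ℕ × ℕ)) (PM : ℕ) (up : PV × ℕ) : Bool :=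
  up.1.all (fun e => Nat.blt e.1 (fd.l + fd.n)) &&
    Nat.beq (pvMask (fd.pvWord w up.1 ++ up.1) &&& PM) (1 <<< up.2)

/-- the check of a lower bound certificate: the images of the vectors of `U` have the pivots `P` -/
def chkLB (fd : FD) (w : List (ℕ × ℤ × ℕ × ℕ)) (U : List PV) (P : List ℕ) : Bool :=
  Nat.beq U.length P.length && P.all (fun p => Nat.blt p (fd.l + fd.n)) && (U.zip P).all (chkVec fd w (maskOf P))

/-- the check of one vector of an upper bound certificate -/
def chkKer (fd : FD) (w : List (ℕ × ℤ × ℕ × ℕ)) (QM : ℕ) (kq : PV × ℕ) : Bool :=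
  kq.1.all (fun e => Nat.blt e.1 (fd.l + fd.n)) &&
    Nat.beq (pvMask (fd.pvWord w kq.1 ++ kq.1)) 0 && Nat.beq (pvMask kq.1 &&& QM) (1 <<< kq.2)

/-- the check of an upper bound certificate: the vectors of `K` are fixed and have the pivots `Q` -/
def chkUB (fd : FD) (w : List (ℕ × ℤ × ℕ × ℕ)) (K : List PV) (Q : List ℕ) : Bool :=
  Nat.beq K.length Q.length && Q.all (fun p => Nat.blt p (fd.l + fd.n)) && (K.zip Q).all (chkKer fd w (maskOf Q))

theorem natBeq_eq {a b : ℕ} (h : Nat.beq a b = true) : a = b := Nat.eq_of_beq_eq_true h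

theorem natBlt_lt {a b : ℕ} (h : Nat.blt a b = true) : a < b := by
  simpa [Nat.blt] using h

theorem pvBdd_of_all (N : ℕ) (v : PV) (h : v.all (fun e => Nat.blt e.1 N) = true) : pvBdd N v := by
  intro e he
  rw [List.all_eq_true] at h
  exact natBlt_lt (h e he)

/-- pivots from a mask identity -/
theorem testBit_of_mask (m : ℕ) (P : List ℕ) (p q : ℕ) (hq : q ∈ P) (h : m &&& maskOf P = 1 <<< p) :
    m.testBit q = decide (p = q) := by
  have := congrArg (fun x => Nat.testBit x q) h
  simp only [Nat.testBit_and, testBit_maskOf P q hq, Bool.and_true, Nat.one_shiftLeft, Nat.testBit_two_pow] at this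
  exact this

variable (C : Cert2 D fd fx)
include C

theorem card_idx : Fintype.card D.Idx = fd.l + fd.n := by
  rw [Fintype.card_sum, Fintype.card_fin, Fintype.card_fin, C.rank_eq, C.nroots_eq]

/-- the index with a given code -/
noncomputable def idxOf (k : ℕ) (hk : k < fd.l + fd.n) : D.Idx :=
  Classical.choose (code_surj D k (by rw [C.rank_eq, C.nroots_eq]; exact hk))

theorem code_idxOf (k : ℕ) (hk : k < fd.l + fd.n) : code D (idxOf C k hk) = k :=
  Classical.choose_spec (code_surj D k (by rw [C.rank_eq, C.nroots_eq]; exact hk))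

/-- **lower bound**: a certificate with `P.length` pivots shows `P.length ≤ rank (y - 1)` -/
theorem rank_lb [CharP F 2] (w : List (ℕ × ℤ × ℕ × ℕ)) (hw : ∀ x ∈ w, x.1 < fd.n) (U : List PV) (P : List ℕ)
    (hP : P.Nodup) (h : chkLB fd w U P = true) : P.length ≤ (wMat D (1 : F) 1 w - 1).rank := by
  unfold chkLB at h
  rw [Bool.and_eq_true, Bool.and_eq_true] at h
  obtain ⟨⟨h1, h2⟩, h3⟩ := h
  have hlen : U.length = P.length := natBeq_eq h1
  have hPb : ∀ p ∈ P, p < fd.l + fd.n := by
    intro p hp
    rw [List.all_eq_true] at h2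
    exact natBlt_lt (h2 p hp)
  have hget := zip_all_get U P _ hlen h3
  -- the family of images
  let U' : Fin P.length → PV := fun j => U[j.val]'(by rw [hlen]; exact j.isLt)
  let f : Fin P.length → D.Idx → F := fun j => pvEv D 1 1 (fd.pvWord w (U' j) ++ U' j)
  let p : Fin P.length → D.Idx := fun i => idxOf C P[i.val] (hPb _ (List.getElem_mem i.isLt))
  have hspec : ∀ j : Fin P.length, pvBdd (fd.l + fd.n) (U' j) ∧
      pvMask (fd.pvWord w (U' j) ++ U' j) &&& maskOf P = 1 <<< P[j.val] := by
    intro j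
    have := hget j.val j.isLt
    unfold chkVec at this
    rw [Bool.and_eq_true] at this
    exact ⟨pvBdd_of_all _ _ this.1, natBeq_eq this.2⟩
  have hpiv : ∀ i j, f j (p i) = if i = j then 1 else 0 := by
    intro i j
    show pvEv D 1 1 (fd.pvWord w (U' j) ++ U' j) (p i) = _
    rw [pvEv_eq_mask, code_idxOf C,
      testBit_of_mask _ P P[j.val] P[i.val] (List.getElem_mem i.isLt) (hspec j).2]
    by_cases hij : i = j
    · subst hij; simp
    · have : P[j.val] ≠ P[i.val] := by
        intro he
        apply hij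
        exact Fin.ext ((hP.getElem_inj_iff).mp he).symm
      simp [hij, this]
  have hli := linIndep_of_pivots f p hpiv
  have := card_le_rank (wMat D (1 : F) 1 w - 1) f hli (fun j =>
    ⟨pvEv D 1 1 (U' j), mulVec_pvEv C w hw (U' j) (hspec j).1⟩)
  rwa [Fintype.card_fin] at this

/-- **upper bound**: a certificate with `Q.length` independent fixed vectors shows
`rank (y - 1) + Q.length ≤ l + n` -/
theorem rank_ub [CharP F 2] (w : List (ℕ × ℤ × ℕ × ℕ)) (hw : ∀ x ∈ w, x.1 < fd.n) (K : List PV) (Q : List ℕ)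
    (hQ : Q.Nodup) (h : chkUB fd w K Q = true) : (wMat D (1 : F) 1 w - 1).rank + Q.length ≤ fd.l + fd.n := by
  unfold chkUB at h
  rw [Bool.and_eq_true, Bool.and_eq_true] at h
  obtain ⟨⟨h1, h2⟩, h3⟩ := h
  have hlen : K.length = Q.length := natBeq_eq h1
  have hQb : ∀ p ∈ Q, p < fd.l + fd.n := by
    intro p hp
    rw [List.all_eq_true] at h2
    exact natBlt_lt (h2 p hp)
  have hget := zip_all_get K Q _ hlen h3
  let K' : Fin Q.length → PV := fun j => K[j.val]'(by rw [hlen]; exact j.isLt)
  let f : Fin Q.length → D.Idx → F := fun j => pvEv D 1 1 (K' j)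
  let p : Fin Q.length → D.Idx := fun i => idxOf C Q[i.val] (hQb _ (List.getElem_mem i.isLt))
  have hspec : ∀ j : Fin Q.length, pvBdd (fd.l + fd.n) (K' j) ∧
      pvMask (fd.pvWord w (K' j) ++ K' j) = 0 ∧ pvMask (K' j) &&& maskOf Q = 1 <<< Q[j.val] := by
    intro j
    have := hget j.val j.isLt
    unfold chkKer at this
    rw [Bool.and_eq_true, Bool.and_eq_true] at this
    exact ⟨pvBdd_of_all _ _ this.1.1, natBeq_eq this.1.2, natBeq_eq this.2⟩
  have hpiv : ∀ i j, f j (p i) = if i = j then 1 else 0 := by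
    intro i j
    show pvEv D 1 1 (K' j) (p i) = _
    rw [pvEv_eq_mask, code_idxOf C,
      testBit_of_mask _ Q Q[j.val] Q[i.val] (List.getElem_mem i.isLt) (hspec j).2.2]
    by_cases hij : i = j
    · subst hij; simp
    · have : Q[j.val] ≠ Q[i.val] := by
        intro he
        apply hij
        exact Fin.ext ((hQ.getElem_inj_iff).mp he).symm
      simp [hij, this]
  have hli := linIndep_of_pivots f p hpiv
  have hker : ∀ j, (wMat D (1 : F) 1 w - 1).mulVec (f j) = 0 := by
    intro j
    show (wMat D (1 : F) 1 w - 1).mulVec (pvEv D 1 1 (K' j)) = 0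
    rw [mulVec_pvEv C w hw (K' j) (hspec j).1]
    funext a
    rw [pvEv_eq_mask, (hspec j).2.1, Nat.zero_testBit]
    rfl
  have := rank_add_card_le (wMat D (1 : F) 1 w - 1) f hli hker
  rwa [Fintype.card_fin, card_idx C] at this

/-- the check that the word `w` squares to the identity modulo two -/
def chkSq (fd : FD) (w : List (ℕ × ℤ × ℕ × ℕ)) : Bool :=
  (List.range (fd.l + fd.n)).all fun c => Nat.beq (pvMask (fd.pvWord (w ++ w) [(c, 0, 0, 1)])) (1 <<< c)

omit C in
theorem wMat_append (t u : F) (w w' : List (ℕ × ℤ × ℕ × ℕ)) :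
    wMat D t u (w ++ w') = wMat D t u w * wMat D t u w' := by
  unfold wMat; rw [List.map_append, List.prod_append]

omit C in
theorem pvMask_single (c : ℕ) : pvMask [(c, 0, 0, 1)] = 1 <<< c := by
  simp [pvMask]

/-- the word squares to the identity -/
theorem wMat_sq [CharP F 2] (w : List (ℕ × ℤ × ℕ × ℕ)) (hw : ∀ x ∈ w, x.1 < fd.n) (h : chkSq fd w = true) :
    wMat D (1 : F) 1 w * wMat D 1 1 w = 1 := by
  rw [← wMat_append]
  apply mat_eq_of_cols C.agrees _ _ 1 1
  intro c hc
  have hww : ∀ x ∈ w ++ w, x.1 < fd.n := by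
    intro x hx
    rcases List.mem_append.mp hx with h' | h' <;> exact hw x h'
  have hb : pvBdd (fd.l + fd.n) [(c, 0, 0, 1)] := by
    intro e he
    rw [List.mem_singleton] at he
    rw [he]; exact hc
  rw [Matrix.one_mulVec, ← (pvWord_spec C.agrees C.chk.add 1 1 (w ++ w) hww [(c, 0, 0, 1)] hb).2]
  unfold chkSq at h
  rw [List.all_eq_true] at h
  have := natBeq_eq (h c (List.mem_range.mpr hc))
  funext a
  rw [pvEv_eq_mask, pvEv_eq_mask, this, pvMask_single]

/-- the matrix of a word of root elements `x_r(1)` -/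
theorem wMat_ones (rs : List ℕ) (hrs : ∀ r ∈ rs, r < fd.n) :
    wMat D (1 : F) 1 (rs.map fun r => (r, (1 : ℤ), 0, 0)) = (rs.map fun r => D.x F r 1).prod := by
  induction rs with
  | nil => simp [wMat]
  | cons r rs ih =>
    have ih' := ih (fun r' hr' => hrs r' (List.mem_cons_of_mem _ hr'))
    unfold wMat at ih' ⊢
    rw [List.map_cons, List.map_cons, List.prod_cons, List.map_cons, List.prod_cons, ih',
      x_eq_XR C.agrees r (hrs r List.mem_cons_self)]
    simp

end Cfsg.Agent.Lib.H8.ChevRank
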