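import Mathlib
import Cfsg.Prelude.Def_KGroupFacts

set_option autoImplicit false

/-! Generic reduction for Schur multipliers of central quotients (prepared for S2043, `Co₁ = Co₀ / Z`):
if `G` is a finite perfect group all of whose finite stem extensions are isomorphisms (trivial multiplier) and
`Z ≤ Z(G)`, then every finite stem extension of `G ⧸ Z` has kernel of order at most `|Z|`. -/

universe u

namespace Cfsg.Agent.Lib.H8.StemQuot

open Cfsg
open scoped commutatorElement

/-- image of the commutator subgroup under a surjection -/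
theorem map_commutator_of_surjective {A B : Type*} [Group A] [Group B] (f : A →* B)
    (hf : Function.Surjective f) : (commutator A).map f = commutator B := by
  rw [map_commutator_eq, MonoidHom.range_eq_top.mpr hf, commutator_def]

/-- a perfect-by-central group has perfect commutator subgroup -/
theorem commutator_commutator_eq_top {Δ G : Type*} [Group Δ] [Group G] (f : Δ →* G)
    (hf : Function.Surjective f) (hker : f.ker ≤ Subgroup.center Δ) (hperf : commutator G = ⊤) :
    commutator (commutator Δ) = ⊤ := by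
  have hmap := map_commutator_of_surjective f hf
  rw [hperf] at hmap
  -- every element of `Δ` is (element of `Δ'`) * central
  have hdec : ∀ a : Δ, ∃ d ∈ commutator Δ, d⁻¹ * a ∈ Subgroup.center Δ := by
    intro a
    have ha : f a ∈ (commutator Δ).map f := by
      rw [hmap]
      exact Subgroup.mem_top _
    obtain ⟨d, hd, hda⟩ := ha
    refine ⟨d, hd, hker ?_⟩
    rw [MonoidHom.mem_ker, map_mul, map_inv, hda, inv_mul_cancel]
  have hle : commutator Δ ≤ (commutator (commutator Δ)).map (commutator Δ).subtype := by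
    refine le_trans (le_of_eq (commutator_eq_closure Δ)) ((Subgroup.closure_le _).2 ?_)
    rintro _ ⟨a, b, rfl⟩
    obtain ⟨d₁, hd₁, hc₁⟩ := hdec a
    obtain ⟨d₂, hd₂, hc₂⟩ := hdec b
    have hcomm : ⁅a, b⁆ = ⁅d₁, d₂⁆ := by
      set c₁ := d₁⁻¹ * a with hc₁'
      set c₂ := d₂⁻¹ * b with hc₂'
      have ha : a = d₁ * c₁ := by rw [hc₁']; group
      have hb : b = d₂ * c₂ := by rw [hc₂']; group
      have h1 : ∀ g : Δ, g * c₁ = c₁ * g := fun g => Subgroup.mem_center_iff.mp hc₁ g
      have h2 : ∀ g : Δ, g * c₂ = c₂ * g := fun g => Subgroup.mem_center_iff.mp hc₂ g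
      rw [ha, hb, commutatorElement_def, commutatorElement_def]
      have e1 : (d₁ * c₁)⁻¹ = c₁⁻¹ * d₁⁻¹ := by group
      have e2 : (d₂ * c₂)⁻¹ = c₂⁻¹ * d₂⁻¹ := by group
      rw [e1, e2]
      calc d₁ * c₁ * (d₂ * c₂) * (c₁⁻¹ * d₁⁻¹) * (c₂⁻¹ * d₂⁻¹)
          = d₁ * (c₁ * (d₂ * c₂) * c₁⁻¹) * d₁⁻¹ * (c₂⁻¹ * d₂⁻¹) := by group
        _ = d₁ * (d₂ * c₂) * d₁⁻¹ * (c₂⁻¹ * d₂⁻¹) := by
            rw [← h1 (d₂ * c₂), mul_inv_cancel_right]
        _ = d₁ * d₂ * (c₂ * d₁⁻¹ * c₂⁻¹) * d₂⁻¹ := by group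
        _ = d₁ * d₂ * d₁⁻¹ * d₂⁻¹ := by
            rw [← h2 d₁⁻¹, mul_inv_cancel_right]
    rw [SetLike.mem_coe, hcomm]
    refine ⟨⁅(⟨d₁, hd₁⟩ : commutator Δ), ⟨d₂, hd₂⟩⁆, ?_, ?_⟩
    · exact Subgroup.commutator_mem_commutator (Subgroup.mem_top _) (Subgroup.mem_top _)
    · rw [map_commutatorElement]
      rfl
  rw [eq_top_iff]
  intro d _
  obtain ⟨d', hd', hdd⟩ := hle d.2
  have : d' = d := Subtype.ext hdd
  rw [← this]
  exact hd'

/-- a surjection with central kernel onto a perfect group restricts to a stem extension of the commutator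
subgroup -/
theorem isStem_commutator_restrict {Δ G : Type*} [Group Δ] [Group G] (f : Δ →* G)
    (hf : Function.Surjective f) (hker : f.ker ≤ Subgroup.center Δ) (hperf : commutator G = ⊤) :
    IsStemExtension (f.comp (commutator Δ).subtype) := by
  have hmap := map_commutator_of_surjective f hf
  rw [hperf] at hmap
  refine ⟨?_, ?_, ?_⟩
  · intro x
    have hx : x ∈ (commutator Δ).map f := by
      rw [hmap]
      exact Subgroup.mem_top _
    obtain ⟨d, hd, hdx⟩ := hx
    exact ⟨⟨d, hd⟩, hdx⟩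
  · intro d hd
    rw [Subgroup.mem_center_iff]
    intro g
    have h1 : (d : Δ) ∈ Subgroup.center Δ := hker (by
      rw [MonoidHom.mem_ker] at hd ⊢
      exact hd)
    apply Subtype.ext
    exact Subgroup.mem_center_iff.mp h1 g.1
  · rw [commutator_commutator_eq_top f hf hker hperf]
    exact le_top

/-- **Multipliers of central quotients of a group with trivial multiplier.** -/
theorem card_ker_le_of_trivial {G : Type u} [Group G] [Finite G] (hperf : commutator G = ⊤)
    (Z : Subgroup G) [Z.Normal]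
    (htriv : ∀ (Δ : Type u) [Group Δ] [Finite Δ] (τ : Δ →* G), IsStemExtension τ →
      Function.Injective τ)
    (Γ : Type u) [Group Γ] [Finite Γ] (σ : Γ →* G ⧸ Z) (hσ : IsStemExtension σ) :
    Nat.card σ.ker ≤ Nat.card Z := by
  obtain ⟨hsurj, hcen, hder⟩ := hσ
  -- the fibre product
  let Δ : Subgroup (Γ × G) :=
    (σ.comp (MonoidHom.fst Γ G)).eqLocus ((QuotientGroup.mk' Z).comp (MonoidHom.snd Γ G))
  have hmem : ∀ y : Γ × G, y ∈ Δ ↔ σ y.1 = QuotientGroup.mk' Z y.2 := fun y => Iff.rfl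
  let p₂ : Δ →* G := (MonoidHom.snd Γ G).comp Δ.subtype
  let p₁ : Δ →* Γ := (MonoidHom.fst Γ G).comp Δ.subtype
  have hp₂ : Function.Surjective p₂ := by
    intro x
    obtain ⟨γ, hγ⟩ := hsurj (QuotientGroup.mk' Z x)
    exact ⟨⟨(γ, x), (hmem _).2 hγ⟩, rfl⟩
  have hp₁ : Function.Surjective p₁ := by
    intro γ
    obtain ⟨x, hx⟩ := QuotientGroup.mk'_surjective Z (σ γ)
    exact ⟨⟨(γ, x), (hmem _).2 hx.symm⟩, rfl⟩
  have hker₂ : p₂.ker ≤ Subgroup.center Δ := by
    intro d hd
    rw [Subgroup.mem_center_iff]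
    intro g
    have h2 : (d : Γ × G).2 = 1 := hd
    have h1 : (d : Γ × G).1 ∈ σ.ker := by
      rw [MonoidHom.mem_ker, (hmem _).1 d.2, h2, map_one]
    have h1c := Subgroup.mem_center_iff.mp (hcen h1)
    apply Subtype.ext
    apply Prod.ext
    · exact h1c g.1.1
    · change g.1.2 * (d : Γ × G).2 = (d : Γ × G).2 * g.1.2
      rw [h2, mul_one, one_mul]
  -- the stem extension `Δ' → G` is injective
  have hstem := isStem_commutator_restrict p₂ hp₂ hker₂ hperf
  have hinj := htriv (commutator Δ) (p₂.comp (commutator Δ).subtype) hstem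
  have hbij : Function.Bijective (p₂.comp (commutator Δ).subtype) := ⟨hinj, hstem.1⟩
  have hcardD : Nat.card (commutator Δ) = Nat.card G := Nat.card_congr (Equiv.ofBijective _ hbij)
  -- `Γ` is perfect
  have hΓ : commutator Γ = ⊤ := by
    have hquot : commutator (G ⧸ Z) = ⊤ := by
      rw [← map_commutator_of_surjective (QuotientGroup.mk' Z) (QuotientGroup.mk'_surjective Z), hperf]
      exact Subgroup.map_top_of_surjective _ (QuotientGroup.mk'_surjective Z)
    have hmapΓ := map_commutator_of_surjective σ hsurj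
    rw [hquot] at hmapΓ
    rw [eq_top_iff]
    intro γ _
    have hγ : σ γ ∈ (commutator Γ).map σ := by
      rw [hmapΓ]
      exact Subgroup.mem_top _
    obtain ⟨c, hc, hcγ⟩ := hγ
    have hk : c⁻¹ * γ ∈ σ.ker := by
      rw [MonoidHom.mem_ker, map_mul, map_inv, hcγ, inv_mul_cancel]
    have : γ = c * (c⁻¹ * γ) := by group
    rw [this]
    exact Subgroup.mul_mem _ hc (hder hk)
  -- `Δ'` maps onto `Γ`
  have hontoΓ : Function.Surjective (p₁.comp (commutator Δ).subtype) := by
    intro γ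
    have hγ : γ ∈ (commutator Δ).map p₁ := by
      rw [map_commutator_of_surjective p₁ hp₁, hΓ]
      exact Subgroup.mem_top _
    obtain ⟨d, hd, hdγ⟩ := hγ
    exact ⟨⟨d, hd⟩, hdγ⟩
  have hle : Nat.card Γ ≤ Nat.card G := by
    rw [← hcardD]
    exact Nat.card_le_card_of_surjective _ hontoΓ
  -- counting
  have h1 : Nat.card Γ = Nat.card σ.ker * Nat.card (G ⧸ Z) := by
    have e := QuotientGroup.quotientKerEquivOfSurjective σ hsurj
    rw [← Nat.card_congr e.toEquiv, mul_comm]
    exact Subgroup.card_eq_card_quotient_mul_card_subgroup σ.ker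
  have h2 : Nat.card G = Nat.card (G ⧸ Z) * Nat.card Z :=
    Subgroup.card_eq_card_quotient_mul_card_subgroup Z
  have hpos : 0 < Nat.card (G ⧸ Z) := Nat.card_pos
  rw [h1, h2, mul_comm] at hle
  exact Nat.le_of_mul_le_mul_left hle hpos

end Cfsg.Agent.Lib.H8.StemQuot
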