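import Cfsg.Agent.Lib.H8.Co1Lower
import Cfsg.Agent.Lib.H8.StemQuot

set_option autoImplicit false

/-! S2043 `M(Co₁) = 2` reduced to `M(Co₀) = 1`: it suffices that every finite stem extension of `Co₀` is injective. -/

namespace Cfsg.Agent.Lib.H8.Co1M

open Cfsg Cfsg.Spor Cfsg.Agent.Lib.H27

/-- **S2043 from `M(Co₀) = 1`.** -/
theorem hasCyclic_of_Co0_trivial
    (h : ∀ (Δ : Type) [Group Δ] [Finite Δ] (τ : Δ →* Co0), IsStemExtension τ → Function.Injective τ) :
    HasCyclicSchurMultiplier Cfsg.Spor.Co1 2 := by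
  haveI : Finite Co0 := Nat.finite_of_card_ne_zero (by rw [card_Co0]; norm_num)
  refine hasCyclic_of_upper (fun Γ _ _ σ hσ => ?_)
  have := StemQuot.card_ker_le_of_trivial commutator_Co0 (Subgroup.center Co0) h Γ σ hσ
  rwa [card_center_Co0] at this

end Cfsg.Agent.Lib.H8.Co1M
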