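import Mathlib
import Cfsg.Prelude.Def_Spor_Conway
import Cfsg.Prelude.Def_KGroupFacts
import Cfsg.Agent.Lib.H27.Co1Simple
import Cfsg.Agent.Lib.H27.Co0Center

set_option autoImplicit false

/-! Lower bound for the Schur multiplier of `Co₁` (prepared for S2043): `Co₀ → Co₁ = Co₀ / Z(Co₀)` is a finite stem
extension with kernel of order `2` (from helper27's `normal_cases`, `isCo1_quot`, `card_center_Co0`). -/

namespace Cfsg.Agent.Lib.H8.Co1M

open Cfsg Cfsg.Spor Cfsg.Agent.Lib.H27 Cfsg.Agent.Lib.H27.Co1Data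

/-- `Co₀` is perfect. -/
theorem commutator_Co0 : commutator Co0 = ⊤ := by
  haveI : (commutator Co0).Normal := inferInstance
  rcases normal_cases (commutator Co0) with h | h
  · exfalso
    -- then `Co₁` is commutative and simple, hence of prime order
    have hcomm : ∀ a b : Co0 ⧸ Subgroup.center Co0, a * b = b * a := by
      intro a b
      obtain ⟨x, rfl⟩ := QuotientGroup.mk'_surjective _ a
      obtain ⟨y, rfl⟩ := QuotientGroup.mk'_surjective _ b
      have hxy : x * y * x⁻¹ * y⁻¹ ∈ commutator Co0 := by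
        rw [commutator_def]
        exact Subgroup.commutator_mem_commutator (Subgroup.mem_top x) (Subgroup.mem_top y)
      have h1 := h hxy
      have h2 : QuotientGroup.mk' (Subgroup.center Co0) (x * y * x⁻¹ * y⁻¹) = 1 :=
        (QuotientGroup.eq_one_iff _).2 h1
      rw [map_mul, map_mul, map_mul, map_inv, map_inv] at h2
      calc QuotientGroup.mk' (Subgroup.center Co0) x * QuotientGroup.mk' (Subgroup.center Co0) y
          = (QuotientGroup.mk' (Subgroup.center Co0) x * QuotientGroup.mk' (Subgroup.center Co0) y *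
              (QuotientGroup.mk' (Subgroup.center Co0) x)⁻¹ *
              (QuotientGroup.mk' (Subgroup.center Co0) y)⁻¹) *
              (QuotientGroup.mk' (Subgroup.center Co0) y * QuotientGroup.mk' (Subgroup.center Co0) x) := by
            group
        _ = QuotientGroup.mk' (Subgroup.center Co0) y * QuotientGroup.mk' (Subgroup.center Co0) x := by
            rw [h2, one_mul]
    obtain ⟨hsimple, hcard⟩ := isCo1_quot
    letI : CommGroup (Co0 ⧸ Subgroup.center Co0) :=
      { (inferInstance : Group (Co0 ⧸ Subgroup.center Co0)) with mul_comm := hcomm }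
    have hp : (Nat.card (Co0 ⧸ Subgroup.center Co0)).Prime := IsSimpleGroup.prime_card
    rw [hcard] at hp
    norm_num at hp
  · exact h

/-- `Co₀ → Co₁` is a stem extension. -/
theorem isStem_mk : IsStemExtension (QuotientGroup.mk' (Subgroup.center Co0)) := by
  refine ⟨QuotientGroup.mk'_surjective _, ?_, ?_⟩
  · rw [QuotientGroup.ker_mk']
  · rw [commutator_Co0]
    exact le_top

/-- **Lower bound for `M(Co₁)`**: a finite stem extension of `Co₁` with kernel cyclic of order `2`. -/
theorem exists_stem2 : ∃ (Γ : Type) (_ : Group Γ) (_ : Finite Γ) (σ : Γ →* Cfsg.Spor.Co1),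
    IsStemExtension σ ∧ Nonempty (σ.ker ≃* Multiplicative (ZMod 2)) := by
  haveI : Finite Co0 := Nat.finite_of_card_ne_zero (by rw [card_Co0]; norm_num)
  refine ⟨Co0, inferInstance, inferInstance, QuotientGroup.mk' (Subgroup.center Co0), isStem_mk, ?_⟩
  haveI : Fact (Nat.Prime 2) := ⟨Nat.prime_two⟩
  have h1 : Nat.card (QuotientGroup.mk' (Subgroup.center Co0)).ker = 2 := by
    rw [QuotientGroup.ker_mk']
    exact card_center_Co0
  have h2 : Nat.card (Multiplicative (ZMod 2)) = 2 := by
    rw [Nat.card_eq_fintype_card]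
    rfl
  exact ⟨mulEquivOfPrimeCardEq h1 h2⟩

/-- a group of order at most `2` is a homomorphic image of `ZMod 2` -/
theorem exists_surj_of_card_le_two {K : Type*} [Group K] [Finite K] (h : Nat.card K ≤ 2) :
    ∃ π : Multiplicative (ZMod 2) →* K, Function.Surjective π := by
  haveI : Fact (Nat.Prime 2) := ⟨Nat.prime_two⟩
  have hpos : 0 < Nat.card K := Nat.card_pos
  have h2 : Nat.card (Multiplicative (ZMod 2)) = 2 := by
    rw [Nat.card_eq_fintype_card]
    rfl
  rcases (by omega : Nat.card K = 1 ∨ Nat.card K = 2) with h1 | h1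
  · haveI : Subsingleton K := (Nat.card_eq_one_iff_unique.mp h1).1
    exact ⟨1, fun k => ⟨1, Subsingleton.elim _ _⟩⟩
  · exact ⟨(mulEquivOfPrimeCardEq h2 h1).toMonoidHom, (mulEquivOfPrimeCardEq h2 h1).surjective⟩

/-- **S2043 from the upper bound**: `M(Co₁) = 2` follows once every finite stem extension of `Co₁` has kernel of
order at most `2`. -/
theorem hasCyclic_of_upper
    (h : ∀ (Γ : Type) [Group Γ] [Finite Γ] (σ : Γ →* Cfsg.Spor.Co1), IsStemExtension σ →
      Nat.card σ.ker ≤ 2) : HasCyclicSchurMultiplier Cfsg.Spor.Co1 2 :=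
  ⟨exists_stem2, fun Γ _ _ σ hσ => exists_surj_of_card_le_two (h Γ σ hσ)⟩

end Cfsg.Agent.Lib.H8.Co1M

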