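import Mathlib
import Cfsg.Prelude.Def_KGroupFacts
import Cfsg.Agent.Lib.H8.StemQuot

set_option autoImplicit false

/-! Generic Lean-side pieces for "trivial multiplier by a certificate over a subgroup `H` with trivial multiplier"
(prepared for S2043 `Co₀` over `Co₂`; usable for any such chain):
* `exists_section`: a perfect subgroup `H ≤ G` all of whose finite stem extensions are injective lifts to every
  finite stem extension `τ : Δ → G` (a homomorphic section `s : H →* Δ`);
* `conj_exact`: conjugation relators are exact on the derived subgroup of `H ⊓ gHg⁻¹`;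
* `injective_of_index_le`: the final counting. -/

universe u

namespace Cfsg.Agent.Lib.H8.StemSection

open Cfsg
open scoped commutatorElement

/-- trivial multiplier in the injective form, from the `HasCyclicSchurMultiplier _ 1` form -/
theorem injective_of_hasCyclic_one {H : Type u} [Group H] (h : HasCyclicSchurMultiplier H 1)
    (Δ : Type u) [Group Δ] [Finite Δ] (τ : Δ →* H) (hτ : IsStemExtension τ) : Function.Injective τ := by
  obtain ⟨π, hπ⟩ := h.2 Δ τ hτ
  rw [← MonoidHom.ker_eq_bot_iff, eq_bot_iff]
  intro x hx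
  obtain ⟨a, ha⟩ := hπ ⟨x, hx⟩
  have h1 : a = 1 := Subsingleton.elim _ _
  rw [h1, map_one] at ha
  rw [Subgroup.mem_bot]
  exact (congrArg Subtype.val ha).symm

/-- **SECTION**: a perfect subgroup with trivial multiplier lifts to every stem extension (indeed to every
surjection with central kernel). -/
theorem exists_section {Δ G : Type u} [Group Δ] [Finite Δ] [Group G] (τ : Δ →* G)
    (hsurj : Function.Surjective τ) (hcen : τ.ker ≤ Subgroup.center Δ)
    (H : Subgroup G) (hperf : commutator H = ⊤)
    (htriv : ∀ (L : Type u) [Group L] [Finite L] (σ : L →* H), IsStemExtension σ → Function.Injective σ) :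
    ∃ s : H →* Δ, ∀ h : H, τ (s h) = h := by
  -- the preimage of `H`
  let f : H.comap τ →* H := τ.subgroupComap H
  have hf : Function.Surjective f := MonoidHom.subgroupComap_surjective_of_surjective τ H hsurj
  have hker : f.ker ≤ Subgroup.center (H.comap τ) := by
    intro d hd
    rw [Subgroup.mem_center_iff]
    intro g
    have h1 : (d : Δ) ∈ τ.ker := by
      rw [MonoidHom.mem_ker] at hd ⊢
      exact congrArg Subtype.val hd
    apply Subtype.ext
    exact Subgroup.mem_center_iff.mp (hcen h1) g.1
  have hstem := StemQuot.isStem_commutator_restrict f hf hker hperf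
  have hinj := htriv (commutator (H.comap τ)) (f.comp (commutator (H.comap τ)).subtype) hstem
  let e : commutator (H.comap τ) ≃* H := MulEquiv.ofBijective _ ⟨hinj, hstem.1⟩
  refine ⟨((H.comap τ).subtype.comp (commutator (H.comap τ)).subtype).comp e.symm.toMonoidHom, ?_⟩
  intro h
  have h1 : e (e.symm h) = h := e.apply_symm_apply h
  have h2 : ((e (e.symm h) : H) : G) = τ (((e.symm h : commutator (H.comap τ)) : H.comap τ) : Δ) := rfl
  change τ (((e.symm h : commutator (H.comap τ)) : H.comap τ) : Δ) = h
  rw [← h2, h1]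

/-- **EXACTNESS of conjugation relators**: let `s` be a section over `H` of a map `τ` with central kernel and `g^ : Δ`.
If `u` lies in the derived subgroup of `A ≤ H` and `u' : A → H` is a homomorphism with
`τ g^⁻¹ * a * τ g^ = u' a` for all `a ∈ A`, then `g^⁻¹ * s u * g^ = s (u' u)` exactly. -/
theorem conj_exact {Δ G : Type*} [Group Δ] [Group G] (τ : Δ →* G) (hcen : τ.ker ≤ Subgroup.center Δ)
    (H : Subgroup G) (s : H →* Δ) (hs : ∀ h : H, τ (s h) = h) (ghat : Δ)
    (A : Subgroup H) (θ : A →* H) (hθ : ∀ a : A, (τ ghat)⁻¹ * ((a : H) : G) * τ ghat = (θ a : G))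
    (u : A) (hu : u ∈ commutator A) : ghat⁻¹ * s (u : H) * ghat = s (θ u) := by
  -- the defect is a homomorphism into the (central) kernel
  have hdef : ∀ a : A, ghat⁻¹ * s (a : H) * ghat * (s (θ a))⁻¹ ∈ τ.ker := by
    intro a
    rw [MonoidHom.mem_ker, map_mul, map_mul, map_mul, map_inv, map_inv, hs, hs, hθ a, mul_inv_cancel]
  let c : A →* Δ :=
    { toFun := fun a => ghat⁻¹ * s (a : H) * ghat * (s (θ a))⁻¹
      map_one' := by simp
      map_mul' := by
        intro a b
        have hb := Subgroup.mem_center_iff.mp (hcen (hdef b))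
        have e1 : ((a * b : A) : H) = (a : H) * (b : H) := rfl
        rw [e1, map_mul, map_mul, map_mul, mul_inv_rev]
        calc ghat⁻¹ * (s ↑a * s ↑b) * ghat * ((s (θ b))⁻¹ * (s (θ a))⁻¹)
            = ghat⁻¹ * s ↑a * ghat * (ghat⁻¹ * s ↑b * ghat * (s (θ b))⁻¹) * (s (θ a))⁻¹ := by group
          _ = ghat⁻¹ * s ↑a * ghat * (s (θ a))⁻¹ * (ghat⁻¹ * s ↑b * ghat * (s (θ b))⁻¹) := by
              rw [mul_assoc (ghat⁻¹ * s ↑a * ghat), ← hb, ← mul_assoc] }
  have hcomm : ∀ a b : A, c a * c b = c b * c a := by
    intro a b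
    exact (Subgroup.mem_center_iff.mp (hcen (hdef a)) (c b)).symm
  have hc1 : c u = 1 := by
    have hle : commutator A ≤ c.ker := by
      rw [commutator_eq_closure, Subgroup.closure_le]
      rintro _ ⟨a, b, rfl⟩
      rw [SetLike.mem_coe, MonoidHom.mem_ker, map_commutatorElement, commutatorElement_def,
        hcomm a b, mul_inv_cancel_right, mul_inv_cancel]
    exact hle hu
  have : ghat⁻¹ * s (u : H) * ghat * (s (θ u))⁻¹ = 1 := hc1
  exact mul_inv_eq_one.mp this

/-- **COUNTING**: if `τ` is injective on a subgroup `S` whose index is at most `|G| / |τ S|`, then `τ` is injective. -/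
theorem injective_of_index_le {Δ G : Type*} [Group Δ] [Group G] [Finite G] (τ : Δ →* G)
    (hsurj : Function.Surjective τ) (S : Subgroup Δ) (hinj : ∀ x ∈ S, τ x = 1 → x = 1)
    [Finite (Δ ⧸ S)] (n : ℕ) (hidx : Nat.card (Δ ⧸ S) ≤ n)
    (hcard : n * Nat.card (S.map τ) ≤ Nat.card G) : Function.Injective τ := by
  -- `S ≃ τ S` is finite
  let φ : S → S.map τ := fun x => ⟨τ x.1, Subgroup.mem_map_of_mem τ x.2⟩
  have hφinj : Function.Injective φ := by
    intro x y hxy
    have h1 : τ x.1 = τ y.1 := congrArg Subtype.val hxy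
    have h2 : τ (x.1 * y.1⁻¹) = 1 := by rw [map_mul, map_inv, h1, mul_inv_cancel]
    have h3 := hinj _ (S.mul_mem x.2 (S.inv_mem y.2)) h2
    exact Subtype.ext (mul_inv_eq_one.mp h3)
  have hφsurj : Function.Surjective φ := by
    rintro ⟨_, x, hx, rfl⟩
    exact ⟨⟨x, hx⟩, rfl⟩
  have hSfin : Finite S := Finite.of_injective φ hφinj
  have hScard : Nat.card S = Nat.card (S.map τ) :=
    Nat.card_congr (Equiv.ofBijective φ ⟨hφinj, hφsurj⟩)
  have hΔfin : Finite Δ := by
    have e := (Subgroup.groupEquivQuotientProdSubgroup (s := S)).symm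
    exact Finite.of_equiv _ e
  have hΔ : Nat.card Δ = Nat.card (Δ ⧸ S) * Nat.card S := Subgroup.card_eq_card_quotient_mul_card_subgroup S
  have hle : Nat.card Δ ≤ Nat.card G := by
    rw [hΔ, hScard]
    exact le_trans (Nat.mul_le_mul_right _ hidx) hcard
  exact (hsurj.bijective_of_nat_card_le hle).1

end Cfsg.Agent.Lib.H8.StemSection
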