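import Cfsg.Agent.Lib.H8.Co1Lower
import Cfsg.Agent.Lib.H8.StemSection
import Cfsg.Agent.Lib.H27.Co2Simple

set_option autoImplicit false

/-! S2043 (helper17 architect), Lean-side generic pieces (helper8):
* `hom_eq_of_perfect`: two lifts of the same map from a perfect group through a central extension agree;
* `exists_section_stab`: for a finite stem extension `σ : Γ → Co₁` and a type 2 vector `v`, the stabiliser
  `Stab_{Co₀}(v) ≅ Co₂` has a homomorphic section into `Γ` (given that all finite stem extensions of `Co₂` are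
  injective);
* `section_unique`, `section_conj`: the section is unique, and sections over conjugate stabilisers are conjugate by
  any lift. -/

universe u

namespace Cfsg.Agent.Lib.H8.Co1M

open Cfsg Cfsg.Spor MulAction Cfsg.Agent.Lib.H27

/-- two homomorphisms from a perfect group that agree modulo a central kernel are equal -/
theorem hom_eq_of_perfect {Δ G H : Type*} [Group Δ] [Group G] [Group H] (τ : Δ →* G)
    (hcen : τ.ker ≤ Subgroup.center Δ) (hperf : commutator H = ⊤) (φ ψ : H →* Δ)
    (h : ∀ x, τ (φ x) = τ (ψ x)) : φ = ψ := by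
  have hdef : ∀ x : H, φ x * (ψ x)⁻¹ ∈ τ.ker := by
    intro x
    rw [MonoidHom.mem_ker, map_mul, map_inv, h x, mul_inv_cancel]
  let d : H →* Δ :=
    { toFun := fun x => φ x * (ψ x)⁻¹
      map_one' := by simp
      map_mul' := by
        intro x y
        have hy := Subgroup.mem_center_iff.mp (hcen (hdef y))
        rw [map_mul, map_mul, mul_inv_rev]
        calc φ x * φ y * ((ψ y)⁻¹ * (ψ x)⁻¹) = φ x * (φ y * (ψ y)⁻¹) * (ψ x)⁻¹ := by group
          _ = φ x * (ψ x)⁻¹ * (φ y * (ψ y)⁻¹) := by
              rw [mul_assoc (φ x), ← hy, ← mul_assoc] }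
  have hcomm : ∀ a b : H, d a * d b = d b * d a := fun a b =>
    (Subgroup.mem_center_iff.mp (hcen (hdef a)) (d b)).symm
  have hker : d.ker = ⊤ := by
    rw [eq_top_iff, ← hperf, commutator_eq_closure, Subgroup.closure_le]
    rintro _ ⟨a, b, rfl⟩
    rw [SetLike.mem_coe, MonoidHom.mem_ker, map_commutatorElement, commutatorElement_def,
      hcomm a b, mul_inv_cancel_right, mul_inv_cancel]
  ext x
  have hx : x ∈ d.ker := by
    rw [hker]
    exact Subgroup.mem_top x
  have : φ x * (ψ x)⁻¹ = 1 := hx
  exact mul_inv_eq_one.mp this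

/-- a finite simple group whose order is not prime is perfect -/
theorem commutator_eq_top_of_simple {H : Type*} [Group H] [Finite H] [IsSimpleGroup H]
    (h : ¬ (Nat.card H).Prime) : commutator H = ⊤ := by
  rcases (inferInstance : (commutator H).Normal).eq_bot_or_eq_top with h0 | h0
  · exfalso
    rw [commutator_eq_bot_iff_center_eq_top] at h0
    have hcomm : ∀ a b : H, a * b = b * a := by
      intro a b
      have hb : b ∈ Subgroup.center H := by
        rw [h0]
        exact Subgroup.mem_top b
      exact (Subgroup.mem_center_iff.mp hb a)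
    letI : CommGroup H := { (inferInstance : Group H) with mul_comm := hcomm }
    exact h IsSimpleGroup.prime_card
  · exact h0

/-- trivial multiplier (injective form) transports along an isomorphism -/
theorem triv_of_mulEquiv {H H' : Type u} [Group H] [Group H'] (e : H ≃* H')
    (h' : ∀ (L : Type u) [Group L] [Finite L] (ρ : L →* H'), IsStemExtension ρ → Function.Injective ρ)
    (L : Type u) [Group L] [Finite L] (ρ : L →* H) (hρ : IsStemExtension ρ) : Function.Injective ρ := by
  have hstem : IsStemExtension (e.toMonoidHom.comp ρ) := by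
    have hk : (e.toMonoidHom.comp ρ).ker = ρ.ker := by
      ext x
      rw [MonoidHom.mem_ker, MonoidHom.mem_ker, MonoidHom.comp_apply]
      exact e.map_eq_one_iff
    refine ⟨e.surjective.comp hρ.1, ?_, ?_⟩
    · rw [hk]; exact hρ.2.1
    · rw [hk]; exact hρ.2.2
  have := h' L (e.toMonoidHom.comp ρ) hstem
  exact Function.Injective.of_comp this

/-- the stabiliser in `Co₀` of a vector of type 2 is isomorphic to `Spor.Co2` -/
theorem nonempty_stabEquivCo2 (v : leechLattice) (hv : sqNorm (v : GolayPt → ℤ) = 32) :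
    Nonempty (↥(stabilizer Co0 v) ≃* ↥Spor.Co2) := by
  have hU : sqNorm (Spor.leechU : GolayPt → ℤ) = 32 := by decide +kernel
  obtain ⟨g, hg⟩ := co0_trans32 v Spor.leechU hv hU
  have e1 := conjStabEquiv g v
  rw [hg] at e1
  exact ⟨e1.trans (stabSubEquiv Co0 Spor.leechU)⟩

theorem commutator_stab (v : leechLattice) (hv : sqNorm (v : GolayPt → ℤ) = 32) :
    commutator ↥(stabilizer Co0 v) = ⊤ := by
  obtain ⟨hs, hc⟩ := isCo2_stab v hv
  haveI := hs
  haveI : Finite ↥(stabilizer Co0 v) := Nat.finite_of_card_ne_zero (by rw [hc]; norm_num)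
  apply commutator_eq_top_of_simple
  rw [hc]
  norm_num

/-- a central element of `Co₀` fixing a nonzero vector is trivial -/
theorem eq_one_of_mem_center_of_fix (v : leechLattice) (hv : sqNorm (v : GolayPt → ℤ) = 32)
    (x : Co0) (hx : x ∈ Subgroup.center Co0) (hfix : x • v = v) : x = 1 := by
  rcases center_cases hx with h | h
  · exact h
  · exfalso
    rw [h] at hfix
    have h1 : ((negCo0 • v : leechLattice) : GolayPt → ℤ) = -(v : GolayPt → ℤ) := negCo0_smul v
    rw [hfix] at h1
    have h2 : (v : GolayPt → ℤ) = 0 := by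
      funext k
      have := congrFun h1 k
      simp only [Pi.neg_apply, Pi.zero_apply] at this ⊢
      omega
    rw [h2] at hv
    simp [sqNorm] at hv

/-- **SECTION over a type 2 stabiliser** for a finite stem extension of `Co₁`. -/
theorem exists_section_stab
    (htriv : ∀ (L : Type) [Group L] [Finite L] (ρ : L →* ↥Spor.Co2), IsStemExtension ρ →
      Function.Injective ρ)
    (Γ : Type) [Group Γ] [Finite Γ] (σ : Γ →* Spor.Co1) (hσ : IsStemExtension σ)
    (v : leechLattice) (hv : sqNorm (v : GolayPt → ℤ) = 32) :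
    ∃ s : ↥(stabilizer Co0 v) →* Γ, ∀ h : ↥(stabilizer Co0 v),
      σ (s h) = QuotientGroup.mk' (Subgroup.center Co0) (h : Co0) := by
  -- the image of the stabiliser in `Co₁`
  let π : Co0 →* Spor.Co1 := QuotientGroup.mk' (Subgroup.center Co0)
  let f : ↥(stabilizer Co0 v) →* Spor.Co1 := π.comp (stabilizer Co0 v).subtype
  have hfinj : Function.Injective f := by
    rw [← MonoidHom.ker_eq_bot_iff, eq_bot_iff]
    intro x hx
    rw [Subgroup.mem_bot]
    have h1 : (x : Co0) ∈ Subgroup.center Co0 := by
      have : π (x : Co0) = 1 := hx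
      exact (QuotientGroup.eq_one_iff _).mp this
    exact Subtype.ext (eq_one_of_mem_center_of_fix v hv x.1 h1 x.2)
  let e : ↥(stabilizer Co0 v) ≃* ↥f.range := MonoidHom.ofInjective hfinj
  have hperf : commutator ↥f.range = ⊤ := by
    rw [← StemQuot.map_commutator_of_surjective e.toMonoidHom e.surjective, commutator_stab v hv]
    exact Subgroup.map_top_of_surjective _ e.surjective
  obtain ⟨e2⟩ := nonempty_stabEquivCo2 v hv
  have htriv' := triv_of_mulEquiv (e.symm.trans e2) htriv
  obtain ⟨s, hs⟩ := StemSection.exists_section σ hσ.1 hσ.2.1 f.range hperf htriv'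
  refine ⟨s.comp e.toMonoidHom, fun h => ?_⟩
  rw [MonoidHom.comp_apply, hs]
  rfl

/-- the section over a perfect subgroup is unique -/
theorem section_unique {Γ : Type*} [Group Γ] (σ : Γ →* Spor.Co1) (hcen : σ.ker ≤ Subgroup.center Γ)
    (v : leechLattice) (hv : sqNorm (v : GolayPt → ℤ) = 32)
    (s s' : ↥(stabilizer Co0 v) →* Γ)
    (hs : ∀ h, σ (s h) = QuotientGroup.mk' (Subgroup.center Co0) (h : Co0))
    (hs' : ∀ h, σ (s' h) = QuotientGroup.mk' (Subgroup.center Co0) (h : Co0)) : s = s' :=
  hom_eq_of_perfect σ hcen (commutator_stab v hv) s s' (fun x => by rw [hs, hs'])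

/-- sections over conjugate stabilisers are conjugate by any lift -/
theorem section_conj {Γ : Type*} [Group Γ] (σ : Γ →* Spor.Co1) (hcen : σ.ker ≤ Subgroup.center Γ)
    (v : leechLattice) (hv : sqNorm (v : GolayPt → ℤ) = 32) (g : Co0)
    (s : ↥(stabilizer Co0 v) →* Γ) (s' : ↥(stabilizer Co0 (g • v)) →* Γ)
    (hs : ∀ h, σ (s h) = QuotientGroup.mk' (Subgroup.center Co0) (h : Co0))
    (hs' : ∀ h, σ (s' h) = QuotientGroup.mk' (Subgroup.center Co0) (h : Co0))
    (ghat : Γ) (hg : σ ghat = QuotientGroup.mk' (Subgroup.center Co0) g)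
    (h : ↥(stabilizer Co0 v)) : s' (conjStabEquiv g v h) = ghat * s h * ghat⁻¹ := by
  let φ : ↥(stabilizer Co0 v) →* Γ := s'.comp (conjStabEquiv g v).toMonoidHom
  let ψ : ↥(stabilizer Co0 v) →* Γ := ((MulAut.conj ghat).toMonoidHom).comp s
  have key : φ = ψ := by
    apply hom_eq_of_perfect σ hcen (commutator_stab v hv)
    intro x
    change σ (s' (conjStabEquiv g v x)) = σ (ghat * s x * ghat⁻¹)
    rw [hs', map_mul, map_mul, map_inv, hs, hg]
    change QuotientGroup.mk' (Subgroup.center Co0) (g * (x : Co0) * g⁻¹) = _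
    rw [map_mul, map_mul, map_inv]
  exact congrFun (congrArg DFunLike.coe key) h

end Cfsg.Agent.Lib.H8.Co1M
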