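import Mathlib
import Cfsg.Agent.Lib.H8.CohExtend
import Cfsg.Agent.S1517
import Cfsg.Agent.Lib.H23.DefectZero
import Cfsg.Agent.Lib.H3.CarterSys

/-!
# Coherence for characters induced from a normal subgroup with Frobenius-type quotient
(helper8's library; towards Peterfalvi (6.5))
-/

set_option autoImplicit false

namespace Cfsg.Agent.Lib.H8

open Cfsg Cfsg.Agent.Lib.L0 Cfsg.Agent.Lib.H24
open scoped ComplexConjugate commutatorElement

section sub
variable {L : Type*} [Group L] [Fintype L] {G : Type*} [Group G] [Fintype G]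

/-- A nonempty conjugation-closed subset of a coherence system is a coherence system. -/
theorem coherenceSystem_subset {S T : Set (L → ℂ)} {τ : (L → ℂ) → (G → ℂ)}
    {R : (L → ℂ) → Finset (G → ℂ)} (hS : IsCoherenceSystem S τ R) (hTS : T ⊆ S)
    (hTne : T.Nonempty) (hTc : ∀ φ ∈ T, conjFun φ ∈ T) : IsCoherenceSystem T τ R where
  nonempty := hTne
  isCharacter := fun χ hχ => hS.isCharacter χ (hTS hχ)
  conj_mem := hTc
  conj_ne := fun χ hχ => hS.conj_ne χ (hTS hχ)
  isometry := lio_mono hS.isometry (zspanOn_mono hTS _)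
  map_one := fun α hα => hS.map_one α (zspanOn_mono hTS _ hα)
  orthogonal := fun χ hχ φ hφ h => hS.orthogonal χ (hTS hχ) φ (hTS hφ) h
  orthonormal := fun χ hχ => hS.orthonormal χ (hTS hχ)
  virtual := fun χ hχ => hS.virtual χ (hTS hχ)
  sum_eq := fun χ hχ => hS.sum_eq χ (hTS hχ)
  disjoint := fun χ hχ φ hφ => hS.disjoint χ (hTS hχ) φ (hTS hφ)

/-- An irreducible character of `K` with `[K,K]` in its kernel is linear. -/
theorem linear_of_commutator_le (K A : Subgroup L) (hKA : ⁅K, K⁆ ≤ A) (θ : ↥K → ℂ)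
    (hθ : IsIrrCharacter ↥K θ) (hθA : ∀ a : ↥K, (a : L) ∈ A → θ a = θ 1) : θ 1 = 1 := by
  classical
  haveI := Fintype.ofFinite ↥K
  have hmem : ∀ b : ↥K, b ∈ commutator ↥K → (b : L) ∈ ⁅K, K⁆ := by
    intro b hb
    have : (b : L) ∈ (commutator ↥K).map K.subtype := Subgroup.mem_map_of_mem _ hb
    rwa [Subgroup.map_subtype_commutator] at this
  have h1 := irr_degree_sq_le_mod (⟨θ, hθ⟩ : IrrCharacter ↥K) (commutator ↥K) ⊤ ⊤ le_top le_rfl
    (fun d _ c _ => Subgroup.commutator_mem_commutator (Subgroup.mem_top d) (Subgroup.mem_top c))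
    (fun b hb => hθA b (hKA (hmem b hb)))
  rw [Subgroup.index_top, Subgroup.relIndex_self, one_pow, one_mul] at h1
  have h2 : 0 < charDegree θ := charDegree_pos (⟨θ, hθ⟩ : IrrCharacter ↥K)
  have h3 : charDegree θ = 1 := by nlinarith
  have h4 := charDegree_irr (⟨θ, hθ⟩ : IrrCharacter ↥K)
  have h5 : ((charDegree θ : ℕ) : ℂ) = θ 1 := h4
  rw [← h5, h3, Nat.cast_one]

/-- `S(A)` is coherent whenever `[K,K] ≤ A` and `K ≰ A` (all members have degree `|L:K|`). -/
theorem coherent_of_commutator_le (K : Subgroup L) (hsolv : Group.IsSolvable K)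
    (τ : (L → ℂ) → (G → ℂ)) (R : (L → ℂ) → Finset (G → ℂ))
    (hS : IsCoherenceSystem (inducedIrrAbove K ⊥) τ R) (A : Subgroup L) [A.Normal]
    (hKA : ⁅K, K⁆ ≤ A) (hAK : ¬ K ≤ A) : IsCoherent (inducedIrrAbove K A) {1}ᶜ τ := by
  obtain ⟨χ₁, hχ₁, -⟩ := exists_linear_induced K A hsolv hAK
  have hsub := coherenceSystem_subset hS (inducedIrrAbove_subset_bot K A) ⟨χ₁, hχ₁⟩
    (fun φ hφ => inducedIrrAbove_conj K A hφ)
  apply Cfsg.Agent.S1517.result _ τ R hsub
  have hdeg : ∀ φ ∈ inducedIrrAbove K A, φ 1 = (K.index : ℂ) := by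
    rintro φ ⟨θ, hθ, -, hθA, rfl⟩
    rw [indFun_one, linear_of_commutator_le K A hKA θ hθ hθA, mul_one]
  intro φ hφ ψ hψ
  rw [hdeg φ hφ, hdeg ψ hψ]

end sub

section frob

/-- `L/H₁` Frobenius with abelian kernel `K/H₁`: every `L`-normal `N` between `H₁` and `K` has
`|N:H₁| ≡ 1 (mod |L:K|)` (Burnside's orbit-counting lemma). -/
theorem frob_relIndex_modEq {L : Type*} [Group L] [Finite L] (K H₁ N : Subgroup L) [K.Normal]
    [H₁.Normal] [N.Normal] (hKK : ⁅K, K⁆ ≤ H₁) (hH₁N : H₁ ≤ N) (hNK : N ≤ K)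
    (hfrob : ∀ k ∈ K, k ∉ H₁ → ∀ x : L, x * k * x⁻¹ * k⁻¹ ∈ H₁ → x ∈ K) :
    H₁.relIndex N ≡ 1 [MOD K.index] := by
  classical
  obtain ⟨π, hπ⟩ : ∃ π : L →* L ⧸ H₁, π = QuotientGroup.mk' H₁ := ⟨_, rfl⟩
  have hπs : Function.Surjective π := by rw [hπ]; exact QuotientGroup.mk'_surjective _
  have hπker : π.ker = H₁ := by rw [hπ]; exact QuotientGroup.ker_mk' H₁
  have hπ1 : ∀ x : L, π x = 1 ↔ x ∈ H₁ := by
    intro x; rw [← MonoidHom.mem_ker, hπker]
  obtain ⟨X, hX⟩ : ∃ X : Subgroup (L ⧸ H₁), X = N.map π := ⟨_, rfl⟩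
  obtain ⟨KQ, hKQ⟩ : ∃ KQ : Subgroup (L ⧸ H₁), KQ = K.map π := ⟨_, rfl⟩
  have hXn : X.Normal := by rw [hX]; exact Subgroup.Normal.map inferInstance π hπs
  have hXcard : Nat.card X = H₁.relIndex N := by rw [hX, ← Subgroup.relIndex_ker, hπker]
  have hKQidx : KQ.index = K.index := by
    rw [hKQ]; exact Subgroup.index_map_eq K hπs (by rw [hπker]; exact hH₁N.trans hNK)
  have hXKQ : X ≤ KQ := by rw [hX, hKQ]; exact Subgroup.map_mono hNK
  have hcommKQ : ∀ a ∈ KQ, ∀ b ∈ KQ, a * b = b * a := by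
    rw [hKQ]
    rintro _ ⟨k, hk, rfl⟩ _ ⟨k', hk', rfl⟩
    rw [← map_mul, ← map_mul]
    have h1 : π (k * k' * k⁻¹ * k'⁻¹) = 1 :=
      (hπ1 _).mpr (hKK (Subgroup.commutator_mem_commutator hk hk'))
    have h2 : k * k' = (k * k' * k⁻¹ * k'⁻¹) * (k' * k) := by group
    rw [h2, map_mul, h1, one_mul]
  haveI : Fintype (L ⧸ H₁) := Fintype.ofFinite _
  haveI : Fintype (ConjAct (L ⧸ H₁)) := Fintype.ofFinite _
  have hB := MulAction.sum_card_fixedBy_eq_card_orbits_mul_card_group (ConjAct (L ⧸ H₁)) X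
  have hfix : ∀ g : ConjAct (L ⧸ H₁), Fintype.card (MulAction.fixedBy X g) =
      if ConjAct.ofConjAct g ∈ KQ then Nat.card X else 1 := by
    intro g
    split_ifs with hg
    · rw [Nat.card_eq_fintype_card]
      apply Fintype.card_congr
      refine (Equiv.subtypeUnivEquiv ?_)
      intro a
      rw [MulAction.mem_fixedBy]
      apply Subtype.ext
      rw [ConjAct.Subgroup.val_conj_smul, ConjAct.smul_def, hcommKQ _ hg _ (hXKQ a.2)]
      group
    · rw [Fintype.card_eq_one_iff]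
      refine ⟨⟨1, by rw [MulAction.mem_fixedBy, smul_one]⟩, ?_⟩
      rintro ⟨a, ha⟩
      apply Subtype.ext
      show a = 1
      rw [MulAction.mem_fixedBy] at ha
      have ha' := congrArg Subtype.val ha
      rw [ConjAct.Subgroup.val_conj_smul, ConjAct.smul_def] at ha'
      obtain ⟨x, hx⟩ := hπs (ConjAct.ofConjAct g)
      have haX : (a : L ⧸ H₁) ∈ N.map π := by rw [← hX]; exact a.2
      obtain ⟨n, hn, hna⟩ := haX
      have hxK : x ∉ K := by
        intro h
        apply hg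
        rw [hKQ, ← hx]
        exact Subgroup.mem_map_of_mem _ h
      have h1 : π (x * n * x⁻¹ * n⁻¹) = 1 := by
        rw [map_mul, map_mul, map_mul, map_inv, map_inv, hx, hna, ha', mul_inv_cancel]
      have h2 : n ∈ H₁ := by
        by_contra hnH
        exact hxK (hfrob n (hNK hn) hnH x ((hπ1 _).mp h1))
      apply Subtype.ext
      rw [← hna, (hπ1 n).mpr h2]
      rfl
  rw [Finset.sum_congr rfl (fun g _ => hfix g)] at hB
  have hsum : ∑ g : ConjAct (L ⧸ H₁), (if ConjAct.ofConjAct g ∈ KQ then Nat.card X else 1) =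
      ∑ q : L ⧸ H₁, (if q ∈ KQ then Nat.card X else 1) :=
    Equiv.sum_comp (ConjAct.ofConjAct (G := L ⧸ H₁)).toEquiv (fun q => if q ∈ KQ then Nat.card X else 1)
  rw [hsum, Finset.sum_ite, Finset.sum_const, Finset.sum_const, smul_eq_mul, smul_eq_mul, mul_one] at hB
  have hc1 : (Finset.univ.filter (fun q : L ⧸ H₁ => q ∈ KQ)).card = Nat.card KQ := by
    rw [Nat.card_eq_fintype_card, Fintype.card_subtype]
  have hc2 : (Finset.univ.filter (fun q : L ⧸ H₁ => ¬ q ∈ KQ)).card = Nat.card (L ⧸ H₁) - Nat.card KQ := by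
    have := Finset.card_filter_add_card_filter_not (s := (Finset.univ : Finset (L ⧸ H₁)))
      (fun q : L ⧸ H₁ => q ∈ KQ)
    rw [hc1, Finset.card_univ, ← Nat.card_eq_fintype_card] at this
    omega
  have hcardConj : Fintype.card (ConjAct (L ⧸ H₁)) = Nat.card (L ⧸ H₁) := by
    rw [Nat.card_eq_fintype_card]
    exact Fintype.card_congr (ConjAct.ofConjAct (G := L ⧸ H₁)).toEquiv
  rw [hc1, hc2, hcardConj] at hB
  have hQ : Nat.card (L ⧸ H₁) = Nat.card KQ * K.index := by
    rw [← hKQidx]; exact (Subgroup.card_mul_index KQ).symm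
  have hKQpos : 0 < Nat.card KQ := Nat.card_pos
  have hepos : 0 < K.index := Nat.pos_of_ne_zero Subgroup.index_ne_zero_of_finite
  rw [hQ, hXcard] at hB
  obtain ⟨o, ho⟩ : ∃ o : ℕ, o = Fintype.card (Quotient (MulAction.orbitRel (ConjAct (L ⧸ H₁)) X)) := ⟨_, rfl⟩
  rw [← ho] at hB
  have h3 : Nat.card KQ * (H₁.relIndex N + K.index) = Nat.card KQ * (o * K.index + 1) := by
    have h4 : Nat.card KQ ≤ Nat.card KQ * K.index := Nat.le_mul_of_pos_right _ hepos
    zify [h4] at hB ⊢
    linear_combination hB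
  have h5 : H₁.relIndex N + K.index = o * K.index + 1 := Nat.eq_of_mul_eq_mul_left hKQpos h3
  show H₁.relIndex N % K.index = 1 % K.index
  have h6 : (H₁.relIndex N + K.index) % K.index = (o * K.index + 1) % K.index := by rw [h5]
  rw [Nat.add_mod_right, Nat.mul_add_mod_self_right] at h6
  exact h6

theorem ge_of_modEq_odd (e h : ℕ) (he : Odd e) (hh : Odd h) (h1 : 1 < h) (hm : h ≡ 1 [MOD e]) :
    2 * e + 1 ≤ h := by
  have hd : e ∣ h - 1 := (Nat.modEq_iff_dvd' (by omega)).mp hm.symm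
  obtain ⟨t, ht⟩ := hd
  have ht1 : 1 ≤ t := by
    rcases Nat.eq_zero_or_pos t with h0 | h0
    · rw [h0, mul_zero] at ht; omega
    · exact h0
  have hteven : Even t := by
    have h2 : Even (h - 1) := by
      obtain ⟨k, hk⟩ := hh
      exact ⟨k, by omega⟩
    rw [ht, Nat.even_mul] at h2
    rcases h2 with h2 | h2
    · exact absurd he (Nat.not_odd_iff_even.mpr h2)
    · exact h2
  obtain ⟨s, hs⟩ := hteven
  have hs1 : 1 ≤ s := by omega
  have : h - 1 = e * (s + s) := by rw [ht, hs]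
  have h3 : 2 * e ≤ e * (s + s) := by nlinarith
  omega

/-- If an `L`-normal subgroup lies strictly between `H₁` and `K` (odd order, `L/H₁` Frobenius
with abelian kernel `K/H₁`), then `|K:H₁| > 4|L:K|²+1`. -/
theorem big_of_between {L : Type*} [Group L] [Finite L] (hodd : Odd (Nat.card L))
    (K H₁ N : Subgroup L) [K.Normal] [H₁.Normal] [N.Normal] (hKK : ⁅K, K⁆ ≤ H₁) (hH₁N : H₁ < N)
    (hNK : N < K)
    (hfrob : ∀ k ∈ K, k ∉ H₁ → ∀ x : L, x * k * x⁻¹ * k⁻¹ ∈ H₁ → x ∈ K) :
    4 * K.index ^ 2 + 1 < H₁.relIndex K := by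
  have hF1 := frob_relIndex_modEq K H₁ N hKK hH₁N.le hNK.le hfrob
  have hF2 := frob_relIndex_modEq K H₁ K hKK (hH₁N.le.trans hNK.le) le_rfl hfrob
  have hmul : H₁.relIndex N * N.relIndex K = H₁.relIndex K :=
    Subgroup.relIndex_mul_relIndex H₁ N K hH₁N.le hNK.le
  have heodd : Odd K.index := Odd.of_dvd_nat hodd (Subgroup.index_dvd_card K)
  have h1odd : Odd (H₁.relIndex N) :=
    Odd.of_dvd_nat hodd ((Subgroup.relIndex_dvd_card H₁ N).trans (Subgroup.card_subgroup_dvd_card N))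
  have h2odd : Odd (N.relIndex K) :=
    Odd.of_dvd_nat hodd ((Subgroup.relIndex_dvd_card N K).trans (Subgroup.card_subgroup_dvd_card K))
  have hpos1 : H₁.relIndex N ≠ 0 := by
    have : (H₁.subgroupOf N).index ≠ 0 := Subgroup.index_ne_zero_of_finite
    exact this
  have hpos2 : N.relIndex K ≠ 0 := by
    have : (N.subgroupOf K).index ≠ 0 := Subgroup.index_ne_zero_of_finite
    exact this
  have h1gt : 1 < H₁.relIndex N := by
    rcases Nat.lt_or_ge 1 (H₁.relIndex N) with h | h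
    · exact h
    · exfalso
      have : H₁.relIndex N = 1 := by omega
      exact (lt_irrefl _) (lt_of_lt_of_le hH₁N (Subgroup.relIndex_eq_one.mp this))
  have h2gt : 1 < N.relIndex K := by
    rcases Nat.lt_or_ge 1 (N.relIndex K) with h | h
    · exact h
    · exfalso
      have : N.relIndex K = 1 := by omega
      exact (lt_irrefl _) (lt_of_lt_of_le hNK (Subgroup.relIndex_eq_one.mp this))
  have hF3 : N.relIndex K ≡ 1 [MOD K.index] := by
    have h3 : H₁.relIndex N * N.relIndex K ≡ 1 * N.relIndex K [MOD K.index] :=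
      Nat.ModEq.mul_right _ hF1
    rw [hmul, one_mul] at h3
    exact h3.symm.trans hF2
  have hb1 := ge_of_modEq_odd _ _ heodd h1odd h1gt hF1
  have hb2 := ge_of_modEq_odd _ _ heodd h2odd h2gt hF3
  have hepos : 0 < K.index := Nat.pos_of_ne_zero Subgroup.index_ne_zero_of_finite
  rw [← hmul]
  nlinarith [Nat.mul_le_mul hb1 hb2]

end frob

section nilp

open Cfsg.Agent.Lib.H23 in
/-- In a finite nilpotent group every prime dividing the order divides the index of the derived
subgroup. -/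
theorem prime_dvd_index_commutator {E : Type*} [Group E] [Finite E] [hE : Group.IsNilpotent E]
    (q : ℕ) (hq : q.Prime) (hqE : q ∣ Nat.card E) : q ∣ (commutator E).index := by
  obtain ⟨P, T, ⟨a, hPa⟩, hTcop, hcard, -, -⟩ := exists_hall_decomp E q hq
  have hTidx : T.index = q ^ a := by
    have h1 := Subgroup.card_mul_index T
    rw [← hcard, hPa, mul_comm (q ^ a)] at h1
    exact Nat.eq_of_mul_eq_mul_left Nat.card_pos h1
  haveI hTn : T.Normal := Cfsg.Agent.Lib.H3.hall_normal_of_isNilpotent T (by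
    rw [hTidx]; exact Nat.Coprime.pow_right _ hTcop)
  have ha : 1 ≤ a := by
    rcases Nat.eq_zero_or_pos a with h0 | h0
    · exfalso
      rw [h0, pow_zero] at hPa
      rw [hPa, one_mul] at hcard
      rw [← hcard] at hqE
      have := Nat.Coprime.eq_one_of_dvd hTcop.symm hqE
      exact hq.one_lt.ne' this
    · exact h0
  have hQcard : Nat.card (E ⧸ T) = q ^ a := by rw [← hTidx]; rfl
  haveI : Fact q.Prime := ⟨hq⟩
  have hQp : IsPGroup q (E ⧸ T) := IsPGroup.of_card hQcard
  haveI : Nontrivial (E ⧸ T) := by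
    rw [← Finite.one_lt_card_iff_nontrivial, hQcard]
    exact Nat.one_lt_pow (by omega) hq.one_lt
  haveI : Group.IsNilpotent (E ⧸ T) := hQp.isNilpotent
  have hlt := Group.IsSolvable.commutator_lt_top_of_nontrivial (E ⧸ T)
  have hidx1 : (commutator (E ⧸ T)).index ≠ 1 := fun h => hlt.ne (Subgroup.index_eq_one.mp h)
  have hidxdvd : (commutator (E ⧸ T)).index ∣ q ^ a := by
    rw [← hQcard]; exact Subgroup.index_dvd_card _
  obtain ⟨j, -, hj⟩ := (Nat.dvd_prime_pow hq).mp hidxdvd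
  have hj1 : j ≠ 0 := by
    rintro rfl
    exact hidx1 (by rw [hj, pow_zero])
  have hqdvd : q ∣ (commutator (E ⧸ T)).index := by
    rw [hj]; exact dvd_pow_self q hj1
  have hsurj := QuotientGroup.mk'_surjective T
  have hle : commutator E ≤ (commutator (E ⧸ T)).comap (QuotientGroup.mk' T) := by
    rw [← Subgroup.map_le_iff_le_comap, commutator_def, Subgroup.map_commutator, commutator_def]
    exact Subgroup.commutator_mono le_top le_top
  have h2 := Subgroup.index_dvd_of_le hle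
  rw [Subgroup.index_comap_of_surjective _ hsurj] at h2
  exact hqdvd.trans h2

/-- index of the derived subgroup of `K/M` -/
theorem index_commutator_quotient {L : Type*} [Group L] (K M : Subgroup L) (hMK : M ≤ K)
    [(M.subgroupOf K).Normal] :
    (commutator (↥K ⧸ M.subgroupOf K)).index = (⁅K, K⁆ ⊔ M).relIndex K := by
  have hsurj := QuotientGroup.mk'_surjective (M.subgroupOf K)
  have h1 : commutator (↥K ⧸ M.subgroupOf K) = (commutator ↥K).map (QuotientGroup.mk' (M.subgroupOf K)) := by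
    rw [commutator_def, commutator_def, Subgroup.map_commutator, Subgroup.map_top_of_surjective _ hsurj]
  have h2 : commutator ↥K = (⁅K, K⁆).subgroupOf K := by
    have := Subgroup.map_subtype_commutator K
    rw [← this]
    exact (Subgroup.comap_map_eq_self_of_injective K.subtype_injective _).symm
  rw [h1, Subgroup.index_map, QuotientGroup.ker_mk', MonoidHom.range_eq_top.mpr hsurj,
    Subgroup.index_top, mul_one, h2,
    ← Subgroup.subgroupOf_sup (Subgroup.commutator_le_self K) hMK]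
  rfl

end nilp

end Cfsg.Agent.Lib.H8
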