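import Mathlib
import Cfsg.Agent.Lib.H8.CohCentralB
import Cfsg.Agent.Lib.H8.CohFrob
import Cfsg.Agent.S1517

/-!
# Peterfalvi (6.6), p-group case: coherence of `S \ S(Z)` (helper8's library, for S1522)
-/

set_option autoImplicit false

namespace Cfsg.Agent.Lib.H8

open Cfsg Cfsg.Agent.Lib.L0 Cfsg.Agent.Lib.H24
open scoped ComplexConjugate

/-- counting lemma: degrees `e p^j`, `e` prime to `p`, total sum of squares divisible by `p^{2b}`,
some degree `< e p^b`: then the sum of the squares of the degrees `< e p^b` is at least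
`e² p^{2b}`. -/
theorem sum_small_ge {ι : Type*} (T : Finset ι) (d : ι → ℕ) (p e : ℕ) (hp : p.Prime)
    (hep : Nat.Coprime e p) (hd : ∀ i ∈ T, ∃ j, d i = e * p ^ j) (b : ℕ)
    (hc : p ^ (2 * b) ∣ ∑ i ∈ T, d i ^ 2) (i₀ : ι) (hi₀ : i₀ ∈ T) (hi₀b : d i₀ < e * p ^ b) :
    e ^ 2 * p ^ (2 * b) ≤ ∑ i ∈ T.filter (fun i => d i < e * p ^ b), d i ^ 2 := by
  classical
  have he : 0 < e := by
    rcases Nat.eq_zero_or_pos e with h | h
    · rw [h, zero_mul] at hi₀b; omega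
    · exact h
  have hsplit := Finset.sum_filter_add_sum_filter_not T (fun i => d i < e * p ^ b) (fun i => d i ^ 2)
  have hB : p ^ (2 * b) ∣ ∑ i ∈ T.filter (fun i => ¬ d i < e * p ^ b), d i ^ 2 := by
    apply Finset.dvd_sum
    intro i hi
    obtain ⟨hiT, hib⟩ := Finset.mem_filter.mp hi
    obtain ⟨j, hj⟩ := hd i hiT
    have hbj : b ≤ j := by
      by_contra hcon
      push Not at hcon
      apply hib
      rw [hj]
      exact Nat.mul_lt_mul_of_pos_left (Nat.pow_lt_pow_right hp.one_lt hcon) he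
    rw [hj, mul_pow, ← pow_mul, mul_comm j 2]
    exact Dvd.dvd.mul_left (pow_dvd_pow p (by omega)) _
  have hA : p ^ (2 * b) ∣ ∑ i ∈ T.filter (fun i => d i < e * p ^ b), d i ^ 2 := by
    rw [← hsplit] at hc
    exact (Nat.dvd_add_left hB).mp hc
  have hAe : e ^ 2 ∣ ∑ i ∈ T.filter (fun i => d i < e * p ^ b), d i ^ 2 := by
    apply Finset.dvd_sum
    intro i hi
    obtain ⟨hiT, -⟩ := Finset.mem_filter.mp hi
    obtain ⟨j, hj⟩ := hd i hiT
    rw [hj, mul_pow]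
    exact Dvd.intro _ rfl
  have hcop : Nat.Coprime (e ^ 2) (p ^ (2 * b)) := Nat.Coprime.pow _ _ hep
  have hdvd := Nat.Coprime.mul_dvd_of_dvd_of_dvd hcop hAe hA
  apply Nat.le_of_dvd _ hdvd
  apply lt_of_lt_of_le _ (Finset.single_le_sum (f := fun i => d i ^ 2) (fun i _ => Nat.zero_le _)
    (Finset.mem_filter.mpr ⟨hi₀, hi₀b⟩))
  obtain ⟨j, hj⟩ := hd i₀ hi₀
  show 0 < d i₀ ^ 2
  rw [hj]
  have := hp.pos
  positivity

section
variable {L : Type*} [Group L] [Fintype L] {G : Type*} [Group G] [Fintype G]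

/-- degrees of members of `X = S \ S(Z)` when `K` is a `p`-group and `Z` is central in `K` -/
theorem diff_degree (K Z : Subgroup L) [Z.Normal] (hZK : Z ≤ K)
    (hZc : ∀ z ∈ Z, ∀ k ∈ K, z * k = k * z) (p m : ℕ) (hp : p.Prime) (hKp : Nat.card K = p ^ m)
    {φ : L → ℂ} (hφ : φ ∈ inducedIrrAbove K ⊥ \ inducedIrrAbove K Z) :
    ∃ j : ℕ, φ 1 = ((K.index * p ^ j : ℕ) : ℂ) ∧ p ^ (2 * j) * Nat.card Z ≤ Nat.card K := by
  classical
  haveI := Fintype.ofFinite ↥K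
  obtain ⟨θ, hθ, -, rfl⟩ := (mem_diff_iff K Z hZK φ).mp hφ
  obtain ⟨n, hn0, hn1, hn2⟩ := Cfsg.Agent.Lib.H23.irr_apply_one_dvd_card θ hθ
  rw [hKp] at hn2
  obtain ⟨j, -, rfl⟩ := (Nat.dvd_prime_pow hp).mp hn2
  refine ⟨j, ?_, ?_⟩
  · rw [indFun_one, hn1]
    push_cast
    rfl
  · have hD : Z.subgroupOf K ≤ Subgroup.center ↥K := by
      intro a ha
      rw [Subgroup.mem_center_iff]
      intro k
      apply Subtype.ext
      rw [Subgroup.coe_mul, Subgroup.coe_mul]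
      exact (hZc a (Subgroup.mem_subgroupOf.mp ha) k k.2).symm
    have hb := irr_central_bound (⟨θ, hθ⟩ : IrrCharacter ↥K) (Z.subgroupOf K) hD
    have hdeg : charDegree θ = p ^ j := Cfsg.Agent.Lib.H23.charDegree_eq_of_apply_one hn1
    have hcard : Nat.card ↥(Z.subgroupOf K) = Nat.card Z :=
      Nat.card_congr (Subgroup.subgroupOfEquivOfLe hZK).toEquiv
    rw [hcard] at hb
    show p ^ (2 * j) * Nat.card Z ≤ Nat.card K
    have : charDegree ((⟨θ, hθ⟩ : IrrCharacter ↥K) : ↥K → ℂ) = p ^ j := hdeg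
    rw [this, ← pow_mul, mul_comm j 2] at hb
    exact hb

end

end Cfsg.Agent.Lib.H8
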