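import Mathlib
import Cfsg.Agent.Lib.H8.CohCentralC

/-!
# Peterfalvi (6.6), p-group case: coherence of `S \ S(Z)` (helper8's library, for S1522)
-/

set_option autoImplicit false

namespace Cfsg.Agent.Lib.H8

open Cfsg Cfsg.Agent.Lib.L0 Cfsg.Agent.Lib.H24 Cfsg.Agent.Lib.H23
open scoped ComplexConjugate

theorem arith_66 (e p a b : ℕ) (he : 0 < e) (hp : 2 < p) (hab : a < b) :
    2 * (e * p ^ b) * (e * p ^ a) < e ^ 2 * p ^ (2 * b) := by
  obtain ⟨k, rfl⟩ : ∃ k, b = a + 1 + k := ⟨b - a - 1, by omega⟩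
  have hpa : 0 < p ^ a := by positivity
  have hpk : 0 < p ^ k := by positivity
  have h1 : p ^ (a + 1 + k) = p ^ a * p * p ^ k := by rw [pow_add, pow_succ]
  have h2 : p ^ (2 * (a + 1 + k)) = p ^ (a + 1 + k) * p ^ (a + 1 + k) := by
    rw [two_mul, pow_add]
  rw [h2, h1]
  have h3 : 3 ≤ p := hp
  have h4 : 1 ≤ p ^ k := hpk
  have h5 : 0 < e ^ 2 * (p ^ a * p * p ^ k) * p ^ a := by positivity
  have h6 : 3 * p ^ a ≤ p ^ a * p * p ^ k := by
    calc 3 * p ^ a = p ^ a * 3 * 1 := by ring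
      _ ≤ p ^ a * p * p ^ k := Nat.mul_le_mul (Nat.mul_le_mul_left _ h3) h4
  calc 2 * (e * (p ^ a * p * p ^ k)) * (e * p ^ a)
      = e ^ 2 * (p ^ a * p * p ^ k) * (2 * p ^ a) := by ring
    _ < e ^ 2 * (p ^ a * p * p ^ k) * (3 * p ^ a) := by
        apply Nat.mul_lt_mul_of_pos_left _ (by positivity)
        omega
    _ ≤ e ^ 2 * (p ^ a * p * p ^ k) * (p ^ a * p * p ^ k) := Nat.mul_le_mul_left _ h6
    _ = e ^ 2 * (p ^ a * p * p ^ k * (p ^ a * p * p ^ k)) := by ring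

section
variable {L : Type*} [Group L] [Fintype L] {G : Type*} [Group G] [Fintype G]

/-- Peterfalvi (6.6) when `K` is a `p`-group, `p` odd, `|L:K|` prime to `p`: `X = S \ S(Z)` is
coherent when all its members are irreducible and `Z` is central in `K`. -/
theorem coherent_diff_of_pgroup (K : Subgroup L) (τ : (L → ℂ) → (G → ℂ))
    (R : (L → ℂ) → Finset (G → ℂ)) (hS : IsCoherenceSystem (inducedIrrAbove K ⊥) τ R)
    (Z : Subgroup L) [Z.Normal] (hZK : Z ≤ K) (hZc : ∀ z ∈ Z, ∀ k ∈ K, z * k = k * z)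
    (hirr : ∀ χ ∈ inducedIrrAbove K ⊥ \ inducedIrrAbove K Z, IsIrrCharacter L χ)
    (p m : ℕ) (hp : p.Prime) (hp2 : 2 < p) (hKp : Nat.card K = p ^ m)
    (hep : Nat.Coprime K.index p)
    (hne : (inducedIrrAbove K ⊥ \ inducedIrrAbove K Z).Nonempty) :
    IsCoherent (inducedIrrAbove K ⊥ \ inducedIrrAbove K Z) {1}ᶜ τ := by
  classical
  obtain ⟨X, hXdef⟩ : ∃ X : Set (L → ℂ), X = inducedIrrAbove K ⊥ \ inducedIrrAbove K Z := ⟨_, rfl⟩
  rw [← hXdef] at hne ⊢
  have hXS : X ⊆ inducedIrrAbove K ⊥ := by rw [hXdef]; exact Set.sdiff_subset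
  have hXc : ∀ φ ∈ X, conjFun φ ∈ X := fun φ hφ => by
    rw [hXdef] at hφ ⊢; exact diff_conj K Z hφ
  have hirr' : ∀ φ ∈ X, IsIrrCharacter L φ := fun φ hφ => hirr φ (by rw [← hXdef]; exact hφ)
  have hsys := coherenceSystem_subset hS hXS hne hXc
  obtain ⟨Xf, hXf⟩ := (coh_finite hsys).exists_finset_coe
  have hmem : ∀ φ, φ ∈ Xf ↔ φ ∈ X := fun φ => by rw [← hXf]; rfl
  obtain ⟨d, hddef⟩ : ∃ d : (L → ℂ) → ℕ, d = charDegree := ⟨_, rfl⟩
  obtain ⟨n, hndef⟩ : ∃ n : (L → ℂ) → ℕ, n = fun _ => 1 := ⟨_, rfl⟩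
  have hd : ∀ φ ∈ X, φ 1 = (d φ : ℂ) := fun φ hφ => by
    rw [hddef]; exact apply_one_eq_charDegree φ (hirr' φ hφ)
  have hn : ∀ φ ∈ X, classInner φ φ = (n φ : ℂ) := fun φ hφ => by
    rw [irr_classInner_self (hirr' φ hφ), hndef]; simp
  have he : 0 < K.index := Nat.pos_of_ne_zero Subgroup.index_ne_zero_of_finite
  have hdj : ∀ φ ∈ X, ∃ j, d φ = K.index * p ^ j ∧ p ^ (2 * j) * Nat.card Z ≤ Nat.card K := by
    intro φ hφ
    obtain ⟨j, hj1, hj2⟩ := diff_degree K Z hZK hZc p m hp hKp (by rw [← hXdef]; exact hφ)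
    exact ⟨j, by rw [hddef]; exact charDegree_eq_of_apply_one hj1, hj2⟩
  have hdc : ∀ φ ∈ X, d (conjFun φ) = d φ := by
    intro φ hφ
    have h1 := hd _ (hXc φ hφ)
    rw [conjFun_apply, hd φ hφ, Complex.conj_natCast] at h1
    exact_mod_cast h1.symm
  -- total sum
  have htot : (∑ φ ∈ Xf, d φ ^ 2) * Nat.card Z + Nat.card L = Nat.card L * Nat.card Z := by
    rw [hddef]
    exact sum_degree_sq_not_ker' Z Xf (by rw [hXf, hXdef]; exact diff_eq_irr K Z hZK hirr)
  have hdvd : ∀ b, p ^ (2 * b) * Nat.card Z ≤ Nat.card K → p ^ (2 * b) ∣ ∑ φ ∈ Xf, d φ ^ 2 := by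
    intro b hb
    have hZdvd : Nat.card Z ∣ p ^ m := by
      rw [← hKp]; exact Subgroup.card_dvd_of_le hZK
    obtain ⟨s, hsm, hs⟩ := (Nat.dvd_prime_pow hp).mp hZdvd
    rw [hs, hKp, ← pow_add] at hb
    have hle : 2 * b + s ≤ m := (Nat.pow_le_pow_iff_right hp.one_lt).mp hb
    have hL : Nat.card L = p ^ m * K.index := by rw [← hKp]; exact (Subgroup.card_mul_index K).symm
    rw [hs, hL] at htot
    have hm : p ^ m = p ^ (m - s) * p ^ s := by rw [← pow_add]; congr 1; omega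
    have hps : 0 < p ^ s := by have := hp.pos; positivity
    have h1 : ((∑ φ ∈ Xf, d φ ^ 2) + p ^ (m - s) * K.index) * p ^ s =
        (p ^ (m - s) * K.index * p ^ s) * p ^ s := by
      rw [hm] at htot
      rw [add_mul]
      calc (∑ φ ∈ Xf, d φ ^ 2) * p ^ s + p ^ (m - s) * K.index * p ^ s
          = (∑ φ ∈ Xf, d φ ^ 2) * p ^ s + p ^ (m - s) * p ^ s * K.index := by ring
        _ = p ^ (m - s) * p ^ s * K.index * p ^ s := htot
        _ = _ := by ring
    have h2 := Nat.eq_of_mul_eq_mul_right hps h1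
    have h3 : p ^ (2 * b) ∣ p ^ (m - s) := pow_dvd_pow p (by omega)
    have h4 : p ^ (2 * b) ∣ p ^ (m - s) * K.index := Dvd.dvd.mul_right h3 _
    have h5 : p ^ (2 * b) ∣ (∑ φ ∈ Xf, d φ ^ 2) + p ^ (m - s) * K.index := by
      rw [h2]; exact Dvd.dvd.mul_right h4 _
    exact (Nat.dvd_add_left h4).mp h5
  -- the induction on the degree
  have key : ∀ t : ℕ, (Xf.filter (fun φ => d φ ≤ t)).Nonempty →
      IsCoherent (↑(Xf.filter (fun φ => d φ ≤ t)) : Set (L → ℂ)) {1}ᶜ τ := by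
    intro t
    induction t with
    | zero =>
      rintro ⟨φ, hφ⟩
      exfalso
      obtain ⟨hφX, hφ0⟩ := Finset.mem_filter.mp hφ
      obtain ⟨j, hj, -⟩ := hdj φ ((hmem φ).mp hφX)
      have hpj : 0 < p ^ j := by have := hp.pos; positivity
      have : 0 < K.index * p ^ j := Nat.mul_pos he hpj
      omega
    | succ t ih =>
      intro hne'
      have hYX : ∀ t' : ℕ, (↑(Xf.filter (fun φ => d φ ≤ t')) : Set (L → ℂ)) ⊆ X := by
        intro t' φ hφ
        exact (hmem φ).mp (Finset.mem_filter.mp hφ).1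
      have hYc : ∀ t' : ℕ, ∀ φ ∈ Xf.filter (fun φ => d φ ≤ t'),
          conjFun φ ∈ Xf.filter (fun φ => d φ ≤ t') := by
        intro t' φ hφ
        obtain ⟨h1, h2⟩ := Finset.mem_filter.mp hφ
        have hφX := (hmem φ).mp h1
        exact Finset.mem_filter.mpr ⟨(hmem _).mpr (hXc φ hφX), by rw [hdc φ hφX]; exact h2⟩
      by_cases hYt : (Xf.filter (fun φ => d φ ≤ t)).Nonempty
      · have hcoh := ih hYt
        obtain ⟨χ₁, hχ₁Y, hχ₁min⟩ := Finset.exists_min_image _ d hYt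
        obtain ⟨U, hU⟩ : ∃ U : Finset (L → ℂ), U = Xf.filter (fun φ => d φ = t + 1) := ⟨_, rfl⟩
        have hYU : Xf.filter (fun φ => d φ ≤ t + 1) = Xf.filter (fun φ => d φ ≤ t) ∪ U := by
          ext φ
          rw [hU, Finset.mem_union, Finset.mem_filter, Finset.mem_filter, Finset.mem_filter]
          constructor
          · rintro ⟨h1, h2⟩
            rcases Nat.lt_or_ge t (d φ) with h | h
            · exact Or.inr ⟨h1, by omega⟩
            · exact Or.inl ⟨h1, h⟩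
          · rintro (⟨h1, h2⟩ | ⟨h1, h2⟩)
            · exact ⟨h1, by omega⟩
            · exact ⟨h1, by omega⟩
        rw [hYU]
        have hUX : (↑U : Set (L → ℂ)) ⊆ X := by
          intro φ hφ
          rw [hU] at hφ
          exact (hmem φ).mp (Finset.mem_filter.mp hφ).1
        have hUc : ∀ φ ∈ U, conjFun φ ∈ U := by
          intro φ hφ
          rw [hU] at hφ ⊢
          obtain ⟨h1, h2⟩ := Finset.mem_filter.mp hφ
          have hφX := (hmem φ).mp h1
          exact Finset.mem_filter.mpr ⟨(hmem _).mpr (hXc φ hφX), by rw [hdc φ hφX]; exact h2⟩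
        refine coherent_union_of_bound hsys d n hd hn _ (hYX t) (hYc t) hcoh χ₁ hχ₁Y _ le_rfl
          U.card U le_rfl hUX hUc ?_
        intro φ hφU
        have hφU' := hφU
        rw [hU] at hφU'
        obtain ⟨hφXf, hφd⟩ := Finset.mem_filter.mp hφU'
        obtain ⟨hχ₁Xf, hχ₁d⟩ := Finset.mem_filter.mp hχ₁Y
        obtain ⟨b, hb1, hb2⟩ := hdj φ ((hmem φ).mp hφXf)
        obtain ⟨a, ha1, -⟩ := hdj χ₁ ((hmem χ₁).mp hχ₁Xf)
        have hlt : K.index * p ^ a < K.index * p ^ b := by rw [← ha1, ← hb1]; omega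
        have hab : a < b := by
          by_contra hcon
          push Not at hcon
          have : K.index * p ^ b ≤ K.index * p ^ a :=
            Nat.mul_le_mul_left _ (Nat.pow_le_pow_right hp.pos hcon)
          omega
        refine ⟨?_, ?_⟩
        · rw [ha1, hb1]
          exact Nat.mul_dvd_mul_left _ (pow_dvd_pow p hab.le)
        · have hsum : ∑ φ' ∈ Xf.filter (fun φ => d φ ≤ t), ((d φ' : ℝ) ^ 2 / (n φ' : ℝ)) =
              ((∑ φ' ∈ Xf.filter (fun φ => d φ ≤ t), d φ' ^ 2 : ℕ) : ℝ) := by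
            push_cast
            refine Finset.sum_congr rfl fun φ' _ => ?_
            rw [hndef]; simp
          rw [hsum]
          have hfil : Xf.filter (fun φ => d φ ≤ t) = Xf.filter (fun φ => d φ < K.index * p ^ b) := by
            ext φ'
            rw [Finset.mem_filter, Finset.mem_filter, ← hb1, hφd]
            constructor
            · rintro ⟨h1, h2⟩; exact ⟨h1, by omega⟩
            · rintro ⟨h1, h2⟩; exact ⟨h1, by omega⟩
          have hge := sum_small_ge Xf d p K.index hp hep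
            (fun i hi => by obtain ⟨j, hj, -⟩ := hdj i ((hmem i).mp hi); exact ⟨j, hj⟩) b
            (hdvd b hb2) χ₁ hχ₁Xf (by rw [ha1]; exact hlt)
          rw [← hfil] at hge
          have harith := arith_66 K.index p a b he hp2 hab
          rw [ha1, hb1]
          have : 2 * (K.index * p ^ b) * (K.index * p ^ a) <
              ∑ φ' ∈ Xf.filter (fun φ => d φ ≤ t), d φ' ^ 2 := lt_of_lt_of_le harith hge
          exact_mod_cast this
      · -- all members have degree `t + 1`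
        have hsys' := coherenceSystem_subset hsys (hYX (t + 1)) hne' (hYc (t + 1))
        apply Cfsg.Agent.S1517.result _ τ R hsys'
        have hdeg : ∀ φ ∈ (↑(Xf.filter (fun φ => d φ ≤ t + 1)) : Set (L → ℂ)), d φ = t + 1 := by
          intro φ hφ
          obtain ⟨h1, h2⟩ := Finset.mem_filter.mp hφ
          by_contra hcon
          apply hYt
          exact ⟨φ, Finset.mem_filter.mpr ⟨h1, by omega⟩⟩
        intro φ hφ ψ hψ
        rw [hd φ (hYX _ hφ), hd ψ (hYX _ hψ), hdeg φ hφ, hdeg ψ hψ]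
  -- conclusion
  obtain ⟨T, hT⟩ : ∃ T : ℕ, ∀ φ ∈ Xf, d φ ≤ T := ⟨Xf.sup d, fun φ hφ => Finset.le_sup hφ⟩
  have hall : Xf.filter (fun φ => d φ ≤ T) = Xf := Finset.filter_true_of_mem hT
  have := key T (by
    rw [hall]
    obtain ⟨φ, hφ⟩ := hne
    exact ⟨φ, (hmem φ).mpr hφ⟩)
  rw [hall, hXf] at this
  exact this

end

end Cfsg.Agent.Lib.H8
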