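import Mathlib
import Cfsg.Prelude.Def_Characters
import Cfsg.Agent.Lib.L0.CharBasic
import Cfsg.Agent.Lib.L0.CharInner
import Cfsg.Agent.Lib.H24.CharBasic

set_option autoImplicit false

/-! # Functions that are irreducible characters up to sign -/

namespace Cfsg.Agent.Lib.H8

open scoped ComplexConjugate
open Cfsg.Agent.Lib.L0

variable {X : Type*} [Group X]

/-- A signed irreducible character has a sign. -/
theorem signedIrr_exists_sign {α : X → ℂ}
    (h : Cfsg.IsIrrCharacter X α ∨ Cfsg.IsIrrCharacter X (-α)) :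
    ∃ s : ℂ, (s = 1 ∨ s = -1) ∧ Cfsg.IsIrrCharacter X (s • α) := by
  rcases h with h | h
  · exact ⟨1, Or.inl rfl, by rwa [one_smul]⟩
  · exact ⟨-1, Or.inr rfl, by rwa [neg_one_smul]⟩

theorem signedIrr_apply_one_ne_zero {α : X → ℂ}
    (h : Cfsg.IsIrrCharacter X α ∨ Cfsg.IsIrrCharacter X (-α)) : α 1 ≠ 0 := by
  rcases h with h | h
  · exact Cfsg.Agent.Lib.H24.irr_one_ne_zero ⟨α, h⟩
  · have := Cfsg.Agent.Lib.H24.irr_one_ne_zero ⟨-α, h⟩
    simpa using this

variable [Fintype X]

/-- Two signed irreducible characters with nonzero inner product are proportional. -/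
theorem signedIrr_eq_smul_of_classInner_ne_zero {α γ : X → ℂ}
    (hα : Cfsg.IsIrrCharacter X α ∨ Cfsg.IsIrrCharacter X (-α))
    (hγ : Cfsg.IsIrrCharacter X γ ∨ Cfsg.IsIrrCharacter X (-γ))
    (h : Cfsg.classInner α γ ≠ 0) : α = Cfsg.classInner α γ • γ := by
  obtain ⟨s, hs, ha⟩ := signedIrr_exists_sign hα
  obtain ⟨t, ht, hc⟩ := signedIrr_exists_sign hγ
  have hs2 : s * s = 1 := by rcases hs with rfl | rfl <;> norm_num
  have ht2 : t * t = 1 := by rcases ht with rfl | rfl <;> norm_num
  have hct : conj t = t := by rcases ht with rfl | rfl <;> simp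
  have hα' : α = s • (s • α) := by rw [smul_smul, hs2, one_smul]
  have hγ' : γ = t • (t • γ) := by rw [smul_smul, ht2, one_smul]
  have hinner : Cfsg.classInner α γ = s * t * Cfsg.classInner (s • α) (t • γ) := by
    conv_lhs => rw [hα', hγ']
    rw [classInner_smul_left, classInner_smul_right, hct]
    ring
  have heq : s • α = t • γ := by
    by_contra hne
    apply h
    rw [hinner, irr_classInner_ne ha hc hne, mul_zero]
  rw [hinner, heq, irr_classInner_self hc, mul_one]
  calc α = s • (s • α) := hα'
    _ = s • (t • γ) := by rw [heq]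
    _ = (s * t) • γ := by rw [smul_smul]

/-- The inner product of two signed irreducible characters is `0`, `1` or `-1`. -/
theorem signedIrr_classInner_cases {α γ : X → ℂ}
    (hα : Cfsg.IsIrrCharacter X α ∨ Cfsg.IsIrrCharacter X (-α))
    (hγ : Cfsg.IsIrrCharacter X γ ∨ Cfsg.IsIrrCharacter X (-γ)) :
    Cfsg.classInner α γ = 0 ∨ Cfsg.classInner α γ = 1 ∨ Cfsg.classInner α γ = -1 := by
  obtain ⟨s, hs, ha⟩ := signedIrr_exists_sign hα
  obtain ⟨t, ht, hc⟩ := signedIrr_exists_sign hγ
  have hs2 : s * s = 1 := by rcases hs with rfl | rfl <;> norm_num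
  have ht2 : t * t = 1 := by rcases ht with rfl | rfl <;> norm_num
  have hct : conj t = t := by rcases ht with rfl | rfl <;> simp
  have hα' : α = s • (s • α) := by rw [smul_smul, hs2, one_smul]
  have hγ' : γ = t • (t • γ) := by rw [smul_smul, ht2, one_smul]
  have hinner : Cfsg.classInner α γ = s * t * Cfsg.classInner (s • α) (t • γ) := by
    conv_lhs => rw [hα', hγ']
    rw [classInner_smul_left, classInner_smul_right, hct]
    ring
  by_cases heq : s • α = t • γ
  · right
    rw [hinner, heq, irr_classInner_self hc, mul_one]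
    rcases hs with rfl | rfl <;> rcases ht with rfl | rfl <;> norm_num
  · left
    rw [hinner, irr_classInner_ne ha hc heq, mul_zero]

theorem signedIrr_classInner_self {α : X → ℂ}
    (hα : Cfsg.IsIrrCharacter X α ∨ Cfsg.IsIrrCharacter X (-α)) : Cfsg.classInner α α = 1 := by
  rcases hα with h | h
  · exact irr_classInner_self h
  · have := irr_classInner_self h
    rwa [classInner_neg_left, classInner_neg_right, neg_neg] at this

end Cfsg.Agent.Lib.H8
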