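import Mathlib
import Cfsg.Prelude
import Cfsg.Agent.Lib.H8.CyclicTI
import Cfsg.Agent.Lib.H8.CyclicTIChars
import Cfsg.Agent.Lib.H8.SignedIrr
import Cfsg.Agent.Lib.H8.GaloisClassFun

/-!
# Galois compatibility of a cyclic TI family (helper8)

`galois_compat`: for a cyclic TI family `χ` (`Cfsg.IsCyclicTIFamily`) attached to a
self-normalizing cyclic `W = W₁ × W₂` of odd order and `k` coprime to `|G|`:
`χ ω (g ^ k) = χ (ω ^ k) g`.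
-/

set_option autoImplicit false

namespace Cfsg.Agent.Lib.H8

open Cfsg.Agent.Lib.L0

/-- If two triples of signed irreducible characters have the same sum and `a₁` is orthogonal to
`a₂, a₃`, then `a₁` is one of the `b`'s. -/
theorem signedIrr_matching {X : Type*} [Group X] [Fintype X] {a₁ a₂ a₃ b₁ b₂ b₃ : X → ℂ}
    (ha₁ : Cfsg.IsIrrCharacter X a₁ ∨ Cfsg.IsIrrCharacter X (-a₁))
    (hb₁ : Cfsg.IsIrrCharacter X b₁ ∨ Cfsg.IsIrrCharacter X (-b₁))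
    (hb₂ : Cfsg.IsIrrCharacter X b₂ ∨ Cfsg.IsIrrCharacter X (-b₂))
    (hb₃ : Cfsg.IsIrrCharacter X b₃ ∨ Cfsg.IsIrrCharacter X (-b₃))
    (h12 : Cfsg.classInner a₁ a₂ = 0) (h13 : Cfsg.classInner a₁ a₃ = 0)
    (hsum : a₁ + a₂ + a₃ = b₁ + b₂ + b₃) : a₁ = b₁ ∨ a₁ = b₂ ∨ a₁ = b₃ := by
  have hs : Cfsg.classInner a₁ b₁ + Cfsg.classInner a₁ b₂ + Cfsg.classInner a₁ b₃ = 1 := by
    rw [← classInner_add_right, ← classInner_add_right, ← hsum, classInner_add_right,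
      classInner_add_right, h12, h13, signedIrr_classInner_self ha₁]
    ring
  have conc : ∀ b : X → ℂ, (Cfsg.IsIrrCharacter X b ∨ Cfsg.IsIrrCharacter X (-b)) →
      Cfsg.classInner a₁ b = 1 → a₁ = b := by
    intro b hb h1
    have := signedIrr_eq_smul_of_classInner_ne_zero ha₁ hb (by rw [h1]; exact one_ne_zero)
    rw [h1, one_smul] at this
    exact this
  rcases signedIrr_classInner_cases ha₁ hb₁ with h1 | h1 | h1 <;>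
  rcases signedIrr_classInner_cases ha₁ hb₂ with h2 | h2 | h2 <;>
  rcases signedIrr_classInner_cases ha₁ hb₃ with h3 | h3 | h3 <;>
  first
  | exact Or.inl (conc b₁ hb₁ h1)
  | exact Or.inr (Or.inl (conc b₂ hb₂ h2))
  | exact Or.inr (Or.inr (conc b₃ hb₃ h3))
  | (exfalso; rw [h1, h2, h3] at hs; norm_num at hs)

section

variable {G : Type*} [Group G] [Fintype G] {W₁ W₂ : Subgroup G}

theorem hom_apply_eq_one_of_pow {k : ℕ} (hk : k.Coprime (Nat.card G))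
    (φ : ↥(W₁ ⊔ W₂) →* ℂˣ) (w : ↥(W₁ ⊔ W₂)) (h : (φ w) ^ k = 1) : φ w = 1 := by
  have h1 : orderOf (φ w) ∣ k := orderOf_dvd_of_pow_eq_one h
  have h2 : orderOf (φ w) ∣ Nat.card G :=
    ((orderOf_map_dvd φ w).trans (orderOf_dvd_natCard w)).trans
      (Subgroup.card_subgroup_dvd_card _)
  have h3 : orderOf (φ w) = 1 := Nat.eq_one_of_dvd_coprimes hk h1 h2
  exact orderOf_eq_one_iff.mp h3

theorem hom_pow_ne_one {k : ℕ} (hk : k.Coprime (Nat.card G))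
    {φ : ↥(W₁ ⊔ W₂) →* ℂˣ} (hφ : φ ≠ 1) : φ ^ k ≠ 1 := by
  intro h
  apply hφ
  ext w
  have : (φ ^ k) w = 1 := by rw [h]; rfl
  rw [MonoidHom.pow_apply] at this
  rw [hom_apply_eq_one_of_pow hk φ w this]
  rfl

theorem sq_ne_one_of_odd (hodd : Odd (Nat.card ↥(W₁ ⊔ W₂))) {x : G} (hx : x ∈ W₁ ⊔ W₂)
    (hx1 : x ≠ 1) : x ^ 2 ≠ 1 := by
  intro h
  apply hx1
  have h1 : orderOf (⟨x, hx⟩ : ↥(W₁ ⊔ W₂)) ∣ 2 := by
    apply orderOf_dvd_of_pow_eq_one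
    apply Subtype.ext
    rw [Subgroup.coe_pow]; exact h
  have h2 : orderOf (⟨x, hx⟩ : ↥(W₁ ⊔ W₂)) ∣ Nat.card ↥(W₁ ⊔ W₂) := orderOf_dvd_natCard _
  have h3 : orderOf (⟨x, hx⟩ : ↥(W₁ ⊔ W₂)) = 1 :=
    Nat.eq_one_of_dvd_coprimes (Nat.coprime_two_left.mpr hodd) h1 h2
  have := orderOf_eq_one_iff.mp h3
  exact congrArg Subtype.val this

/-- The element `w₁ * w₂` of `W₁ ⊔ W₂`. -/
def mkW {w₁ w₂ : G} (h₁ : w₁ ∈ W₁) (h₂ : w₂ ∈ W₂) : ↥(W₁ ⊔ W₂) :=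
  ⟨w₁ * w₂, mul_mem (le_sup_left (b := W₂) h₁) (le_sup_right (a := W₁) h₂)⟩

theorem mkW_not_mem_left (hinf : W₁ ⊓ W₂ = ⊥) {w₁ w₂ : G} (h₁ : w₁ ∈ W₁) (h₂ : w₂ ∈ W₂)
    (hw₂ : w₂ ≠ 1) : ((mkW h₁ h₂ : ↥(W₁ ⊔ W₂)) : G) ∉ W₁ := by
  intro h
  apply hw₂
  have h3 : w₂ ∈ W₁ := by
    have := W₁.mul_mem (W₁.inv_mem h₁) h
    simpa [mkW] using this
  have : w₂ ∈ W₁ ⊓ W₂ := ⟨h3, h₂⟩
  rwa [hinf, Subgroup.mem_bot] at this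

theorem mkW_not_mem_right (hinf : W₁ ⊓ W₂ = ⊥) {w₁ w₂ : G} (h₁ : w₁ ∈ W₁) (h₂ : w₂ ∈ W₂)
    (hw₁ : w₁ ≠ 1) : ((mkW h₁ h₂ : ↥(W₁ ⊔ W₂)) : G) ∉ W₂ := by
  intro h
  apply hw₁
  have h3 : w₁ ∈ W₂ := by
    have := W₂.mul_mem h (W₂.inv_mem h₂)
    simpa [mkW] using this
  have : w₁ ∈ W₁ ⊓ W₂ := ⟨h₁, h3⟩
  rwa [hinf, Subgroup.mem_bot] at this

theorem apply_mkW_of_trivial_right {φ : ↥(W₁ ⊔ W₂) →* ℂˣ}
    (hφ : ∀ w : ↥(W₁ ⊔ W₂), (w : G) ∈ W₂ → φ w = 1) {w₁ w₂ : G} (h₁ : w₁ ∈ W₁) (h₂ : w₂ ∈ W₂) :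
    φ (mkW h₁ h₂) = φ ⟨w₁, le_sup_left (b := W₂) h₁⟩ := by
  have : (mkW h₁ h₂ : ↥(W₁ ⊔ W₂)) =
      ⟨w₁, le_sup_left (b := W₂) h₁⟩ * ⟨w₂, le_sup_right (a := W₁) h₂⟩ := rfl
  rw [this, map_mul, hφ ⟨w₂, _⟩ h₂, mul_one]

theorem apply_mkW_of_trivial_left {ψ : ↥(W₁ ⊔ W₂) →* ℂˣ}
    (hψ : ∀ w : ↥(W₁ ⊔ W₂), (w : G) ∈ W₁ → ψ w = 1) {w₁ w₂ : G} (h₁ : w₁ ∈ W₁) (h₂ : w₂ ∈ W₂) :
    ψ (mkW h₁ h₂) = ψ ⟨w₂, le_sup_right (a := W₁) h₂⟩ := by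
  have : (mkW h₁ h₂ : ↥(W₁ ⊔ W₂)) =
      ⟨w₁, le_sup_left (b := W₂) h₁⟩ * ⟨w₂, le_sup_right (a := W₁) h₂⟩ := rfl
  rw [this, map_mul, hψ ⟨w₁, _⟩ h₁, one_mul]

/-- Values of `χ ω` at `k`-th powers of elements of `W` outside `W₁ ∪ W₂`. -/
theorem family_apply_pow {χ : (↥(W₁ ⊔ W₂) →* ℂˣ) → (G → ℂ)} (hχ : Cfsg.IsCyclicTIFamily W₁ W₂ χ)
    {k : ℕ} (hk : k.Coprime (Nat.card G)) (ω : ↥(W₁ ⊔ W₂) →* ℂˣ) (w : ↥(W₁ ⊔ W₂))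
    (h1 : (w : G) ∉ W₁) (h2 : (w : G) ∉ W₂) :
    χ ω ((w : G) ^ k) = ((ω w : ℂˣ) : ℂ) ^ k := by
  have hc := coprime_orderOf_of_coprime_card hk (w : G)
  have h1' : ((w ^ k : ↥(W₁ ⊔ W₂)) : G) ∉ W₁ := by
    rw [Subgroup.coe_pow]
    exact fun h => h1 (mem_of_pow_mem_of_coprime hc h)
  have h2' : ((w ^ k : ↥(W₁ ⊔ W₂)) : G) ∉ W₂ := by
    rw [Subgroup.coe_pow]
    exact fun h => h2 (mem_of_pow_mem_of_coprime hc h)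
  have := hχ.eq_on ω (w ^ k) h1' h2'
  rw [Subgroup.coe_pow] at this
  rw [this, map_pow, Units.val_pow_eq_pow_val]

/-- A hom that is constantly `-1` (after `k`-th power) on the non-identity elements of a
nontrivial subgroup `V ≤ W` cannot exist when `|W|` is odd. -/
theorem no_const_neg_one (hodd : Odd (Nat.card ↥(W₁ ⊔ W₂))) (V : Subgroup G) (hV : V ≠ ⊥)
    (hVW : V ≤ W₁ ⊔ W₂) (θ : ↥(W₁ ⊔ W₂) →* ℂˣ) (k : ℕ)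
    (h : ∀ (v : G) (hv : v ∈ V), v ≠ 1 → ((θ ⟨v, hVW hv⟩ : ℂˣ) : ℂ) ^ k = -1) : False := by
  obtain ⟨v, hv1⟩ := (Subgroup.ne_bot_iff_exists_ne_one).mp hV
  have hv' : (v : G) ≠ 1 := fun h => hv1 (Subtype.ext h)
  have hsq := sq_ne_one_of_odd hodd (hVW v.2) hv'
  have e1 := h v v.2 hv'
  have e2 := h ((v : G) ^ 2) (V.pow_mem v.2 2) hsq
  have : (⟨(v : G) ^ 2, hVW (V.pow_mem v.2 2)⟩ : ↥(W₁ ⊔ W₂)) = ⟨v, hVW v.2⟩ ^ 2 := rfl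
  rw [this, map_pow, Units.val_pow_eq_pow_val, ← pow_mul, mul_comm, pow_mul, e1] at e2
  norm_num at e2

/-- The relation `φ(w₁)^k = ψ(w₂)^k` for all non-identity `w₁ ∈ W₁`, `w₂ ∈ W₂` is impossible for
`φ ≠ 1` trivial on `W₂`. -/
theorem no_relation (hW : Cfsg.IsSelfNormalizingCyclic W₁ W₂)
    (hodd : Odd (Nat.card ↥(W₁ ⊔ W₂))) {k : ℕ} (hk : k.Coprime (Nat.card G))
    {φ ψ : ↥(W₁ ⊔ W₂) →* ℂˣ} (hφ1 : φ ≠ 1)
    (hφ : ∀ w : ↥(W₁ ⊔ W₂), (w : G) ∈ W₂ → φ w = 1)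
    (h : ∀ (w₁ w₂ : G) (h₁ : w₁ ∈ W₁) (h₂ : w₂ ∈ W₂), w₁ ≠ 1 → w₂ ≠ 1 →
      ((φ ⟨w₁, le_sup_left (b := W₂) h₁⟩ : ℂˣ) : ℂ) ^ k =
        ((ψ ⟨w₂, le_sup_right (a := W₁) h₂⟩ : ℂˣ) : ℂ) ^ k) : False := by
  -- some w₁ with φ w₁ ≠ 1
  have hex : ∃ (w₁ : G) (h₁ : w₁ ∈ W₁), φ ⟨w₁, le_sup_left (b := W₂) h₁⟩ ≠ 1 := by
    by_contra hcon
    push Not at hcon
    apply hφ1
    apply monoidHom_ext_sup W₁ W₂
    · intro w hw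
      have := hcon (w : G) hw
      simpa using this
    · intro w hw
      rw [hφ w hw]; rfl
  obtain ⟨w₁, h₁, hne⟩ := hex
  have hw₁ : w₁ ≠ 1 := by
    rintro rfl
    apply hne
    have : (⟨1, le_sup_left (b := W₂) h₁⟩ : ↥(W₁ ⊔ W₂)) = 1 := rfl
    rw [this, map_one]
  have hsq := sq_ne_one_of_odd hodd (le_sup_left (b := W₂) h₁) hw₁
  obtain ⟨w₂, hw₂⟩ := (Subgroup.ne_bot_iff_exists_ne_one).mp hW.2.1
  have hw₂' : (w₂ : G) ≠ 1 := fun h => hw₂ (Subtype.ext h)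
  have e1 := h w₁ w₂ h₁ w₂.2 hw₁ hw₂'
  have e2 := h (w₁ ^ 2) w₂ (W₁.pow_mem h₁ 2) w₂.2 hsq hw₂'
  have : (⟨w₁ ^ 2, le_sup_left (b := W₂) (W₁.pow_mem h₁ 2)⟩ : ↥(W₁ ⊔ W₂)) =
      ⟨w₁, le_sup_left (b := W₂) h₁⟩ ^ 2 := rfl
  rw [this, map_pow, Units.val_pow_eq_pow_val, ← e1, ← pow_mul, mul_comm, pow_mul] at e2
  -- c ^ 2 = c
  set c : ℂ := ((φ ⟨w₁, le_sup_left (b := W₂) h₁⟩ : ℂˣ) : ℂ) ^ k with hc
  have hc0 : c ≠ 0 := pow_ne_zero _ (Units.ne_zero _)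
  have hc1 : c = 1 := by
    have : c * (c - 1) = 0 := by ring_nf; ring_nf at e2; linear_combination e2
    rcases mul_eq_zero.mp this with h0 | h0
    · exact absurd h0 hc0
    · linear_combination h0
  apply hne
  apply hom_apply_eq_one_of_pow hk
  apply Units.ext
  rw [Units.val_pow_eq_pow_val, Units.val_one]
  exact hc1

/-- The induction identity is compatible with `g ↦ g ^ k`. -/
theorem family_identity_pow {χ : (↥(W₁ ⊔ W₂) →* ℂˣ) → (G → ℂ)}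
    (hχ : Cfsg.IsCyclicTIFamily W₁ W₂ χ) {k : ℕ} (hk : k.Coprime (Nat.card G))
    {φ ψ : ↥(W₁ ⊔ W₂) →* ℂˣ} (hφ1 : φ ≠ 1) (hψ1 : ψ ≠ 1)
    (hφ : ∀ w : ↥(W₁ ⊔ W₂), (w : G) ∈ W₂ → φ w = 1)
    (hψ : ∀ w : ↥(W₁ ⊔ W₂), (w : G) ∈ W₁ → ψ w = 1) (g : G) :
    1 - χ φ (g ^ k) - χ ψ (g ^ k) + χ (φ * ψ) (g ^ k) =
      1 - χ (φ ^ k) g - χ (ψ ^ k) g + χ (φ ^ k * ψ ^ k) g := by
  have h1 := congrFun (hχ.induced_eq φ ψ hφ1 hψ1 hφ hψ) (g ^ k)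
  have hφk : ∀ w : ↥(W₁ ⊔ W₂), (w : G) ∈ W₂ → (φ ^ k) w = 1 := by
    intro w hw; rw [MonoidHom.pow_apply, hφ w hw, one_pow]
  have hψk : ∀ w : ↥(W₁ ⊔ W₂), (w : G) ∈ W₁ → (ψ ^ k) w = 1 := by
    intro w hw; rw [MonoidHom.pow_apply, hψ w hw, one_pow]
  have h2 := congrFun (hχ.induced_eq (φ ^ k) (ψ ^ k) (hom_pow_ne_one hk hφ1)
    (hom_pow_ne_one hk hψ1) hφk hψk) g
  rw [← h1, ← h2, indFun_comp_pow _ _ hk]
  congr 1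
  funext w
  rw [map_pow, map_pow, hom_pow_apply_coe, hom_pow_apply_coe, Units.val_pow_eq_pow_val,
    Units.val_pow_eq_pow_val]

/-- Galois compatibility for a pair `φ` (trivial on `W₂`), `ψ` (trivial on `W₁`), both
nontrivial. -/
theorem compat_pair (hW : Cfsg.IsSelfNormalizingCyclic W₁ W₂)
    (hodd : Odd (Nat.card ↥(W₁ ⊔ W₂))) {χ : (↥(W₁ ⊔ W₂) →* ℂˣ) → (G → ℂ)}
    (hχ : Cfsg.IsCyclicTIFamily W₁ W₂ χ) {k : ℕ} (hk : k.Coprime (Nat.card G))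
    {φ ψ : ↥(W₁ ⊔ W₂) →* ℂˣ} (hφ1 : φ ≠ 1) (hψ1 : ψ ≠ 1)
    (hφ : ∀ w : ↥(W₁ ⊔ W₂), (w : G) ∈ W₂ → φ w = 1)
    (hψ : ∀ w : ↥(W₁ ⊔ W₂), (w : G) ∈ W₁ → ψ w = 1) :
    (∀ g, χ φ (g ^ k) = χ (φ ^ k) g) ∧ (∀ g, χ ψ (g ^ k) = χ (ψ ^ k) g) ∧
      (∀ g, χ (φ * ψ) (g ^ k) = χ ((φ * ψ) ^ k) g) := by
  classical
  have hinf := hW.2.2.1
  -- distinctness
  have hφψ : φ ≠ ψ := by
    intro h
    apply hφ1
    apply monoidHom_ext_sup W₁ W₂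
    · intro w hw; rw [h, hψ w hw]; rfl
    · intro w hw; rw [hφ w hw]; rfl
  have hφφψ : φ ≠ φ * ψ := by
    intro h
    apply hψ1
    have : φ * 1 = φ * ψ := (mul_one φ).trans h
    exact (mul_left_cancel this).symm
  have hψφψ : ψ ≠ φ * ψ := by
    intro h
    apply hφ1
    have : 1 * ψ = φ * ψ := (one_mul ψ).trans h
    exact (mul_right_cancel this).symm
  set A₁ : G → ℂ := -fun g => χ φ (g ^ k) with hA₁
  set A₂ : G → ℂ := -fun g => χ ψ (g ^ k) with hA₂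
  set A₃ : G → ℂ := fun g => χ (φ * ψ) (g ^ k) with hA₃
  set B₁ : G → ℂ := -χ (φ ^ k) with hB₁
  set B₂ : G → ℂ := -χ (ψ ^ k) with hB₂
  set B₃ : G → ℂ := χ (φ ^ k * ψ ^ k) with hB₃
  have hsum : A₁ + A₂ + A₃ = B₁ + B₂ + B₃ := by
    funext g
    have := family_identity_pow hχ hk hφ1 hψ1 hφ hψ g
    simp only [hA₁, hA₂, hA₃, hB₁, hB₂, hB₃, Pi.add_apply, Pi.neg_apply]
    linear_combination this
  have neg_signed : ∀ f : G → ℂ, (Cfsg.IsIrrCharacter G f ∨ Cfsg.IsIrrCharacter G (-f)) →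
      (Cfsg.IsIrrCharacter G (-f) ∨ Cfsg.IsIrrCharacter G (- -f)) := by
    intro f hf
    rcases hf with h | h
    · right; rwa [neg_neg]
    · left; exact h
  have sA : ∀ ω, Cfsg.IsIrrCharacter G (fun g => χ ω (g ^ k)) ∨
      Cfsg.IsIrrCharacter G (-fun g => χ ω (g ^ k)) :=
    fun ω => signedIrr_galoisConj (hχ.irr_or_neg ω) hk
  have sA₁ := neg_signed _ (sA φ)
  have sA₂ := neg_signed _ (sA ψ)
  have sA₃ := sA (φ * ψ)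
  have sB₁ := neg_signed _ (hχ.irr_or_neg (φ ^ k))
  have sB₂ := neg_signed _ (hχ.irr_or_neg (ψ ^ k))
  have sB₃ := hχ.irr_or_neg (φ ^ k * ψ ^ k)
  have orth : ∀ ω ω', ω ≠ ω' →
      Cfsg.classInner (fun g => χ ω (g ^ k)) (fun g => χ ω' (g ^ k)) = 0 := by
    intro ω ω' hne
    rw [classInner_comp_pow _ _ k hk, hχ.orthonormal, if_neg hne]
  have h12 : Cfsg.classInner A₁ A₂ = 0 := by
    rw [hA₁, hA₂, classInner_neg_left, classInner_neg_right, neg_neg]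
    exact orth φ ψ hφψ
  have h13 : Cfsg.classInner A₁ A₃ = 0 := by
    rw [hA₁, hA₃, classInner_neg_left, orth φ (φ * ψ) hφφψ, neg_zero]
  have h21 : Cfsg.classInner A₂ A₁ = 0 := by
    rw [hA₁, hA₂, classInner_neg_left, classInner_neg_right, neg_neg]
    exact orth ψ φ hφψ.symm
  have h23 : Cfsg.classInner A₂ A₃ = 0 := by
    rw [hA₂, hA₃, classInner_neg_left, orth ψ (φ * ψ) hψφψ, neg_zero]
  -- evaluation at elements of W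
  obtain ⟨u₁, hu₁⟩ := (Subgroup.ne_bot_iff_exists_ne_one).mp hW.1
  have hu₁' : (u₁ : G) ≠ 1 := fun h => hu₁ (Subtype.ext h)
  obtain ⟨u₂, hu₂⟩ := (Subgroup.ne_bot_iff_exists_ne_one).mp hW.2.1
  have hu₂' : (u₂ : G) ≠ 1 := fun h => hu₂ (Subtype.ext h)
  have evalA : ∀ (ω : ↥(W₁ ⊔ W₂) →* ℂˣ) (w₁ w₂ : G) (h₁ : w₁ ∈ W₁) (h₂ : w₂ ∈ W₂), w₁ ≠ 1 →
      w₂ ≠ 1 → χ ω (((mkW h₁ h₂ : ↥(W₁ ⊔ W₂)) : G) ^ k) = ((ω (mkW h₁ h₂) : ℂˣ) : ℂ) ^ k :=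
    fun ω w₁ w₂ h₁ h₂ hw₁ hw₂ => family_apply_pow hχ hk ω _
      (mkW_not_mem_left hinf h₁ h₂ hw₂) (mkW_not_mem_right hinf h₁ h₂ hw₁)
  have evalB : ∀ (ω : ↥(W₁ ⊔ W₂) →* ℂˣ) (w₁ w₂ : G) (h₁ : w₁ ∈ W₁) (h₂ : w₂ ∈ W₂), w₁ ≠ 1 →
      w₂ ≠ 1 → χ ω ((mkW h₁ h₂ : ↥(W₁ ⊔ W₂)) : G) = ((ω (mkW h₁ h₂) : ℂˣ) : ℂ) :=
    fun ω w₁ w₂ h₁ h₂ hw₁ hw₂ => hχ.eq_on ω _
      (mkW_not_mem_left hinf h₁ h₂ hw₂) (mkW_not_mem_right hinf h₁ h₂ hw₁)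
  -- φ
  have hφres : A₁ = B₁ := by
    rcases signedIrr_matching sA₁ sB₁ sB₂ sB₃ h12 h13 hsum with h | h | h
    · exact h
    · exfalso
      apply no_relation hW hodd hk hφ1 hφ (ψ := ψ)
      intro w₁ w₂ h₁ h₂ hw₁ hw₂
      have e := congrFun h ((mkW h₁ h₂ : ↥(W₁ ⊔ W₂)) : G)
      simp only [hA₁, hB₂, Pi.neg_apply] at e
      rw [evalA φ w₁ w₂ h₁ h₂ hw₁ hw₂, evalB (ψ ^ k) w₁ w₂ h₁ h₂ hw₁ hw₂, hom_pow_apply_coe,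
        apply_mkW_of_trivial_right hφ, apply_mkW_of_trivial_left hψ] at e
      exact neg_injective e
    · exfalso
      apply no_const_neg_one hodd W₂ hW.2.1 le_sup_right ψ k
      intro v hv hv1
      have e := congrFun h ((mkW u₁.2 hv : ↥(W₁ ⊔ W₂)) : G)
      simp only [hA₁, hB₃, Pi.neg_apply] at e
      rw [evalA φ u₁ v u₁.2 hv hu₁' hv1, evalB (φ ^ k * ψ ^ k) u₁ v u₁.2 hv hu₁' hv1,
        MonoidHom.mul_apply, Units.val_mul, hom_pow_apply_coe, hom_pow_apply_coe,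
        apply_mkW_of_trivial_right hφ, apply_mkW_of_trivial_left hψ] at e
      have hc0 : ((φ ⟨(u₁ : G), le_sup_left (b := W₂) u₁.2⟩ : ℂˣ) : ℂ) ^ k ≠ 0 :=
        pow_ne_zero _ (Units.ne_zero _)
      have : ((φ ⟨(u₁ : G), le_sup_left (b := W₂) u₁.2⟩ : ℂˣ) : ℂ) ^ k *
          (((ψ ⟨v, le_sup_right (a := W₁) hv⟩ : ℂˣ) : ℂ) ^ k + 1) = 0 := by
        linear_combination -e
      rcases mul_eq_zero.mp this with h0 | h0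
      · exact absurd h0 hc0
      · linear_combination h0
  -- ψ
  have hsum' : A₂ + A₁ + A₃ = B₁ + B₂ + B₃ := by rw [add_comm A₂ A₁]; exact hsum
  have hψres : A₂ = B₂ := by
    rcases signedIrr_matching sA₂ sB₁ sB₂ sB₃ h21 h23 hsum' with h | h | h
    · exfalso
      apply no_relation hW hodd hk hφ1 hφ (ψ := ψ)
      intro w₁ w₂ h₁ h₂ hw₁ hw₂
      have e := congrFun h ((mkW h₁ h₂ : ↥(W₁ ⊔ W₂)) : G)
      simp only [hA₂, hB₁, Pi.neg_apply] at e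
      rw [evalA ψ w₁ w₂ h₁ h₂ hw₁ hw₂, evalB (φ ^ k) w₁ w₂ h₁ h₂ hw₁ hw₂, hom_pow_apply_coe,
        apply_mkW_of_trivial_right hφ, apply_mkW_of_trivial_left hψ] at e
      exact (neg_injective e).symm
    · exact h
    · exfalso
      apply no_const_neg_one hodd W₁ hW.1 le_sup_left φ k
      intro v hv hv1
      have e := congrFun h ((mkW hv u₂.2 : ↥(W₁ ⊔ W₂)) : G)
      simp only [hA₂, hB₃, Pi.neg_apply] at e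
      rw [evalA ψ v u₂ hv u₂.2 hv1 hu₂', evalB (φ ^ k * ψ ^ k) v u₂ hv u₂.2 hv1 hu₂',
        MonoidHom.mul_apply, Units.val_mul, hom_pow_apply_coe, hom_pow_apply_coe,
        apply_mkW_of_trivial_right hφ, apply_mkW_of_trivial_left hψ] at e
      have hc0 : ((ψ ⟨(u₂ : G), le_sup_right (a := W₁) u₂.2⟩ : ℂˣ) : ℂ) ^ k ≠ 0 :=
        pow_ne_zero _ (Units.ne_zero _)
      have : ((ψ ⟨(u₂ : G), le_sup_right (a := W₁) u₂.2⟩ : ℂˣ) : ℂ) ^ k *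
          (((φ ⟨v, le_sup_left (b := W₂) hv⟩ : ℂˣ) : ℂ) ^ k + 1) = 0 := by
        linear_combination -e
      rcases mul_eq_zero.mp this with h0 | h0
      · exact absurd h0 hc0
      · linear_combination h0
  have hres3 : A₃ = B₃ := by
    rw [hφres, hψres] at hsum
    exact add_left_cancel hsum
  refine ⟨fun g => ?_, fun g => ?_, fun g => ?_⟩
  · have := congrFun hφres g
    simp only [hA₁, hB₁, Pi.neg_apply] at this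
    exact neg_injective this
  · have := congrFun hψres g
    simp only [hA₂, hB₂, Pi.neg_apply] at this
    exact neg_injective this
  · have := congrFun hres3 g
    simp only [hA₃, hB₃] at this
    have e : (φ * ψ) ^ k = φ ^ k * ψ ^ k := mul_pow φ ψ k
    rw [e]
    exact this

/-- **Galois compatibility** of a cyclic TI family: `χ ω (g ^ k) = χ (ω ^ k) g` for `k` coprime
to `|G|`. -/
theorem galois_compat (hW : Cfsg.IsSelfNormalizingCyclic W₁ W₂)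
    (hodd : Odd (Nat.card ↥(W₁ ⊔ W₂))) {χ : (↥(W₁ ⊔ W₂) →* ℂˣ) → (G → ℂ)}
    (hχ : Cfsg.IsCyclicTIFamily W₁ W₂ χ) {k : ℕ} (hk : k.Coprime (Nat.card G))
    (ω : ↥(W₁ ⊔ W₂) →* ℂˣ) (g : G) : χ ω (g ^ k) = χ (ω ^ k) g := by
  obtain ⟨φ, ψ, hφ, hψ, rfl⟩ := exists_decomp_hom hW ω
  by_cases hφ1 : φ = 1
  · by_cases hψ1 : ψ = 1
    · subst hφ1; subst hψ1
      have e1 : ((1 : ↥(W₁ ⊔ W₂) →* ℂˣ) * 1) = 1 := one_mul (1 : ↥(W₁ ⊔ W₂) →* ℂˣ)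
      have e2 : (1 : ↥(W₁ ⊔ W₂) →* ℂˣ) ^ k = 1 := by
        apply MonoidHom.ext
        intro w
        rw [MonoidHom.pow_apply, MonoidHom.one_apply, one_pow]
      rw [e1, e2, hχ.map_one]
    · subst hφ1
      obtain ⟨φ₀, hφ₀1, hφ₀⟩ := exists_ne_one_trivial_right hW
      have e1 : ((1 : ↥(W₁ ⊔ W₂) →* ℂˣ) * ψ) = ψ := one_mul ψ
      rw [e1]
      exact (compat_pair hW hodd hχ hk hφ₀1 hψ1 hφ₀ hψ).2.1 g
  · by_cases hψ1 : ψ = 1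
    · subst hψ1
      obtain ⟨ψ₀, hψ₀1, hψ₀⟩ := exists_ne_one_trivial_left hW
      have e1 : (φ * (1 : ↥(W₁ ⊔ W₂) →* ℂˣ)) = φ := mul_one φ
      rw [e1]
      exact (compat_pair hW hodd hχ hk hφ1 hψ₀1 hφ hψ₀).1 g
    · exact (compat_pair hW hodd hχ hk hφ1 hψ1 hφ hψ).2.2 g

end

end Cfsg.Agent.Lib.H8
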