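import Mathlib
import Cfsg.Prelude.Def_Solvable
import Cfsg.Prelude.Def_CaseTheorems
import Cfsg.Agent.Lib.L0.D8Cent
import Cfsg.Agent.Lib.H16.ThompsonTransfer
import Cfsg.Agent.Lib.L0.CyclicSylowTwo
import Cfsg.Agent.Lib.H22.PPrimeCore

/-!
# Groups with an involution whose centralizer is dihedral of order 8 (helper8)

Part A: generalities and the case of no fusion (normal 2-complement).
-/

set_option autoImplicit false

namespace Cfsg.Agent.Lib.H8.DEight

open DihedralGroup Subgroup Cfsg.Agent.Lib.L0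

variable {G : Type*} [Group G]

/-- A Sylow `2`-subgroup and a normal subgroup of odd order and `2`-power index generate `G`;
hence so do the Sylow subgroup and `O(G)`. -/
theorem sylow_sup_oddCore_eq_top [Finite G] (S : Sylow 2 G) (K : Subgroup G) (hK : K.Normal)
    (hodd : (Nat.card K).Coprime 2) (j : ℕ) (hidx : K.index = 2 ^ j) :
    (S : Subgroup G) ⊔ Cfsg.oddCore G = ⊤ := by
  haveI : Fact (Nat.Prime 2) := ⟨Nat.prime_two⟩
  have hKle : K ≤ Cfsg.oddCore G := Cfsg.Agent.Lib.H22.le_pPrimeCore 2 K hK hodd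
  have h1 : (S : Subgroup G) ⊔ K = ⊤ := by
    rw [← Subgroup.index_eq_one]
    have hd1 : ((S : Subgroup G) ⊔ K).index ∣ (S : Subgroup G).index :=
      Subgroup.index_dvd_of_le le_sup_left
    have hd2 : ((S : Subgroup G) ⊔ K).index ∣ 2 ^ j := by
      rw [← hidx]; exact Subgroup.index_dvd_of_le le_sup_right
    obtain ⟨i, -, hi⟩ := (Nat.dvd_prime_pow Nat.prime_two).mp hd2
    rcases Nat.eq_zero_or_pos i with h0 | hpos
    · rw [hi, h0, pow_zero]
    · exfalso
      apply S.not_dvd_index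
      refine dvd_trans ?_ hd1
      rw [hi]
      exact dvd_pow_self 2 hpos.ne'
  rw [eq_top_iff, ← h1]
  exact sup_le_sup_left hKle _

theorem d8_r_of_sq : ∀ i : ZMod 4, (r i : DihedralGroup 4) * r i = 1 →
    (r i : DihedralGroup 4) ≠ 1 → i = 2 := by decide

theorem d8_cases' : ∀ x : DihedralGroup 4, (∃ i, x = r i) ∨ (∃ i, x = sr i) := by
  intro x; cases x with
  | r i => exact Or.inl ⟨i, rfl⟩
  | sr i => exact Or.inr ⟨i, rfl⟩

theorem mem_zpowers_r_one (i : ZMod 4) : (r i : DihedralGroup 4) ∈ zpowers (r 1 : DihedralGroup 4) := by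
  refine ⟨(i.val : ℤ), ?_⟩
  show (r 1 : DihedralGroup 4) ^ ((i.val : ℕ) : ℤ) = r i
  rw [r_one_zpow]
  congr 1
  simp

theorem of_mem_zpowers_r_one {y : DihedralGroup 4} (hy : y ∈ zpowers (r 1 : DihedralGroup 4)) :
    ∃ i, y = r i := by
  obtain ⟨k, rfl⟩ := hy
  exact ⟨(k : ZMod 4), r_one_zpow k⟩

theorem index_zpowers_r_one : (zpowers (r 1 : DihedralGroup 4)).index = 2 := by
  have h1 := (zpowers (r 1 : DihedralGroup 4)).card_mul_index
  rw [Nat.card_zpowers, DihedralGroup.orderOf_r_one, DihedralGroup.nat_card] at h1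
  omega

/-- conjugates of `sr 0` and `sr 1` -/
theorem d8_conj_sr : ∀ i : ZMod 4, (∃ y : DihedralGroup 4, sr i = y * sr 0 * y⁻¹) ∨
    (∃ y : DihedralGroup 4, sr i = y * sr 1 * y⁻¹) := by decide

section

variable [Finite G] {φ : DihedralGroup 4 →* G}

/-- The image of the rotation subgroup. -/
def rot (φ : DihedralGroup 4 →* G) : Subgroup G := (zpowers (r 1 : DihedralGroup 4)).map φ

theorem mem_rot_iff {g : G} : g ∈ rot φ ↔ ∃ i, g = φ (r i) := by
  unfold rot
  rw [Subgroup.mem_map]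
  constructor
  · rintro ⟨y, hy, rfl⟩
    obtain ⟨i, rfl⟩ := of_mem_zpowers_r_one hy
    exact ⟨i, rfl⟩
  · rintro ⟨i, rfl⟩
    exact ⟨r i, mem_zpowers_r_one i, rfl⟩

theorem rot_relIndex (h : D8Cent φ) (S : Sylow 2 G)
    (hS : (S : Subgroup G) = centralizer ({φ (r 2)} : Set G)) :
    (rot φ).relIndex (S : Subgroup G) = 2 := by
  have h1 : (S : Subgroup G) = (⊤ : Subgroup (DihedralGroup 4)).map φ := by
    rw [hS, ← h.range_eq, MonoidHom.range_eq_map]
  rw [h1, rot, Subgroup.relIndex_map_map_of_injective _ _ h.inj, Subgroup.relIndex_top_right,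
    index_zpowers_r_one]

/-- Thompson transfer for a noncentral involution of `C` not fused to the central one. -/
theorem exists_index_two_of_not_isConj (h : D8Cent φ) (i : ZMod 4)
    (hi : ¬ IsConj (φ (sr i)) (φ (r 2))) :
    ∃ K : Subgroup G, K.Normal ∧ K.index = 2 ∧ φ (sr i) ∉ K := by
  obtain ⟨S, hS⟩ := h.exists_sylow
  apply Cfsg.Agent.Lib.H16.exists_normal_index_two_not_mem S (rot φ) (rot_relIndex h S hS) 1
  · intro y _ hyM
    rw [Nat.sub_self, pow_zero]
    have hpos : 0 < orderOf y := orderOf_pos y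
    have hne : orderOf y ≠ 1 := by
      intro h1
      rw [orderOf_eq_one_iff] at h1
      apply hyM
      rw [h1]; exact (rot φ).one_mem
    omega
  · rw [h.orderOf_eq, DihedralGroup.orderOf_sr, pow_one]
  · intro g hg
    obtain ⟨j, hj⟩ := mem_rot_iff.mp hg
    have hsq : (r j : DihedralGroup 4) * r j = 1 := by
      apply h.inj
      rw [map_mul, ← hj, map_one]
      have : (sr i : DihedralGroup 4) * sr i = 1 := sr_mul_self i
      calc g * φ (sr i) * g⁻¹ * (g * φ (sr i) * g⁻¹) = g * (φ (sr i) * φ (sr i)) * g⁻¹ := by group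
        _ = 1 := by rw [← map_mul, this, map_one]; group
    have hne : (r j : DihedralGroup 4) ≠ 1 := by
      intro h1
      rw [h1, map_one] at hj
      have : φ (sr i) = 1 := by
        have := congrArg (fun x => g⁻¹ * x * g) hj
        simpa [mul_assoc] using this
      have h2 : (sr i : DihedralGroup 4) = 1 := h.inj (by rw [this, map_one])
      exact absurd h2 (by intro h3; cases h3)
    have hj2 := d8_r_of_sq j hsq hne
    rw [hj2] at hj
    exact hi (isConj_iff.mpr ⟨g, hj⟩)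

theorem orderOf_conj' (g x : G) : orderOf (g * x * g⁻¹) = orderOf x := by
  have := (MulAut.conj g).orderOf_eq x
  simpa [MulAut.conj_apply] using this

/-- **Case A** (no fusion of the noncentral involutions of `C` into the centre): `G = C O(G)`. -/
theorem caseA (h : D8Cent φ) (h0 : ¬ IsConj (φ (sr 0)) (φ (r 2)))
    (h1 : ¬ IsConj (φ (sr 1)) (φ (r 2))) :
    centralizer ({φ (r 2)} : Set G) ⊔ Cfsg.oddCore G = ⊤ := by
  haveI : Fact (Nat.Prime 2) := ⟨Nat.prime_two⟩
  obtain ⟨S, hS⟩ := h.exists_sylow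
  obtain ⟨N₁, hN₁, hN₁i, ha⟩ := exists_index_two_of_not_isConj h 0 h0
  obtain ⟨N₂, hN₂, hN₂i, hb⟩ := exists_index_two_of_not_isConj h 1 h1
  set N := N₁ ⊓ N₂ with hN
  have hNn : N.Normal := Subgroup.normal_inf_normal N₁ N₂
  have hsr : ∀ i, φ (sr i) ∉ N := by
    intro i hi
    rcases d8_conj_sr i with ⟨y, hy⟩ | ⟨y, hy⟩
    · apply ha
      have : φ (sr 0) = (φ y)⁻¹ * φ (sr i) * (φ y)⁻¹⁻¹ := by
        rw [hy]; simp [mul_assoc]
      rw [this]; exact hN₁.conj_mem _ hi.1 _
    · apply hb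
      have : φ (sr 1) = (φ y)⁻¹ * φ (sr i) * (φ y)⁻¹⁻¹ := by
        rw [hy]; simp [mul_assoc]
      rw [this]; exact hN₂.conj_mem _ hi.2 _
  have hNC : ∀ g ∈ N, g ∈ centralizer ({φ (r 2)} : Set G) → g ∈ rot φ := by
    intro g hgN hgC
    rw [← h.range_eq] at hgC
    obtain ⟨y, rfl⟩ := hgC
    rcases d8_cases' y with ⟨i, rfl⟩ | ⟨i, rfl⟩
    · exact mem_rot_iff.mpr ⟨i, rfl⟩
    · exact absurd hgN (hsr i)
  have hNidx : ∃ j, N.index = 2 ^ j := by
    have e1 : N.relIndex N₂ * N₂.index = N.index := Subgroup.relIndex_mul_index inf_le_right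
    have e2 : N.relIndex N₂ = N₁.relIndex N₂ := Subgroup.inf_relIndex_right N₁ N₂
    have e3 : N₁.relIndex N₂ ∣ 2 := hN₁i ▸ Subgroup.relIndex_dvd_index_of_normal N₁ N₂
    rcases (Nat.dvd_prime Nat.prime_two).mp e3 with h' | h'
    · exact ⟨1, by rw [← e1, e2, h', hN₂i]; norm_num⟩
    · exact ⟨2, by rw [← e1, e2, h', hN₂i]; norm_num⟩
  obtain ⟨j, hj⟩ := hNidx
  rw [← hS]
  by_cases h2 : 2 ∣ Nat.card N
  · obtain ⟨Q⟩ : Nonempty (Sylow 2 N) := inferInstance
    have hQ : IsCyclic (Q : Subgroup N) := by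
      obtain ⟨P, hP⟩ := (Q.2.map N.subtype).exists_le_sylow
      obtain ⟨g, hg⟩ := MulAction.exists_smul_eq G S P
      have hle : (Q : Subgroup N).map N.subtype ≤ zpowers (g * φ (r 1) * g⁻¹) := by
        intro q hq
        have hqN : q ∈ N := by
          obtain ⟨q', -, rfl⟩ := hq
          exact q'.2
        have hqP := hP hq
        rw [← hg, Sylow.coe_subgroup_smul, Subgroup.mem_smul_pointwise_iff_exists] at hqP
        obtain ⟨s, hsS, hsq⟩ := hqP
        rw [MulAut.smul_def, MulAut.conj_apply] at hsq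
        have hsN : s ∈ N := by
          have : s = g⁻¹ * q * g⁻¹⁻¹ := by rw [← hsq]; group
          rw [this]; exact hNn.conj_mem _ hqN _
        have hsrot := hNC s hsN (hS ▸ hsS)
        unfold rot at hsrot
        rw [MonoidHom.map_zpowers] at hsrot
        obtain ⟨k, hk⟩ := hsrot
        refine ⟨k, ?_⟩
        simp only at hk ⊢
        rw [conj_zpow, hk, hsq]
      haveI : IsCyclic ((Q : Subgroup N).map N.subtype) := Subgroup.isCyclic_of_le hle
      exact ((Subgroup.equivMapOfInjective (Q : Subgroup N) N.subtype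
        N.subtype_injective).isCyclic).mpr inferInstance
    obtain ⟨K, hKn, hKc, hKmem⟩ :=
      Cfsg.Agent.Lib.L0.exists_odd_normal_complement_of_cyclic_sylow Q hQ h2
    obtain ⟨k, hk⟩ := Q.2.exists_card_eq
    have hKcard : (Nat.card K).Coprime 2 := by
      rw [← hKc.index_eq_card]
      exact ((Nat.Prime.coprime_iff_not_dvd Nat.prime_two).mpr Q.not_dvd_index).symm
    have hKidx : K.index = 2 ^ k := by
      rw [hKc.symm.index_eq_card, hk]
    apply sylow_sup_oddCore_eq_top S (K.map N.subtype) ?_ ?_ (k + j) ?_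
    · constructor
      intro n hn g
      obtain ⟨n', hn', rfl⟩ := hn
      have hmem : g * (n' : G) * g⁻¹ ∈ N := hNn.conj_mem _ n'.2 _
      refine ⟨⟨_, hmem⟩, ?_, rfl⟩
      show (⟨g * (n' : G) * g⁻¹, hmem⟩ : N) ∈ K
      rw [hKmem, Subgroup.orderOf_mk, orderOf_conj', Subgroup.orderOf_coe]
      exact (hKmem n').mp hn'
    · rw [Subgroup.card_map_of_injective N.subtype_injective]
      exact hKcard
    · have e1 := Subgroup.relIndex_mul_index (Subgroup.map_subtype_le K)
      rw [← e1, hj, pow_add, Subgroup.relIndex, Subgroup.subgroupOf,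
        Subgroup.comap_map_eq_self_of_injective N.subtype_injective, hKidx]
  · exact sylow_sup_oddCore_eq_top S N hNn
      ((Nat.Prime.coprime_iff_not_dvd Nat.prime_two).mpr h2).symm j hj

end

end Cfsg.Agent.Lib.H8.DEight
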