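import Cfsg.Agent.Lib.H8.DEightA
import Cfsg.Agent.Lib.H16.WielandtFormula
import Cfsg.Agent.Lib.H5.ConjCount

/-!
# Groups with an involution whose centralizer is dihedral of order 8 (helper8)

Part B: the four-group `V = ⟨z, a⟩`, the normalizer of `C`, and triviality of odd normal subgroups
when `a` is fused to `z`.
-/

set_option autoImplicit false

namespace Cfsg.Agent.Lib.H8.DEight

open DihedralGroup Subgroup Cfsg.Agent.Lib.L0

variable {G : Type*} [Group G] {φ : DihedralGroup 4 →* G}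

theorem d8_klein : ∀ y : DihedralGroup 4, y * sr 0 = sr 0 * y ↔
    y = 1 ∨ y = r 2 ∨ y = sr 0 ∨ y = sr 2 := by decide

theorem d8_klein_comm : ∀ y y' : DihedralGroup 4, y * sr 0 = sr 0 * y → y' * sr 0 = sr 0 * y' →
    y * y' = y' * y := by decide

theorem d8_klein_sq : ∀ y : DihedralGroup 4, y * sr 0 = sr 0 * y → y * y = 1 := by decide

theorem d8_klein_index : (centralizer ({sr 0} : Set (DihedralGroup 4))).index = 2 := by
  rw [Subgroup.index_eq_two_iff]
  refine ⟨sr 1, ?_⟩
  have : ∀ b : DihedralGroup 4, Xor (b * sr 1 * sr 0 = sr 0 * (b * sr 1)) (b * sr 0 = sr 0 * b) := by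
    decide
  intro b
  rw [mem_centralizer_singleton_iff, mem_centralizer_singleton_iff]
  exact this b

theorem d8_klein_card : Nat.card (centralizer ({sr 0} : Set (DihedralGroup 4))) = 4 := by
  have h1 := (centralizer ({sr 0} : Set (DihedralGroup 4))).card_mul_index
  rw [d8_klein_index, DihedralGroup.nat_card] at h1
  omega

/-- The four-group `⟨z, a⟩` inside `C`. -/
def klein (φ : DihedralGroup 4 →* G) : Subgroup G :=
  (centralizer ({sr 0} : Set (DihedralGroup 4))).map φ

theorem mem_klein_iff {g : G} : g ∈ klein φ ↔ ∃ y, y * sr 0 = sr 0 * y ∧ φ y = g := by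
  unfold klein
  rw [Subgroup.mem_map]
  constructor
  · rintro ⟨y, hy, rfl⟩
    exact ⟨y, mem_centralizer_singleton_iff.mp hy, rfl⟩
  · rintro ⟨y, hy, rfl⟩
    exact ⟨y, mem_centralizer_singleton_iff.mpr hy, rfl⟩

theorem mem_klein_iff' {g : G} :
    g ∈ klein φ ↔ g = 1 ∨ g = φ (r 2) ∨ g = φ (sr 0) ∨ g = φ (sr 2) := by
  rw [mem_klein_iff]
  constructor
  · rintro ⟨y, hy, rfl⟩
    rcases (d8_klein y).mp hy with rfl | rfl | rfl | rfl
    · left; exact map_one φ
    · right; left; rfl
    · right; right; left; rfl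
    · right; right; right; rfl
  · rintro (rfl | rfl | rfl | rfl)
    · exact ⟨1, by decide, map_one φ⟩
    · exact ⟨r 2, by decide, rfl⟩
    · exact ⟨sr 0, by decide, rfl⟩
    · exact ⟨sr 2, by decide, rfl⟩

theorem klein_card (h : D8Cent φ) : Nat.card (klein φ) = 4 := by
  unfold klein
  rw [Subgroup.card_map_of_injective h.inj, d8_klein_card]

theorem klein_isEpp (h : D8Cent φ) : Cfsg.Agent.Lib.H16.IsEpp 2 (klein φ) where
  comm := by
    intro a ha b hb
    obtain ⟨y, hy, rfl⟩ := mem_klein_iff.mp ha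
    obtain ⟨y', hy', rfl⟩ := mem_klein_iff.mp hb
    rw [← map_mul, ← map_mul, d8_klein_comm y y' hy hy']
  exp := by
    intro a ha
    obtain ⟨y, hy, rfl⟩ := mem_klein_iff.mp ha
    rw [pow_two, ← map_mul, d8_klein_sq y hy, map_one]
  card := by rw [klein_card h]; norm_num

theorem klein_le_centralizer (h : D8Cent φ) : klein φ ≤ centralizer ({φ (r 2)} : Set G) := by
  intro g hg
  obtain ⟨y, -, rfl⟩ := mem_klein_iff.mp hg
  exact h.mem_centralizer y

/-- the centralizer of the four-group is the four-group -/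
theorem centralizer_klein_le (h : D8Cent φ) : centralizer (klein φ : Set G) ≤ klein φ := by
  intro g hg
  rw [Subgroup.mem_centralizer_iff] at hg
  have h1 : g * φ (r 2) = φ (r 2) * g :=
    (hg _ (mem_klein_iff'.mpr (Or.inr (Or.inl rfl)))).symm
  have h2 : g * φ (sr 0) = φ (sr 0) * g :=
    (hg _ (mem_klein_iff'.mpr (Or.inr (Or.inr (Or.inl rfl))))).symm
  obtain ⟨y, rfl⟩ := h.surj g h1
  refine mem_klein_iff.mpr ⟨y, ?_, rfl⟩
  apply h.inj
  rw [map_mul, map_mul, h2]

/-- `N_G(C) = C`. -/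
theorem normalizer_le (h : D8Cent φ) :
    normalizer (centralizer ({φ (r 2)} : Set G) : Set G) ≤ centralizer ({φ (r 2)} : Set G) := by
  intro n hn
  rw [Subgroup.mem_normalizer_iff] at hn
  have hmem : n * φ (r 2) * n⁻¹ ∈ centralizer ({φ (r 2)} : Set G) :=
    (hn _).mp (h.mem_centralizer (r 2))
  rw [← h.range_eq] at hmem
  obtain ⟨y, hy⟩ := hmem
  have hyc : ∀ w, y * w = w * y := by
    intro w
    apply h.inj
    rw [map_mul, map_mul, hy]
    -- `n⁻¹ * φ w * n ∈ C`
    have hw : n⁻¹ * φ w * n ∈ centralizer ({φ (r 2)} : Set G) := by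
      rw [hn]
      have : n * (n⁻¹ * φ w * n) * n⁻¹ = φ w := by group
      rw [this]; exact h.mem_centralizer w
    rw [mem_centralizer_singleton_iff] at hw
    calc n * φ (r 2) * n⁻¹ * φ w = n * (φ (r 2) * (n⁻¹ * φ w * n)) * n⁻¹ := by group
      _ = n * ((n⁻¹ * φ w * n) * φ (r 2)) * n⁻¹ := by rw [hw]
      _ = φ w * (n * φ (r 2) * n⁻¹) := by group
  have hy1 : y ≠ 1 := by
    intro h1
    rw [h1, map_one] at hy
    have : φ (r 2) = 1 := by
      have := congrArg (fun x => n⁻¹ * x * n) hy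
      simpa [mul_assoc] using this.symm
    exact h.t_ne_one this
  have hy2 := d8_central y hyc hy1
  rw [hy2] at hy
  rw [mem_centralizer_singleton_iff]
  calc n * φ (r 2) = (n * φ (r 2) * n⁻¹) * n := by group
    _ = φ (r 2) * n := by rw [← hy]

section

variable [Finite G]

/-- the centralizer of a conjugate of `z` meets a subgroup of odd order trivially -/
theorem inf_centralizer_conj_eq_bot (h : D8Cent φ) (K : Subgroup G) (hK : (Nat.card K).Coprime 2)
    (v : G) (hv : IsConj (φ (r 2)) v) : K ⊓ centralizer ({v} : Set G) = ⊥ := by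
  obtain ⟨g, hg⟩ := isConj_iff.mp hv
  have hle : K ⊓ centralizer ({v} : Set G) ≤
      (centralizer ({φ (r 2)} : Set G)).map (MulAut.conj g).toMonoidHom := by
    intro x hx
    refine ⟨g⁻¹ * x * g, ?_, ?_⟩
    · have := (Subgroup.mem_inf.mp hx).2
      rw [mem_centralizer_singleton_iff] at this
      rw [SetLike.mem_coe, mem_centralizer_singleton_iff]
      rw [← hg] at this
      calc g⁻¹ * x * g * φ (r 2) = g⁻¹ * (x * (g * φ (r 2) * g⁻¹)) * g := by group
        _ = g⁻¹ * ((g * φ (r 2) * g⁻¹) * x) * g := by rw [this]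
        _ = φ (r 2) * (g⁻¹ * x * g) := by group
    · simp only [MulEquiv.coe_toMonoidHom, MulAut.conj_apply]
      group
  have hcard : Nat.card ((centralizer ({φ (r 2)} : Set G)).map (MulAut.conj g).toMonoidHom) = 8 := by
    rw [Subgroup.card_map_of_injective (MulAut.conj g).injective, h.card_centralizer]
  have hd1 : Nat.card (K ⊓ centralizer ({v} : Set G) : Subgroup G) ∣ 8 := by
    rw [← hcard]; exact Subgroup.card_dvd_of_le hle
  have hd2 : Nat.card (K ⊓ centralizer ({v} : Set G) : Subgroup G) ∣ Nat.card K :=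
    Subgroup.card_dvd_of_le inf_le_left
  have hcop : (Nat.card (K ⊓ centralizer ({v} : Set G) : Subgroup G)).Coprime 8 := by
    have : (Nat.card K).Coprime 8 := by
      have : (8 : ℕ) = 2 ^ 3 := by norm_num
      rw [this]; exact hK.pow_right 3
    exact Nat.Coprime.coprime_dvd_left hd2 this
  have h1 : Nat.card (K ⊓ centralizer ({v} : Set G) : Subgroup G) = 1 :=
    Nat.eq_one_of_dvd_coprimes hcop dvd_rfl hd1
  exact Subgroup.card_eq_one.mp h1

theorem d8_conj_sr2 : (sr 2 : DihedralGroup 4) = r 1 * sr 0 * (r 1)⁻¹ := by decide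

theorem d8_conj_sr3 : (sr 3 : DihedralGroup 4) = r 1 * sr 1 * (r 1)⁻¹ := by decide

theorem isConj_sr_two (i : ZMod 4) : IsConj (φ (sr i)) (φ (sr (i + 2))) := by
  rw [isConj_iff]
  refine ⟨φ (r 1), ?_⟩
  rw [← map_inv, ← map_mul, ← map_mul]
  congr 1
  revert i; decide

/-- if `a ~ z` then every nonidentity element of the four-group is conjugate to `z` -/
theorem isConj_of_mem_klein (ha : IsConj (φ (sr 0)) (φ (r 2))) {v : G} (hv : v ∈ klein φ)
    (hv1 : v ≠ 1) : IsConj (φ (r 2)) v := by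
  rcases mem_klein_iff'.mp hv with rfl | rfl | rfl | rfl
  · exact absurd rfl hv1
  · exact IsConj.refl _
  · exact ha.symm
  · exact ha.symm.trans (isConj_sr_two 0)

/-- if `a ~ z` then a subgroup of odd order normalized by the four-group is trivial -/
theorem odd_eq_bot_of_klein_le_normalizer (h : D8Cent φ) (ha : IsConj (φ (sr 0)) (φ (r 2)))
    (K : Subgroup G) (hK : (Nat.card K).Coprime 2) (hn : klein φ ≤ normalizer (K : Set G)) :
    K = ⊥ := by
  haveI : Fact (Nat.Prime 2) := ⟨Nat.prime_two⟩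
  have hK2 : ¬ 2 ∣ Nat.card K := by
    rw [← Nat.Prime.coprime_iff_not_dvd Nat.prime_two]; exact hK.symm
  have hW := Cfsg.Agent.Lib.H16.wielandt_formula (klein_isEpp h) K hK2 hn
  have hprod : ∏ a ∈ Cfsg.Agent.Lib.H16.nz (klein φ),
      Nat.card (K ⊓ centralizer {a} : Subgroup G) = 1 := by
    apply Finset.prod_eq_one
    intro a ha'
    obtain ⟨ha1, haK⟩ := Cfsg.Agent.Lib.H16.mem_nz.mp ha'
    rw [inf_centralizer_conj_eq_bot h K hK a (isConj_of_mem_klein ha haK ha1)]
    exact Subgroup.card_bot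
  rw [hprod] at hW
  have h1 : Nat.card K ^ (2 - 1) = 1 := Nat.eq_one_of_mul_eq_one_right hW
  rw [show 2 - 1 = 1 from rfl, pow_one] at h1
  exact Subgroup.card_eq_one.mp h1

end

end Cfsg.Agent.Lib.H8.DEight
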