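import Cfsg.Agent.Lib.H8.DEightB
import Cfsg.Agent.S0848
import Cfsg.Agent.S0495
import Cfsg.Agent.S0255
import Cfsg.Agent.S0497

/-!
# Groups with an involution whose centralizer is dihedral of order 8 (helper8)

Part C: all involutions of `C` fused: `G` is simple of order 168 or 360.
-/

set_option autoImplicit false

namespace Cfsg.Agent.Lib.H8.DEight

open DihedralGroup Subgroup Cfsg.Agent.Lib.L0
open scoped commutatorElement

variable {G : Type*} [Group G] [Finite G] {φ : DihedralGroup 4 →* G}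

theorem d8_sr_zero_mul : ∀ i : ZMod 4, (r i : DihedralGroup 4) = sr 0 * sr i := by decide

/-- In the fully fused case every involution of `G` is conjugate to `z`. -/
theorem isConj_of_involution (h : D8Cent φ) (ha : IsConj (φ (sr 0)) (φ (r 2)))
    (hb : IsConj (φ (sr 1)) (φ (r 2))) (u : G) (hu : orderOf u = 2) : IsConj (φ (r 2)) u := by
  haveI : Fact (Nat.Prime 2) := ⟨Nat.prime_two⟩
  obtain ⟨S, hS⟩ := h.exists_sylow
  obtain ⟨x, hx⟩ := Cfsg.Agent.S1255.exists_conj_mem_sylow S u hu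
  rw [hS, ← h.range_eq] at hx
  obtain ⟨y, hy⟩ := hx
  have hxu : IsConj u (φ y) := isConj_iff.mpr ⟨x, hy.symm⟩
  refine IsConj.trans ?_ hxu.symm
  have hord : orderOf (φ y) = 2 := by rw [hy, orderOf_conj', hu]
  have hsq : y * y = 1 := by
    apply h.inj
    rw [map_mul, map_one, ← pow_two, ← hord, pow_orderOf_eq_one]
  have hne : y ≠ 1 := by
    intro h1
    rw [h1, map_one, orderOf_one] at hord
    omega
  rcases d8_cases' y with ⟨i, rfl⟩ | ⟨i, rfl⟩
  · rw [d8_r_of_sq i hsq hne]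
  · have h4 : ∀ i : ZMod 4, i = 0 ∨ i = 1 ∨ i = 0 + 2 ∨ i = 1 + 2 := by decide
    rcases h4 i with rfl | rfl | rfl | rfl
    · exact ha.symm
    · exact hb.symm
    · exact ha.symm.trans (isConj_sr_two 0)
    · exact hb.symm.trans (isConj_sr_two 1)

/-- In the fully fused case a normal subgroup of even order is everything. -/
theorem normal_even_eq_top (h : D8Cent φ) (ha : IsConj (φ (sr 0)) (φ (r 2)))
    (hb : IsConj (φ (sr 1)) (φ (r 2))) (M : Subgroup G) [hM : M.Normal]
    (h2 : 2 ∣ Nat.card M) : M = ⊤ := by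
  haveI : Fact (Nat.Prime 2) := ⟨Nat.prime_two⟩
  obtain ⟨S, hS⟩ := h.exists_sylow
  obtain ⟨u, hu⟩ := exists_prime_orderOf_dvd_card' 2 h2
  have hu' : orderOf (u : G) = 2 := by rw [Subgroup.orderOf_coe, hu]
  have hzM : φ (r 2) ∈ M := by
    obtain ⟨g, hg⟩ := isConj_iff.mp (isConj_of_involution h ha hb _ hu').symm
    rw [← hg]; exact hM.conj_mem _ u.2 _
  have hinv : ∀ v : G, orderOf v = 2 → v ∈ M := by
    intro v hv
    obtain ⟨g, hg⟩ := isConj_iff.mp (isConj_of_involution h ha hb v hv)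
    rw [← hg]; exact hM.conj_mem _ hzM _
  have hsr : ∀ i, φ (sr i) ∈ M := fun i => hinv _ (by rw [h.orderOf_eq, orderOf_sr])
  have hCM : centralizer ({φ (r 2)} : Set G) ≤ M := by
    intro g hg
    rw [← h.range_eq] at hg
    obtain ⟨y, rfl⟩ := hg
    rcases d8_cases' y with ⟨i, rfl⟩ | ⟨i, rfl⟩
    · rw [d8_sr_zero_mul i, map_mul]
      exact M.mul_mem (hsr 0) (hsr i)
    · exact hsr i
  have hSM : (S : Subgroup G) ≤ M := hS ▸ hCM
  have hfr := Sylow.normalizer_sup_eq_top (S.subtype hSM)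
  rw [Sylow.coe_subtype, Subgroup.subgroupOf_map_subtype, inf_eq_left.mpr hSM, hS] at hfr
  rw [eq_top_iff, ← hfr]
  exact sup_le ((normalizer_le h).trans hCM) le_rfl

/-- In the fully fused case `G` is simple. -/
theorem isSimpleGroup_of_fused (h : D8Cent φ) (ha : IsConj (φ (sr 0)) (φ (r 2)))
    (hb : IsConj (φ (sr 1)) (φ (r 2))) : IsSimpleGroup G := by
  haveI : Nontrivial G := ⟨⟨φ (r 2), 1, h.t_ne_one⟩⟩
  refine ⟨fun M hM => ?_⟩
  by_cases h2 : 2 ∣ Nat.card M
  · right; exact normal_even_eq_top h ha hb M h2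
  · left
    apply odd_eq_bot_of_klein_le_normalizer h ha M
      ((Nat.Prime.coprime_iff_not_dvd Nat.prime_two).mpr h2).symm
    rw [Subgroup.normalizer_eq_top]
    exact le_top

theorem commutator_eq_top_of_fused (h : D8Cent φ) (ha : IsConj (φ (sr 0)) (φ (r 2)))
    (hb : IsConj (φ (sr 1)) (φ (r 2))) : commutator G = ⊤ := by
  haveI := isSimpleGroup_of_fused h ha hb
  rcases (inferInstance : (commutator G).Normal).eq_bot_or_eq_top with h0 | h1
  · exfalso
    have hmem : ⁅φ (sr 0), φ (sr 1)⁆ ∈ commutator G := by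
      rw [_root_.commutator_def]
      exact Subgroup.commutator_mem_commutator (Subgroup.mem_top _) (Subgroup.mem_top _)
    rw [h0, Subgroup.mem_bot, commutatorElement_eq_one_iff_mul_comm, ← map_mul, ← map_mul] at hmem
    have := h.inj hmem
    revert this; decide
  · exact h1

/-- **Case C** (both classes of noncentral involutions fused to the centre). -/
theorem caseC (h : D8Cent φ) (ha : IsConj (φ (sr 0)) (φ (r 2)))
    (hb : IsConj (φ (sr 1)) (φ (r 2))) :
    Nonempty (G ≃* Matrix.SpecialLinearGroup (Fin 3) (ZMod 2)) ∨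
      Nonempty (G ≃* ↥(alternatingGroup (Fin 6))) := by
  haveI := isSimpleGroup_of_fused h ha hb
  have hperf := commutator_eq_top_of_fused h ha hb
  let e : centralizer ({φ (r 2)} : Set G) ≃* DihedralGroup 4 :=
    (MulEquiv.subgroupCongr h.range_eq.symm).trans (MonoidHom.ofInjective h.inj).symm
  rcases Cfsg.Agent.S0848.result hperf (φ (r 2)) h.orderOf_t e with h168 | h360
  · left
    haveI : Fact (Nat.Prime 7) := ⟨by norm_num⟩
    haveI : Fact (Nat.Prime 2) := ⟨Nat.prime_two⟩
    obtain ⟨e1⟩ := Cfsg.Agent.S0495.result h168 (F := ZMod 7) (ZMod.card 7)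
    obtain ⟨e2⟩ := Cfsg.Agent.S0255.result (F := ZMod 7) (K := ZMod 2) (ZMod.card 7) (ZMod.card 2)
    let e3 : Matrix.ProjectiveSpecialLinearGroup (Fin 3) (ZMod 2) ≃*
        Matrix.SpecialLinearGroup (Fin 3) (ZMod 2) :=
      (QuotientGroup.quotientMulEquivOfEq Cfsg.Agent.S0255.center_SL3).trans
        QuotientGroup.quotientBot
    exact ⟨e1.trans (e2.trans e3)⟩
  · right
    exact Cfsg.Agent.S0497.result h360

end Cfsg.Agent.Lib.H8.DEight
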