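import Cfsg.Agent.Lib.H8.DEightB
import Cfsg.Agent.Lib.L0.TransferPC
import Cfsg.Agent.Lib.L0.DihedralKlein
import Cfsg.Agent.Lib.H5.S4Recog

/-!
# Groups with an involution whose centralizer is dihedral of order 8 (helper8)

Part D: one class fused (`a ~ z`, `b ≁ z`): the subgroup `N` of index two, and the cases where
`N` has a normal `2`-complement or a normal elementary abelian subgroup of order `2` or `4`.
-/

set_option autoImplicit false

namespace Cfsg.Agent.Lib.H8.DEight

open DihedralGroup Subgroup Cfsg.Agent.Lib.L0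

variable {G : Type*} [Group G] [Finite G] {φ : DihedralGroup 4 →* G}

theorem klein_relIndex (h : D8Cent φ) (S : Sylow 2 G)
    (hS : (S : Subgroup G) = centralizer ({φ (r 2)} : Set G)) :
    (klein φ).relIndex (S : Subgroup G) = 2 := by
  have h1 : (S : Subgroup G) = (⊤ : Subgroup (DihedralGroup 4)).map φ := by
    rw [hS, ← h.range_eq, MonoidHom.range_eq_map]
  rw [h1, klein, Subgroup.relIndex_map_map_of_injective _ _ h.inj, Subgroup.relIndex_top_right,
    d8_klein_index]

theorem d8_not_klein : ∀ y : DihedralGroup 4, y * sr 0 ≠ sr 0 * y →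
    ∃ v : DihedralGroup 4, v * sr 0 = sr 0 * v ∧ y * v = sr 1 := by decide

theorem d8_klein_conj : ∀ w y : DihedralGroup 4, y * sr 0 = sr 0 * y →
    (w * y * w⁻¹) * sr 0 = sr 0 * (w * y * w⁻¹) := by decide

/-- The data of case B: a normal subgroup of index two meeting `C` in the four-group. -/
structure BData (φ : DihedralGroup 4 →* G) (N : Subgroup G) : Prop where
  cent : D8Cent φ
  fused : IsConj (φ (sr 0)) (φ (r 2))
  normal : N.Normal
  index : N.index = 2
  mem_iff : ∀ y, φ y ∈ N ↔ y * sr 0 = sr 0 * y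

/-- Thompson transfer in case B. -/
theorem exists_bdata (h : D8Cent φ) (ha : IsConj (φ (sr 0)) (φ (r 2)))
    (hb : ¬ IsConj (φ (sr 1)) (φ (r 2))) : ∃ N : Subgroup G, BData φ N := by
  obtain ⟨S, hS⟩ := h.exists_sylow
  obtain ⟨N, hN, hNi, hbN⟩ := Cfsg.Agent.Lib.H16.exists_normal_index_two_not_mem S (klein φ)
    (klein_relIndex h S hS) 1 (by
      intro y _ hyM
      rw [Nat.sub_self, pow_zero]
      have hpos : 0 < orderOf y := orderOf_pos y
      have hne : orderOf y ≠ 1 := by
        intro h1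
        rw [orderOf_eq_one_iff] at h1
        apply hyM
        rw [h1]; exact (klein φ).one_mem
      omega) (φ (sr 1)) (by rw [h.orderOf_eq, DihedralGroup.orderOf_sr, pow_one]) (by
      intro g hg
      have hne : g * φ (sr 1) * g⁻¹ ≠ 1 := by
        intro h1
        have : φ (sr 1) = 1 := by
          have := congrArg (fun x => g⁻¹ * x * g) h1
          simpa [mul_assoc] using this
        have h2 : (sr 1 : DihedralGroup 4) = 1 := h.inj (by rw [this, map_one])
        exact absurd h2 (by decide)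
      have h1 := isConj_of_mem_klein ha hg hne
      have h2 : IsConj (φ (sr 1)) (g * φ (sr 1) * g⁻¹) := isConj_iff.mpr ⟨g, rfl⟩
      exact hb (h2.trans h1.symm))
  refine ⟨N, h, ha, hN, hNi, ?_⟩
  have hz : φ (r 2) ∈ N := by
    have := Subgroup.sq_mem_of_index_two hNi (φ (r 1))
    rw [← map_pow] at this
    have h2 : (r 1 : DihedralGroup 4) ^ 2 = r 2 := by decide
    rwa [h2] at this
  have ha' : φ (sr 0) ∈ N := by
    obtain ⟨g, hg⟩ := isConj_iff.mp ha.symm
    rw [← hg]; exact hN.conj_mem _ hz _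
  intro y
  constructor
  · intro hy
    by_contra hcon
    obtain ⟨v, hv, hyv⟩ := d8_not_klein y hcon
    apply hbN
    rw [← hyv, map_mul]
    refine N.mul_mem hy ?_
    rcases (d8_klein v).mp hv with rfl | rfl | rfl | rfl
    · rw [map_one]; exact N.one_mem
    · exact hz
    · exact ha'
    · have : (sr 2 : DihedralGroup 4) = sr 0 * r 2 := by decide
      rw [this, map_mul]; exact N.mul_mem ha' hz
  · intro hy
    rcases (d8_klein y).mp hy with rfl | rfl | rfl | rfl
    · rw [map_one]; exact N.one_mem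
    · exact hz
    · exact ha'
    · have : (sr 2 : DihedralGroup 4) = sr 0 * r 2 := by decide
      rw [this, map_mul]; exact N.mul_mem ha' hz

namespace BData

variable {N : Subgroup G}

theorem mem_iff_klein (d : BData φ N) {g : G} (hg : g ∈ centralizer ({φ (r 2)} : Set G)) :
    g ∈ N ↔ g ∈ klein φ := by
  rw [← d.cent.range_eq] at hg
  obtain ⟨y, rfl⟩ := hg
  rw [d.mem_iff, mem_klein_iff]
  constructor
  · intro hy; exact ⟨y, hy, rfl⟩
  · rintro ⟨y', hy', he⟩
    rw [← d.cent.inj he]; exact hy'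

theorem klein_le (d : BData φ N) : klein φ ≤ N := by
  intro g hg
  exact (d.mem_iff_klein (klein_le_centralizer d.cent hg)).mpr hg

theorem sr_one_not_mem (d : BData φ N) : φ (sr 1) ∉ N := by
  rw [d.mem_iff]; decide

/-- An involution of `N` is conjugate to `z`. -/
theorem isConj_of_mem (d : BData φ N) {u : G} (huN : u ∈ N) (hu : orderOf u = 2) :
    IsConj (φ (r 2)) u := by
  haveI : Fact (Nat.Prime 2) := ⟨Nat.prime_two⟩
  haveI := d.normal
  obtain ⟨S, hS⟩ := d.cent.exists_sylow
  obtain ⟨x, hx⟩ := Cfsg.Agent.S1255.exists_conj_mem_sylow S u hu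
  have hxN : x * u * x⁻¹ ∈ N := d.normal.conj_mem _ huN _
  rw [hS] at hx
  have hk := (d.mem_iff_klein hx).mp hxN
  have hne : x * u * x⁻¹ ≠ 1 := by
    intro h1
    have : orderOf (x * u * x⁻¹) = 2 := by rw [orderOf_conj', hu]
    rw [h1, orderOf_one] at this; omega
  exact (isConj_of_mem_klein d.fused hk hne).trans (isConj_iff.mpr ⟨x, rfl⟩).symm

/-- If `N` centralizes one of its involutions then `G = C`. -/
theorem centralizer_eq_top_of_central (d : BData φ N) {u : G} (huN : u ∈ N) (hu : orderOf u = 2)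
    (hc : N ≤ centralizer ({u} : Set G)) : centralizer ({φ (r 2)} : Set G) = ⊤ := by
  haveI : Fact (Nat.Prime 2) := ⟨Nat.prime_two⟩
  obtain ⟨S, hS⟩ := d.cent.exists_sylow
  obtain ⟨g, hg⟩ := isConj_iff.mp (d.isConj_of_mem huN hu)
  have hle : N ≤ (centralizer ({φ (r 2)} : Set G)).map (MulAut.conj g).toMonoidHom := by
    intro x hx
    refine ⟨g⁻¹ * x * g, ?_, ?_⟩
    · have := hc hx
      rw [mem_centralizer_singleton_iff] at this
      rw [SetLike.mem_coe, mem_centralizer_singleton_iff]
      rw [← hg] at this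
      calc g⁻¹ * x * g * φ (r 2) = g⁻¹ * (x * (g * φ (r 2) * g⁻¹)) * g := by group
        _ = g⁻¹ * ((g * φ (r 2) * g⁻¹) * x) * g := by rw [this]
        _ = φ (r 2) * (g⁻¹ * x * g) := by group
    · simp only [MulEquiv.coe_toMonoidHom, MulAut.conj_apply]
      group
  have hcard : Nat.card ((centralizer ({φ (r 2)} : Set G)).map (MulAut.conj g).toMonoidHom) = 8 := by
    rw [Subgroup.card_map_of_injective (MulAut.conj g).injective, d.cent.card_centralizer]
  have hd1 : Nat.card N ∣ 8 := by
    rw [← hcard]; exact Subgroup.card_dvd_of_le hle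
  have hG : Nat.card G = Nat.card N * 2 := by rw [← d.index, Subgroup.card_mul_index]
  have hG2 : Nat.card (centralizer ({φ (r 2)} : Set G)) *
      (centralizer ({φ (r 2)} : Set G)).index = Nat.card G := Subgroup.card_mul_index _
  rw [d.cent.card_centralizer, hG] at hG2
  have hodd : ¬ 2 ∣ (centralizer ({φ (r 2)} : Set G)).index := by
    rw [← hS]; exact S.not_dvd_index
  rw [← Subgroup.index_eq_one]
  have hle8 : Nat.card N ≤ 8 := Nat.le_of_dvd (by norm_num) hd1
  generalize (centralizer ({φ (r 2)} : Set G)).index = i at *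
  generalize Nat.card N = n at *
  interval_cases n <;> omega

end BData

/-- A Sylow `2`-subgroup and `O(G)` generate `G` when a normal subgroup of `2`-power index has a
normal `2`-complement. -/
theorem sylow_sup_oddCore_of_sub (S : Sylow 2 G) (N : Subgroup G) (hN : N.Normal) (j : ℕ)
    (hj : N.index = 2 ^ j) (K : Subgroup N) (hKn : K.Normal) (hK2 : ¬ 2 ∣ Nat.card K) (k : ℕ)
    (hk : K.index = 2 ^ k) : (S : Subgroup G) ⊔ Cfsg.oddCore G = ⊤ := by
  have hcop : (Nat.card K).Coprime 2 :=
    ((Nat.Prime.coprime_iff_not_dvd Nat.prime_two).mpr hK2).symm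
  apply sylow_sup_oddCore_eq_top S (K.map N.subtype) ?_ ?_ (k + j) ?_
  · constructor
    intro n hn g
    obtain ⟨n', hn', rfl⟩ := hn
    have hmem : g * (n' : G) * g⁻¹ ∈ N := hN.conj_mem _ n'.2 _
    refine ⟨⟨_, hmem⟩, ?_, rfl⟩
    show (⟨g * (n' : G) * g⁻¹, hmem⟩ : N) ∈ K
    apply mem_of_coprime_orderOf_of_index_pow K k hk
    rw [Subgroup.orderOf_mk, orderOf_conj', Subgroup.orderOf_coe]
    have : orderOf (⟨n', hn'⟩ : K) ∣ Nat.card K := orderOf_dvd_natCard _
    rw [Subgroup.orderOf_mk] at this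
    exact Nat.Coprime.coprime_dvd_left this hcop
  · rw [Subgroup.card_map_of_injective N.subtype_injective]
    exact hcop
  · have e1 := Subgroup.relIndex_mul_index (Subgroup.map_subtype_le K)
    rw [← e1, hj, pow_add, Subgroup.relIndex, Subgroup.subgroupOf,
      Subgroup.comap_map_eq_self_of_injective N.subtype_injective, hk]

namespace BData

variable {N : Subgroup G}

/-- Case B, `N` with a normal `2`-complement. -/
theorem of_npc (d : BData φ N) (hnpc : Cfsg.HasNormalPComplement 2 N) :
    centralizer ({φ (r 2)} : Set G) ⊔ Cfsg.oddCore G = ⊤ := by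
  haveI : Fact (Nat.Prime 2) := ⟨Nat.prime_two⟩
  obtain ⟨S, hS⟩ := d.cent.exists_sylow
  obtain ⟨K, hKn, hK2, k, hk⟩ := HasNormalPComplement.exists_normal hnpc
  rw [← hS]
  exact sylow_sup_oddCore_of_sub S N d.normal 1 (by rw [d.index, pow_one]) K hKn hK2 k hk

/-- Case B, `N` with a normal subgroup of order two. -/
theorem of_normal_two (d : BData φ N) (E : Subgroup N) (hE : E.Normal)
    (hEe : Cfsg.IsElementaryAbelian 2 E) (hc : Nat.card E = 2) :
    centralizer ({φ (r 2)} : Set G) = ⊤ := by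
  obtain ⟨e, he1, huniq⟩ := (Nat.card_eq_two_iff' (1 : E)).mp hc
  have he2 : (e : N) ^ 2 = 1 := hEe.2 _ e.2
  have he1' : (e : N) ≠ 1 := fun h => he1 (Subtype.ext h)
  have hord : orderOf ((e : N) : G) = 2 := by
    rw [Subgroup.orderOf_coe]
    exact orderOf_eq_prime he2 he1'
  apply d.centralizer_eq_top_of_central (e : N).2 hord
  intro n hn
  rw [mem_centralizer_singleton_iff]
  have hmem : (⟨n, hn⟩ : N) * (e : N) * (⟨n, hn⟩ : N)⁻¹ ∈ E := hE.conj_mem _ e.2 _
  have hne : (⟨_, hmem⟩ : E) ≠ 1 := by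
    intro h1
    have h2 : (⟨n, hn⟩ : N) * (e : N) * (⟨n, hn⟩ : N)⁻¹ = 1 := congrArg Subtype.val h1
    apply he1'
    have := congrArg (fun x => (⟨n, hn⟩ : N)⁻¹ * x * (⟨n, hn⟩ : N)) h2
    simpa [mul_assoc] using this
  have h3 := huniq _ hne
  have h4 : n * ((e : N) : G) * n⁻¹ = ((e : N) : G) := by
    have := congrArg (fun x : E => ((x : N) : G)) h3
    simpa using this
  calc n * ((e : N) : G) = (n * ((e : N) : G) * n⁻¹) * n := by group
    _ = ((e : N) : G) * n := by rw [h4]

end BData

end Cfsg.Agent.Lib.H8.DEight
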