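import Cfsg.Agent.Lib.H8.DEightD

/-!
# Groups with an involution whose centralizer is dihedral of order 8 (helper8)

Part E: case B with a normal four-subgroup of `N`: `G ≅ S₄`.
-/

set_option autoImplicit false

namespace Cfsg.Agent.Lib.H8.DEight

open DihedralGroup Subgroup Cfsg.Agent.Lib.L0

variable {G : Type*} [Group G] [Finite G] {φ : DihedralGroup 4 →* G}

namespace BData

variable {N : Subgroup G}

/-- If `N` has a normal subgroup of order four then `N` normalizes the four-group. -/
theorem klein_conj_mem_of_normal_four (d : BData φ N) (E : Subgroup N) (hE : E.Normal)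
    (hc : Nat.card E = 4) {n v : G} (hn : n ∈ N) (hv : v ∈ klein φ) : n * v * n⁻¹ ∈ klein φ := by
  haveI : Fact (Nat.Prime 2) := ⟨Nat.prime_two⟩
  obtain ⟨S, hS⟩ := d.cent.exists_sylow
  have hE2 : IsPGroup 2 (E.map N.subtype) := by
    apply IsPGroup.of_card (n := 2)
    rw [Subgroup.card_map_of_injective N.subtype_injective, hc]; norm_num
  obtain ⟨P, hP⟩ := hE2.exists_le_sylow
  obtain ⟨g, hg⟩ := MulAction.exists_smul_eq G S P
  have hle : E.map N.subtype ≤ (klein φ).map (MulAut.conj g).toMonoidHom := by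
    intro q hq
    have hqN : q ∈ N := by
      obtain ⟨q', -, rfl⟩ := hq
      exact q'.2
    have hqP := hP hq
    rw [← hg, Sylow.coe_subgroup_smul, Subgroup.mem_smul_pointwise_iff_exists] at hqP
    obtain ⟨s, hsS, hsq⟩ := hqP
    rw [MulAut.smul_def, MulAut.conj_apply] at hsq
    have hsN : s ∈ N := by
      have : s = g⁻¹ * q * g⁻¹⁻¹ := by rw [← hsq]; group
      rw [this]; exact d.normal.conj_mem _ hqN _
    rw [hS] at hsS
    exact ⟨s, (d.mem_iff_klein hsS).mp hsN, by simpa using hsq⟩
  have heq : E.map N.subtype = (klein φ).map (MulAut.conj g).toMonoidHom := by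
    apply Subgroup.eq_of_le_of_card_ge hle
    rw [Subgroup.card_map_of_injective (MulAut.conj g).injective,
      Subgroup.card_map_of_injective N.subtype_injective, hc, klein_card d.cent]
  -- `g v g⁻¹ ∈ E`
  have h1 : g * v * g⁻¹ ∈ E.map N.subtype := by
    rw [heq]; exact ⟨v, hv, by simp⟩
  obtain ⟨e, heE, hev⟩ := h1
  have hn' : g * n * g⁻¹ ∈ N := d.normal.conj_mem _ hn _
  have h2 : (⟨_, hn'⟩ : N) * e * (⟨_, hn'⟩ : N)⁻¹ ∈ E := hE.conj_mem _ heE _
  have h3 : (g * n * g⁻¹) * (g * v * g⁻¹) * (g * n * g⁻¹)⁻¹ ∈ E.map N.subtype := by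
    refine ⟨_, h2, ?_⟩
    rw [← hev]
    rfl
  rw [heq] at h3
  obtain ⟨w, hw, hwe⟩ := h3
  simp only [MulEquiv.coe_toMonoidHom, MulAut.conj_apply] at hwe
  have : n * v * n⁻¹ = w := by
    have h5 : g⁻¹ * (g * w * g⁻¹) * g =
        g⁻¹ * ((g * n * g⁻¹) * (g * v * g⁻¹) * (g * n * g⁻¹)⁻¹) * g := by rw [hwe]
    rw [show g⁻¹ * (g * w * g⁻¹) * g = w by group] at h5
    rw [h5]; group
  rw [this]; exact hw

theorem klein_conj_mem_of_mem_centralizer (d : BData φ N) {c v : G}
    (hc : c ∈ centralizer ({φ (r 2)} : Set G)) (hv : v ∈ klein φ) : c * v * c⁻¹ ∈ klein φ := by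
  rw [← d.cent.range_eq] at hc
  obtain ⟨w, rfl⟩ := hc
  obtain ⟨y, hy, rfl⟩ := mem_klein_iff.mp hv
  rw [← map_inv, ← map_mul, ← map_mul]
  exact mem_klein_iff.mpr ⟨_, d8_klein_conj w y hy, rfl⟩

/-- If `N` has a normal subgroup of order four then the four-group is normal in `G`. -/
theorem klein_normal_of_normal_four (d : BData φ N) (E : Subgroup N) (hE : E.Normal)
    (hc : Nat.card E = 4) : (klein φ).Normal := by
  constructor
  intro v hv g
  by_cases hg : g ∈ N
  · exact d.klein_conj_mem_of_normal_four E hE hc hg hv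
  · have hgb : g * φ (sr 1) ∈ N := by
      rw [Subgroup.mul_mem_iff_of_index_two d.index]
      exact ⟨fun h => absurd h hg, fun h => absurd h d.sr_one_not_mem⟩
    have h1 := d.klein_conj_mem_of_mem_centralizer (c := (φ (sr 1))⁻¹)
      (inv_mem (d.cent.mem_centralizer (sr 1))) hv
    have h2 := d.klein_conj_mem_of_normal_four E hE hc hgb h1
    have : g * v * g⁻¹ = g * φ (sr 1) * ((φ (sr 1))⁻¹ * v * (φ (sr 1))⁻¹⁻¹) * (g * φ (sr 1))⁻¹ := by
      group
    rw [this]; exact h2

theorem card_eq_of_klein_normal (d : BData φ N) (hK : (klein φ).Normal) : Nat.card G = 24 := by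
  have h1 := Cfsg.Agent.Lib.H5.ncard_conj_mul_card_centralizer (φ (r 2))
  rw [d.cent.card_centralizer] at h1
  have hset : {g : G | IsConj (φ (r 2)) g} = {φ (r 2), φ (sr 0), φ (sr 2)} := by
    ext v
    simp only [Set.mem_setOf_eq, Set.mem_insert_iff, Set.mem_singleton_iff]
    constructor
    · intro hv
      obtain ⟨g, hg⟩ := isConj_iff.mp hv
      have hmem : v ∈ klein φ := by
        rw [← hg]
        exact hK.conj_mem _ (mem_klein_iff'.mpr (Or.inr (Or.inl rfl))) _
      rcases mem_klein_iff'.mp hmem with rfl | h | h | h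
      · exfalso
        apply d.cent.t_ne_one
        have := congrArg (fun x => g⁻¹ * x * g) hg
        simpa [mul_assoc] using this
      · exact Or.inl h
      · exact Or.inr (Or.inl h)
      · exact Or.inr (Or.inr h)
    · rintro (rfl | rfl | rfl)
      · exact IsConj.refl _
      · exact d.fused.symm
      · exact d.fused.symm.trans (isConj_sr_two 0)
  have hn3 : ({φ (r 2), φ (sr 0), φ (sr 2)} : Set G).ncard = 3 := by
    rw [Set.ncard_eq_three]
    refine ⟨_, _, _, ?_, ?_, ?_, rfl⟩
    · intro h; exact absurd (d.cent.inj h) (by decide)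
    · intro h; exact absurd (d.cent.inj h) (by decide)
    · intro h; exact absurd (d.cent.inj h) (by decide)
  rw [hset, hn3] at h1
  omega

/-- Case B, `N` with a normal subgroup of order four: `G ≅ S₄`. -/
theorem of_normal_four (d : BData φ N) (E : Subgroup N) (hE : E.Normal)
    (hc : Nat.card E = 4) : Nonempty (G ≃* Equiv.Perm (Fin 4)) := by
  haveI hK := d.klein_normal_of_normal_four E hE hc
  have h24 := d.card_eq_of_klein_normal hK
  have hV : IsKleinFour (klein φ) := by
    apply Cfsg.Agent.Lib.L0.Dih.isKleinFour_of_card_of_mul_self (klein_card d.cent)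
    intro x
    apply Subtype.ext
    have := (klein_isEpp d.cent).exp x x.2
    rw [pow_two] at this
    simpa using this
  exact Cfsg.Agent.Lib.H5.S4Recog.nonempty_mulEquiv_perm_four h24 (klein φ) hV
    (centralizer_klein_le d.cent)

end BData

end Cfsg.Agent.Lib.H8.DEight
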