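import Cfsg.Agent.Lib.H8.DEightE
import Cfsg.Agent.Lib.H18.AutAlt
import Cfsg.Agent.S3277

/-!
# Groups with an involution whose centralizer is dihedral of order 8 (helper8)

Part F: case B concluded: `N ≅ A₅` gives `G ≅ S₅`.
-/

set_option autoImplicit false

namespace Cfsg.Agent.Lib.H8.DEight

open DihedralGroup Subgroup Cfsg.Agent.Lib.L0

variable {G : Type*} [Group G] [Finite G] {φ : DihedralGroup 4 →* G}

namespace BData

variable {N : Subgroup G}

/-- Case B, `N ≅ A₅`: `G ≅ S₅`. -/
theorem of_A5 (d : BData φ N) (e : N ≃* alternatingGroup (Fin 5)) :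
    Nonempty (G ≃* Equiv.Perm (Fin 5)) := by
  haveI := d.normal
  have hcardN : Nat.card N * 2 = Nat.card (Equiv.Perm (Fin 5)) := by
    rw [Nat.card_congr e.toEquiv, Nat.card_eq_fintype_card, Nat.card_eq_fintype_card, mul_comm,
      two_mul_card_alternatingGroup]
  have hcardG : Nat.card G = Nat.card (Equiv.Perm (Fin 5)) := by
    rw [← hcardN, ← d.index, Subgroup.card_mul_index]
  have h120 : Nat.card (Equiv.Perm (Fin 5)) = 120 := by
    rw [Nat.card_eq_fintype_card, Fintype.card_perm, Fintype.card_fin]; rfl
  have hinj : Function.Injective (MulAut.conjNormal (H := N) : G →* MulAut N) := by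
    rw [injective_iff_map_eq_one]
    intro g hg
    have hcomm : ∀ n ∈ N, g * n * g⁻¹ = n := by
      intro n hn
      have := congrArg (fun f : MulAut N => ((f ⟨n, hn⟩ : N) : G)) hg
      simpa [MulAut.conjNormal_apply] using this
    have hzN : φ (r 2) ∈ N := (d.mem_iff _).mpr (by decide)
    have haN : φ (sr 0) ∈ N := (d.mem_iff _).mpr (by decide)
    have hgk : g ∈ klein φ := by
      apply centralizer_klein_le d.cent
      rw [Subgroup.mem_centralizer_iff]
      intro v hv
      have := hcomm v (d.klein_le hv)
      calc v * g = (g * v * g⁻¹) * g := by rw [this]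
        _ = g * v := by group
    by_contra hg1
    have hord : orderOf g = 2 := by
      apply orderOf_eq_prime ((klein_isEpp d.cent).exp g hgk) hg1
    have hcen : N ≤ centralizer ({g} : Set G) := by
      intro n hn
      rw [mem_centralizer_singleton_iff]
      have := hcomm n hn
      calc n * g = (g * n * g⁻¹) * g := by rw [this]
        _ = g * n := by group
    have htop := d.centralizer_eq_top_of_central (d.klein_le hgk) hord hcen
    have h8 := d.cent.card_centralizer
    rw [htop, Subgroup.card_top, hcardG, h120] at h8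
    omega
  let e1 : Equiv.Perm (Fin 5) ≃* MulAut (alternatingGroup (Fin 5)) :=
    MulEquiv.ofBijective (MulAut.conjNormal : Equiv.Perm (Fin 5) →* MulAut (alternatingGroup (Fin 5)))
      (Cfsg.Agent.Lib.H18.conjNormal_alternating_bijective (by simp) (by simp))
  let F : G →* Equiv.Perm (Fin 5) :=
    e1.symm.toMonoidHom.comp ((MulAut.congr e).toMonoidHom.comp MulAut.conjNormal)
  have hFinj : Function.Injective F := by
    intro a b hab
    apply hinj
    apply (MulAut.congr e).injective
    apply e1.symm.injective
    exact hab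
  have hFbij : Function.Bijective F :=
    (Nat.bijective_iff_injective_and_card F).mpr ⟨hFinj, hcardG⟩
  exact ⟨MulEquiv.ofBijective F hFbij⟩

/-- **Case B** (`a ~ z`, `b ≁ z`). -/
theorem main (d : BData φ N) :
    centralizer ({φ (r 2)} : Set G) ⊔ Cfsg.oddCore G = ⊤ ∨ Nonempty (G ≃* Equiv.Perm (Fin 4)) ∨
      Nonempty (G ≃* Equiv.Perm (Fin 5)) := by
  by_cases hnpc : Cfsg.HasNormalPComplement 2 N
  · exact Or.inl (d.of_npc hnpc)
  by_cases hne : ∀ E : Subgroup N, E.Normal → Cfsg.IsElementaryAbelian 2 E →
      Nat.card E ≠ 2 ∧ Nat.card E ≠ 4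
  · right; right
    have hzN : φ (r 2) ∈ N := (d.mem_iff _).mpr (by decide)
    have hmem : ∀ n : N, n ∈ centralizer ({(⟨φ (r 2), hzN⟩ : N)} : Set N) ↔ (n : G) ∈ klein φ := by
      intro n
      rw [mem_centralizer_singleton_iff]
      constructor
      · intro hn
        have h1 : (n : G) * φ (r 2) = φ (r 2) * (n : G) := congrArg Subtype.val hn
        exact (d.mem_iff_klein (mem_centralizer_singleton_iff.mpr h1)).mp n.2
      · intro hn
        have h1 := klein_le_centralizer d.cent hn
        rw [mem_centralizer_singleton_iff] at h1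
        exact Subtype.ext h1
    obtain ⟨e⟩ := Cfsg.Agent.S3277.result (G := N) ⟨φ (r 2), hzN⟩
      (by rw [Subgroup.orderOf_mk]; exact d.cent.orderOf_t)
      (by
        have hmap : (centralizer ({(⟨φ (r 2), hzN⟩ : N)} : Set N)).map N.subtype = klein φ := by
          ext g
          constructor
          · rintro ⟨n, hn, rfl⟩
            exact (hmem n).mp hn
          · intro hg
            exact ⟨⟨g, d.klein_le hg⟩, (hmem _).mpr hg, rfl⟩
        rw [← Subgroup.card_map_of_injective N.subtype_injective, hmap, klein_card d.cent])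
      (by
        intro c hc
        have := (klein_isEpp d.cent).exp _ ((hmem c).mp hc)
        apply Subtype.ext
        simpa using this)
      hnpc hne
    exact d.of_A5 e
  · push Not at hne
    obtain ⟨E, hE, hEe, hcard⟩ := hne
    by_cases h2 : Nat.card E = 2
    · left
      rw [d.of_normal_two E hE hEe h2]
      exact top_sup_eq _
    · right; left
      exact d.of_normal_four E hE (hcard h2)

end BData

end Cfsg.Agent.Lib.H8.DEight
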