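import Cfsg.Agent.Lib.H8.DEightC
import Cfsg.Agent.Lib.H8.DEightF

/-!
# Groups with an involution whose centralizer is dihedral of order 8 (helper8)

Part G: assembly.  The symmetric sub-case (`b ~ z`, `a ≁ z`) is reduced to case B by the outer
automorphism of `D₈`.
-/

set_option autoImplicit false

namespace Cfsg.Agent.Lib.H8.DEight

open DihedralGroup Subgroup Cfsg.Agent.Lib.L0

/-- The outer automorphism of `D₈` exchanging the two classes of noncentral involutions. -/
def twist : DihedralGroup 4 →* DihedralGroup 4 where
  toFun x := match x with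
    | r i => r i
    | sr i => sr (i + 1)
  map_one' := by decide
  map_mul' := by decide

theorem twist_injective : Function.Injective twist := by
  have : ∀ x y : DihedralGroup 4, twist x = twist y → x = y := by decide
  exact fun x y h => this x y h

theorem twist_surjective : Function.Surjective twist := by
  have : ∀ y : DihedralGroup 4, ∃ x, twist x = y := by decide
  exact this

variable {G : Type*} [Group G] [Finite G] {φ : DihedralGroup 4 →* G}

theorem d8Cent_twist (h : D8Cent φ) : D8Cent (φ.comp twist) where
  inj := h.inj.comp twist_injective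
  surj := by
    intro g hg
    obtain ⟨y, hy⟩ := h.surj g hg
    obtain ⟨x, rfl⟩ := twist_surjective y
    exact ⟨x, hy⟩

/-- The main theorem in terms of an embedding `φ` of `D₈` onto the centralizer of `φ (r 2)`. -/
theorem main (h : D8Cent φ) :
    centralizer ({φ (r 2)} : Set G) ⊔ Cfsg.oddCore G = ⊤ ∨ Nonempty (G ≃* Equiv.Perm (Fin 4)) ∨
      Nonempty (G ≃* Equiv.Perm (Fin 5)) ∨
      Nonempty (G ≃* Matrix.SpecialLinearGroup (Fin 3) (ZMod 2)) ∨
      Nonempty (G ≃* ↥(alternatingGroup (Fin 6))) := by
  by_cases ha : IsConj (φ (sr 0)) (φ (r 2))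
  · by_cases hb : IsConj (φ (sr 1)) (φ (r 2))
    · rcases caseC h ha hb with h1 | h1
      · exact Or.inr (Or.inr (Or.inr (Or.inl h1)))
      · exact Or.inr (Or.inr (Or.inr (Or.inr h1)))
    · obtain ⟨N, d⟩ := exists_bdata h ha hb
      rcases d.main with h1 | h1 | h1
      · exact Or.inl h1
      · exact Or.inr (Or.inl h1)
      · exact Or.inr (Or.inr (Or.inl h1))
  · by_cases hb : IsConj (φ (sr 1)) (φ (r 2))
    · have h' := d8Cent_twist h
      have ha' : IsConj ((φ.comp twist) (sr 0)) ((φ.comp twist) (r 2)) := hb
      have hb' : ¬ IsConj ((φ.comp twist) (sr 1)) ((φ.comp twist) (r 2)) := by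
        intro hcon
        apply ha
        exact (isConj_sr_two (φ := φ) 0).trans hcon
      obtain ⟨N, d⟩ := exists_bdata h' ha' hb'
      rcases d.main with h1 | h1 | h1
      · exact Or.inl h1
      · exact Or.inr (Or.inl h1)
      · exact Or.inr (Or.inr (Or.inl h1))
    · exact Or.inl (caseA h ha hb)

end Cfsg.Agent.Lib.H8.DEight
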