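import Mathlib
import Cfsg.Prelude.Def_Classical
import Cfsg.Agent.Lib.H8.DGEng

/-!
# S3670 piece MK: `SU(3, F9)` has at least 13 conjugacy classes (helper8, for architect helper3)

Class invariant: `(trace g, g ^ 4 = 1)`; thirteen explicit elements with pairwise different invariants.
-/

set_option autoImplicit false
set_option maxRecDepth 100000

namespace Cfsg.Agent.Lib.H8.DG

open Matrix hiding SpecialLinearGroup
open Matrix (SpecialLinearGroup)
open Cfsg Cfsg.Agent.Lib.H14 Cfsg.Agent.Lib.H14.F9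

/-- the class invariant -/
def cinv (g : SU3) : F9 × Prop := (Matrix.trace (mat g), g ^ 4 = 1)

theorem cinv_conj {g g' : SU3} (h : IsConj g g') : cinv g = cinv g' := by
  obtain ⟨c, hc⟩ := isConj_iff.1 h
  subst hc
  unfold cinv
  refine Prod.ext ?_ ?_
  · show Matrix.trace (mat g) = Matrix.trace (mat (c * g * c⁻¹))
    rw [mat_mul, Matrix.trace_mul_comm, ← mat_mul, inv_mul_cancel_left]
  · show (g ^ 4 = 1) = ((c * g * c⁻¹) ^ 4 = 1)
    rw [conj_pow, conj_eq_one_iff]

/-- the computational class invariant -/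
def cinv' (m : M9) : F9 × Bool := (M9.trace m, decide (M9.pow m 4 = M9.one))

theorem cinv_mkSU (m : M9) (h : M9.suOK m) : cinv (mkSU m h) = ((cinv' m).1, (cinv' m).2 = true) := by
  unfold cinv cinv'
  refine Prod.ext ?_ ?_
  · show Matrix.trace (mat (mkSU m h)) = M9.trace m
    rw [mat_mkSU, M9.toMat_trace]
  · show (mkSU m h ^ 4 = 1) = (decide (M9.pow m 4 = M9.one) = true)
    rw [decide_eq_true_eq]
    apply propext
    constructor
    · intro h1
      by_contra h2
      exact mkSU_pow_ne_one m h 4 h2 h1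
    · intro h1
      exact mkSU_pow_eq_one m h 4 h1

/-- the thirteen class representatives -/
def els : Fin 13 → M9 := ![
  ⟨e10, e00, e00, e00, e10, e00, e00, e00, e10⟩,
  ⟨e20, e00, e00, e00, e20, e00, e00, e00, e10⟩,
  ⟨e00, e00, e01, e01, e00, e00, e00, e20, e00⟩,
  ⟨e00, e00, e01, e00, e10, e00, e01, e00, e00⟩,
  ⟨e02, e00, e00, e00, e02, e00, e00, e00, e20⟩,
  ⟨e01, e00, e00, e00, e01, e00, e00, e00, e20⟩,
  ⟨e10, e00, e00, e00, e21, e11, e00, e21, e22⟩,
  ⟨e00, e00, e01, e11, e11, e00, e11, e22, e00⟩,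
  ⟨e00, e00, e01, e11, e12, e00, e21, e22, e00⟩,
  ⟨e00, e00, e01, e00, e01, e00, e10, e00, e00⟩,
  ⟨e00, e00, e01, e00, e02, e00, e20, e00, e00⟩,
  ⟨e00, e00, e01, e11, e21, e00, e12, e22, e00⟩,
  ⟨e00, e00, e01, e11, e22, e00, e22, e22, e00⟩]

theorem els_ok : ∀ i, M9.suOK (els i) := by decide

theorem els_inj : ∀ i j : Fin 13, cinv' (els i) = cinv' (els j) → i = j := by decide

/-- **MK**. -/
theorem thirteen_le_card_conjClasses : 13 ≤ Nat.card (ConjClasses ↥(Cfsg.SU 3 F9 3)) := by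
  have hinj : Function.Injective (fun i : Fin 13 => ConjClasses.mk (mkSU (els i) (els_ok i))) := by
    intro i j hij
    have h1 : IsConj (mkSU (els i) (els_ok i)) (mkSU (els j) (els_ok j)) :=
      ConjClasses.mk_eq_mk_iff_isConj.1 hij
    have h2 := cinv_conj h1
    rw [cinv_mkSU, cinv_mkSU] at h2
    have h3 := (Prod.ext_iff.1 h2).1
    have h4 := (Prod.ext_iff.1 h2).2
    simp only at h3 h4
    apply els_inj
    refine Prod.ext h3 ?_
    have h5 : ((cinv' (els i)).2 = true) ↔ ((cinv' (els j)).2 = true) := by rw [h4]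
    exact Bool.eq_iff_iff.2 h5
  have := Nat.card_le_card_of_injective _ hinj
  simpa using this

end Cfsg.Agent.Lib.H8.DG
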