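import Mathlib
import Cfsg.Prelude.Def_ChevStructure
import Cfsg.Agent.Lib.H8.E8InvData

/-!
# Kernel evaluation of the rank certificates for the four involutions of `E₈`
-/

set_option autoImplicit false
set_option maxRecDepth 100000

namespace Cfsg.Agent.Lib.H8.E8Inv

open Cfsg.Agent.Lib.H29.Chev Cfsg.Agent.Lib.H8.ChevRank

theorem lb1 : chkLB fdE8 (wd rs1) (lbU1.map sv) lbP1 = true := by decide +kernel
theorem lb2 : chkLB fdE8 (wd rs2) (lbU2.map sv) lbP2 = true := by decide +kernel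
theorem lb3 : chkLB fdE8 (wd rs3) (lbU3.map sv) lbP3 = true := by decide +kernel
theorem lb4 : chkLB fdE8 (wd rs4) (lbU4.map sv) lbP4 = true := by decide +kernel

theorem ub1 : chkUB fdE8 (wd rs1) (ubK1.map sv) ubQ1 = true := by decide +kernel
theorem ub2 : chkUB fdE8 (wd rs2) (ubK2.map sv) ubQ2 = true := by decide +kernel
theorem ub3 : chkUB fdE8 (wd rs3) (ubK3.map sv) ubQ3 = true := by decide +kernel
theorem ub4 : chkUB fdE8 (wd rs4) (ubK4.map sv) ubQ4 = true := by decide +kernel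

theorem sq1 : chkSq fdE8 (wd rs1) = true := by decide +kernel
theorem sq2 : chkSq fdE8 (wd rs2) = true := by decide +kernel
theorem sq3 : chkSq fdE8 (wd rs3) = true := by decide +kernel
theorem sq4 : chkSq fdE8 (wd rs4) = true := by decide +kernel

theorem ndP1 : lbP1.Nodup := by decide +kernel
theorem ndP2 : lbP2.Nodup := by decide +kernel
theorem ndP3 : lbP3.Nodup := by decide +kernel
theorem ndP4 : lbP4.Nodup := by decide +kernel
theorem ndQ1 : ubQ1.Nodup := by decide +kernel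
theorem ndQ2 : ubQ2.Nodup := by decide +kernel
theorem ndQ3 : ubQ3.Nodup := by decide +kernel
theorem ndQ4 : ubQ4.Nodup := by decide +kernel

theorem lens : lbP1.length = 58 ∧ lbP2.length = 92 ∧ lbP3.length = 110 ∧ lbP4.length = 120 ∧
    ubQ1.length = 190 ∧ ubQ2.length = 156 ∧ ubQ3.length = 138 ∧ ubQ4.length = 128 := by decide +kernel

theorem wd_lt : (∀ x ∈ wd rs1, x.1 < fdE8.n) ∧ (∀ x ∈ wd rs2, x.1 < fdE8.n) ∧ (∀ x ∈ wd rs3, x.1 < fdE8.n) ∧
    (∀ x ∈ wd rs4, x.1 < fdE8.n) := by decide +kernel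

end Cfsg.Agent.Lib.H8.E8Inv
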