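import Mathlib
import Cfsg.Prelude.Def_ChevStructure
import Cfsg.Agent.Lib.H8.E8InvChk
import Cfsg.Agent.Lib.H29.ChevCert2
import Cfsg.Agent.Lib.H29.ChevGen13

/-!
# The four involutions `x₂₃₉(1)`, `x₂₃₂(1)x₂₃₃(1)`, `x₂₂₈(1)x₂₂₂(1)x₂₁₈(1)`, `x₂₂₆(1)x₂₂₀(1)x₂₁₃(1)x₂₁₆(1)` of `E₈(F)`,
`char F = 2`: membership, order two, and pairwise non-conjugacy (`rank (y - 1) = 58, 92, 110, 120`)
-/

set_option autoImplicit false
set_option linter.unusedSectionVars false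
set_option linter.unusedSimpArgs false
set_option linter.unusedVariables false

namespace Cfsg.Agent.Lib.H8.E8Inv

open Cfsg.Lie Matrix Cfsg.Agent.Lib.H29.Chev Cfsg.Agent.Lib.H8.ChevRank

theorem c2 : Cert2 chevE8 fdE8 fxE8 := fdE8_cert2

variable {F : Type*} [Field F]

/-- the matrix of the word of `x_r(1)`, `r ∈ rs` -/
noncomputable def Y (F : Type*) [Field F] (rs : List ℕ) : Matrix chevE8.Idx chevE8.Idx F :=
  wMat chevE8 (1 : F) 1 (wd rs)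

theorem Y_eq (rs : List ℕ) (hrs : ∀ r ∈ rs, r < fdE8.n) : Y F rs = (rs.map fun r => chevE8.x F r 1).prod :=
  wMat_ones c2 rs hrs

theorem Y_1 : Y F rs1 = chevE8.x F 239 1 := by
  rw [Y_eq rs1 (by decide)]; simp [rs1]

theorem Y_2 : Y F rs2 = chevE8.x F 232 1 * chevE8.x F 233 1 := by
  rw [Y_eq rs2 (by decide)]; simp [rs2]

theorem Y_3 : Y F rs3 = chevE8.x F 228 1 * chevE8.x F 222 1 * chevE8.x F 218 1 := by
  rw [Y_eq rs3 (by decide)]; simp [rs3, mul_assoc]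

theorem Y_4 : Y F rs4 = chevE8.x F 226 1 * chevE8.x F 220 1 * chevE8.x F 213 1 * chevE8.x F 216 1 := by
  rw [Y_eq rs4 (by decide)]; simp [rs4, mul_assoc]

section char2

variable [CharP F 2]

theorem rank_1 : (Y F rs1 - 1).rank = 58 := by
  have h1 := rank_lb (F := F) c2 (wd rs1) wd_lt.1 _ _ ndP1 lb1
  have h2 := rank_ub (F := F) c2 (wd rs1) wd_lt.1 _ _ ndQ1 ub1
  rw [lens.1] at h1
  rw [lens.2.2.2.2.1] at h2
  have : fdE8.l + fdE8.n = 248 := rfl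
  unfold Y; omega

theorem rank_2 : (Y F rs2 - 1).rank = 92 := by
  have h1 := rank_lb (F := F) c2 (wd rs2) wd_lt.2.1 _ _ ndP2 lb2
  have h2 := rank_ub (F := F) c2 (wd rs2) wd_lt.2.1 _ _ ndQ2 ub2
  rw [lens.2.1] at h1
  rw [lens.2.2.2.2.2.1] at h2
  have : fdE8.l + fdE8.n = 248 := rfl
  unfold Y; omega

theorem rank_3 : (Y F rs3 - 1).rank = 110 := by
  have h1 := rank_lb (F := F) c2 (wd rs3) wd_lt.2.2.1 _ _ ndP3 lb3
  have h2 := rank_ub (F := F) c2 (wd rs3) wd_lt.2.2.1 _ _ ndQ3 ub3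
  rw [lens.2.2.1] at h1
  rw [lens.2.2.2.2.2.2.1] at h2
  have : fdE8.l + fdE8.n = 248 := rfl
  unfold Y; omega

theorem rank_4 : (Y F rs4 - 1).rank = 120 := by
  have h1 := rank_lb (F := F) c2 (wd rs4) wd_lt.2.2.2 _ _ ndP4 lb4
  have h2 := rank_ub (F := F) c2 (wd rs4) wd_lt.2.2.2 _ _ ndQ4 ub4
  rw [lens.2.2.2.1] at h1
  rw [lens.2.2.2.2.2.2.2] at h2
  have : fdE8.l + fdE8.n = 248 := rfl
  unfold Y; omega

theorem sq_1 : Y F rs1 * Y F rs1 = 1 := wMat_sq c2 (wd rs1) wd_lt.1 sq1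
theorem sq_2 : Y F rs2 * Y F rs2 = 1 := wMat_sq c2 (wd rs2) wd_lt.2.1 sq2
theorem sq_3 : Y F rs3 * Y F rs3 = 1 := wMat_sq c2 (wd rs3) wd_lt.2.2.1 sq3
theorem sq_4 : Y F rs4 * Y F rs4 = 1 := wMat_sq c2 (wd rs4) wd_lt.2.2.2 sq4

/-- an invertible matrix `y` with `y² = 1` and `rank (y - 1) > 0` has order two -/
theorem order_two (y : GL chevE8.Idx F) (M : Matrix chevE8.Idx chevE8.Idx F) (hy : (y : Matrix chevE8.Idx chevE8.Idx F) = M)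
    (hsq : M * M = 1) (hr : 0 < (M - 1).rank) : orderOf y = 2 := by
  haveI : Fact (Nat.Prime 2) := ⟨Nat.prime_two⟩
  apply orderOf_eq_prime
  · apply Units.ext
    rw [pow_two, Units.val_mul, hy, hsq, Units.val_one]
  · intro h1
    rw [h1, Units.val_one] at hy
    rw [← hy, sub_self, Matrix.rank_zero] at hr
    exact absurd hr (lt_irrefl 0)

/-- membership of a word of root elements -/
theorem mem_of_Y (y : GL chevE8.Idx F) (rs : List ℕ) (hrs : ∀ r ∈ rs, r < fdE8.n)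
    (hy : (y : Matrix chevE8.Idx chevE8.Idx F) = Y F rs) : y ∈ chevE8.group F := by
  apply c2.mem_group_of_word y (rs.map fun r => (r, (1 : F)))
  rw [hy, Y_eq rs hrs]
  unfold ChevalleyDatum.wordMat
  rw [List.map_map]
  rfl

/-- **(E8-a)**: each of the four matrices lies in the group and has order two -/
theorem mem_and_order :
    ∀ y : GL Cfsg.Lie.chevE8.Idx F, ((y : GL Cfsg.Lie.chevE8.Idx F) : Matrix Cfsg.Lie.chevE8.Idx Cfsg.Lie.chevE8.Idx F) ∈ [Cfsg.Lie.chevE8.x F 239 1, Cfsg.Lie.chevE8.x F 232 1 * Cfsg.Lie.chevE8.x F 233 1, Cfsg.Lie.chevE8.x F 228 1 * Cfsg.Lie.chevE8.x F 222 1 * Cfsg.Lie.chevE8.x F 218 1, Cfsg.Lie.chevE8.x F 226 1 * Cfsg.Lie.chevE8.x F 220 1 * Cfsg.Lie.chevE8.x F 213 1 * Cfsg.Lie.chevE8.x F 216 1] → y ∈ Cfsg.Lie.chevE8.group F ∧ orderOf y = 2 := by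
  intro y hy
  simp only [List.mem_cons, List.not_mem_nil, or_false] at hy
  rcases hy with hy | hy | hy | hy
  · rw [← Y_1] at hy
    exact ⟨mem_of_Y y rs1 (by decide) hy, order_two y _ hy sq_1 (by rw [rank_1]; norm_num)⟩
  · rw [← Y_2] at hy
    exact ⟨mem_of_Y y rs2 (by decide) hy, order_two y _ hy sq_2 (by rw [rank_2]; norm_num)⟩
  · rw [← Y_3] at hy
    exact ⟨mem_of_Y y rs3 (by decide) hy, order_two y _ hy sq_3 (by rw [rank_3]; norm_num)⟩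
  · rw [← Y_4] at hy
    exact ⟨mem_of_Y y rs4 (by decide) hy, order_two y _ hy sq_4 (by rw [rank_4]; norm_num)⟩

/-- conjugate invertible matrices have the same `rank (y - 1)` -/
theorem rank_conj (h y₁ y₂ : GL chevE8.Idx F) (hc : h * y₁ * h⁻¹ = y₂) :
    ((y₂ : Matrix chevE8.Idx chevE8.Idx F) - 1).rank = ((y₁ : Matrix chevE8.Idx chevE8.Idx F) - 1).rank := by
  have e : ((y₂ : Matrix chevE8.Idx chevE8.Idx F) - 1) =
      (h : Matrix chevE8.Idx chevE8.Idx F) * ((y₁ : Matrix chevE8.Idx chevE8.Idx F) - 1) *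
        ((h⁻¹ : GL chevE8.Idx F) : Matrix chevE8.Idx chevE8.Idx F) := by
    rw [← hc, Units.val_mul, Units.val_mul, Matrix.mul_sub, Matrix.sub_mul, Matrix.mul_one]
    congr 1
    rw [← Units.val_mul, mul_inv_cancel, Units.val_one]
  rw [e, Matrix.rank_mul_eq_left_of_isUnit_det _ _ (Matrix.isUnits_det_units h⁻¹),
    Matrix.rank_mul_eq_right_of_isUnit_det _ _ (Matrix.isUnits_det_units h)]

/-- the rank of `y - 1` for `y` in the list -/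
theorem rank_of_mem (y : GL chevE8.Idx F)
    (hy : (y : Matrix chevE8.Idx chevE8.Idx F) ∈ [Cfsg.Lie.chevE8.x F 239 1, Cfsg.Lie.chevE8.x F 232 1 * Cfsg.Lie.chevE8.x F 233 1, Cfsg.Lie.chevE8.x F 228 1 * Cfsg.Lie.chevE8.x F 222 1 * Cfsg.Lie.chevE8.x F 218 1, Cfsg.Lie.chevE8.x F 226 1 * Cfsg.Lie.chevE8.x F 220 1 * Cfsg.Lie.chevE8.x F 213 1 * Cfsg.Lie.chevE8.x F 216 1]) :
    ((y : Matrix chevE8.Idx chevE8.Idx F) = Cfsg.Lie.chevE8.x F 239 1 ∧ ((y : Matrix chevE8.Idx chevE8.Idx F) - 1).rank = 58) ∨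
    ((y : Matrix chevE8.Idx chevE8.Idx F) = Cfsg.Lie.chevE8.x F 232 1 * Cfsg.Lie.chevE8.x F 233 1 ∧ ((y : Matrix chevE8.Idx chevE8.Idx F) - 1).rank = 92) ∨
    ((y : Matrix chevE8.Idx chevE8.Idx F) = Cfsg.Lie.chevE8.x F 228 1 * Cfsg.Lie.chevE8.x F 222 1 * Cfsg.Lie.chevE8.x F 218 1 ∧ ((y : Matrix chevE8.Idx chevE8.Idx F) - 1).rank = 110) ∨
    ((y : Matrix chevE8.Idx chevE8.Idx F) = Cfsg.Lie.chevE8.x F 226 1 * Cfsg.Lie.chevE8.x F 220 1 * Cfsg.Lie.chevE8.x F 213 1 * Cfsg.Lie.chevE8.x F 216 1 ∧ ((y : Matrix chevE8.Idx chevE8.Idx F) - 1).rank = 120) := by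
  simp only [List.mem_cons, List.not_mem_nil, or_false] at hy
  rcases hy with hy | hy | hy | hy
  · exact Or.inl ⟨hy, by rw [hy, ← Y_1, rank_1]⟩
  · exact Or.inr (Or.inl ⟨hy, by rw [hy, ← Y_2, rank_2]⟩)
  · exact Or.inr (Or.inr (Or.inl ⟨hy, by rw [hy, ← Y_3, rank_3]⟩))
  · exact Or.inr (Or.inr (Or.inr ⟨hy, by rw [hy, ← Y_4, rank_4]⟩))

/-- **(E8-c)**: no two of the four matrices are conjugate -/
theorem not_conj :
    ∀ y₁ ∈ Cfsg.Lie.chevE8.group F, ∀ y₂ ∈ Cfsg.Lie.chevE8.group F, ((y₁ : GL Cfsg.Lie.chevE8.Idx F) : Matrix Cfsg.Lie.chevE8.Idx Cfsg.Lie.chevE8.Idx F) ∈ [Cfsg.Lie.chevE8.x F 239 1, Cfsg.Lie.chevE8.x F 232 1 * Cfsg.Lie.chevE8.x F 233 1, Cfsg.Lie.chevE8.x F 228 1 * Cfsg.Lie.chevE8.x F 222 1 * Cfsg.Lie.chevE8.x F 218 1, Cfsg.Lie.chevE8.x F 226 1 * Cfsg.Lie.chevE8.x F 220 1 * Cfsg.Lie.chevE8.x F 213 1 * Cfsg.Lie.chevE8.x F 216 1]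 → ((y₂ : GL Cfsg.Lie.chevE8.Idx F) : Matrix Cfsg.Lie.chevE8.Idx Cfsg.Lie.chevE8.Idx F) ∈ [Cfsg.Lie.chevE8.x F 239 1, Cfsg.Lie.chevE8.x F 232 1 * Cfsg.Lie.chevE8.x F 233 1, Cfsg.Lie.chevE8.x F 228 1 * Cfsg.Lie.chevE8.x F 222 1 * Cfsg.Lie.chevE8.x F 218 1, Cfsg.Lie.chevE8.x F 226 1 * Cfsg.Lie.chevE8.x F 220 1 * Cfsg.Lie.chevE8.x F 213 1 * Cfsg.Lie.chevE8.x F 216 1] →
      (∃ h ∈ Cfsg.Lie.chevE8.group F, h * y₁ * h⁻¹ = y₂) → ((y₁ : GL Cfsg.Lie.chevE8.Idx F) : Matrix Cfsg.Lie.chevE8.Idx Cfsg.Lie.chevE8.Idx F) = ((y₂ : GL Cfsg.Lie.chevE8.Idx F) : Matrix Cfsg.Lie.chevE8.Idx Cfsg.Lie.chevE8.Idx F) := by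
  intro y₁ _ y₂ _ h1 h2 ⟨h, _, hc⟩
  have hr := rank_conj h y₁ y₂ hc
  rcases rank_of_mem y₁ h1 with ⟨e1, r1⟩ | ⟨e1, r1⟩ | ⟨e1, r1⟩ | ⟨e1, r1⟩ <;>
  rcases rank_of_mem y₂ h2 with ⟨e2, r2⟩ | ⟨e2, r2⟩ | ⟨e2, r2⟩ | ⟨e2, r2⟩ <;>
  first
  | (exfalso; rw [r1, r2] at hr; exact absurd hr (by decide))
  | (rw [e1, e2])

end char2

end Cfsg.Agent.Lib.H8.E8Inv
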