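import Mathlib

/-!
# The arithmetic contradiction for families of T.I. Frobenius kernels (helper8)

Pure arithmetic: given the class equation, the column bounds, the row bounds and the
"tournament" property of the integers `c k j`, some exceptional degree `x j` is `1`.
-/

set_option autoImplicit false

namespace Cfsg.Agent.Lib.H8

theorem exc_numeric {ι : Type*} [Fintype ι] [DecidableEq ι] [Nonempty ι]
    (t e a x : ι → ℕ) (c : ι → ι → ℤ) (g : ℕ) (hg : 0 < g)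
    (ha : ∀ j, a j = 1 + e j * t j) (ht : ∀ j, 2 ≤ t j) (he : ∀ j, 1 ≤ e j)
    (hx : ∀ j, 1 ≤ x j)
    (hclass : ∑ j, (t j : ℝ) / (a j : ℝ) = 1 - 1 / (g : ℝ))
    (hcol : ∀ j, ∑ k ∈ Finset.univ.erase j, (t k : ℤ) * (c k j) ^ 2 ≤ (e j : ℤ) - 1)
    (hrow : ∀ k, ∑ j ∈ Finset.univ.erase k, (t j : ℝ) * ((c k j : ℤ) : ℝ) ^ 2 / (a j : ℝ)
      ≤ (e k : ℝ) / (a k : ℝ) - (x k : ℝ) ^ 2 / (g : ℝ))
    (hpar : ∀ j m, j ≠ m → c j m ≠ 0 ∨ c m j ≠ 0) :
    ∃ j, x j = 1 := by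
  classical
  obtain ⟨j₁, -, hmin⟩ := Finset.exists_min_image (Finset.univ : Finset ι) e
    Finset.univ_nonempty
  refine ⟨j₁, ?_⟩
  have hgR : (0 : ℝ) < g := by exact_mod_cast hg
  have haR : ∀ j, (0 : ℝ) < a j := fun j => by
    have : 0 < a j := by rw [ha j]; omega
    exact_mod_cast this
  have htR : ∀ j, (2 : ℝ) ≤ t j := fun j => by exact_mod_cast ht j
  have heR : ∀ j, (1 : ℝ) ≤ e j := fun j => by exact_mod_cast he j
  have haR' : ∀ j, (a j : ℝ) = 1 + e j * t j := fun j => by rw [ha j]; push_cast; ring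
  set E : ℝ := (e j₁ : ℝ) with hE
  set T : ℝ := (t j₁ : ℝ) with hT
  have hE1 : (1 : ℝ) ≤ E := heR j₁
  have hT2 : (2 : ℝ) ≤ T := htR j₁
  -- squares of nonzero integers
  have hsq : ∀ z : ℤ, z ≠ 0 → (1 : ℝ) ≤ ((z : ℤ) : ℝ) ^ 2 := by
    intro z hz
    have : (1 : ℤ) ≤ z ^ 2 := by
      have := sq_nonneg z
      have h0 : z ^ 2 ≠ 0 := pow_ne_zero 2 hz
      omega
    exact_mod_cast this
  -- Out part
  have hout : ∑ j ∈ Finset.univ.erase j₁, (if c j₁ j ≠ 0 then (t j : ℝ) / (a j : ℝ) else 0)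
      ≤ E / (a j₁ : ℝ) - (x j₁ : ℝ) ^ 2 / (g : ℝ) := by
    refine le_trans (Finset.sum_le_sum fun j _ => ?_) (hrow j₁)
    split_ifs with hc
    · have h1 := hsq _ hc
      rw [mul_div_assoc]
      have h2 : (0 : ℝ) ≤ (t j : ℝ) / (a j : ℝ) := div_nonneg (by positivity) (haR j).le
      calc (t j : ℝ) / (a j : ℝ) = (t j : ℝ) / (a j : ℝ) * 1 := by ring
        _ ≤ (t j : ℝ) / (a j : ℝ) * ((c j₁ j : ℤ) : ℝ) ^ 2 := by
            exact mul_le_mul_of_nonneg_left h1 h2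
        _ = (t j : ℝ) * (((c j₁ j : ℤ) : ℝ) ^ 2 / (a j : ℝ)) := by ring
    · have : (0 : ℝ) ≤ (t j : ℝ) * ((c j₁ j : ℤ) : ℝ) ^ 2 / (a j : ℝ) :=
        div_nonneg (by positivity) (haR j).le
      exact this
  -- In part
  have hinZ : ∑ j ∈ Finset.univ.erase j₁, (if c j j₁ ≠ 0 then (t j : ℤ) else 0)
      ≤ (e j₁ : ℤ) - 1 := by
    refine le_trans (Finset.sum_le_sum fun j _ => ?_) (hcol j₁)
    split_ifs with hc
    · have : (1 : ℤ) ≤ (c j j₁) ^ 2 := by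
        have := sq_nonneg (c j j₁)
        have h0 : (c j j₁) ^ 2 ≠ 0 := pow_ne_zero 2 hc
        omega
      have ht0 : (0 : ℤ) ≤ (t j : ℤ) := by positivity
      nlinarith
    · positivity
  have hinR : ∑ j ∈ Finset.univ.erase j₁, (if c j j₁ ≠ 0 then (t j : ℝ) else 0) ≤ E - 1 := by
    have : ((∑ j ∈ Finset.univ.erase j₁, (if c j j₁ ≠ 0 then (t j : ℤ) else 0) : ℤ) : ℝ)
        ≤ (((e j₁ : ℤ) - 1 : ℤ) : ℝ) := by exact_mod_cast hinZ
    push_cast at this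
    refine le_trans (le_of_eq ?_) this
    refine Finset.sum_congr rfl fun j _ => ?_
    split_ifs <;> simp
  have hin : ∑ j ∈ Finset.univ.erase j₁, (if c j j₁ ≠ 0 then (t j : ℝ) / (a j : ℝ) else 0)
      ≤ (E - 1) / (1 + 2 * E) := by
    have hden : (0 : ℝ) < 1 + 2 * E := by linarith
    have h1 : ∑ j ∈ Finset.univ.erase j₁, (if c j j₁ ≠ 0 then (t j : ℝ) / (a j : ℝ) else 0)
        ≤ ∑ j ∈ Finset.univ.erase j₁, (if c j j₁ ≠ 0 then (t j : ℝ) else 0) / (1 + 2 * E) := by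
      refine Finset.sum_le_sum fun j _ => ?_
      split_ifs with hc
      · have hej : E ≤ e j := by
          have := hmin j (Finset.mem_univ j)
          rw [hE]; exact_mod_cast this
        have haj : 1 + 2 * E ≤ (a j : ℝ) := by
          rw [haR' j]
          have := htR j
          have := heR j
          nlinarith
        exact div_le_div_of_nonneg_left (by positivity) hden haj
      · simp
    rw [← Finset.sum_div] at h1
    exact le_trans h1 (div_le_div_of_nonneg_right hinR hden.le)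
  -- splitting
  have hsplit : ∑ j ∈ Finset.univ.erase j₁, (t j : ℝ) / (a j : ℝ)
      ≤ ∑ j ∈ Finset.univ.erase j₁, (if c j₁ j ≠ 0 then (t j : ℝ) / (a j : ℝ) else 0)
        + ∑ j ∈ Finset.univ.erase j₁, (if c j j₁ ≠ 0 then (t j : ℝ) / (a j : ℝ) else 0) := by
    rw [← Finset.sum_add_distrib]
    refine Finset.sum_le_sum fun j hj => ?_
    have hne : j₁ ≠ j := fun h => (Finset.ne_of_mem_erase hj) h.symm
    have h2 : (0 : ℝ) ≤ (t j : ℝ) / (a j : ℝ) := div_nonneg (by positivity) (haR j).le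
    rcases hpar j₁ j hne with h | h
    · rw [if_pos h]
      split_ifs <;> linarith
    · rw [if_pos h]
      split_ifs <;> linarith
  have htot : ∑ j, (t j : ℝ) / (a j : ℝ)
      = T / (a j₁ : ℝ) + ∑ j ∈ Finset.univ.erase j₁, (t j : ℝ) / (a j : ℝ) := by
    rw [← Finset.add_sum_erase _ _ (Finset.mem_univ j₁)]
  have hA : (a j₁ : ℝ) = 1 + E * T := haR' j₁
  have hkey : (T + E) / (a j₁ : ℝ) ≤ (E + 2) / (1 + 2 * E) := by
    rw [hA, div_le_div_iff₀ (by nlinarith) (by linarith)]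
    nlinarith [mul_nonneg (sub_nonneg.mpr hT2) (sub_nonneg.mpr hE1),
      mul_nonneg (mul_nonneg (sub_nonneg.mpr hT2) (sub_nonneg.mpr hE1)) (by linarith : (0:ℝ) ≤ E + 1)]
  have hfin : (1 : ℝ) - 1 / g ≤ 1 - (x j₁ : ℝ) ^ 2 / g := by
    have hden : (0 : ℝ) < 1 + 2 * E := by linarith
    have hsum1 : (E + 2) / (1 + 2 * E) + (E - 1) / (1 + 2 * E) = 1 := by
      field_simp; ring
    have hTE : T / (a j₁ : ℝ) + E / (a j₁ : ℝ) = (T + E) / (a j₁ : ℝ) := by ring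
    calc (1 : ℝ) - 1 / g = ∑ j, (t j : ℝ) / (a j : ℝ) := hclass.symm
      _ = T / (a j₁ : ℝ) + ∑ j ∈ Finset.univ.erase j₁, (t j : ℝ) / (a j : ℝ) := htot
      _ ≤ T / (a j₁ : ℝ) + ((E / (a j₁ : ℝ) - (x j₁ : ℝ) ^ 2 / (g : ℝ))
            + (E - 1) / (1 + 2 * E)) := by linarith [hsplit, hout, hin]
      _ = (T + E) / (a j₁ : ℝ) + (E - 1) / (1 + 2 * E) - (x j₁ : ℝ) ^ 2 / (g : ℝ) := by
            rw [← hTE]; ring
      _ ≤ (E + 2) / (1 + 2 * E) + (E - 1) / (1 + 2 * E) - (x j₁ : ℝ) ^ 2 / (g : ℝ) := by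
            linarith [hkey]
      _ = 1 - (x j₁ : ℝ) ^ 2 / g := by rw [hsum1]
  have hx2 : (x j₁ : ℝ) ^ 2 ≤ 1 := by
    have h1 : (x j₁ : ℝ) ^ 2 / g ≤ 1 / g := by linarith
    rwa [div_le_div_iff_of_pos_right hgR] at h1
  have hx1 : (x j₁ : ℝ) ≤ 1 := by
    have h0 : (0 : ℝ) ≤ x j₁ := by positivity
    nlinarith
  have : x j₁ ≤ 1 := by exact_mod_cast hx1
  have := hx j₁
  omega

end Cfsg.Agent.Lib.H8
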