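import Cfsg.Agent.Lib.H8.ExcGlobalE
import Cfsg.Agent.Lib.H8.ExcNumeric

/-!
# Families of abelian T.I. subgroups covering a group of odd order (helper8)

`exists_linear_of_family`: if the non-identity elements of a group `G` of odd order are covered by
the conjugates of abelian T.I. subgroups `A j` (with `C_G(a) ≤ A j`), no two of which have
conjugate non-identity elements, then `G` has a non-principal linear character.
-/

set_option autoImplicit false

namespace Cfsg.Agent.Lib.H8

open Cfsg Cfsg.Agent.Lib.L0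
open scoped ComplexConjugate

variable {G : Type*} [Group G] [Fintype G] {ι : Type*} [Fintype ι] [DecidableEq ι]

theorem card_sub_one_eq_sum_ncard (A : ι → Subgroup G)
    (hdisj : ∀ i j, i ≠ j → Disjoint (conjSet (A i)) (conjSet (A j)))
    (hcover : ∀ g : G, g ≠ 1 → ∃ j, g ∈ conjSet (A j)) :
    Nat.card G - 1 = ∑ j, (conjSet (A j)).ncard := by
  classical
  have h1 : Nat.card G - 1 = (Finset.univ.erase (1 : G)).card := by
    rw [Finset.card_erase_of_mem (Finset.mem_univ _), Finset.card_univ, Nat.card_eq_fintype_card]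
  have h2 : Finset.univ.erase (1 : G)
      = (Finset.univ : Finset ι).biUnion (fun j => (conjSet (A j)).toFinset) := by
    ext g
    simp only [Finset.mem_erase, Finset.mem_univ, and_true, Finset.mem_biUnion, true_and,
      Set.mem_toFinset]
    constructor
    · intro hg
      exact hcover g hg
    · rintro ⟨j, hj⟩ h1
      rw [h1] at hj
      exact one_notMem_conjSet _ hj
  have hd : ((Finset.univ : Finset ι) : Set ι).PairwiseDisjoint
      (fun j => (conjSet (A j)).toFinset) := by
    intro i _ j _ hij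
    rw [Function.onFun, Finset.disjoint_left]
    intro g hgi hgj
    rw [Set.mem_toFinset] at hgi hgj
    exact (Set.disjoint_left.mp (hdisj i j hij)) hgi hgj
  rw [h1, h2, Finset.card_biUnion hd]
  refine Finset.sum_congr rfl fun j _ => ?_
  rw [Set.ncard_eq_toFinset_card']

theorem ncard_conjSet_frobTI {K : Subgroup G} (h : FrobTI K) :
    (conjSet K).ncard = (FrobTI.nz K).index * (Nat.card K - 1) := by
  apply ncard_conjSet K (FrobTI.nz K)
  · intro k hk x hx
    exact (Subgroup.mem_normalizer_iff.mp hk x).mp hx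
  · intro k x hx hx1 hkx
    by_contra hk
    exact hx1 (h.hTI k hk x hx hkx)

set_option maxHeartbeats 1600000 in
/-- The main theorem on covering families of abelian T.I. subgroups. -/
theorem exists_linear_of_family [Nonempty ι] (hodd : Odd (Nat.card G)) (A : ι → Subgroup G)
    (hfrob : ∀ j, FrobTI (A j)) (hab : ∀ j, ∀ a ∈ A j, ∀ b ∈ A j, a * b = b * a)
    (hne : ∀ j, A j ≠ ⊥)
    (hdisj : ∀ i j, i ≠ j → Disjoint (conjSet (A i)) (conjSet (A j)))
    (hcover : ∀ g : G, g ≠ 1 → ∃ j, g ∈ conjSet (A j)) :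
    ∃ χ : G → ℂ, IsIrrCharacter G χ ∧ χ ≠ 1 ∧ χ 1 = 1 := by
  classical
  haveI : ∀ j, Fintype (FrobTI.nz (A j)) := fun j => Fintype.ofFinite _
  have hD : ∀ j, ∃ D : ExcData G (A j), D.e = ((A j).subgroupOf (FrobTI.nz (A j))).index ∧
      D.a = Nat.card (A j) :=
    fun j => excData_nonempty (hfrob j) (hab j) (hne j) hodd
  choose D hDe hDa using hD
  obtain ⟨cc, hccd, hcc⟩ := exists_cc D hdisj
  -- numbers
  have hcardN : ∀ j, Nat.card (FrobTI.nz (A j)) = (D j).e * Nat.card (A j) := by
    intro j
    rw [hDe j]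
    exact card_nz_eq (A j)
  have hg : 0 < Nat.card G := Nat.card_pos
  have he : ∀ j, 1 ≤ (D j).e := by
    intro j
    rw [hDe j]
    have : ((A j).subgroupOf (FrobTI.nz (A j))).index ≠ 0 := Subgroup.index_ne_zero_of_finite
    omega
  -- class equation
  have hclassN : Nat.card G - 1
      = ∑ j, (FrobTI.nz (A j)).index * (Nat.card (A j) - 1) := by
    rw [card_sub_one_eq_sum_ncard A hdisj hcover]
    exact Finset.sum_congr rfl fun j _ => ncard_conjSet_frobTI (hfrob j)
  have hclass : ∑ j, ((D j).t : ℝ) / ((D j).a : ℝ) = 1 - 1 / (Nat.card G : ℝ) := by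
    simp only [hDa]
    have hgR : (Nat.card G : ℝ) ≠ 0 := by exact_mod_cast hg.ne'
    have h1 : ((Nat.card G - 1 : ℕ) : ℝ) = (Nat.card G : ℝ) - 1 := by
      rw [Nat.cast_sub hg]; simp
    have h2 : (Nat.card G : ℝ) - 1
        = ∑ j, ((FrobTI.nz (A j)).index : ℝ) * ((Nat.card (A j) : ℝ) - 1) := by
      rw [← h1, hclassN]
      push_cast
      refine Finset.sum_congr rfl fun j _ => ?_
      have : 0 < Nat.card (A j) := Nat.card_pos
      rw [Nat.cast_sub this]; simp
    have h3 : 1 - 1 / (Nat.card G : ℝ) = ((Nat.card G : ℝ) - 1) / (Nat.card G : ℝ) := by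
      field_simp
    rw [h3, h2, Finset.sum_div]
    refine Finset.sum_congr rfl fun j _ => ?_
    have hidx : ((FrobTI.nz (A j)).index : ℝ) * (((D j).e : ℝ) * (Nat.card (A j) : ℝ))
        = (Nat.card G : ℝ) := by
      have := Subgroup.index_mul_card (FrobTI.nz (A j))
      rw [hcardN j] at this
      exact_mod_cast this
    have hcnt : (Nat.card (A j) : ℝ) - 1 = ((D j).t : ℝ) * ((D j).e : ℝ) := by
      rw [← hDa j, ← (D j).count]; push_cast; ring
    have haj : (Nat.card (A j) : ℝ) ≠ 0 := by
      have : 0 < Nat.card (A j) := Nat.card_pos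
      exact_mod_cast this.ne'
    have hej : ((D j).e : ℝ) ≠ 0 := by
      have := he j
      have : (D j).e ≠ 0 := by omega
      exact_mod_cast this
    have hidx0 : ((FrobTI.nz (A j)).index : ℝ) ≠ 0 := by
      intro h0
      rw [h0, zero_mul] at hidx
      exact hgR hidx.symm
    rw [hcnt, ← hidx]
    field_simp
  obtain ⟨j, hj⟩ := exc_numeric (fun j => (D j).t) (fun j => (D j).e)
    (fun j => (D j).a) (fun j => (D j).x) cc (Nat.card G) hg
    (fun j => by rw [← (D j).count]; ring) (fun j => (D j).two_le) he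
    (fun j => (D j).x_pos) hclass (col_bound D hdisj cc hccd hcc)
    (row_bound D hdisj cc hccd hcc)
    (fun j m hjm => par_bound D hdisj hodd cc hcc hjm)
  have u : Fin (D j).t := ⟨0, by have := (D j).two_le; omega⟩
  refine ⟨(D j).X u, (D j).irr u, (D j).ne_one u, ?_⟩
  rw [(D j).deg u]
  have hj' : (D j).x = 1 := hj
  rw [hj']; simp

end Cfsg.Agent.Lib.H8
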