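import Cfsg.Agent.Lib.H8.GenChar
import Cfsg.Agent.Lib.H24.CharOdd

/-!
# Parity of inner products of real generalized characters in odd order groups (helper8)
-/

set_option autoImplicit false

namespace Cfsg.Agent.Lib.H8

open Cfsg Cfsg.Agent.Lib.L0 Cfsg.Agent.Lib.H24
open scoped ComplexConjugate

variable {G : Type*} [Group G] [Fintype G]

/-- Parseval for generalized characters with integer coefficients. -/
theorem genChar_parseval [Fintype (Cfsg.IrrCharacter G)] {θ φ : G → ℂ}
    (hθ : Cfsg.IsGeneralizedCharacter G θ)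
    (c d : Cfsg.IrrCharacter G → ℤ)
    (hc : ∀ ξ : Cfsg.IrrCharacter G, Cfsg.classInner θ (ξ : G → ℂ) = c ξ)
    (hd : ∀ ξ : Cfsg.IrrCharacter G, Cfsg.classInner φ (ξ : G → ℂ) = d ξ) :
    Cfsg.classInner θ φ = ((∑ ξ : Cfsg.IrrCharacter G, c ξ * d ξ : ℤ) : ℂ) := by
  conv_lhs => rw [genChar_expansion hθ c hc]
  rw [classInner_sum_left]
  push_cast
  apply Finset.sum_congr rfl
  intro ξ _
  rw [classInner_smul_left, ← classInner_conj_symm, hd, map_intCast]

/-- In a group of odd order, for real-valued generalized characters `θ`, `φ` the inner product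
`⟨θ, φ⟩` is congruent to `⟨θ, 1⟩⟨φ, 1⟩` modulo `2`. -/
theorem real_parity (hodd : Odd (Nat.card G)) {θ φ : G → ℂ}
    (hθ : Cfsg.IsGeneralizedCharacter G θ) (hφ : Cfsg.IsGeneralizedCharacter G φ)
    (hθr : ∀ g, conj (θ g) = θ g) (hφr : ∀ g, conj (φ g) = φ g)
    (n a b : ℤ) (hn : Cfsg.classInner θ φ = n) (ha : Cfsg.classInner θ (1 : G → ℂ) = a)
    (hb : Cfsg.classInner φ (1 : G → ℂ) = b) : Even (n - a * b) := by
  classical
  haveI : Fintype (Cfsg.IrrCharacter G) := Fintype.ofFinite _
  have hc : ∀ ξ : Cfsg.IrrCharacter G, ∃ c : ℤ, Cfsg.classInner θ (ξ : G → ℂ) = c :=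
    fun ξ => genChar_classInner_irr_int hθ ξ.2
  choose c hc using hc
  have hd : ∀ ξ : Cfsg.IrrCharacter G, ∃ c : ℤ, Cfsg.classInner φ (ξ : G → ℂ) = c :=
    fun ξ => genChar_classInner_irr_int hφ ξ.2
  choose d hd using hd
  have hpars := genChar_parseval hθ c d hc hd
  rw [hn] at hpars
  have hn' : n = ∑ ξ : Cfsg.IrrCharacter G, c ξ * d ξ := by exact_mod_cast hpars
  -- invariance under conjugation
  have hinv : ∀ {ψ : G → ℂ}, (∀ g, conj (ψ g) = ψ g) → ∀ (e : Cfsg.IrrCharacter G → ℤ),
      (∀ ξ : Cfsg.IrrCharacter G, Cfsg.classInner ψ (ξ : G → ℂ) = e ξ) →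
      ∀ ξ, e (irrConj ξ) = e ξ := by
    intro ψ hψ e he ξ
    have h1 : Cfsg.classInner ψ ((irrConj ξ : Cfsg.IrrCharacter G) : G → ℂ)
        = conj (Cfsg.classInner ψ (ξ : G → ℂ)) := by
      rw [← classInner_conj_conj]
      congr 1
      funext g
      exact (hψ g).symm
    rw [he, he, map_intCast] at h1
    exact_mod_cast h1
  have hcinv := hinv hθr c hc
  have hdinv := hinv hφr d hd
  -- trivial character
  have htriv : ((trivialIrr G : Cfsg.IrrCharacter G) : G → ℂ) = 1 := rfl
  have hca : c (trivialIrr G) = a := by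
    have := hc (trivialIrr G)
    rw [htriv, ha] at this
    exact_mod_cast this.symm
  have hdb : d (trivialIrr G) = b := by
    have := hd (trivialIrr G)
    rw [htriv, hb] at this
    exact_mod_cast this.symm
  have hsplit : n - a * b = ∑ ξ ∈ Finset.univ.erase (trivialIrr G), c ξ * d ξ := by
    rw [hn', ← Finset.add_sum_erase _ _ (Finset.mem_univ (trivialIrr G)), hca, hdb]; ring
  rw [hsplit]
  have hz : ((∑ ξ ∈ Finset.univ.erase (trivialIrr G), c ξ * d ξ : ℤ) : ZMod 2) = 0 := by
    push_cast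
    apply Finset.sum_involution (fun ξ _ => irrConj ξ)
    · intro ξ _
      rw [hcinv ξ, hdinv ξ]
      have : ((c ξ : ZMod 2) * (d ξ : ZMod 2)) + ((c ξ : ZMod 2) * (d ξ : ZMod 2))
          = 2 * ((c ξ : ZMod 2) * (d ξ : ZMod 2)) := by ring
      rw [this]
      have h2 : (2 : ZMod 2) = 0 := by decide
      rw [h2, zero_mul]
    · intro ξ hξ _ hfix
      have hne := Finset.ne_of_mem_erase hξ
      apply hne
      apply real_irr_eq_trivial_of_odd hodd ξ
      intro g
      have h1 := congrArg (fun η : Cfsg.IrrCharacter G => (η : G → ℂ) g) hfix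
      simp only [irrConj_apply] at h1
      exact Complex.conj_eq_iff_im.mp h1
    · intro ξ _
      exact irrConj_irrConj ξ
    · intro ξ hξ
      rw [Finset.mem_erase] at hξ ⊢
      refine ⟨?_, Finset.mem_univ _⟩
      intro h
      apply hξ.1
      have := congrArg irrConj h
      rw [irrConj_irrConj] at this
      rw [this]
      apply Subtype.ext
      funext g
      simp [htriv]
  rw [even_iff_two_dvd]
  exact (ZMod.intCast_zmod_eq_zero_iff_dvd _ 2).mp hz

end Cfsg.Agent.Lib.H8
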