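import Cfsg.Agent.Lib.H8.ExcPackageD
import Cfsg.Agent.Lib.H8.RealParity
import Cfsg.Agent.Lib.H8.Coherence

/-!
# Families of abelian T.I. subgroups: global inner products (helper8), part A

`ExcData G K` bundles the output of `exc_package`.  For a family `A j` of subgroups with pairwise
disjoint `conjSet`s we derive the cross inner products.
-/

set_option autoImplicit false

namespace Cfsg.Agent.Lib.H8

open Cfsg Cfsg.Agent.Lib.L0
open scoped ComplexConjugate

/-- The exceptional-character data attached to a subgroup `K`. -/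
structure ExcData (G : Type*) [Group G] [Fintype G] (K : Subgroup G) where
  t : ℕ
  e : ℕ
  a : ℕ
  X : Fin t → G → ℂ
  ε : ℤ
  Ψ : G → ℂ
  c : ℤ
  x : ℕ
  count : t * e + 1 = a
  even_t : Even t
  two_le : 2 ≤ t
  hε : ε = 1 ∨ ε = -1
  irr : ∀ u, IsIrrCharacter G (X u)
  inj : Function.Injective X
  ne_one : ∀ u, X u ≠ 1
  deg : ∀ u, X u 1 = (x : ℂ)
  x_pos : 0 < x
  gen : IsGeneralizedCharacter G Ψ
  real : ∀ g, conj (Ψ g) = Ψ g
  inner_one : classInner Ψ (1 : G → ℂ) = 1
  inner_X : ∀ u, classInner Ψ (X u) = (c : ℂ)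
  norm : classInner Ψ Ψ = (((e : ℤ) + 2 * ε * c : ℤ) : ℂ)
  supp : ∀ u g, g ∉ conjSet K → Ψ g = (ε : ℂ) * X u g

section basic

variable {G : Type*} [Group G] [Fintype G]

theorem excData_nonempty {K : Subgroup G} [Fintype (FrobTI.nz K)] (h : FrobTI K)
    (hab : ∀ a ∈ K, ∀ b ∈ K, a * b = b * a) (hK1 : K ≠ ⊥) (hodd : Odd (Nat.card G)) :
    ∃ D : ExcData G K, D.e = (K.subgroupOf (FrobTI.nz K)).index ∧ D.a = Nat.card K := by
  obtain ⟨t, X, ε, Ψ, c, x, h1, h2, h3, h4, h5, h6, h7, h8, h9, h10, h11, h12, h13, h14, h15⟩ :=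
    exc_package h hab hK1 hodd
  exact ⟨⟨t, _, _, X, ε, Ψ, c, x, h1, h2, h3, h4, h5, h6, h7, h8, h9, h10, h11, h12, h13, h14,
    h15⟩, rfl, rfl⟩

theorem classInner_eq_zero_of_disjoint (F F' : G → ℂ) (S S' : Set G)
    (hF : ∀ g, g ∉ S → F g = 0) (hF' : ∀ g, g ∉ S' → F' g = 0) (hd : Disjoint S S') :
    classInner F F' = 0 := by
  unfold classInner
  rw [Finset.sum_eq_zero, mul_zero]
  intro g _
  by_cases hg : g ∈ S
  · have : g ∉ S' := fun h' => (Set.disjoint_left.mp hd) hg h'
    rw [hF' g this, map_zero, mul_zero]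
  · rw [hF g hg, zero_mul]

/-- The regular character. -/
noncomputable def regFun (G : Type*) [Group G] [Fintype G] [DecidableEq G] : G → ℂ :=
  fun x => if x = 1 then (Nat.card G : ℂ) else 0

theorem classInner_regFun_right [DecidableEq G] (F : G → ℂ) :
    classInner F (regFun G) = F 1 := by
  unfold classInner regFun
  rw [Finset.sum_eq_single (1 : G)]
  · rw [if_pos rfl, Complex.conj_natCast]
    have hG : (Nat.card G : ℂ) ≠ 0 := by exact_mod_cast (Nat.card_pos (α := G)).ne'
    field_simp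
  · intro x _ hx
    rw [if_neg hx, map_zero, mul_zero]
  · intro h; exact absurd (Finset.mem_univ _) h

theorem classInner_regFun_left [DecidableEq G] (F : G → ℂ) :
    classInner (regFun G) F = conj (F 1) := by
  rw [← classInner_conj_symm, classInner_regFun_right]

theorem classInner_regFun_self [DecidableEq G] :
    classInner (regFun G) (regFun G) = (Nat.card G : ℂ) := by
  rw [classInner_regFun_right]
  unfold regFun
  rw [if_pos rfl]

namespace ExcData

variable {K : Subgroup G} (D : ExcData G K)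

theorem eps_sq : ((D.ε : ℂ)) * (D.ε : ℂ) = 1 := by
  rcases D.hε with h | h <;> rw [h] <;> norm_num

theorem eps_ne : (D.ε : ℂ) ≠ 0 := by
  rcases D.hε with h | h <;> rw [h] <;> norm_num

theorem Psi_one : D.Ψ 1 = (D.ε : ℂ) * (D.x : ℂ) := by
  have u : Fin D.t := ⟨0, by have := D.two_le; omega⟩
  rw [D.supp u 1 (one_notMem_conjSet K), D.deg]

/-- `Φ u = Ψ - ε X u`, supported on `conjSet K`. -/
noncomputable def Phi (u : Fin D.t) : G → ℂ := D.Ψ - (D.ε : ℂ) • D.X u

theorem Phi_supp (u : Fin D.t) (g : G) (hg : g ∉ conjSet K) : D.Phi u g = 0 := by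
  unfold Phi
  rw [Pi.sub_apply, Pi.smul_apply, smul_eq_mul, D.supp u g hg, sub_self]

theorem Psi_eq (u : Fin D.t) : D.Ψ = D.Phi u + (D.ε : ℂ) • D.X u := by
  unfold Phi; ring

theorem X_sub (u u' : Fin D.t) : D.X u - D.X u' = (D.ε : ℂ) • (D.Phi u' - D.Phi u) := by
  unfold Phi
  have h := D.eps_sq
  funext g
  simp only [Pi.sub_apply, Pi.smul_apply, smul_eq_mul]
  linear_combination (-(D.X u g) + D.X u' g) * h

theorem X_inner (u u' : Fin D.t) [Decidable (u = u')] :
    classInner (D.X u) (D.X u') = if u = u' then 1 else 0 := by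
  split_ifs with h
  · subst h; exact irr_classInner_self (D.irr u)
  · exact irr_classInner_ne (D.irr u) (D.irr u') (fun h' => h (D.inj h'))

theorem X_inner_one (u : Fin D.t) : classInner (D.X u) (1 : G → ℂ) = 0 :=
  irr_classInner_ne (D.irr u) Cfsg.Agent.Lib.L0.isIrrCharacter_one (D.ne_one u)

end ExcData

end basic

end Cfsg.Agent.Lib.H8
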