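import Cfsg.Agent.Lib.H8.ExcGlobalA

/-!
# Families of abelian T.I. subgroups: global inner products (helper8), part B

Cross orthogonality, distinctness of the exceptional characters of different members of the
family, and the integers `cc i j = ⟨Ψ j, X i u⟩`.
-/

set_option autoImplicit false

namespace Cfsg.Agent.Lib.H8

open Cfsg Cfsg.Agent.Lib.L0
open scoped ComplexConjugate

variable {G : Type*} [Group G] [Fintype G] {ι : Type*}
  {A : ι → Subgroup G} (D : ∀ j, ExcData G (A j))

theorem fin_exists_ne {n : ℕ} (hn : 2 ≤ n) (u : Fin n) : ∃ u' : Fin n, u' ≠ u := by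
  haveI : Nontrivial (Fin n) := Fin.nontrivial_iff_two_le.mpr hn
  exact exists_ne u

section
variable (hdisj : ∀ i j, i ≠ j → Disjoint (conjSet (A i)) (conjSet (A j)))
include hdisj

theorem Phi_orth {i j : ι} (hij : i ≠ j) (u : Fin (D i).t) (v : Fin (D j).t) :
    classInner ((D i).Phi u) ((D j).Phi v) = 0 :=
  classInner_eq_zero_of_disjoint _ _ _ _ ((D i).Phi_supp u) ((D j).Phi_supp v) (hdisj i j hij)

theorem Xdiff_orth {i j : ι} (hij : i ≠ j) (u u' : Fin (D i).t) (v v' : Fin (D j).t) :
    classInner ((D i).X u - (D i).X u') ((D j).X v - (D j).X v') = 0 := by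
  rw [(D i).X_sub u u', (D j).X_sub v v', classInner_smul_left, classInner_smul_right,
    classInner_sub_left, classInner_sub_right, classInner_sub_right,
    Phi_orth D hdisj hij, Phi_orth D hdisj hij, Phi_orth D hdisj hij, Phi_orth D hdisj hij]
  ring

theorem X_ne {i j : ι} (hij : i ≠ j) (u : Fin (D i).t) (v : Fin (D j).t) :
    (D i).X u ≠ (D j).X v := by
  classical
  intro heq
  obtain ⟨u', hu'⟩ := fin_exists_ne (D i).two_le u
  obtain ⟨v', hv'⟩ := fin_exists_ne (D j).two_le v
  have h0 := Xdiff_orth D hdisj hij u u' v v'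
  rw [classInner_sub_left, classInner_sub_right, classInner_sub_right] at h0
  have h1 : classInner ((D i).X u) ((D j).X v) = 1 := by
    rw [heq]; exact irr_classInner_self ((D j).irr v)
  have h2 : classInner ((D i).X u) ((D j).X v') = 0 := by
    rw [heq]
    exact irr_classInner_ne ((D j).irr v) ((D j).irr v') (fun h => hv' ((D j).inj h).symm)
  have h3 : classInner ((D i).X u') ((D j).X v) = 0 := by
    rw [← heq]
    exact irr_classInner_ne ((D i).irr u') ((D i).irr u) (fun h => hu' ((D i).inj h))
  have h4 := irr_classInner_eq ((D i).irr u') ((D j).irr v')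
  rw [h1, h2, h3, h4] at h0
  split_ifs at h0 <;> norm_num at h0

theorem Psi_X_indep {i j : ι} (hij : i ≠ j) (u u' : Fin (D i).t) :
    classInner ((D j).Ψ) ((D i).X u) = classInner ((D j).Ψ) ((D i).X u') := by
  have v : Fin (D j).t := ⟨0, by have := (D j).two_le; omega⟩
  have ha : classInner ((D j).Phi v) ((D i).X u - (D i).X u') = 0 := by
    rw [(D i).X_sub u u', classInner_smul_right, classInner_sub_right,
      Phi_orth D hdisj (Ne.symm hij), Phi_orth D hdisj (Ne.symm hij)]
    ring
  have hb : classInner ((D j).X v) ((D i).X u - (D i).X u') = 0 := by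
    rw [classInner_sub_right,
      irr_classInner_ne ((D j).irr v) ((D i).irr u) (fun h => X_ne D hdisj hij u v h.symm),
      irr_classInner_ne ((D j).irr v) ((D i).irr u') (fun h => X_ne D hdisj hij u' v h.symm)]
    ring
  have h1 : classInner ((D j).Ψ) ((D i).X u - (D i).X u') = 0 := by
    rw [(D j).Psi_eq v, classInner_add_left, classInner_smul_left, ha, hb]
    ring
  rw [classInner_sub_right] at h1
  linear_combination h1

theorem exists_cc [DecidableEq ι] : ∃ cc : ι → ι → ℤ, (∀ j, cc j j = (D j).c) ∧
    ∀ i j (u : Fin (D i).t), classInner ((D j).Ψ) ((D i).X u) = (cc i j : ℂ) := by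
  have hex : ∀ i j, ∃ z : ℤ, ∀ u : Fin (D i).t, classInner ((D j).Ψ) ((D i).X u) = (z : ℂ) := by
    intro i j
    have u₀ : Fin (D i).t := ⟨0, by have := (D i).two_le; omega⟩
    obtain ⟨z, hz⟩ := genChar_classInner_irr_int (D j).gen ((D i).irr u₀)
    refine ⟨z, fun u => ?_⟩
    by_cases hij : i = j
    · subst hij
      rw [(D i).inner_X u, ← hz, (D i).inner_X u₀]
    · rw [Psi_X_indep D hdisj hij u u₀, hz]
  choose z hz using hex
  refine ⟨fun i j => if i = j then (D j).c else z i j, fun j => if_pos rfl, ?_⟩
  intro i j u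
  by_cases hij : i = j
  · subst hij
    simp only [if_pos]
    exact (D i).inner_X u
  · simp only [if_neg hij]
    exact hz i j u

theorem Psi_Psi (cc : ι → ι → ℤ)
    (hcc : ∀ i j (u : Fin (D i).t), classInner ((D j).Ψ) ((D i).X u) = (cc i j : ℂ))
    {i j : ι} (hij : i ≠ j) :
    classInner ((D i).Ψ) ((D j).Ψ)
      = ((D j).ε : ℂ) * (cc j i : ℂ) + ((D i).ε : ℂ) * (cc i j : ℂ) := by
  have u : Fin (D i).t := ⟨0, by have := (D i).two_le; omega⟩
  have v : Fin (D j).t := ⟨0, by have := (D j).two_le; omega⟩
  have h1 : classInner ((D i).Phi u) ((D j).X v) = (cc j i : ℂ) := by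
    have := hcc j i v
    rw [(D i).Psi_eq u, classInner_add_left, classInner_smul_left,
      irr_classInner_ne ((D i).irr u) ((D j).irr v) (X_ne D hdisj hij u v)] at this
    linear_combination this
  have h2 : classInner ((D i).X u) ((D j).Phi v) = (cc i j : ℂ) := by
    have := hcc i j u
    rw [(D j).Psi_eq v, classInner_add_left, classInner_smul_left,
      irr_classInner_ne ((D j).irr v) ((D i).irr u) (fun h => X_ne D hdisj hij u v h.symm)]
      at this
    rw [← classInner_conj_symm]
    have h3 : classInner ((D j).Phi v) ((D i).X u) = (cc i j : ℂ) := by linear_combination this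
    rw [h3, map_intCast]
  conv_lhs => rw [(D i).Psi_eq u, (D j).Psi_eq v]
  rw [classInner_add_left, classInner_add_right, classInner_add_right, classInner_smul_left,
    classInner_smul_left, classInner_smul_right, classInner_smul_right,
    Phi_orth D hdisj hij, h1, h2,
    irr_classInner_ne ((D i).irr u) ((D j).irr v) (X_ne D hdisj hij u v)]
  simp only [map_intCast]
  ring

end

end Cfsg.Agent.Lib.H8
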