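import Cfsg.Agent.Lib.H8.ExcGlobalB

/-!
# Families of abelian T.I. subgroups: column bound and parity (helper8), part C
-/

set_option autoImplicit false

namespace Cfsg.Agent.Lib.H8

open Cfsg Cfsg.Agent.Lib.L0
open scoped ComplexConjugate

variable {G : Type*} [Group G] [Fintype G] {ι : Type*} [Fintype ι] [DecidableEq ι]
  {A : ι → Subgroup G} (D : ∀ j, ExcData G (A j))

/-- The orthonormal family `1, X k u`. -/
noncomputable def famY : Option (Σ k : ι, Fin (D k).t) → G → ℂ
  | none => 1
  | some p => (D p.1).X p.2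

theorem famY_irr (p : Option (Σ k : ι, Fin (D k).t)) : IsIrrCharacter G (famY D p) := by
  cases p with
  | none => exact Cfsg.Agent.Lib.L0.isIrrCharacter_one
  | some p => exact (D p.1).irr p.2

section
variable (hdisj : ∀ i j, i ≠ j → Disjoint (conjSet (A i)) (conjSet (A j)))
include hdisj

theorem famY_injective : Function.Injective (famY D) := by
  intro p q hpq
  cases p with
  | none =>
    cases q with
    | none => rfl
    | some q => exact absurd hpq.symm ((D q.1).ne_one q.2)
  | some p =>
    cases q with
    | none => exact absurd hpq ((D p.1).ne_one p.2)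
    | some q =>
      obtain ⟨k, u⟩ := p
      obtain ⟨k', u'⟩ := q
      by_cases hk : k = k'
      · subst hk
        have : u = u' := (D k).inj hpq
        subst this
        rfl
      · exact absurd hpq (X_ne D hdisj hk u u')

theorem famY_orth (p q : Option (Σ k : ι, Fin (D k).t)) :
    classInner (famY D p) (famY D q) = if p = q then 1 else 0 := by
  split_ifs with h
  · subst h
    exact irr_classInner_self (famY_irr D p)
  · exact irr_classInner_ne (famY_irr D p) (famY_irr D q)
      (fun h' => h (famY_injective D hdisj h'))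

/-- Column bound. -/
theorem col_bound (cc : ι → ι → ℤ) (hccd : ∀ j, cc j j = (D j).c)
    (hcc : ∀ i j (u : Fin (D i).t), classInner ((D j).Ψ) ((D i).X u) = (cc i j : ℂ)) (j : ι) :
    ∑ k ∈ Finset.univ.erase j, ((D k).t : ℤ) * (cc k j) ^ 2 ≤ ((D j).e : ℤ) - 1 := by
  classical
  have hb := (bessel_int (Finset.univ : Finset (Option (Σ k : ι, Fin (D k).t))) (famY D)
    (fun p _ q _ => famY_orth D hdisj p q) ((D j).Ψ)
    (fun p => match p with
      | none => 1
      | some p => cc p.1 j)
    (fun p _ => by
      cases p with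
      | none =>
        show classInner ((D j).Ψ) (1 : G → ℂ) = ((1 : ℤ) : ℂ)
        rw [(D j).inner_one]; simp
      | some p => exact hcc p.1 j p.2)
    (((D j).e : ℤ) + 2 * (D j).ε * (D j).c) (D j).norm).1
  rw [Fintype.sum_option, Fintype.sum_sigma] at hb
  simp only [one_pow, Finset.sum_const, Finset.card_univ, Fintype.card_fin, nsmul_eq_mul] at hb
  rw [← Finset.add_sum_erase _ _ (Finset.mem_univ j), hccd j] at hb
  have ht : (2 : ℤ) ≤ ((D j).t : ℤ) := by exact_mod_cast (D j).two_le
  have hkey : 0 ≤ ((D j).t : ℤ) * (D j).c ^ 2 - 2 * (D j).ε * (D j).c := by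
    have hc1 : 0 ≤ (D j).c * ((D j).c - 1) := by
      rcases le_or_gt (D j).c 0 with h | h
      · nlinarith
      · nlinarith
    have hc2 : 0 ≤ (D j).c * ((D j).c + 1) := by
      rcases le_or_gt 0 (D j).c with h | h
      · nlinarith
      · nlinarith
    rcases (D j).hε with h | h <;> rw [h] <;> nlinarith [sq_nonneg (D j).c]
  push_cast at hb
  linarith

/-- Parity: the tournament property. -/
theorem par_bound (hodd : Odd (Nat.card G)) (cc : ι → ι → ℤ)
    (hcc : ∀ i j (u : Fin (D i).t), classInner ((D j).Ψ) ((D i).X u) = (cc i j : ℂ))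
    {j m : ι} (hjm : j ≠ m) : cc j m ≠ 0 ∨ cc m j ≠ 0 := by
  by_contra hcon
  push Not at hcon
  have h1 := Psi_Psi D hdisj cc hcc hjm
  rw [hcon.1, hcon.2] at h1
  have h2 : classInner ((D j).Ψ) ((D m).Ψ) = ((0 : ℤ) : ℂ) := by
    rw [h1]; simp
  have := real_parity hodd (D j).gen (D m).gen (D j).real (D m).real 0 1 1 h2
    (by simpa using (D j).inner_one) (by simpa using (D m).inner_one)
  norm_num at this

end

end Cfsg.Agent.Lib.H8
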