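import Cfsg.Agent.Lib.H8.ExcGlobalC

/-!
# Families of abelian T.I. subgroups: the row bound (helper8), part D
-/

set_option autoImplicit false

namespace Cfsg.Agent.Lib.H8

open Cfsg Cfsg.Agent.Lib.L0
open scoped ComplexConjugate

variable {G : Type*} [Group G] [Fintype G] {ι : Type*} [Fintype ι] [DecidableEq ι]
  {A : ι → Subgroup G} (D : ∀ j, ExcData G (A j))

/-- The sum of the exceptional characters of `A j`. -/
noncomputable def Ysum (j : ι) : G → ℂ := ∑ u : Fin (D j).t, (D j).X u

/-- `W j = t Ψ - ε Y`. -/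
noncomputable def Wfun (j : ι) : G → ℂ :=
  ((D j).t : ℂ) • (D j).Ψ - ((D j).ε : ℂ) • Ysum D j

/-- `Q = t X s - Y`. -/
noncomputable def Qfun (k : ι) (s : Fin (D k).t) : G → ℂ :=
  ((D k).t : ℂ) • (D k).X s - Ysum D k

theorem Ysum_one (j : ι) : Ysum D j 1 = ((D j).t : ℂ) * ((D j).x : ℂ) := by
  unfold Ysum
  rw [Finset.sum_apply, Finset.sum_congr rfl (fun u _ => (D j).deg u), Finset.sum_const,
    Finset.card_univ, Fintype.card_fin, nsmul_eq_mul]

theorem Wfun_one (j : ι) : Wfun D j 1 = 0 := by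
  unfold Wfun
  rw [Pi.sub_apply, Pi.smul_apply, Pi.smul_apply, smul_eq_mul, smul_eq_mul, Ysum_one,
    (D j).Psi_one]
  ring

theorem Qfun_one (k : ι) (s : Fin (D k).t) : Qfun D k s 1 = 0 := by
  unfold Qfun
  rw [Pi.sub_apply, Pi.smul_apply, smul_eq_mul, Ysum_one, (D k).deg, sub_self]

section
variable (hdisj : ∀ i j, i ≠ j → Disjoint (conjSet (A i)) (conjSet (A j)))
  (cc : ι → ι → ℤ) (hccd : ∀ j, cc j j = (D j).c)
  (hcc : ∀ i j (u : Fin (D i).t), classInner ((D j).Ψ) ((D i).X u) = (cc i j : ℂ))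
include hdisj hcc

theorem X_Psi (i j : ι) (u : Fin (D i).t) :
    classInner ((D i).X u) ((D j).Ψ) = (cc i j : ℂ) := by
  rw [← classInner_conj_symm, hcc i j u, map_intCast]

theorem X_X (i j : ι) (u : Fin (D i).t) (v : Fin (D j).t) :
    classInner ((D i).X u) ((D j).X v)
      = if (⟨i, u⟩ : Σ k : ι, Fin (D k).t) = ⟨j, v⟩ then 1 else 0 := by
  have := famY_orth D hdisj (some ⟨i, u⟩) (some ⟨j, v⟩)
  simp only [famY, Option.some.injEq] at this
  exact this

theorem X_Ysum (k j : ι) (s : Fin (D k).t) :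
    classInner ((D k).X s) (Ysum D j) = if k = j then 1 else 0 := by
  unfold Ysum
  rw [classInner_sum_right]
  simp only [X_X D hdisj cc hcc]
  split_ifs with h
  · subst h
    rw [Finset.sum_eq_single s]
    · simp
    · intro v _ hv
      rw [if_neg]
      intro heq
      apply hv
      have := eq_of_heq (Sigma.mk.inj heq).2
      exact this.symm
    · intro h; exact absurd (Finset.mem_univ _) h
  · apply Finset.sum_eq_zero
    intro v _
    rw [if_neg]
    intro heq
    exact h (Sigma.mk.inj heq).1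

theorem Ysum_X (k j : ι) (s : Fin (D k).t) :
    classInner (Ysum D j) ((D k).X s) = if k = j then 1 else 0 := by
  rw [← classInner_conj_symm, X_Ysum D hdisj cc hcc]
  split_ifs <;> simp

theorem Ysum_Ysum (i j : ι) :
    classInner (Ysum D i) (Ysum D j) = if i = j then ((D i).t : ℂ) else 0 := by
  conv_lhs => rw [Ysum]
  rw [classInner_sum_left]
  simp only [X_Ysum D hdisj cc hcc]
  split_ifs with h
  · simp
  · simp

theorem Psi_Ysum (i j : ι) :
    classInner ((D i).Ψ) (Ysum D j) = ((D j).t : ℂ) * (cc j i : ℂ) := by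
  unfold Ysum
  rw [classInner_sum_right, Finset.sum_congr rfl (fun u _ => hcc j i u), Finset.sum_const,
    Finset.card_univ, Fintype.card_fin, nsmul_eq_mul]

theorem Ysum_Psi (i j : ι) :
    classInner (Ysum D j) ((D i).Ψ) = ((D j).t : ℂ) * (cc j i : ℂ) := by
  rw [← classInner_conj_symm, Psi_Ysum D hdisj cc hcc]
  simp

theorem X_Wfun (k j : ι) (s : Fin (D k).t) :
    classInner ((D k).X s) (Wfun D j)
      = ((D j).t : ℂ) * (cc k j : ℂ) - ((D j).ε : ℂ) * (if k = j then 1 else 0) := by
  unfold Wfun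
  rw [classInner_sub_right, classInner_smul_right, classInner_smul_right,
    X_Psi D hdisj cc hcc, X_Ysum D hdisj cc hcc]
  simp

theorem X_Qfun (k : ι) (s : Fin (D k).t) :
    classInner ((D k).X s) (Qfun D k s) = ((D k).t : ℂ) - 1 := by
  unfold Qfun
  rw [classInner_sub_right, classInner_smul_right, X_Ysum D hdisj cc hcc,
    irr_classInner_self ((D k).irr s)]
  simp

theorem Qfun_Qfun (k : ι) (s : Fin (D k).t) :
    classInner (Qfun D k s) (Qfun D k s) = ((D k).t : ℂ) ^ 2 - ((D k).t : ℂ) := by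
  unfold Qfun
  rw [classInner_sub_left, classInner_sub_right, classInner_sub_right, classInner_smul_left,
    classInner_smul_left, classInner_smul_right, classInner_smul_right,
    X_Ysum D hdisj cc hcc, Ysum_X D hdisj cc hcc, Ysum_Ysum D hdisj cc hcc,
    irr_classInner_self ((D k).irr s)]
  simp
  ring

theorem Qfun_Wfun (k j : ι) (s : Fin (D k).t) :
    classInner (Qfun D k s) (Wfun D j) = 0 := by
  unfold Qfun
  rw [classInner_sub_left, classInner_smul_left, X_Wfun D hdisj cc hcc]
  unfold Wfun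
  rw [classInner_sub_right, classInner_smul_right, classInner_smul_right,
    Ysum_Psi D hdisj cc hcc, Ysum_Ysum D hdisj cc hcc]
  split_ifs with h
  · subst h
    simp
    ring
  · simp
    ring

theorem Wfun_Qfun (k j : ι) (s : Fin (D k).t) :
    classInner (Wfun D j) (Qfun D k s) = 0 := by
  rw [← classInner_conj_symm, Qfun_Wfun D hdisj cc hcc, map_zero]

end

end Cfsg.Agent.Lib.H8
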