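import Cfsg.Agent.Lib.H8.ExcGlobalD

/-!
# Families of abelian T.I. subgroups: the row bound (helper8), part E
-/

set_option autoImplicit false

namespace Cfsg.Agent.Lib.H8

open Cfsg Cfsg.Agent.Lib.L0
open scoped ComplexConjugate

variable {G : Type*} [Group G] [Fintype G] {ι : Type*} [Fintype ι] [DecidableEq ι]
  {A : ι → Subgroup G} (D : ∀ j, ExcData G (A j))

section
variable (hdisj : ∀ i j, i ≠ j → Disjoint (conjSet (A i)) (conjSet (A j)))
  (cc : ι → ι → ℤ) (hccd : ∀ j, cc j j = (D j).c)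
  (hcc : ∀ i j (u : Fin (D i).t), classInner ((D j).Ψ) ((D i).X u) = (cc i j : ℂ))
include hdisj hcc hccd

theorem Wfun_Wfun (i j : ι) :
    classInner (Wfun D i) (Wfun D j)
      = if i = j then ((D i).t : ℂ) * (((D i).t : ℂ) * ((D i).e : ℂ) + 1) else 0 := by
  unfold Wfun
  simp only [classInner_sub_left, classInner_sub_right, classInner_smul_left,
    classInner_smul_right, Psi_Ysum D hdisj cc hcc, Ysum_Psi D hdisj cc hcc,
    Ysum_Ysum D hdisj cc hcc]
  split_ifs with h
  · subst h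
    rw [(D i).norm, hccd i]
    have h2 := (D i).eps_sq
    simp only [map_natCast, map_intCast]
    push_cast
    linear_combination ((D i).t : ℂ) * h2
  · rw [Psi_Psi D hdisj cc hcc h]
    simp only [map_natCast, map_intCast]
    ring

set_option maxHeartbeats 1600000 in
/-- Row bound. -/
theorem row_bound (k : ι) :
    ∑ j ∈ Finset.univ.erase k, ((D j).t : ℝ) * ((cc k j : ℤ) : ℝ) ^ 2 / ((D j).a : ℝ)
      ≤ ((D k).e : ℝ) / ((D k).a : ℝ) - ((D k).x : ℝ) ^ 2 / (Nat.card G : ℝ) := by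
  classical
  have s : Fin (D k).t := ⟨0, by have := (D k).two_le; omega⟩
  let Y : Option (Option ι) → G → ℂ := fun p => match p with
    | none => regFun G
    | some none => Qfun D k s
    | some (some j) => Wfun D j
  let n : Option (Option ι) → ℝ := fun p => match p with
    | none => (Nat.card G : ℝ)
    | some none => ((D k).t : ℝ) ^ 2 - ((D k).t : ℝ)
    | some (some j) => ((D j).t : ℝ) * (((D j).t : ℝ) * ((D j).e : ℝ) + 1)
  let y : Option (Option ι) → ℝ := fun p => match p with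
    | none => ((D k).x : ℝ)
    | some none => ((D k).t : ℝ) - 1
    | some (some j) => ((D j).t : ℝ) * ((cc k j : ℤ) : ℝ)
        - (((D j).ε : ℤ) : ℝ) * (if k = j then 1 else 0)
  have htR : ∀ j, (2 : ℝ) ≤ ((D j).t : ℝ) := fun j => by exact_mod_cast (D j).two_le
  have hn : ∀ p ∈ (Finset.univ : Finset (Option (Option ι))), 0 < n p := by
    intro p _
    rcases p with _ | _ | j
    · show (0 : ℝ) < (Nat.card G : ℝ)
      exact_mod_cast Nat.card_pos
    · show (0 : ℝ) < ((D k).t : ℝ) ^ 2 - ((D k).t : ℝ)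
      nlinarith [htR k]
    · show (0 : ℝ) < ((D j).t : ℝ) * (((D j).t : ℝ) * ((D j).e : ℝ) + 1)
      have h1 := htR j
      have h2 : (0 : ℝ) ≤ ((D j).e : ℝ) := by positivity
      positivity
  have horth : ∀ p ∈ (Finset.univ : Finset (Option (Option ι))),
      ∀ q ∈ (Finset.univ : Finset (Option (Option ι))),
      classInner (Y p) (Y q) = if p = q then ((n p : ℝ) : ℂ) else 0 := by
    intro p _ q _
    rcases p with _ | _ | i <;> rcases q with _ | _ | j
    · show classInner (regFun G) (regFun G) = _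
      rw [classInner_regFun_self, if_pos rfl]
      show (Nat.card G : ℂ) = (((Nat.card G : ℝ)) : ℂ)
      simp
    · show classInner (regFun G) (Qfun D k s) = _
      rw [classInner_regFun_left, Qfun_one, if_neg (by simp)]; simp
    · show classInner (regFun G) (Wfun D j) = _
      rw [classInner_regFun_left, Wfun_one, if_neg (by simp)]; simp
    · show classInner (Qfun D k s) (regFun G) = _
      rw [classInner_regFun_right, Qfun_one, if_neg (by simp)]
    · show classInner (Qfun D k s) (Qfun D k s) = _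
      rw [Qfun_Qfun D hdisj cc hcc, if_pos rfl]
      show _ = ((((D k).t : ℝ) ^ 2 - ((D k).t : ℝ) : ℝ) : ℂ)
      push_cast; ring
    · show classInner (Qfun D k s) (Wfun D j) = _
      rw [Qfun_Wfun D hdisj cc hcc, if_neg (by simp)]
    · show classInner (Wfun D i) (regFun G) = _
      rw [classInner_regFun_right, Wfun_one, if_neg (by simp)]
    · show classInner (Wfun D i) (Qfun D k s) = _
      rw [Wfun_Qfun D hdisj cc hcc, if_neg (by simp)]
    · show classInner (Wfun D i) (Wfun D j) = _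
      rw [Wfun_Wfun D hdisj cc hccd hcc]
      by_cases hij : i = j
      · subst hij
        rw [if_pos rfl, if_pos rfl]
        show _ = ((((D i).t : ℝ) * (((D i).t : ℝ) * ((D i).e : ℝ) + 1) : ℝ) : ℂ)
        push_cast; ring
      · rw [if_neg hij, if_neg (by simpa using hij)]
  have hy : ∀ p ∈ (Finset.univ : Finset (Option (Option ι))),
      classInner ((D k).X s) (Y p) = ((y p : ℝ) : ℂ) := by
    intro p _
    rcases p with _ | _ | j
    · show classInner ((D k).X s) (regFun G) = (((D k).x : ℝ) : ℂ)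
      rw [classInner_regFun_right, (D k).deg]; simp
    · show classInner ((D k).X s) (Qfun D k s) = ((((D k).t : ℝ) - 1 : ℝ) : ℂ)
      rw [X_Qfun D hdisj cc hcc]; push_cast; ring
    · show classInner ((D k).X s) (Wfun D j) = ((((D j).t : ℝ) * ((cc k j : ℤ) : ℝ)
        - (((D j).ε : ℤ) : ℝ) * (if k = j then 1 else 0) : ℝ) : ℂ)
      rw [X_Wfun D hdisj cc hcc]
      split_ifs <;> push_cast <;> ring
  have hm : classInner ((D k).X s) ((D k).X s) = ((1 : ℝ) : ℂ) := by
    rw [irr_classInner_self ((D k).irr s)]; simp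
  have hb := (bessel_real Finset.univ Y n hn horth ((D k).X s) y hy 1 hm).1
  rw [Fintype.sum_option, Fintype.sum_option] at hb
  have hb' : ((D k).x : ℝ) ^ 2 / (Nat.card G : ℝ)
      + ((((D k).t : ℝ) - 1) ^ 2 / (((D k).t : ℝ) ^ 2 - ((D k).t : ℝ))
      + ∑ j : ι, (((D j).t : ℝ) * ((cc k j : ℤ) : ℝ)
          - (((D j).ε : ℤ) : ℝ) * (if k = j then 1 else 0)) ^ 2
          / (((D j).t : ℝ) * (((D j).t : ℝ) * ((D j).e : ℝ) + 1))) ≤ 1 := hb
  clear hb
  rw [← Finset.add_sum_erase _ _ (Finset.mem_univ k), if_pos rfl] at hb'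
  -- the erase part
  have herase : ∑ j ∈ Finset.univ.erase k, (((D j).t : ℝ) * ((cc k j : ℤ) : ℝ)
          - (((D j).ε : ℤ) : ℝ) * (if k = j then 1 else 0)) ^ 2
          / (((D j).t : ℝ) * (((D j).t : ℝ) * ((D j).e : ℝ) + 1))
      = ∑ j ∈ Finset.univ.erase k,
        ((D j).t : ℝ) * ((cc k j : ℤ) : ℝ) ^ 2 / ((D j).a : ℝ) := by
    refine Finset.sum_congr rfl fun j hj => ?_
    have hne : k ≠ j := fun h => (Finset.ne_of_mem_erase hj) h.symm
    rw [if_neg hne]
    have hcard : ((D j).a : ℝ) = ((D j).t : ℝ) * ((D j).e : ℝ) + 1 := by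
      rw [← (D j).count]; push_cast; ring
    rw [hcard]
    have h1 := htR j
    have h2 : (0 : ℝ) ≤ ((D j).e : ℝ) := by positivity
    have h3 : ((D j).t : ℝ) ≠ 0 := by linarith
    have h4 : ((D j).t : ℝ) * ((D j).e : ℝ) + 1 ≠ 0 := by positivity
    field_simp
    ring
  rw [herase] at hb'
  -- the k term
  have hcardk : ((D k).a : ℝ) = ((D k).t : ℝ) * ((D k).e : ℝ) + 1 := by
    rw [← (D k).count]; push_cast; ring
  have htk := htR k
  have hek : (0 : ℝ) ≤ ((D k).e : ℝ) := by positivity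
  have hak : (0 : ℝ) < ((D k).t : ℝ) * ((D k).e : ℝ) + 1 := by positivity
  have hkterm : 1 / (((D k).t : ℝ) * (((D k).t : ℝ) * ((D k).e : ℝ) + 1))
      ≤ (((D k).t : ℝ) * ((cc k k : ℤ) : ℝ) - (((D k).ε : ℤ) : ℝ) * 1) ^ 2
          / (((D k).t : ℝ) * (((D k).t : ℝ) * ((D k).e : ℝ) + 1)) := by
    apply div_le_div_of_nonneg_right _ (by positivity)
    have hz : ((D k).t : ℤ) * cc k k - (D k).ε ≠ 0 := by
      intro h0
      obtain ⟨r, hr⟩ := (D k).even_t
      have h2r : ((D k).t : ℤ) = 2 * r := by rw [hr]; push_cast; ring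
      have hdvd : (2 : ℤ) ∣ (D k).ε := ⟨(r : ℤ) * cc k k, by rw [h2r] at h0; linarith⟩
      rcases (D k).hε with h | h <;> rw [h] at hdvd <;> omega
    have h1 : (1 : ℤ) ≤ (((D k).t : ℤ) * cc k k - (D k).ε) ^ 2 := by
      have := sq_nonneg (((D k).t : ℤ) * cc k k - (D k).ε)
      have h0 : (((D k).t : ℤ) * cc k k - (D k).ε) ^ 2 ≠ 0 := pow_ne_zero 2 hz
      omega
    have h2 : ((1 : ℤ) : ℝ) ≤ (((((D k).t : ℤ) * cc k k - (D k).ε) ^ 2 : ℤ) : ℝ) := by
      exact_mod_cast h1
    push_cast at h2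
    linarith
  have hq : (((D k).t : ℝ) - 1) ^ 2 / (((D k).t : ℝ) ^ 2 - ((D k).t : ℝ))
      = (((D k).t : ℝ) - 1) / ((D k).t : ℝ) := by
    have h1 : ((D k).t : ℝ) - 1 ≠ 0 := by linarith
    have h2 : ((D k).t : ℝ) ≠ 0 := by linarith
    have h3 : ((D k).t : ℝ) ^ 2 - ((D k).t : ℝ) = ((D k).t : ℝ) * (((D k).t : ℝ) - 1) := by ring
    rw [h3]
    field_simp
  rw [hq] at hb'
  have hfinal : 1 - (((D k).t : ℝ) - 1) / ((D k).t : ℝ)
      - 1 / (((D k).t : ℝ) * (((D k).t : ℝ) * ((D k).e : ℝ) + 1))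
      = ((D k).e : ℝ) / ((D k).a : ℝ) := by
    rw [hcardk]
    have h2 : ((D k).t : ℝ) ≠ 0 := by linarith
    field_simp
    ring
  rw [← hfinal]
  linarith

end

end Cfsg.Agent.Lib.H8
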