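import Cfsg.Agent.Lib.H8.ExcPackageD
import Cfsg.Agent.Lib.H8.CharConstituent
import Cfsg.Agent.Lib.H8.CohFrob

/-!
# Exceptional characters for a (possibly nonabelian) T.I. subgroup, part A (helper8)

`K ≤ G` with `FrobTI K`, `N = N_G(K)`, and `D ≤ K` normal in `N` with `[K,K] ≤ D`.  The
characters `RelD K D` of `N` with `D` in the kernel but not `K` have degree `|N : K|`; there are
`(|K : D| - 1)/|N : K|` of them.
-/

set_option autoImplicit false

namespace Cfsg.Agent.Lib.H8

open Cfsg Cfsg.Agent.Lib.L0 Cfsg.Agent.Lib.L0.FrobTI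
open scoped ComplexConjugate

variable {G : Type*} [Group G] [Fintype G]

/-- The irreducible characters of `N_G(K)` with `D` in the kernel but not `K`. -/
abbrev RelD (K D : Subgroup G) : Type _ :=
  {χ : IrrCharacter (nz K) // (∃ k : nz K, (k : G) ∈ K ∧
    (χ : nz K → ℂ) k ≠ (χ : nz K → ℂ) 1) ∧
    ∀ d : nz K, (d : G) ∈ D → (χ : nz K → ℂ) d = (χ : nz K → ℂ) 1}

variable {K : Subgroup G} [Fintype (nz K)] {D : Subgroup G}

instance : Finite (RelD K D) := by
  haveI : Finite (IrrCharacter (nz K)) := Cfsg.Agent.Lib.H24.finite_irr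
  exact Subtype.finite

/-- forget the condition on `D` -/
def RelD.toRelT (ζ : RelD K D) : RelT K := ⟨ζ.1, ζ.2.1⟩

theorem RelD.toRelT_coe (ζ : RelD K D) :
    ((ζ.toRelT.1 : IrrCharacter (nz K)) : nz K → ℂ) = ((ζ.1 : IrrCharacter (nz K)) : nz K → ℂ) :=
  rfl

theorem RelD.toRelT_injective : Function.Injective (RelD.toRelT (K := K) (D := D)) := by
  intro ζ ξ h
  have : ζ.1 = ξ.1 := congrArg (fun z : RelT K => z.1) h
  exact Subtype.ext this

theorem relD_ne {ζ ξ : RelD K D} (hne : ζ ≠ ξ) :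
    ((ζ.1 : IrrCharacter (nz K)) : nz K → ℂ) ≠ ((ξ.1 : IrrCharacter (nz K)) : nz K → ℂ) := by
  intro heq
  apply hne
  exact Subtype.ext (Subtype.ext heq)

/-- The relevant characters with `[K,K]` in the kernel have degree `|N : K|`. -/
theorem relD_degree (h : FrobTI K) (D : Subgroup G) (hcomm : ⁅K, K⁆ ≤ D) {χ : nz K → ℂ}
    (hχ : IsIrrCharacter (nz K) χ) (hrel : Rel K χ)
    (hD : ∀ d : nz K, (d : G) ∈ D → χ d = χ 1) :
    χ 1 = ((K.subgroupOf (nz K)).index : ℂ) := by
  classical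
  haveI : Fintype (K.subgroupOf (nz K)) := Fintype.ofFinite _
  obtain ⟨φ, hφ, rfl⟩ := h.exists_ind hχ hrel
  have hres : IsCharacter (K.subgroupOf (nz K))
      (fun k : K.subgroupOf (nz K) => indFun (K.subgroupOf (nz K)) φ (k : nz K)) :=
    isCharacter_restrict _ (isCharacter_of_irr hχ)
  have hinner : classInner
      (fun k : K.subgroupOf (nz K) => indFun (K.subgroupOf (nz K)) φ (k : nz K)) φ ≠ 0 := by
    have h1 := frobenius_reciprocity (K.subgroupOf (nz K)) φ (indFun (K.subgroupOf (nz K)) φ)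
      (isClassFunction_of_isCharacter (isCharacter_of_irr hχ))
    rw [irr_classInner_self hχ] at h1
    rw [← classInner_conj_symm, ← h1]
    simp
  have hlin : φ 1 = 1 := by
    apply linear_of_commutator_le (K.subgroupOf (nz K)) (D.subgroupOf (nz K)) ?_ φ hφ
    · intro a ha
      apply constituent_apply_eq_one hres hφ hinner
      show indFun (K.subgroupOf (nz K)) φ (a : nz K)
        = indFun (K.subgroupOf (nz K)) φ ((1 : K.subgroupOf (nz K)) : nz K)
      rw [hD _ (Subgroup.mem_subgroupOf.mp ha)]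
      rfl
    · rw [Subgroup.commutator_le]
      intro a ha b hb
      rw [Subgroup.mem_subgroupOf] at ha hb ⊢
      exact hcomm (Subgroup.commutator_mem_commutator ha hb)
  rw [indFun_apply_one, hlin, mul_one]

/-- The difference of two characters in `RelD`. -/
theorem relD_diff_props (h : FrobTI K) (hcomm : ⁅K, K⁆ ≤ D) (ζ ξ : RelD K D) :
    IsClassFunction (nz K) ((ζ.1 : nz K → ℂ) - (ξ.1 : nz K → ℂ)) ∧
    (∀ x : nz K, (x : G) ∉ K → ((ζ.1 : nz K → ℂ) - (ξ.1 : nz K → ℂ)) x = 0) ∧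
    ((ζ.1 : nz K → ℂ) - (ξ.1 : nz K → ℂ)) 1 = 0 := by
  refine ⟨?_, ?_, ?_⟩
  · intro x y
    simp only [Pi.sub_apply]
    rw [isClassFunction_of_isCharacter (isCharacter_of_irr ζ.1.2) x y,
      isClassFunction_of_isCharacter (isCharacter_of_irr ξ.1.2) x y]
  · intro x hx
    rw [Pi.sub_apply, h.vanish ζ.1.2 ζ.2.1 x hx, h.vanish ξ.1.2 ξ.2.1 x hx, sub_zero]
  · rw [Pi.sub_apply, relD_degree h D hcomm ζ.1.2 ζ.2.1 ζ.2.2,
      relD_degree h D hcomm ξ.1.2 ξ.2.1 ξ.2.2, sub_self]

/-- the number of characters in `RelD` -/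
theorem relD_count (h : FrobTI K) (hDK : D ≤ K) [hDn : (D.subgroupOf (nz K)).Normal]
    (hcomm : ⁅K, K⁆ ≤ D) [Fintype (RelD K D)] :
    Fintype.card (RelD K D) * (K.subgroupOf (nz K)).index + 1 = D.relIndex K := by
  classical
  haveI : Fintype (IrrCharacter (nz K)) := Fintype.ofFinite _
  set e := (K.subgroupOf (nz K)).index with he
  have he0 : e ≠ 0 := Subgroup.index_ne_zero_of_finite
  have hallD := Cfsg.Agent.Lib.H24.sum_sq_of_le_ker (D.subgroupOf (nz K))
  have hallK := Cfsg.Agent.Lib.H24.sum_sq_of_le_ker (K.subgroupOf (nz K))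
  rw [← he] at hallK
  have hidx : (D.subgroupOf (nz K)).index = D.relIndex K * e := by
    rw [he, ← Subgroup.relIndex_mul_index
      (show D.subgroupOf (nz K) ≤ K.subgroupOf (nz K) from
        fun x hx => Subgroup.mem_subgroupOf.mpr (hDK (Subgroup.mem_subgroupOf.mp hx))),
      Subgroup.relIndex_subgroupOf Subgroup.le_normalizer]
  rw [hidx] at hallD
  -- split the sum over `D ≤ ker`
  rw [← Finset.sum_filter_add_sum_filter_not _
    (fun χ : IrrCharacter (nz K) => ∀ n ∈ K.subgroupOf (nz K),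
      (χ : nz K → ℂ) n = (χ : nz K → ℂ) 1)] at hallD
  have hf1 : (Finset.univ.filter (fun χ : IrrCharacter (nz K) =>
        ∀ n ∈ D.subgroupOf (nz K), (χ : nz K → ℂ) n = (χ : nz K → ℂ) 1)).filter
      (fun χ : IrrCharacter (nz K) => ∀ n ∈ K.subgroupOf (nz K),
        (χ : nz K → ℂ) n = (χ : nz K → ℂ) 1)
      = Finset.univ.filter (fun χ : IrrCharacter (nz K) => ∀ n ∈ K.subgroupOf (nz K),
        (χ : nz K → ℂ) n = (χ : nz K → ℂ) 1) := by
    ext χ
    simp only [Finset.mem_filter, Finset.mem_univ, true_and]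
    constructor
    · exact fun hx => hx.2
    · intro hx
      exact ⟨fun n hn => hx n (Subgroup.mem_subgroupOf.mpr
        (hDK (Subgroup.mem_subgroupOf.mp hn))), hx⟩
  rw [hf1, hallK] at hallD
  have hf2 : ∑ χ ∈ (Finset.univ.filter (fun χ : IrrCharacter (nz K) =>
        ∀ n ∈ D.subgroupOf (nz K), (χ : nz K → ℂ) n = (χ : nz K → ℂ) 1)).filter
      (fun χ : IrrCharacter (nz K) => ¬ ∀ n ∈ K.subgroupOf (nz K),
        (χ : nz K → ℂ) n = (χ : nz K → ℂ) 1), charDegree (χ : nz K → ℂ) ^ 2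
      = Fintype.card (RelD K D) * e ^ 2 := by
    rw [Finset.sum_congr rfl (g := fun _ => e ^ 2), Finset.sum_const, smul_eq_mul]
    · congr 1
      symm
      apply Fintype.card_of_subtype
      intro χ
      simp only [Finset.mem_filter, Finset.mem_univ, true_and]
      constructor
      · rintro ⟨h1, h2⟩
        refine ⟨?_, fun d hd => h1 d (Subgroup.mem_subgroupOf.mpr hd)⟩
        by_contra hcon
        apply h2
        intro n hn
        by_contra hne
        exact hcon ⟨n, Subgroup.mem_subgroupOf.mp hn, hne⟩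
      · rintro ⟨⟨k, hk, hne⟩, h2⟩
        refine ⟨fun n hn => h2 n (Subgroup.mem_subgroupOf.mp hn), ?_⟩
        intro hall
        exact hne (hall k (Subgroup.mem_subgroupOf.mpr hk))
    · intro χ hχ
      simp only [Finset.mem_filter, Finset.mem_univ, true_and] at hχ
      obtain ⟨h1, h2⟩ := hχ
      have hrel : Rel K (χ : nz K → ℂ) := by
        by_contra hcon
        apply h2
        intro n hn
        by_contra hne
        exact hcon ⟨n, Subgroup.mem_subgroupOf.mp hn, hne⟩
      have hdeg := relD_degree h D hcomm χ.2 hrel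
        (fun d hd => h1 d (Subgroup.mem_subgroupOf.mpr hd))
      rw [Cfsg.Agent.Lib.H23.apply_one_eq_charDegree _ χ.2, ← he] at hdeg
      have : charDegree (χ : nz K → ℂ) = e := by exact_mod_cast hdeg
      rw [this]
  rw [hf2] at hallD
  have h3 : e * (Fintype.card (RelD K D) * e + 1) = e * D.relIndex K := by
    rw [mul_comm e (D.relIndex K), ← hallD]; ring
  exact Nat.eq_of_mul_eq_mul_left (Nat.pos_of_ne_zero he0) h3

end Cfsg.Agent.Lib.H8
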