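import Cfsg.Agent.Lib.H8.ExcNilA

/-!
# Exceptional characters for a (possibly nonabelian) T.I. subgroup, part B (helper8)

Complex conjugation on `RelD K D`, the exceptional characters and the functions `α_ζ = π - ζ`.
-/

set_option autoImplicit false

namespace Cfsg.Agent.Lib.H8

open Cfsg Cfsg.Agent.Lib.L0 Cfsg.Agent.Lib.L0.FrobTI
open scoped ComplexConjugate

variable {G : Type*} [Group G] [Fintype G] {K : Subgroup G} [Fintype (nz K)] {D : Subgroup G}

/-- complex conjugation on `RelD` -/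
noncomputable def relDConj (ζ : RelD K D) : RelD K D :=
  ⟨(relConj ζ.toRelT).1, (relConj ζ.toRelT).2, by
    intro d hd
    have := ζ.2.2 d hd
    show conjFun ((ζ.1 : IrrCharacter (nz K)) : nz K → ℂ) d
      = conjFun ((ζ.1 : IrrCharacter (nz K)) : nz K → ℂ) 1
    rw [conjFun_apply, conjFun_apply, this]⟩

theorem relDConj_coe (ζ : RelD K D) :
    (((relDConj ζ).1 : IrrCharacter (nz K)) : nz K → ℂ)
      = conjFun ((ζ.1 : IrrCharacter (nz K)) : nz K → ℂ) := rfl

theorem relDConj_injective : Function.Injective (relDConj (K := K) (D := D)) := by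
  intro ζ ξ heq
  have h1 : conjFun ((ζ.1 : IrrCharacter (nz K)) : nz K → ℂ)
      = conjFun ((ξ.1 : IrrCharacter (nz K)) : nz K → ℂ) := by
    rw [← relDConj_coe, ← relDConj_coe, heq]
  have h2 := congrArg conjFun h1
  rw [conjFun_conjFun, conjFun_conjFun] at h2
  exact Subtype.ext (Subtype.ext h2)

/-- Exceptional characters attached to `RelD K D`. -/
theorem exists_exceptional_nil (h : FrobTI K) (hcomm : ⁅K, K⁆ ≤ D) :
    ∃ (ε : ℂ) (f : RelD K D → IrrCharacter G),
      (ε = 1 ∨ ε = -1) ∧ Function.Injective f ∧ ∀ χ ξ : RelD K D,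
        indFun (nz K)
          ((χ.1 : nz K → ℂ) - (ξ.1 : nz K → ℂ))
        = ε • ((f χ : G → ℂ) - (f ξ : G → ℂ)) := by
  classical
  set T := RelD K D with hT
  have hFT : Fintype T := Fintype.ofFinite _
  set n := Fintype.card T with hn
  have eqv : T ≃ Fin n := Fintype.equivFin T
  by_cases hn0 : n = 0
  · have hemp : IsEmpty T := by
      rw [← Fintype.card_eq_zero_iff]; exact hn0
    exact ⟨1, fun χ => (hemp.false χ).elim, Or.inl rfl, fun χ => (hemp.false χ).elim,
      fun χ => (hemp.false χ).elim⟩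
  have i₀ : Fin n := ⟨0, Nat.pos_of_ne_zero hn0⟩
  set τ : Fin n → (G → ℂ) := fun i => indFun (nz K)
    (((eqv.symm i).1 : nz K → ℂ) - ((eqv.symm i₀).1 : nz K → ℂ)) with hτ
  have hdp : ∀ i j : Fin n, _ := fun i j =>
    relD_diff_props h hcomm (eqv.symm i) (eqv.symm j)
  have h0 : τ i₀ = 0 := by
    simp only [hτ, sub_self, indFun_zero]
  have hgen : ∀ i, IsGeneralizedCharacter G (τ i) := by
    intro i
    simp only [hτ]
    rw [indFun_sub]
    exact ⟨_, _, isCharacter_indFun _ (isCharacter_of_irr (eqv.symm i).1.2),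
      isCharacter_indFun _ (isCharacter_of_irr (eqv.symm i₀).1.2), rfl⟩
  have hone : ∀ i, τ i 1 = 0 := by
    intro i
    obtain ⟨d1, d2, d3⟩ := hdp i i₀
    simp only [hτ]
    rw [indFun_apply_one, d3, mul_zero]
  have hgram : ∀ i j, i ≠ i₀ → j ≠ i₀ → classInner (τ i) (τ j) = if i = j then 2 else 1 := by
    intro i j hi hj
    obtain ⟨d1, d2, d3⟩ := hdp i i₀
    obtain ⟨e1, e2, e3⟩ := hdp j i₀
    simp only [hτ]
    rw [classInner_indFun_TI (K : Set G) h.hTI _ _ e1 d2 e2 d3]
    have hne : ∀ a b : Fin n, a ≠ b →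
        ((eqv.symm a).1 : nz K → ℂ)
          ≠ ((eqv.symm b).1 : nz K → ℂ) := by
      intro a b hab' heq
      apply hab'
      have : (eqv.symm a).1 = (eqv.symm b).1 := Subtype.ext heq
      exact eqv.symm.injective (Subtype.ext this)
    rw [classInner_sub_left, classInner_sub_right, classInner_sub_right,
      irr_classInner_self (eqv.symm i₀).1.2,
      irr_classInner_ne (eqv.symm i).1.2 (eqv.symm i₀).1.2 (hne i i₀ hi),
      irr_classInner_ne (eqv.symm i₀).1.2 (eqv.symm j).1.2 (hne i₀ j (Ne.symm hj))]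
    by_cases hij : i = j
    · subst hij
      rw [if_pos rfl, irr_classInner_self (eqv.symm i).1.2]; norm_num
    · rw [if_neg hij, irr_classInner_ne (eqv.symm i).1.2 (eqv.symm j).1.2 (hne i j hij)]; norm_num
  obtain ⟨ε, hε, μ, hμirr, hμinj, hμ⟩ := Cfsg.Agent.S0198.result n i₀ τ h0 hgen hone hgram
  refine ⟨ε, fun χ => ⟨μ (eqv χ), hμirr _⟩, hε, ?_, ?_⟩
  · intro χ ξ hχξ
    have := congrArg Subtype.val hχξ
    exact eqv.injective (hμinj this)
  · intro χ ξ
    have h1 : ((χ.1 : nz K → ℂ)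
          - (ξ.1 : nz K → ℂ))
        = (((eqv.symm (eqv χ)).1 : nz K → ℂ)
            - ((eqv.symm i₀).1 : nz K → ℂ))
          - (((eqv.symm (eqv ξ)).1 : nz K → ℂ)
            - ((eqv.symm i₀).1 : nz K → ℂ)) := by
      rw [Equiv.symm_apply_apply, Equiv.symm_apply_apply]; ring
    rw [h1, indFun_sub]
    have h2 := hμ (eqv χ)
    have h3 := hμ (eqv ξ)
    simp only [hτ] at h2 h3
    rw [h2, h3, ← smul_sub]
    congr 1
    ring

theorem alphaD_one (h : FrobTI K) (hcomm : ⁅K, K⁆ ≤ D) (ζ : RelD K D) :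
    alphaFun ζ.toRelT 1 = 0 := by
  classical
  unfold alphaFun
  rw [Pi.sub_apply, piFun_apply, if_pos (by simpa using K.one_mem), RelD.toRelT_coe,
    relD_degree h D hcomm ζ.1.2 ζ.2.1 ζ.2.2, sub_self]

theorem alphaD_inner_rel (h : FrobTI K) (ζ ξ : RelD K D) [Decidable (ζ = ξ)] :
    classInner (alphaFun ζ.toRelT) (ξ.1 : nz K → ℂ) = -(if ζ = ξ then 1 else 0) := by
  classical
  have := alphaFun_inner_rel h ζ.toRelT ξ.toRelT
  rw [RelD.toRelT_coe] at this
  rw [this]
  by_cases heq : ζ = ξ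
  · subst heq
    rw [if_pos rfl, if_pos rfl]
  · rw [if_neg heq, if_neg (fun h' => heq (RelD.toRelT_injective h'))]

end Cfsg.Agent.Lib.H8
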