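import Mathlib
import Cfsg.Agent.Lib.H8.ClassFun
import Cfsg.Agent.Lib.L0.CharBasic
import Cfsg.Agent.Lib.L0.CharInner

/-!
# Induction from a TI-type abelian subgroup, and the "star lemma" for differences of irreducible
characters (helper8 library)
-/

set_option autoImplicit false
open Cfsg
open scoped ComplexConjugate

namespace Cfsg.Agent.Lib.H8

open Cfsg.Agent.Lib.L0

/-- Let `W` be an abelian subgroup and `Z ≤ W` such that conjugates of elements of `W ∖ Z` lying
in `W` come from `W`, and conjugates of elements of `Z` lying in `W` lie in `Z`. Then induction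
from `W` does not change the values on `W` of a function on `W` vanishing on `Z`. -/
theorem indFun_eq_of_ti {X : Type*} [Group X] [Fintype X] (W Z : Subgroup X)
    (hWc : ∀ a ∈ W, ∀ b ∈ W, a * b = b * a)
    (hTI : ∀ w ∈ W, w ∉ Z → ∀ x : X, x⁻¹ * w * x ∈ W → x ∈ W)
    (hZ : ∀ z ∈ Z, ∀ x : X, x⁻¹ * z * x ∈ W → x⁻¹ * z * x ∈ Z)
    (θ : ↥W → ℂ) (hθ : ∀ w : ↥W, (w : X) ∈ Z → θ w = 0) (w : ↥W) :
    Cfsg.indFun W θ (w : X) = θ w := by
  classical
  rw [indFun_apply]
  by_cases hwZ : (w : X) ∈ Z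
  · rw [hθ w hwZ]
    have hterm : ∀ x : X, Cfsg.extendByZero W θ (x⁻¹ * (w : X) * x) = 0 := by
      intro x
      by_cases hm : x⁻¹ * (w : X) * x ∈ W
      · rw [extendByZero_of_mem _ θ hm]
        exact hθ _ (hZ _ hwZ x hm)
      · exact extendByZero_of_not_mem _ θ hm
    simp only [hterm, Finset.sum_const_zero, mul_zero]
  · have hterm : ∀ x : X, Cfsg.extendByZero W θ (x⁻¹ * (w : X) * x)
        = if x ∈ W then θ w else 0 := by
      intro x
      split_ifs with hx
      · have hcomm : x⁻¹ * (w : X) * x = w := by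
          rw [mul_assoc, hWc _ w.2 _ hx]; group
        rw [hcomm, extendByZero_coe]
      · by_cases hm : x⁻¹ * (w : X) * x ∈ W
        · exact absurd (hTI _ w.2 hwZ x hm) hx
        · exact extendByZero_of_not_mem _ θ hm
    simp only [hterm]
    rw [Finset.sum_ite, Finset.sum_const_zero, add_zero, Finset.sum_const, nsmul_eq_mul]
    have hcard : (Finset.univ.filter (fun x : X => x ∈ W)).card = Nat.card ↥W := by
      rw [Nat.card_eq_fintype_card, Fintype.card_subtype]
    rw [hcard]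
    have hne : (Nat.card ↥W : ℂ) ≠ 0 := Nat.cast_ne_zero.mpr Nat.card_pos.ne'
    field_simp

section Star

variable {X : Type*} [Group X] [Fintype X]

theorem irr_sub_inner {a b c : X → ℂ} (ha : IsIrrCharacter X a) (hb : IsIrrCharacter X b)
    (hc : IsIrrCharacter X c) [Decidable (a = c)] [Decidable (b = c)] :
    classInner (a - b) c = (if a = c then 1 else 0) - (if b = c then 1 else 0) := by
  rw [classInner_sub_left, irr_classInner_eq ha hc, irr_classInner_eq hb hc]

/-- uniqueness of the decomposition of a difference of two distinct irreducible characters -/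
theorem irr_sub_unique {a b a' b' : X → ℂ} (ha : IsIrrCharacter X a) (_hb : IsIrrCharacter X b)
    (ha' : IsIrrCharacter X a') (hb' : IsIrrCharacter X b') (hab : a ≠ b) (hab' : a' ≠ b')
    (h : a - b = a' - b') : a = a' ∧ b = b' := by
  classical
  have h1 : classInner (a - b) a = 1 := by
    rw [irr_sub_inner ha _hb ha, if_pos rfl, if_neg (Ne.symm hab)]; ring
  rw [h, irr_sub_inner ha' hb' ha] at h1
  have haa : a' = a := by
    by_contra hne
    rw [if_neg hne] at h1
    split_ifs at h1 <;> norm_num at h1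
  subst haa
  refine ⟨rfl, ?_⟩
  exact sub_right_injective h

/-- two differences of distinct irreducible characters with inner product `1` share either the
positive or the negative constituent, not both -/
theorem irr_sub_inner_cases {a b c d : X → ℂ} (ha : IsIrrCharacter X a) (hb : IsIrrCharacter X b)
    (hc : IsIrrCharacter X c) (hd : IsIrrCharacter X d) (hab : a ≠ b) (hcd : c ≠ d)
    (h : classInner (a - b) (c - d) = 1) : (a = c ∧ b ≠ d) ∨ (b = d ∧ a ≠ c) := by
  classical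
  rw [classInner_sub_right, irr_sub_inner ha hb hc, irr_sub_inner ha hb hd] at h
  by_cases hac : a = c
  · left
    refine ⟨hac, ?_⟩
    intro hbd
    subst hac hbd
    rw [if_pos rfl, if_neg (Ne.symm hab), if_neg hab, if_pos rfl] at h
    norm_num at h
  · right
    rw [if_neg hac] at h
    refine ⟨?_, hac⟩
    by_contra hbd
    rw [if_neg hbd] at h
    split_ifs at h <;> norm_num at h

theorem star_aux {ι : Type*} [DecidableEq ι] (s : Finset ι) (D : ι → ι → (X → ℂ))
    (hcoc : ∀ i j k, D i j + D j k = D i k)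
    (hpair : ∀ i ∈ s, ∀ j ∈ s, i ≠ j → ∃ a b, IsIrrCharacter X a ∧ IsIrrCharacter X b ∧ a ≠ b ∧
      D i j = a - b)
    (hinner : ∀ i ∈ s, ∀ j ∈ s, ∀ k ∈ s, i ≠ j → i ≠ k → j ≠ k →
      classInner (D i j) (D i k) = 1)
    {i₀ i₁ i₂ : ι} (h₀ : i₀ ∈ s) (h₁ : i₁ ∈ s) (h₂ : i₂ ∈ s) (h01 : i₀ ≠ i₁) (h02 : i₀ ≠ i₂)
    (h12 : i₁ ≠ i₂) {a b₁ b₂ : X → ℂ} (ha : IsIrrCharacter X a) (hb₁ : IsIrrCharacter X b₁)
    (hb₂ : IsIrrCharacter X b₂) (hab₁ : a ≠ b₁) (hab₂ : a ≠ b₂) (hD1 : D i₀ i₁ = a - b₁)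
    (hD2 : D i₀ i₂ = a - b₂) :
    ∃ χ : ι → (X → ℂ), (∀ i ∈ s, IsIrrCharacter X (χ i)) ∧ Set.InjOn χ s ∧
      ∀ i ∈ s, ∀ j ∈ s, D i j = χ i - χ j := by
  classical
  have hD0 : ∀ i, D i i = 0 := by
    intro i
    have := hcoc i i i
    exact add_eq_left.mp this
  have hb12 : b₁ ≠ b₂ := by
    have h := hinner i₀ h₀ i₁ h₁ i₂ h₂ h01 h02 h12
    rw [hD1, hD2] at h
    rcases irr_sub_inner_cases ha hb₁ ha hb₂ hab₁ hab₂ h with ⟨-, h'⟩ | ⟨-, h'⟩
    · exact h'
    · exact absurd rfl h'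
  have hb : ∀ j, j ∈ s → j ≠ i₀ → ∃ b, IsIrrCharacter X b ∧ b ≠ a ∧ D i₀ j = a - b := by
    intro j hj hj0
    obtain ⟨a', b', ha', hb', hne, hD⟩ := hpair i₀ h₀ j hj (Ne.symm hj0)
    have haa : a' = a := by
      by_cases hj1 : j = i₁
      · subst hj1
        rw [hD1] at hD
        exact (irr_sub_unique ha hb₁ ha' hb' hab₁ hne hD).1.symm
      by_cases hj2 : j = i₂
      · subst hj2
        rw [hD2] at hD
        exact (irr_sub_unique ha hb₂ ha' hb' hab₂ hne hD).1.symm
      have e1 := hinner i₀ h₀ j hj i₁ h₁ (Ne.symm hj0) h01 hj1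
      have e2 := hinner i₀ h₀ j hj i₂ h₂ (Ne.symm hj0) h02 hj2
      rw [hD, hD1] at e1
      rw [hD, hD2] at e2
      rcases irr_sub_inner_cases ha' hb' ha hb₁ hne hab₁ e1 with ⟨h, -⟩ | ⟨h1, -⟩
      · exact h
      rcases irr_sub_inner_cases ha' hb' ha hb₂ hne hab₂ e2 with ⟨h, -⟩ | ⟨h2, -⟩
      · exact h
      exact absurd (h1.symm.trans h2) hb12
    subst haa
    exact ⟨b', hb', Ne.symm hne, hD⟩
  choose! bf hbf using hb
  refine ⟨fun j => if j = i₀ then a else bf j, ?_, ?_, ?_⟩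
  · intro i hi
    by_cases h : i = i₀
    · simp only [h, if_true]; exact ha
    · simp only [h, if_false]; exact (hbf i hi h).1
  · -- injectivity is proved after the formula
    have hform : ∀ i ∈ s, ∀ j ∈ s,
        D i j = (if i = i₀ then a else bf i) - (if j = i₀ then a else bf j) := by
      have hform0 : ∀ j ∈ s, D i₀ j = a - (if j = i₀ then a else bf j) := by
        intro j hj
        by_cases h : j = i₀
        · subst h
          rw [hD0, if_pos rfl, sub_self]
        · rw [if_neg h]; exact (hbf j hj h).2.2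
      intro i hi j hj
      have h1 := hcoc i₀ i j
      have h2 : D i j = D i₀ j - D i₀ i := eq_sub_of_add_eq' h1
      rw [h2, hform0 i hi, hform0 j hj]
      abel
    intro i hi j hj hij
    by_contra hne
    obtain ⟨a', b', -, -, hne', hD⟩ := hpair i hi j hj hne
    have h1 := hform i hi j hj
    simp only at hij
    rw [hij, sub_self, hD] at h1
    exact hne' (sub_eq_zero.mp h1)
  · have hform0 : ∀ j ∈ s, D i₀ j = a - (if j = i₀ then a else bf j) := by
      intro j hj
      by_cases h : j = i₀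
      · subst h
        rw [hD0, if_pos rfl, sub_self]
      · rw [if_neg h]; exact (hbf j hj h).2.2
    intro i hi j hj
    have h1 := hcoc i₀ i j
    have h2 : D i j = D i₀ j - D i₀ i := eq_sub_of_add_eq' h1
    rw [h2, hform0 i hi, hform0 j hj]
    abel

/-- **Star lemma.** A cocycle `D i j` indexed by a set of at least three elements, whose values
are differences of two distinct irreducible characters with `⟨D i j, D i k⟩ = 1`, has the form
`D i j = δ (χ i - χ j)` for a sign `δ` and an injective family of irreducible characters. -/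
theorem star_lemma {ι : Type*} [DecidableEq ι] (s : Finset ι) (h3 : 2 < s.card)
    (D : ι → ι → (X → ℂ)) (hcoc : ∀ i j k, D i j + D j k = D i k)
    (hpair : ∀ i ∈ s, ∀ j ∈ s, i ≠ j → ∃ a b, IsIrrCharacter X a ∧ IsIrrCharacter X b ∧ a ≠ b ∧
      D i j = a - b)
    (hinner : ∀ i ∈ s, ∀ j ∈ s, ∀ k ∈ s, i ≠ j → i ≠ k → j ≠ k →
      classInner (D i j) (D i k) = 1) :
    ∃ (δ : ℂ) (χ : ι → (X → ℂ)), (δ = 1 ∨ δ = -1) ∧ (∀ i ∈ s, IsIrrCharacter X (χ i)) ∧
      Set.InjOn χ s ∧ ∀ i ∈ s, ∀ j ∈ s, D i j = δ • (χ i - χ j) := by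
  classical
  obtain ⟨i₀, h₀, i₁, h₁, i₂, h₂, h01, h02, h12⟩ := Finset.two_lt_card.mp h3
  have hD0 : ∀ i, D i i = 0 := by
    intro i
    have := hcoc i i i
    exact add_eq_left.mp this
  have hanti : ∀ i j, D j i = -D i j := by
    intro i j
    have := hcoc i j i
    rw [hD0] at this
    exact (neg_eq_of_add_eq_zero_right this).symm
  obtain ⟨a₁, b₁, ha₁, hb₁, hne₁, hD1⟩ := hpair i₀ h₀ i₁ h₁ h01
  obtain ⟨a₂, b₂, ha₂, hb₂, hne₂, hD2⟩ := hpair i₀ h₀ i₂ h₂ h02
  have h := hinner i₀ h₀ i₁ h₁ i₂ h₂ h01 h02 h12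
  rw [hD1, hD2] at h
  rcases irr_sub_inner_cases ha₁ hb₁ ha₂ hb₂ hne₁ hne₂ h with ⟨haa, -⟩ | ⟨hbb, -⟩
  · subst haa
    obtain ⟨χ, hχ1, hχ2, hχ3⟩ := star_aux s D hcoc hpair hinner h₀ h₁ h₂ h01 h02 h12 ha₁ hb₁ hb₂
      hne₁ hne₂ hD1 hD2
    refine ⟨1, χ, Or.inl rfl, hχ1, hχ2, ?_⟩
    intro i hi j hj
    rw [one_smul]; exact hχ3 i hi j hj
  · subst hbb
    obtain ⟨χ, hχ1, hχ2, hχ3⟩ := star_aux s (fun i j => D j i)
      (fun i j k => by
        have := hcoc k j i
        rw [add_comm] at this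
        exact this)
      (fun i hi j hj hij => hpair j hj i hi (Ne.symm hij))
      (fun i hi j hj k hk hij hik hjk => by
        show classInner (D j i) (D k i) = 1
        rw [hanti i j, hanti i k, classInner_neg_left, classInner_neg_right, neg_neg]
        exact hinner i hi j hj k hk hij hik hjk)
      h₀ h₁ h₂ h01 h02 h12 hb₁ ha₁ ha₂ (Ne.symm hne₁) (Ne.symm hne₂)
      (by show D i₁ i₀ = b₁ - a₁; rw [hanti i₀ i₁, hD1]; abel)
      (by show D i₂ i₀ = b₁ - a₂; rw [hanti i₀ i₂, hD2]; abel)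
    refine ⟨-1, χ, Or.inr rfl, hχ1, hχ2, ?_⟩
    intro i hi j hj
    have this : D i j = χ j - χ i := hχ3 j hj i hi
    rw [this]
    funext x
    simp only [Pi.smul_apply, Pi.sub_apply, smul_eq_mul]
    ring

end Star

end Cfsg.Agent.Lib.H8
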