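import Cfsg.Agent.Lib.L0.FrobTIAbelian
import Cfsg.Agent.Lib.L0.FrobTICoh
import Cfsg.Agent.Lib.H8.GenChar
import Cfsg.Agent.Lib.H8.StarLemma
import Cfsg.Agent.Lib.H8.TICount
import Cfsg.Agent.Lib.H8.CohExtend
import Cfsg.Agent.Lib.H24.RealOddIndex
import Cfsg.Agent.S0198

/-!
# Exceptional characters for an abelian T.I. subgroup: the package (helper8), part A

`K ≤ G` abelian with `FrobTI K` (T.I., `C_G(k) ≤ K`); `N = N_G(K)`.  Here: support of induced
functions, the permutation character `π = (1_K)^N` and its inner products, the count of the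
relevant characters, and the exceptional characters without the hypothesis `K < N`.
-/

set_option autoImplicit false

namespace Cfsg.Agent.Lib.H8

open Cfsg Cfsg.Agent.Lib.L0 Cfsg.Agent.Lib.L0.FrobTI
open scoped ComplexConjugate

variable {G : Type*} [Group G] [Fintype G]

/-- A function induced from the normalizer of `K`, supported on `K ∖ {1}`, vanishes off the
conjugates of `K ∖ {1}`. -/
theorem indFun_eq_zero_of_notMem_conjSet (K : Subgroup G) (f : nz K → ℂ)
    (hf : ∀ x : nz K, (x : G) ∉ K → f x = 0) (hf1 : f 1 = 0) {g : G} (hg : g ∉ conjSet K) :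
    indFun (nz K) f g = 0 := by
  rw [indFun_apply]
  have : ∀ x : G, extendByZero (nz K) f (x⁻¹ * g * x) = 0 := by
    intro x
    by_cases hmem : x⁻¹ * g * x ∈ nz K
    · rw [extendByZero_apply_of_mem _ _ hmem]
      by_cases hK : x⁻¹ * g * x ∈ K
      · by_cases h1 : x⁻¹ * g * x = 1
        · have : (⟨x⁻¹ * g * x, hmem⟩ : nz K) = 1 := Subtype.ext h1
          rw [this, hf1]
        · exfalso
          apply hg
          exact ⟨x, x⁻¹ * g * x, hK, h1, by group⟩
      · exact hf _ hK
    · exact extendByZero_apply_not_mem _ _ hmem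
  simp [this]

section pi

variable (K : Subgroup G) [Fintype (nz K)]

/-- The permutation character of `N` on the cosets of `K`. -/
noncomputable def piFun : nz K → ℂ :=
  indFun (K.subgroupOf (nz K)) (fun _ => (1 : ℂ))

theorem piFun_apply (x : nz K) [Decidable ((x : G) ∈ K)] :
    piFun K x = if (x : G) ∈ K then ((K.subgroupOf (nz K)).index : ℂ) else 0 := by
  classical
  unfold piFun
  rw [Cfsg.Agent.Lib.H24.indFun_one_normal (K.subgroupOf (nz K)) x]
  simp only [Subgroup.mem_subgroupOf]

theorem piFun_isCharacter : IsCharacter (nz K) (piFun K) := by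
  classical
  haveI : Fintype (K.subgroupOf (nz K)) := Fintype.ofFinite _
  exact isCharacter_indFun _ (isCharacter_of_irr Cfsg.Agent.Lib.L0.isIrrCharacter_one)

theorem card_nz_eq : Nat.card (nz K) = (K.subgroupOf (nz K)).index * Nat.card K := by
  rw [← Subgroup.index_mul_card (K.subgroupOf (nz K))]
  congr 1
  exact Nat.card_congr (Subgroup.subgroupOfEquivOfLe Subgroup.le_normalizer).toEquiv

theorem sum_ite_mem (c : ℂ) [DecidablePred fun x : nz K => (x : G) ∈ K] :
    ∑ x : nz K, (if (x : G) ∈ K then c else 0) = (Nat.card K : ℂ) * c := by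
  classical
  rw [Finset.sum_ite, Finset.sum_const_zero, add_zero, Finset.sum_const, nsmul_eq_mul]
  congr 2
  have : Nat.card K = Nat.card (K.subgroupOf (nz K)) :=
    (Nat.card_congr (Subgroup.subgroupOfEquivOfLe Subgroup.le_normalizer).toEquiv).symm
  rw [this, Nat.card_eq_fintype_card, Fintype.card_subtype]
  congr 1
  ext x
  simp [Subgroup.mem_subgroupOf]

theorem piFun_inner_self :
    classInner (piFun K) (piFun K) = ((K.subgroupOf (nz K)).index : ℂ) := by
  classical
  unfold classInner
  have h1 : ∀ x : nz K, piFun K x * conj (piFun K x)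
      = if (x : G) ∈ K then ((K.subgroupOf (nz K)).index : ℂ) ^ 2 else 0 := by
    intro x
    rw [piFun_apply]
    split_ifs
    · rw [Complex.conj_natCast]; ring
    · simp
  rw [Finset.sum_congr rfl fun x _ => h1 x, sum_ite_mem, card_nz_eq]
  have he : ((K.subgroupOf (nz K)).index : ℂ) ≠ 0 := by
    have : (K.subgroupOf (nz K)).index ≠ 0 := Subgroup.index_ne_zero_of_finite
    exact_mod_cast this
  have ha : (Nat.card K : ℂ) ≠ 0 := by exact_mod_cast (Nat.card_pos (α := K)).ne'
  push_cast
  field_simp

theorem piFun_inner_one : classInner (piFun K) (1 : nz K → ℂ) = 1 := by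
  classical
  unfold classInner
  have h1 : ∀ x : nz K, piFun K x * conj ((1 : nz K → ℂ) x)
      = if (x : G) ∈ K then ((K.subgroupOf (nz K)).index : ℂ) else 0 := by
    intro x
    rw [piFun_apply]
    split_ifs <;> simp
  rw [Finset.sum_congr rfl fun x _ => h1 x, sum_ite_mem, card_nz_eq]
  have he : ((K.subgroupOf (nz K)).index : ℂ) ≠ 0 := by
    have : (K.subgroupOf (nz K)).index ≠ 0 := Subgroup.index_ne_zero_of_finite
    exact_mod_cast this
  have ha : (Nat.card K : ℂ) ≠ 0 := by exact_mod_cast (Nat.card_pos (α := K)).ne'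
  push_cast
  field_simp

variable {K}

theorem rel_ne_one {χ : nz K → ℂ} (hrel : Rel K χ) : χ ≠ 1 := by
  rintro rfl
  obtain ⟨k, -, hne⟩ := hrel
  exact hne rfl

/-- `π` is orthogonal to the relevant irreducible characters. -/
theorem piFun_inner_rel (h : FrobTI K) {χ : nz K → ℂ} (hχ : IsIrrCharacter (nz K) χ)
    (hrel : Rel K χ) : classInner (piFun K) χ = 0 := by
  classical
  have h0 : classInner (1 : nz K → ℂ) χ = 0 :=
    irr_classInner_ne Cfsg.Agent.Lib.L0.isIrrCharacter_one hχ (fun h1 => rel_ne_one hrel h1.symm)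
  unfold classInner at h0 ⊢
  have hN : (Nat.card (nz K) : ℂ) ≠ 0 := by exact_mod_cast (Nat.card_pos (α := nz K)).ne'
  have e2 : ∑ x : nz K, conj (χ x) = 0 := by
    have := (mul_eq_zero.mp h0).resolve_left (inv_ne_zero hN)
    simpa using this
  have h1 : ∀ x : nz K, piFun K x * conj (χ x)
      = ((K.subgroupOf (nz K)).index : ℂ) * conj (χ x) := by
    intro x
    rw [piFun_apply]
    split_ifs with hx
    · rfl
    · rw [h.vanish hχ hrel x hx]; simp
  rw [Finset.sum_congr rfl fun x _ => h1 x, ← Finset.mul_sum, e2]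
  simp

theorem rel_inner_piFun (h : FrobTI K) {χ : nz K → ℂ} (hχ : IsIrrCharacter (nz K) χ)
    (hrel : Rel K χ) : classInner χ (piFun K) = 0 := by
  rw [← classInner_conj_symm, piFun_inner_rel h hχ hrel, map_zero]

end pi

end Cfsg.Agent.Lib.H8
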