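import Cfsg.Agent.Lib.H8.ExcPackageA

/-!
# Exceptional characters for an abelian T.I. subgroup: the package (helper8), part B

The relevant characters `RelT K`, their number, complex conjugation on them, and the exceptional
characters (no hypothesis `K < N`).
-/

set_option autoImplicit false

namespace Cfsg.Agent.Lib.H8

open Cfsg Cfsg.Agent.Lib.L0 Cfsg.Agent.Lib.L0.FrobTI
open scoped ComplexConjugate

variable {G : Type*} [Group G] [Fintype G]

/-- The relevant irreducible characters of `N = N_G(K)`: those not constant on `K`. -/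
abbrev RelT (K : Subgroup G) : Type _ :=
  {χ : IrrCharacter (nz K) // ∃ k : nz K, (k : G) ∈ K ∧
    (χ : nz K → ℂ) k ≠ (χ : nz K → ℂ) 1}

variable {K : Subgroup G} [Fintype (nz K)]

instance : Finite (RelT K) := by
  haveI : Finite (IrrCharacter (nz K)) := Cfsg.Agent.Lib.H24.finite_irr
  exact Subtype.finite

theorem relT_ne {ζ ξ : RelT K} (hne : ζ ≠ ξ) :
    ((ζ.1 : IrrCharacter (nz K)) : nz K → ℂ) ≠ ((ξ.1 : IrrCharacter (nz K)) : nz K → ℂ) := by
  intro heq
  apply hne
  exact Subtype.ext (Subtype.ext heq)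

/-- the number of relevant characters -/
theorem rel_count (h : FrobTI K) (hab : ∀ a ∈ K, ∀ b ∈ K, a * b = b * a) [Fintype (RelT K)] :
    Fintype.card (RelT K) * (K.subgroupOf (nz K)).index + 1 = Nat.card K := by
  classical
  haveI : Fintype (IrrCharacter (nz K)) := Fintype.ofFinite _
  have hsq := sum_rel_sq (K := K)
  set e := (K.subgroupOf (nz K)).index with he
  have he0 : e ≠ 0 := Subgroup.index_ne_zero_of_finite
  have h1 : ∑ ζ ∈ Finset.univ.filter (fun ζ : IrrCharacter (nz K) => Rel K (ζ : nz K → ℂ)),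
      (ζ : nz K → ℂ) 1 ^ 2
      = ((Finset.univ.filter (fun ζ : IrrCharacter (nz K) => Rel K (ζ : nz K → ℂ))).card : ℂ)
        * (e : ℂ) ^ 2 := by
    rw [Finset.sum_congr rfl (g := fun _ => (e : ℂ) ^ 2), Finset.sum_const, nsmul_eq_mul]
    intro ζ hζ
    rw [h.rel_degree hab ζ.2 (Finset.mem_filter.mp hζ).2]
  have hcard : (Finset.univ.filter (fun ζ : IrrCharacter (nz K) => Rel K (ζ : nz K → ℂ))).card
      = Fintype.card (RelT K) := by
    symm
    apply Fintype.card_of_subtype
    intro ζ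
    simp only [Finset.mem_filter, Finset.mem_univ, true_and]
    rfl
  have hNc : (Nat.card (nz K) : ℂ) = (e : ℂ) * (Nat.card K : ℂ) := by
    have := card_nz_eq K
    rw [← he] at this
    exact_mod_cast this
  rw [h1, hcard, hNc] at hsq
  have h2 : Fintype.card (RelT K) * e ^ 2 + e = e * Nat.card K := by
    have : ((Fintype.card (RelT K) * e ^ 2 + e : ℕ) : ℂ) = ((e * Nat.card K : ℕ) : ℂ) := by
      push_cast
      linear_combination hsq
    exact_mod_cast this
  have h3 : e * (Fintype.card (RelT K) * e + 1) = e * Nat.card K := by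
    rw [← h2]; ring
  exact Nat.eq_of_mul_eq_mul_left (Nat.pos_of_ne_zero he0) h3

/-- complex conjugation on the relevant characters -/
noncomputable def relConj (ζ : RelT K) : RelT K :=
  ⟨⟨conjFun ((ζ.1 : IrrCharacter (nz K)) : nz K → ℂ), isIrrCharacter_conjFun ζ.1.2⟩, by
    obtain ⟨k, hk, hne⟩ := ζ.2
    refine ⟨k, hk, ?_⟩
    intro heq
    apply hne
    have := congrArg (starRingEnd ℂ) heq
    simpa [conjFun_apply] using this⟩

theorem relConj_coe (ζ : RelT K) :
    (((relConj ζ).1 : IrrCharacter (nz K)) : nz K → ℂ)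
      = conjFun ((ζ.1 : IrrCharacter (nz K)) : nz K → ℂ) := rfl

theorem relConj_injective : Function.Injective (relConj (K := K)) := by
  intro ζ ξ heq
  have h1 : conjFun ((ζ.1 : IrrCharacter (nz K)) : nz K → ℂ)
      = conjFun ((ξ.1 : IrrCharacter (nz K)) : nz K → ℂ) := by
    rw [← relConj_coe, ← relConj_coe, heq]
  have h2 := congrArg conjFun h1
  rw [conjFun_conjFun, conjFun_conjFun] at h2
  exact Subtype.ext (Subtype.ext h2)

/-- Exceptional characters attached to an abelian T.I. subgroup (no hypothesis `K < N`). -/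
theorem exists_exceptional' (h : FrobTI K) (hab : ∀ a ∈ K, ∀ b ∈ K, a * b = b * a) :
    ∃ (ε : ℂ) (f : RelT K → IrrCharacter G),
      (ε = 1 ∨ ε = -1) ∧ Function.Injective f ∧ ∀ χ ξ : RelT K,
        indFun (nz K)
          ((χ.1 : nz K → ℂ) - (ξ.1 : nz K → ℂ))
        = ε • ((f χ : G → ℂ) - (f ξ : G → ℂ)) := by
  classical
  set T := RelT K with hT
  have hFT : Fintype T := Fintype.ofFinite _
  set n := Fintype.card T with hn
  have eqv : T ≃ Fin n := Fintype.equivFin T
  by_cases hn0 : n = 0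
  · have hemp : IsEmpty T := by
      rw [← Fintype.card_eq_zero_iff]; exact hn0
    exact ⟨1, fun χ => (hemp.false χ).elim, Or.inl rfl, fun χ => (hemp.false χ).elim,
      fun χ => (hemp.false χ).elim⟩
  have i₀ : Fin n := ⟨0, Nat.pos_of_ne_zero hn0⟩
  set τ : Fin n → (G → ℂ) := fun i => indFun (nz K)
    (((eqv.symm i).1 : nz K → ℂ) - ((eqv.symm i₀).1 : nz K → ℂ)) with hτ
  have hdp : ∀ i j : Fin n, _ := fun i j =>
    h.diff_props hab (eqv.symm i).1.2 (eqv.symm i).2 (eqv.symm j).1.2 (eqv.symm j).2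
  have h0 : τ i₀ = 0 := by
    simp only [hτ, sub_self, indFun_zero]
  have hgen : ∀ i, IsGeneralizedCharacter G (τ i) := by
    intro i
    simp only [hτ]
    rw [indFun_sub]
    exact ⟨_, _, isCharacter_indFun _ (isCharacter_of_irr (eqv.symm i).1.2),
      isCharacter_indFun _ (isCharacter_of_irr (eqv.symm i₀).1.2), rfl⟩
  have hone : ∀ i, τ i 1 = 0 := by
    intro i
    obtain ⟨d1, d2, d3⟩ := hdp i i₀
    simp only [hτ]
    rw [indFun_apply_one, d3, mul_zero]
  have hgram : ∀ i j, i ≠ i₀ → j ≠ i₀ → classInner (τ i) (τ j) = if i = j then 2 else 1 := by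
    intro i j hi hj
    obtain ⟨d1, d2, d3⟩ := hdp i i₀
    obtain ⟨e1, e2, e3⟩ := hdp j i₀
    simp only [hτ]
    rw [classInner_indFun_TI (K : Set G) h.hTI _ _ e1 d2 e2 d3]
    have hne : ∀ a b : Fin n, a ≠ b →
        ((eqv.symm a).1 : nz K → ℂ)
          ≠ ((eqv.symm b).1 : nz K → ℂ) := by
      intro a b hab' heq
      apply hab'
      have : (eqv.symm a).1 = (eqv.symm b).1 := Subtype.ext heq
      exact eqv.symm.injective (Subtype.ext this)
    rw [classInner_sub_left, classInner_sub_right, classInner_sub_right,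
      irr_classInner_self (eqv.symm i₀).1.2,
      irr_classInner_ne (eqv.symm i).1.2 (eqv.symm i₀).1.2 (hne i i₀ hi),
      irr_classInner_ne (eqv.symm i₀).1.2 (eqv.symm j).1.2 (hne i₀ j (Ne.symm hj))]
    by_cases hij : i = j
    · subst hij
      rw [if_pos rfl, irr_classInner_self (eqv.symm i).1.2]; norm_num
    · rw [if_neg hij, irr_classInner_ne (eqv.symm i).1.2 (eqv.symm j).1.2 (hne i j hij)]; norm_num
  obtain ⟨ε, hε, μ, hμirr, hμinj, hμ⟩ := Cfsg.Agent.S0198.result n i₀ τ h0 hgen hone hgram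
  refine ⟨ε, fun χ => ⟨μ (eqv χ), hμirr _⟩, hε, ?_, ?_⟩
  · intro χ ξ hχξ
    have := congrArg Subtype.val hχξ
    exact eqv.injective (hμinj this)
  · intro χ ξ
    have h1 : ((χ.1 : nz K → ℂ)
          - (ξ.1 : nz K → ℂ))
        = (((eqv.symm (eqv χ)).1 : nz K → ℂ)
            - ((eqv.symm i₀).1 : nz K → ℂ))
          - (((eqv.symm (eqv ξ)).1 : nz K → ℂ)
            - ((eqv.symm i₀).1 : nz K → ℂ)) := by
      rw [Equiv.symm_apply_apply, Equiv.symm_apply_apply]; ring
    rw [h1, indFun_sub]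
    have h2 := hμ (eqv χ)
    have h3 := hμ (eqv ξ)
    simp only [hτ] at h2 h3
    rw [h2, h3, ← smul_sub]
    congr 1
    ring

end Cfsg.Agent.Lib.H8
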