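import Cfsg.Agent.Lib.H8.ExcPackageB

/-!
# Exceptional characters for an abelian T.I. subgroup: the package (helper8), part C

`alphaFun ζ = π - ζ`, its inner products, and the main existence statement `exc_package`.
-/

set_option autoImplicit false

namespace Cfsg.Agent.Lib.H8

open Cfsg Cfsg.Agent.Lib.L0 Cfsg.Agent.Lib.L0.FrobTI
open scoped ComplexConjugate

variable {G : Type*} [Group G] [Fintype G] {K : Subgroup G} [Fintype (nz K)]

/-- `α_ζ = π - ζ`. -/
noncomputable def alphaFun (ζ : RelT K) : nz K → ℂ := piFun K - (ζ.1 : nz K → ℂ)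

theorem alphaFun_isClassFunction (ζ : RelT K) : IsClassFunction (nz K) (alphaFun ζ) :=
  Cfsg.Agent.Lib.H24.isClassFunction_sub
    (isClassFunction_of_isCharacter (piFun_isCharacter K))
    (isClassFunction_of_isCharacter (isCharacter_of_irr ζ.1.2))

theorem alphaFun_vanish (h : FrobTI K) (ζ : RelT K) (x : nz K) (hx : (x : G) ∉ K) :
    alphaFun ζ x = 0 := by
  classical
  unfold alphaFun
  rw [Pi.sub_apply, piFun_apply, if_neg hx, h.vanish ζ.1.2 ζ.2 x hx, sub_zero]

theorem alphaFun_one (h : FrobTI K) (hab : ∀ a ∈ K, ∀ b ∈ K, a * b = b * a) (ζ : RelT K) :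
    alphaFun ζ 1 = 0 := by
  classical
  unfold alphaFun
  rw [Pi.sub_apply, piFun_apply, if_pos (by simpa using K.one_mem), h.rel_degree hab ζ.1.2 ζ.2,
    sub_self]

theorem alphaFun_inner_rel (h : FrobTI K) (ζ ξ : RelT K) [Decidable (ζ = ξ)] :
    classInner (alphaFun ζ) (ξ.1 : nz K → ℂ) = -(if ζ = ξ then 1 else 0) := by
  unfold alphaFun
  rw [classInner_sub_left, piFun_inner_rel h ξ.1.2 ξ.2]
  split_ifs with heq
  · subst heq
    rw [irr_classInner_self ζ.1.2]; ring
  · rw [irr_classInner_ne ζ.1.2 ξ.1.2 (relT_ne heq)]; ring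

theorem alphaFun_inner_self (h : FrobTI K) (ζ : RelT K) :
    classInner (alphaFun ζ) (alphaFun ζ) = ((K.subgroupOf (nz K)).index : ℂ) + 1 := by
  unfold alphaFun
  rw [classInner_sub_left, classInner_sub_right, classInner_sub_right, piFun_inner_self,
    piFun_inner_rel h ζ.1.2 ζ.2, rel_inner_piFun h ζ.1.2 ζ.2, irr_classInner_self ζ.1.2]
  ring

theorem alphaFun_inner_one (ζ : RelT K) :
    classInner (alphaFun ζ) (1 : nz K → ℂ) = 1 := by
  unfold alphaFun
  rw [classInner_sub_left, piFun_inner_one,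
    irr_classInner_ne ζ.1.2 Cfsg.Agent.Lib.L0.isIrrCharacter_one (rel_ne_one ζ.2)]
  ring

end Cfsg.Agent.Lib.H8
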