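import Cfsg.Agent.Lib.H8.ExcPackageC

/-!
# Exceptional characters for an abelian T.I. subgroup: the package (helper8), part D

The main existence statement `exc_package`.
-/

set_option autoImplicit false

namespace Cfsg.Agent.Lib.H8

open Cfsg Cfsg.Agent.Lib.L0 Cfsg.Agent.Lib.L0.FrobTI
open scoped ComplexConjugate

variable {G : Type*} [Group G] [Fintype G] {K : Subgroup G} [Fintype (nz K)]

set_option maxHeartbeats 1600000 in
/-- The package of exceptional characters attached to an abelian T.I. subgroup `K` (with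
`C_G(k) ≤ K`) of a group of odd order. -/
theorem exc_package (h : FrobTI K) (hab : ∀ a ∈ K, ∀ b ∈ K, a * b = b * a) (hK1 : K ≠ ⊥)
    (hodd : Odd (Nat.card G)) :
    ∃ (t : ℕ) (X : Fin t → G → ℂ) (ε : ℤ) (Ψ : G → ℂ) (c : ℤ) (x : ℕ),
      t * (K.subgroupOf (nz K)).index + 1 = Nat.card K ∧ Even t ∧ 2 ≤ t ∧
      (ε = 1 ∨ ε = -1) ∧
      (∀ u, IsIrrCharacter G (X u)) ∧ Function.Injective X ∧ (∀ u, X u ≠ 1) ∧
      (∀ u, X u 1 = (x : ℂ)) ∧ 0 < x ∧
      IsGeneralizedCharacter G Ψ ∧ (∀ g, conj (Ψ g) = Ψ g) ∧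
      classInner Ψ (1 : G → ℂ) = 1 ∧ (∀ u, classInner Ψ (X u) = (c : ℂ)) ∧
      classInner Ψ Ψ = (((K.subgroupOf (nz K)).index : ℤ) + 2 * ε * c : ℤ) ∧
      (∀ u g, g ∉ conjSet K → Ψ g = (ε : ℂ) * X u g) := by
  classical
  haveI : Fintype (RelT K) := Fintype.ofFinite _
  set e := (K.subgroupOf (nz K)).index with he
  have hcount := rel_count h hab
  rw [← he] at hcount
  obtain ⟨εc, f, hεc, hfinj, hf⟩ := exists_exceptional' h hab
  obtain ⟨ε, hε, hεeq⟩ : ∃ ε : ℤ, (ε = 1 ∨ ε = -1) ∧ (ε : ℂ) = εc := by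
    rcases hεc with h1 | h1
    · exact ⟨1, Or.inl rfl, by simp [h1]⟩
    · exact ⟨-1, Or.inr rfl, by simp [h1]⟩
  have hεsq : εc * εc = 1 := by rcases hεc with h1 | h1 <;> rw [h1] <;> norm_num
  have hεconj : conj εc = εc := by rcases hεc with h1 | h1 <;> rw [h1] <;> simp
  have hεne : εc ≠ 0 := by rcases hεc with h1 | h1 <;> rw [h1] <;> norm_num
  set t := Fintype.card (RelT K) with ht
  -- parity
  have hodda : Odd (Nat.card K) := Odd.of_dvd_nat hodd (Subgroup.card_subgroup_dvd_card K)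
  have hodde : Odd e := by
    have h1 : e ∣ Nat.card (nz K) := ⟨Nat.card K, card_nz_eq K⟩
    exact Odd.of_dvd_nat hodd (h1.trans (Subgroup.card_subgroup_dvd_card _))
  have ha2 : 1 < Nat.card K := K.one_lt_card_iff_ne_bot.mpr hK1
  have hteven : Even t := by
    have h1 : Even (t * e) := by
      have h2 : t * e = Nat.card K - 1 := by omega
      rw [h2]
      exact Nat.Odd.sub_odd hodda odd_one
    rcases Nat.even_mul.mp h1 with h2 | h2
    · exact h2
    · exact absurd h2 (Nat.not_even_iff_odd.mpr hodde)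
  have ht2 : 2 ≤ t := by
    have h0 : t ≠ 0 := by
      intro h0
      rw [h0] at hcount
      omega
    obtain ⟨r, hr⟩ := hteven
    omega
  haveI : Nonempty (RelT K) := Fintype.card_pos_iff.mp (by omega)
  obtain ⟨ζ₀⟩ := ‹Nonempty (RelT K)›
  -- the induced functions
  set Φ : RelT K → G → ℂ := fun ζ => indFun (nz K) (alphaFun ζ) with hΦ
  have hΦsupp : ∀ ζ g, g ∉ conjSet K → Φ ζ g = 0 := fun ζ g hg =>
    indFun_eq_zero_of_notMem_conjSet K _ (alphaFun_vanish h ζ) (alphaFun_one h hab ζ) hg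
  have hΦgen : ∀ ζ, IsGeneralizedCharacter G (Φ ζ) := by
    intro ζ
    simp only [hΦ]
    unfold alphaFun
    rw [indFun_sub]
    exact ⟨_, _, isCharacter_indFun _ (piFun_isCharacter K),
      isCharacter_indFun _ (isCharacter_of_irr ζ.1.2), rfl⟩
  have hΦdiff : ∀ ζ ξ, Φ ζ - Φ ξ = εc • ((f ξ : G → ℂ) - (f ζ : G → ℂ)) := by
    intro ζ ξ
    simp only [hΦ]
    rw [← indFun_sub, ← hf ξ ζ]
    congr 1
    unfold alphaFun
    ring
  set Ψ : G → ℂ := Φ ζ₀ + εc • (f ζ₀ : G → ℂ) with hΨ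
  have hI : ∀ ζ, Ψ = Φ ζ + εc • (f ζ : G → ℂ) := by
    intro ζ
    have h1 := hΦdiff ζ₀ ζ
    rw [hΨ]
    have h2 : Φ ζ₀ = Φ ζ + εc • ((f ζ : G → ℂ) - (f ζ₀ : G → ℂ)) := by
      rw [← h1]; ring
    rw [h2, smul_sub]
    abel
  have hΦnorm : ∀ ζ, classInner (Φ ζ) (Φ ζ) = (e : ℂ) + 1 := by
    intro ζ
    simp only [hΦ]
    rw [classInner_indFun_TI (K : Set G) h.hTI _ _ (alphaFun_isClassFunction ζ)
      (alphaFun_vanish h ζ) (alphaFun_vanish h ζ) (alphaFun_one h hab ζ)]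
    exact alphaFun_inner_self h ζ
  have h1cf : IsClassFunction G (1 : G → ℂ) := fun _ _ => rfl
  have hΦone : ∀ ζ, classInner (Φ ζ) (1 : G → ℂ) = 1 := by
    intro ζ
    simp only [hΦ]
    rw [frobenius_reciprocity _ _ _ h1cf]
    exact alphaFun_inner_one ζ
  have hΦind : ∀ ζ ξ η : RelT K, classInner (Φ ζ)
      (indFun (nz K) ((ξ.1 : nz K → ℂ) - (η.1 : nz K → ℂ)))
      = -(if ζ = ξ then 1 else 0) + (if ζ = η then 1 else 0) := by
    intro ζ ξ η
    obtain ⟨d1, d2, d3⟩ := h.diff_props hab ξ.1.2 ξ.2 η.1.2 η.2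
    simp only [hΦ]
    rw [classInner_indFun_TI (K : Set G) h.hTI _ _ d1 (alphaFun_vanish h ζ) d2
      (alphaFun_one h hab ζ), classInner_sub_right, alphaFun_inner_rel h ζ ξ,
      alphaFun_inner_rel h ζ η]
    ring
  -- f ζ ≠ 1
  have hirr1 : IsIrrCharacter G (1 : G → ℂ) := Cfsg.Agent.Lib.L0.isIrrCharacter_one
  have hfne : ∀ ζ ξ : RelT K, ζ ≠ ξ → (f ζ : G → ℂ) ≠ (f ξ : G → ℂ) := by
    intro ζ ξ hne heq
    exact hne (hfinj (Subtype.ext heq))
  have hfne1 : ∀ ζ : RelT K, (f ζ : G → ℂ) ≠ 1 := by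
    intro ζ h1
    obtain ⟨ξ, hξ⟩ : ∃ ξ : RelT K, ξ ≠ ζ := by
      by_contra hcon
      push Not at hcon
      have : Fintype.card (RelT K) ≤ 1 := Fintype.card_le_one_iff.mpr
        (fun a b => (hcon a).trans (hcon b).symm)
      omega
    have h2 : classInner (indFun (nz K) ((ζ.1 : nz K → ℂ) - (ξ.1 : nz K → ℂ))) (1 : G → ℂ)
        = 0 := by
      rw [frobenius_reciprocity _ _ _ h1cf]
      have : (fun x : nz K => (1 : G → ℂ) x) = (1 : nz K → ℂ) := rfl
      rw [this, classInner_sub_left,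
        irr_classInner_ne ζ.1.2 Cfsg.Agent.Lib.L0.isIrrCharacter_one (rel_ne_one ζ.2),
        irr_classInner_ne ξ.1.2 Cfsg.Agent.Lib.L0.isIrrCharacter_one (rel_ne_one ξ.2)]
      ring
    rw [hf ζ ξ, classInner_smul_left, classInner_sub_left, h1, irr_classInner_self hirr1,
      irr_classInner_ne (f ξ).2 hirr1 (fun h3 => hfne ξ ζ hξ (h3.trans h1.symm))] at h2
    simp at h2
    exact hεne h2
  -- inner products of Ψ
  have hΨgen : IsGeneralizedCharacter G Ψ := by
    rw [hΨ]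
    refine isGeneralizedCharacter_add (hΦgen ζ₀) ?_
    rcases hεc with h1 | h1
    · rw [h1, one_smul]
      exact isGeneralizedCharacter_of_isCharacter (isCharacter_of_irr (f ζ₀).2)
    · rw [h1, neg_one_smul]
      exact isGeneralizedCharacter_neg
        (isGeneralizedCharacter_of_isCharacter (isCharacter_of_irr (f ζ₀).2))
  have hΨone : classInner Ψ (1 : G → ℂ) = 1 := by
    rw [hΨ, classInner_add_left, hΦone ζ₀, classInner_smul_left,
      irr_classInner_ne (f ζ₀).2 hirr1 (hfne1 ζ₀)]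
    ring
  obtain ⟨c, hc⟩ := genChar_classInner_irr_int hΨgen (f ζ₀).2
  have hfdiff : ∀ ζ : RelT K, (f ζ : G → ℂ) - (f ζ₀ : G → ℂ)
      = εc • indFun (nz K) ((ζ.1 : nz K → ℂ) - (ζ₀.1 : nz K → ℂ)) := by
    intro ζ
    rw [hf ζ ζ₀, smul_smul, hεsq, one_smul]
  have hΨf : ∀ ζ : RelT K, classInner Ψ (f ζ : G → ℂ) = (c : ℂ) := by
    intro ζ
    have h1 : classInner Ψ ((f ζ : G → ℂ) - (f ζ₀ : G → ℂ)) = 0 := by
      rw [hΨ, classInner_add_left, classInner_smul_left]
      have h2 : classInner (Φ ζ₀) ((f ζ : G → ℂ) - (f ζ₀ : G → ℂ))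
          = εc * (-(if ζ₀ = ζ then 1 else 0) + (if ζ₀ = ζ₀ then 1 else 0)) := by
        rw [hfdiff ζ, classInner_smul_right, hεconj, hΦind ζ₀ ζ ζ₀]
      rw [h2, classInner_sub_right, irr_classInner_self (f ζ₀).2, if_pos rfl]
      by_cases hz : ζ₀ = ζ
      · subst hz
        rw [if_pos rfl, irr_classInner_self (f ζ₀).2]; ring
      · rw [if_neg hz, irr_classInner_ne (f ζ₀).2 (f ζ).2 (hfne ζ₀ ζ hz)]; ring
    rw [classInner_sub_right, hc] at h1
    linear_combination h1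
  have hΨnorm : classInner Ψ Ψ = (((e : ℤ) + 2 * ε * c : ℤ) : ℂ) := by
    have h1 : classInner (Φ ζ₀) (f ζ₀ : G → ℂ) = (c : ℂ) - εc := by
      have := hc
      rw [hΨ, classInner_add_left, classInner_smul_left, irr_classInner_self (f ζ₀).2] at this
      linear_combination this
    have h2 : classInner (f ζ₀ : G → ℂ) (Φ ζ₀) = (c : ℂ) - εc := by
      rw [← classInner_conj_symm, h1, map_sub, map_intCast, hεconj]
    conv_lhs => rw [hΨ]
    rw [classInner_add_left, classInner_add_right, classInner_add_right, classInner_smul_left,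
      classInner_smul_left, classInner_smul_right, classInner_smul_right, hΦnorm ζ₀, h1, h2,
      irr_classInner_self (f ζ₀).2, hεconj]
    push_cast
    rw [hεeq]
    linear_combination (-1 : ℂ) * hεsq
  -- degrees
  obtain ⟨x, hxpos, hx⟩ := Cfsg.Agent.Lib.H24.irr_one_eq (f ζ₀)
  have hfx : ∀ ζ : RelT K, (f ζ : G → ℂ) 1 = (x : ℂ) := by
    intro ζ
    obtain ⟨d1, d2, d3⟩ := h.diff_props hab ζ.1.2 ζ.2 ζ₀.1.2 ζ₀.2
    have h1 := congrFun (hf ζ ζ₀) 1
    rw [indFun_apply_one, d3, mul_zero] at h1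
    simp only [Pi.smul_apply, Pi.sub_apply, smul_eq_mul] at h1
    have h2 : (f ζ : G → ℂ) 1 - (f ζ₀ : G → ℂ) 1 = 0 :=
      (mul_eq_zero.mp h1.symm).resolve_left hεne
    rw [← hx]
    linear_combination h2
  -- conjugation
  have hconjsub : ∀ a b : nz K → ℂ, conjFun (a - b) = conjFun a - conjFun b := by
    intro a b
    funext y
    simp [conjFun_apply]
  have hconjf : ∀ ζ : RelT K, conjFun (f ζ : G → ℂ) = (f (relConj ζ) : G → ℂ) := by
    intro ζ
    obtain ⟨ξ, hξ⟩ : ∃ ξ : RelT K, ξ ≠ ζ := by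
      by_contra hcon
      push Not at hcon
      have : Fintype.card (RelT K) ≤ 1 := Fintype.card_le_one_iff.mpr
        (fun a b => (hcon a).trans (hcon b).symm)
      omega
    have e1 := hf (relConj ζ) (relConj ξ)
    rw [relConj_coe, relConj_coe, ← hconjsub, ← conjFun_indFun, hf ζ ξ] at e1
    have e3 : conjFun (εc • ((f ζ : G → ℂ) - (f ξ : G → ℂ)))
        = εc • (conjFun (f ζ : G → ℂ) - conjFun (f ξ : G → ℂ)) := by
      funext y
      simp [conjFun_apply, hεconj]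
    rw [e3] at e1
    have e4 : conjFun (f ζ : G → ℂ) - conjFun (f ξ : G → ℂ)
        = (f (relConj ζ) : G → ℂ) - (f (relConj ξ) : G → ℂ) := by
      have := congrArg (fun F : G → ℂ => εc • F) e1
      simp only [smul_smul, hεsq, one_smul] at this
      exact this
    have hne1 : conjFun (f ζ : G → ℂ) ≠ conjFun (f ξ : G → ℂ) := by
      intro heq
      have := congrArg conjFun heq
      rw [conjFun_conjFun, conjFun_conjFun] at this
      exact hfne ζ ξ (Ne.symm hξ) this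
    have hne2 : (f (relConj ζ) : G → ℂ) ≠ (f (relConj ξ) : G → ℂ) := by
      apply hfne
      intro heq
      exact hξ (relConj_injective heq).symm
    exact (irr_sub_unique (isIrrCharacter_conjFun (f ζ).2) (isIrrCharacter_conjFun (f ξ).2)
      (f (relConj ζ)).2 (f (relConj ξ)).2 hne1 hne2 e4).1
  have hconjpi : conjFun (piFun K) = piFun K := by
    funext y
    rw [conjFun_apply, piFun_apply]
    split_ifs <;> simp
  have hconjα : ∀ ζ : RelT K, conjFun (alphaFun ζ) = alphaFun (relConj ζ) := by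
    intro ζ
    unfold alphaFun
    rw [hconjsub, hconjpi, relConj_coe]
  have hΨreal : ∀ g, conj (Ψ g) = Ψ g := by
    intro g
    have h1 : conjFun Ψ = Ψ := by
      have h2 : conjFun Ψ = conjFun (Φ ζ₀) + εc • conjFun (f ζ₀ : G → ℂ) := by
        rw [hΨ]
        funext y
        simp [conjFun_apply, hεconj]
      rw [h2, hconjf ζ₀]
      have h3 : conjFun (Φ ζ₀) = Φ (relConj ζ₀) := by
        simp only [hΦ]
        rw [conjFun_indFun, hconjα]
      rw [h3]
      exact (hI (relConj ζ₀)).symm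
    have := congrFun h1 g
    rwa [conjFun_apply] at this
  -- assembly
  let eqv : RelT K ≃ Fin t := Fintype.equivFin (RelT K)
  refine ⟨t, fun u => (f (eqv.symm u) : G → ℂ), ε, Ψ, c, x, hcount, hteven, ht2, hε,
    fun u => (f (eqv.symm u)).2, ?_, fun u => hfne1 _, fun u => hfx _, hxpos, hΨgen, hΨreal,
    hΨone, fun u => hΨf _, ?_, ?_⟩
  · intro u v huv
    have h1 : f (eqv.symm u) = f (eqv.symm v) := Subtype.ext huv
    exact eqv.symm.injective (hfinj h1)
  · rw [hΨnorm]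
  · intro u g hg
    have h1 := congrFun (hI (eqv.symm u)) g
    rw [Pi.add_apply, hΦsupp _ g hg, zero_add, Pi.smul_apply, smul_eq_mul] at h1
    rw [h1, hεeq]

end Cfsg.Agent.Lib.H8
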