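import Cfsg.Agent.Lib.H1.FG19.Defs
import Cfsg.Agent.Lib.H19.FG19BAS12
import Cfsg.Agent.Lib.H15.FG19BAS3

set_option autoImplicit false

/-! S4404 piece A2 (architect helper1): if `Γ` commutes with `X`, `Φ X Φ⁻¹ = X Γ` and `Φ Γ = Γ Φ`, then `Φ`
stabilises `[A, X]` (of order 4). -/

namespace Cfsg.Agent.Lib.H8.FG19

open Cfsg.Agent.Lib.H1.FG19

variable {A : Type*} [CommGroup A]

/-- a subgroup of order 4 containing four distinct elements consists of them -/
theorem a2_enum [Finite A] (V : Subgroup A) (hV : Nat.card V = 4) (e₀ e₁ e₂ e₃ : A)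
    (h₀ : e₀ ∈ V) (h₁ : e₁ ∈ V) (h₂ : e₂ ∈ V) (h₃ : e₃ ∈ V)
    (h01 : e₀ ≠ e₁) (h02 : e₀ ≠ e₂) (h03 : e₀ ≠ e₃) (h12 : e₁ ≠ e₂) (h13 : e₁ ≠ e₃) (h23 : e₂ ≠ e₃) :
    ∀ w ∈ V, w = e₀ ∨ w = e₁ ∨ w = e₂ ∨ w = e₃ := by
  classical
  intro w hw
  by_contra hcon
  push Not at hcon
  obtain ⟨hw0, hw1, hw2, hw3⟩ := hcon
  let S : Finset A := {w, e₀, e₁, e₂, e₃}
  have hS : S.card = 5 := by
    simp only [S]
    rw [Finset.card_insert_of_notMem, Finset.card_insert_of_notMem, Finset.card_insert_of_notMem,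
      Finset.card_insert_of_notMem, Finset.card_singleton]
    · simp [h23]
    · simp [h12, h13]
    · simp [h01, h02, h03]
    · simp [hw0, hw1, hw2, hw3]
  have hsub : (S : Set A) ⊆ (V : Set A) := by
    intro y hy
    simp only [S, Finset.coe_insert, Finset.coe_singleton, Set.mem_insert_iff,
      Set.mem_singleton_iff] at hy
    rcases hy with rfl | rfl | rfl | rfl | rfl
    · exact hw
    · exact h₀
    · exact h₁
    · exact h₂
    · exact h₃
  have h1 := Set.ncard_le_ncard hsub (Set.toFinite _)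
  rw [Set.ncard_coe_finset, hS] at h1
  have h2 : (V : Set A).ncard = 4 := by
    rw [← hV]
    exact (Nat.card_coe_set_eq (V : Set A))
  omega

theorem map_cm_eq [Finite A] (h2 : ∀ a : A, a * a = 1) (X Γ Φ : MulAut A) (hX : X ^ 3 = 1)
    (hΓ : Γ ^ 3 = 1) (hXΓ : X * Γ = Γ * X) (hΦΓ : Φ * Γ = Γ * Φ) (hΦX : Φ * X * Φ⁻¹ = X * Γ)
    (hV : Nat.card (cm X) = 4) : (cm X).map Φ.toMonoidHom = cm X := by
  classical
  have hmap : (cm X).map Φ.toMonoidHom = cm (X * Γ) := by
    rw [Cfsg.Agent.Lib.H19.FG19.cm_conj, hΦX]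
  rw [hmap]
  have hcardY : Nat.card (cm (X * Γ)) = 4 := by
    rw [← hmap, Subgroup.card_map_of_injective (MulEquiv.injective Φ), hV]
  -- pointwise forms of the hypotheses
  have hΓX : ∀ a : A, Γ (X a) = X (Γ a) := by
    intro a
    have := congrArg (fun Z : MulAut A => Z a) hXΓ
    simp only [MulAut.mul_apply] at this
    exact this.symm
  have hX3 : ∀ a : A, X (X (X a)) = a := by
    intro a
    have := congrArg (fun Z : MulAut A => Z a) hX
    simpa [pow_succ, MulAut.mul_apply] using this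
  have hΓ3 : ∀ a : A, Γ (Γ (Γ a)) = a := by
    intro a
    have := congrArg (fun Z : MulAut A => Z a) hΓ
    simpa [pow_succ, MulAut.mul_apply] using this
  have hYapp : ∀ a : A, (X * Γ) a = X (Γ a) := fun a => rfl
  have hodd : Odd 3 := by decide
  -- stability
  have hXst : ∀ w ∈ cm X, X w ∈ cm X := fun w hw =>
    Cfsg.Agent.Lib.H19.FG19.apply_mem_of_cm_le le_rfl hw
  have hΓst : ∀ w ∈ cm X, Γ w ∈ cm X := by
    intro w hw
    have h1 : (cm X).map Γ.toMonoidHom = cm X := by
      rw [Cfsg.Agent.Lib.H19.FG19.cm_conj]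
      congr 1
      rw [← hXΓ, mul_inv_cancel_right]
    rw [← h1]
    exact Subgroup.mem_map_of_mem _ hw
  have hfpf : ∀ w ∈ cm X, X w = w → w = 1 := by
    intro w hw hfix
    have : w ∈ cm X ⊓ fx X := ⟨hw, mem_fx.mpr hfix⟩
    rw [Cfsg.Agent.Lib.H15.FG19.cm_inf_fx h2 X hodd hX, Subgroup.mem_bot] at this
    exact this
  -- a non-identity element of `cm X`
  obtain ⟨v, hv, hv1⟩ : ∃ v ∈ cm X, v ≠ 1 := by
    by_contra hcon
    push Not at hcon
    have : Nat.card (cm X) = 1 := by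
      rw [Nat.card_eq_one_iff_unique]
      refine ⟨⟨fun a b => Subtype.ext ?_⟩, ⟨1⟩⟩
      rw [hcon a.1 a.2, hcon b.1 b.2]
    omega
  have hXv : X v ∈ cm X := hXst v hv
  have hXXv : X (X v) ∈ cm X := hXst _ hXv
  have hinj1 : ∀ {a : A}, X a = 1 → a = 1 := fun {a} h => by
    rwa [map_eq_one_iff X (MulEquiv.injective X)] at h
  have d01 : (1 : A) ≠ v := fun h => hv1 h.symm
  have d02 : (1 : A) ≠ X v := fun h => hv1 (hinj1 h.symm)
  have d03 : (1 : A) ≠ X (X v) := fun h => hv1 (hinj1 (hinj1 h.symm))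
  have d12 : v ≠ X v := fun h => hv1 (hfpf v hv h.symm)
  have d23 : X v ≠ X (X v) := fun h => d12 (MulEquiv.injective X h)
  have d13 : v ≠ X (X v) := by
    intro h
    apply d12
    have := congrArg X h
    rw [hX3] at this
    exact this.symm
  have henum := a2_enum (cm X) hV 1 v (X v) (X (X v)) (cm X).one_mem hv hXv hXXv d01 d02 d03 d12 d13 d23
  -- `Y = X Γ` stabilises `cm X`
  have hYst : ∀ w ∈ cm X, X (Γ w) ∈ cm X := fun w hw => hXst _ (hΓst w hw)
  -- if `Y` has no fixed points on `cm X`, then `cm X ≤ cm Y`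
  have hcaseI : (∀ w ∈ cm X, X (Γ w) = w → w = 1) → cm (X * Γ) = cm X := by
    intro hno
    symm
    apply Subgroup.eq_of_le_of_card_ge
    · -- injective ⇒ surjective
      let f : cm X → cm X := fun w => ⟨X (Γ w.1) * w.1⁻¹, (cm X).mul_mem (hYst w.1 w.2) ((cm X).inv_mem w.2)⟩
      have hfinj : Function.Injective f := by
        intro w w' hww
        have h1 : X (Γ w.1) * w.1⁻¹ = X (Γ w'.1) * w'.1⁻¹ := congrArg Subtype.val hww
        have h3 : X (Γ (w.1 * w'.1⁻¹)) = w.1 * w'.1⁻¹ := by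
          rw [map_mul, map_mul, map_inv, map_inv]
          have h4 : X (Γ w.1) = X (Γ w'.1) * w'.1⁻¹ * w.1 := by
            rw [← h1]; simp
          rw [h4]
          simp [mul_comm, mul_left_comm, mul_assoc]
        have h5 := hno _ ((cm X).mul_mem w.2 ((cm X).inv_mem w'.2)) h3
        apply Subtype.ext
        exact mul_inv_eq_one.mp h5
      have hfsurj : Function.Surjective f := Finite.injective_iff_surjective.mp hfinj
      intro u hu
      obtain ⟨w, hw⟩ := hfsurj ⟨u, hu⟩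
      rw [mem_cm]
      refine ⟨w.1, ?_⟩
      have := congrArg Subtype.val hw
      exact this
    · rw [hcardY, hV]
  -- the three cases for `Γ v`
  have hΓv := henum (Γ v) (hΓst v hv)
  have hΓv1 : Γ v ≠ 1 := fun h => hv1 (by rwa [map_eq_one_iff Γ (MulEquiv.injective Γ)] at h)
  rcases hΓv with h | h | h | h
  · exact absurd h hΓv1
  · -- `Γ = 1` on `cm X`
    apply hcaseI
    have hΓw : ∀ w ∈ cm X, Γ w = w := by
      intro w hw
      rcases henum w hw with rfl | rfl | rfl | rfl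
      · exact map_one Γ
      · exact h
      · rw [hΓX, h]
      · rw [hΓX, hΓX, h]
    intro w hw hfix
    rw [hΓw w hw] at hfix
    exact hfpf w hw hfix
  · -- `Γ = X` on `cm X`
    apply hcaseI
    have hΓw : ∀ w ∈ cm X, Γ w = X w := by
      intro w hw
      rcases henum w hw with rfl | rfl | rfl | rfl
      · rw [map_one, map_one]
      · exact h
      · rw [hΓX, h]
      · rw [hΓX, hΓX, h]
    intro w hw hfix
    rw [hΓw w hw] at hfix
    apply hfpf w hw
    have := congrArg X hfix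
    rw [hX3] at this
    exact this.symm
  · -- `Γ = X²` on `cm X`: impossible
    exfalso
    have hΓw : ∀ w ∈ cm X, X (Γ w) = w := by
      intro w hw
      rcases henum w hw with rfl | rfl | rfl | rfl
      · rw [map_one, map_one]
      · rw [h, hX3]
      · rw [hΓX, h, hX3]
      · rw [hΓX, hΓX, h, hX3]
    -- every element of `cm (X Γ)` is trivial
    have htriv : ∀ v' ∈ cm (X * Γ), v' = 1 := by
      intro v' hv'
      -- `v' = Γ c · c⁻¹` with `c ∈ fx X`
      obtain ⟨a, ha⟩ := mem_cm.mp hv'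
      have htop : a ∈ cm X ⊔ fx X := by
        rw [Cfsg.Agent.Lib.H15.FG19.cm_sup_fx h2 X hodd hX]; trivial
      obtain ⟨w, hw, c, hc, rfl⟩ := Subgroup.mem_sup.mp htop
      have hXc : X c = c := mem_fx.mp hc
      have hv'eq : v' = Γ c * c⁻¹ := by
        rw [← ha, hYapp, map_mul, map_mul, hΓw w hw, ← hΓX, hXc]
        simp [mul_comm, mul_left_comm, mul_assoc]
      have hXv' : X v' = v' := by
        rw [hv'eq, map_mul, map_inv, ← hΓX, hXc]
      -- `v' = Φ w₀`
      have hv'map : v' ∈ (cm X).map Φ.toMonoidHom := by rw [hmap]; exact hv'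
      obtain ⟨w₀, hw₀, hw₀eq⟩ := Subgroup.mem_map.mp hv'map
      have hΦw₀ : Φ w₀ = v' := hw₀eq
      have hΦXapp : ∀ a : A, Φ (X a) = X (Γ (Φ a)) := by
        intro a
        have h1 : Φ * X = X * Γ * Φ := by rw [← hΦX]; simp
        have := congrArg (fun Z : MulAut A => Z a) h1
        simpa [MulAut.mul_apply] using this
      have hΦΓapp : ∀ a : A, Φ (Γ a) = Γ (Φ a) := by
        intro a
        have := congrArg (fun Z : MulAut A => Z a) hΦΓ
        simpa [MulAut.mul_apply] using this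
      have hΓXw₀ : Γ (X w₀) = w₀ := by rw [hΓX]; exact hΓw w₀ hw₀
      have h6 : Γ (X (Γ v')) = v' := by
        rw [← hΦw₀, ← hΦXapp, ← hΦΓapp, hΓXw₀]
      have h7 : X (Γ v') = Γ v' := by rw [← hΓX, hXv']
      have h8 : Γ (Γ v') = v' := by rw [h7] at h6; exact h6
      have h9 : Γ v' = v' := by
        have := hΓ3 v'
        rw [h8] at this
        exact this
      -- the norm of `v'` is trivial
      have h10 : v' * Γ v' * Γ (Γ v') = 1 := by
        rw [hv'eq]
        simp only [map_mul, map_inv, hΓ3]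
        simp [mul_comm, mul_left_comm, mul_assoc]
      rw [h8, h9, h2 v', one_mul] at h10
      exact h10
    have : Nat.card (cm (X * Γ)) = 1 := by
      rw [Nat.card_eq_one_iff_unique]
      refine ⟨⟨fun a b => Subtype.ext ?_⟩, ⟨1⟩⟩
      rw [htriv a.1 a.2, htriv b.1 b.2]
    omega

end Cfsg.Agent.Lib.H8.FG19
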