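import Mathlib

set_option autoImplicit false

/-! S4404 piece FRAT (architect helper1): in a `{3,p}`-group `H` with `C ⊴ H`, `x³ ∈ C`, all conjugates of `x`
commuting with `x` modulo `C`, and `p`-elements centralising every 3-subgroup they normalise, some Sylow
`p`-subgroup centralises `x` modulo `C`. -/

namespace Cfsg.Agent.Lib.H8.FG19

open Subgroup

section closure

variable {Q : Type*} [Group Q]

/-- a subgroup generated by pairwise commuting elements of exponent `3` has exponent `3` -/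
theorem frat_pow_three_of_closure (S : Set Q) (hcomm : ∀ a ∈ S, ∀ b ∈ S, a * b = b * a)
    (h3 : ∀ a ∈ S, a ^ 3 = 1) : ∀ y ∈ Subgroup.closure S, y ^ 3 = 1 := by
  have h1 : Subgroup.closure S ≤ Subgroup.centralizer S := by
    rw [Subgroup.closure_le]
    intro a ha
    rw [SetLike.mem_coe, Subgroup.mem_centralizer_iff]
    intro b hb
    exact hcomm b hb a ha
  have h2 : Subgroup.closure S ≤ Subgroup.centralizer (Subgroup.closure S : Set Q) := by
    rw [Subgroup.closure_le]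
    intro a ha
    rw [SetLike.mem_coe, Subgroup.mem_centralizer_iff]
    intro b hb
    have := Subgroup.mem_centralizer_iff.mp (h1 hb) a ha
    exact this.symm
  intro y hy
  induction hy using Subgroup.closure_induction with
  | mem a ha => exact h3 a ha
  | one => exact one_pow 3
  | mul a b ha hb iha ihb =>
    have hc : Commute a b := Subgroup.mem_centralizer_iff.mp (h2 hb) a ha
    rw [hc.mul_pow, iha, ihb, one_mul]
  | inv a _ iha => rw [inv_pow, iha, inv_one]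

end closure

theorem exists_sylow_comm_mod {H : Type*} [Group H] [Finite H] (C : Subgroup H) [C.Normal] {p a b : ℕ}
    [Fact p.Prime] (hp3 : p ≠ 3) (hH : Nat.card H = 3 ^ a * p ^ b) (x : H) (hx : x ^ 3 ∈ C)
    (hcomm : ∀ h : H, x * (h * x * h⁻¹) * x⁻¹ * (h * x * h⁻¹)⁻¹ ∈ C)
    (hAut : ∀ T : Subgroup H, IsPGroup 3 T → ∀ y : H, (∃ k : ℕ, y ^ p ^ k = 1) →
      (∀ t ∈ T, y * t * y⁻¹ ∈ T) → ∀ t ∈ T, y * t = t * y) :
    ∃ P : Sylow p H, ∀ y ∈ P, x * y * x⁻¹ * y⁻¹ ∈ C := by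
  classical
  haveI : Fact (Nat.Prime 3) := ⟨Nat.prime_three⟩
  let π : H →* H ⧸ C := QuotientGroup.mk' C
  have hπs : Function.Surjective π := QuotientGroup.mk'_surjective C
  have hπ1 : ∀ g : H, π g = 1 ↔ g ∈ C := fun g => QuotientGroup.eq_one_iff g
  set xb : H ⧸ C := π x with hxb
  -- the conjugates of `xb`
  have hxb3 : xb ^ 3 = 1 := by rw [hxb, ← map_pow]; exact (hπ1 _).2 hx
  have hxbcomm : ∀ g : H ⧸ C, xb * (g * xb * g⁻¹) = (g * xb * g⁻¹) * xb := by
    intro g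
    obtain ⟨h, rfl⟩ := hπs g
    have h1 := (hπ1 _).2 (hcomm h)
    simp only [map_mul, map_inv] at h1
    have h2 : xb * (π h * xb * (π h)⁻¹) =
        (xb * (π h * xb * (π h)⁻¹) * xb⁻¹ * (π h * xb * (π h)⁻¹)⁻¹) * ((π h * xb * (π h)⁻¹) * xb) := by
      group
    rw [h2, h1, one_mul]
  let Sb : Set (H ⧸ C) := Group.conjugatesOfSet {xb}
  have hSb : ∀ s ∈ Sb, ∃ g : H ⧸ C, s = g * xb * g⁻¹ := by
    intro s hs
    obtain ⟨a', ha', hconj⟩ := Group.mem_conjugatesOfSet_iff.mp hs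
    rw [Set.mem_singleton_iff] at ha'
    subst ha'
    obtain ⟨c, hc⟩ := isConj_iff.mp hconj
    exact ⟨c, hc.symm⟩
  have hSbcomm : ∀ s ∈ Sb, ∀ t ∈ Sb, s * t = t * s := by
    intro s hs t ht
    obtain ⟨g, rfl⟩ := hSb s hs
    obtain ⟨k, rfl⟩ := hSb t ht
    have h1 := hxbcomm (g⁻¹ * k)
    have e1 : g * xb * g⁻¹ * (k * xb * k⁻¹) = g * (xb * (g⁻¹ * k * xb * (g⁻¹ * k)⁻¹)) * g⁻¹ := by group
    have e2 : k * xb * k⁻¹ * (g * xb * g⁻¹) = g * ((g⁻¹ * k * xb * (g⁻¹ * k)⁻¹) * xb) * g⁻¹ := by group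
    rw [e1, e2, h1]
  have hSb3 : ∀ s ∈ Sb, s ^ 3 = 1 := by
    intro s hs
    obtain ⟨g, rfl⟩ := hSb s hs
    rw [conj_pow, hxb3, mul_one, mul_inv_cancel]
  let Nb : Subgroup (H ⧸ C) := Subgroup.normalClosure {xb}
  have hNb3 : ∀ y ∈ Nb, y ^ 3 = 1 := frat_pow_three_of_closure Sb hSbcomm hSb3
  have hNbP : IsPGroup 3 Nb := by
    intro y
    refine ⟨1, ?_⟩
    have := hNb3 y.1 y.2
    apply Subtype.ext
    rw [pow_one]
    simpa using this
  have hxbN : xb ∈ Nb := Subgroup.subset_normalClosure (Set.mem_singleton xb)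
  -- the preimage
  let N : Subgroup H := Nb.comap π
  haveI hNn : N.Normal := Subgroup.Normal.comap (Subgroup.normalClosure_normal) π
  let πN : ↥N →* ↥Nb := π.subgroupComap Nb
  have hπNs : Function.Surjective πN := π.subgroupComap_surjective_of_surjective Nb hπs
  let P₀ : Sylow 3 ↥N := default
  let Pb₀ : Sylow 3 ↥Nb := P₀.mapSurjective hπNs
  have hPb₀ : (Pb₀ : Subgroup Nb) = ⊤ := by
    have hTop : IsPGroup 3 (⊤ : Subgroup Nb) := IsPGroup.of_equiv hNbP Subgroup.topEquiv.symm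
    exact (Pb₀.is_maximal' hTop le_top).symm
  let R : Subgroup H := (P₀ : Subgroup N).map N.subtype
  have hR3 : IsPGroup 3 R := P₀.isPGroup'.map N.subtype
  have hfrat : Subgroup.normalizer (R : Set H) ⊔ N = ⊤ := Sylow.normalizer_sup_eq_top P₀
  have hlift : ∀ nb ∈ Nb, ∃ r ∈ R, π r = nb := by
    intro nb hnb
    have hmem : (⟨nb, hnb⟩ : Nb) ∈ (Pb₀ : Subgroup Nb) := by rw [hPb₀]; trivial
    rw [Sylow.coe_mapSurjective] at hmem
    obtain ⟨r', hr', hr'eq⟩ := Subgroup.mem_map.mp hmem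
    refine ⟨(r' : H), Subgroup.mem_map.mpr ⟨r', hr', rfl⟩, ?_⟩
    have := congrArg (fun z : Nb => (z : H ⧸ C)) hr'eq
    exact this
  let K : Subgroup H := Subgroup.normalizer (R : Set H)
  have hRK : R ≤ K := Subgroup.le_normalizer
  let πK : ↥K →* H ⧸ C := π.comp K.subtype
  have hπKs : Function.Surjective πK := by
    intro hb
    obtain ⟨h, rfl⟩ := hπs hb
    have hh : h ∈ Subgroup.normalizer (R : Set H) ⊔ N := by rw [hfrat]; trivial
    obtain ⟨k, hk, n, hn, rfl⟩ := Subgroup.mem_sup_of_normal_right.mp hh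
    obtain ⟨r, hr, hrn⟩ := hlift (π n) hn
    refine ⟨⟨k * r, K.mul_mem hk (hRK hr)⟩, ?_⟩
    show π (k * r) = π (k * n)
    rw [map_mul, map_mul, hrn]
  let P₁ : Sylow p ↥K := default
  let Pb : Sylow p (H ⧸ C) := P₁.mapSurjective hπKs
  obtain ⟨rx, hrx, hrxeq⟩ := hlift xb hxbN
  have hPbcomm : ∀ yb ∈ (Pb : Subgroup (H ⧸ C)), xb * yb = yb * xb := by
    intro yb hyb
    rw [Sylow.coe_mapSurjective] at hyb
    obtain ⟨y', hy', rfl⟩ := Subgroup.mem_map.mp hyb
    have hypow : ∃ k : ℕ, (y' : H) ^ p ^ k = 1 := by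
      obtain ⟨k, hk⟩ := P₁.isPGroup' ⟨y', hy'⟩
      refine ⟨k, ?_⟩
      have := congrArg (fun z : P₁ => ((z : K) : H)) hk
      simpa using this
    have hynorm : ∀ t ∈ R, (y' : H) * t * (y' : H)⁻¹ ∈ R := by
      intro t ht
      exact (Subgroup.mem_normalizer_iff.mp y'.2 t).mp ht
    have hc := hAut R hR3 (y' : H) hypow hynorm rx hrx
    show xb * π (y' : H) = π (y' : H) * xb
    rw [← hrxeq, ← map_mul, ← map_mul, hc]
  -- pull back a Sylow `p`-subgroup of `H`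
  let P : Sylow p H := default
  obtain ⟨gb, hgb⟩ := MulAction.exists_smul_eq (H ⧸ C) (P.mapSurjective hπs) Pb
  obtain ⟨g, rfl⟩ := hπs gb
  refine ⟨g • P, ?_⟩
  intro y hy
  rw [← hπ1]
  have hy' : y ∈ ((g • P : Sylow p H) : Subgroup H) := hy
  rw [Sylow.coe_subgroup_smul] at hy'
  obtain ⟨z, hz, rfl⟩ := (Subgroup.mem_smul_pointwise_iff_exists _ _ _).mp hy'
  have hmem : π (MulAut.conj g • z) ∈ (Pb : Subgroup (H ⧸ C)) := by
    rw [← hgb, Sylow.coe_subgroup_smul]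
    refine (Subgroup.mem_smul_pointwise_iff_exists _ _ _).mpr ⟨π z, ?_, ?_⟩
    · rw [Sylow.coe_mapSurjective]
      exact Subgroup.mem_map_of_mem _ hz
    · simp [MulAut.smul_def, MulAut.conj_apply]
  have hc := hPbcomm _ hmem
  rw [map_mul, map_mul, map_mul, map_inv, map_inv]
  show xb * π (MulAut.conj g • z) * xb⁻¹ * (π (MulAut.conj g • z))⁻¹ = 1
  rw [hc]
  group

end Cfsg.Agent.Lib.H8.FG19
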