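import Cfsg.Agent.Lib.H1.FG19.Defs
import Cfsg.Agent.Lib.H15.FG19BAS4

/-!
# S4404 piece Q2 (helper8): commuting `F_8`-elements have equal or independent blocks
-/

set_option autoImplicit false

namespace Cfsg.Agent.Lib.H8.FG19

open Cfsg.Agent.Lib.H1.FG19

variable {A : Type*} [CommGroup A]

theorem q2_pow_stable (Y : MulAut A) (V : Subgroup A) (h : ∀ v ∈ V, Y v ∈ V) (n : ℕ) :
    ∀ v ∈ V, (Y ^ n) v ∈ V := by
  induction n with
  | zero => intro v hv; simpa using hv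
  | succ n ih =>
    intro v hv
    rw [pow_succ, MulAut.mul_apply]
    exact ih _ (h v hv)

theorem q2_inv_stable (Y : MulAut A) (hY : Y ^ 7 = 1) (V : Subgroup A) (h : ∀ v ∈ V, Y v ∈ V) :
    ∀ v ∈ V, Y⁻¹ v ∈ V := by
  have h6 : Y⁻¹ = Y ^ 6 := by
    rw [inv_eq_iff_mul_eq_one, ← pow_succ', hY]
  rw [h6]
  exact q2_pow_stable Y V h 6

/-- restriction of an automorphism to a stable subgroup -/
def q2Res (Y : MulAut A) (V : Subgroup A) (h : ∀ v ∈ V, Y v ∈ V) (h' : ∀ v ∈ V, Y⁻¹ v ∈ V) :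
    MulAut V where
  toFun v := ⟨Y v.1, h v.1 v.2⟩
  invFun v := ⟨Y⁻¹ v.1, h' v.1 v.2⟩
  left_inv v := by
    apply Subtype.ext
    simp
  right_inv v := by
    apply Subtype.ext
    simp
  map_mul' v w := by
    apply Subtype.ext
    simp

theorem q2Res_apply (Y : MulAut A) (V : Subgroup A) (h : ∀ v ∈ V, Y v ∈ V)
    (h' : ∀ v ∈ V, Y⁻¹ v ∈ V) (v : V) : ((q2Res Y V h h' v : V) : A) = Y v.1 := rfl

theorem q2Res_pow_apply (Y : MulAut A) (V : Subgroup A) (h : ∀ v ∈ V, Y v ∈ V)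
    (h' : ∀ v ∈ V, Y⁻¹ v ∈ V) (n : ℕ) (v : V) :
    ((((q2Res Y V h h') ^ n) v : V) : A) = (Y ^ n) v.1 := by
  induction n generalizing v with
  | zero => rfl
  | succ n ih =>
    rw [pow_succ, pow_succ, MulAut.mul_apply, MulAut.mul_apply, ih]
    rfl

theorem q2_stable_of_comm (X Y : MulAut A) (hc : X * Y = Y * X) : ∀ v ∈ cm X, Y v ∈ cm X := by
  intro v hv
  obtain ⟨m, rfl⟩ := mem_cm.mp hv
  refine mem_cm.mpr ⟨Y m, ?_⟩
  rw [map_mul, map_inv]
  congr 1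
  change (X * Y) m = (Y * X) m
  rw [hc]

theorem q2_key [Finite A] (h2 : ∀ a : A, a * a = 1) (X Y : MulAut A)
    (hY : Y ^ 7 = 1) (hc : X * Y = Y * X) (h1 : Nat.card (cm X) = 8)
    (h2' : Nat.card (cm Y) = 8) : cm X ≤ fx Y ∨ cm X = cm Y := by
  have hst := q2_stable_of_comm X Y hc
  have hst' := q2_inv_stable Y hY (cm X) hst
  set Y' : MulAut (cm X) := q2Res Y (cm X) hst hst' with hY'
  have h2V : ∀ a : cm X, a * a = 1 := fun a => Subtype.ext (h2 a.1)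
  have hY7 : Y' ^ 7 = 1 := by
    ext v
    rw [q2Res_pow_apply, hY]
    rfl
  have hmod := Cfsg.Agent.Lib.H15.FG19.card_cm_modEq h2V Y' (q := 7) (by norm_num) (by norm_num) hY7
  have hdvd : Nat.card (cm Y') ∣ 8 := by
    rw [← h1]
    exact Subgroup.card_subgroup_dvd_card _
  have hcases : Nat.card (cm Y') = 1 ∨ Nat.card (cm Y') = 8 := by
    have hle : Nat.card (cm Y') ≤ 8 := Nat.le_of_dvd (by norm_num) hdvd
    unfold Nat.ModEq at hmod
    generalize Nat.card (cm Y') = k at *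
    interval_cases k <;> simp_all
  rcases hcases with h | h
  · left
    intro v hv
    rw [mem_fx]
    have hbot : cm Y' = ⊥ := Subgroup.card_eq_one.mp h
    have hm : Y' ⟨v, hv⟩ * (⟨v, hv⟩ : cm X)⁻¹ ∈ cm Y' := mem_cm.mpr ⟨⟨v, hv⟩, rfl⟩
    rw [hbot, Subgroup.mem_bot, mul_inv_eq_one] at hm
    exact congrArg Subtype.val hm
  · right
    have htop : cm Y' = ⊤ := by
      apply Subgroup.eq_top_of_card_eq
      rw [h, h1]
    have hle : cm X ≤ cm Y := by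
      intro v hv
      have hm : (⟨v, hv⟩ : cm X) ∈ cm Y' := by
        rw [htop]
        exact Subgroup.mem_top _
      obtain ⟨m, hm⟩ := mem_cm.mp hm
      refine mem_cm.mpr ⟨m.1, ?_⟩
      exact congrArg Subtype.val hm
    exact Subgroup.eq_of_le_of_card_ge hle (by rw [h1, h2'])

/-- Q2 (M): commuting `F_8`-elements have equal or independent blocks. -/
theorem cm_eq_or_le_fx [Finite A] (h2 : ∀ a : A, a * a = 1) (B₁ B₂ : MulAut A) (hB₁ : B₁ ^ 7 = 1)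
    (hB₂ : B₂ ^ 7 = 1) (hc : B₁ * B₂ = B₂ * B₁) (h1 : Nat.card (cm B₁) = 8)
    (h2' : Nat.card (cm B₂) = 8) : cm B₁ = cm B₂ ∨ (cm B₁ ≤ fx B₂ ∧ cm B₂ ≤ fx B₁) := by
  rcases q2_key h2 B₁ B₂ hB₂ hc h1 h2' with h | h
  · rcases q2_key h2 B₂ B₁ hB₁ hc.symm h2' h1 with h' | h'
    · exact Or.inr ⟨h, h'⟩
    · exact Or.inl h'.symm
  · exact Or.inl h

end Cfsg.Agent.Lib.H8.FG19
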