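import Mathlib
import Cfsg.Prelude.Def_Characters
import Cfsg.Agent.Lib.L0.CharBasic
import Cfsg.Agent.Lib.L0.CharInner
import Cfsg.Agent.Lib.L0.CharOps
import Cfsg.Agent.Lib.L0.CharDecomp
import Cfsg.Agent.Lib.H24.CharKernel
import Cfsg.Agent.Lib.H24.CentralMod

/-!
# Weighted counting over a TI set and splitting a character along a normal subgroup

* `ti_sum_le`: if `D` is a "TI set with normalizer `N`" (any `x` conjugating an element of `D`
  into `D` lies in `N`) and no conjugate of an element of `Z` lies in `D`, then for a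
  nonnegative class function `F`,
  `|N| * Σ_{Z} F + |K| * Σ_{D} F ≤ |N| * Σ_K F`.
* `split_char_bound`: a character `ξ` of `M`, `N` normal in `M`; writing `ξ = α + β` with `α` the
  part having `N` in its kernel, `β ≠ 0` is a character orthogonal to `α`, and `α` is the average
  of `ξ` over cosets of `N`.  This gives a lower bound for the norm of `ξ` on `ZM ∪ DM`.
-/

namespace Cfsg.Agent.Lib.H8

open Cfsg Cfsg.Agent.Lib.L0 Cfsg.Agent.Lib.H24
open scoped ComplexConjugate

section TISum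
variable {K : Type*} [Group K] [Fintype K]

open scoped Classical in
theorem ti_sum_le (N : Subgroup K) (D Z : Set K) (F : K → ℝ)
    (hF : ∀ g x, F (x * g * x⁻¹) = F g) (hF0 : ∀ g, 0 ≤ F g)
    (hTI : ∀ g x, g ∈ D → x * g * x⁻¹ ∈ D → x ∈ N)
    (hZ : ∀ g x, g ∈ Z → x * g * x⁻¹ ∉ D) :
    (Nat.card N : ℝ) * ∑ g ∈ Finset.univ.filter (· ∈ Z), F g
        + (Nat.card K : ℝ) * ∑ g ∈ Finset.univ.filter (· ∈ D), F g
      ≤ (Nat.card N : ℝ) * ∑ g, F g := by
  have hc : ∀ g : K, ((Finset.univ.filter (fun x : K => x * g * x⁻¹ ∈ D)).card : ℝ)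
      ≤ (if g ∈ Z then 0 else (Nat.card N : ℝ)) := by
    intro g
    by_cases hg : g ∈ Z
    · rw [if_pos hg]
      have : Finset.univ.filter (fun x : K => x * g * x⁻¹ ∈ D) = ∅ := by
        apply Finset.filter_eq_empty_iff.mpr
        intro x _
        exact hZ g x hg
      rw [this]; simp
    · rw [if_neg hg]
      by_cases hne : (Finset.univ.filter (fun x : K => x * g * x⁻¹ ∈ D)).Nonempty
      · obtain ⟨x₀, hx₀⟩ := hne
        rw [Finset.mem_filter] at hx₀
        have hx₀D := hx₀.2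
        have hle : (Finset.univ.filter (fun x : K => x * g * x⁻¹ ∈ D)).card
            ≤ (Finset.univ : Finset N).card := by
          apply Finset.card_le_card_of_injOn (fun x => if h : x * x₀⁻¹ ∈ N then ⟨x * x₀⁻¹, h⟩ else 1)
          · intro x _; exact Finset.mem_univ _
          · intro x hx y hy hxy
            simp only [Finset.coe_filter, Finset.mem_univ, true_and, Set.mem_setOf_eq] at hx hy
            have hxN : x * x₀⁻¹ ∈ N := by
              apply hTI (x₀ * g * x₀⁻¹) (x * x₀⁻¹) hx₀D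
              have : x * x₀⁻¹ * (x₀ * g * x₀⁻¹) * (x * x₀⁻¹)⁻¹ = x * g * x⁻¹ := by group
              rw [this]; exact hx
            have hyN : y * x₀⁻¹ ∈ N := by
              apply hTI (x₀ * g * x₀⁻¹) (y * x₀⁻¹) hx₀D
              have : y * x₀⁻¹ * (x₀ * g * x₀⁻¹) * (y * x₀⁻¹)⁻¹ = y * g * y⁻¹ := by group
              rw [this]; exact hy
            simp only [dif_pos hxN, dif_pos hyN] at hxy
            have := congrArg Subtype.val hxy
            simpa using this
        rw [Finset.card_univ, ← Nat.card_eq_fintype_card] at hle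
        exact_mod_cast hle
      · rw [Finset.not_nonempty_iff_eq_empty] at hne
        rw [hne]; simp
  have hsum : ∑ g : K, F g * ((Finset.univ.filter (fun x : K => x * g * x⁻¹ ∈ D)).card : ℝ)
      = (Nat.card K : ℝ) * ∑ g ∈ Finset.univ.filter (· ∈ D), F g := by
    have h1 : ∀ g : K, F g * ((Finset.univ.filter (fun x : K => x * g * x⁻¹ ∈ D)).card : ℝ)
        = ∑ x : K, if x * g * x⁻¹ ∈ D then F g else 0 := by
      intro g
      rw [Finset.card_filter]
      push_cast
      rw [Finset.mul_sum]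
      refine Finset.sum_congr rfl fun x _ => ?_
      split_ifs <;> simp
    rw [Finset.sum_congr rfl fun g _ => h1 g, Finset.sum_comm]
    have h2 : ∀ x : K, ∑ g : K, (if x * g * x⁻¹ ∈ D then F g else 0)
        = ∑ g ∈ Finset.univ.filter (· ∈ D), F g := by
      intro x
      rw [Finset.sum_filter]
      refine Fintype.sum_equiv (MulAut.conj x).toEquiv _ _ fun g => ?_
      show (if x * g * x⁻¹ ∈ D then F g else 0) = if (MulAut.conj x) g ∈ D then F ((MulAut.conj x) g) else 0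
      rw [MulAut.conj_apply, hF]
    rw [Finset.sum_congr rfl fun x _ => h2 x, Finset.sum_const, Finset.card_univ,
      ← Nat.card_eq_fintype_card, nsmul_eq_mul]
  have hle : ∑ g : K, F g * ((Finset.univ.filter (fun x : K => x * g * x⁻¹ ∈ D)).card : ℝ)
      ≤ ∑ g : K, F g * (if g ∈ Z then 0 else (Nat.card N : ℝ)) :=
    Finset.sum_le_sum fun g _ => mul_le_mul_of_nonneg_left (hc g) (hF0 g)
  have hsplit : ∑ g : K, F g * (if g ∈ Z then 0 else (Nat.card N : ℝ))
      = (Nat.card N : ℝ) * ∑ g, F g - (Nat.card N : ℝ) * ∑ g ∈ Finset.univ.filter (· ∈ Z), F g := by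
    rw [Finset.sum_filter, Finset.mul_sum, Finset.mul_sum, ← Finset.sum_sub_distrib]
    refine Finset.sum_congr rfl fun g _ => ?_
    split_ifs <;> ring
  rw [hsum, hsplit] at hle
  linarith

end TISum

section Split
variable {M : Type*} [Group M] [Fintype M]

theorem list_sum_filter_add {A : Type*} [AddCommMonoid A] (p : A → Prop) [DecidablePred p]
    (l : List A) :
    (l.filter (fun a => p a)).sum + (l.filter (fun a => ¬ p a)).sum = l.sum := by
  induction l with
  | nil => simp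
  | cons a l ih =>
    by_cases h : p a
    · simp [List.filter_cons, h, ← ih, add_assoc]
    · simp [List.filter_cons, h, ← ih, add_left_comm]

open scoped Classical in
/-- Averaging a function over right cosets of `N`. -/
noncomputable def cosetAvg (N : Subgroup M) (f : M → ℂ) : M → ℂ :=
  fun m => (Nat.card N : ℂ)⁻¹ * ∑ n : N, f (m * n)

open scoped Classical in
theorem cosetAvg_add (N : Subgroup M) (f g : M → ℂ) :
    cosetAvg N (f + g) = cosetAvg N f + cosetAvg N g := by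
  funext m
  simp only [cosetAvg, Pi.add_apply, Finset.sum_add_distrib, mul_add]

open scoped Classical in
theorem cosetAvg_zero (N : Subgroup M) : cosetAvg N (0 : M → ℂ) = 0 := by
  funext m
  simp [cosetAvg]

open scoped Classical in
theorem cosetAvg_irr_of_ker (N : Subgroup M) [N.Normal] {ψ : M → ℂ} (hψ : IsIrrCharacter M ψ)
    (hK : ∀ n ∈ N, ψ n = ψ 1) : cosetAvg N ψ = ψ := by
  funext m
  have h1 : ∀ n : N, ψ (m * n) = ψ m := by
    intro n
    have hx : m * n * m⁻¹ ∈ N := ‹N.Normal›.conj_mem n n.2 m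
    have := char_mul_of_apply_eq_one (isCharacter_of_irr hψ) (hK _ hx) m
    have e : m * (n : M) = m * n * m⁻¹ * m := by group
    rw [e]; exact this
  simp only [cosetAvg, h1, Finset.sum_const, Finset.card_univ, nsmul_eq_mul,
    ← Nat.card_eq_fintype_card]
  have : (Nat.card N : ℂ) ≠ 0 := by
    exact_mod_cast Nat.card_pos.ne'
  field_simp

open scoped Classical in
theorem cosetAvg_irr_of_not_ker (N : Subgroup M) [N.Normal] {ψ : M → ℂ} (hψ : IsIrrCharacter M ψ)
    (hK : ¬ ∀ n ∈ N, ψ n = ψ 1) : cosetAvg N ψ = 0 := by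
  funext m
  push Not at hK
  obtain ⟨n, hn, hne⟩ := hK
  have := irr_sum_normal_mul_eq_zero (⟨ψ, hψ⟩ : IrrCharacter M) N ⟨n, hn, hne⟩ m
  simp only [cosetAvg]
  rw [this, mul_zero]
  rfl

open scoped Classical in
theorem cosetAvg_list_sum (N : Subgroup M) [N.Normal] (l : List (M → ℂ))
    (hl : ∀ ψ ∈ l, IsIrrCharacter M ψ) :
    cosetAvg N l.sum = (l.filter (fun ψ => ∀ n ∈ N, ψ n = ψ 1)).sum := by
  induction l with
  | nil => simp [cosetAvg_zero]
  | cons a l ih =>
    have ha := hl a (by simp)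
    have ih' := ih fun ψ hψ => hl ψ (by simp [hψ])
    rw [List.sum_cons, cosetAvg_add, ih']
    by_cases h : ∀ n ∈ N, a n = a 1
    · rw [cosetAvg_irr_of_ker N ha h, List.filter_cons]
      simp only [decide_eq_true_eq]
      rw [if_pos h, List.sum_cons]
    · rw [cosetAvg_irr_of_not_ker N ha h, List.filter_cons]
      simp only [decide_eq_true_eq]
      rw [if_neg h, zero_add]

open scoped Classical in
theorem classInner_filter_orth (N : Subgroup M) (l : List (M → ℂ))
    (hl : ∀ ψ ∈ l, IsIrrCharacter M ψ) :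
    classInner (l.filter (fun ψ => ∀ n ∈ N, ψ n = ψ 1)).sum
      (l.filter (fun ψ => ¬ ∀ n ∈ N, ψ n = ψ 1)).sum = 0 := by
  rw [classInner_list_sum_left]
  apply List.sum_eq_zero
  intro x hx
  rw [List.mem_map] at hx
  obtain ⟨a, ha, rfl⟩ := hx
  rw [classInner_list_sum_right]
  apply List.sum_eq_zero
  intro y hy
  rw [List.mem_map] at hy
  obtain ⟨b, hb, rfl⟩ := hy
  rw [List.mem_filter] at ha hb
  simp only [decide_eq_true_eq] at ha hb
  apply irr_classInner_ne (hl a ha.1) (hl b hb.1)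
  rintro rfl
  exact hb.2 ha.2

open scoped Classical in
theorem split_char_bound (N : Subgroup M) [N.Normal] (ZM : Subgroup M) (DM : Set M)
    (ξ : M → ℂ) (hξ : IsCharacter M ξ)
    (hω : ∀ z ∈ ZM, ∃ ω : ℂ, ‖ω‖ = 1 ∧ ∀ m, ξ (z * m) = ω * ξ m)
    (hfree : ∀ m : M, m ∉ ZM → m ∉ DM → ∀ n ∈ N, ξ (m * n) = ξ m)
    (hdisj : ∀ m ∈ ZM, m ∉ DM)
    (hZN : ∀ z ∈ ZM, ∀ n ∈ N, z * n ∈ ZM ∨ z * n ∈ DM)
    (hinf : ∀ m, m ∈ ZM → m ∈ N → m = 1)
    (hker : ∃ n ∈ N, ξ n ≠ ξ 1) :
    (Nat.card ZM : ℝ) * (Nat.card N : ℝ) * ‖(Nat.card N : ℂ)⁻¹ * ∑ n : N, ξ n‖ ^ 2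
        + (Nat.card M : ℝ)
      ≤ ∑ m ∈ Finset.univ.filter (· ∈ (ZM : Set M)), ‖ξ m‖ ^ 2
        + ∑ m ∈ Finset.univ.filter (· ∈ DM), ‖ξ m‖ ^ 2 := by
  obtain ⟨l, hl, rfl⟩ := isCharacter_exists_irr_decomp hξ
  set α : M → ℂ := (l.filter (fun ψ => ∀ n ∈ N, ψ n = ψ 1)).sum with hα
  set β : M → ℂ := (l.filter (fun ψ => ¬ ∀ n ∈ N, ψ n = ψ 1)).sum with hβ
  set c : ℂ := (Nat.card N : ℂ)⁻¹ * ∑ n : N, l.sum n with hc
  have hcardN : (Nat.card N : ℂ) ≠ 0 := by exact_mod_cast Nat.card_pos.ne'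
  have hsum : α + β = l.sum := list_sum_filter_add _ l
  have havg : cosetAvg N l.sum = α := cosetAvg_list_sum N l hl
  have horth : classInner α β = 0 := classInner_filter_orth N l hl
  have horth' : classInner β α = 0 := by
    rw [← classInner_conj_symm, horth, map_zero]
  -- β is a nonzero character
  have hβchar : IsCharacter M β := by
    apply isCharacter_list_sum
    intro ψ hψ
    rw [List.mem_filter] at hψ
    exact isCharacter_of_irr (hl ψ hψ.1)
  have hαN : ∀ m : M, ∀ n ∈ N, α (m * n) = α m := by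
    intro m n hn
    rw [← havg]
    simp only [cosetAvg]
    congr 1
    refine Fintype.sum_equiv (Equiv.mulLeft (⟨n, hn⟩ : N)) _ _ fun k => ?_
    simp [mul_assoc]
  have hβne : β ≠ 0 := by
    intro h0
    obtain ⟨n, hn, hne⟩ := hker
    apply hne
    have : l.sum = α := by rw [← hsum, h0, add_zero]
    rw [this]
    have := hαN 1 n hn
    rwa [one_mul] at this
  have hβnorm : (Nat.card M : ℝ) ≤ ∑ m : M, ‖β m‖ ^ 2 := by
    obtain ⟨k, hk⟩ := classInner_char_char_nat hβchar hβchar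
    have hk0 : k ≠ 0 := by
      rintro rfl
      apply hβne
      apply classInner_self_eq_zero
      rw [hk]; simp
    rw [classInner_self_eq] at hk
    have hk' : (Nat.card M : ℝ)⁻¹ * ∑ m : M, ‖β m‖ ^ 2 = (k : ℝ) := by exact_mod_cast hk
    have hk1 : (1 : ℝ) ≤ k := by exact_mod_cast Nat.one_le_iff_ne_zero.mpr hk0
    have hpos : (0 : ℝ) < Nat.card M := by exact_mod_cast Nat.card_pos
    have : ∑ m : M, ‖β m‖ ^ 2 = (Nat.card M : ℝ) * k := by
      rw [← hk']; field_simp
    rw [this]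
    nlinarith
  -- Pythagoras
  have hpyth : ∑ m : M, ‖l.sum m‖ ^ 2 = ∑ m : M, ‖α m‖ ^ 2 + ∑ m : M, ‖β m‖ ^ 2 := by
    have h1 : classInner l.sum l.sum = classInner α α + classInner β β := by
      rw [← hsum, classInner_add_left, classInner_add_right, classInner_add_right, horth, horth']
      ring
    rw [classInner_self_eq, classInner_self_eq, classInner_self_eq] at h1
    have h2 : (Nat.card M : ℝ)⁻¹ * ∑ m : M, ‖l.sum m‖ ^ 2
        = (Nat.card M : ℝ)⁻¹ * ∑ m : M, ‖α m‖ ^ 2 + (Nat.card M : ℝ)⁻¹ * ∑ m : M, ‖β m‖ ^ 2 := by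
      exact_mod_cast h1
    have hpos : (0 : ℝ) < Nat.card M := by exact_mod_cast Nat.card_pos
    field_simp at h2
    linarith
  -- values of α
  have hαfree : ∀ m : M, m ∉ ZM → m ∉ DM → α m = l.sum m := by
    intro m h1 h2
    rw [← havg]
    simp only [cosetAvg]
    rw [Finset.sum_congr rfl fun (n : N) _ => hfree m h1 h2 (n : M) n.2, Finset.sum_const, Finset.card_univ,
      ← Nat.card_eq_fintype_card, nsmul_eq_mul]
    field_simp
  have hαZN : ∀ z ∈ ZM, ∀ n ∈ N, ‖α (z * n)‖ = ‖c‖ := by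
    intro z hz n hn
    obtain ⟨ω, hω1, hω2⟩ := hω z hz
    rw [hαN z n hn, ← havg]
    simp only [cosetAvg]
    rw [Finset.sum_congr rfl fun (k : N) _ => hω2 (k : M), ← Finset.mul_sum, ← mul_assoc,
      mul_comm _ ω, mul_assoc, norm_mul, hω1, one_mul]
  -- lower bound on T
  set T : Finset M := Finset.univ.filter (fun m => m ∈ ZM ∨ m ∈ DM) with hT
  have hlow : (Nat.card ZM : ℝ) * (Nat.card N : ℝ) * ‖c‖ ^ 2 ≤ ∑ m ∈ T, ‖α m‖ ^ 2 := by
    let f : ZM × N → M := fun p => (p.1 : M) * (p.2 : M)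
    have hf : Function.Injective f := by
      rintro ⟨z, n⟩ ⟨z', n'⟩ h
      simp only [f] at h
      have h1 : (z' : M)⁻¹ * z = n' * (n : M)⁻¹ := by
        have : (z : M) = z' * n' * (n : M)⁻¹ := by rw [← h]; group
        rw [this]; group
      have h2 : (z' : M)⁻¹ * z = 1 := by
        apply hinf _ (ZM.mul_mem (ZM.inv_mem z'.2) z.2)
        rw [h1]; exact N.mul_mem n'.2 (N.inv_mem n.2)
      have hz : (z : M) = z' := by
        have := congrArg (fun t => (z' : M) * t) h2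
        simpa using this
      have hn : (n : M) = n' := by
        rw [hz] at h
        exact mul_left_cancel h
      exact Prod.ext (Subtype.ext hz) (Subtype.ext hn)
    have himg : Finset.univ.image f ⊆ T := by
      intro m hm
      rw [Finset.mem_image] at hm
      obtain ⟨⟨z, n⟩, -, rfl⟩ := hm
      rw [hT, Finset.mem_filter]
      exact ⟨Finset.mem_univ _, hZN z z.2 n n.2⟩
    have h1 : ∑ m ∈ Finset.univ.image f, ‖α m‖ ^ 2 ≤ ∑ m ∈ T, ‖α m‖ ^ 2 :=
      Finset.sum_le_sum_of_subset_of_nonneg himg fun _ _ _ => sq_nonneg _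
    rw [Finset.sum_image (fun x _ y _ h => hf h)] at h1
    have h2 : ∑ p : ZM × N, ‖α (f p)‖ ^ 2 = (Nat.card ZM : ℝ) * (Nat.card N : ℝ) * ‖c‖ ^ 2 := by
      rw [Finset.sum_congr rfl fun p _ => by rw [hαZN p.1 p.1.2 p.2 p.2.2], Finset.sum_const,
        Finset.card_univ, Fintype.card_prod, ← Nat.card_eq_fintype_card,
        ← Nat.card_eq_fintype_card, nsmul_eq_mul]
      push_cast; ring
    rw [h2] at h1
    exact h1
  -- arithmetic
  have hTα : ∑ m ∈ T, ‖α m‖ ^ 2 + ∑ m ∈ Finset.univ.filter (fun m => ¬ (m ∈ ZM ∨ m ∈ DM)), ‖α m‖ ^ 2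
      = ∑ m : M, ‖α m‖ ^ 2 := Finset.sum_filter_add_sum_filter_not _ _ _
  have hTξ : ∑ m ∈ T, ‖l.sum m‖ ^ 2
      + ∑ m ∈ Finset.univ.filter (fun m => ¬ (m ∈ ZM ∨ m ∈ DM)), ‖l.sum m‖ ^ 2
      = ∑ m : M, ‖l.sum m‖ ^ 2 := Finset.sum_filter_add_sum_filter_not _ _ _
  have hcompl : ∑ m ∈ Finset.univ.filter (fun m => ¬ (m ∈ ZM ∨ m ∈ DM)), ‖α m‖ ^ 2
      = ∑ m ∈ Finset.univ.filter (fun m => ¬ (m ∈ ZM ∨ m ∈ DM)), ‖l.sum m‖ ^ 2 := by
    refine Finset.sum_congr rfl fun m hm => ?_
    rw [Finset.mem_filter] at hm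
    push Not at hm
    rw [hαfree m hm.2.1 hm.2.2]
  have hTsplit : ∑ m ∈ T, ‖l.sum m‖ ^ 2
      = ∑ m ∈ Finset.univ.filter (· ∈ (ZM : Set M)), ‖l.sum m‖ ^ 2
        + ∑ m ∈ Finset.univ.filter (· ∈ DM), ‖l.sum m‖ ^ 2 := by
    rw [hT, Finset.filter_or, Finset.sum_union]
    · rfl
    · rw [Finset.disjoint_filter]
      intro m _ h1
      exact hdisj m h1
  linarith

end Split

end Cfsg.Agent.Lib.H8
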