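import Mathlib
import Cfsg.Prelude.Def_Characters
import Cfsg.Agent.Lib.H8.TISum
import Cfsg.Agent.Lib.H24.CharBasic

/-!
# Feit–Thompson degree bound for an abelian "TI-like" subgroup

`ft_degree_bound`: `H` abelian, `H ∩ Z(G) = 1`, every non-central `g` has `C_G(g)` meeting at most
one conjugate of `H` nontrivially; `χ` irreducible, not constant on `H`,
`c = ⟨χ|_H, 1_H⟩`.  Then `χ(1)² > |H| c²`.
-/

namespace Cfsg.Agent.Lib.H8

open Cfsg Cfsg.Agent.Lib.L0 Cfsg.Agent.Lib.H24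
open scoped ComplexConjugate

section Core
variable {G : Type*} [Group G] [Fintype G]

open scoped Classical in
theorem ft_core (H M Z : Subgroup G) [Fintype H] (D : Set G)
    (hHM : H ≤ M) (hZM : Z ≤ M) (hDM : ∀ g ∈ D, g ∈ M)
    (hMnorm : ∀ m ∈ M, ∀ h ∈ H, m * h * m⁻¹ ∈ H)
    (hA1 : ∀ g x, g ∈ D → x * g * x⁻¹ ∈ D → x ∈ M)
    (hZc : ∀ z ∈ Z, ∀ g : G, z * g = g * z)
    (hZD : ∀ z ∈ Z, z ∉ D)
    (hZH : ∀ z ∈ Z, ∀ h ∈ H, h ≠ 1 → z * h ∈ D)
    (hinf : ∀ g, g ∈ Z → g ∈ H → g = 1)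
    (hfree : ∀ m ∈ M, m ∉ Z → m ∉ D → ∀ h ∈ H, ∃ k : G, k⁻¹ * m * k = m * h)
    (χ : G → ℂ) (hχ : IsIrrCharacter G χ) (hker : ∃ h ∈ H, χ h ≠ χ 1) :
    (Nat.card H : ℝ) * ‖(Nat.card H : ℂ)⁻¹ * ∑ h : H, χ h‖ ^ 2 < ‖χ 1‖ ^ 2 := by
  have hχc := isCharacter_of_irr hχ
  have hcf := isClassFunction_of_isCharacter hχc
  obtain ⟨d, hd0, hd'⟩ := irr_one_eq (⟨χ, hχ⟩ : IrrCharacter G)
  have hd : χ 1 = (d : ℂ) := hd'
  -- central elements act by scalars of norm one
  have hω : ∀ z ∈ Z, ∃ ω : ℂ, ‖ω‖ = 1 ∧ ∀ g : G, χ (z * g) = ω * χ g := by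
    intro z hz
    have hz' : ∀ g : G, χ (z * g * z⁻¹ * g⁻¹) = χ 1 := by
      intro g
      have : z * g * z⁻¹ * g⁻¹ = 1 := by rw [hZc z hz g]; group
      rw [this]
    obtain ⟨ω, hω⟩ := exists_scalar_of_commutator_ker hχ z hz'
    refine ⟨ω, ?_, hω⟩
    have h1 := mul_conj_of_commutator_ker hχ z hz'
    have h2 := hω 1
    rw [mul_one] at h2
    rw [h2, Complex.mul_conj, hd] at h1
    have h3 : Complex.normSq (ω * (d : ℂ)) = (d : ℝ) ^ 2 := by exact_mod_cast h1
    rw [Complex.normSq_mul, Complex.normSq_natCast, Complex.normSq_eq_norm_sq] at h3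
    have hdpos : (0 : ℝ) < d := by exact_mod_cast hd0
    have h4 : ‖ω‖ ^ 2 = 1 := by
      have : ‖ω‖ ^ 2 * ((d : ℝ) * d) = 1 * ((d : ℝ) * d) := by rw [h3]; ring
      exact mul_right_cancel₀ (by positivity) this
    have h5 : (0 : ℝ) ≤ ‖ω‖ := norm_nonneg _
    nlinarith
  have hZnorm : ∀ z ∈ Z, ‖χ z‖ = ‖χ 1‖ := by
    intro z hz
    obtain ⟨ω, h1, h2⟩ := hω z hz
    have := h2 1
    rw [mul_one] at this
    rw [this, norm_mul, h1, one_mul]
  -- set up the group M
  haveI hN : (H.subgroupOf M).Normal := by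
    refine ⟨fun n hn g => ?_⟩
    rw [Subgroup.mem_subgroupOf] at hn ⊢
    exact hMnorm g g.2 n hn
  have hsplit := split_char_bound (H.subgroupOf M) (Z.subgroupOf M) {m : M | (m : G) ∈ D}
    (fun m : M => χ m) (isCharacter_restrict M hχc)
    (by
      intro z hz
      obtain ⟨ω, h1, h2⟩ := hω z (Subgroup.mem_subgroupOf.mp hz)
      exact ⟨ω, h1, fun m => h2 m⟩)
    (by
      intro m h1 h2 n hn
      obtain ⟨k, hk⟩ := hfree m m.2 (fun h => h1 (Subgroup.mem_subgroupOf.mpr h)) h2 n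
        (Subgroup.mem_subgroupOf.mp hn)
      show χ ((m : G) * (n : G)) = χ m
      rw [← hk]
      have := hcf (m : G) k⁻¹
      rwa [inv_inv] at this)
    (by
      intro m hm
      exact hZD m (Subgroup.mem_subgroupOf.mp hm))
    (by
      intro z hz n hn
      by_cases hn1 : (n : G) = 1
      · left
        have : n = 1 := Subtype.ext hn1
        rw [this, mul_one]; exact hz
      · right
        exact hZH z (Subgroup.mem_subgroupOf.mp hz) n (Subgroup.mem_subgroupOf.mp hn) hn1)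
    (by
      intro m h1 h2
      exact Subtype.ext (hinf m (Subgroup.mem_subgroupOf.mp h1) (Subgroup.mem_subgroupOf.mp h2)))
    (by
      obtain ⟨h, hh, hne⟩ := hker
      exact ⟨⟨h, hHM hh⟩, Subgroup.mem_subgroupOf.mpr hh, hne⟩)
  -- cardinalities
  have hcZ : Nat.card (Z.subgroupOf M) = Nat.card Z :=
    Nat.card_congr (Subgroup.subgroupOfEquivOfLe hZM).toEquiv
  have hcH : Nat.card (H.subgroupOf M) = Nat.card H :=
    Nat.card_congr (Subgroup.subgroupOfEquivOfLe hHM).toEquiv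
  have hsumH : ∑ n : H.subgroupOf M, χ ((n : M) : G) = ∑ h : H, χ h :=
    Fintype.sum_equiv (Subgroup.subgroupOfEquivOfLe hHM).toEquiv _ _ fun n => rfl
  rw [hcZ, hcH, hsumH] at hsplit
  -- the sum over ZM
  have hsZ : ∑ m ∈ Finset.univ.filter (· ∈ ((Z.subgroupOf M : Subgroup M) : Set M)), ‖χ (m : G)‖ ^ 2
      = (Nat.card Z : ℝ) * ‖χ 1‖ ^ 2 := by
    rw [Finset.sum_congr rfl fun m hm => by
      rw [hZnorm m (Subgroup.mem_subgroupOf.mp (Finset.mem_filter.mp hm).2)], Finset.sum_const,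
      nsmul_eq_mul, ← hcZ]
    congr 2
    rw [Nat.card_eq_fintype_card, Fintype.card_subtype]
    rfl
  -- the sum over DM
  have hsD : ∑ m ∈ Finset.univ.filter (· ∈ {m : M | (m : G) ∈ D}), ‖χ (m : G)‖ ^ 2
      = ∑ g ∈ Finset.univ.filter (· ∈ D), ‖χ g‖ ^ 2 := by
    rw [Finset.sum_filter, Finset.sum_filter]
    have h1 : ∑ g : G, (if g ∈ D then ‖χ g‖ ^ 2 else 0)
        = ∑ g ∈ Finset.univ.filter (· ∈ M), (if g ∈ D then ‖χ g‖ ^ 2 else 0) := by
      rw [Finset.sum_filter]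
      refine Finset.sum_congr rfl fun g _ => ?_
      by_cases hg : g ∈ D
      · rw [if_pos hg, if_pos (hDM g hg)]
      · rw [if_neg hg]; simp
    rw [h1]
    exact (Finset.sum_subtype (Finset.univ.filter (· ∈ M)) (by simp)
      (fun g => if g ∈ D then ‖χ g‖ ^ 2 else 0)).symm
  rw [hsZ, hsD] at hsplit
  -- TI sum in G
  have hTI := ti_sum_le M D (Z : Set G) (fun g => ‖χ g‖ ^ 2)
    (fun g x => by rw [hcf g x]) (fun g => sq_nonneg _) hA1
    (fun g x hg => by
      have : x * g * x⁻¹ = g := by rw [← hZc g hg x]; group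
      rw [this]; exact hZD g hg)
  have hGsum : ∑ g : G, ‖χ g‖ ^ 2 = (Nat.card G : ℝ) := by
    have h1 := irr_classInner_self hχ
    rw [classInner_self_eq] at h1
    have h2 : (Nat.card G : ℝ)⁻¹ * ∑ g : G, ‖χ g‖ ^ 2 = 1 := by exact_mod_cast h1
    have hpos : (0 : ℝ) < Nat.card G := by exact_mod_cast Nat.card_pos
    field_simp at h2
    linarith
  have hZsum : ∑ g ∈ Finset.univ.filter (· ∈ (Z : Set G)), ‖χ g‖ ^ 2
      = (Nat.card Z : ℝ) * ‖χ 1‖ ^ 2 := by
    rw [Finset.sum_congr rfl fun g hg => by rw [hZnorm g (Finset.mem_filter.mp hg).2],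
      Finset.sum_const, nsmul_eq_mul]
    congr 2
    rw [Nat.card_eq_fintype_card, Fintype.card_subtype]
    rfl
  rw [hGsum, hZsum] at hTI
  -- arithmetic
  set c2 : ℝ := ‖(Nat.card H : ℂ)⁻¹ * ∑ h : H, χ h‖ ^ 2 with hc2
  set d2 : ℝ := ‖χ 1‖ ^ 2 with hd2
  set SD : ℝ := ∑ g ∈ Finset.univ.filter (· ∈ D), ‖χ g‖ ^ 2 with hSD
  have hd2pos : 0 < d2 := by
    rw [hd2, hd]
    have : (0 : ℝ) < d := by exact_mod_cast hd0
    simp only [Complex.norm_natCast]
    positivity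
  have hGpos : (0 : ℝ) < Nat.card G := by exact_mod_cast Nat.card_pos
  have hMpos : (0 : ℝ) < Nat.card M := by exact_mod_cast Nat.card_pos
  have hZpos : (0 : ℝ) < Nat.card Z := by exact_mod_cast Nat.card_pos
  have h1 : (Nat.card G : ℝ) * ((Nat.card Z : ℝ) * (Nat.card H : ℝ) * c2 + (Nat.card M : ℝ))
      ≤ (Nat.card G : ℝ) * ((Nat.card Z : ℝ) * d2 + SD) :=
    mul_le_mul_of_nonneg_left hsplit hGpos.le
  have h2 : (Nat.card G : ℝ) * (Nat.card Z : ℝ) * ((Nat.card H : ℝ) * c2)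
      < (Nat.card G : ℝ) * (Nat.card Z : ℝ) * d2 := by
    have : 0 < (Nat.card M : ℝ) * (Nat.card Z : ℝ) * d2 := by positivity
    nlinarith
  exact lt_of_mul_lt_mul_left h2 (by positivity)

open scoped Classical in
/-- Feit–Thompson: `χ(1)² > |H| c²` where `c = ⟨χ|_H, 1_H⟩`. -/
theorem ft_degree_bound (H : Subgroup G) [Fintype H]
    (hZ : H ⊓ Subgroup.center G = ⊥)
    (hone : ∀ g : G, g ∉ Subgroup.center G → ∀ a b : G,
      Subgroup.centralizer ({g} : Set G) ⊓ H.map (MulAut.conj a).toMonoidHom ≠ ⊥ →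
      Subgroup.centralizer ({g} : Set G) ⊓ H.map (MulAut.conj b).toMonoidHom ≠ ⊥ →
      H.map (MulAut.conj a).toMonoidHom = H.map (MulAut.conj b).toMonoidHom)
    (χ : G → ℂ) (hχ : IsIrrCharacter G χ) (hker : ∃ h ∈ H, χ h ≠ χ 1) :
    (Nat.card H : ℝ) * ‖(Nat.card H : ℂ)⁻¹ * ∑ h : H, χ h‖ ^ 2 < ‖χ 1‖ ^ 2 := by
  have hcen : ∀ z ∈ Subgroup.center G, ∀ g : G, z * g = g * z := fun z hz g =>
    (Subgroup.mem_center_iff.mp hz g).symm
  have hbot : ∀ g, g ∈ Subgroup.center G → g ∈ H → g = 1 := by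
    intro g h1 h2
    have : g ∈ H ⊓ Subgroup.center G := ⟨h2, h1⟩
    rw [hZ] at this
    exact Subgroup.mem_bot.mp this
  have hA1 : ∀ g x, g ∈ {g : G | g ∉ Subgroup.center G ∧ ∃ h ∈ H, h ≠ 1 ∧ h * g = g * h} →
      x * g * x⁻¹ ∈ {g : G | g ∉ Subgroup.center G ∧ ∃ h ∈ H, h ≠ 1 ∧ h * g = g * h} →
      x ∈ Subgroup.normalizer (H : Set G) := by
    rintro g x ⟨hgZ, h, hh, hh1, hcomm⟩ ⟨-, h', hh', hh'1, hcomm'⟩
    have key := hone g hgZ 1 x⁻¹ (by
        intro hb
        have : h ∈ Subgroup.centralizer ({g} : Set G) ⊓ H.map (MulAut.conj (1 : G)).toMonoidHom := by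
          refine Subgroup.mem_inf.mpr ⟨?_, Subgroup.mem_map.mpr ⟨h, hh, by simp⟩⟩
          rw [Subgroup.mem_centralizer_iff]
          intro y hy
          rw [Set.mem_singleton_iff] at hy
          rw [hy]; exact hcomm.symm
        rw [hb] at this
        exact hh1 (Subgroup.mem_bot.mp this))
      (by
        intro hb
        have : x⁻¹ * h' * x ∈ Subgroup.centralizer ({g} : Set G)
            ⊓ H.map (MulAut.conj x⁻¹).toMonoidHom := by
          refine Subgroup.mem_inf.mpr ⟨?_, Subgroup.mem_map.mpr ⟨h', hh', by simp [MulAut.conj_apply]⟩⟩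
          rw [Subgroup.mem_centralizer_iff]
          intro y hy
          rw [Set.mem_singleton_iff] at hy
          rw [hy]
          have e1 : g * (x⁻¹ * h' * x) = x⁻¹ * ((x * g * x⁻¹) * h') * x := by group
          rw [e1, ← hcomm']; group
        rw [hb] at this
        have h1 : x⁻¹ * h' * x = 1 := Subgroup.mem_bot.mp this
        apply hh'1
        have : h' = x * (x⁻¹ * h' * x) * x⁻¹ := by group
        rw [this, h1]; group)
    have hmap1 : H.map (MulAut.conj (1 : G)).toMonoidHom = H := by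
      ext y
      simp
    rw [hmap1] at key
    have hx : x⁻¹ ∈ Subgroup.normalizer (H : Set G) := by
      rw [Subgroup.mem_normalizer_iff]
      intro y
      constructor
      · intro hy
        have : x⁻¹ * y * x⁻¹⁻¹ ∈ H.map (MulAut.conj x⁻¹).toMonoidHom := ⟨y, hy, by simp [MulAut.conj_apply]⟩
        rwa [← key] at this
      · intro hy
        rw [key] at hy
        obtain ⟨y', hy', hyy⟩ := hy
        have e : y' = y := by
          simp only [MulEquiv.coe_toMonoidHom, MulAut.conj_apply] at hyy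
          have := congrArg (fun t => x * t * x⁻¹) hyy
          simp only [inv_inv] at this
          have e1 : x * (x⁻¹ * y' * x) * x⁻¹ = y' := by group
          have e2 : x * (x⁻¹ * y * x) * x⁻¹ = y := by group
          rw [e1, e2] at this
          exact this
        rw [← e]; exact hy'
    have := (Subgroup.normalizer (H : Set G)).inv_mem hx
    rwa [inv_inv] at this
  have hHD : ∀ h ∈ H, h ≠ 1 → h ∈ {g : G | g ∉ Subgroup.center G ∧ ∃ h ∈ H, h ≠ 1 ∧ h * g = g * h} := by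
    intro h hh hh1
    exact ⟨fun hc => hh1 (hbot h hc hh), h, hh, hh1, rfl⟩
  refine ft_core H (Subgroup.normalizer (H : Set G)) (Subgroup.center G)
    {g : G | g ∉ Subgroup.center G ∧ ∃ h ∈ H, h ≠ 1 ∧ h * g = g * h}
    Subgroup.le_normalizer ?_ ?_ ?_ hA1 hcen ?_ ?_ hbot ?_ χ hχ hker
  · intro z hz
    rw [Subgroup.mem_normalizer_iff]
    intro y
    have : z * y * z⁻¹ = y := by rw [hcen z hz y]; group
    rw [this]
  · rintro g ⟨hgZ, h, hh, hh1, hcomm⟩
    apply hA1 h g (hHD h hh hh1)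
    have : g * h * g⁻¹ = h := by rw [← hcomm]; group
    rw [this]
    exact hHD h hh hh1
  · intro m hm h hh
    exact (Subgroup.mem_normalizer_iff.mp hm h).mp hh
  · intro z hz hzD
    exact hzD.1 hz
  · intro z hz h hh hh1
    refine ⟨fun hc => hh1 (hbot h ?_ hh), h, hh, hh1, ?_⟩
    · have : h = z⁻¹ * (z * h) := by group
      rw [this]
      exact (Subgroup.center G).mul_mem ((Subgroup.center G).inv_mem hz) hc
    · rw [← mul_assoc, ← hcen z hz h]
  · intro m hm hmZ hmD h hh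
    have hmem : ∀ k : H, m⁻¹ * (k : G)⁻¹ * m * k ∈ H := by
      intro k
      have hm' := (Subgroup.normalizer (H : Set G)).inv_mem hm
      have h1 := (Subgroup.mem_normalizer_iff.mp hm' (k : G)⁻¹).mp (H.inv_mem k.2)
      rw [inv_inv] at h1
      exact H.mul_mem h1 k.2
    let φ : H → H := fun k => ⟨m⁻¹ * (k : G)⁻¹ * m * k, hmem k⟩
    have hφ : Function.Injective φ := by
      intro k k' hkk
      have h1 : m⁻¹ * (k : G)⁻¹ * m * k = m⁻¹ * (k' : G)⁻¹ * m * k' := congrArg Subtype.val hkk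
      have e1 : (k : G)⁻¹ * m * k = (k' : G)⁻¹ * m * k' := by
        have := congrArg (fun t => m * t) h1
        simpa [mul_assoc] using this
      have h2 : ((k' : G) * (k : G)⁻¹) * m = m * ((k' : G) * (k : G)⁻¹) := by
        calc (k' : G) * (k : G)⁻¹ * m = (k' : G) * ((k : G)⁻¹ * m * k) * (k : G)⁻¹ := by group
          _ = (k' : G) * ((k' : G)⁻¹ * m * k') * (k : G)⁻¹ := by rw [e1]
          _ = m * ((k' : G) * (k : G)⁻¹) := by group
      have ht : (k' : G) * (k : G)⁻¹ = 1 := by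
        by_contra hne
        exact hmD ⟨hmZ, (k' : G) * (k : G)⁻¹, H.mul_mem k'.2 (H.inv_mem k.2), hne, h2⟩
      apply Subtype.ext
      have : (k' : G) = k := by
        have := congrArg (fun t => t * (k : G)) ht
        simpa using this
      exact this.symm
    obtain ⟨k, hk⟩ := Finite.injective_iff_surjective.mp hφ ⟨h, hh⟩
    have hk' : m⁻¹ * (k : G)⁻¹ * m * k = h := congrArg Subtype.val hk
    refine ⟨k, ?_⟩
    rw [← hk']
    group

end Core

end Cfsg.Agent.Lib.H8
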