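import Cfsg.Agent.S0898
import Cfsg.Agent.S4468
import Cfsg.Agent.Lib.L0.TransferHall
import Cfsg.Agent.Lib.H8.CAGroupD
import Cfsg.Agent.Lib.L0.CharBasic

/-!
# The Feit-Thompson reduction for linear groups of small degree (helper8)

A minimal group `G` with a non-normal Sylow `p`-subgroup `P` and a faithful character of degree
`n < p - 1`: `P` is abelian, `G` is perfect (Ito for `p`-solvable groups), `P ∩ Z(G) = 1` (transfer),
distinct Sylow `p`-subgroups meet trivially, and the Feit-Thompson degree bound gives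
`|P| < (1 + n)²`.
-/

set_option autoImplicit false

namespace Cfsg.Agent.Lib.H8.FTReduce

open Cfsg
open scoped commutatorElement

universe u

section group

variable {G : Type u} [Group G] [Finite G] {p : ℕ} [hp : Fact p.Prime]

/-- A normal Sylow subgroup of a normal subgroup is normal in the whole group. -/
theorem normal_map_of_sylow_normal (N : Subgroup G) [N.Normal] (Q : Sylow p N)
    (hQ : (Q : Subgroup N).Normal) : ((Q : Subgroup N).map N.subtype).Normal := by
  haveI := Sylow.characteristic_of_normal Q hQ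
  exact ConjAct.normal_of_characteristic_of_normal

/-- A Sylow subgroup of `G` that is normal in a normal subgroup containing it is normal. -/
theorem sylow_normal_of_le_normal (P : Sylow p G) (M : Subgroup G) [M.Normal]
    (hPM : (P : Subgroup G) ≤ M)
    (h : ((P.subtype hPM : Sylow p M) : Subgroup M).Normal) : (P : Subgroup G).Normal := by
  have := normal_map_of_sylow_normal M (P.subtype hPM) h
  rwa [Sylow.coe_subtype, Subgroup.map_subgroupOf_eq_of_le hPM] at this

/-- The inductive hypothesis: every proper subgroup has normal Sylow `p`-subgroups. -/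
def MinHyp (p : ℕ) (G : Type u) [Group G] : Prop :=
  ∀ K : Subgroup G, K ≠ ⊤ → ∀ Q : Sylow p K, (Q : Subgroup K).Normal

/-- Two Sylow subgroups inside a proper subgroup coincide. -/
theorem eq_of_le_proper (IH : MinHyp p G) (C : Subgroup G) (hC : C ≠ ⊤) (Q₁ Q₂ : Sylow p G)
    (h₁ : (Q₁ : Subgroup G) ≤ C) (h₂ : (Q₂ : Subgroup G) ≤ C) : Q₁ = Q₂ := by
  have hn := IH C hC (Q₁.subtype h₁)
  haveI := Sylow.unique_of_normal (Q₁.subtype h₁) hn
  exact Sylow.subtype_injective (Subsingleton.elim (Q₁.subtype h₁) (Q₂.subtype h₂))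

/-- Trivial intersection of distinct Sylow subgroups in the minimal situation. -/
theorem sylow_ti (IH : MinHyp p G)
    (hab : ∀ Q : Sylow p G, ∀ x ∈ (Q : Subgroup G), ∀ y ∈ (Q : Subgroup G), x * y = y * x)
    (hZ : ∀ Q : Sylow p G, (Q : Subgroup G) ⊓ Subgroup.center G = ⊥)
    (Q₁ Q₂ : Sylow p G) (hne : (Q₁ : Subgroup G) ⊓ Q₂ ≠ ⊥) : Q₁ = Q₂ := by
  set D : Subgroup G := (Q₁ : Subgroup G) ⊓ Q₂ with hD
  by_cases hC : Subgroup.centralizer (D : Set G) = ⊤
  · exfalso
    apply hne
    rw [eq_bot_iff, ← hZ Q₁]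
    intro d hd
    refine ⟨hd.1, ?_⟩
    show d ∈ Subgroup.center G
    rw [Subgroup.mem_center_iff]
    intro g
    have hg : g ∈ Subgroup.centralizer (D : Set G) := by rw [hC]; trivial
    exact (hg d hd).symm
  · refine eq_of_le_proper IH _ hC Q₁ Q₂ ?_ ?_
    · intro x hx d hd
      exact hab Q₁ d hd.1 x hx
    · intro x hx d hd
      exact hab Q₂ d hd.2 x hx

/-- The centralizer condition of the Feit-Thompson bound. -/
theorem sylow_cent (IH : MinHyp p G)
    (hab : ∀ Q : Sylow p G, ∀ x ∈ (Q : Subgroup G), ∀ y ∈ (Q : Subgroup G), x * y = y * x)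
    (hZ : ∀ Q : Sylow p G, (Q : Subgroup G) ⊓ Subgroup.center G = ⊥)
    (g : G) (hg : g ∉ Subgroup.center G) (Q₁ Q₂ : Sylow p G)
    (h₁ : Subgroup.centralizer ({g} : Set G) ⊓ (Q₁ : Subgroup G) ≠ ⊥)
    (h₂ : Subgroup.centralizer ({g} : Set G) ⊓ (Q₂ : Subgroup G) ≠ ⊥) : Q₁ = Q₂ := by
  set C : Subgroup G := Subgroup.centralizer ({g} : Set G) with hCdef
  have hC : C ≠ ⊤ := by
    intro h
    apply hg
    rw [Subgroup.mem_center_iff]
    intro x
    have hx : x ∈ C := by rw [h]; trivial
    exact (hx g rfl).symm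
  obtain ⟨S₀⟩ : Nonempty (Sylow p C) := inferInstance
  have hn := IH C hC S₀
  haveI := Sylow.unique_of_normal S₀ hn
  have hpS : IsPGroup p ((S₀ : Subgroup C).map C.subtype) := S₀.isPGroup'.map _
  obtain ⟨R, hR⟩ := hpS.exists_le_sylow
  have key : ∀ Q : Sylow p G, C ⊓ (Q : Subgroup G) ≠ ⊥ → Q = R := by
    intro Q hQ
    apply sylow_ti IH hab hZ
    intro hbot
    apply hQ
    rw [eq_bot_iff, ← hbot]
    intro x hx
    refine ⟨hx.2, hR ?_⟩
    have hpX : IsPGroup p ((C ⊓ (Q : Subgroup G)).subgroupOf C) :=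
      (Q.isPGroup'.to_le inf_le_right).comap_subtype
    obtain ⟨S₁, hS₁⟩ := hpX.exists_le_sylow
    rw [Subsingleton.elim S₁ S₀] at hS₁
    exact ⟨⟨x, hx.1⟩, hS₁ (Subgroup.mem_subgroupOf.mpr hx), rfl⟩
  rw [key Q₁ h₁, key Q₂ h₂]

/-- In the minimal situation a non-perfect group is `p`-solvable. -/
theorem isPSolvable_of_not_perfect (IH : MinHyp p G) (hN : commutator G ≠ ⊤) :
    IsPSolvable p G := by
  set N : Subgroup G := commutator G with hNdef
  haveI hNn : N.Normal := by rw [hNdef]; infer_instance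
  obtain ⟨Q⟩ : Nonempty (Sylow p N) := inferInstance
  obtain ⟨P⟩ : Nonempty (Sylow p G) := inferInstance
  have hQn := IH N hN Q
  set P₁ : Subgroup G := (Q : Subgroup N).map N.subtype with hP₁
  have hP₁n : P₁.Normal := normal_map_of_sylow_normal N Q hQn
  have hP₁N : P₁ ≤ N := Subgroup.map_subtype_le _
  have hAn : ((P : Subgroup G) ⊔ N).Normal := by
    refine ⟨fun a ha g => ?_⟩
    have h1 : g * a * g⁻¹ * a⁻¹ ∈ N := by
      have h2 : ⁅g, a⁆ ∈ commutator G :=
        Subgroup.commutator_mem_commutator (Subgroup.mem_top g) (Subgroup.mem_top a)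
      rwa [commutatorElement_def] at h2
    have h3 : g * a * g⁻¹ = (g * a * g⁻¹ * a⁻¹) * a := by group
    rw [h3]
    exact mul_mem ((le_sup_right : N ≤ (P : Subgroup G) ⊔ N) h1) ha
  have hcopP : (P : Subgroup G).index.Coprime p :=
    ((Nat.Prime.coprime_iff_not_dvd hp.out).mpr P.not_dvd_index).symm
  refine ⟨4, ![⊥, P₁, N, (P : Subgroup G) ⊔ N, ⊤], rfl, rfl, ?_, ?_, ?_⟩
  · rw [Fin.monotone_iff_le_succ]
    intro i
    fin_cases i
    · exact bot_le
    · exact hP₁N
    · exact le_sup_right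
    · exact le_top
  · intro i
    fin_cases i
    · exact Subgroup.normal_bot
    · exact hP₁n
    · exact hNn
    · exact hAn
    · exact Subgroup.normal_top
  · intro i
    fin_cases i
    · left
      show ∃ m : ℕ, (⊥ : Subgroup G).relIndex P₁ = p ^ m
      rw [Subgroup.relIndex_bot_left]
      exact (Q.isPGroup'.map N.subtype).exists_card_eq
    · right
      show (P₁.relIndex N).Coprime p
      have h1 : P₁.subgroupOf N = (Q : Subgroup N) := by
        rw [hP₁]
        exact Subgroup.comap_map_eq_self_of_injective N.subtype_injective _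
      rw [Subgroup.relIndex, h1]
      exact ((Nat.Prime.coprime_iff_not_dvd hp.out).mpr Q.not_dvd_index).symm
    · left
      show ∃ m : ℕ, N.relIndex ((P : Subgroup G) ⊔ N) = p ^ m
      rw [Subgroup.relIndex_sup_right]
      obtain ⟨k, hk⟩ := P.isPGroup'.exists_card_eq
      have h1 : N.relIndex (P : Subgroup G) ∣ p ^ k := by
        rw [← hk]; exact Subgroup.relIndex_dvd_card _ _
      obtain ⟨m, _, hm⟩ := (Nat.dvd_prime_pow hp.out).mp h1
      exact ⟨m, hm⟩
    · right
      show (((P : Subgroup G) ⊔ N).relIndex ⊤).Coprime p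
      rw [Subgroup.relIndex_top_right]
      exact Nat.Coprime.coprime_dvd_left (Subgroup.index_dvd_of_le le_sup_left) hcopP

end group

section chars

variable {G : Type u} [Group G] [Finite G] {p : ℕ} [hp : Fact p.Prime]

/-- The degree of an irreducible constituent is at most the degree of the character. -/
theorem constituent_degree_le [Fintype G] (χ : G → ℂ) (hχ : IsCharacter G χ) (n : ℕ)
    (hn : χ 1 = n) (η : IrrCharacter G) (hη : classInner χ (η : G → ℂ) ≠ 0) (d : ℕ)
    (hd : (η : G → ℂ) 1 = d) : d ≤ n := by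
  classical
  haveI := Fintype.ofFinite (IrrCharacter G)
  obtain ⟨m, hm, hsum⟩ := Cfsg.Agent.Lib.H8.char_one_eq_sum χ hχ
  have hmη : m η ≠ 0 := by
    intro h0
    apply hη
    rw [hm η, h0]
    simp
  have hdη : charDegree (η : G → ℂ) = d := by
    have h1 := Cfsg.Agent.Lib.H24.charDegree_irr η
    rw [hd] at h1
    exact_mod_cast h1
  have hnsum : n = ∑ ζ : IrrCharacter G, m ζ * charDegree (ζ : G → ℂ) := by
    have h1 : (n : ℂ) = ((∑ ζ : IrrCharacter G, m ζ * charDegree (ζ : G → ℂ) : ℕ) : ℂ) := by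
      rw [← hsum, hn]
    exact_mod_cast h1
  have h2 : m η * charDegree (η : G → ℂ) ≤ ∑ ζ : IrrCharacter G, m ζ * charDegree (ζ : G → ℂ) :=
    Finset.single_le_sum (f := fun ζ : IrrCharacter G => m ζ * charDegree (ζ : G → ℂ))
      (fun _ _ => Nat.zero_le _) (Finset.mem_univ η)
  rw [← hnsum, hdη] at h2
  have h3 : 1 ≤ m η := Nat.one_le_iff_ne_zero.mpr hmη
  nlinarith

/-- **The minimal configuration**: all proper subgroups have normal Sylow `p`-subgroups, `G` has a
faithful character of degree `n < p - 1` and a non-normal Sylow `p`-subgroup `P`.  Then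
`|P| < (1 + n)²`. -/
theorem card_lt_of_min (χ : G → ℂ) (hχ : IsCharacter G χ) (hfaith : ∀ g : G, χ g = χ 1 → g = 1)
    (n : ℕ) (hn : χ 1 = n) (hnp : n + 1 < p) (IH : MinHyp p G) (P : Sylow p G)
    (hP : ¬ (P : Subgroup G).Normal) : (Nat.card (P : Subgroup G) : ℝ) < (1 + (n : ℝ)) ^ 2 := by
  classical
  haveI := Fintype.ofFinite G
  haveI : Fintype (P : Subgroup G) := Fintype.ofFinite _
  have hab : ∀ Q : Sylow p G, ∀ x ∈ (Q : Subgroup G), ∀ y ∈ (Q : Subgroup G), x * y = y * x :=
    fun Q => Cfsg.Agent.Lib.H18.Ito.abelian_of_faithful_small p Q Q.isPGroup' χ hχ hfaith n hn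
      (by omega)
  have hdeg : charDegree χ = n := by
    unfold charDegree
    rw [hn]
    simp
  have hns : ¬ IsPSolvable p G := by
    intro hs
    have := (Cfsg.Agent.S4468.result χ hχ hfaith n hdeg p hp.out hs (by omega) P hP).1
    omega
  have hperf : commutator G = ⊤ := by
    by_contra h
    exact hns (isPSolvable_of_not_perfect IH h)
  have hZ : ∀ Q : Sylow p G, (Q : Subgroup G) ⊓ Subgroup.center G = ⊥ := by
    intro Q
    have hc : IsMulCommutative (Q : Subgroup G) :=
      ⟨⟨fun a b => Subtype.ext (hab Q a a.2 b b.2)⟩⟩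
    have := Cfsg.Agent.Lib.L0.hall_inf_commutator_inf_center (Q : Subgroup G) hc
      Q.card_coprime_index
    rwa [hperf, inf_top_eq] at this
  -- `P` is nontrivial
  have hPne : (P : Subgroup G) ≠ ⊥ := by
    intro h
    apply hP
    rw [h]
    infer_instance
  obtain ⟨⟨h, hhP⟩, hh1⟩ := (Subgroup.ne_bot_iff_exists_ne_one.mp hPne)
  have hh1' : h ≠ 1 := fun e => hh1 (Subtype.ext e)
  have hχh : χ h ≠ χ 1 := fun e => hh1' (hfaith h e)
  obtain ⟨η, hη, hηh⟩ := Cfsg.Agent.Lib.H18.Leonard.exists_constituent_ne χ hχ h hχh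
  obtain ⟨d, hd0, hd⟩ := Cfsg.Agent.Lib.H24.irr_one_eq η
  have hdn : d ≤ n := constituent_degree_le χ hχ n hn η hη d hd
  have hη1 : (η : G → ℂ) 1 ≠ 1 := by
    intro h1
    have := Cfsg.Agent.Lib.H8.linear_trivial_of_perfect hperf (η : G → ℂ) η.2 h1
    apply hηh
    rw [this]
    rfl
  have hmax : ∀ M : Subgroup G, M.Normal → (P : Subgroup G) ≤ M → M = ⊤ := by
    intro M hMn hPM
    by_contra hM
    exact hP (sylow_normal_of_le_normal P M hPM (IH M hM _))
  have hone : ∀ g : G, g ∉ Subgroup.center G → ∀ a b : G,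
      Subgroup.centralizer ({g} : Set G) ⊓ (P : Subgroup G).map (MulAut.conj a).toMonoidHom ≠ ⊥ →
      Subgroup.centralizer ({g} : Set G) ⊓ (P : Subgroup G).map (MulAut.conj b).toMonoidHom ≠ ⊥ →
      (P : Subgroup G).map (MulAut.conj a).toMonoidHom =
        (P : Subgroup G).map (MulAut.conj b).toMonoidHom := by
    intro g hg a b ha hb
    have := sylow_cent IH hab hZ g hg (a • P) (b • P) ha hb
    exact congrArg (fun Q : Sylow p G => (Q : Subgroup G)) this
  have hmain := (Cfsg.Agent.S0898.result (P : Subgroup G) (hab P) (hZ P) hone (η : G → ℂ) η.2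
    ⟨h, hhP, hηh⟩).2 hη1 hmax
  rw [hd] at hmain
  have h4 : ((d : ℂ)).re = (d : ℝ) := by simp
  rw [h4] at hmain
  have h5 : (d : ℝ) ≤ (n : ℝ) := by exact_mod_cast hdn
  have h6 : (0 : ℝ) ≤ (d : ℝ) := by positivity
  nlinarith

end chars

end Cfsg.Agent.Lib.H8.FTReduce
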