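import Mathlib

/-! S4923 farm-out, piece PREP (helper8): an element of a Sylow 2-subgroup `P` of order `2^n`
with even class size satisfies `g ^ 2^(n-1) = 1` (otherwise `P = ⟨g⟩ ≤ C_G(g)`). -/

set_option autoImplicit false

namespace Cfsg.Agent.Lib.H8.FV

/-- **PREP** (even class size forces `P` non-cyclic). Mathlib only. -/
theorem pow_eq_one_of_even_index {G : Type*} [Group G] [Finite G] (P : Sylow 2 G) (n : ℕ)
    (hn : 1 ≤ n) (hP : Nat.card P = 2 ^ n) (g : G) (hgP : g ∈ (P : Subgroup G))
    (hidx : 2 ∣ (Subgroup.centralizer ({g} : Set G)).index) : g ^ 2 ^ (n - 1) = 1 := by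
  classical
  haveI : Fact (Nat.Prime 2) := ⟨Nat.prime_two⟩
  by_contra hne
  -- order of g is a power of two dividing 2^n
  have hord : orderOf g ∣ 2 ^ n := by
    have h1 : orderOf (⟨g, hgP⟩ : (P : Subgroup G)) ∣ Nat.card (P : Subgroup G) :=
      orderOf_dvd_natCard _
    rw [hP] at h1
    have h2 : orderOf (⟨g, hgP⟩ : (P : Subgroup G)) = orderOf g := by
      rw [← Subgroup.orderOf_coe]
    rwa [h2] at h1
  obtain ⟨k, hk, hok⟩ := (Nat.dvd_prime_pow Nat.prime_two).1 hord
  have hkn : k = n := by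
    by_contra hkn
    have hk' : k ≤ n - 1 := by omega
    apply hne
    rw [← orderOf_dvd_iff_pow_eq_one, hok]
    exact pow_dvd_pow 2 hk'
  subst hkn
  -- zpowers g = P
  have hzle : Subgroup.zpowers g ≤ (P : Subgroup G) := by
    rw [Subgroup.zpowers_le]; exact hgP
  have hzeq : Subgroup.zpowers g = (P : Subgroup G) := by
    apply Subgroup.eq_of_le_of_card_ge hzle
    rw [Nat.card_zpowers, hok]
    exact le_of_eq hP
  -- P ≤ centralizer {g}
  have hPle : (P : Subgroup G) ≤ Subgroup.centralizer ({g} : Set G) := by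
    rw [← hzeq]
    intro x hx
    rw [Subgroup.mem_zpowers_iff] at hx
    obtain ⟨j, rfl⟩ := hx
    rw [Subgroup.mem_centralizer_iff]
    intro y hy
    rw [Set.mem_singleton_iff] at hy
    subst hy
    exact (Commute.zpow_right (Commute.refl y) j).eq
  have hdvd : (Subgroup.centralizer ({g} : Set G)).index ∣ (P : Subgroup G).index :=
    Subgroup.index_dvd_of_le hPle
  exact P.not_dvd_index (hidx.trans hdvd)

end Cfsg.Agent.Lib.H8.FV
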