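import Mathlib
import Cfsg.Agent.Lib.H8.StarLemma
import Cfsg.Agent.Lib.H8.GenChar
import Cfsg.Agent.Lib.H8.SignedIrr
import Cfsg.Agent.Lib.H8.LinearDual
import Cfsg.Agent.S1510

/-!
# Tools for the characters of a group `L = K ⋊ W₁` with `W₂ = C_K(x)` for all `x ∈ W₁#`
(helper8 library)
-/

set_option autoImplicit false
open Cfsg
open scoped ComplexConjugate

namespace Cfsg.Agent.Lib.H8

open Cfsg.Agent.Lib.L0

/-- group-theoretic consequences of the hypotheses: `W₁` and `W₂` commute, `W ∩ K = W₂`, and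
`W ∖ W₂` is a TI-set with normalizer `W`. -/
theorem typeP_ti {L : Type*} [Group L] [Finite L] (K W₁ W₂ : Subgroup L) [hK : K.Normal]
    (hKW₁ : K ⊓ W₁ = ⊥) (hKW₁' : K ⊔ W₁ = ⊤) (hHall : Nat.Coprime (Nat.card W₁) W₁.index)
    (hW₂K : W₂ ≤ K) (hW₁comm : ∀ a ∈ W₁, ∀ b ∈ W₁, a * b = b * a)
    (hC : ∀ x ∈ W₁, x ≠ 1 → K ⊓ Subgroup.centralizer ({x} : Set L) = W₂) :
    (∀ a ∈ W₁, ∀ b ∈ W₂, a * b = b * a) ∧ (∀ w ∈ W₁ ⊔ W₂, w ∈ K → w ∈ W₂) ∧
    (∀ w ∈ W₁ ⊔ W₂, w ∉ W₂ → ∀ g : L, g * w * g⁻¹ ∈ W₁ ⊔ W₂ → g ∈ W₁ ⊔ W₂) := by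
  have hcomm : ∀ a ∈ W₁, ∀ b ∈ W₂, a * b = b * a := by
    intro a ha b hb
    by_cases ha1 : a = 1
    · subst ha1; simp
    · have hb' : b ∈ K ⊓ Subgroup.centralizer ({a} : Set L) := by rw [hC a ha ha1]; exact hb
      have := Subgroup.mem_centralizer_iff.mp (Subgroup.mem_inf.mp hb').2 a rfl
      exact this
  have hcardK : Nat.card K = W₁.index := by
    have h1 : K.relIndex (K ⊔ W₁) = K.relIndex W₁ := Subgroup.relIndex_sup_left W₁ K
    rw [hKW₁', Subgroup.relIndex_top_right, ← Subgroup.inf_relIndex_right, hKW₁,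
      Subgroup.relIndex_bot_left] at h1
    have h2 := Subgroup.index_mul_card K
    have h3 := Subgroup.index_mul_card W₁
    rw [h1] at h2
    have hpos : 0 < Nat.card W₁ := Nat.card_pos
    apply Nat.eq_of_mul_eq_mul_left hpos
    rw [h2, ← h3, mul_comm]
  have hcop : Nat.Coprime (Nat.card W₁) (Nat.card W₂) := by
    apply Nat.Coprime.coprime_dvd_right _ hHall
    rw [← hcardK]
    exact Subgroup.card_dvd_of_le hW₂K
  obtain ⟨e₁, he₁1, he₁0⟩ := Nat.chineseRemainder hcop 1 0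
  refine ⟨hcomm, ?_, ?_⟩
  · intro w hw hwK
    obtain ⟨a, ha, b, hb, rfl⟩ := Cfsg.Agent.S1510.exists_mul_of_mem_sup W₁ W₂ hcomm hw
    have haK : a ∈ K := by
      have : a = a * b * b⁻¹ := by group
      rw [this]
      exact K.mul_mem hwK (K.inv_mem (hW₂K hb))
    have ha1 : a = 1 := by
      have : a ∈ K ⊓ W₁ := ⟨haK, ha⟩
      rw [hKW₁] at this
      exact Subgroup.mem_bot.mp this
    rw [ha1, one_mul]; exact hb
  · intro y hyW hy₂ g hgyW
    obtain ⟨a, ha, b, hb, hyab⟩ := Cfsg.Agent.S1510.exists_mul_of_mem_sup W₁ W₂ hcomm hyW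
    have ha1 : a ≠ 1 := by
      rintro rfl
      apply hy₂
      rw [hyab, one_mul]; exact hb
    obtain ⟨a', ha', b', hb', hy'ab⟩ := Cfsg.Agent.S1510.exists_mul_of_mem_sup W₁ W₂ hcomm hgyW
    have hgtop : g ∈ K ⊔ W₁ := by rw [hKW₁']; exact Subgroup.mem_top g
    obtain ⟨k, hk, w, hw, rfl⟩ := Subgroup.mem_sup_of_normal_left.mp hgtop
    -- `w` commutes with `a`
    have hye : y ^ e₁ = a := by
      rw [hyab, Commute.mul_pow (show Commute a b from hcomm a ha b hb),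
        Cfsg.Agent.S1510.pow_eq_self_of_modEq (Cfsg.Agent.S1510.pow_card_of_mem W₁ ha) he₁1,
        Cfsg.Agent.S1510.pow_eq_one_of_modEq (Cfsg.Agent.S1510.pow_card_of_mem W₂ hb) he₁0,
        mul_one]
    have hy'e : (a' * b') ^ e₁ = a' := by
      rw [Commute.mul_pow (show Commute a' b' from hcomm a' ha' b' hb'),
        Cfsg.Agent.S1510.pow_eq_self_of_modEq (Cfsg.Agent.S1510.pow_card_of_mem W₁ ha') he₁1,
        Cfsg.Agent.S1510.pow_eq_one_of_modEq (Cfsg.Agent.S1510.pow_card_of_mem W₂ hb') he₁0,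
        mul_one]
    have hgag : k * w * a * (k * w)⁻¹ = a' := by
      rw [← hye, ← hy'e, ← hy'ab, conj_pow]
    have hka : k * a * k⁻¹ = a' := by
      rw [← hgag]
      have : k * w * a * (k * w)⁻¹ = k * (w * a * w⁻¹) * k⁻¹ := by group
      rw [this, hW₁comm w hw a ha]
      group
    have hmemK : a' * a⁻¹ ∈ K := by
      rw [← hka]
      have : k * a * k⁻¹ * a⁻¹ = k * (a * k⁻¹ * a⁻¹) := by group
      rw [this]
      exact K.mul_mem hk (hK.conj_mem _ (K.inv_mem hk) a)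
    have hmemW : a' * a⁻¹ ∈ W₁ := W₁.mul_mem ha' (W₁.inv_mem ha)
    have h1 : a' * a⁻¹ = 1 := by
      have : a' * a⁻¹ ∈ K ⊓ W₁ := Subgroup.mem_inf.mpr ⟨hmemK, hmemW⟩
      rw [hKW₁] at this
      exact Subgroup.mem_bot.mp this
    have haa' : a' = a := mul_inv_eq_one.mp h1
    have hkW₂ : k ∈ W₂ := by
      rw [← hC a ha ha1]
      refine Subgroup.mem_inf.mpr ⟨hk, ?_⟩
      rw [Subgroup.mem_centralizer_iff]
      intro u hu
      rw [Set.mem_singleton_iff] at hu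
      subst hu
      rw [haa'] at hka
      calc u * k = (k * u * k⁻¹) * k := by rw [hka]
        _ = k * u := by group
    exact (W₁ ⊔ W₂).mul_mem (Subgroup.mem_sup_right hkW₂) (Subgroup.mem_sup_left hw)

/-- a generalized character of norm two vanishing at `1` is a difference of two distinct
irreducible characters -/
theorem genChar_norm_two_degree_zero {X : Type*} [Group X] [Fintype X] {θ : X → ℂ}
    (hθ : Cfsg.IsGeneralizedCharacter X θ) (h2 : Cfsg.classInner θ θ = 2) (h1 : θ 1 = 0) :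
    ∃ a b : X → ℂ, Cfsg.IsIrrCharacter X a ∧ Cfsg.IsIrrCharacter X b ∧ a ≠ b ∧ θ = a - b := by
  obtain ⟨α, β, hα, hβ, horth, rfl⟩ := genChar_norm_two hθ h2
  have hdeg : ∀ γ : X → ℂ, Cfsg.IsIrrCharacter X γ → ∃ n : ℕ, n ≠ 0 ∧ γ 1 = n := by
    intro γ hγ
    obtain ⟨n, hn⟩ := isCharacter_apply_one (isCharacter_of_irr hγ)
    refine ⟨n, ?_, hn⟩
    rintro rfl
    exact signedIrr_apply_one_ne_zero (Or.inl hγ) (by rw [hn]; simp)
  have hne : ∀ a b : X → ℂ, Cfsg.IsIrrCharacter X a → Cfsg.classInner a b = 0 → a ≠ b := by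
    intro a b ha h0 hab
    rw [← hab, irr_classInner_self ha] at h0
    exact one_ne_zero h0
  rw [Pi.add_apply] at h1
  rcases hα with hα | hα <;> rcases hβ with hβ | hβ
  · exfalso
    obtain ⟨n, hn0, hn⟩ := hdeg α hα
    obtain ⟨m, hm0, hm⟩ := hdeg β hβ
    rw [hn, hm] at h1
    have : (n + m : ℕ) = 0 := by exact_mod_cast h1
    omega
  · refine ⟨α, -β, hα, hβ, hne α (-β) hα ?_, ?_⟩
    · rw [classInner_neg_right, horth, neg_zero]
    · funext x; simp [sub_eq_add_neg]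
  · refine ⟨β, -α, hβ, hα, hne β (-α) hβ ?_, ?_⟩
    · rw [classInner_neg_right, ← classInner_conj_symm, horth, map_zero, neg_zero]
    · funext x; simp [sub_eq_add_neg, add_comm]
  · exfalso
    obtain ⟨n, hn0, hn⟩ := hdeg (-α) hα
    obtain ⟨m, hm0, hm⟩ := hdeg (-β) hβ
    rw [Pi.neg_apply] at hn hm
    have e1 : α 1 = -(n : ℂ) := by rw [← hn]; ring
    have e2 : β 1 = -(m : ℂ) := by rw [← hm]; ring
    rw [e1, e2] at h1
    have : ((n + m : ℕ) : ℂ) = 0 := by push_cast; linear_combination -h1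
    have : (n + m : ℕ) = 0 := by exact_mod_cast this
    omega

/-- averaging over the linear characters trivial on `N`: a function on the dual group that is
constant on cosets of the annihilator of `N` is orthogonal to evaluation at `t ∉ N` -/
theorem sum_mul_eq_zero_of_fiber_const {T : Type*} [Group T] [Finite T] [Fintype (T →* ℂˣ)]
    (N : Subgroup T) [hN : N.Normal] (hab : ∀ x y : T, x * y * x⁻¹ * y⁻¹ ∈ N)
    (g : (T →* ℂˣ) → ℂ)
    (hg : ∀ ω f : T →* ℂˣ, (∀ n ∈ N, f n = 1) → g (ω * f) = g ω) {t : T} (ht : t ∉ N) :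
    ∑ ω : T →* ℂˣ, ((ω t : ℂˣ) : ℂ) * g ω = 0 := by
  classical
  obtain ⟨Λ, hΛtriv, hΛcard, -, hΛout⟩ := exists_linear_chars N hab
  have hshift : ∀ f ∈ Λ, ∑ ω : T →* ℂˣ, ((ω t : ℂˣ) : ℂ) * g ω
      = ((f t : ℂˣ) : ℂ) * ∑ ω : T →* ℂˣ, ((ω t : ℂˣ) : ℂ) * g ω := by
    intro f hf
    rw [Finset.mul_sum]
    apply Fintype.sum_equiv (Equiv.mulRight f⁻¹)
    intro ω
    simp only [Equiv.coe_mulRight]
    have h1 : g ω = g (ω * f⁻¹) := by
      have := hg (ω * f⁻¹) f (hΛtriv f hf)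
      have e : ω * f⁻¹ * f = ω := by
        ext x
        simp only [MonoidHom.mul_apply, MonoidHom.inv_apply, Units.val_mul]
        rw [mul_assoc, ← Units.val_mul, inv_mul_cancel, Units.val_one, mul_one]
      rw [e] at this
      exact this
    rw [h1, MonoidHom.mul_apply, MonoidHom.inv_apply, Units.val_mul]
    have h2 : ((f t : ℂˣ) : ℂ) * (((ω t : ℂˣ) : ℂ) * (((f t)⁻¹ : ℂˣ) : ℂ)) = ((ω t : ℂˣ) : ℂ) := by
      rw [mul_comm ((ω t : ℂˣ) : ℂ), ← mul_assoc, ← Units.val_mul, mul_inv_cancel, Units.val_one,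
        one_mul]
    rw [← mul_assoc, h2]
  have hsum : (Λ.card : ℂ) * ∑ ω : T →* ℂˣ, ((ω t : ℂˣ) : ℂ) * g ω
      = (∑ f ∈ Λ, ((f t : ℂˣ) : ℂ)) * ∑ ω : T →* ℂˣ, ((ω t : ℂˣ) : ℂ) * g ω := by
    rw [Finset.sum_mul, ← nsmul_eq_mul, ← Finset.sum_const]
    exact Finset.sum_congr rfl hshift
  rw [hΛout t ht, zero_mul] at hsum
  have hcard : (Λ.card : ℂ) ≠ 0 := by
    rw [hΛcard]
    exact Nat.cast_ne_zero.mpr Subgroup.index_ne_zero_of_finite
  exact (mul_eq_zero.mp hsum).resolve_left hcard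

end Cfsg.Agent.Lib.H8
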