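import Mathlib
import Cfsg.Agent.Lib.H8.Coherence
import Cfsg.Agent.Lib.H8.GenChar
import Cfsg.Agent.Lib.H8.SignedIrr
import Cfsg.Agent.Lib.H8.TypePChars
import Cfsg.Agent.Lib.L0.CharBasic
import Cfsg.Agent.Lib.L0.CharOps
import Cfsg.Agent.Lib.L0.CharInner

/-!
# Feit-style coherence: extending a coherent set of irreducible characters one character at a time
(helper8's library)

`S` is a set of irreducible characters of `L`, `τ` a linear isometry on the integer combinations of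
`S` vanishing at `1` with values vanishing at `1`.  `FCoh S τ T Y` says that the finite subset
`T ⊆ S` is coherent with the orthonormal images `Y ξ` (`ξ ∈ T`).
-/

set_option autoImplicit false

namespace Cfsg.Agent.Lib.H8

open Cfsg Cfsg.Agent.Lib.L0
open scoped ComplexConjugate
open Classical

section
variable {L : Type*} [Group L] [Fintype L] {G : Type*} [Group G] [Fintype G]

/-- A Feit system: irreducible characters with degrees `d`, and a linear isometry `τ` on the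
degree-zero lattice with values vanishing at `1`. -/
structure FeitSys (S : Set (L → ℂ)) (τ : (L → ℂ) → (G → ℂ)) (d : (L → ℂ) → ℕ) : Prop where
  irr : ∀ χ ∈ S, IsIrrCharacter L χ
  isometry : IsLinearIsometryOn (zspanOn S ({1}ᶜ : Set L)) τ
  map_one : ∀ α ∈ zspanOn S ({1}ᶜ : Set L), τ α 1 = 0
  deg : ∀ χ ∈ S, χ 1 = (d χ : ℂ)

/-- Coherence data on the finite subset `T`. -/
structure FCoh (S : Set (L → ℂ)) (τ : (L → ℂ) → (G → ℂ)) (T : Finset (L → ℂ))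
    (Y : (L → ℂ) → (G → ℂ)) : Prop where
  sub : (↑T : Set (L → ℂ)) ⊆ S
  gen : ∀ ξ ∈ T, IsGeneralizedCharacter G (Y ξ)
  orth : ∀ ξ ∈ T, ∀ η ∈ T, classInner (Y ξ) (Y η) = if ξ = η then 1 else 0
  agree : ∀ α ∈ zspanOn (↑T : Set (L → ℂ)) ({1}ᶜ : Set L), extendIso T Y α = τ α

variable {S : Set (L → ℂ)} {τ : (L → ℂ) → (G → ℂ)} {d : (L → ℂ) → ℕ}

namespace FeitSys

theorem inner (hS : FeitSys S τ d) {ξ η : L → ℂ} (hξ : ξ ∈ S) (hη : η ∈ S) :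
    classInner ξ η = if ξ = η then 1 else 0 :=
  irr_classInner_eq (hS.irr ξ hξ) (hS.irr η hη)

theorem deg_ne_zero (hS : FeitSys S τ d) {ξ : L → ℂ} (hξ : ξ ∈ S) : d ξ ≠ 0 := by
  intro h
  have h1 := hS.deg ξ hξ
  rw [h, Nat.cast_zero] at h1
  exact signedIrr_apply_one_ne_zero (Or.inl (hS.irr ξ hξ)) h1

theorem hne (hS : FeitSys S τ d) {T : Finset (L → ℂ)} (hT : (↑T : Set (L → ℂ)) ⊆ S) :
    ∀ ξ ∈ T, classInner ξ ξ ≠ 0 := by
  intro ξ hξ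
  rw [hS.inner (hT hξ) (hT hξ), if_pos rfl]
  exact one_ne_zero

theorem horth (hS : FeitSys S τ d) {T : Finset (L → ℂ)} (hT : (↑T : Set (L → ℂ)) ⊆ S) :
    ∀ ξ ∈ T, ∀ η ∈ T, ξ ≠ η → classInner ξ η = 0 := by
  intro ξ hξ η hη hne
  rw [hS.inner (hT hξ) (hT hη), if_neg hne]

theorem iso_mono (hS : FeitSys S τ d) {T : Set (L → ℂ)} (hT : T ⊆ S) :
    IsLinearIsometryOn (zspanOn T ({1}ᶜ : Set L)) τ :=
  lio_mono hS.isometry (zspanOn_mono hT _)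

/-- `ξ - l • χ₁` has degree zero when `d ξ = l * d χ₁`. -/
theorem sub_smul_mem (hS : FeitSys S τ d) {T : Set (L → ℂ)} (hT : T ⊆ S) {ξ χ₁ : L → ℂ}
    (hξ : ξ ∈ T) (hχ₁ : χ₁ ∈ T) {l : ℕ} (hl : d ξ = l * d χ₁) :
    ξ - (l : ℤ) • χ₁ ∈ zspanOn T ({1}ᶜ : Set L) := by
  rw [mem_zspanOn_compl_one]
  refine ⟨sub_mem_zspan (subset_zspan _ hξ) (zsmul_mem_zspan (subset_zspan _ hχ₁) _), ?_⟩
  rw [Pi.sub_apply, Pi.smul_apply, hS.deg ξ (hT hξ), hS.deg χ₁ (hT hχ₁), hl, zsmul_eq_mul]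
  push_cast; ring

/-- `d χ₁ • ξ - d ξ • χ₁` has degree zero. -/
theorem base_mem (hS : FeitSys S τ d) {T : Set (L → ℂ)} (hT : T ⊆ S) {ξ χ₁ : L → ℂ}
    (hξ : ξ ∈ T) (hχ₁ : χ₁ ∈ T) :
    (d χ₁ : ℤ) • ξ - (d ξ : ℤ) • χ₁ ∈ zspanOn T ({1}ᶜ : Set L) := by
  rw [mem_zspanOn_compl_one]
  refine ⟨sub_mem_zspan (zsmul_mem_zspan (subset_zspan _ hξ) _)
    (zsmul_mem_zspan (subset_zspan _ hχ₁) _), ?_⟩
  rw [Pi.sub_apply, Pi.smul_apply, Pi.smul_apply, hS.deg ξ (hT hξ), hS.deg χ₁ (hT hχ₁),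
    zsmul_eq_mul, zsmul_eq_mul]
  push_cast; ring

end FeitSys

/-- Building coherence data from the base identities relative to `χ₁`. -/
theorem fcoh_of_base (hS : FeitSys S τ d) {T : Finset (L → ℂ)} {Y : (L → ℂ) → (G → ℂ)}
    (hT : (↑T : Set (L → ℂ)) ⊆ S) (hgen : ∀ ξ ∈ T, IsGeneralizedCharacter G (Y ξ))
    (horth : ∀ ξ ∈ T, ∀ η ∈ T, classInner (Y ξ) (Y η) = if ξ = η then 1 else 0)
    {χ₁ : L → ℂ} (hχ₁ : χ₁ ∈ T)
    (hbase : ∀ ξ ∈ T, τ ((d χ₁ : ℤ) • ξ - (d ξ : ℤ) • χ₁) = (d χ₁ : ℤ) • Y ξ - (d ξ : ℤ) • Y χ₁) :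
    FCoh S τ T Y :=
  ⟨hT, hgen, horth, extendIso_eq_of_base T (hS.hne hT) (hS.horth hT) Y (hS.iso_mono hT) d
    (fun ξ hξ => hS.deg ξ (hT hξ)) hχ₁ (hS.deg_ne_zero (hT hχ₁)) hbase⟩

namespace FCoh

variable {T : Finset (L → ℂ)} {Y : (L → ℂ) → (G → ℂ)}

theorem extend_sub_smul (hS : FeitSys S τ d) (hc : FCoh S τ T Y) {ξ χ₁ : L → ℂ} (hξ : ξ ∈ T)
    (hχ₁ : χ₁ ∈ T) (m n : ℤ) :
    extendIso T Y (m • ξ - n • χ₁) = m • Y ξ - n • Y χ₁ := by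
  rw [sub_eq_add_neg, ← neg_smul, extendIso_add, extendIso_zsmul, extendIso_zsmul,
    extendIso_apply_mem T (hS.hne hc.sub) (hS.horth hc.sub) Y hξ,
    extendIso_apply_mem T (hS.hne hc.sub) (hS.horth hc.sub) Y hχ₁, neg_smul, ← sub_eq_add_neg]

/-- The base identity. -/
theorem base (hS : FeitSys S τ d) (hc : FCoh S τ T Y) {ξ χ₁ : L → ℂ} (hξ : ξ ∈ T)
    (hχ₁ : χ₁ ∈ T) :
    τ ((d χ₁ : ℤ) • ξ - (d ξ : ℤ) • χ₁) = (d χ₁ : ℤ) • Y ξ - (d ξ : ℤ) • Y χ₁ := by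
  rw [← hc.agree _ (hS.base_mem hc.sub hξ hχ₁), hc.extend_sub_smul hS hξ hχ₁]

theorem tau_sub_smul (hS : FeitSys S τ d) (hc : FCoh S τ T Y) {ξ χ₁ : L → ℂ} (hξ : ξ ∈ T)
    (hχ₁ : χ₁ ∈ T) {l : ℕ} (hl : d ξ = l * d χ₁) :
    τ (ξ - (l : ℤ) • χ₁) = Y ξ - (l : ℤ) • Y χ₁ := by
  have h := hc.extend_sub_smul hS hξ hχ₁ 1 (l : ℤ)
  rw [one_smul, one_smul] at h
  rw [← hc.agree _ (hS.sub_smul_mem hc.sub hξ hχ₁ hl), h]

theorem apply_one (hS : FeitSys S τ d) (hc : FCoh S τ T Y) {ξ χ₁ : L → ℂ} (hξ : ξ ∈ T)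
    (hχ₁ : χ₁ ∈ T) {l : ℕ} (hl : d ξ = l * d χ₁) : Y ξ 1 = (l : ℂ) * Y χ₁ 1 := by
  have h1 := hS.map_one _ (hS.sub_smul_mem (T := S) le_rfl (hc.sub hξ) (hc.sub hχ₁) hl)
  rw [hc.tau_sub_smul hS hξ hχ₁ hl, Pi.sub_apply, Pi.smul_apply, zsmul_eq_mul, sub_eq_zero] at h1
  rw [h1]; push_cast; rfl

theorem norm_one (hc : FCoh S τ T Y) {ξ : L → ℂ} (hξ : ξ ∈ T) : classInner (Y ξ) (Y ξ) = 1 := by
  rw [hc.orth ξ hξ ξ hξ, if_pos rfl]

theorem apply_one_ne_zero (hc : FCoh S τ T Y) {ξ : L → ℂ} (hξ : ξ ∈ T) : Y ξ 1 ≠ 0 :=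
  signedIrr_apply_one_ne_zero (genChar_norm_one (hc.gen ξ hξ) (hc.norm_one hξ))

theorem mono (hS : FeitSys S τ d) (hc : FCoh S τ T Y) {T' : Finset (L → ℂ)} (hT' : T' ⊆ T)
    {χ₁ : L → ℂ} (hχ₁ : χ₁ ∈ T') : FCoh S τ T' Y :=
  fcoh_of_base hS (fun ξ hξ => hc.sub (hT' hξ)) (fun ξ hξ => hc.gen ξ (hT' hξ))
    (fun ξ hξ η hη => hc.orth ξ (hT' hξ) η (hT' hη)) hχ₁
    (fun ξ hξ => hc.base hS (hT' hξ) (hT' hχ₁))

end FCoh

/-- A coherent finite set with at least two members is coherent in the sense of `IsCoherent`. -/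
theorem isCoherent_of_fcoh (hS : FeitSys S τ d) {T : Finset (L → ℂ)} {Y : (L → ℂ) → (G → ℂ)}
    (hc : FCoh S τ T Y) {χ₁ χ₂ : L → ℂ} (h1 : χ₁ ∈ T) (h2 : χ₂ ∈ T) (hne : χ₁ ≠ χ₂) :
    IsCoherent (↑T : Set (L → ℂ)) ({1}ᶜ : Set L) τ := by
  refine ⟨⟨(d χ₁ : ℤ) • χ₂ - (d χ₂ : ℤ) • χ₁, ?_, ?_⟩, extendIso T Y, ?_, hc.agree⟩
  · have := hS.base_mem (T := (↑T : Set (L → ℂ))) hc.sub (ξ := χ₂) (χ₁ := χ₁) h2 h1
    exact this
  · intro h0
    have h3 : classInner ((d χ₁ : ℤ) • χ₂ - (d χ₂ : ℤ) • χ₁) χ₂ = (d χ₁ : ℂ) := by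
      rw [classInner_sub_left, classInner_zsmul_left, classInner_zsmul_left,
        hS.inner (hc.sub h2) (hc.sub h2), hS.inner (hc.sub h1) (hc.sub h2), if_pos rfl, if_neg hne]
      push_cast; ring
    rw [h0] at h3
    have h4 : classInner (0 : L → ℂ) χ₂ = 0 := by
      have := classInner_zsmul_left 0 χ₂ χ₂
      simpa using this
    rw [h4] at h3
    have : (d χ₁ : ℂ) ≠ 0 := by exact_mod_cast hS.deg_ne_zero (hc.sub h1)
    exact this h3.symm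
  · apply isLinearIsometryOn_extendIso T (hS.hne hc.sub) (hS.horth hc.sub) Y
    · intro ξ hξ η hη
      rw [hc.orth ξ hξ η hη, hS.inner (hc.sub hξ) (hc.sub hη)]
    · exact hc.gen


/-- Two characters of the same degree form a coherent pair. -/
theorem fcoh_pair (hS : FeitSys S τ d) {χ₁ χ₂ : L → ℂ} (h1 : χ₁ ∈ S) (h2 : χ₂ ∈ S)
    (hne : χ₁ ≠ χ₂) (hd : d χ₂ = d χ₁) :
    ∃ Y : (L → ℂ) → (G → ℂ), FCoh S τ {χ₁, χ₂} Y := by
  have hβ : χ₂ - ((1 : ℕ) : ℤ) • χ₁ ∈ zspanOn S ({1}ᶜ : Set L) :=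
    hS.sub_smul_mem (T := S) le_rfl h2 h1 (by rw [hd, one_mul])
  rw [Nat.cast_one, one_smul] at hβ
  have hfg := lio_genChar hS.isometry hβ
  have hnorm : classInner (τ (χ₂ - χ₁)) (τ (χ₂ - χ₁)) = 2 := by
    rw [lio_inner hS.isometry hβ hβ]
    simp only [classInner_sub_left, classInner_sub_right]
    rw [hS.inner h2 h2, hS.inner h2 h1, hS.inner h1 h2, hS.inner h1 h1, if_pos rfl, if_pos rfl,
      if_neg hne, if_neg (Ne.symm hne)]
    norm_num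
  obtain ⟨a, b, ha, hb, hab, hf⟩ := genChar_norm_two_degree_zero hfg hnorm (hS.map_one _ hβ)
  have hT : (↑({χ₁, χ₂} : Finset (L → ℂ)) : Set (L → ℂ)) ⊆ S := by
    intro ξ hξ
    rcases Finset.mem_insert.mp (Finset.mem_coe.mp hξ) with h | h
    · rw [h]; exact h1
    · rw [Finset.mem_singleton.mp h]; exact h2
  refine ⟨fun ξ => if ξ = χ₁ then b else a, fcoh_of_base hS hT ?_ ?_ (χ₁ := χ₁)
    (Finset.mem_insert_self _ _) ?_⟩
  · intro ξ _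
    show IsGeneralizedCharacter G (if ξ = χ₁ then b else a)
    split_ifs
    · exact isGeneralizedCharacter_of_isCharacter (isCharacter_of_irr hb)
    · exact isGeneralizedCharacter_of_isCharacter (isCharacter_of_irr ha)
  · intro ξ hξ η hη
    show classInner (if ξ = χ₁ then b else a) (if η = χ₁ then b else a) = _
    have hξ' : ξ = χ₁ ∨ ξ = χ₂ := by
      rcases Finset.mem_insert.mp hξ with h | h
      · exact Or.inl h
      · exact Or.inr (Finset.mem_singleton.mp h)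
    have hη' : η = χ₁ ∨ η = χ₂ := by
      rcases Finset.mem_insert.mp hη with h | h
      · exact Or.inl h
      · exact Or.inr (Finset.mem_singleton.mp h)
    rcases hξ' with rfl | rfl <;> rcases hη' with rfl | rfl
    · rw [if_pos rfl, if_pos rfl, irr_classInner_self hb]
    · rw [if_pos rfl, if_neg (Ne.symm hne), if_neg hne, irr_classInner_ne hb ha (Ne.symm hab)]
    · rw [if_neg (Ne.symm hne), if_pos rfl, if_neg (Ne.symm hne), irr_classInner_ne ha hb hab]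
    · rw [if_neg (Ne.symm hne), if_pos rfl, irr_classInner_self ha]
  · intro ξ hξ
    show τ _ = (d χ₁ : ℤ) • (if ξ = χ₁ then b else a) - (d ξ : ℤ) • (if χ₁ = χ₁ then b else a)
    rw [if_pos rfl]
    rcases Finset.mem_insert.mp hξ with h | h
    · rw [h, if_pos rfl, sub_self, sub_self]
      exact lio_zero hS.isometry (isZClosed_zspanOn S _)
    · have h' := Finset.mem_singleton.mp h
      rw [h', if_neg (Ne.symm hne), hd, ← smul_sub, ← smul_sub, lio_zsmul hS.isometry hβ, hf]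

namespace FCoh

variable {T : Finset (L → ℂ)} {Y : (L → ℂ) → (G → ℂ)}

/-- Coefficients of `τ (ψ - lψ • χ₁)` along the `Y ξ`, `ξ ∈ T`. -/
theorem coeffs (hS : FeitSys S τ d) (hc : FCoh S τ T Y) {χ₁ ψ : L → ℂ} (hχ₁ : χ₁ ∈ T)
    (hψ : ψ ∈ S) (hψT : ψ ∉ T) (l : (L → ℂ) → ℕ) (hl : ∀ ξ ∈ T, d ξ = l ξ * d χ₁) (lψ : ℕ)
    (hlψ : d ψ = lψ * d χ₁) :
    ∃ a : ℤ, ∀ ξ ∈ T, classInner (τ (ψ - (lψ : ℤ) • χ₁)) (Y ξ) =
      (((l ξ : ℤ) * a - (if ξ = χ₁ then (lψ : ℤ) else 0) : ℤ) : ℂ) := by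
  have hβ : ψ - (lψ : ℤ) • χ₁ ∈ zspanOn S ({1}ᶜ : Set L) :=
    hS.sub_smul_mem (T := S) le_rfl hψ (hc.sub hχ₁) hlψ
  have hfg := lio_genChar hS.isometry hβ
  have hcint : ∀ ξ ∈ T, ∃ c : ℤ, classInner (τ (ψ - (lψ : ℤ) • χ₁)) (Y ξ) = (c : ℂ) :=
    fun ξ hξ => genChar_classInner_int hfg (hc.gen ξ hξ)
  choose! c hcdef using hcint
  have hψne : ∀ ξ ∈ T, ψ ≠ ξ := fun ξ hξ h => hψT (h ▸ hξ)
  have key : ∀ ξ ∈ T, c ξ - (l ξ : ℤ) * c χ₁ =
      (lψ : ℤ) * l ξ - (if ξ = χ₁ then (lψ : ℤ) else 0) := by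
    intro ξ hξ
    have hmem := hS.sub_smul_mem (T := S) le_rfl (hc.sub hξ) (hc.sub hχ₁) (hl ξ hξ)
    have h1 := lio_inner hS.isometry hβ hmem
    rw [hc.tau_sub_smul hS hξ hχ₁ (hl ξ hξ), classInner_sub_right, classInner_zsmul_right,
      hcdef ξ hξ, hcdef χ₁ hχ₁] at h1
    simp only [classInner_sub_left, classInner_sub_right, classInner_zsmul_left,
      classInner_zsmul_right] at h1
    rw [hS.inner hψ (hc.sub hξ), hS.inner hψ (hc.sub hχ₁), hS.inner (hc.sub hχ₁) (hc.sub hξ),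
      hS.inner (hc.sub hχ₁) (hc.sub hχ₁), if_neg (hψne ξ hξ), if_neg (hψne χ₁ hχ₁),
      if_pos rfl] at h1
    have h2 : ((c ξ - (l ξ : ℤ) * c χ₁ : ℤ) : ℂ) =
        (((lψ : ℤ) * l ξ - (if ξ = χ₁ then (lψ : ℤ) else 0) : ℤ) : ℂ) := by
      by_cases h : ξ = χ₁
      · rw [if_pos h.symm] at h1
        rw [if_pos h]
        push_cast at h1 ⊢
        linear_combination h1
      · rw [if_neg (Ne.symm h)] at h1
        rw [if_neg h]
        push_cast at h1 ⊢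
        linear_combination h1
    exact_mod_cast h2
  refine ⟨c χ₁ + lψ, fun ξ hξ => ?_⟩
  rw [hcdef ξ hξ]
  have := key ξ hξ
  congr 1
  linear_combination this

/-- Bessel's inequality for the coefficients. -/
theorem coeff_bound (hS : FeitSys S τ d) (hc : FCoh S τ T Y) {χ₁ ψ : L → ℂ} (hχ₁ : χ₁ ∈ T)
    (hψ : ψ ∈ S) (hψT : ψ ∉ T) (l : (L → ℂ) → ℕ) (hl1 : l χ₁ = 1) (lψ : ℕ)
    (hlψ : d ψ = lψ * d χ₁) (a : ℤ)
    (ha : ∀ ξ ∈ T, classInner (τ (ψ - (lψ : ℤ) • χ₁)) (Y ξ) =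
      (((l ξ : ℤ) * a - (if ξ = χ₁ then (lψ : ℤ) else 0) : ℤ) : ℂ)) :
    a * (a * (∑ ξ ∈ T, (l ξ : ℤ) ^ 2) - 2 * lψ) ≤ 1 ∧
    (a * (a * (∑ ξ ∈ T, (l ξ : ℤ) ^ 2) - 2 * lψ) = 1 →
      τ (ψ - (lψ : ℤ) • χ₁) =
        ∑ ξ ∈ T, ((l ξ : ℤ) * a - (if ξ = χ₁ then (lψ : ℤ) else 0)) • Y ξ) := by
  have hβ : ψ - (lψ : ℤ) • χ₁ ∈ zspanOn S ({1}ᶜ : Set L) :=
    hS.sub_smul_mem (T := S) le_rfl hψ (hc.sub hχ₁) hlψ
  have hψ1 : ψ ≠ χ₁ := fun h => hψT (h ▸ hχ₁)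
  have hnorm : classInner (τ (ψ - (lψ : ℤ) • χ₁)) (τ (ψ - (lψ : ℤ) • χ₁)) =
      ((1 + (lψ : ℤ) ^ 2 : ℤ) : ℂ) := by
    rw [lio_inner hS.isometry hβ hβ]
    simp only [classInner_sub_left, classInner_sub_right, classInner_zsmul_left,
      classInner_zsmul_right]
    rw [hS.inner hψ hψ, hS.inner hψ (hc.sub hχ₁), hS.inner (hc.sub hχ₁) hψ,
      hS.inner (hc.sub hχ₁) (hc.sub hχ₁), if_pos rfl, if_pos rfl, if_neg hψ1,
      if_neg (Ne.symm hψ1)]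
    push_cast; ring
  have hb := bessel_int T Y hc.orth (τ (ψ - (lψ : ℤ) • χ₁))
    (fun ξ => (l ξ : ℤ) * a - (if ξ = χ₁ then (lψ : ℤ) else 0)) ha (1 + (lψ : ℤ) ^ 2) hnorm
  have hsum : ∑ ξ ∈ T, ((l ξ : ℤ) * a - (if ξ = χ₁ then (lψ : ℤ) else 0)) ^ 2 =
      a ^ 2 * (∑ ξ ∈ T, (l ξ : ℤ) ^ 2) - 2 * a * lψ + (lψ : ℤ) ^ 2 := by
    have h1 : ∀ ξ ∈ T, ((l ξ : ℤ) * a - (if ξ = χ₁ then (lψ : ℤ) else 0)) ^ 2 =
        a ^ 2 * (l ξ : ℤ) ^ 2 -
          (if ξ = χ₁ then 2 * (l ξ : ℤ) * a * lψ - (lψ : ℤ) ^ 2 else 0) := by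
      intro ξ _
      by_cases h : ξ = χ₁
      · rw [if_pos h, if_pos h]; ring
      · rw [if_neg h, if_neg h]; ring
    rw [Finset.sum_congr rfl h1, Finset.sum_sub_distrib, ← Finset.mul_sum, Finset.sum_ite_eq',
      if_pos hχ₁, hl1]
    push_cast; ring
  rw [hsum] at hb
  constructor
  · have := hb.1
    nlinarith
  · intro h
    apply hb.2
    linear_combination h

/-- Adding `ψ` when its coefficients are the expected ones. -/
theorem insert_of_coeff (hS : FeitSys S τ d) (hc : FCoh S τ T Y) {χ₁ ψ : L → ℂ} (hχ₁ : χ₁ ∈ T)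
    (hψ : ψ ∈ S) (hψT : ψ ∉ T) (lψ : ℕ) (hlψ : d ψ = lψ * d χ₁)
    (hco : ∀ ξ ∈ T, classInner (τ (ψ - (lψ : ℤ) • χ₁)) (Y ξ) =
      ((-(if ξ = χ₁ then (lψ : ℤ) else 0) : ℤ) : ℂ)) :
    FCoh S τ (insert ψ T)
      (Function.update Y ψ (τ (ψ - (lψ : ℤ) • χ₁) + (lψ : ℤ) • Y χ₁)) := by
  have hβ : ψ - (lψ : ℤ) • χ₁ ∈ zspanOn S ({1}ᶜ : Set L) :=
    hS.sub_smul_mem (T := S) le_rfl hψ (hc.sub hχ₁) hlψ
  have hψ1 : ψ ≠ χ₁ := fun h => hψT (h ▸ hχ₁)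
  have hfg := lio_genChar hS.isometry hβ
  obtain ⟨f, hf⟩ : ∃ f : G → ℂ, f = τ (ψ - (lψ : ℤ) • χ₁) := ⟨_, rfl⟩
  rw [← hf] at hco hfg ⊢
  obtain ⟨Δ, hΔ⟩ : ∃ Δ : G → ℂ, Δ = f + (lψ : ℤ) • Y χ₁ := ⟨_, rfl⟩
  rw [← hΔ]
  have hnorm : classInner f f = ((1 + (lψ : ℤ) ^ 2 : ℤ) : ℂ) := by
    rw [hf, lio_inner hS.isometry hβ hβ]
    simp only [classInner_sub_left, classInner_sub_right, classInner_zsmul_left,
      classInner_zsmul_right]
    rw [hS.inner hψ hψ, hS.inner hψ (hc.sub hχ₁), hS.inner (hc.sub hχ₁) hψ,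
      hS.inner (hc.sub hχ₁) (hc.sub hχ₁), if_pos rfl, if_pos rfl, if_neg hψ1,
      if_neg (Ne.symm hψ1)]
    push_cast; ring
  have hY'T : ∀ ξ ∈ T, Function.update Y ψ Δ ξ = Y ξ := by
    intro ξ hξ
    have hne : ξ ≠ ψ := fun h => hψT (h ▸ hξ)
    exact Function.update_of_ne hne _ _
  have hY'ψ : Function.update Y ψ Δ ψ = Δ := Function.update_self _ _ _
  have hΔg : IsGeneralizedCharacter G Δ := by
    rw [hΔ]
    exact isGeneralizedCharacter_add hfg (isGeneralizedCharacter_zsmul (hc.gen χ₁ hχ₁) _)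
  have hΔY : ∀ ξ ∈ T, classInner Δ (Y ξ) = 0 := by
    intro ξ hξ
    rw [hΔ, classInner_add_left, classInner_zsmul_left, hco ξ hξ, hc.orth χ₁ hχ₁ ξ hξ]
    by_cases h : ξ = χ₁
    · rw [if_pos h, if_pos h.symm]; push_cast; ring
    · rw [if_neg h, if_neg (Ne.symm h)]; push_cast; ring
  have hYΔ : ∀ ξ ∈ T, classInner (Y ξ) Δ = 0 := by
    intro ξ hξ
    rw [← classInner_conj_symm, hΔY ξ hξ, map_zero]
  have hΔΔ : classInner Δ Δ = 1 := by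
    have h1 : classInner f Δ = 1 := by
      rw [hΔ, classInner_add_right, classInner_zsmul_right, hnorm, hco χ₁ hχ₁, if_pos rfl]
      push_cast; ring
    have h2 : classInner Δ Δ = classInner f Δ + (lψ : ℂ) * classInner (Y χ₁) Δ := by
      have h3 : classInner (f + (lψ : ℤ) • Y χ₁) Δ =
          classInner f Δ + (lψ : ℂ) * classInner (Y χ₁) Δ := by
        rw [classInner_add_left, classInner_zsmul_left]
        push_cast; rfl
      rw [← hΔ] at h3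
      exact h3
    rw [h2, h1, hYΔ χ₁ hχ₁]; ring
  have hT' : (↑(insert ψ T) : Set (L → ℂ)) ⊆ S := by
    intro ξ hξ
    rcases Finset.mem_insert.mp (Finset.mem_coe.mp hξ) with h | h
    · rw [h]; exact hψ
    · exact hc.sub h
  apply fcoh_of_base hS hT' _ _ (χ₁ := χ₁) (Finset.mem_insert_of_mem hχ₁)
  · intro ξ hξ
    rcases Finset.mem_insert.mp hξ with h | h
    · have e2 : ((lψ * d χ₁ : ℕ) : ℤ) = (d χ₁ : ℤ) * (lψ : ℤ) := by push_cast; ring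
      rw [h, hY'ψ, hY'T χ₁ hχ₁, hlψ, e2, mul_smul, mul_smul, ← smul_sub, ← smul_sub,
        lio_zsmul hS.isometry hβ, ← hf, hΔ, add_sub_cancel_right]
    · rw [hY'T ξ h, hY'T χ₁ hχ₁]
      exact hc.base hS h hχ₁
  · intro ξ hξ
    rcases Finset.mem_insert.mp hξ with h | h
    · rw [h, hY'ψ]; exact hΔg
    · rw [hY'T ξ h]; exact hc.gen ξ h
  · intro ξ hξ η hη
    rcases Finset.mem_insert.mp hξ with h | h <;> rcases Finset.mem_insert.mp hη with h' | h'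
    · rw [h, h', hY'ψ, if_pos rfl, hΔΔ]
    · rw [h, hY'ψ, hY'T η h', hΔY η h', if_neg (show ψ ≠ η from fun e => hψT (e ▸ h'))]
    · rw [h', hY'ψ, hY'T ξ h, hYΔ ξ h, if_neg (show ξ ≠ ψ from fun e => hψT (e ▸ h))]
    · rw [hY'T ξ h, hY'T η h']; exact hc.orth ξ h η h'

/-- Adding a character whose degree is small compared with the coherent set. -/
theorem insert (hS : FeitSys S τ d) (hc : FCoh S τ T Y) {χ₁ ψ : L → ℂ} (hχ₁ : χ₁ ∈ T)
    (hψ : ψ ∈ S) (hψT : ψ ∉ T) (hdvd : ∀ ξ ∈ T, d χ₁ ∣ d ξ) (hdvdψ : d χ₁ ∣ d ψ)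
    (hbound : 2 * d ψ * d χ₁ < ∑ ξ ∈ T, d ξ ^ 2) :
    ∃ Y' : (L → ℂ) → (G → ℂ), FCoh S τ (insert ψ T) Y' := by
  have hd1 : d χ₁ ≠ 0 := hS.deg_ne_zero (hc.sub hχ₁)
  obtain ⟨l, hl⟩ : ∃ l : (L → ℂ) → ℕ, ∀ ξ ∈ T, d ξ = l ξ * d χ₁ :=
    ⟨fun ξ => d ξ / d χ₁, fun ξ hξ => (Nat.div_mul_cancel (hdvd ξ hξ)).symm⟩
  obtain ⟨lψ, hlψ⟩ : ∃ lψ : ℕ, d ψ = lψ * d χ₁ := ⟨d ψ / d χ₁, (Nat.div_mul_cancel hdvdψ).symm⟩
  have hl1 : l χ₁ = 1 := by
    have h2 : 1 * d χ₁ = l χ₁ * d χ₁ := by rw [one_mul]; exact hl χ₁ hχ₁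
    exact (Nat.eq_of_mul_eq_mul_right (Nat.pos_of_ne_zero hd1) h2).symm
  have hlψ0 : lψ ≠ 0 := by
    intro h; rw [h, zero_mul] at hlψ; exact hS.deg_ne_zero hψ hlψ
  have hb' : 2 * (lψ : ℤ) < ∑ ξ ∈ T, (l ξ : ℤ) ^ 2 := by
    have h1 : ∑ ξ ∈ T, d ξ ^ 2 = (∑ ξ ∈ T, l ξ ^ 2) * d χ₁ ^ 2 := by
      rw [Finset.sum_mul]
      refine Finset.sum_congr rfl fun ξ hξ => ?_
      rw [hl ξ hξ]; ring
    rw [h1, hlψ] at hbound
    have h2 : 2 * lψ * d χ₁ ^ 2 < (∑ ξ ∈ T, l ξ ^ 2) * d χ₁ ^ 2 := by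
      calc 2 * lψ * d χ₁ ^ 2 = 2 * (lψ * d χ₁) * d χ₁ := by ring
        _ < _ := hbound
    have h3 : 2 * lψ < ∑ ξ ∈ T, l ξ ^ 2 := lt_of_mul_lt_mul_right h2 (Nat.zero_le _)
    exact_mod_cast h3
  obtain ⟨a, ha⟩ := hc.coeffs hS hχ₁ hψ hψT l hl lψ hlψ
  obtain ⟨hle, heq⟩ := hc.coeff_bound hS hχ₁ hψ hψT l hl1 lψ hlψ a ha
  obtain ⟨sg, hsg⟩ : ∃ sg : ℤ, sg = ∑ ξ ∈ T, (l ξ : ℤ) ^ 2 := ⟨_, rfl⟩
  rw [← hsg] at hb' hle heq
  have hlψpos : (1 : ℤ) ≤ lψ := by exact_mod_cast Nat.pos_of_ne_zero hlψ0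
  have ha0 : a = 0 := by
    by_contra hne
    rcases lt_or_gt_of_ne hne with hneg | hpos
    · have hb : 1 ≤ -a := by omega
      have h1 : sg ≤ -a * sg := le_mul_of_one_le_left (by linarith) hb
      have h2 : 3 ≤ -a * sg + 2 * lψ := by linarith
      have h3 : 1 * (-a * sg + 2 * lψ) ≤ -a * (-a * sg + 2 * lψ) :=
        mul_le_mul_of_nonneg_right hb (by linarith)
      nlinarith
    · have hb : 1 ≤ a := by omega
      have h1 : sg ≤ a * sg := le_mul_of_one_le_left (by linarith) hb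
      have h2 : 1 ≤ a * sg - 2 * lψ := by linarith
      have h3 : 1 * (a * sg - 2 * lψ) ≤ a * (a * sg - 2 * lψ) :=
        mul_le_mul_of_nonneg_right hb (by linarith)
      have h4 : a * (a * sg - 2 * lψ) = 1 := by linarith
      have ha1 : a = 1 := by
        have h5 : a ∣ 1 := Dvd.intro _ h4
        exact Int.eq_one_of_dvd_one (by linarith) h5
      have hf := heq h4
      have hβ : ψ - (lψ : ℤ) • χ₁ ∈ zspanOn S ({1}ᶜ : Set L) :=
        hS.sub_smul_mem (T := S) le_rfl hψ (hc.sub hχ₁) hlψ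
      have hf1 := hS.map_one _ hβ
      rw [hf, Finset.sum_apply] at hf1
      have h6 : ∀ ξ ∈ T, (((l ξ : ℤ) * a - (if ξ = χ₁ then (lψ : ℤ) else 0)) • Y ξ) 1 =
          (((l ξ : ℤ) ^ 2 - (if ξ = χ₁ then (lψ : ℤ) else 0) : ℤ) : ℂ) * Y χ₁ 1 := by
        intro ξ hξ
        rw [Pi.smul_apply, zsmul_eq_mul, hc.apply_one hS hξ hχ₁ (hl ξ hξ), ha1]
        by_cases h : ξ = χ₁
        · rw [if_pos h, h, hl1]; push_cast; ring
        · rw [if_neg h]; push_cast; ring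
      rw [Finset.sum_congr rfl h6, ← Finset.sum_mul] at hf1
      have h7 : (∑ ξ ∈ T, (((l ξ : ℤ) ^ 2 - (if ξ = χ₁ then (lψ : ℤ) else 0) : ℤ) : ℂ)) =
          ((sg - lψ : ℤ) : ℂ) := by
        rw [← Int.cast_sum, Finset.sum_sub_distrib, Finset.sum_ite_eq', if_pos hχ₁, hsg]
      rw [h7] at hf1
      rcases mul_eq_zero.mp hf1 with h8 | h8
      · have h9 : sg - (lψ : ℤ) = 0 := by exact_mod_cast h8
        linarith
      · exact hc.apply_one_ne_zero hχ₁ h8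
  refine ⟨_, hc.insert_of_coeff hS hχ₁ hψ hψT lψ hlψ ?_⟩
  intro ξ hξ
  rw [ha ξ hξ, ha0]
  congr 1
  ring

end FCoh

/-- Three characters of the same degree: extend a coherent pair. -/
theorem fcoh_three (hS : FeitSys S τ d) {χ₁ χ₂ ψ : L → ℂ} {Y : (L → ℂ) → (G → ℂ)}
    (hc : FCoh S τ {χ₁, χ₂} Y) (hne : χ₁ ≠ χ₂) (hψ : ψ ∈ S) (hψ1 : ψ ≠ χ₁) (hψ2 : ψ ≠ χ₂)
    (hd2 : d χ₂ = d χ₁) (hdψ : d ψ = d χ₁) :
    ∃ Y' : (L → ℂ) → (G → ℂ), FCoh S τ (insert ψ {χ₁, χ₂}) Y' := by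
  have h1T : χ₁ ∈ ({χ₁, χ₂} : Finset (L → ℂ)) := Finset.mem_insert_self _ _
  have h2T : χ₂ ∈ ({χ₁, χ₂} : Finset (L → ℂ)) :=
    Finset.mem_insert_of_mem (Finset.mem_singleton_self _)
  have hψT : ψ ∉ ({χ₁, χ₂} : Finset (L → ℂ)) := by
    intro h
    rcases Finset.mem_insert.mp h with h | h
    · exact hψ1 h
    · exact hψ2 (Finset.mem_singleton.mp h)
  have hmemT : ∀ ξ ∈ ({χ₁, χ₂} : Finset (L → ℂ)), ξ = χ₁ ∨ ξ = χ₂ := by
    intro ξ hξ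
    rcases Finset.mem_insert.mp hξ with h | h
    · exact Or.inl h
    · exact Or.inr (Finset.mem_singleton.mp h)
  have hl : ∀ ξ ∈ ({χ₁, χ₂} : Finset (L → ℂ)), d ξ = (fun _ => 1 : (L → ℂ) → ℕ) ξ * d χ₁ := by
    intro ξ hξ
    rcases hmemT ξ hξ with h | h
    · rw [h, one_mul]
    · rw [h, one_mul, hd2]
  have hlψ : d ψ = 1 * d χ₁ := by rw [one_mul, hdψ]
  obtain ⟨a, ha⟩ := hc.coeffs hS h1T hψ hψT (fun _ => 1) hl 1 hlψ
  obtain ⟨hle, -⟩ := hc.coeff_bound hS h1T hψ hψT (fun _ => 1) rfl 1 hlψ a ha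
  have hsum : ∑ ξ ∈ ({χ₁, χ₂} : Finset (L → ℂ)), (((fun _ => 1 : (L → ℂ) → ℕ) ξ : ℕ) : ℤ) ^ 2 = 2 := by
    rw [Finset.sum_pair hne]; norm_num
  rw [hsum] at hle
  have hle' : a * (a * 2 - 2) ≤ 1 := by
    have := hle
    push_cast at this
    linarith
  have ha01 : a = 0 ∨ a = 1 := by
    have h1 : 0 ≤ a := by
      by_contra hcon
      have h3 : 0 ≤ (-a - 1) * (-a) := mul_nonneg (by omega) (by omega)
      nlinarith
    have h2 : a ≤ 1 := by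
      by_contra hcon
      have h3 : 0 ≤ (a - 2) * a := mul_nonneg (by omega) (by omega)
      nlinarith
    omega
  rcases ha01 with ha0 | ha1
  · refine ⟨_, hc.insert_of_coeff hS h1T hψ hψT 1 hlψ ?_⟩
    intro ξ hξ
    rw [ha ξ hξ, ha0]
    congr 1
    ring
  · -- the flipped solution
    have hβ : ψ - ((1 : ℕ) : ℤ) • χ₁ ∈ zspanOn S ({1}ᶜ : Set L) :=
      hS.sub_smul_mem (T := S) le_rfl hψ (hc.sub h1T) hlψ
    have hfg := lio_genChar hS.isometry hβ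
    obtain ⟨f, hf⟩ : ∃ f : G → ℂ, f = τ (ψ - ((1 : ℕ) : ℤ) • χ₁) := ⟨_, rfl⟩
    rw [← hf] at ha hfg
    have hnorm : classInner f f = 2 := by
      rw [hf, lio_inner hS.isometry hβ hβ]
      simp only [classInner_sub_left, classInner_sub_right, classInner_zsmul_left,
        classInner_zsmul_right]
      rw [hS.inner hψ hψ, hS.inner hψ (hc.sub h1T), hS.inner (hc.sub h1T) hψ,
        hS.inner (hc.sub h1T) (hc.sub h1T), if_pos rfl, if_pos rfl, if_neg hψ1,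
        if_neg (Ne.symm hψ1)]
      push_cast; ring
    have hf1 : classInner f (Y χ₁) = 0 := by
      rw [ha χ₁ h1T, if_pos rfl, ha1]; norm_num
    have hf2 : classInner f (Y χ₂) = 1 := by
      rw [ha χ₂ h2T, if_neg (Ne.symm hne), ha1]; norm_num
    have hf1' : classInner (Y χ₁) f = 0 := by rw [← classInner_conj_symm, hf1, map_zero]
    have hf2' : classInner (Y χ₂) f = 1 := by rw [← classInner_conj_symm, hf2, map_one]
    have h11 : classInner (Y χ₁) (Y χ₁) = 1 := hc.norm_one h1T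
    have h22 : classInner (Y χ₂) (Y χ₂) = 1 := hc.norm_one h2T
    have h12 : classInner (Y χ₁) (Y χ₂) = 0 := by rw [hc.orth χ₁ h1T χ₂ h2T, if_neg hne]
    have h21 : classInner (Y χ₂) (Y χ₁) = 0 := by
      rw [hc.orth χ₂ h2T χ₁ h1T, if_neg (Ne.symm hne)]
    obtain ⟨Y', hY'⟩ : ∃ Y' : (L → ℂ) → (G → ℂ),
        Y' = fun ξ => if ξ = χ₁ then -Y χ₂ else if ξ = χ₂ then -Y χ₁ else f - Y χ₂ := ⟨_, rfl⟩
    have hY1 : Y' χ₁ = -Y χ₂ := by rw [hY']; exact if_pos rfl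
    have hY2 : Y' χ₂ = -Y χ₁ := by
      rw [hY']
      show (if χ₂ = χ₁ then -Y χ₂ else if χ₂ = χ₂ then -Y χ₁ else f - Y χ₂) = -Y χ₁
      rw [if_neg (Ne.symm hne), if_pos rfl]
    have hYψ : Y' ψ = f - Y χ₂ := by
      rw [hY']
      show (if ψ = χ₁ then -Y χ₂ else if ψ = χ₂ then -Y χ₁ else f - Y χ₂) = f - Y χ₂
      rw [if_neg hψ1, if_neg hψ2]
    have hT' : (↑(insert ψ ({χ₁, χ₂} : Finset (L → ℂ))) : Set (L → ℂ)) ⊆ S := by
      intro ξ hξ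
      rcases Finset.mem_insert.mp (Finset.mem_coe.mp hξ) with h | h
      · rw [h]; exact hψ
      · exact hc.sub h
    have hmem3 : ∀ ξ ∈ insert ψ ({χ₁, χ₂} : Finset (L → ℂ)), ξ = ψ ∨ ξ = χ₁ ∨ ξ = χ₂ := by
      intro ξ hξ
      rcases Finset.mem_insert.mp hξ with h | h
      · exact Or.inl h
      · exact Or.inr (hmemT ξ h)
    have hneg : ∀ u v : G → ℂ, classInner (-u) (-v) = classInner u v := by
      intro u v
      have h1 : (-u) = ((-1 : ℤ)) • u := by rw [neg_smul, one_smul]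
      have h2 : (-v) = ((-1 : ℤ)) • v := by rw [neg_smul, one_smul]
      rw [h1, h2, classInner_zsmul_left, classInner_zsmul_right]
      push_cast; ring
    have hnegl : ∀ u v : G → ℂ, classInner (-u) v = -classInner u v := by
      intro u v
      have h1 : (-u) = ((-1 : ℤ)) • u := by rw [neg_smul, one_smul]
      rw [h1, classInner_zsmul_left]
      push_cast; ring
    have hnegr : ∀ u v : G → ℂ, classInner u (-v) = -classInner u v := by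
      intro u v
      have h2 : (-v) = ((-1 : ℤ)) • v := by rw [neg_smul, one_smul]
      rw [h2, classInner_zsmul_right]
      push_cast; ring
    refine ⟨Y', fcoh_of_base hS hT' ?_ ?_ (χ₁ := χ₁) (Finset.mem_insert_of_mem h1T) ?_⟩
    · intro ξ hξ
      rcases hmem3 ξ hξ with h | h | h
      · rw [h, hYψ]
        exact isGeneralizedCharacter_sub hfg (hc.gen χ₂ h2T)
      · rw [h, hY1]
        exact isGeneralizedCharacter_neg (hc.gen χ₂ h2T)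
      · rw [h, hY2]
        exact isGeneralizedCharacter_neg (hc.gen χ₁ h1T)
    · intro ξ hξ η hη
      rcases hmem3 ξ hξ with h | h | h <;> rcases hmem3 η hη with h' | h' | h'
      · rw [h, h', hYψ, if_pos rfl]
        simp only [classInner_sub_left, classInner_sub_right]
        rw [hnorm, hf2, hf2', h22]; ring
      · rw [h, h', hYψ, hY1, if_neg hψ1, hnegr]
        simp only [classInner_sub_left]
        rw [hf2, h22]; ring
      · rw [h, h', hYψ, hY2, if_neg hψ2, hnegr]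
        simp only [classInner_sub_left]
        rw [hf1, h21]; ring
      · rw [h, h', hYψ, hY1, if_neg (Ne.symm hψ1), hnegl]
        simp only [classInner_sub_right]
        rw [hf2', h22]; ring
      · rw [h, h', hY1, if_pos rfl, hneg, h22]
      · rw [h, h', hY1, hY2, if_neg hne, hneg, h21]
      · rw [h, h', hYψ, hY2, if_neg (Ne.symm hψ2), hnegl]
        simp only [classInner_sub_right]
        rw [hf1', h12]; ring
      · rw [h, h', hY1, hY2, if_neg (Ne.symm hne), hneg, h12]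
      · rw [h, h', hY2, if_pos rfl, hneg, h11]
    · intro ξ hξ
      rcases hmem3 ξ hξ with h | h | h
      · rw [h, hYψ, hY1, hdψ, ← smul_sub, ← smul_sub, sub_neg_eq_add, sub_add_cancel]
        have h3 : ψ - χ₁ = ψ - ((1 : ℕ) : ℤ) • χ₁ := by rw [Nat.cast_one, one_smul]
        rw [h3, lio_zsmul hS.isometry hβ, ← hf]
      · rw [h, sub_self, sub_self]
        exact lio_zero hS.isometry (isZClosed_zspanOn S _)
      · rw [h, hY1, hY2, hc.base hS h2T h1T, hd2, ← smul_sub, ← smul_sub]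
        congr 1
        abel

/-- A finite set of at least two irreducible characters of the same degree is coherent. -/
theorem fcoh_eqdeg (hS : FeitSys S τ d) (d₀ : ℕ) (T : Finset (L → ℂ)) :
    (↑T : Set (L → ℂ)) ⊆ S → (∀ ξ ∈ T, d ξ = d₀) → 2 ≤ T.card →
    ∃ Y : (L → ℂ) → (G → ℂ), FCoh S τ T Y := by
  induction T using Finset.induction_on with
  | empty => intro _ _ h; simp at h
  | insert ψ T' hψT' ih =>
    intro hT hdeg hcard
    have hT' : (↑T' : Set (L → ℂ)) ⊆ S := fun ξ hξ => hT (Finset.mem_insert_of_mem hξ)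
    have hdeg' : ∀ ξ ∈ T', d ξ = d₀ := fun ξ hξ => hdeg ξ (Finset.mem_insert_of_mem hξ)
    have hψS : ψ ∈ S := hT (Finset.mem_insert_self _ _)
    have hdψ : d ψ = d₀ := hdeg ψ (Finset.mem_insert_self _ _)
    rw [Finset.card_insert_of_notMem hψT'] at hcard
    have hd0 : d₀ ≠ 0 := by rw [← hdψ]; exact hS.deg_ne_zero hψS
    rcases Nat.lt_or_ge T'.card 2 with hlt | hge
    · have h1 : T'.card = 1 := by omega
      obtain ⟨χ₁, hχ₁⟩ := Finset.card_eq_one.mp h1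
      rw [hχ₁]
      have hχ₁T : χ₁ ∈ T' := by rw [hχ₁]; exact Finset.mem_singleton_self _
      have hne : ψ ≠ χ₁ := fun h => hψT' (h ▸ hχ₁T)
      exact fcoh_pair hS hψS (hT' hχ₁T) hne (by rw [hdeg' χ₁ hχ₁T, hdψ])
    · obtain ⟨Y, hY⟩ := ih hT' hdeg' hge
      rcases Nat.lt_or_ge T'.card 3 with hlt3 | hge3
      · have h2 : T'.card = 2 := by omega
        obtain ⟨χ₁, χ₂, hne, hT'eq⟩ := Finset.card_eq_two.mp h2
        have h1T : χ₁ ∈ T' := by rw [hT'eq]; exact Finset.mem_insert_self _ _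
        have h2T : χ₂ ∈ T' := by
          rw [hT'eq]; exact Finset.mem_insert_of_mem (Finset.mem_singleton_self _)
        have hψ1 : ψ ≠ χ₁ := fun h => hψT' (h ▸ h1T)
        have hψ2 : ψ ≠ χ₂ := fun h => hψT' (h ▸ h2T)
        rw [hT'eq] at hY ⊢
        exact fcoh_three hS hY hne hψS hψ1 hψ2 (by rw [hdeg' χ₂ h2T, hdeg' χ₁ h1T])
          (by rw [hdψ, hdeg' χ₁ h1T])
      · obtain ⟨χ₁, hχ₁⟩ : T'.Nonempty := Finset.card_pos.mp (by omega)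
        apply hY.insert hS hχ₁ hψS hψT'
        · intro ξ hξ
          rw [hdeg' ξ hξ, hdeg' χ₁ hχ₁]
        · rw [hdψ, hdeg' χ₁ hχ₁]
        · rw [hdψ, hdeg' χ₁ hχ₁, Finset.sum_congr rfl (fun ξ hξ => by rw [hdeg' ξ hξ]),
            Finset.sum_const, smul_eq_mul]
          have : 0 < d₀ := Nat.pos_of_ne_zero hd0
          nlinarith

/-- Adding a whole finite set of characters of small degree to a coherent set. -/
theorem fcoh_union (hS : FeitSys S τ d) {T : Finset (L → ℂ)} {Y : (L → ℂ) → (G → ℂ)}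
    (hc : FCoh S τ T Y) {χ₁ : L → ℂ} (hχ₁ : χ₁ ∈ T) (hdvd : ∀ ξ ∈ S, d χ₁ ∣ d ξ)
    (U : Finset (L → ℂ)) :
    (↑U : Set (L → ℂ)) ⊆ S → (∀ ψ ∈ U, 2 * d ψ * d χ₁ < ∑ ξ ∈ T, d ξ ^ 2) →
    ∃ Y' : (L → ℂ) → (G → ℂ), FCoh S τ (T ∪ U) Y' := by
  induction U using Finset.induction_on with
  | empty =>
    intro _ _
    rw [Finset.union_empty]
    exact ⟨Y, hc⟩
  | insert ψ U' hψU' ih =>
    intro hU hb
    have hU' : (↑U' : Set (L → ℂ)) ⊆ S := fun ξ hξ => hU (Finset.mem_insert_of_mem hξ)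
    obtain ⟨Y₁, hY₁⟩ := ih hU' (fun ψ' hψ' => hb ψ' (Finset.mem_insert_of_mem hψ'))
    have hψS : ψ ∈ S := hU (Finset.mem_insert_self _ _)
    rw [Finset.union_insert]
    by_cases hψ : ψ ∈ T ∪ U'
    · rw [Finset.insert_eq_of_mem hψ]
      exact ⟨Y₁, hY₁⟩
    · apply hY₁.insert hS (Finset.mem_union_left _ hχ₁) hψS hψ
      · intro ξ hξ
        exact hdvd ξ (hY₁.sub hξ)
      · exact hdvd ψ hψS
      · refine lt_of_lt_of_le (hb ψ (Finset.mem_insert_self _ _)) ?_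
        exact Finset.sum_le_sum_of_subset Finset.subset_union_left

end

end Cfsg.Agent.Lib.H8
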