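import Mathlib
import Cfsg.Agent.Lib.H8.FeitCoh
import Cfsg.Agent.Lib.H8.CohInduced
import Cfsg.Agent.Lib.H8.CohExtend
import Cfsg.Agent.Lib.H8.CohFrob
import Cfsg.Agent.Lib.H8.CharConstituent
import Cfsg.Agent.Lib.H8.FrobKernelNil
import Cfsg.Agent.Lib.H8.NilCommIndex
import Cfsg.Agent.Lib.H8.Nilpotent
import Cfsg.Agent.Lib.H23.FrobKernel
import Cfsg.Agent.Lib.H21.OrbitCount
import Cfsg.Agent.Lib.H14.NilSupp
import Cfsg.Agent.Lib.H1.NilpotentBasic

/-!
# Feit's coherence theorem for Frobenius groups: the group-theoretic and character-theoretic input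
(helper8's library)

`N` is a finite group, `H` a proper normal subgroup containing the centralizers of its
non-identity elements.
-/

set_option autoImplicit false

namespace Cfsg.Agent.Lib.H8

open Cfsg Cfsg.Agent.Lib.L0
open scoped ComplexConjugate
open Classical

section group
variable {N : Type*} [Group N] [Finite N] (H : Subgroup N) [H.Normal]

/-- An `N`-normal subgroup of a Frobenius kernel has order `≡ 1` modulo the index. -/
theorem frob_card_modEq (hC : ∀ h ∈ H, h ≠ 1 → Subgroup.centralizer ({h} : Set N) ≤ H)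
    (Y : Subgroup N) [hY : Y.Normal] (hYH : Y ≤ H) : Nat.card Y ≡ 1 [MOD H.index] := by
  have hdvd : H.index ∣ ((Y : Set N) \ {1}).ncard := by
    apply Cfsg.Agent.Lib.H21.dvd_ncard_of_forall_dvd_index_stabilizer (G := ConjAct N) _ _
      (Set.toFinite _)
    · intro g x hx
      refine ⟨?_, ?_⟩
      · rw [ConjAct.smul_def]
        exact hY.conj_mem x hx.1 _
      · intro h1
        apply hx.2
        rw [Set.mem_singleton_iff] at h1 ⊢
        have h2 := congrArg (fun z => g⁻¹ • z) h1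
        simpa using h2
    · intro x hx
      have hxH : x ∈ H := hYH hx.1
      have hx1 : x ≠ 1 := hx.2
      have hle : (MulAction.stabilizer (ConjAct N) x).map
          ((ConjAct.ofConjAct (G := N) : ConjAct N ≃* N) : ConjAct N →* N) ≤ H := by
        rintro _ ⟨g, hg, rfl⟩
        apply hC x hxH hx1
        rw [Subgroup.mem_centralizer_singleton_iff]
        have h3 := MulAction.mem_stabilizer_iff.mp hg
        rw [ConjAct.smul_def] at h3
        show ConjAct.ofConjAct g * x = x * ConjAct.ofConjAct g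
        calc ConjAct.ofConjAct g * x
            = (ConjAct.ofConjAct g * x * (ConjAct.ofConjAct g)⁻¹) * ConjAct.ofConjAct g := by group
          _ = x * ConjAct.ofConjAct g := by rw [h3]
      have h2 := Subgroup.index_dvd_of_le hle
      rwa [Subgroup.index_map_equiv] at h2
  have h1 : ((Y : Set N) \ {1}).ncard = Nat.card Y - 1 := by
    rw [Set.ncard_diff_singleton_of_mem (Y.one_mem)]
    congr 1
  rw [h1] at hdvd
  exact ((Nat.modEq_iff_dvd' (Nat.card_pos (α := Y))).mpr hdvd).symm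

/-- The relative index of `N`-normal subgroups of a Frobenius kernel is `≡ 1` modulo `e`. -/
theorem frob_relIndex_modEq_one (hC : ∀ h ∈ H, h ≠ 1 → Subgroup.centralizer ({h} : Set N) ≤ H)
    (X Y : Subgroup N) [X.Normal] [Y.Normal] (hXY : X ≤ Y) (hYH : Y ≤ H) :
    X.relIndex Y ≡ 1 [MOD H.index] := by
  have hY := frob_card_modEq H hC Y hYH
  have hX := frob_card_modEq H hC X (hXY.trans hYH)
  have hmul : X.relIndex Y * Nat.card X = Nat.card Y := by
    have := Subgroup.relIndex_mul_relIndex ⊥ X Y bot_le hXY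
    rw [Subgroup.relIndex_bot_left, Subgroup.relIndex_bot_left] at this
    rw [mul_comm]; exact this
  have h1 : X.relIndex Y * Nat.card X ≡ X.relIndex Y * 1 [MOD H.index] := Nat.ModEq.mul_left _ hX
  rw [hmul, mul_one] at h1
  exact h1.symm.trans hY

/-- Distinct `N`-normal subgroups `X < Y` of a Frobenius kernel have index at least `e + 1`. -/
theorem frob_relIndex_ge (hC : ∀ h ∈ H, h ≠ 1 → Subgroup.centralizer ({h} : Set N) ≤ H)
    (X Y : Subgroup N) [X.Normal] [Y.Normal] (hXY : X ≤ Y) (hYH : Y ≤ H) (hne : ¬ Y ≤ X) :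
    H.index + 1 ≤ X.relIndex Y := by
  have hr := frob_relIndex_modEq_one H hC X Y hXY hYH
  have hr1 : X.relIndex Y ≠ 1 := fun h => hne (Subgroup.relIndex_eq_one.mp h)
  have hr0 : X.relIndex Y ≠ 0 := by
    intro h
    have := Subgroup.relIndex_dvd_card X Y
    rw [h, zero_dvd_iff] at this
    exact (Nat.card_pos (α := Y)).ne' this
  have hd : H.index ∣ X.relIndex Y - 1 := (Nat.modEq_iff_dvd' (by omega)).mp hr.symm
  have := Nat.le_of_dvd (by omega) hd
  omega

theorem feit_arith_one (e z r : ℕ) (he : 1 ≤ e) (hz : e + 1 ≤ z) (hr : e + 1 ≤ r) :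
    4 * e ^ 2 * z < (z * r - 1) ^ 2 := by
  obtain ⟨w, hw⟩ : ∃ w, w + 1 = z * r := ⟨z * r - 1, by
    have : 1 ≤ z * r := Nat.mul_pos (by omega) (by omega)
    omega⟩
  have h1 : e * (z + 1) ≤ w := by
    have h2 : z * (e + 1) ≤ z * r := Nat.mul_le_mul_left _ hr
    nlinarith
  have h3 : z * r - 1 = w := by omega
  rw [h3]
  have h4 : (e * (z + 1)) ^ 2 ≤ w ^ 2 := Nat.pow_le_pow_left h1 2
  have h5 : 4 * e ^ 2 * z < (e * (z + 1)) ^ 2 := by
    have hz2 : 2 ≤ z := by omega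
    have : 0 < e ^ 2 := by positivity
    nlinarith
  omega

theorem feit_arith_two (e z : ℕ) (hz : 4 * e ^ 2 + 2 ≤ z) : 4 * e ^ 2 * z < (z - 1) ^ 2 := by
  obtain ⟨w, hw⟩ : ∃ w, w + 1 = z := ⟨z - 1, by omega⟩
  have h3 : z - 1 = w := by omega
  rw [h3, ← hw]
  have h1 : 4 * e ^ 2 + 1 ≤ w := by omega
  nlinarith

end group

section chars
variable {N : Type*} [Group N] [Fintype N] (H : Subgroup N) [hH : H.Normal]

/-- The irreducible characters of `N` not containing `H` in their kernel. -/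
def feitSet : Set (N → ℂ) := {χ | IsIrrCharacter N χ ∧ ∃ h ∈ H, χ h ≠ χ 1}

/-- A nonprincipal irreducible character of the Frobenius kernel induces to a member of
`feitSet`. -/
theorem indFun_mem_feitSet (hC : ∀ h ∈ H, h ≠ 1 → Subgroup.centralizer ({h} : Set N) ≤ H)
    (θ : ↥H → ℂ) (hθ : IsIrrCharacter ↥H θ) (hθ1 : θ ≠ fun _ => 1) :
    indFun H θ ∈ feitSet H := by
  have hirr := Cfsg.Agent.Lib.H23.isIrrCharacter_indFun_of_centralizer_le H hC θ hθ hθ1
  refine ⟨hirr, ?_⟩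
  by_contra hcon
  push Not at hcon
  have hres : IsCharacter ↥H (fun k : ↥H => indFun H θ (k : N)) :=
    isCharacter_restrict _ (isCharacter_of_irr hirr)
  have hinner : classInner (fun k : ↥H => indFun H θ (k : N)) θ ≠ 0 := by
    have h1 := Cfsg.Agent.Lib.H8.frobenius_reciprocity H θ (indFun H θ)
      (isClassFunction_of_isCharacter (isCharacter_of_irr hirr))
    rw [irr_classInner_self hirr] at h1
    rw [← classInner_conj_symm, ← h1]
    simp
  have hconst : ∀ a : ↥H, θ a = θ 1 := by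
    intro a
    apply constituent_apply_eq_one hres hθ hinner
    show indFun H θ (a : N) = indFun H θ ((1 : ↥H) : N)
    rw [hcon a a.2]
    rfl
  have hlin : θ 1 = 1 :=
    linear_of_commutator_le H H (Subgroup.commutator_le_right H H) θ hθ (fun a _ => hconst a)
  apply hθ1
  funext a
  rw [hconst a, hlin]

theorem inducedIrrAbove_subset_feitSet
    (hC : ∀ h ∈ H, h ≠ 1 → Subgroup.centralizer ({h} : Set N) ≤ H) (A : Subgroup N) :
    inducedIrrAbove H A ⊆ feitSet H := by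
  rintro φ ⟨θ, hθ, hθ1, -, rfl⟩
  exact indFun_mem_feitSet H hC θ hθ hθ1

/-- Every member of `feitSet` is induced from a nonprincipal irreducible character of `H`. -/
theorem feitSet_subset_inducedIrrAbove
    (hC : ∀ h ∈ H, h ≠ 1 → Subgroup.centralizer ({h} : Set N) ≤ H) :
    feitSet H ⊆ inducedIrrAbove H ⊥ := by
  rintro χ ⟨hirr, hker⟩
  obtain ⟨φ, hφ, hχφ⟩ := Cfsg.Agent.Lib.H23.exists_eq_indFun_of_centralizer_le H hC χ hirr hker
  refine ⟨φ, hφ, ?_, ?_, hχφ⟩
  · intro h1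
    have htriv : IsIrrCharacter N (1 : N → ℂ) := Cfsg.Agent.Lib.L0.isIrrCharacter_one
    have h2 := Cfsg.Agent.Lib.H8.frobenius_reciprocity H φ (1 : N → ℂ)
      (isClassFunction_of_isCharacter (isCharacter_of_irr htriv))
    have h3 : (fun h : ↥H => (1 : N → ℂ) (h : N)) = φ := by
      rw [h1]; rfl
    rw [h3, irr_classInner_self hφ, ← hχφ] at h2
    have h4 : χ = 1 := by
      by_contra hne
      rw [irr_classInner_ne hirr htriv hne] at h2
      exact zero_ne_one h2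
    obtain ⟨h, _, hne⟩ := hker
    apply hne
    rw [h4]
    rfl
  · intro a ha
    have : a = 1 := Subtype.ext (Subgroup.mem_bot.mp ha)
    rw [this]

/-- Degrees of induced characters. -/
theorem charDegree_indFun (θ : ↥H → ℂ) (hθ : IsIrrCharacter ↥H θ)
    (hirr : IsIrrCharacter N (indFun H θ)) :
    charDegree (indFun H θ) = H.index * charDegree θ := by
  have h1 := Cfsg.Agent.Lib.H23.apply_one_eq_charDegree _ hirr
  have h2 := Cfsg.Agent.Lib.H23.apply_one_eq_charDegree _ hθ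
  rw [indFun_one, h2] at h1
  exact_mod_cast h1.symm

theorem index_dvd_charDegree
    (hC : ∀ h ∈ H, h ≠ 1 → Subgroup.centralizer ({h} : Set N) ≤ H) {χ : N → ℂ}
    (hχ : χ ∈ feitSet H) : H.index ∣ charDegree χ := by
  obtain ⟨θ, hθ, -, -, rfl⟩ := feitSet_subset_inducedIrrAbove H hC hχ
  rw [charDegree_indFun H θ hθ hχ.1]
  exact Dvd.intro _ rfl

variable {G : Type*} [Group G] [Fintype G]

theorem feitSys_feitSet (τ : (N → ℂ) → (G → ℂ))
    (hτ : IsLinearIsometryOn (zspanOn (feitSet H) ({1}ᶜ : Set N)) τ)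
    (hτ1 : ∀ α ∈ zspanOn (feitSet H) ({1}ᶜ : Set N), τ α 1 = 0) :
    FeitSys (feitSet H) τ charDegree :=
  ⟨fun _ hχ => hχ.1, hτ, hτ1, fun χ hχ => Cfsg.Agent.Lib.H23.apply_one_eq_charDegree χ hχ.1⟩

end chars

section step
variable {N : Type*} [Group N] [Fintype N] (H : Subgroup N) [hH : H.Normal]
  {G : Type*} [Group G] [Fintype G] {τ : (N → ℂ) → (G → ℂ)}

theorem exists_finset_inducedIrrAbove (A : Subgroup N) :
    ∃ U : Finset (N → ℂ), (↑U : Set (N → ℂ)) = inducedIrrAbove H A := by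
  have hfin : (inducedIrrAbove H A).Finite := by
    apply Set.Finite.subset (Set.finite_range (fun θ : IrrCharacter ↥H => indFun H (θ : ↥H → ℂ)))
    rintro φ ⟨θ, hθ, -, -, rfl⟩
    exact ⟨⟨θ, hθ⟩, rfl⟩
  exact ⟨hfin.toFinset, Set.Finite.coe_toFinset _⟩

/-- Lower bound for the sum of the squares of the degrees. -/
theorem sum_sq_ge (hC : ∀ h ∈ H, h ≠ 1 → Subgroup.centralizer ({h} : Set N) ≤ H)
    {A : Subgroup N} [A.Normal] {T : Finset (N → ℂ)} (hAT : inducedIrrAbove H A ⊆ ↑T) :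
    H.index * (A.relIndex H - 1) ≤ ∑ ξ ∈ T, charDegree ξ ^ 2 := by
  have h1 := sum_induced_ge H A T charDegree (fun _ => 1) hAT
    (fun φ hφ => Cfsg.Agent.Lib.H23.apply_one_eq_charDegree φ
      (inducedIrrAbove_subset_feitSet H hC A hφ).1)
    (fun φ hφ => by
      rw [irr_classInner_self (inducedIrrAbove_subset_feitSet H hC A hφ).1, Nat.cast_one])
    (fun _ _ => one_ne_zero)
  have h2 : ∑ φ ∈ T, ((charDegree φ : ℕ) : ℝ) ^ 2 / (((fun _ => 1 : (N → ℂ) → ℕ) φ : ℕ) : ℝ) =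
      ((∑ ξ ∈ T, charDegree ξ ^ 2 : ℕ) : ℝ) := by
    push_cast
    refine Finset.sum_congr rfl fun φ _ => ?_
    rw [div_one]
  rw [h2] at h1
  exact_mod_cast h1

/-- One step of Feit's argument. -/
theorem feit_step (hC : ∀ h ∈ H, h ≠ 1 → Subgroup.centralizer ({h} : Set N) ≤ H)
    (hS : FeitSys (feitSet H) τ charDegree) {A B D : Subgroup N} [A.Normal] [B.Normal]
    (hBD : B ≤ D) (hDH : D ≤ H) (hcomm : ⁅D, H⁆ ≤ B)
    {T : Finset (N → ℂ)} {Y : (N → ℂ) → (G → ℂ)} (hc : FCoh (feitSet H) τ T Y)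
    (hAT : inducedIrrAbove H A ⊆ ↑T) {χ₁ : N → ℂ} (hχ₁ : χ₁ ∈ T)
    (hdχ₁ : charDegree χ₁ = H.index)
    (hbound : 4 * H.index ^ 2 * D.relIndex H < (A.relIndex H - 1) ^ 2) :
    ∃ (T' : Finset (N → ℂ)) (Y' : (N → ℂ) → (G → ℂ)), T ⊆ T' ∧ FCoh (feitSet H) τ T' Y' ∧
      inducedIrrAbove H B ⊆ ↑T' := by
  obtain ⟨U, hU⟩ := exists_finset_inducedIrrAbove H B
  have he0 : 0 < H.index := Nat.pos_of_ne_zero Subgroup.index_ne_zero_of_finite
  have hsum := sum_sq_ge H hC (A := A) hAT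
  have hUS : (↑U : Set (N → ℂ)) ⊆ feitSet H := by
    rw [hU]; exact inducedIrrAbove_subset_feitSet H hC B
  obtain ⟨Y', hY'⟩ := fcoh_union hS hc hχ₁
    (fun ξ hξ => by rw [hdχ₁]; exact index_dvd_charDegree H hC hξ) U hUS (by
      intro ψ hψ
      have hψB : ψ ∈ inducedIrrAbove H B := by rw [← hU]; exact hψ
      obtain ⟨θ, hθ, hθ1, hθB, rfl⟩ := hψB
      have hirr := (indFun_mem_feitSet H hC θ hθ hθ1).1
      rw [charDegree_indFun H θ hθ hirr, hdχ₁]
      have hdb := induced_degree_bound H B H D hBD hDH le_rfl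
        (fun x hx y hy => by
          have := Subgroup.commutator_mem_commutator hx hy
          rw [commutatorElement_def] at this
          exact hcomm this) θ hθ hθB
      rw [Subgroup.relIndex_self, one_pow, one_mul] at hdb
      have h3 : (2 * H.index * charDegree θ) ^ 2 < (A.relIndex H - 1) ^ 2 := by
        calc (2 * H.index * charDegree θ) ^ 2 = 4 * H.index ^ 2 * charDegree θ ^ 2 := by ring
          _ ≤ 4 * H.index ^ 2 * D.relIndex H := Nat.mul_le_mul_left _ hdb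
          _ < _ := hbound
      have h4 : 2 * H.index * charDegree θ < A.relIndex H - 1 :=
        lt_of_pow_lt_pow_left₀ 2 (Nat.zero_le _) h3
      calc 2 * (H.index * charDegree θ) * H.index = H.index * (2 * H.index * charDegree θ) := by ring
        _ < H.index * (A.relIndex H - 1) := Nat.mul_lt_mul_of_pos_left h4 he0
        _ ≤ _ := hsum)
  refine ⟨T ∪ U, Y', Finset.subset_union_left, hY', ?_⟩
  rw [← hU, Finset.coe_union]
  exact Set.subset_union_right

/-- Iterating the step along `A ↦ M ⊔ ⁅A, H⁆`. -/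
theorem feit_chain (hC : ∀ h ∈ H, h ≠ 1 → Subgroup.centralizer ({h} : Set N) ≤ H)
    (hnil : Group.IsNilpotent ↥H) (hS : FeitSys (feitSet H) τ charDegree) {χ₁ : N → ℂ}
    (hdχ₁ : charDegree χ₁ = H.index) (M Zc A₀ : Subgroup N) [M.Normal] [Zc.Normal]
    (hZcH : Zc ≤ H) (hA₀H : A₀ ≤ H) (hcommZ : ⁅Zc, H⁆ ≤ M)
    (hgood : ∀ A' : Subgroup N, A'.Normal → M ≤ A' → A' ≤ A₀ → ¬ A' ≤ M →
      4 * H.index ^ 2 * (A' ⊔ Zc).relIndex H < (A'.relIndex H - 1) ^ 2) :
    ∀ A : Subgroup N, A.Normal → M ≤ A → A ≤ A₀ → ∀ (T : Finset (N → ℂ))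
      (Y : (N → ℂ) → (G → ℂ)), FCoh (feitSet H) τ T Y → χ₁ ∈ T → inducedIrrAbove H A ⊆ ↑T →
      ∃ (T' : Finset (N → ℂ)) (Y' : (N → ℂ) → (G → ℂ)), T ⊆ T' ∧ FCoh (feitSet H) τ T' Y' ∧
        inducedIrrAbove H M ⊆ ↑T' := by
  intro A
  induction A using WellFoundedLT.induction with
  | ind A ih =>
    intro hAn hMA hAA₀ T Y hc hχ₁ hAT
    by_cases hAM : A ≤ M
    · have hAeq : A = M := le_antisymm hAM hMA
      exact ⟨T, Y, Finset.Subset.refl _, hc, hAeq ▸ hAT⟩
    · haveI := hAn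
      haveI := hnil
      have hAH : A ≤ H := hAA₀.trans hA₀H
      obtain ⟨B, hBdef⟩ : ∃ B : Subgroup N, B = M ⊔ ⁅A, H⁆ := ⟨_, rfl⟩
      have hBn : B.Normal := by rw [hBdef]; infer_instance
      have hMB : M ≤ B := by rw [hBdef]; exact le_sup_left
      have hBA : B ≤ A := by
        rw [hBdef]; exact sup_le hMA (Subgroup.commutator_le_left A H)
      have hBne : B ≠ A := by
        intro h
        apply hAM
        apply Cfsg.Agent.Lib.H14.le_of_le_sup_commutator_of_nilpotent H A M hAH (hMA.trans hAH)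
        · rw [Subgroup.normalizer_eq_top]; exact le_top
        · rw [← hBdef, h]
      have hD : ⁅A ⊔ Zc, H⁆ ≤ B := by
        apply Cfsg.Agent.Lib.H14.commutator_sup_le A Zc H B
        · rw [hBdef]; exact le_sup_right
        · exact hcommZ.trans hMB
        · rw [Subgroup.normalizer_eq_top]; exact le_top
        · rw [Subgroup.normalizer_eq_top]; exact le_top
      obtain ⟨T₁, Y₁, hTT₁, hc₁, hBT₁⟩ := feit_step H hC hS (A := A) (B := B) (D := A ⊔ Zc)
        (hBA.trans le_sup_left) (sup_le hAH hZcH) hD hc hAT hχ₁ hdχ₁ (hgood A hAn hMA hAA₀ hAM)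
      obtain ⟨T', Y', hT₁T', hc', hMT'⟩ := ih B (lt_of_le_of_ne hBA hBne) hBn hMB
        (hBA.trans hAA₀) T₁ Y₁ hc₁ (hTT₁ hχ₁) hBT₁
      exact ⟨T', Y', hTT₁.trans hT₁T', hc', hMT'⟩

end step

section main
variable {N : Type*} [Group N] [Fintype N] (H : Subgroup N) [hH : H.Normal]
  {G : Type*} [Group G] [Fintype G] {τ : (N → ℂ) → (G → ℂ)}

/-- The characters with `H'` in the kernel form a coherent set if `|H:H'| ≠ e + 1`. -/
theorem feit_base (hC : ∀ h ∈ H, h ≠ 1 → Subgroup.centralizer ({h} : Set N) ≤ H)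
    (hnil : Group.IsNilpotent ↥H) (hH1 : H ≠ ⊥) (hS : FeitSys (feitSet H) τ charDegree)
    (hne : (⁅H, H⁆).relIndex H ≠ H.index + 1) :
    ∃ (T : Finset (N → ℂ)) (Y : (N → ℂ) → (G → ℂ)) (χ₁ χ₂ : N → ℂ), FCoh (feitSet H) τ T Y ∧
      χ₁ ∈ T ∧ χ₂ ∈ T ∧ χ₁ ≠ χ₂ ∧ charDegree χ₁ = H.index ∧ inducedIrrAbove H ⁅H, H⁆ ⊆ ↑T := by
  obtain ⟨T, hT⟩ := exists_finset_inducedIrrAbove H ⁅H, H⁆
  have he0 : 0 < H.index := Nat.pos_of_ne_zero Subgroup.index_ne_zero_of_finite
  have hTS : (↑T : Set (N → ℂ)) ⊆ feitSet H := by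
    rw [hT]; exact inducedIrrAbove_subset_feitSet H hC _
  have hdeg : ∀ ξ ∈ T, charDegree ξ = H.index := by
    intro ξ hξ
    have hξ' : ξ ∈ inducedIrrAbove H ⁅H, H⁆ := by rw [← hT]; exact hξ
    obtain ⟨θ, hθ, hθ1, hθA, rfl⟩ := hξ'
    have hlin := linear_of_commutator_le H ⁅H, H⁆ le_rfl θ hθ hθA
    have h2 := Cfsg.Agent.Lib.H23.apply_one_eq_charDegree _ hθ
    rw [hlin] at h2
    have h3 : charDegree θ = 1 := by exact_mod_cast h2.symm
    rw [charDegree_indFun H θ hθ (indFun_mem_feitSet H hC θ hθ hθ1).1, h3, mul_one]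
  have hcge : H.index + 1 ≤ (⁅H, H⁆).relIndex H :=
    frob_relIndex_ge H hC ⁅H, H⁆ H (Subgroup.commutator_le_left H H) le_rfl
      (fun h => commutator_ne_self_of_nilpotent H hnil hH1
        (le_antisymm (Subgroup.commutator_le_left H H) h))
  have hcmod := frob_relIndex_modEq_one H hC ⁅H, H⁆ H (Subgroup.commutator_le_left H H) le_rfl
  have hc2 : 2 * H.index ≤ (⁅H, H⁆).relIndex H - 1 := by
    have hd : H.index ∣ (⁅H, H⁆).relIndex H - 1 :=
      (Nat.modEq_iff_dvd' (by omega)).mp hcmod.symm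
    obtain ⟨k, hk⟩ := hd
    have hk1 : k ≠ 1 := by
      intro h; rw [h, mul_one] at hk; omega
    have hk0 : k ≠ 0 := by
      intro h; rw [h, mul_zero] at hk; omega
    have hk2 : 2 ≤ k := by omega
    rw [hk]
    calc 2 * H.index = H.index * 2 := by ring
      _ ≤ H.index * k := Nat.mul_le_mul_left _ hk2
  have hsum := sum_sq_ge H hC (A := ⁅H, H⁆) (T := T) (by rw [hT])
  rw [Finset.sum_congr rfl (fun ξ hξ => by rw [hdeg ξ hξ]), Finset.sum_const, smul_eq_mul] at hsum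
  have hcard : 2 ≤ T.card := by
    by_contra hcon
    have h1 : T.card ≤ 1 := by omega
    have h2 : T.card * H.index ^ 2 ≤ 1 * H.index ^ 2 := Nat.mul_le_mul_right _ h1
    have h3 : H.index * (2 * H.index) ≤ H.index * ((⁅H, H⁆).relIndex H - 1) :=
      Nat.mul_le_mul_left _ hc2
    nlinarith
  obtain ⟨Y, hY⟩ := fcoh_eqdeg hS H.index T hTS hdeg hcard
  obtain ⟨χ₁, h1, χ₂, h2, hne12⟩ := Finset.one_lt_card.mp (by omega : 1 < T.card)
  exact ⟨T, Y, χ₁, χ₂, hY, h1, h2, hne12, hdeg χ₁ h1, by rw [hT]⟩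

theorem feit_final (hC : ∀ h ∈ H, h ≠ 1 → Subgroup.centralizer ({h} : Set N) ≤ H)
    (hS : FeitSys (feitSet H) τ charDegree) {T : Finset (N → ℂ)} {Y : (N → ℂ) → (G → ℂ)}
    (hc : FCoh (feitSet H) τ T Y) {χ₁ χ₂ : N → ℂ} (h1 : χ₁ ∈ T) (h2 : χ₂ ∈ T) (hne : χ₁ ≠ χ₂)
    (hall : inducedIrrAbove H ⊥ ⊆ ↑T) : IsCoherent (feitSet H) ({1}ᶜ : Set N) τ := by
  have hTS : (↑T : Set (N → ℂ)) = feitSet H :=
    Set.Subset.antisymm hc.sub ((feitSet_subset_inducedIrrAbove H hC).trans hall)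
  rw [← hTS]
  exact isCoherent_of_fcoh hS hc h1 h2 hne

/-- Coherence when `|H:H'|` is large. -/
theorem feit_big_index (hC : ∀ h ∈ H, h ≠ 1 → Subgroup.centralizer ({h} : Set N) ≤ H)
    (hnil : Group.IsNilpotent ↥H) (hH1 : H ≠ ⊥) (hS : FeitSys (feitSet H) τ charDegree)
    (hbig : 4 * H.index ^ 2 + 2 ≤ (⁅H, H⁆).relIndex H) :
    IsCoherent (feitSet H) ({1}ᶜ : Set N) τ := by
  have he0 : 0 < H.index := Nat.pos_of_ne_zero Subgroup.index_ne_zero_of_finite
  have hne : (⁅H, H⁆).relIndex H ≠ H.index + 1 := by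
    have : H.index ≤ H.index ^ 2 := by nlinarith
    omega
  obtain ⟨T, Y, χ₁, χ₂, hc, h1, h2, hne12, hd1, hsub⟩ := feit_base H hC hnil hH1 hS hne
  obtain ⟨T', Y', hTT', hc', hall⟩ := feit_chain H hC hnil hS hd1 ⊥ ⊥ ⁅H, H⁆ bot_le
    (Subgroup.commutator_le_left H H) (by rw [Subgroup.commutator_bot_left])
    (by
      intro A' hA'n _ hA'le _
      rw [sup_bot_eq]
      apply feit_arith_two
      refine hbig.trans ?_
      apply Nat.le_of_dvd
      · apply Nat.pos_of_ne_zero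
        intro h
        have := Subgroup.relIndex_dvd_card A' H
        rw [h, zero_dvd_iff] at this
        exact (Nat.card_pos (α := H)).ne' this
      · exact Subgroup.relIndex_dvd_of_le_left H hA'le)
    ⁅H, H⁆ inferInstance bot_le le_rfl T Y hc h1 hsub
  exact feit_final H hC hS hc' (hTT' h1) (hTT' h2) hne12 hall

/-- Coherence when `H` is abelian and `|H| ≠ e + 1`. -/
theorem feit_abelian (hC : ∀ h ∈ H, h ≠ 1 → Subgroup.centralizer ({h} : Set N) ≤ H)
    (hnil : Group.IsNilpotent ↥H) (hH1 : H ≠ ⊥) (hS : FeitSys (feitSet H) τ charDegree)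
    (hab : IsMulCommutative H) (he : Nat.card H ≠ H.index + 1) :
    IsCoherent (feitSet H) ({1}ᶜ : Set N) τ := by
  have hbot : ⁅H, H⁆ = ⊥ := by
    rw [Subgroup.commutator_eq_bot_iff_le_centralizer]
    intro a ha
    rw [Subgroup.mem_centralizer_iff]
    intro b hb
    have := hab.is_comm.comm ⟨b, hb⟩ ⟨a, ha⟩
    exact congrArg Subtype.val this
  have hne : (⁅H, H⁆).relIndex H ≠ H.index + 1 := by
    rw [hbot, Subgroup.relIndex_bot_left]; exact he
  obtain ⟨T, Y, χ₁, χ₂, hc, h1, h2, hne12, hd1, hsub⟩ := feit_base H hC hnil hH1 hS hne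
  rw [hbot] at hsub
  exact feit_final H hC hS hc h1 h2 hne12 hsub

omit [Fintype N] in
/-- The Sylow `p`-subgroup of the nilpotent normal subgroup `H` is normal in `N`. -/
theorem exists_normal_sylow [Finite N] (hnil : Group.IsNilpotent ↥H) {p : ℕ} (hp : p.Prime)
    (hpH : p ∣ Nat.card H) :
    ∃ P : Subgroup N, P.Normal ∧ P ≤ H ∧ Nat.card P = p ^ (Nat.card H).factorization p ∧
      1 ≤ (Nat.card H).factorization p := by
  haveI : Fact p.Prime := ⟨hp⟩
  obtain ⟨P, hPH, hPp, hPcard, hPall⟩ := sylow_of_nilpotent H hnil p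
  refine ⟨P, ⟨?_⟩, hPH, hPcard, hp.factorization_pos_of_dvd Nat.card_pos.ne' hpH⟩
  intro x hx n
  apply hPall _ (hH.conj_mem x (hPH hx) n)
  obtain ⟨k, hk⟩ := hPp ⟨x, hx⟩
  refine ⟨k, ?_⟩
  have hk' : x ^ (p ^ k) = 1 := by
    have := congrArg Subtype.val hk
    simpa using this
  rw [conj_pow, hk', mul_one, mul_inv_cancel]

/-- Coherence when two distinct primes divide `|H|`. -/
theorem feit_two_primes (hC : ∀ h ∈ H, h ≠ 1 → Subgroup.centralizer ({h} : Set N) ≤ H)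
    (hnil : Group.IsNilpotent ↥H) (hS : FeitSys (feitSet H) τ charDegree) {p q : ℕ}
    (hp : p.Prime) (hq : q.Prime) (hpq : p ≠ q) (hpH : p ∣ Nat.card H) (hqH : q ∣ Nat.card H) :
    IsCoherent (feitSet H) ({1}ᶜ : Set N) τ := by
  have he1 : 1 ≤ H.index := Nat.pos_of_ne_zero Subgroup.index_ne_zero_of_finite
  obtain ⟨P, hPn, hPH, hPcard, hva⟩ := exists_normal_sylow H hnil hp hpH
  obtain ⟨Q, hQn, hQH, hQcard, hvb⟩ := exists_normal_sylow H hnil hq hqH
  haveI := hPn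
  haveI := hQn
  haveI := hnil
  obtain ⟨va, hvadef⟩ : ∃ va, va = (Nat.card H).factorization p := ⟨_, rfl⟩
  obtain ⟨vb, hvbdef⟩ : ∃ vb, vb = (Nat.card H).factorization q := ⟨_, rfl⟩
  rw [← hvadef] at hPcard hva
  rw [← hvbdef] at hQcard hvb
  have hH1 : H ≠ ⊥ := by
    intro h
    rw [h, Subgroup.card_bot] at hpH
    exact hp.one_lt.ne' (Nat.dvd_one.mp hpH)
  have hHP : ¬ H ≤ P := by
    intro h
    have hPeq : P = H := le_antisymm hPH h
    rw [hPeq] at hPcard
    rw [hPcard] at hqH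
    exact hpq ((Nat.prime_dvd_prime_iff_eq hq hp).mp (hq.dvd_of_dvd_pow hqH)).symm
  have hHQ : ¬ H ≤ Q := by
    intro h
    have hQeq : Q = H := le_antisymm hQH h
    rw [hQeq] at hQcard
    rw [hQcard] at hpH
    exact hpq ((Nat.prime_dvd_prime_iff_eq hp hq).mp (hp.dvd_of_dvd_pow hpH))
  have hPQ : P ⊓ Q = ⊥ := Subgroup.inf_eq_bot_of_coprime (by
    rw [hPcard, hQcard]
    exact Nat.Coprime.pow _ _ ((Nat.coprime_primes hp hq).mpr hpq))
  have hP1 : P ≠ ⊥ := by
    intro h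
    rw [h, Subgroup.card_bot] at hPcard
    have h1 : p ∣ 1 := by rw [hPcard]; exact dvd_pow_self p (by omega)
    exact hp.one_lt.ne' (Nat.dvd_one.mp h1)
  have hQH' : ¬ Q ≤ ⁅H, H⁆ := by
    intro h
    have h1 : q ∣ (⁅H, H⁆).relIndex H := by
      rw [relIndex_commutator_eq]; exact prime_dvd_index_commutator q hq hqH
    have h2 : (⁅H, H⁆).relIndex H ∣ Q.relIndex H := Subgroup.relIndex_dvd_of_le_left H h
    have h3 : Q.relIndex H * Nat.card Q = Nat.card H := by
      have := Subgroup.relIndex_mul_relIndex ⊥ Q H bot_le hQH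
      rw [Subgroup.relIndex_bot_left, Subgroup.relIndex_bot_left] at this
      rw [mul_comm]; exact this
    have h4 : q ^ (vb + 1) ∣ Nat.card H := by
      rw [← h3, hQcard, pow_succ']
      exact Nat.mul_dvd_mul (h1.trans h2) (dvd_refl _)
    rw [hvbdef] at h4
    exact Nat.pow_succ_factorization_not_dvd Nat.card_pos.ne' hq h4
  -- the central subgroup
  obtain ⟨Z, hZdef⟩ : ∃ Z : Subgroup N, Z = P ⊓ Subgroup.centralizer (H : Set N) := ⟨_, rfl⟩
  have hZn : Z.Normal := by rw [hZdef]; infer_instance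
  haveI := hZn
  have hZP : Z ≤ P := by rw [hZdef]; exact inf_le_left
  have hZ1 : Z ≠ ⊥ := by
    have hne : P.subgroupOf H ≠ ⊥ := by
      intro h
      rw [Subgroup.subgroupOf_eq_bot] at h
      apply hP1
      rw [← inf_eq_left.mpr hPH]
      exact disjoint_iff.mp h
    have h1 := Cfsg.Agent.Lib.H1.normal_inf_center_ne_bot (P.subgroupOf H) hne
    obtain ⟨a, ha1⟩ := (Subgroup.ne_bot_iff_exists_ne_one).mp h1
    obtain ⟨haP, haZ⟩ := Subgroup.mem_inf.mp a.2
    intro hZbot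
    apply ha1
    have hmem : ((a : ↥H) : N) ∈ Z := by
      rw [hZdef]
      refine Subgroup.mem_inf.mpr ⟨Subgroup.mem_subgroupOf.mp haP, ?_⟩
      rw [Subgroup.mem_centralizer_iff]
      intro h hh
      have := (Subgroup.mem_center_iff.mp haZ) ⟨h, hh⟩
      exact congrArg Subtype.val this
    rw [hZbot, Subgroup.mem_bot] at hmem
    apply Subtype.ext
    apply Subtype.ext
    exact hmem
  have hZcomm : ⁅Z, H⁆ ≤ ⊥ := by
    apply le_of_eq
    rw [Subgroup.commutator_eq_bot_iff_le_centralizer, hZdef]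
    exact inf_le_right
  have hcommH : ⁅H, H⁆ ≤ H := Subgroup.commutator_le_left H H
  have hQHcomm : ⁅Q, H⁆ ≤ ⁅H, H⁆ := Subgroup.commutator_mono hQH le_rfl
  have hQHQ : ⁅Q, H⁆ ≤ Q := Subgroup.commutator_le_left Q H
  have hHQ' : ¬ H ≤ ⁅H, H⁆ ⊔ Q := by
    intro h
    apply hHQ
    apply Cfsg.Agent.Lib.H14.le_of_le_sup_commutator_of_nilpotent H H Q le_rfl hQH
    · rw [Subgroup.normalizer_eq_top]; exact le_top
    · rw [sup_comm]; exact h
  have hHP' : ¬ H ≤ ⁅H, H⁆ ⊔ P := by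
    intro h
    apply hHP
    apply Cfsg.Agent.Lib.H14.le_of_le_sup_commutator_of_nilpotent H H P le_rfl hPH
    · rw [Subgroup.normalizer_eq_top]; exact le_top
    · rw [sup_comm]; exact h
  -- the index of the commutator subgroup
  have hne : (⁅H, H⁆).relIndex H ≠ H.index + 1 := by
    have hD_H : ⁅H, H⁆ ⊔ Q ≤ H := sup_le hcommH hQH
    have hz := frob_relIndex_ge H hC (⁅H, H⁆ ⊔ Q) H hD_H le_rfl hHQ'
    have hr := frob_relIndex_ge H hC ⁅H, H⁆ (⁅H, H⁆ ⊔ Q) le_sup_left hD_H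
      (fun h => hQH' (le_sup_right.trans h))
    have hmul := Subgroup.relIndex_mul_relIndex ⁅H, H⁆ (⁅H, H⁆ ⊔ Q) H le_sup_left hD_H
    rw [← hmul]
    have := Nat.mul_le_mul hr hz
    nlinarith
  obtain ⟨T, Y, χ₁, χ₂, hc, h1, h2, hne12, hd1, hsub⟩ := feit_base H hC hnil hH1 hS hne
  -- stage 1
  obtain ⟨T₁, Y₁, hTT₁, hc₁, hall₁⟩ := feit_chain H hC hnil hS hd1 ⁅Q, H⁆ Q ⁅H, H⁆ hQH hcommH
    le_rfl (by
      intro A' hA'n _ hA'le _
      haveI := hA'n
      have hD_H : A' ⊔ Q ≤ H := sup_le (hA'le.trans hcommH) hQH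
      have hz := frob_relIndex_ge H hC (A' ⊔ Q) H hD_H le_rfl
        (fun h => hHQ' (h.trans (sup_le_sup_right hA'le Q)))
      have hr := frob_relIndex_ge H hC A' (A' ⊔ Q) le_sup_left hD_H
        (fun h => hQH' ((le_sup_right.trans h).trans hA'le))
      have hmul := Subgroup.relIndex_mul_relIndex A' (A' ⊔ Q) H le_sup_left hD_H
      rw [← hmul, mul_comm (A'.relIndex (A' ⊔ Q))]
      exact feit_arith_one _ _ _ he1 hz hr)
    ⁅H, H⁆ inferInstance hQHcomm le_rfl T Y hc h1 hsub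
  -- stage 2
  obtain ⟨T₂, Y₂, hTT₂, hc₂, hall₂⟩ := feit_chain H hC hnil hS hd1 ⊥ Z ⁅Q, H⁆ (hZP.trans hPH)
    (hQHQ.trans hQH) hZcomm (by
      intro A' hA'n _ hA'le hA'bot
      haveI := hA'n
      have hD_H : A' ⊔ Z ≤ H := sup_le (hA'le.trans (hQHQ.trans hQH)) (hZP.trans hPH)
      have hz := frob_relIndex_ge H hC (A' ⊔ Z) H hD_H le_rfl
        (fun h => hHP' (h.trans (sup_le_sup (hA'le.trans hQHcomm) hZP)))
      have hr := frob_relIndex_ge H hC A' (A' ⊔ Z) le_sup_left hD_H (by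
        intro h
        apply hZ1
        rw [eq_bot_iff, ← hPQ]
        exact le_inf hZP ((le_sup_right.trans h).trans (hA'le.trans hQHQ)))
      have hmul := Subgroup.relIndex_mul_relIndex A' (A' ⊔ Z) H le_sup_left hD_H
      rw [← hmul, mul_comm (A'.relIndex (A' ⊔ Z))]
      exact feit_arith_one _ _ _ he1 hz hr)
    ⁅Q, H⁆ inferInstance bot_le le_rfl T₁ Y₁ hc₁ (hTT₁ h1) hall₁
  exact feit_final H hC hS hc₂ (hTT₂ (hTT₁ h1)) (hTT₂ (hTT₁ h2)) hne12 hall₂

end main

end Cfsg.Agent.Lib.H8
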