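import Mathlib
import Cfsg.Prelude.Def_CaseTheorems
import Cfsg.Agent.Lib.H5.Glaub.OddCore
import Cfsg.Agent.Lib.H24.G85NC
import Cfsg.Agent.Lib.H25.G85IDX6

/-!
# S4385, piece (A23) `abs_s4`

A finite group `K` of order `8 * odd` with a normal four-group `Q = {1,u,v,uv}` on which two
elements `a`, `b` act as two different transvections has `K / O(K) ≃ S₄`.
-/

set_option autoImplicit false

namespace Cfsg.Agent.Lib.H8.G85

/-- a subgroup whose elements are exactly `1, u, v, u * v` (`u ≠ v` involutions) has order 4 -/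
theorem card_eq_four_of_mem_iff {K : Type*} [Group K] (Q : Subgroup K) (u v : K)
    (hQ : ∀ g : K, g ∈ Q ↔ g = 1 ∨ g = u ∨ g = v ∨ g = u * v)
    (hu : u ≠ 1) (hv : v ≠ 1) (huv : u ≠ v) (hu2 : u * u = 1) : Nat.card Q = 4 := by
  classical
  have huv1 : u * v ≠ u := fun h => hv (by simpa using h)
  have huv2 : u * v ≠ v := fun h => hu (by simpa using h)
  have huv0 : u * v ≠ 1 := by
    intro h
    apply huv
    have h1 : u * v = u * u := by rw [h, hu2]
    exact (mul_left_cancel h1).symm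
  have hset : (Q : Set K) = {1, u, v, u * v} := by
    ext g
    simp only [SetLike.mem_coe, Set.mem_insert_iff, Set.mem_singleton_iff]
    exact hQ g
  have hcs : Nat.card Q = (Q : Set K).ncard := Nat.card_coe_set_eq (Q : Set K)
  rw [hcs, hset]
  rw [Set.ncard_insert_of_notMem, Set.ncard_insert_of_notMem, Set.ncard_insert_of_notMem,
    Set.ncard_singleton]
  · simp only [Set.mem_singleton_iff]
    exact fun h => huv2 h.symm
  · simp only [Set.mem_insert_iff, Set.mem_singleton_iff, not_or]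
    exact ⟨huv, fun h => huv1 h.symm⟩
  · simp only [Set.mem_insert_iff, Set.mem_singleton_iff, not_or]
    exact ⟨fun h => hu h.symm, fun h => hv h.symm, fun h => huv0 h.symm⟩

/-- (A23) normal four-group `Q = {1,u,v,uv}`, `a`, `b` act on it as two different transvections,
`|K| = 8 * odd`. -/
theorem abs_s4 {K : Type*} [Group K] [Finite K] (Q : Subgroup K) [Q.Normal] (u v a b : K)
    (hQ : ∀ g : K, g ∈ Q ↔ g = 1 ∨ g = u ∨ g = v ∨ g = u * v)
    (hu : u ≠ 1) (hv : v ≠ 1) (huv : u ≠ v) (hu2 : u * u = 1) (hv2 : v * v = 1) (hc : u * v = v * u)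
    (hav : a * v * a⁻¹ = v) (hau : a * u * a⁻¹ = u * v)
    (hbu : b * u * b⁻¹ = u) (hbv : b * v * b⁻¹ = v * u)
    (hcard : ∃ m : ℕ, ¬ 2 ∣ m ∧ Nat.card K = 8 * m) :
    Nonempty (K ⧸ Cfsg.oddCore K ≃* Equiv.Perm (Fin 4)) := by
  obtain ⟨m, hm, hK⟩ := hcard
  have hQ4 : Nat.card Q = 4 := card_eq_four_of_mem_iff Q u v hQ hu hv huv hu2
  -- exponent 2
  have hQexp : ∀ x ∈ Q, x ^ 2 = 1 := by
    intro x hx
    rcases (hQ x).1 hx with rfl | rfl | rfl | rfl
    · simp
    · rw [pow_two, hu2]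
    · rw [pow_two, hv2]
    · rw [pow_two]
      calc u * v * (u * v) = u * (v * u) * v := by group
        _ = u * (u * v) * v := by rw [hc]
        _ = (u * u) * (v * v) := by group
        _ = 1 := by rw [hu2, hv2, one_mul]
  -- `Q` is a 2-group
  have hQp : IsPGroup 2 Q := IsPGroup.of_card (n := 2) (by rw [hQ4]; norm_num)
  -- `Q` is abelian
  have hQc : ∀ x ∈ Q, ∀ y ∈ Q, x * y = y * x := by
    intro x hx y hy
    have hxy : (x * y) ^ 2 = 1 := hQexp _ (Q.mul_mem hx hy)
    have hx2 := hQexp x hx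
    have hy2 := hQexp y hy
    rw [pow_two] at hxy hx2 hy2
    calc x * y = (x * y)⁻¹ := (inv_eq_of_mul_eq_one_right hxy).symm
      _ = y⁻¹ * x⁻¹ := mul_inv_rev x y
      _ = y * x := by rw [inv_eq_of_mul_eq_one_right hy2, inv_eq_of_mul_eq_one_right hx2]
  -- `|K : C_K(Q)| = 6`
  have hC6 : (Subgroup.centralizer (Q : Set K)).index = 6 :=
    Cfsg.Agent.Lib.H25.G85.index_centralizer_eq_six Q u v a b hQ hu hv huv hu2 hv2 hc hav hau hbu hbv
  have hQC : Q ≤ Subgroup.centralizer (Q : Set K) :=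
    fun x hx => Subgroup.mem_centralizer_iff.2 (fun y hy => hQc y hy x hx)
  -- `|C_K(Q) : Q|` is odd
  have hrel : Q.relIndex (Subgroup.centralizer (Q : Set K)) * 3 = m := by
    have h1 := Subgroup.relIndex_mul_index hQC
    have h2 := Subgroup.index_mul_card Q
    rw [hC6] at h1
    rw [← h1, hQ4, hK] at h2
    omega
  have hodd : ¬ 2 ∣ Q.relIndex (Subgroup.centralizer (Q : Set K)) := by
    intro h
    apply hm
    rw [← hrel]
    exact Dvd.dvd.mul_right h 3
  obtain ⟨O, hOn, hOc, _, hCle, hOidx⟩ :=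
    Cfsg.Agent.Lib.H24.G85.exists_odd_complement Q hQp hQc hodd
  have hidx : O.index = 24 := by rw [hOidx, hC6, hQ4]
  haveI := hOn
  haveI : Fact (Nat.Prime 2) := ⟨Nat.prime_two⟩
  haveI : (Cfsg.oddCore K).Normal := Cfsg.Agent.Lib.H22.pPrimeCore_normal 2
  exact Cfsg.Agent.Lib.H5.Glaub.quot_oddCore_s4 O hOc hidx Q hQ4 hQexp hCle

end Cfsg.Agent.Lib.H8.G85
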