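import Mathlib

/-!
# S1951, piece E (helper12's sigs): the arithmetic endgame, exact signature `endgame`.
-/

set_option autoImplicit false

namespace Cfsg.Agent.Lib.H8.GR

open Finset

/-- termwise: `f > 0`, and `f ≥ d + t`, `t ≥ d² + 1` when `d > 0`, give `d³ / f ≤ d² / 3`. -/
theorem term_le_third (d f t : ℤ) (hfpos : 0 < f) (hf : 0 < d → d + t ≤ f) (ht : d ^ 2 + 1 ≤ t) :
    (d : ℚ) ^ 3 / (f : ℚ) ≤ (d : ℚ) ^ 2 / 3 := by
  have hfK : (0 : ℚ) < (f : ℚ) := by exact_mod_cast hfpos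
  rw [div_le_div_iff₀ hfK (by norm_num : (0 : ℚ) < 3)]
  have hz : d ^ 3 * 3 ≤ d ^ 2 * f := by
    rcases lt_or_ge 0 d with h | h
    · have h1 : 0 ≤ f - (d ^ 2 + d + 1) := by linarith [hf h]
      nlinarith [mul_nonneg (sq_nonneg d) h1, mul_nonneg (sq_nonneg d) (sq_nonneg (d - 1))]
    · have h3 : d ^ 3 ≤ 0 := Odd.pow_nonpos (by decide : Odd 3) h
      have h4 : 0 ≤ d ^ 2 * f := mul_nonneg (sq_nonneg d) hfpos.le
      linarith
  exact_mod_cast hz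

theorem sq_add_one_le {ι : Type*} (s : Finset ι) (d : ι → ℤ) (t : ℤ)
    (hsq : ∑ i ∈ s, d i ^ 2 = t - 1) {i : ι} (hi : i ∈ s) : d i ^ 2 + 1 ≤ t := by
  have := Finset.single_le_sum (f := fun i => d i ^ 2) (fun j _ => sq_nonneg (d j)) hi
  linarith

/-- summed: `∑ d³ / f ≤ (t - 1) / 3`. -/
theorem sum_le {ι : Type*} (s : Finset ι) (d f : ι → ℤ) (t : ℤ)
    (hfpos : ∀ i ∈ s, 0 < f i) (hf : ∀ i ∈ s, 0 < d i → d i + t ≤ f i)
    (hsq : ∑ i ∈ s, d i ^ 2 = t - 1) :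
    ∑ i ∈ s, (d i : ℚ) ^ 3 / (f i : ℚ) ≤ ((t : ℚ) - 1) / 3 := by
  have h1 : ∑ i ∈ s, (d i : ℚ) ^ 3 / (f i : ℚ) ≤ ∑ i ∈ s, (d i : ℚ) ^ 2 / 3 :=
    Finset.sum_le_sum fun i hi =>
      term_le_third (d i) (f i) t (hfpos i hi) (hf i hi) (sq_add_one_le s d t hsq hi)
  have h2 : ∑ i ∈ s, (d i : ℚ) ^ 2 / 3 = ((t : ℚ) - 1) / 3 := by
    rw [← Finset.sum_div]
    congr 1
    have : ((∑ i ∈ s, d i ^ 2 : ℤ) : ℚ) = ((t - 1 : ℤ) : ℚ) := by rw [hsq]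
    push_cast at this
    exact this
  rw [h2] at h1
  exact h1

/-- the lower bound forces `p = 3 = q`. -/
theorem p_eq_three_and_q_eq_three (p n : ℕ) (hp : p.Prime) (hp2 : p ≠ 2) (hn : 1 ≤ n)
    (S : ℚ) (hup : S ≤ (((p ^ n : ℕ) : ℚ) - 1) / 3)
    (hlow : ((p : ℚ) - 2) * ((p ^ n : ℕ) : ℚ) ≤ ((p : ℚ) - 1) * (1 + S)) :
    p = 3 ∧ p ^ n = 3 := by
  have hp3 : 3 ≤ p := by
    have := hp.two_le
    omega
  have hp1 : (0 : ℚ) ≤ (p : ℚ) - 1 := by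
    have : (1 : ℚ) ≤ (p : ℚ) := by exact_mod_cast hp.one_le
    linarith
  set t : ℕ := p ^ n with ht
  have h1 : ((p : ℚ) - 2) * (t : ℚ) ≤ ((p : ℚ) - 1) * ((t : ℚ) + 2) / 3 := by
    calc ((p : ℚ) - 2) * (t : ℚ)
        ≤ ((p : ℚ) - 1) * (1 + S) := hlow
      _ ≤ ((p : ℚ) - 1) * (1 + ((t : ℚ) - 1) / 3) :=
          mul_le_mul_of_nonneg_left (by linarith) hp1
      _ = _ := by ring
  have htp : p ≤ t := by
    calc p = p ^ 1 := (pow_one p).symm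
      _ ≤ p ^ n := Nat.pow_le_pow_right hp.pos hn
  have h2 : (3 : ℤ) * ((p : ℤ) - 2) * (t : ℤ) ≤ ((p : ℤ) - 1) * ((t : ℤ) + 2) := by
    have h4 : (((3 : ℤ) * ((p : ℤ) - 2) * (t : ℤ) : ℤ) : ℚ) ≤
        ((((p : ℤ) - 1) * ((t : ℤ) + 2) : ℤ) : ℚ) := by
      push_cast
      linarith
    exact_mod_cast h4
  have hpZ : (3 : ℤ) ≤ p := by exact_mod_cast hp3
  have htZ : (p : ℤ) ≤ t := by exact_mod_cast htp
  have hp_lt : p < 5 := by
    by_contra hcon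
    have h5 : (5 : ℤ) ≤ p := by
      have : 5 ≤ p := by omega
      exact_mod_cast this
    nlinarith
  have hp_eq : p = 3 := by
    have h4 : p ≠ 4 := by
      intro h
      rw [h] at hp
      exact absurd hp (by norm_num)
    omega
  refine ⟨hp_eq, ?_⟩
  have hpz3 : (p : ℤ) = 3 := by exact_mod_cast hp_eq
  rw [hpz3] at h2
  have ht4 : (t : ℤ) ≤ 4 := by linarith
  have ht4' : t ≤ 4 := by exact_mod_cast ht4
  rcases Nat.lt_or_ge n 2 with hn2 | hn2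
  · have : n = 1 := by omega
    rw [ht, this, hp_eq]
    norm_num
  · exfalso
    have : p ^ 2 ≤ p ^ n := Nat.pow_le_pow_right hp.pos hn2
    rw [hp_eq] at this
    rw [ht, hp_eq] at ht4'
    omega

/-- the endgame `p = 3 = q`. -/
theorem false_of_three {ι : Type*} (s : Finset ι) (d f : ι → ℤ)
    (hfpos : ∀ i ∈ s, 0 < f i) (hf : ∀ i ∈ s, 0 < d i → d i + 3 ≤ f i)
    (hsq : ∑ i ∈ s, d i ^ 2 = 2)
    (hpsi : 1 + ∑ i ∈ s, d i * f i = 0)
    (hlow : (1 : ℚ) / 2 ≤ ∑ i ∈ s, (d i : ℚ) ^ 3 / (f i : ℚ)) : False := by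
  have hd : ∀ i ∈ s, d i = -1 ∨ d i = 0 ∨ d i = 1 := by
    intro i hi
    have h := sq_add_one_le s d 3 (by rw [hsq]; norm_num) hi
    have h1 : -1 ≤ d i := by nlinarith
    have h2 : d i ≤ 1 := by nlinarith
    omega
  have hterm : ∀ i ∈ s, 0 ≤ (d i : ℚ) ^ 2 / 4 - (d i : ℚ) ^ 3 / (f i : ℚ) := by
    intro i hi
    have hfK0 : (0 : ℚ) < (f i : ℚ) := by exact_mod_cast hfpos i hi
    rcases hd i hi with h | h | h
    · rw [h]
      have : (0 : ℚ) ≤ 1 / (f i : ℚ) := by positivity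
      have e : ((-1 : ℤ) : ℚ) ^ 3 / (f i : ℚ) = -(1 / (f i : ℚ)) := by
        push_cast; ring
      rw [e]
      push_cast
      linarith
    · rw [h]; simp
    · have hfi : (4 : ℤ) ≤ f i := by
        have := hf i hi (by rw [h]; norm_num)
        rw [h] at this
        linarith
      have hfK : (4 : ℚ) ≤ (f i : ℚ) := by exact_mod_cast hfi
      rw [h]
      have : 1 / (f i : ℚ) ≤ 1 / 4 := one_div_le_one_div_of_le (by norm_num) hfK
      push_cast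
      have e : (1 : ℚ) ^ 3 / (f i : ℚ) = 1 / (f i : ℚ) := by ring
      rw [e]
      linarith
  have hsumK : ∑ i ∈ s, (d i : ℚ) ^ 2 / 4 = 1 / 2 := by
    rw [← Finset.sum_div]
    have : ((∑ i ∈ s, d i ^ 2 : ℤ) : ℚ) = ((2 : ℤ) : ℚ) := by rw [hsq]
    push_cast at this
    rw [this]
    norm_num
  have hzero : ∑ i ∈ s, ((d i : ℚ) ^ 2 / 4 - (d i : ℚ) ^ 3 / (f i : ℚ)) ≤ 0 := by
    rw [Finset.sum_sub_distrib, hsumK]
    linarith
  have hall : ∀ i ∈ s, (d i : ℚ) ^ 2 / 4 - (d i : ℚ) ^ 3 / (f i : ℚ) = 0 := by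
    have h0 : ∑ i ∈ s, ((d i : ℚ) ^ 2 / 4 - (d i : ℚ) ^ 3 / (f i : ℚ)) = 0 :=
      le_antisymm hzero (Finset.sum_nonneg hterm)
    exact (Finset.sum_eq_zero_iff_of_nonneg hterm).mp h0
  have hdf : ∀ i ∈ s, d i * f i = 4 * d i ^ 2 := by
    intro i hi
    have h0 := hall i hi
    have hfK0 : (0 : ℚ) < (f i : ℚ) := by exact_mod_cast hfpos i hi
    rcases hd i hi with h | h | h
    · exfalso
      rw [h] at h0
      have hpos : (0 : ℚ) < 1 / (f i : ℚ) := by positivity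
      have e : ((-1 : ℤ) : ℚ) ^ 3 / (f i : ℚ) = -(1 / (f i : ℚ)) := by
        push_cast; ring
      rw [e] at h0
      push_cast at h0
      linarith
    · rw [h]; ring
    · rw [h] at h0
      push_cast at h0
      have e : (1 : ℚ) ^ 3 / (f i : ℚ) = 1 / (f i : ℚ) := by ring
      rw [e] at h0
      have h14 : 1 / (f i : ℚ) = 1 / 4 := by linarith
      have hf4 : (f i : ℚ) = 4 := by
        have := congrArg (fun x => 1 / x) h14
        simpa using this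
      have hf4' : f i = 4 := by exact_mod_cast hf4
      rw [h, hf4']
      norm_num
  have hsum : ∑ i ∈ s, d i * f i = 8 := by
    rw [Finset.sum_congr rfl hdf, ← Finset.mul_sum, hsq]
    norm_num
  rw [hsum] at hpsi
  norm_num at hpsi

/-- **E** (exact signature of `tools/blueprints/S1951_sigs.lean`). -/
theorem endgame {ι : Type*} [Fintype ι] [DecidableEq ι] (i₀ : ι) (c : ι → ℤ) (d : ι → ℕ) (p q : ℕ)
    (hp : p.Prime) (hp2 : p ≠ 2) (hq : ∃ n : ℕ, 0 < n ∧ q = p ^ n)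
    (hc0 : c i₀ = 1) (hd0 : d i₀ = 1) (hdpos : ∀ i, 0 < d i)
    (hdeg : ∀ i, i ≠ i₀ → 0 < c i → c i + (q : ℤ) ≤ (d i : ℤ))
    (hG : ∑ i, (c i) ^ 2 = (q : ℤ)) (hI1 : ∑ i, c i * (d i : ℤ) = 0)
    (t : ℚ) (ht0 : 0 ≤ t) (ht : ((p : ℚ) - 1) * t ≤ 1)
    (hI : ∑ i, ((c i : ℚ) ^ 3) / (d i : ℚ) = (1 - t) * (q : ℚ)) : False := by
  obtain ⟨n, hn, rfl⟩ := hq
  set s : Finset ι := Finset.univ.erase i₀ with hs
  have hi₀ : i₀ ∈ (Finset.univ : Finset ι) := Finset.mem_univ _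
  let f : ι → ℤ := fun i => (d i : ℤ)
  -- split off the trivial character
  have hsq : ∑ i ∈ s, c i ^ 2 = ((p ^ n : ℕ) : ℤ) - 1 := by
    have := Finset.add_sum_erase Finset.univ (fun i => c i ^ 2) hi₀
    simp only [hc0] at this
    rw [hG] at this
    rw [hs]
    linarith
  have hpsi : 1 + ∑ i ∈ s, c i * f i = 0 := by
    have := Finset.add_sum_erase Finset.univ (fun i => c i * (d i : ℤ)) hi₀
    simp only [hc0, hd0] at this
    rw [hI1] at this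
    rw [hs]
    simp only [f]
    push_cast at this
    linarith
  have hcube : 1 + ∑ i ∈ s, (c i : ℚ) ^ 3 / (f i : ℚ) = (1 - t) * ((p ^ n : ℕ) : ℚ) := by
    have := Finset.add_sum_erase Finset.univ (fun i => (c i : ℚ) ^ 3 / (d i : ℚ)) hi₀
    simp only [hc0, hd0] at this
    rw [hI] at this
    rw [hs]
    simp only [f]
    push_cast at this ⊢
    linarith
  have hfpos : ∀ i ∈ s, 0 < f i := fun i _ => by
    simp only [f]
    exact_mod_cast hdpos i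
  have hf : ∀ i ∈ s, 0 < c i → c i + ((p ^ n : ℕ) : ℤ) ≤ f i := fun i hi h =>
    hdeg i (Finset.ne_of_mem_erase hi) h
  have hup := sum_le s c f ((p ^ n : ℕ) : ℤ) hfpos hf hsq
  have hp1 : (0 : ℚ) < (p : ℚ) - 1 := by
    have : (2 : ℚ) ≤ (p : ℚ) := by exact_mod_cast hp.two_le
    linarith
  have hqpos : (0 : ℚ) ≤ ((p ^ n : ℕ) : ℚ) := Nat.cast_nonneg _
  -- lower bound
  have hlow : ((p : ℚ) - 2) * ((p ^ n : ℕ) : ℚ) ≤
      ((p : ℚ) - 1) * (1 + ∑ i ∈ s, (c i : ℚ) ^ 3 / (f i : ℚ)) := by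
    rw [hcube]
    have h1 : ((p : ℚ) - 2) ≤ ((p : ℚ) - 1) * (1 - t) := by linarith
    calc ((p : ℚ) - 2) * ((p ^ n : ℕ) : ℚ) ≤ (((p : ℚ) - 1) * (1 - t)) * ((p ^ n : ℕ) : ℚ) :=
          mul_le_mul_of_nonneg_right h1 hqpos
      _ = _ := by ring
  have hup' : ∑ i ∈ s, (c i : ℚ) ^ 3 / (f i : ℚ) ≤ (((p ^ n : ℕ) : ℚ) - 1) / 3 := by
    have e : (((p ^ n : ℕ) : ℤ) : ℚ) = ((p ^ n : ℕ) : ℚ) := by push_cast; rfl
    rw [e] at hup
    exact hup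
  obtain ⟨hp3, hq3⟩ := p_eq_three_and_q_eq_three p n hp hp2 hn _ hup' hlow
  rw [hq3] at hf hsq hlow
  rw [hp3] at hlow
  refine false_of_three s c f hfpos (fun i hi h => by simpa using hf i hi h) ?_ hpsi ?_
  · rw [hsq]; norm_num
  · push_cast at hlow
    linarith

end Cfsg.Agent.Lib.H8.GR
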