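import Mathlib

/-!
# A counting lemma on additively separable functions on a grid (helper8)

`grid_few_nonzero`: if `a (i, j) = f i + g j` on a finite grid `I × J` with `n₁ ≤ |I|`,
`n₁ + 2 ≤ n₂ ≤ |J|` has fewer than `2 n₁` nonzero values, then `a` vanishes identically, or is
supported on a single column `j = j₀` with constant value, or on a single row `i = i₀` with
constant value.
-/

set_option autoImplicit false

namespace Cfsg.Agent.Lib.H8

open Classical in
theorem grid_few_nonzero {I J : Type*} [Fintype I] [Fintype J] (f : I → ℂ) (g : J → ℂ)
    (n₁ n₂ : ℕ) (hI : n₁ ≤ Fintype.card I) (hJ : n₂ ≤ Fintype.card J) (h12 : n₁ + 2 ≤ n₂)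
    (hfew : (Finset.univ.filter (fun p : I × J => f p.1 + g p.2 ≠ 0)).card < 2 * n₁) :
    (∀ i j, f i + g j = 0) ∨
    (∃ (j₀ : J) (c : ℂ), ∀ i j, f i + g j = if j = j₀ then c else 0) ∨
    (∃ (i₀ : I) (c : ℂ), ∀ i j, f i + g j = if i = i₀ then c else 0) := by
  set S := Finset.univ.filter (fun p : I × J => f p.1 + g p.2 ≠ 0) with hS
  have memS : ∀ p : I × J, p ∈ S ↔ f p.1 + g p.2 ≠ 0 := by
    intro p; simp [hS]
  by_cases hg : ∀ j j', g j = g j'
  · -- g constant: a depends only on i
    by_cases hz : ∀ i j, f i + g j = 0
    · exact Or.inl hz
    · right; right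
      push Not at hz
      obtain ⟨i₀, j₀, h0⟩ := hz
      refine ⟨i₀, f i₀ + g j₀, fun i j => ?_⟩
      by_cases hi : i = i₀
      · rw [if_pos hi, hi, hg j j₀]
      · rw [if_neg hi]
        by_contra hne
        -- two rows nonzero
        have hsub : ({i, i₀} : Finset I) ×ˢ (Finset.univ : Finset J) ⊆ S := by
          intro p hp
          rw [Finset.mem_product] at hp
          rw [memS]
          rcases Finset.mem_insert.mp hp.1 with h | h
          · rw [h, hg p.2 j]; exact hne
          · rw [Finset.mem_singleton.mp h, hg p.2 j₀]; exact h0
        have hcard := Finset.card_le_card hsub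
        rw [Finset.card_product, Finset.card_pair hi, Finset.card_univ] at hcard
        omega
  · by_cases hf : ∀ i i', f i = f i'
    · -- f constant: a depends only on j
      by_cases hz : ∀ i j, f i + g j = 0
      · exact Or.inl hz
      · right; left
        push Not at hz
        obtain ⟨i₀, j₀, h0⟩ := hz
        refine ⟨j₀, f i₀ + g j₀, fun i j => ?_⟩
        by_cases hj : j = j₀
        · rw [if_pos hj, hj, hf i i₀]
        · rw [if_neg hj]
          by_contra hne
          have hsub : (Finset.univ : Finset I) ×ˢ ({j, j₀} : Finset J) ⊆ S := by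
            intro p hp
            rw [Finset.mem_product] at hp
            rw [memS]
            rcases Finset.mem_insert.mp hp.2 with h | h
            · rw [h, hf p.1 i]; exact hne
            · rw [Finset.mem_singleton.mp h, hf p.1 i₀]; exact h0
          have hcard := Finset.card_le_card hsub
          rw [Finset.card_product, Finset.card_pair hj, Finset.card_univ] at hcard
          omega
    · -- neither constant: too many nonzero entries
      exfalso
      push Not at hg hf
      obtain ⟨j₁, j₂, hj⟩ := hg
      obtain ⟨i₁, i₂, hi⟩ := hf
      set F₁ : J → I × J := fun j => if f i₁ + g j ≠ 0 then (i₁, j) else (i₂, j) with hF₁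
      set F₂ : I → I × J := fun i => if f i + g j₁ ≠ 0 then (i, j₁) else (i, j₂) with hF₂
      have hF₁snd : ∀ j, (F₁ j).2 = j := by
        intro j; simp only [hF₁]; split_ifs <;> rfl
      have hF₁fst : ∀ j, (F₁ j).1 = i₁ ∨ (F₁ j).1 = i₂ := by
        intro j; simp only [hF₁]; split_ifs
        · left; rfl
        · right; rfl
      have hF₂fst : ∀ i, (F₂ i).1 = i := by
        intro i; simp only [hF₂]; split_ifs <;> rfl
      have hF₁S : ∀ j, F₁ j ∈ S := by
        intro j
        rw [memS]
        simp only [hF₁]
        split_ifs with h
        · exact h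
        · push Not at h
          intro h'
          apply hi
          have : f i₁ + g j = f i₂ + g j := by rw [h, h']
          exact add_right_cancel this
      have hF₂S : ∀ i, F₂ i ∈ S := by
        intro i
        rw [memS]
        simp only [hF₂]
        split_ifs with h
        · exact h
        · push Not at h
          intro h'
          apply hj
          have : f i + g j₁ = f i + g j₂ := by rw [h, h']
          exact add_left_cancel this
      have hF₁inj : Function.Injective F₁ := by
        intro j j' h
        rw [← hF₁snd j, ← hF₁snd j', h]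
      have hF₂inj : Function.Injective F₂ := by
        intro i i' h
        rw [← hF₂fst i, ← hF₂fst i', h]
      set T₁ := Finset.univ.image F₁ with hT₁
      set T₂ := ((Finset.univ.erase i₁).erase i₂).image F₂ with hT₂
      have hdisj : Disjoint T₁ T₂ := by
        rw [Finset.disjoint_left]
        intro p hp₁ hp₂
        obtain ⟨j, -, rfl⟩ := Finset.mem_image.mp hp₁
        obtain ⟨i, hi', h⟩ := Finset.mem_image.mp hp₂
        have h1 : i ≠ i₂ := (Finset.mem_erase.mp hi').1
        have h2 : i ≠ i₁ := (Finset.mem_erase.mp (Finset.mem_erase.mp hi').2).1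
        have h3 : (F₁ j).1 = i := by rw [← h, hF₂fst]
        rcases hF₁fst j with h4 | h4
        · exact h2 (h3.symm.trans h4)
        · exact h1 (h3.symm.trans h4)
      have hsub : T₁ ∪ T₂ ⊆ S := by
        intro p hp
        rcases Finset.mem_union.mp hp with h | h
        · obtain ⟨j, -, rfl⟩ := Finset.mem_image.mp h
          exact hF₁S j
        · obtain ⟨i, -, rfl⟩ := Finset.mem_image.mp h
          exact hF₂S i
      have hcard := Finset.card_le_card hsub
      rw [Finset.card_union_of_disjoint hdisj, hT₁, hT₂,
        Finset.card_image_of_injective _ hF₁inj,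
        Finset.card_image_of_injective _ hF₂inj, Finset.card_univ] at hcard
      have h1 : Fintype.card I - 1 ≤ (Finset.univ.erase i₁).card := by
        rw [Finset.card_erase_of_mem (Finset.mem_univ _), Finset.card_univ]
      have h2 : (Finset.univ.erase i₁).card - 1 ≤ ((Finset.univ.erase i₁).erase i₂).card :=
        Finset.pred_card_le_card_erase
      omega

end Cfsg.Agent.Lib.H8
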