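import Cfsg.Agent.Lib.H13.HSDefs2
import Cfsg.Agent.Lib.H24.HSP2

/-!
# S2535 stage 2, piece A2 (helper8): point stabilizers of transitive Hall subgroups of `A_n`

`alt_ptRes`, `alt_transport_point`, `alt_transport_set` (exact signatures of
`tools/blueprints/S2535_sigs.lean`), plus the shared facts `mem_altSub_iff`, `ptLift_mem_altSub_iff`,
`altSub_comap_ptLift`, `card_ptRes_dvd`.
-/

set_option linter.unusedSectionVars false

namespace Cfsg.Agent.Lib.H8.HS

open Equiv MulAction Cfsg.Agent.Lib.H13.HS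
open scoped Pointwise

/-- membership in `altSub` in terms of the sign, for any choice of instances. -/
theorem mem_altSub_iff {α : Type*} [Fintype α] [DecidableEq α] (g : Perm α) :
    g ∈ altSub α ↔ Equiv.Perm.sign g = 1 := by
  rw [altSub_eq, Equiv.Perm.mem_alternatingGroup]

/-- extension by the identity does not change the parity. -/
theorem ptLift_mem_altSub_iff {α : Type*} [Finite α] (a : α) (σ : Perm {x : α // x ≠ a}) :
    ptLift a σ ∈ altSub α ↔ σ ∈ altSub {x : α // x ≠ a} := by
  classical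
  haveI : Fintype α := Fintype.ofFinite α
  rw [mem_altSub_iff, mem_altSub_iff]
  have : Equiv.Perm.sign (ptLift a σ) = Equiv.Perm.sign σ := by
    unfold ptLift
    have h := @Equiv.Perm.sign_ofSubtype α _ _ (fun x => x ≠ a) (Classical.decPred _) _ σ
    convert h
  rw [this]

theorem altSub_comap_ptLift {α : Type*} [Finite α] (a : α) :
    (altSub α).comap (ptLift a) = altSub {x : α // x ≠ a} := by
  ext σ
  rw [Subgroup.mem_comap, ptLift_mem_altSub_iff]

theorem ptLift_range {α : Type*} (a : α) : (ptLift a).range = stabilizer (Perm α) a :=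
  Cfsg.Agent.Lib.H24.HS.p2_range_ofSubtype a

theorem ptLift_injective {α : Type*} (a : α) : Function.Injective (ptLift a) :=
  @Equiv.Perm.ofSubtype_injective α (fun x => x ≠ a) (Classical.decPred _)

/-- the order of `ptRes M a` divides the order of `M`. -/
theorem card_ptRes_dvd {α : Type*} [Finite α] (M : Subgroup (Perm α)) (a : α) :
    Nat.card (ptRes M a) ∣ Nat.card M := by
  let j : (ptRes M a) →* M :=
    { toFun := fun x => ⟨ptLift a x.1, x.2⟩
      map_one' := by ext : 1; simp
      map_mul' := by intro x y; ext : 1; simp }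
  refine Subgroup.card_dvd_of_injective j ?_
  intro x y hxy
  have : ptLift a x.1 = ptLift a y.1 := congrArg Subtype.val hxy
  exact Subtype.ext (ptLift_injective a this)

/-- for a subgroup `B` transitive on `α`, the point stabilizer has relative index `|α|` in `B`. -/
theorem relIndex_stabilizer_of_transitive {α : Type*} [Finite α] (B : Subgroup (Perm α))
    (htr : IsPretransitive B α) (a : α) :
    (stabilizer (Perm α) a).relIndex B = Nat.card α := by
  have : (stabilizer (Perm α) a).subgroupOf B = stabilizer B a := by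
    ext h
    rw [Subgroup.mem_subgroupOf, mem_stabilizer_iff, mem_stabilizer_iff]
    rfl
  rw [Subgroup.relIndex, this]
  exact index_stabilizer_of_transitive B a

theorem isPretransitive_of_le {α : Type*} {M B : Subgroup (Perm α)} (h : M ≤ B)
    (htr : IsPretransitive M α) : IsPretransitive B α := by
  refine ⟨fun x y => ?_⟩
  obtain ⟨m, hm⟩ := htr.exists_smul_eq x y
  exact ⟨⟨m.1, h m.2⟩, hm⟩

/-- the relative index of the point stabilizers equals the relative index, for transitive `M ≤ B`. -/
theorem relIndex_comap_ptLift {α : Type*} [Finite α] {M B : Subgroup (Perm α)} (hMB : M ≤ B)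
    (htr : IsPretransitive M α) (a : α) :
    (M.comap (ptLift a)).relIndex (B.comap (ptLift a)) = M.relIndex B := by
  set K := stabilizer (Perm α) a with hK
  have htrB : IsPretransitive B α := isPretransitive_of_le hMB htr
  rw [Subgroup.relIndex_comap, Subgroup.map_comap_eq, ptLift_range a, ← hK]
  -- goal: M.relIndex (K ⊓ B) = M.relIndex B
  have e1 : M.relIndex (K ⊓ B) = (M ⊓ K).relIndex (K ⊓ B) := by
    rw [← Subgroup.inf_relIndex_right M (K ⊓ B)]
    congr 1
    rw [← inf_assoc, inf_comm M K, inf_assoc, inf_eq_left.mpr hMB, inf_comm]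
  have h1 : (M ⊓ K).relIndex (K ⊓ B) * (K ⊓ B).relIndex B = (M ⊓ K).relIndex B :=
    Subgroup.relIndex_mul_relIndex _ _ _ (by
      intro x hx; exact ⟨hx.2, hMB hx.1⟩) inf_le_right
  have h2 : (M ⊓ K).relIndex M * M.relIndex B = (M ⊓ K).relIndex B :=
    Subgroup.relIndex_mul_relIndex _ _ _ inf_le_left hMB
  have h3 : (K ⊓ B).relIndex B = Nat.card α := by
    rw [Subgroup.inf_relIndex_right]
    exact relIndex_stabilizer_of_transitive B htrB a
  have h4 : (M ⊓ K).relIndex M = Nat.card α := by
    rw [inf_comm, Subgroup.inf_relIndex_right]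
    exact relIndex_stabilizer_of_transitive M htr a
  have hpos : 0 < Nat.card α := by
    have : Nonempty α := ⟨a⟩
    exact Nat.card_pos
  rw [e1]
  apply Nat.eq_of_mul_eq_mul_left hpos
  rw [h3] at h1
  rw [h4] at h2
  rw [mul_comm, h1, ← h2]

/-! ## A2 alt_ptRes (transitive) -/
theorem alt_ptRes {α : Type*} [Finite α] {π : Set ℕ} {M : Subgroup (Perm α)}
    (hM : Cfsg.IsPiHallOf π M (altSub α)) (htr : IsPretransitive M α) (h3 : 3 ≤ Nat.card α) (a : α) :
    Cfsg.IsPiHallOf π (ptRes M a) (altSub {x : α // x ≠ a}) := by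
  have _ := h3
  obtain ⟨hMA, hcard, hidx⟩ := hM
  rw [ptRes_eq_comap, ← altSub_comap_ptLift a]
  refine ⟨Subgroup.comap_mono hMA, ?_, ?_⟩
  · intro p hp hdvd
    exact hcard p hp (dvd_trans hdvd (card_ptRes_dvd M a))
  · rw [relIndex_comap_ptLift hMA htr a]
    exact hidx

/-! ## A2' transport -/
theorem alt_transport_point {α : Type*} [Finite α] {M : Subgroup (Perm α)} (hMA : M ≤ altSub α) {a : α}
    {b : {x : α // x ≠ a}}
    (heq : ptRes M a = stabilizer (Perm {x : α // x ≠ a}) b ⊓ altSub {x : α // x ≠ a}) :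
    ∀ g : Perm α, g a = a → (g ∈ M ↔ g (b : α) = b ∧ g ∈ altSub α) := by
  have _ := hMA
  intro g hga
  set σ : Perm {x : α // x ≠ a} := g.subtypePerm (Cfsg.Agent.Lib.H24.HS.p2_fix_iff g hga) with hσ
  have hlift : ptLift a σ = g := by
    let _ : DecidablePred (fun x : α => x ≠ a) := Classical.decPred _
    unfold ptLift
    apply Equiv.Perm.ofSubtype_subtypePerm
    intro x hx h2
    exact hx (by rw [h2, hga])
  rw [Cfsg.Agent.Lib.H24.HS.p2_mem_iff g hga, heq, Subgroup.mem_inf, mem_stabilizer_iff,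
    ← ptLift_mem_altSub_iff a, hlift]
  refine and_congr ?_ Iff.rfl
  rw [Subtype.ext_iff]
  rfl

theorem alt_transport_set {α : Type*} [Finite α] {M : Subgroup (Perm α)} (hMA : M ≤ altSub α) {a : α}
    {t : Set {x : α // x ≠ a}}
    (heq : ptRes M a = stabilizer (Perm {x : α // x ≠ a}) t ⊓ altSub {x : α // x ≠ a}) :
    ∀ g : Perm α, g a = a →
      (g ∈ M ↔ g • (Subtype.val '' t) = Subtype.val '' t ∧ g ∈ altSub α) := by
  have _ := hMA
  intro g hga
  set σ : Perm {x : α // x ≠ a} := g.subtypePerm (Cfsg.Agent.Lib.H24.HS.p2_fix_iff g hga) with hσ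
  have hlift : ptLift a σ = g := by
    let _ : DecidablePred (fun x : α => x ≠ a) := Classical.decPred _
    unfold ptLift
    apply Equiv.Perm.ofSubtype_subtypePerm
    intro x hx h2
    exact hx (by rw [h2, hga])
  rw [Cfsg.Agent.Lib.H24.HS.p2_mem_iff g hga, heq, Subgroup.mem_inf, mem_stabilizer_iff,
    ← ptLift_mem_altSub_iff a, hlift]
  refine and_congr ?_ Iff.rfl
  have key : g • (Subtype.val '' t) = Subtype.val '' (σ • t) := by
    ext x
    simp only [Set.mem_smul_set, Set.mem_image]
    constructor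
    · rintro ⟨y, ⟨z, hz, rfl⟩, rfl⟩
      exact ⟨σ z, ⟨z, hz, rfl⟩, rfl⟩
    · rintro ⟨w, ⟨z, hz, rfl⟩, rfl⟩
      exact ⟨z.1, ⟨z, hz, rfl⟩, rfl⟩
  rw [key]
  exact ((Set.image_injective.mpr Subtype.val_injective).eq_iff).symm

end Cfsg.Agent.Lib.H8.HS
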