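import Cfsg.Agent.Lib.H13.HSDefs2
import Cfsg.Agent.Lib.H8.HSA2

/-!
# S2535 stage 2, piece A3 (helper8): Hall subgroups of `A_n` with a fixed point

`alt_ptRes_of_fixed`, `piFree_card_of_fixed`, `hall_ptLift`, `le_map_ptLift` (exact signatures of
`tools/blueprints/S2535_sigs.lean`), plus `altSub_isPretransitive` (`A_n` is transitive for `n ≥ 3`).
-/

set_option linter.unusedSectionVars false

namespace Cfsg.Agent.Lib.H8.HS

open Equiv MulAction Cfsg.Agent.Lib.H13.HS
open scoped Pointwise

/-- `A_n` is transitive for `n ≥ 3`. -/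
theorem altSub_isPretransitive {α : Type*} [Finite α] (h3 : 3 ≤ Nat.card α) :
    IsPretransitive (altSub α) α := by
  classical
  haveI : Fintype α := Fintype.ofFinite α
  refine ⟨fun x y => ?_⟩
  by_cases hxy : x = y
  · exact ⟨1, by rw [hxy, one_smul]⟩
  · -- a third point
    have hz : ∃ z : α, z ≠ x ∧ z ≠ y := by
      by_contra hcon
      push Not at hcon
      have hsub : (Finset.univ : Finset α) ⊆ {x, y} := by
        intro z _
        by_cases hzx : z = x
        · simp [hzx]
        · simp [hcon z hzx]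
      have hc := Finset.card_le_card hsub
      rw [Finset.card_univ, ← Nat.card_eq_fintype_card] at hc
      have : ({x, y} : Finset α).card ≤ 2 := Finset.card_le_two
      omega
    obtain ⟨z, hzx, hzy⟩ := hz
    have hmem : Equiv.swap x y * Equiv.swap y z ∈ altSub α := by
      rw [mem_altSub_iff, Equiv.Perm.sign_mul, Equiv.Perm.sign_swap hxy,
        Equiv.Perm.sign_swap (Ne.symm hzy)]
      rfl
    refine ⟨⟨_, hmem⟩, ?_⟩
    show (Equiv.swap x y * Equiv.swap y z) x = y
    rw [Equiv.Perm.mul_apply, Equiv.swap_apply_of_ne_of_ne hxy (Ne.symm hzx),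
      Equiv.swap_apply_left]

/-- the relative index of `M` in the point stabilizer of `A_n`, as a relative index of `ptRes`. -/
theorem relIndex_ptRes_altSub {α : Type*} [Finite α] (M : Subgroup (Perm α)) (x : α) :
    (ptRes M x).relIndex (altSub {y : α // y ≠ x}) =
      M.relIndex (stabilizer (Perm α) x ⊓ altSub α) := by
  rw [ptRes_eq_comap, ← altSub_comap_ptLift x, Subgroup.relIndex_comap, Subgroup.map_comap_eq,
    ptLift_range x]

/-! ## A3 fixed point (intransitive, a = 1) -/
theorem alt_ptRes_of_fixed {α : Type*} [Finite α] {π : Set ℕ} {M : Subgroup (Perm α)}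
    (hM : Cfsg.IsPiHallOf π M (altSub α)) (x : α) (hx : M ≤ stabilizer (Perm α) x) :
    Cfsg.IsPiHallOf π (ptRes M x) (altSub {y : α // y ≠ x}) := by
  obtain ⟨hMA, hcard, hidx⟩ := hM
  refine ⟨?_, ?_, ?_⟩
  · rw [ptRes_eq_comap, ← altSub_comap_ptLift x]
    exact Subgroup.comap_mono hMA
  · intro p hp hdvd
    exact hcard p hp (dvd_trans hdvd (card_ptRes_dvd M x))
  · intro p hp hpπ hdvd
    apply hidx p hp hpπ
    rw [relIndex_ptRes_altSub] at hdvd
    refine dvd_trans hdvd ?_
    have h1 : M.relIndex (stabilizer (Perm α) x ⊓ altSub α) *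
        (stabilizer (Perm α) x ⊓ altSub α).relIndex (altSub α) = M.relIndex (altSub α) :=
      Subgroup.relIndex_mul_relIndex _ _ _ (le_inf hx hMA) inf_le_right
    exact Dvd.intro _ h1

theorem piFree_card_of_fixed {α : Type*} [Finite α] {π : Set ℕ} {M : Subgroup (Perm α)}
    (hM : Cfsg.IsPiHallOf π M (altSub α)) (h3 : 3 ≤ Nat.card α) (x : α)
    (hx : M ≤ stabilizer (Perm α) x) : PiFree π (Nat.card α) := by
  obtain ⟨hMA, -, hidx⟩ := hM
  intro p hp hpπ hdvd
  apply hidx p hp hpπ
  refine dvd_trans hdvd ?_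
  have h1 : M.relIndex (stabilizer (Perm α) x ⊓ altSub α) *
      (stabilizer (Perm α) x ⊓ altSub α).relIndex (altSub α) = M.relIndex (altSub α) :=
    Subgroup.relIndex_mul_relIndex _ _ _ (le_inf hx hMA) inf_le_right
  have h2 : (stabilizer (Perm α) x ⊓ altSub α).relIndex (altSub α) = Nat.card α := by
    rw [Subgroup.inf_relIndex_right]
    exact relIndex_stabilizer_of_transitive (altSub α) (altSub_isPretransitive h3) x
  rw [h2] at h1
  exact Dvd.intro_left _ h1

theorem hall_ptLift {α : Type*} [Finite α] {π : Set ℕ} (x : α) (hn : PiFree π (Nat.card α))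
    {M₁ : Subgroup (Perm {y : α // y ≠ x})} (h₁ : Cfsg.IsPiHall π M₁) :
    Cfsg.IsPiHall π (M₁.map (ptLift x)) := by
  obtain ⟨hcard, hidx⟩ := h₁
  refine ⟨?_, ?_⟩
  · intro p hp hdvd
    apply hcard p hp
    rwa [Subgroup.card_map_of_injective (ptLift_injective x)] at hdvd
  · intro p hp hpπ hdvd
    rw [Subgroup.index_map_of_injective M₁ (ptLift_injective x), ptLift_range x,
      index_stabilizer_of_transitive (Perm α) x] at hdvd
    rcases (Nat.Prime.dvd_mul hp).mp hdvd with h | h
    · exact hidx p hp hpπ h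
    · exact hn p hp hpπ h

theorem le_map_ptLift {α : Type*} [Finite α] {M : Subgroup (Perm α)} (x : α)
    (hx : M ≤ stabilizer (Perm α) x) {M₁ : Subgroup (Perm {y : α // y ≠ x})}
    (h : ptRes M x ≤ M₁) : M ≤ M₁.map (ptLift x) := by
  intro g hg
  have hgx : g ∈ (ptLift x).range := by
    rw [ptLift_range x]; exact hx hg
  obtain ⟨σ, rfl⟩ := hgx
  exact ⟨σ, h (by rw [ptRes_eq_comap, Subgroup.mem_comap]; exact hg), rfl⟩

end Cfsg.Agent.Lib.H8.HS
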