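import Cfsg.Agent.Lib.H13.HSDefs2

/-!
# S2535 stage 2, piece A5-F (helper8): the order of `M` is `2^a * n^b`
-/

namespace Cfsg.Agent.Lib.H8.HS

open Equiv MulAction Cfsg.Agent.Lib.H13.HS
open scoped Pointwise

/-- the order of a group of permutations divides `n!`. -/
theorem card_dvd_factorial {α : Type*} [Finite α] (M : Subgroup (Perm α)) :
    Nat.card M ∣ (Nat.card α).factorial := by
  classical
  haveI : Fintype α := Fintype.ofFinite α
  have h := Subgroup.card_subgroup_dvd_card M
  rwa [Nat.card_eq_fintype_card (α := Perm α), Fintype.card_perm, ← Nat.card_eq_fintype_card] at h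

/-- a positive number all of whose prime divisors are `2` or the prime `n` is `2^a * n^b`. -/
theorem eq_two_pow_mul_pow {m n : ℕ} (hm : m ≠ 0)
    (h : ∀ d : ℕ, d.Prime → d ∣ m → d = 2 ∨ d = n) : ∃ a b : ℕ, m = 2 ^ a * n ^ b := by
  have h1 : ordProj[2] m * ordCompl[2] m = m := Nat.ordProj_mul_ordCompl_eq_self m 2
  have hne : ordCompl[2] m ≠ 0 := by
    intro h0
    rw [h0, mul_zero] at h1
    exact hm h1.symm
  have h2 : ordCompl[2] m = n ^ (ordCompl[2] m).primeFactorsList.length := by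
    apply Nat.eq_prime_pow_of_unique_prime_dvd hne
    intro d hd hdvd
    have hdm : d ∣ m := dvd_trans hdvd (Nat.ordCompl_dvd m 2)
    rcases h d hd hdm with h2 | hn
    · exfalso
      rw [h2] at hdvd
      exact Nat.not_dvd_ordCompl Nat.prime_two hm hdvd
    · exact hn
  exact ⟨m.factorization 2, (ordCompl[2] m).primeFactorsList.length, by
    conv_lhs => rw [← h1]
    rw [← h2]⟩

theorem a5_card_eq {α : Type*} [Finite α] {π : Set ℕ} {M : Subgroup (Perm α)}
    (hM : Cfsg.IsPiHallOf π M (altSub α)) (hn : (Nat.card α).Prime)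
    (hfew : ∀ s : ℕ, s.Prime → s ∈ π → s ≤ Nat.card α → s = 2 ∨ s = Nat.card α) :
    ∃ a b : ℕ, Nat.card M = 2 ^ a * Nat.card α ^ b := by
  have _ := hn
  apply eq_two_pow_mul_pow (Nat.card_pos (α := M)).ne'
  intro d hd hdvd
  apply hfew d hd (hM.2.1 d hd hdvd)
  exact (Nat.Prime.dvd_factorial hd).mp (dvd_trans hdvd (card_dvd_factorial M))

end Cfsg.Agent.Lib.H8.HS
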