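import Mathlib
import Cfsg.Agent.Lib.H2.KRDEFS

/-!
# S4651 pieces (C0a STRUCT-top), (C0b STRUCT-low): structure of `u`-stable chains (helper8)

Exact signatures of `tools/blueprints/S4651_sigs.lean` (twin; used by my C2/C3).
-/

set_option autoImplicit false

namespace Cfsg.Agent.Lib.H8.KR

open Cfsg Cfsg.Agent.Lib.H2.KR
open scoped Classical

section chains

variable {G : Type*} [Group G] [Finite G] {p : ℕ} [Fact p.Prime]

theorem top_empty : top (∅ : Finset (Subgroup G)) = ⊥ := by
  unfold top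
  exact Finset.sup_empty

theorem mem_normalizer_sup {A B : Subgroup G} {g : G}
    (hA : g ∈ Subgroup.normalizer (A : Set G)) (hB : g ∈ Subgroup.normalizer (B : Set G)) :
    g ∈ Subgroup.normalizer ((A ⊔ B : Subgroup G) : Set G) := by
  -- conjugation by `g` maps `A ⊔ B` into itself, and so does conjugation by `g⁻¹`
  have key : ∀ k : G, k ∈ Subgroup.normalizer (A : Set G) → k ∈ Subgroup.normalizer (B : Set G) →
      ∀ x ∈ A ⊔ B, k * x * k⁻¹ ∈ A ⊔ B := by
    intro k hkA hkB x hx
    have hle : A ⊔ B ≤ (A ⊔ B).comap (MulAut.conj k).toMonoidHom := by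
      refine sup_le ?_ ?_
      · intro a ha
        show k * a * k⁻¹ ∈ A ⊔ B
        exact Subgroup.mem_sup_left ((Subgroup.mem_normalizer_iff.1 hkA a).1 ha)
      · intro b hb
        show k * b * k⁻¹ ∈ A ⊔ B
        exact Subgroup.mem_sup_right ((Subgroup.mem_normalizer_iff.1 hkB b).1 hb)
    exact hle hx
  rw [Subgroup.mem_normalizer_iff]
  intro x
  refine ⟨key g hA hB x, fun hx => ?_⟩
  have h1 := key g⁻¹ (inv_mem hA) (inv_mem hB) _ hx
  have h2 : g⁻¹ * (g * x * g⁻¹) * g⁻¹⁻¹ = x := by group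
  rwa [h2] at h1

theorem mem_normalizer_finset_sup {t : Finset (Subgroup G)} {g : G}
    (h : ∀ Q ∈ t, g ∈ Subgroup.normalizer ((Q : Subgroup G) : Set G)) :
    g ∈ Subgroup.normalizer ((t.sup id : Subgroup G) : Set G) := by
  induction t using Finset.induction_on with
  | empty =>
    rw [Finset.sup_empty]
    rw [Subgroup.mem_normalizer_iff]
    intro x
    rw [Subgroup.mem_bot, Subgroup.mem_bot]
    constructor
    · rintro rfl; group
    · intro hx
      have : x = g⁻¹ * (g * x * g⁻¹) * g := by group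
      rw [this, hx]; group
  | insert a t _ ih =>
    rw [Finset.sup_insert]
    exact mem_normalizer_sup (h a (Finset.mem_insert_self a t))
      (ih fun Q hQ => h Q (Finset.mem_insert_of_mem hQ))

theorem le_top_of_mem {s : Finset (Subgroup G)} {Q : Subgroup G} (hQ : Q ∈ s) : Q ≤ top s :=
  Finset.le_sup (f := id) hQ

/-- The largest member of a chain of the statement is its `top`. -/
theorem top_eq_of_isNChain {s : Finset (Subgroup G)} {T : Subgroup G} (hT : T ∈ s)
    (h : ∀ Q ∈ s, Q ≤ T) : top s = T :=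
  le_antisymm (Finset.sup_le fun Q hQ => h Q hQ) (le_top_of_mem hT)

theorem top_mem {s : Finset (Subgroup G)} (hs : IsNChain p s) : top s ∈ s := by
  obtain ⟨-, -, -, T, hT, hTs⟩ := hs
  rw [top_eq_of_isNChain hT fun Q hQ => (hTs Q hQ).1]
  exact hT

/-- A `u`-stable chain with a member is a chain of the statement. -/
theorem isNChain_of_mem {u : G} {s : Finset (Subgroup G)} (hs : IsUChain p u s)
    {Q : Subgroup G} (hQ : Q ∈ s) : IsNChain p s := by
  rcases hs.1 with h | h
  · rw [h] at hQ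
    exact absurd hQ (Finset.notMem_empty Q)
  · exact h

theorem top_le_normalizer {u : G} {s : Finset (Subgroup G)} (hs : IsUChain p u s)
    {Q : Subgroup G} (hQ : Q ∈ s) : top s ≤ Subgroup.normalizer (Q : Set G) := by
  obtain ⟨-, -, -, T, hT, hTs⟩ := isNChain_of_mem hs hQ
  rw [top_eq_of_isNChain hT fun Q hQ => (hTs Q hQ).1]
  exact (hTs Q hQ).2

theorem isPGroup_top {u : G} {s : Finset (Subgroup G)} (hs : IsUChain p u s) :
    IsPGroup p (top s) := by
  rcases hs.1 with h | h
  · rw [h, top_empty]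
    exact IsPGroup.of_bot
  · exact (h.2.2.1 _ (top_mem h)).2

theorem mem_normalizer_top {u : G} {s : Finset (Subgroup G)} (hs : IsUChain p u s) :
    u ∈ Subgroup.normalizer (top s : Set G) :=
  mem_normalizer_finset_sup hs.2

theorem mem_ncl (s : Finset (Subgroup G)) (u : G) : u ∈ ncl s u := by
  apply Subgroup.subset_closure
  exact ⟨1, one_mem _, by group⟩

theorem ncl_le_of_mem {u : G} {s : Finset (Subgroup G)} (hs : IsUChain p u s)
    {Q : Subgroup G} (hQ : Q ∈ s) (hu : u ∈ Q) : ncl s u ≤ Q := by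
  unfold ncl
  rw [Subgroup.closure_le]
  rintro y ⟨t, ht, rfl⟩
  exact (Subgroup.mem_normalizer_iff.1 (top_le_normalizer hs hQ ht) u).1 hu

theorem top_le_normalizer_ncl (s : Finset (Subgroup G)) (u : G) :
    top s ≤ Subgroup.normalizer (ncl s u : Set G) := by
  intro g hg
  -- conjugation by an element of `top s` maps `ncl s u` into itself
  have key : ∀ k ∈ top s, ∀ x ∈ ncl s u, k * x * k⁻¹ ∈ ncl s u := by
    intro k hk x hx
    have hle : ncl s u ≤ (ncl s u).comap (MulAut.conj k).toMonoidHom := by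
      unfold ncl
      rw [Subgroup.closure_le]
      rintro y ⟨t, ht, rfl⟩
      show k * (t * u * t⁻¹) * k⁻¹ ∈ Subgroup.closure _
      apply Subgroup.subset_closure
      exact ⟨k * t, mul_mem hk ht, by group⟩
    exact hle hx
  rw [Subgroup.mem_normalizer_iff]
  intro x
  refine ⟨key g hg x, fun hx => ?_⟩
  have h1 := key g⁻¹ (inv_mem hg) _ hx
  have h2 : g⁻¹ * (g * x * g⁻¹) * g⁻¹⁻¹ = x := by group
  rwa [h2] at h1

theorem low_le_of_mem {u : G} {s : Finset (Subgroup G)} (hs : IsUChain p u s)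
    {Q : Subgroup G} (hQ : Q ∈ s) (hu : u ∈ Q) : low s u ≤ Q := by
  unfold low
  refine Finset.sup_le fun R hR => ?_
  obtain ⟨hRs, hRu⟩ := Finset.mem_filter.1 hR
  rcases (isNChain_of_mem hs hQ).2.1 R hRs Q hQ with h | h
  · exact h
  · exact absurd (h hu) hRu

theorem le_low_of_not_mem {u : G} {s : Finset (Subgroup G)} {Q : Subgroup G} (hQ : Q ∈ s)
    (hu : u ∉ Q) : Q ≤ low s u :=
  Finset.le_sup (f := id) (Finset.mem_filter.2 ⟨hQ, hu⟩)

theorem low_eq_bot_or_mem {u : G} {s : Finset (Subgroup G)} (hs : IsUChain p u s) :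
    low s u = ⊥ ∨ (low s u ∈ s ∧ u ∉ low s u) := by
  by_cases hne : (s.filter (fun Q : Subgroup G => u ∉ Q)).Nonempty
  · right
    obtain ⟨Q₀, hQ₀⟩ := hne
    have hch := (isNChain_of_mem hs (Finset.mem_filter.1 hQ₀).1).2.1
    -- a maximal member of the filter
    obtain ⟨R, hR, hmax⟩ := Finset.exists_maximal
      (s := s.filter (fun Q : Subgroup G => u ∉ Q)) ⟨Q₀, hQ₀⟩
    have hRs := (Finset.mem_filter.1 hR).1
    have hlow : low s u = R := by
      unfold low
      refine le_antisymm (Finset.sup_le fun Q hQ => ?_) (Finset.le_sup (f := id) hR)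
      rcases hch Q (Finset.mem_filter.1 hQ).1 R hRs with h | h
      · exact h
      · exact hmax hQ h
    rw [hlow]
    exact ⟨hRs, (Finset.mem_filter.1 hR).2⟩
  · left
    rw [Finset.not_nonempty_iff_eq_empty] at hne
    unfold low
    rw [hne, Finset.sup_empty]

theorem not_mem_low {u : G} (hu1 : u ≠ 1) {s : Finset (Subgroup G)} (hs : IsUChain p u s) :
    u ∉ low s u := by
  rcases low_eq_bot_or_mem hs with h | h
  · rw [h, Subgroup.mem_bot]
    exact hu1
  · exact h.2

theorem isPGroup_top_sup_ncl {u : G} (hu : ∃ k : ℕ, orderOf u = p ^ k)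
    {s : Finset (Subgroup G)} (hs : IsUChain p u s) : IsPGroup p (top s ⊔ ncl s u : Subgroup G) := by
  obtain ⟨k, hk⟩ := hu
  have hz : IsPGroup p (Subgroup.zpowers u) :=
    IsPGroup.of_card (n := k) (by rw [Nat.card_zpowers, hk])
  have hsup : IsPGroup p (Subgroup.zpowers u ⊔ top s : Subgroup G) :=
    IsPGroup.to_sup_of_normal_right' hz (isPGroup_top hs)
      ((Subgroup.zpowers_le).2 (mem_normalizer_top hs))
  refine hsup.to_le (sup_le le_sup_right ?_)
  unfold ncl
  rw [Subgroup.closure_le]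
  rintro y ⟨t, ht, rfl⟩
  have h1 : t ∈ (Subgroup.zpowers u ⊔ top s : Subgroup G) := Subgroup.mem_sup_right ht
  have h2 : u ∈ (Subgroup.zpowers u ⊔ top s : Subgroup G) :=
    Subgroup.mem_sup_left (Subgroup.mem_zpowers u)
  exact mul_mem (mul_mem h1 h2) (inv_mem h1)

end chains

end Cfsg.Agent.Lib.H8.KR
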