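import Mathlib
import Cfsg.Agent.Lib.H2.KRDEFS
import Cfsg.Agent.Lib.H8.KRC0

/-!
# S4651 piece (C2) `piv_flip_of_not_mem`: the pivot is unchanged by an insertion (helper8)
-/

set_option autoImplicit false

namespace Cfsg.Agent.Lib.H8.KR

open Cfsg Cfsg.Agent.Lib.H2.KR
open scoped Classical

section chains

variable {G : Type*} [Group G] [Finite G] {p : ℕ} [Fact p.Prime]

/-- `u` lies in the pivot. -/
theorem mem_piv (s : Finset (Subgroup G)) (u : G) : u ∈ piv s u :=
  Subgroup.mem_sup_right (mem_ncl s u)

/-- (C2 L2a) the pivot is unchanged by an insertion. -/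
theorem piv_flip_of_not_mem {u : G} (hu : ∃ k : ℕ, orderOf u = p ^ k) (hu1 : u ≠ 1)
    {s : Finset (Subgroup G)} (hs : IsUChain p u s) (hX : piv s u ∉ s) :
    piv (insert (piv s u) s) u = piv s u := by
  have huX : u ∈ piv s u := mem_piv s u
  -- the filter does not see the new member
  have hfilter : (insert (piv s u) s).filter (fun Q : Subgroup G => u ∉ Q) =
      s.filter (fun Q : Subgroup G => u ∉ Q) := by
    rw [Finset.filter_insert, if_neg (not_not.2 huX)]
  have hlow : low (insert (piv s u) s) u = low s u := by
    unfold low
    rw [hfilter]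
  have htop : top (insert (piv s u) s) = piv s u ⊔ top s := by
    unfold top
    rw [Finset.sup_insert]
    rfl
  by_cases huT : u ∈ top s
  · -- `u ∈ T`: the top is unchanged
    have hne : s.Nonempty := by
      by_contra h
      rw [Finset.not_nonempty_iff_eq_empty] at h
      rw [h, top_empty, Subgroup.mem_bot] at huT
      exact hu1 huT
    obtain ⟨Q₀, hQ₀⟩ := hne
    have hch : IsNChain p s := isNChain_of_mem hs hQ₀
    have hTs : top s ∈ s := top_mem hch
    have hXT : piv s u ≤ top s :=
      sup_le (low_le_of_mem hs hTs huT) (ncl_le_of_mem hs hTs huT)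
    have htop' : top (insert (piv s u) s) = top s := by
      rw [htop]
      exact sup_eq_right.2 hXT
    have hncl : ncl (insert (piv s u) s) u = ncl s u := by
      unfold ncl
      rw [htop']
    show low (insert (piv s u) s) u ⊔ ncl (insert (piv s u) s) u = piv s u
    rw [hlow, hncl]
    rfl
  · -- `u ∉ T`: every member misses `u`, `low = T`, the new top is the pivot
    have hlowT : low s u = top s := by
      refine le_antisymm ?_ ?_
      · unfold low
        exact Finset.sup_le fun Q hQ => le_top_of_mem (Finset.mem_filter.1 hQ).1
      · unfold top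
        exact Finset.sup_le fun Q hQ =>
          le_low_of_not_mem hQ fun h => huT (le_top_of_mem hQ h)
    have hXeq : piv s u = top s ⊔ ncl s u := by
      unfold piv
      rw [hlowT]
    have htop' : top (insert (piv s u) s) = piv s u := by
      rw [htop]
      refine sup_eq_left.2 ?_
      rw [hXeq]
      exact le_sup_left
    -- the new `ncl` is the old one
    have hN : piv s u ≤ Subgroup.normalizer (ncl s u : Set G) := by
      rw [hXeq]
      exact sup_le (top_le_normalizer_ncl s u) Subgroup.le_normalizer
    have hncl : ncl (insert (piv s u) s) u = ncl s u := by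
      refine le_antisymm ?_ ?_
      · unfold ncl
        rw [Subgroup.closure_le, htop']
        rintro y ⟨t, ht, rfl⟩
        exact (Subgroup.mem_normalizer_iff.1 (hN ht) u).1 (mem_ncl s u)
      · show ncl s u ≤ ncl (insert (piv s u) s) u
        unfold ncl
        rw [Subgroup.closure_le, htop']
        rintro y ⟨t, ht, rfl⟩
        apply Subgroup.subset_closure
        refine ⟨t, ?_, rfl⟩
        rw [hXeq]
        exact Subgroup.mem_sup_left ht
    show low (insert (piv s u) s) u ⊔ ncl (insert (piv s u) s) u = piv s u
    rw [hlow, hncl]
    rfl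

end chains

end Cfsg.Agent.Lib.H8.KR
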