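import Mathlib
import Cfsg.Agent.Lib.H2.KRDEFS

/-!
# S4651 piece (C4 PG) `eq_of_forall_normal_eq` (helper8)

In a finite `p`-group a subgroup whose normal closure is everything is everything.
-/

set_option autoImplicit false

namespace Cfsg.Agent.Lib.H8.KR

open Cfsg Cfsg.Agent.Lib.H2.KR
open scoped Classical

section chains

variable {G : Type*} [Group G] [Finite G] {p : ℕ} [Fact p.Prime]

/-- (C4 PG) in a finite `p`-group a subgroup whose normal closure is everything is everything. -/
theorem eq_of_forall_normal_eq {T A : Subgroup G} (hT : IsPGroup p T) (hAT : A ≤ T)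
    (h : ∀ N : Subgroup G, A ≤ N → N ≤ T → T ≤ Subgroup.normalizer (N : Set G) → N = T) :
    A = T := by
  by_contra hne
  have hA' : A.subgroupOf T ≠ ⊤ := by
    intro htop
    exact hne (le_antisymm hAT (Subgroup.subgroupOf_eq_top.1 htop))
  rcases eq_top_or_exists_le_coatom (A.subgroupOf T) with htop | ⟨M, hM, hAM⟩
  · exact hA' htop
  · haveI : Group.IsNilpotent ↥T := hT.isNilpotent
    haveI hMn : M.Normal :=
      Subgroup.NormalizerCondition.normal_of_coatom M Group.normalizerCondition_of_isNilpotent hM
    have hN1 : A ≤ M.map T.subtype := by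
      intro a ha
      exact ⟨⟨a, hAT ha⟩, hAM (Subgroup.mem_subgroupOf.2 ha), rfl⟩
    have hN2 : M.map T.subtype ≤ T := Subgroup.map_subtype_le M
    have hN3 : T ≤ Subgroup.normalizer ((M.map T.subtype : Subgroup G) : Set G) := by
      have h1 := Subgroup.le_normalizer_map (H := M) T.subtype
      rw [Subgroup.normalizer_eq_top M, ← MonoidHom.range_eq_map, Subgroup.range_subtype] at h1
      exact h1
    have hNT := h _ hN1 hN2 hN3
    apply hM.1
    rw [eq_top_iff]
    intro t _
    have ht : (t : G) ∈ M.map T.subtype := by rw [hNT]; exact t.2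
    obtain ⟨m, hm, hmt⟩ := ht
    have : m = t := Subtype.ext hmt
    rwa [← this]

end chains

end Cfsg.Agent.Lib.H8.KR
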