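import Mathlib
import Cfsg.Agent.Lib.H2.KRDEFS
import Cfsg.Agent.Lib.H8.KRC0
import Cfsg.Agent.Lib.H8.KRC2
import Cfsg.Agent.Lib.H8.KRC4

/-!
# S4651 piece (C3) `piv_flip_of_mem`: the pivot is unchanged by a deletion (helper8)
-/

set_option autoImplicit false

namespace Cfsg.Agent.Lib.H8.KR

open Cfsg Cfsg.Agent.Lib.H2.KR
open scoped Classical

section chains

variable {G : Type*} [Group G] [Finite G] {p : ℕ} [Fact p.Prime]

/-- (C3 L2b) the pivot is unchanged by a deletion. -/
theorem piv_flip_of_mem {u : G} (hu : ∃ k : ℕ, orderOf u = p ^ k) (hu1 : u ≠ 1)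
    {s : Finset (Subgroup G)} (hs : IsUChain p u s) (hX : piv s u ∈ s) :
    piv (s.erase (piv s u)) u = piv s u := by
  have huX : u ∈ piv s u := mem_piv s u
  have hch : IsNChain p s := isNChain_of_mem hs hX
  have hTs : top s ∈ s := top_mem hch
  have hXT : piv s u ≤ top s := le_top_of_mem hX
  -- the filter does not see the deleted member
  have hfilter : (s.erase (piv s u)).filter (fun Q : Subgroup G => u ∉ Q) =
      s.filter (fun Q : Subgroup G => u ∉ Q) := by
    rw [Finset.filter_erase]
    apply Finset.erase_eq_of_notMem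
    intro h
    exact (Finset.mem_filter.1 h).2 huX
  have hlow : low (s.erase (piv s u)) u = low s u := by
    unfold low
    rw [hfilter]
  by_cases hXeq : piv s u = top s
  · -- the top is deleted
    -- every other member misses `u`
    have hmiss : ∀ Q ∈ s, Q ≠ piv s u → u ∉ Q := by
      intro Q hQ hne huQ
      apply hne
      refine le_antisymm ?_ ?_
      · rw [hXeq]; exact le_top_of_mem hQ
      · exact sup_le (low_le_of_mem hs hQ huQ) (ncl_le_of_mem hs hQ huQ)
    have hfil : s.filter (fun Q : Subgroup G => u ∉ Q) = s.erase (piv s u) := by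
      ext Q
      rw [Finset.mem_filter, Finset.mem_erase]
      constructor
      · rintro ⟨hQ, huQ⟩
        exact ⟨fun h => huQ (h ▸ huX), hQ⟩
      · rintro ⟨hne, hQ⟩
        exact ⟨hQ, hmiss Q hQ hne⟩
    have htop' : top (s.erase (piv s u)) = low s u := by
      unfold top low
      rw [hfil]
    -- apply (PG)
    have hT : IsPGroup p (top s) := isPGroup_top hs
    have hncl_le : ncl (s.erase (piv s u)) u ≤ ncl s u := by
      unfold ncl
      rw [Subgroup.closure_le]
      rintro y ⟨t, ht, rfl⟩
      apply Subgroup.subset_closure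
      refine ⟨t, ?_, rfl⟩
      rw [htop'] at ht
      exact hXT (Subgroup.mem_sup_left ht)
    have hAT : low s u ⊔ ncl (s.erase (piv s u)) u ≤ top s := by
      refine sup_le ?_ ?_
      · exact le_trans le_sup_left hXT
      · exact le_trans hncl_le (le_trans le_sup_right hXT)
    have hA := eq_of_forall_normal_eq hT hAT (by
      intro N hAN hNT hTN
      refine le_antisymm hNT ?_
      rw [← hXeq]
      refine sup_le (le_trans le_sup_left hAN) ?_
      unfold ncl
      rw [Subgroup.closure_le]
      rintro y ⟨t, ht, rfl⟩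
      have huN : u ∈ N := hAN (Subgroup.mem_sup_right (mem_ncl _ u))
      exact (Subgroup.mem_normalizer_iff.1 (hTN ht) u).1 huN)
    show low (s.erase (piv s u)) u ⊔ ncl (s.erase (piv s u)) u = piv s u
    rw [hlow, hA, hXeq]
  · -- the top stays
    have hTe : top s ∈ s.erase (piv s u) := Finset.mem_erase.2 ⟨fun h => hXeq h.symm, hTs⟩
    have htop' : top (s.erase (piv s u)) = top s :=
      top_eq_of_isNChain hTe fun Q hQ => le_top_of_mem (Finset.mem_of_mem_erase hQ)
    have hncl : ncl (s.erase (piv s u)) u = ncl s u := by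
      unfold ncl
      rw [htop']
    show low (s.erase (piv s u)) u ⊔ ncl (s.erase (piv s u)) u = piv s u
    rw [hlow, hncl]
    rfl

end chains

end Cfsg.Agent.Lib.H8.KR
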