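import Mathlib
import Cfsg.Agent.Lib.H2.KRDEFS
import Cfsg.Agent.Lib.H8.KRC3
import Cfsg.Agent.Lib.H15.KRC1
import Cfsg.Agent.Lib.H28.KRC5

/-!
# S4651 piece (C6 SUM) `chain_sum` (helper8)

The alternating sum over the `u`-stable chains collapses: `flip · u` is a sign-reversing involution
on the `u`-stable chains (the empty chain included) preserving `stab s ⊓ C(u)`.
-/

set_option autoImplicit false

namespace Cfsg.Agent.Lib.H8.KR

open Cfsg Cfsg.Agent.Lib.H2.KR
open scoped Classical

section chains

variable {G : Type*} [Group G] [Finite G] {p : ℕ} [Fact p.Prime]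

/-- `stab` of an insertion. -/
theorem stab_insert (X : Subgroup G) (s : Finset (Subgroup G)) :
    stab (insert X s) = Subgroup.normalizer (X : Set G) ⊓ stab s := by
  unfold stab
  exact Finset.iInf_insert X s fun Q => Subgroup.normalizer ((Q : Subgroup G) : Set G)

/-- Inserting the pivot does not change `stab s ⊓ C(u)`. -/
theorem stab_insert_piv_inf (s : Finset (Subgroup G)) (u : G) :
    stab (insert (piv s u) s) ⊓ Subgroup.centralizer ({u} : Set G) =
      stab s ⊓ Subgroup.centralizer ({u} : Set G) := by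
  rw [stab_insert]
  refine le_antisymm (inf_le_inf_right _ inf_le_right) ?_
  refine le_inf (le_inf ?_ inf_le_left) inf_le_right
  intro g hg
  exact Cfsg.Agent.Lib.H28.KR.mem_normalizer_piv s u g (Subgroup.mem_inf.1 hg).1
    (Subgroup.mem_inf.1 hg).2

/-- The flipped chain has the same `stab s ⊓ C(u)`. -/
theorem stab_flip_inf {u : G} (hu : ∃ k : ℕ, orderOf u = p ^ k) (hu1 : u ≠ 1)
    {s : Finset (Subgroup G)} (hs : IsUChain p u s) :
    stab (H2.KR.flip s u) ⊓ Subgroup.centralizer ({u} : Set G) =
      stab s ⊓ Subgroup.centralizer ({u} : Set G) := by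
  unfold H2.KR.flip
  by_cases hX : piv s u ∈ s
  · rw [if_pos hX]
    have h1 := stab_insert_piv_inf (s.erase (piv s u)) u
    rw [piv_flip_of_mem hu hu1 hs hX, Finset.insert_erase hX] at h1
    exact h1.symm
  · rw [if_neg hX]
    exact stab_insert_piv_inf s u

/-- `H2.KR.flip` is an involution on the `u`-stable chains. -/
theorem flip_flip {u : G} (hu : ∃ k : ℕ, orderOf u = p ^ k) (hu1 : u ≠ 1)
    {s : Finset (Subgroup G)} (hs : IsUChain p u s) : H2.KR.flip (H2.KR.flip s u) u = s := by
  by_cases hX : piv s u ∈ s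
  · have h1 : H2.KR.flip s u = s.erase (piv s u) := by unfold H2.KR.flip; rw [if_pos hX]
    rw [h1]
    unfold H2.KR.flip
    rw [piv_flip_of_mem hu hu1 hs hX, if_neg (Finset.notMem_erase _ _), Finset.insert_erase hX]
  · have h1 : H2.KR.flip s u = insert (piv s u) s := by unfold H2.KR.flip; rw [if_neg hX]
    rw [h1]
    unfold H2.KR.flip
    rw [piv_flip_of_not_mem hu hu1 hs hX, if_pos (Finset.mem_insert_self _ _),
      Finset.erase_insert hX]

/-- `H2.KR.flip` has no fixed points. -/
theorem flip_ne (s : Finset (Subgroup G)) (u : G) : H2.KR.flip s u ≠ s := by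
  unfold H2.KR.flip
  by_cases hX : piv s u ∈ s
  · rw [if_pos hX]
    intro h
    have := Finset.notMem_erase (piv s u) s
    rw [h] at this
    exact this hX
  · rw [if_neg hX]
    intro h
    have := Finset.mem_insert_self (piv s u) s
    rw [h] at this
    exact hX this

/-- The signs of a chain and of its H2.KR.flip are opposite. -/
theorem neg_one_pow_card_flip (s : Finset (Subgroup G)) (u : G) :
    (-1 : ℤ) ^ (H2.KR.flip s u).card = -(-1 : ℤ) ^ s.card := by
  unfold H2.KR.flip
  by_cases hX : piv s u ∈ s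
  · rw [if_pos hX, Finset.card_erase_of_mem hX]
    have hpos : 0 < s.card := Finset.card_pos.2 ⟨_, hX⟩
    obtain ⟨n, hn⟩ : ∃ n, s.card = n + 1 := ⟨s.card - 1, by omega⟩
    rw [hn, Nat.add_sub_cancel, pow_succ]
    ring
  · rw [if_neg hX, Finset.card_insert_of_notMem hX, pow_succ]
    ring

/-- The sum over all `u`-stable chains (the empty one included) vanishes. -/
theorem uchain_sum_eq_zero [Fintype (Finset (Subgroup G))] {u : G}
    (hu : ∃ k : ℕ, orderOf u = p ^ k) (hu1 : u ≠ 1) (F : Subgroup G → ℤ) :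
    ∑ s ∈ Finset.univ.filter (fun s : Finset (Subgroup G) => IsUChain p u s),
        (-1 : ℤ) ^ s.card * F (stab s ⊓ Subgroup.centralizer ({u} : Set G)) = 0 := by
  refine Finset.sum_involution (fun s _ => H2.KR.flip s u) ?_ ?_ ?_ ?_
  · intro s hs
    have hs' : IsUChain p u s := (Finset.mem_filter.1 hs).2
    rw [neg_one_pow_card_flip, stab_flip_inf hu hu1 hs']
    ring
  · intro s _ _
    exact flip_ne s u
  · intro s hs
    have hs' : IsUChain p u s := (Finset.mem_filter.1 hs).2
    exact Finset.mem_filter.2 ⟨Finset.mem_univ _, Cfsg.Agent.Lib.H15.KR.flip_isUChain hu hu1 hs'⟩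
  · intro s hs
    have hs' : IsUChain p u s := (Finset.mem_filter.1 hs).2
    exact flip_flip hu hu1 hs'

/-- Membership in `stab`. -/
theorem mem_stab_iff (s : Finset (Subgroup G)) (g : G) :
    g ∈ stab s ↔ ∀ Q ∈ s, g ∈ Subgroup.normalizer ((Q : Subgroup G) : Set G) := by
  unfold stab
  simp only [Subgroup.mem_iInf]

/-- (C6 SUM) the alternating sum over the `u`-stable chains of the statement collapses. -/
theorem chain_sum [Fintype (Finset (Subgroup G))] {u : G} (hu : ∃ k : ℕ, orderOf u = p ^ k)
    (hu1 : u ≠ 1) (F : Subgroup G → ℤ) :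
    ∑ s ∈ Finset.univ.filter (fun s : Finset (Subgroup G) => IsNChain p s ∧ u ∈ stab s),
        (-1 : ℤ) ^ (s.card - 1) * F (stab s ⊓ Subgroup.centralizer ({u} : Set G)) =
      F (Subgroup.centralizer ({u} : Set G)) := by
  have h0 := uchain_sum_eq_zero (p := p) hu hu1 F
  -- split off the empty chain
  have hUe : IsUChain p u (∅ : Finset (Subgroup G)) :=
    ⟨Or.inl rfl, fun Q hQ => absurd hQ (Finset.notMem_empty Q)⟩
  have hmem : (∅ : Finset (Subgroup G)) ∈
      Finset.univ.filter (fun s : Finset (Subgroup G) => IsUChain p u s) :=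
    Finset.mem_filter.2 ⟨Finset.mem_univ _, hUe⟩
  rw [← Finset.add_sum_erase _ _ hmem] at h0
  have hstabe : stab (∅ : Finset (Subgroup G)) = ⊤ := by
    unfold stab
    simp
  rw [Finset.card_empty, pow_zero, one_mul, hstabe, top_inf_eq] at h0
  -- the remaining chains are those of the statement
  have hset : (Finset.univ.filter (fun s : Finset (Subgroup G) => IsUChain p u s)).erase ∅ =
      Finset.univ.filter (fun s : Finset (Subgroup G) => IsNChain p s ∧ u ∈ stab s) := by
    ext s
    rw [Finset.mem_erase, Finset.mem_filter, Finset.mem_filter]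
    constructor
    · rintro ⟨hne, -, hs⟩
      refine ⟨Finset.mem_univ _, ?_, (mem_stab_iff s u).2 hs.2⟩
      rcases hs.1 with h | h
      · exact absurd h hne
      · exact h
    · rintro ⟨-, hch, hst⟩
      refine ⟨?_, Finset.mem_univ _, Or.inr hch, (mem_stab_iff s u).1 hst⟩
      exact Finset.nonempty_iff_ne_empty.1 hch.1
  rw [hset] at h0
  -- signs
  have hsign : ∑ s ∈ Finset.univ.filter (fun s : Finset (Subgroup G) => IsNChain p s ∧ u ∈ stab s),
      (-1 : ℤ) ^ s.card * F (stab s ⊓ Subgroup.centralizer ({u} : Set G)) =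
      -∑ s ∈ Finset.univ.filter (fun s : Finset (Subgroup G) => IsNChain p s ∧ u ∈ stab s),
        (-1 : ℤ) ^ (s.card - 1) * F (stab s ⊓ Subgroup.centralizer ({u} : Set G)) := by
    rw [← Finset.sum_neg_distrib]
    refine Finset.sum_congr rfl fun s hs => ?_
    have hne : s.Nonempty := ((Finset.mem_filter.1 hs).2.1).1
    have hpos : 0 < s.card := Finset.card_pos.2 hne
    obtain ⟨n, hn⟩ : ∃ n, s.card = n + 1 := ⟨s.card - 1, by omega⟩
    rw [hn, Nat.add_sub_cancel, pow_succ]
    ring
  rw [hsign] at h0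
  linarith

end chains

end Cfsg.Agent.Lib.H8.KR
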