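import Mathlib

/-!
# S4540 piece CY3 (helper8): core, with CY2 (`coeff_dvd`) as a hypothesis.
A real element `y = ∑_{i<n} γ_i ζ^i` of the maximal ideal has `γ_0` even.
-/

set_option autoImplicit false

namespace Cfsg.Agent.Lib.H8.KY

open scoped ComplexConjugate

/-- in a field with `2 = 0`, `x ^ 2 ^ b = 1` forces `x = 1`. -/
theorem eq_one_of_pow_two_pow {k : Type*} [Field k] (h2 : (2 : k) = 0) (b : ℕ) :
    ∀ x : k, x ^ (2 ^ b) = 1 → x = 1 := by
  induction b with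
  | zero => intro x hx; simpa using hx
  | succ b ih =>
    intro x hx
    have h1 : (x ^ 2) ^ (2 ^ b) = 1 := by rw [← pow_mul, ← pow_succ']; exact hx
    have h3 : x ^ 2 = 1 := ih _ h1
    have h4 : (x - 1) ^ 2 = 0 := by
      have : (x - 1) ^ 2 = x ^ 2 - 2 * x + 1 := by ring
      rw [this, h3, h2]; ring_nf
      have : (1 : k) + 1 = 2 := by norm_num
      linear_combination h2
    have h5 : x - 1 = 0 := pow_eq_zero_iff (two_ne_zero) |>.mp h4
    exact sub_eq_zero.mp h5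

/-- an integer divisible by all powers of two is zero. -/
theorem int_eq_zero_of_forall_two_pow_dvd (x : ℤ) (h : ∀ n : ℕ, (2 : ℤ) ^ n ∣ x) : x = 0 := by
  by_contra hx
  have h1 := h (x.natAbs)
  have h2 : (2 : ℤ) ^ x.natAbs ≤ |x| := by
    have := Int.le_of_dvd (abs_pos.mpr hx) ((dvd_abs _ _).mpr h1)
    exact this
  have h3 : (x.natAbs : ℤ) < 2 ^ x.natAbs := by exact_mod_cast Nat.lt_two_pow_self
  rw [Int.abs_eq_natAbs] at h2
  omega

/-- CY3 core. -/
theorem real_parity_of (R : Subring ℂ) [IsLocalRing R] (h2 : (2 : R) ∈ IsLocalRing.maximalIdeal R)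
    (ζ : ℂ) (hζR : ζ ∈ R) (a : ℕ) (hζ : ζ ^ (2 ^ a) = -1)
    (hCY2 : ∀ (β : ℕ → ℤ) (h : ℕ) (r : ℂ), r ∈ R →
      ∑ i ∈ Finset.range (2 ^ a), (β i : ℂ) * ζ ^ i = 2 ^ h * r → ∀ i < 2 ^ a, (2 : ℤ) ^ h ∣ β i)
    (γ : ℕ → ℤ)
    (hreal : conj (∑ i ∈ Finset.range (2 ^ a), (γ i : ℂ) * ζ ^ i) =
      ∑ i ∈ Finset.range (2 ^ a), (γ i : ℂ) * ζ ^ i)
    (y : R) (hy : (y : ℂ) = ∑ i ∈ Finset.range (2 ^ a), (γ i : ℂ) * ζ ^ i)
    (hym : y ∈ IsLocalRing.maximalIdeal R) : (2 : ℤ) ∣ γ 0 := by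
  classical
  obtain ⟨n', hn'⟩ : ∃ n', 2 ^ a = n' + 1 := ⟨2 ^ a - 1, by have := Nat.one_le_two_pow (n := a); omega⟩
  have hζ0 : ζ ≠ 0 := by
    intro h0; rw [h0, zero_pow (by positivity)] at hζ; norm_num at hζ
  -- conj ζ ^ (j+1) = - ζ ^ (n' - j)  for j < n'
  have hnorm : ‖ζ‖ = 1 := by
    have h1 : ‖ζ‖ ^ (2 ^ a) = 1 := by rw [← norm_pow, hζ]; simp
    exact (pow_eq_one_iff_of_nonneg (norm_nonneg _) (by positivity)).mp h1
  have hconjζ : conj ζ = ζ⁻¹ := (Complex.inv_eq_conj hnorm).symm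
  have hcj : ∀ j, j < n' → conj (ζ ^ (j + 1)) = - ζ ^ (n' - 1 - j + 1) := by
    intro j hj
    rw [map_pow, hconjζ, inv_pow]
    have h1 : ζ ^ (j + 1) * ζ ^ (n' - 1 - j + 1) = -1 := by
      rw [← pow_add, ← hζ, hn']; congr 1; omega
    exact inv_eq_of_mul_eq_one_right (by rw [mul_neg, h1, neg_neg])
  -- the sum without its constant term
  set T : ℂ := ∑ j ∈ Finset.range n', (γ (j + 1) : ℂ) * ζ ^ (j + 1) with hT
  have hS : ∑ i ∈ Finset.range (2 ^ a), (γ i : ℂ) * ζ ^ i = T + (γ 0 : ℂ) := by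
    rw [hn', Finset.sum_range_succ']; simp [hT]
  have hconjT : conj T = - ∑ j ∈ Finset.range n', (γ (n' - 1 - j + 1) : ℂ) * ζ ^ (j + 1) := by
    rw [hT, map_sum, ← Finset.sum_range_reflect, ← Finset.sum_neg_distrib]
    refine Finset.sum_congr rfl (fun j hj => ?_)
    have hj' : j < n' := Finset.mem_range.mp hj
    have hj2 : n' - 1 - j < n' := by omega
    rw [map_mul, hcj _ hj2, map_intCast]
    have : n' - 1 - (n' - 1 - j) + 1 = j + 1 := by omega
    rw [this]; ring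
  -- reality gives a vanishing combination
  have hvan : ∑ j ∈ Finset.range n', ((γ (j + 1) + γ (n' - 1 - j + 1) : ℤ) : ℂ) * ζ ^ (j + 1) = 0 := by
    have h1 : conj (T + (γ 0 : ℂ)) = T + (γ 0 : ℂ) := by rw [← hS]; exact hreal
    rw [map_add, map_intCast, hconjT] at h1
    have h3 : T + ∑ j ∈ Finset.range n', (γ (n' - 1 - j + 1) : ℂ) * ζ ^ (j + 1) = 0 := by
      linear_combination (-1 : ℂ) * h1
    rw [hT, ← Finset.sum_add_distrib] at h3
    rw [← h3]
    refine Finset.sum_congr rfl (fun j _ => ?_)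
    push_cast; ring
  -- CY2 with r = 0 : all the coefficients vanish
  set β : ℕ → ℤ := fun i => if i = 0 then 0 else γ i + γ (n' - 1 - (i - 1) + 1) with hβ
  have hβsum : ∑ i ∈ Finset.range (2 ^ a), (β i : ℂ) * ζ ^ i = 0 := by
    rw [hn', Finset.sum_range_succ']
    simp only [hβ, if_true, Int.cast_zero, zero_mul, add_zero, Nat.succ_ne_zero, if_false,
      Nat.add_sub_cancel]
    exact hvan
  have hβ0 : ∀ i < 2 ^ a, β i = 0 := by
    intro i hi
    refine int_eq_zero_of_forall_two_pow_dvd _ (fun h => ?_)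
    exact hCY2 β h 0 R.zero_mem (by rw [hβsum]; ring) i hi
  have hpair : ∀ j < n', γ (j + 1) + γ (n' - 1 - j + 1) = 0 := by
    intro j hj
    have := hβ0 (j + 1) (by omega)
    simpa [hβ] using this
  have hsum0 : ∑ j ∈ Finset.range n', γ (j + 1) = 0 := by
    have h1 : ∑ j ∈ Finset.range n', (γ (j + 1) + γ (n' - 1 - j + 1)) = 0 :=
      Finset.sum_eq_zero (fun j hj => hpair j (Finset.mem_range.mp hj))
    rw [Finset.sum_add_distrib, Finset.sum_range_reflect (fun j => γ (j + 1)) n'] at h1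
    omega
  -- pass to the residue field
  let k := IsLocalRing.ResidueField R
  let res : R →+* k := IsLocalRing.residue R
  have hk2 : (2 : k) = 0 := by
    have := (IsLocalRing.residue_eq_zero_iff (2 : R)).mpr h2
    rw [map_ofNat] at this
    exact this
  set z : R := ⟨ζ, hζR⟩ with hz
  have hz1 : res z = 1 := by
    apply eq_one_of_pow_two_pow hk2 (a + 1)
    rw [← map_pow]
    have : z ^ (2 ^ (a + 1)) = 1 := by
      apply Subtype.ext
      simp only [hz, Subring.coe_pow, Subring.coe_one]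
      rw [pow_succ, pow_mul, hζ]; norm_num
    rw [this, map_one]
  have hyR : y = ∑ i ∈ Finset.range (2 ^ a), (γ i : R) * z ^ i := by
    apply Subtype.ext
    rw [hy]; simp [hz]
  have hres : res y = ((γ 0 : ℤ) : k) := by
    rw [hyR, map_sum]
    simp only [map_mul, map_pow, hz1, one_pow, mul_one, map_intCast]
    rw [hn', Finset.sum_range_succ', ← Int.cast_sum, hsum0]; simp
  have hy0 : res y = 0 := (IsLocalRing.residue_eq_zero_iff y).mpr hym
  rw [hres] at hy0
  by_contra hodd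
  have hodd' : Odd (γ 0) := by
    rcases Int.even_or_odd (γ 0) with he | ho
    · exact absurd (even_iff_two_dvd.mp he) hodd
    · exact ho
  obtain ⟨c, hc⟩ := hodd'
  rw [hc, Int.cast_add, Int.cast_mul, Int.cast_ofNat, Int.cast_one, hk2, zero_mul, zero_add] at hy0
  exact one_ne_zero hy0

end Cfsg.Agent.Lib.H8.KY
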