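import Mathlib
import Cfsg.Agent.Lib.H7.T648Defs
import Cfsg.Agent.Lib.H7.T648Model
import Cfsg.Agent.Lib.H18.L648Defs
import Cfsg.Agent.Lib.H4.L648ENUM648

/-!
# S3702, helper18's side, piece OFF (helper8): the `Fc i` vanish off `A648`
-/

set_option autoImplicit false

namespace Cfsg.Agent.Lib.H8.L648

open Cfsg Cfsg.Agent.Lib.H7.T648 Cfsg.Agent.Lib.H18 Cfsg.Agent.Lib.H18.L648
open scoped ComplexConjugate

/-- a kernel-friendly Boolean version of `A648` -/
def isA (x : M648) : Bool :=
  !isOne x && ((decide (x.a = 1) && decide (x.b = 1) && decide (x.p = 1)) ||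
    (!isOne (x * x * x) && !isOne (x * x * (x * x))))

/-- the classes off `A648` -/
def offCls (c : Fin 14) : Bool :=
  decide (c = 0) || decide (c = 1) || decide (c = 2) || decide (c = 6) || decide (c = 7)

theorem isA_or_offCls_all : allM.all (fun x => isA x || offCls (cls x)) = true := by
  decide +kernel

theorem A648_of_isA (x : M648) (h : isA x = true) : A648 x := by
  unfold isA at h
  simp only [Bool.and_eq_true, Bool.or_eq_true, Bool.not_eq_true', decide_eq_true_eq] at h
  obtain ⟨h1, h2⟩ := h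
  refine ⟨fun hx => ?_, ?_⟩
  · rw [(Cfsg.Agent.Lib.H4.L648.isOne_iff x).mpr hx] at h1
    exact Bool.noConfusion h1
  · rcases h2 with ⟨⟨ha, hb⟩, hp⟩ | ⟨h3, h4⟩
    · exact Or.inl ⟨ha, hb, hp⟩
    · refine Or.inr ⟨fun h => ?_, fun h => ?_⟩
      · have e : x * x * x = 1 := by rw [← h, pow_succ, pow_two]
        rw [(Cfsg.Agent.Lib.H4.L648.isOne_iff _).mpr e] at h3
        exact Bool.noConfusion h3
      · have e : x * x * (x * x) = 1 := by
          rw [← h, show (4 : ℕ) = 2 + 2 from rfl, pow_add, pow_two]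
        rw [(Cfsg.Agent.Lib.H4.L648.isOne_iff _).mpr e] at h4
        exact Bool.noConfusion h4

/-- (`allM.all …` by `decide +kernel` with `isOne`; `x ^ 3 = x * x * x`) -/
theorem cls_of_not_A648 (x : M648) (hx : ¬ A648 x) :
    cls x = 0 ∨ cls x = 1 ∨ cls x = 2 ∨ cls x = 6 ∨ cls x = 7 := by
  have h := Cfsg.Agent.Lib.H4.L648.forall_of_allM _ isA_or_offCls_all x
  simp only [Bool.or_eq_true] at h
  rcases h with h | h
  · exact absurd (A648_of_isA x h) hx
  · unfold offCls at h
    simp only [Bool.or_eq_true, decide_eq_true_eq] at h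
    rcases h with (((h | h) | h) | h) | h
    · exact Or.inl h
    · exact Or.inr (Or.inl h)
    · exact Or.inr (Or.inr (Or.inl h))
    · exact Or.inr (Or.inr (Or.inr (Or.inl h)))
    · exact Or.inr (Or.inr (Or.inr (Or.inr h)))

theorem Ftab_off : ∀ (i : Fin 9) (c : Fin 14), offCls c = true → Ftab i c = 0 := by
  decide +kernel

theorem Fc_off (hF : ∀ (i : Fin 9) (x : M648), FZ i x = Ftab i (cls x)) (i : Fin 9) (x : M648)
    (hx : ¬ A648 x) : Fc i x = 0 := by
  have hc : offCls (cls x) = true := by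
    unfold offCls
    simp only [Bool.or_eq_true, decide_eq_true_eq]
    rcases cls_of_not_A648 x hx with h | h | h | h | h
    · exact Or.inl (Or.inl (Or.inl (Or.inl h)))
    · exact Or.inl (Or.inl (Or.inl (Or.inr h)))
    · exact Or.inl (Or.inl (Or.inr h))
    · exact Or.inl (Or.inr h)
    · exact Or.inr h
  unfold Fc
  rw [hF i x, Ftab_off i (cls x) hc, map_zero, zero_div]

end Cfsg.Agent.Lib.H8.L648
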