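import Mathlib

/-!
# S0434 piece (ARITH3) `arith_m2` (helper8): pure arithmetic

`|C(t)| = 9 m` with `m ∣ 16` for an element `t` of order 3 in a simple group of order 7920: the column
relations force `m = 2`.
-/

set_option autoImplicit false

namespace Cfsg.Agent.Lib.H8.M7920

open scoped BigOperators

/-- An integer `≢ 0 (mod 3)` has square at least `1` (as a real number). -/
theorem one_le_sq_cast_of_mod {z : ℤ} (h : z % 3 ≠ 0) : (1 : ℝ) ≤ (z : ℝ) ^ 2 := by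
  have h0 : z ≠ 0 := by
    rintro rfl
    exact h rfl
  have h1 : (1 : ℤ) ≤ z ^ 2 := by
    have := sq_nonneg z
    have h2 : z ^ 2 ≠ 0 := pow_ne_zero 2 h0
    omega
  exact_mod_cast h1

/-- (ARITH3), exact signature. -/
theorem arith_m2 (m : ℕ) (hm : m ∣ 16) (u b d f : ℤ) (n : Fin 3 → ℝ) (p : ℝ)
    (hu : u ≡ 1 [ZMOD 3]) (hb : b ≡ 2 [ZMOD 3]) (hd : d ≡ 2 [ZMOD 3]) (hf : f ≡ 1 [ZMOD 3])
    (hn : ∀ i, 1 ≤ n i) (hp : 0 ≤ p)
    (hcc : (16 : ℤ) ∣ ((880 / m : ℕ) : ℤ) * u)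
    (hcol : ((9 * m : ℕ) : ℝ) =
      1 + ∑ i, n i + p + 2 * (u : ℝ) ^ 2 + (b : ℝ) ^ 2 + (d : ℝ) ^ 2 + (f : ℝ) ^ 2)
    (hy : 1 + 2 * u + b - d = 0) : m = 2 := by
  unfold Int.ModEq at hu hb hd hf
  have hu3 : u % 3 = 1 := by omega
  have hb3 : b % 3 = 2 := by omega
  have hd3 : d % 3 = 2 := by omega
  have hf3 : f % 3 = 1 := by omega
  have hb1 : (1 : ℝ) ≤ (b : ℝ) ^ 2 := one_le_sq_cast_of_mod (by omega)
  have hd1 : (1 : ℝ) ≤ (d : ℝ) ^ 2 := one_le_sq_cast_of_mod (by omega)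
  have hf1 : (1 : ℝ) ≤ (f : ℝ) ^ 2 := one_le_sq_cast_of_mod (by omega)
  have hu1 : (1 : ℝ) ≤ (u : ℝ) ^ 2 := one_le_sq_cast_of_mod (by omega)
  have hn0 := hn 0
  have hn1 := hn 1
  have hn2 := hn 2
  rw [Fin.sum_univ_three] at hcol
  have hm16 : m ≤ 16 := Nat.le_of_dvd (by norm_num) hm
  have hm0 : 0 < m := Nat.pos_of_dvd_of_pos hm (by norm_num)
  -- a lower bound for `u ^ 2` from a divisibility
  have key : ∀ k : ℤ, 0 < k → k ∣ u → ((k : ℝ)) ^ 2 ≤ (u : ℝ) ^ 2 := by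
    intro k hk hku
    have hu0 : u ≠ 0 := by
      rintro rfl
      norm_num at hu3
    obtain ⟨q, rfl⟩ := hku
    have hq0 : q ≠ 0 := by
      rintro rfl
      exact hu0 (mul_zero k)
    have hq1 : (1 : ℤ) ≤ q ^ 2 := by
      have := sq_nonneg q
      have h2 : q ^ 2 ≠ 0 := pow_ne_zero 2 hq0
      omega
    have : k ^ 2 ≤ (k * q) ^ 2 := by nlinarith [sq_nonneg k]
    exact_mod_cast this
  interval_cases m
  · -- m = 1
    exfalso
    norm_num at hcol
    have h5 : (2 * u ^ 2 + b ^ 2 + d ^ 2 + f ^ 2 : ℤ) ≤ 5 := by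
      have : (2 * (u : ℝ) ^ 2 + (b : ℝ) ^ 2 + (d : ℝ) ^ 2 + (f : ℝ) ^ 2) ≤ 5 := by linarith
      exact_mod_cast this
    have hb' : (1 : ℤ) ≤ b ^ 2 := by exact_mod_cast hb1
    have hd' : (1 : ℤ) ≤ d ^ 2 := by exact_mod_cast hd1
    have hf' : (1 : ℤ) ≤ f ^ 2 := by exact_mod_cast hf1
    have hu' : (1 : ℤ) ≤ u ^ 2 := by exact_mod_cast hu1
    have hu2 : u ^ 2 ≤ 1 := by nlinarith
    have hbb : b ^ 2 ≤ 1 := by nlinarith
    have hdd : d ^ 2 ≤ 1 := by nlinarith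
    have hua : -1 ≤ u ∧ u ≤ 1 := ⟨by nlinarith, by nlinarith⟩
    have hba : -1 ≤ b ∧ b ≤ 1 := ⟨by nlinarith, by nlinarith⟩
    have hda : -1 ≤ d ∧ d ≤ 1 := ⟨by nlinarith, by nlinarith⟩
    omega
  · rfl
  · exfalso; revert hm; decide
  · -- m = 4
    exfalso
    norm_num at hcol hcc
    have h4 : (4 : ℤ) ∣ u := by omega
    have := key 4 (by norm_num) h4
    norm_num at this
    linarith
  · exfalso; revert hm; decide
  · exfalso; revert hm; decide
  · exfalso; revert hm; decide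
  · -- m = 8
    exfalso
    norm_num at hcol hcc
    have h8 : (8 : ℤ) ∣ u := by omega
    have := key 8 (by norm_num) h8
    norm_num at this
    linarith
  · exfalso; revert hm; decide
  · exfalso; revert hm; decide
  · exfalso; revert hm; decide
  · exfalso; revert hm; decide
  · exfalso; revert hm; decide
  · exfalso; revert hm; decide
  · exfalso; revert hm; decide
  · -- m = 16
    exfalso
    norm_num at hcol hcc
    have h16 : (16 : ℤ) ∣ u := by omega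
    have := key 16 (by norm_num) h16
    norm_num at this
    linarith

end Cfsg.Agent.Lib.H8.M7920
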