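import Cfsg.Agent.Lib.H12.O7920F2

/-!
# S4429 piece (F10) `values5` (helper8)

Values of an irreducible character at an element `y` of order 5 with `y ~ y^2`: all four nontrivial
fifth roots of unity have the same multiplicity `c` as eigenvalues, so `ψ y = c₀ - c` is an integer `B`
and `ψ 1 = c₀ + 4 c = B + 5 c`.  (Same method as helper12's `char_values_order11`.)
-/

set_option autoImplicit false

namespace Cfsg.Agent.Lib.H8.M7920

open Cfsg Cfsg.Agent.Lib.L0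
open scoped ComplexConjugate BigOperators

universe u

/-- If the power sums satisfy `S (2 j) = S j`, the multiplicity of `ζ^i` equals that of `ζ^(2 i)`
(fifth roots of unity). -/
theorem mult_mul_two {n : ℕ} (ζ : ℂ) (hζ : ζ ^ 5 = 1) (a : Fin n → ℂ) (ha : ∀ k, a k ^ 5 = 1)
    (h2 : ∀ j : ℕ, ∑ k, a k ^ (2 * j) = ∑ k, a k ^ j) (i : ℕ) :
    (Finset.univ.filter (fun k => a k = ζ ^ (2 * i))).card =
      (Finset.univ.filter (fun k => a k = ζ ^ i)).card := by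
  classical
  have hd1 := Cfsg.Agent.Lib.H12.BB.dft_count (p := 5) (by norm_num) ζ hζ a ha i
  have hd2 := Cfsg.Agent.Lib.H12.BB.dft_count (p := 5) (by norm_num) ζ hζ a ha (2 * i)
  have hperS : ∀ j : ℕ, ∑ k, a k ^ (j % 5) = ∑ k, a k ^ j := by
    intro j
    refine Finset.sum_congr rfl fun k _ => ?_
    exact (pow_eq_pow_mod j (ha k)).symm
  have hw : ((ζ ^ i)⁻¹) ^ 5 = 1 := by
    rw [inv_pow, ← pow_mul, mul_comm, pow_mul, hζ, one_pow, inv_one]
  have hperW : ∀ j : ℕ, ((ζ ^ i)⁻¹) ^ (j % 5) = ((ζ ^ i)⁻¹) ^ j := fun j =>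
    (pow_eq_pow_mod j hw).symm
  -- reindex `j ↦ 2 j mod 5`
  have hre : ∑ j ∈ Finset.range 5, (∑ k, a k ^ j) * ((ζ ^ i)⁻¹) ^ j =
      ∑ j ∈ Finset.range 5, (∑ k, a k ^ (2 * j % 5)) * ((ζ ^ i)⁻¹) ^ (2 * j % 5) := by
    symm
    apply Finset.sum_nbij' (fun j => 2 * j % 5) (fun j => 3 * j % 5)
    · intro j _
      exact Finset.mem_range.mpr (Nat.mod_lt _ (by norm_num))
    · intro j _
      exact Finset.mem_range.mpr (Nat.mod_lt _ (by norm_num))
    · intro j hj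
      have := Finset.mem_range.mp hj
      omega
    · intro j hj
      have := Finset.mem_range.mp hj
      omega
    · intro j _
      rfl
  have hterm : ∀ j : ℕ, (∑ k, a k ^ (2 * j % 5)) * ((ζ ^ i)⁻¹) ^ (2 * j % 5) =
      (∑ k, a k ^ j) * ((ζ ^ (2 * i))⁻¹) ^ j := by
    intro j
    rw [hperS, hperW, h2 j]
    congr 1
    rw [inv_pow, inv_pow, ← pow_mul, ← pow_mul]
    congr 2
    ring
  rw [Finset.sum_congr rfl (fun j _ => hterm j), hd2] at hre
  rw [hd1] at hre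
  have h5 : ((5 : ℕ) : ℂ) ≠ 0 := by norm_num
  have := mul_left_cancel₀ h5 hre
  exact_mod_cast this.symm

/-- General form of (F10) for a function `ψ` that is an irreducible character. -/
theorem char_values_order5_rational {G : Type*} [Group G] [Finite G] (ψ : G → ℂ)
    (hψ : Cfsg.IsIrrCharacter G ψ) (y : G) (hy : orderOf y = 5) (h2 : IsConj y (y ^ 2)) :
    ∃ (B : ℤ) (c : ℕ), ψ y = (B : ℂ) ∧ ψ 1 = (B : ℂ) + 5 * c := by
  classical
  obtain ⟨ζ, hζ⟩ : ∃ ζ : ℂ, IsPrimitiveRoot ζ 5 :=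
    ⟨_, Complex.isPrimitiveRoot_exp 5 (by norm_num)⟩
  obtain ⟨d, R, htr, -, -, -, -⟩ := Cfsg.Agent.Lib.H15.B60.exists_isometric_model ψ hψ
  obtain ⟨a, hpow, hroot, -, -⟩ := Cfsg.Agent.Lib.H9.B60.exists_eigen_list_rep R ψ htr
    (finrank_euclideanSpace_fin) y
  rw [hy] at hroot
  have h5 : ζ ^ 5 = 1 := hζ.pow_eq_one
  have hs : 1 + ζ + ζ ^ 2 + ζ ^ 3 + ζ ^ 4 = 0 := by
    have h := hζ.geom_sum_eq_zero (by norm_num : 1 < 5)
    simp only [Finset.sum_range_succ, Finset.sum_range_zero, zero_add, pow_zero, pow_one] at h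
    linear_combination h
  have hcf := isClassFunction_of_isCharacter (isCharacter_of_irr hψ)
  -- `S (2 j) = S j`
  have hS2 : ∀ j : ℕ, ∑ k, a k ^ (2 * j) = ∑ k, a k ^ j := by
    intro j
    rw [← hpow, ← hpow]
    obtain ⟨g, hg⟩ := isConj_iff.1 h2
    have : y ^ (2 * j) = g * y ^ j * g⁻¹ := by
      rw [pow_mul, ← hg, conj_pow]
    rw [this]
    exact hcf (y ^ j) g
  set M : ℕ → ℕ := fun i => (Finset.univ.filter (fun k => a k = ζ ^ i)).card with hM
  have hM2 : ∀ i, M (2 * i) = M i := fun i => mult_mul_two ζ h5 a hroot hS2 i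
  have hMper : ∀ i r : ℕ, ζ ^ i = ζ ^ r → M i = M r := by
    intro i r h
    simp only [hM, h]
  have e8 : ζ ^ 8 = ζ ^ 3 := by
    calc ζ ^ 8 = ζ ^ 5 * ζ ^ 3 := by ring
      _ = ζ ^ 3 := by rw [h5]; ring
  have q2 : M 2 = M 1 := hM2 1
  have q4 : M 4 = M 1 := (hM2 2).trans q2
  have q3 : M 3 = M 1 := ((hMper 8 3 e8).symm.trans (hM2 4)).trans q4
  have hval : ∀ j : ℕ, ψ (y ^ j) = ∑ i ∈ Finset.range 5, (M i : ℂ) * (ζ ^ i) ^ j := by
    intro j
    rw [hpow j]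
    exact Cfsg.Agent.Lib.H12.O7920.pow_sum_eq_mult ζ hζ a hroot j
  have hv1 : ψ y = (M 0 : ℂ) + (M 1 : ℂ) * (ζ + ζ ^ 2 + ζ ^ 3 + ζ ^ 4) := by
    have := hval 1
    simp only [pow_one, Finset.sum_range_succ, Finset.sum_range_zero, zero_add, pow_zero] at this
    rw [this, q2, q3, q4]
    ring
  have hv0 : ψ 1 = (M 0 : ℂ) + 4 * (M 1 : ℂ) := by
    have := hval 0
    simp only [pow_zero, Finset.sum_range_succ, Finset.sum_range_zero, zero_add, mul_one] at this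
    rw [this, q2, q3, q4]
    ring
  refine ⟨(M 0 : ℤ) - M 1, M 1, ?_, ?_⟩
  · rw [hv1]
    push_cast
    linear_combination (M 1 : ℂ) * hs
  · rw [hv0]
    push_cast
    ring

/-- (F10), exact signature. -/
theorem values5 {G : Type u} [Group G] [Finite G] (ψ : IrrCharacter G) (y : G) (hy : orderOf y = 5)
    (h2 : IsConj y (y ^ 2)) :
    ∃ (B : ℤ) (c : ℕ), (ψ : G → ℂ) y = (B : ℂ) ∧ (ψ : G → ℂ) 1 = (B : ℂ) + 5 * c :=
  char_values_order5_rational (ψ : G → ℂ) ψ.2 y hy h2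

end Cfsg.Agent.Lib.H8.M7920
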