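import Mathlib

/-!
# S4429 piece (F3) `arith11` (helper8): pure integer combinatorics

From the three second-orthogonality relations at an element of order 11:
`∑ m^2 = 2`, `∑ A^2 = 6`, `∑ A m = 1`; exactly two indices carry `m = ±1`, with opposite signs and
equal degrees, and (after swapping) `A j₁ = m j₁ = σ`, `A j₂ = 0`.
-/

set_option autoImplicit false

namespace Cfsg.Agent.Lib.H8.M7920

open scoped BigOperators

universe u

/-- Splitting a sum over a fintype at two distinct indices. -/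
theorem sum_split_two {ι : Type u} [Fintype ι] [DecidableEq ι] (f : ι → ℤ) {j₁ j₂ : ι}
    (h : j₁ ≠ j₂) :
    ∑ i, f i = f j₁ + f j₂ + ∑ i, (if i = j₁ ∨ i = j₂ then 0 else f i) := by
  have h1 : ∀ i, f i = (if i = j₁ then f i else 0) + (if i = j₂ then f i else 0) +
      (if i = j₁ ∨ i = j₂ then 0 else f i) := by
    intro i
    by_cases h1 : i = j₁
    · subst h1
      simp [h]
    · by_cases h2 : i = j₂
      · subst h2
        simp [h1]
      · simp [h1, h2]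
  calc ∑ i, f i = ∑ i, ((if i = j₁ then f i else 0) + (if i = j₂ then f i else 0) +
        (if i = j₁ ∨ i = j₂ then 0 else f i)) := Finset.sum_congr rfl fun i _ => h1 i
    _ = f j₁ + f j₂ + ∑ i, (if i = j₁ ∨ i = j₂ then 0 else f i) := by
        rw [Finset.sum_add_distrib, Finset.sum_add_distrib, Finset.sum_ite_eq' Finset.univ j₁ f,
          Finset.sum_ite_eq' Finset.univ j₂ f]
        simp

/-- An integer with `0 < z ^ 2 ≤ 2` has `z ^ 2 = 1`. -/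
theorem sq_eq_one_of_le_two {z : ℤ} (h0 : z ^ 2 ≠ 0) (h2 : z ^ 2 ≤ 2) : z ^ 2 = 1 := by
  have h3 : -1 ≤ z := by nlinarith
  have h4 : z ≤ 1 := by nlinarith
  interval_cases z <;> simp_all

/-- A family of integers whose squares sum to `2` has exactly two entries `±1`. -/
theorem exists_two_of_sum_sq_eq_two {ι : Type u} [Fintype ι] [DecidableEq ι] (m : ι → ℤ)
    (h : ∑ i, m i ^ 2 = 2) :
    ∃ j₁ j₂ : ι, j₁ ≠ j₂ ∧ m j₁ ^ 2 = 1 ∧ m j₂ ^ 2 = 1 ∧ ∀ i, i ≠ j₁ → i ≠ j₂ → m i = 0 := by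
  have hne : ∑ i, m i ^ 2 ≠ 0 := by rw [h]; norm_num
  obtain ⟨j₁, -, hj₁⟩ := Finset.exists_ne_zero_of_sum_ne_zero hne
  have h1 : m j₁ ^ 2 + ∑ i ∈ Finset.univ.erase j₁, m i ^ 2 = 2 :=
    (Finset.add_sum_erase Finset.univ (fun i => m i ^ 2) (Finset.mem_univ j₁)).trans h
  have h1nn : 0 ≤ ∑ i ∈ Finset.univ.erase j₁, m i ^ 2 := Finset.sum_nonneg fun i _ => sq_nonneg _
  have hj₁1 : m j₁ ^ 2 = 1 := sq_eq_one_of_le_two hj₁ (by linarith)
  have h2 : ∑ i ∈ Finset.univ.erase j₁, m i ^ 2 = 1 := by linarith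
  have hne2 : ∑ i ∈ Finset.univ.erase j₁, m i ^ 2 ≠ 0 := by rw [h2]; norm_num
  obtain ⟨j₂, hj₂mem, hj₂⟩ := Finset.exists_ne_zero_of_sum_ne_zero hne2
  have h3 : m j₂ ^ 2 + ∑ i ∈ (Finset.univ.erase j₁).erase j₂, m i ^ 2 = 1 :=
    (Finset.add_sum_erase (Finset.univ.erase j₁) (fun i => m i ^ 2) hj₂mem).trans h2
  have h3nn : 0 ≤ ∑ i ∈ (Finset.univ.erase j₁).erase j₂, m i ^ 2 :=
    Finset.sum_nonneg fun i _ => sq_nonneg _
  have hj₂1 : m j₂ ^ 2 = 1 := sq_eq_one_of_le_two hj₂ (by linarith)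
  have h4 : ∑ i ∈ (Finset.univ.erase j₁).erase j₂, m i ^ 2 = 0 := by linarith
  have h5 := (Finset.sum_eq_zero_iff_of_nonneg (fun i _ => sq_nonneg (m i))).1 h4
  refine ⟨j₁, j₂, (Finset.ne_of_mem_erase hj₂mem).symm, hj₁1, hj₂1, fun i hi1 hi2 => ?_⟩
  have := h5 i (Finset.mem_erase.2 ⟨hi2, Finset.mem_erase.2 ⟨hi1, Finset.mem_univ i⟩⟩)
  exact pow_eq_zero_iff (two_ne_zero) |>.1 this

/-- Core of (F3): the two exceptional indices with `m j₁ = 1`, `m j₂ = -1`. -/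
theorem arith11_core {ι : Type u} [Fintype ι] [DecidableEq ι] (A m d : ι → ℤ) (i₁ : ι)
    (hA1 : A i₁ = 1) (hd1 : d i₁ = 1) (hdpos : ∀ i, 0 < d i)
    (hSA : ∑ i, A i ^ 2 = 6) (hSAM : ∑ i, A i * m i = 1)
    (hdA : ∑ i, d i * A i = 0) (hdm : ∑ i, d i * m i = 0)
    (j₁ j₂ : ι) (hne : j₁ ≠ j₂) (h1 : j₁ ≠ i₁) (h2 : j₂ ≠ i₁) (hm1 : m j₁ = 1) (hm2 : m j₂ = -1)
    (hrest : ∀ i, i ≠ j₁ → i ≠ j₂ → m i = 0) :
    ∃ (σ : ℤ) (j₁ j₂ : ι), (σ = 1 ∨ σ = -1) ∧ j₁ ≠ i₁ ∧ j₂ ≠ i₁ ∧ j₁ ≠ j₂ ∧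
      A j₁ = σ ∧ m j₁ = σ ∧ A j₂ = 0 ∧ m j₂ = -σ ∧ d j₁ = d j₂ ∧
      (∀ i, i ≠ j₁ → i ≠ j₂ → m i = 0) ∧
      ∑ i, (if i = j₁ ∨ i = j₂ then 0 else A i ^ 2) = 5 ∧
      ∑ i, (if i = j₁ ∨ i = j₂ then 0 else d i * A i) + σ * d j₁ = 0 := by
  -- split the four sums
  have e1 := sum_split_two (fun i => d i * m i) hne
  have e2 := sum_split_two (fun i => A i * m i) hne
  have e3 := sum_split_two (fun i => A i ^ 2) hne
  have e4 := sum_split_two (fun i => d i * A i) hne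
  have z1 : ∑ i, (if i = j₁ ∨ i = j₂ then 0 else d i * m i) = 0 := by
    refine Finset.sum_eq_zero fun i _ => ?_
    split_ifs with h
    · rfl
    · have h' := not_or.1 h
      rw [hrest i h'.1 h'.2, mul_zero]
  have z2 : ∑ i, (if i = j₁ ∨ i = j₂ then 0 else A i * m i) = 0 := by
    refine Finset.sum_eq_zero fun i _ => ?_
    split_ifs with h
    · rfl
    · have h' := not_or.1 h
      rw [hrest i h'.1 h'.2, mul_zero]
  beta_reduce at e1 e2 e3 e4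
  rw [z1, hdm, hm1, hm2] at e1
  rw [z2, hSAM, hm1, hm2] at e2
  rw [hSA] at e3
  rw [hdA] at e4
  set R := ∑ i, (if i = j₁ ∨ i = j₂ then 0 else A i ^ 2) with hR
  set T := ∑ i, (if i = j₁ ∨ i = j₂ then 0 else d i * A i) with hT
  have hdeq : d j₁ = d j₂ := by linarith
  have hA12 : A j₁ = A j₂ + 1 := by linarith
  -- `R ≥ 1` (the term at `i₁`)
  have hgnn : ∀ i ∈ Finset.univ, 0 ≤ (if i = j₁ ∨ i = j₂ then 0 else A i ^ 2) := by
    intro i _
    split_ifs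
    · exact le_refl _
    · exact sq_nonneg _
  have hgi₁ : (if i₁ = j₁ ∨ i₁ = j₂ then 0 else A i₁ ^ 2) = 1 := by
    rw [if_neg (not_or.2 ⟨h1.symm, h2.symm⟩), hA1]; norm_num
  have hR1 : 1 ≤ R := by
    have := Finset.single_le_sum hgnn (Finset.mem_univ i₁)
    rw [hgi₁] at this
    exact this
  -- the range of `t = A j₂`
  have ht1 : -2 ≤ A j₂ := by nlinarith [sq_nonneg (A j₂), sq_nonneg (A j₁)]
  have ht2 : A j₂ ≤ 1 := by nlinarith [sq_nonneg (A j₂), sq_nonneg (A j₁)]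
  -- when `R = 1`, `T = 1`
  have hT1 : R = 1 → T = 1 := by
    intro hR1'
    have hsplit : (if i₁ = j₁ ∨ i₁ = j₂ then 0 else A i₁ ^ 2) +
        ∑ i ∈ Finset.univ.erase i₁, (if i = j₁ ∨ i = j₂ then 0 else A i ^ 2) = R :=
      Finset.add_sum_erase Finset.univ (fun i => if i = j₁ ∨ i = j₂ then 0 else A i ^ 2)
        (Finset.mem_univ i₁)
    rw [hgi₁, hR1'] at hsplit
    have h0 : ∑ i ∈ Finset.univ.erase i₁, (if i = j₁ ∨ i = j₂ then 0 else A i ^ 2) = 0 := by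
      linarith
    have h0' := (Finset.sum_eq_zero_iff_of_nonneg
      (fun i _ => hgnn i (Finset.mem_univ i))).1 h0
    rw [hT, Finset.sum_eq_single i₁]
    · rw [if_neg (not_or.2 ⟨h1.symm, h2.symm⟩), hd1, hA1]; norm_num
    · intro i _ hi
      have := h0' i (Finset.mem_erase.2 ⟨hi, Finset.mem_univ i⟩)
      split_ifs with h
      · rfl
      · rw [if_neg h] at this
        rw [pow_eq_zero_iff (two_ne_zero) |>.1 this, mul_zero]
    · intro h; exact absurd (Finset.mem_univ i₁) h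
  have hdp := hdpos j₁
  -- the four cases
  have hcases : A j₂ = -2 ∨ A j₂ = -1 ∨ A j₂ = 0 ∨ A j₂ = 1 := by omega
  rcases hcases with ht | ht | ht | ht
  · -- `(p, q) = (-1, 2)`: impossible
    exfalso
    rw [ht] at hA12
    have hR' : R = 1 := by rw [hA12, ht] at e3; linarith
    have hT' := hT1 hR'
    rw [hA12, ht, hT', ← hdeq] at e4
    omega
  · -- swap: `σ = -1`
    rw [ht] at hA12
    have hA12' : A j₁ = 0 := by linarith
    refine ⟨-1, j₂, j₁, Or.inr rfl, h2, h1, hne.symm, ht, hm2, hA12', by rw [hm1]; norm_num,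
      hdeq.symm, fun i hi2 hi1 => hrest i hi1 hi2, ?_, ?_⟩
    · have : ∑ i, (if i = j₂ ∨ i = j₁ then 0 else A i ^ 2) = R := by
        rw [hR]
        refine Finset.sum_congr rfl fun i _ => ?_
        simp only [or_comm]
      rw [this]
      rw [hA12', ht] at e3
      linarith
    · have : ∑ i, (if i = j₂ ∨ i = j₁ then 0 else d i * A i) = T := by
        rw [hT]
        refine Finset.sum_congr rfl fun i _ => ?_
        simp only [or_comm]
      rw [this]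
      rw [hA12', ht] at e4
      linarith
  · -- `σ = 1`
    rw [ht] at hA12
    have hA12' : A j₁ = 1 := by linarith
    refine ⟨1, j₁, j₂, Or.inl rfl, h1, h2, hne, hA12', hm1, ht, hm2, hdeq, hrest, ?_, ?_⟩
    · rw [hA12', ht] at e3
      linarith
    · rw [hA12', ht] at e4
      linarith
  · -- `(p, q) = (2, -1)`: impossible
    exfalso
    rw [ht] at hA12
    have hA12' : A j₁ = 2 := by linarith
    have hR' : R = 1 := by rw [hA12', ht] at e3; linarith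
    have hT' := hT1 hR'
    rw [hA12', ht, hT', ← hdeq] at e4
    omega

/-- (F3), exact signature. -/
theorem arith11 {ι : Type u} [Fintype ι] [DecidableEq ι] (A m d : ι → ℤ) (i₁ : ι)
    (hA1 : A i₁ = 1) (hm1 : m i₁ = 0) (hd1 : d i₁ = 1) (hdpos : ∀ i, 0 < d i)
    (hf : ∑ i, (A i ^ 2 - A i * m i + 3 * m i ^ 2) = 11)
    (h2a : ∑ i, (A i ^ 2 - 3 * m i ^ 2) = 0) (h2b : ∑ i, (2 * A i * m i - m i ^ 2) = 0)
    (hdA : ∑ i, d i * A i = 0) (hdm : ∑ i, d i * m i = 0) :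
    ∃ (σ : ℤ) (j₁ j₂ : ι), (σ = 1 ∨ σ = -1) ∧ j₁ ≠ i₁ ∧ j₂ ≠ i₁ ∧ j₁ ≠ j₂ ∧
      A j₁ = σ ∧ m j₁ = σ ∧ A j₂ = 0 ∧ m j₂ = -σ ∧ d j₁ = d j₂ ∧
      (∀ i, i ≠ j₁ → i ≠ j₂ → m i = 0) ∧
      ∑ i, (if i = j₁ ∨ i = j₂ then 0 else A i ^ 2) = 5 ∧
      ∑ i, (if i = j₁ ∨ i = j₂ then 0 else d i * A i) + σ * d j₁ = 0 := by
  have hf' : ∑ i, A i ^ 2 - ∑ i, A i * m i + 3 * ∑ i, m i ^ 2 = 11 := by
    rw [← hf, Finset.mul_sum, ← Finset.sum_sub_distrib, ← Finset.sum_add_distrib]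
  have h2a' : ∑ i, A i ^ 2 - 3 * ∑ i, m i ^ 2 = 0 := by
    rw [← h2a, Finset.mul_sum, ← Finset.sum_sub_distrib]
  have h2b' : 2 * ∑ i, A i * m i - ∑ i, m i ^ 2 = 0 := by
    rw [← h2b, Finset.mul_sum, ← Finset.sum_sub_distrib]
    refine Finset.sum_congr rfl fun i _ => by ring
  have hSM : ∑ i, m i ^ 2 = 2 := by linarith
  have hSA : ∑ i, A i ^ 2 = 6 := by linarith
  have hSAM : ∑ i, A i * m i = 1 := by linarith
  obtain ⟨j₁, j₂, hne, hj₁, hj₂, hrest⟩ := exists_two_of_sum_sq_eq_two m hSM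
  have h1 : j₁ ≠ i₁ := by
    rintro rfl
    rw [hm1] at hj₁
    norm_num at hj₁
  have h2 : j₂ ≠ i₁ := by
    rintro rfl
    rw [hm1] at hj₂
    norm_num at hj₂
  have hs1 : m j₁ = 1 ∨ m j₁ = -1 := by
    have : (m j₁ - 1) * (m j₁ + 1) = 0 := by linarith [hj₁]
    rcases mul_eq_zero.1 this with h | h
    · left; linarith
    · right; linarith
  have hs2 : m j₂ = 1 ∨ m j₂ = -1 := by
    have : (m j₂ - 1) * (m j₂ + 1) = 0 := by linarith [hj₂]
    rcases mul_eq_zero.1 this with h | h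
    · left; linarith
    · right; linarith
  -- the signs are opposite
  have e1 := sum_split_two (fun i => d i * m i) hne
  have z1 : ∑ i, (if i = j₁ ∨ i = j₂ then 0 else d i * m i) = 0 := by
    refine Finset.sum_eq_zero fun i _ => ?_
    split_ifs with h
    · rfl
    · have h' := not_or.1 h
      rw [hrest i h'.1 h'.2, mul_zero]
  beta_reduce at e1
  rw [z1, hdm] at e1
  have hp1 := hdpos j₁
  have hp2 := hdpos j₂
  rcases hs1 with hs1 | hs1 <;> rcases hs2 with hs2 | hs2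
  · exfalso; rw [hs1, hs2] at e1; linarith
  · exact arith11_core A m d i₁ hA1 hd1 hdpos hSA hSAM hdA hdm j₁ j₂ hne h1 h2 hs1 hs2 hrest
  · exact arith11_core A m d i₁ hA1 hd1 hdpos hSA hSAM hdA hdm j₂ j₁ hne.symm h2 h1 hs2 hs1
      (fun i hi2 hi1 => hrest i hi1 hi2)
  · exfalso; rw [hs1, hs2] at e1; linarith

end Cfsg.Agent.Lib.H8.M7920
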