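import Mathlib
import Cfsg.Agent.Lib.H26.NGPDefs
import Cfsg.Agent.Lib.H26.NGPNU
import Cfsg.Agent.Lib.H15.NGPHC
import Cfsg.Agent.Lib.H15.NGPCSQ

set_option autoImplicit false

/-! S1904 piece X1INJ (architect helper26): an element outside `B` acting trivially on `B` modulo `U`
can be replaced by one whose commutator map on `B` has kernel exactly the squares. -/

open Cfsg.Agent.Lib.H26.NGP

namespace Cfsg.Agent.Lib.H8.NGP

universe u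

variable {X : Type u} [Group X] [Finite X]

section usetup

variable {A : Subgroup (MulAut X)} {ρ : MulAut X} {z : X} {U : Subgroup X}

theorem x1i_comm (hU : USetup A ρ z U) {v : X} (hv : v ∈ U) (g : X) : g * v = v * g :=
  Subgroup.mem_center_iff.mp (hU.central hv) g

theorem x1i_z_mul (hU : USetup A ρ z U) : z * ρ z = ρ (ρ z) := by
  obtain ⟨hz1, hρz1, -, hne1, -, -⟩ := hU.distinct
  have hzU : z ∈ U := (hU.memU z).mpr (Or.inr (Or.inl rfl))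
  have hρzU : ρ z ∈ U := (hU.memU _).mpr (Or.inr (Or.inr (Or.inl rfl)))
  rcases (hU.memU _).mp (U.mul_mem hzU hρzU) with h | h | h | h
  · exfalso
    apply hne1
    have h1 : z * ρ z = z * z := by rw [h, hU.zz]
    exact mul_left_cancel h1
  · exfalso; apply hρz1; exact mul_eq_left.mp h
  · exfalso; apply hz1; exact mul_eq_right.mp h
  · exact h

/-- the `ρ`-orbit of a nontrivial element of `U` -/
theorem x1i_orbit (hU : USetup A ρ z U) {v : X} (hv : v ∈ U) (hv1 : v ≠ 1) :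
    ρ (ρ (ρ v)) = v ∧ v * ρ v = ρ (ρ v) ∧ ∀ w ∈ U, w = 1 ∨ w = v ∨ w = ρ v ∨ w = ρ (ρ v) := by
  have hzz := x1i_z_mul hU
  have hcube := hU.cube
  have h2 : ρ z * ρ (ρ z) = z := by rw [← map_mul, hzz, hcube]
  have h3 : ρ (ρ z) * z = ρ z := by
    have := congrArg ρ h2
    rw [map_mul, hcube] at this
    exact this
  rcases (hU.memU v).mp hv with h | h | h | h
  · exact absurd h hv1
  · subst h
    exact ⟨hcube, hzz, fun w hw => (hU.memU w).mp hw⟩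
  · subst h
    refine ⟨by rw [hcube], by rw [hcube]; exact h2, fun w hw => ?_⟩
    rcases (hU.memU w).mp hw with h | h | h | h
    · left; exact h
    · right; right; right; rw [hcube]; exact h
    · right; left; exact h
    · right; right; left; exact h
  · subst h
    refine ⟨by rw [hcube], by rw [hcube]; exact h3, fun w hw => ?_⟩
    rcases (hU.memU w).mp hw with h | h | h | h
    · left; exact h
    · right; right; left; rw [hcube]; exact h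
    · right; right; right; rw [hcube]; exact h
    · right; left; exact h

end usetup

section bsetup

variable {A : Subgroup (MulAut X)} {U B : Subgroup X} {n : ℕ}

theorem x1i_phi_mem (hB : BSetup A U B n) {b : X} (hb : b ∈ B) : b ^ 2 ^ (n - 1) ∈ U := by
  apply hB.invol _ (B.pow_mem hb _)
  rw [← pow_two, ← pow_mul, ← pow_succ]
  have : n - 1 + 1 = n := by have := hB.two_le; omega
  rw [this]
  exact Cfsg.Agent.Lib.H15.NGP.homo_pow_eq_one hB.homo b hb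

theorem x1i_phi_mul (hB : BSetup A U B n) {b c : X} (hb : b ∈ B) (hc : c ∈ B) :
    (b * c) ^ 2 ^ (n - 1) = b ^ 2 ^ (n - 1) * c ^ 2 ^ (n - 1) :=
  Commute.mul_pow (show Commute b c from hB.homo.ab b hb c hc) _

theorem x1i_phi_eq_one_iff (hB : BSetup A U B n) {b : X} (hb : b ∈ B) :
    b ^ 2 ^ (n - 1) = 1 ↔ ∃ c ∈ B, b = c * c := by
  have hn := hB.two_le
  constructor
  · intro h
    obtain ⟨c, hc, hcb⟩ :=
      Cfsg.Agent.Lib.H15.NGP.homo_exists_root hB.homo (n - 1) (by omega) b hb h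
    refine ⟨c, hc, ?_⟩
    have : n - (n - 1) = 1 := by omega
    rw [this, pow_one, pow_two] at hcb
    exact hcb.symm
  · rintro ⟨c, hc, rfl⟩
    rw [← pow_two, ← pow_mul, ← pow_succ']
    have : n - 1 + 1 = n := by omega
    rw [this]
    exact Cfsg.Agent.Lib.H15.NGP.homo_pow_eq_one hB.homo c hc

theorem x1i_same_phi (hB : BSetup A U B n) {c' b : X} (hc' : c' ∈ B) (hb : b ∈ B)
    (h : c' ^ 2 ^ (n - 1) = b ^ 2 ^ (n - 1)) : ∃ s ∈ B, b = c' * (s * s) := by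
  have h1 : (c'⁻¹ * b) ^ 2 ^ (n - 1) = 1 := by
    rw [x1i_phi_mul hB (B.inv_mem hc') hb, inv_pow, h, inv_mul_cancel]
  obtain ⟨s, hs, hss⟩ := (x1i_phi_eq_one_iff hB (B.mul_mem (B.inv_mem hc') hb)).mp h1
  exact ⟨s, hs, by rw [← hss]; group⟩

theorem x1i_T_sq (hB : BSetup A U B n) (hU2 : ∀ v ∈ U, v * v = 1) {y : X}
    (hy : ∀ b ∈ B, cm b y ∈ U) {s : X} (hs : s ∈ B) : cm (s * s) y = 1 := by
  rw [Cfsg.Agent.Lib.H15.NGP.cm_mul_of_ab hB.normal hB.homo.ab hs hs y]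
  exact hU2 _ (hy s hs)

theorem x1i_T_mul_sq (hB : BSetup A U B n) (hU2 : ∀ v ∈ U, v * v = 1) {y : X}
    (hy : ∀ b ∈ B, cm b y ∈ U) {c s : X} (hc : c ∈ B) (hs : s ∈ B) :
    cm (c * (s * s)) y = cm c y := by
  rw [Cfsg.Agent.Lib.H15.NGP.cm_mul_of_ab hB.normal hB.homo.ab hc (B.mul_mem hs hs) y,
    x1i_T_sq hB hU2 hy hs, mul_one]

end bsetup

theorem exists_x1_inj {A : Subgroup (MulAut X)} (hC : Ctx A) {ρ : MulAut X} {z : X}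
    {U B : Subgroup X} {n : ℕ} (hU : USetup A ρ z U) (hB : BSetup A U B n)
    (x₀ : X) (hx₀ : x₀ ∉ B) (h₀ : ∀ b ∈ B, cm b x₀ ∈ U) :
    ∃ x : X, x ∉ B ∧ (∀ b ∈ B, cm b x ∈ U) ∧ ∀ b ∈ B, cm b x = 1 → ∃ c ∈ B, b = c * c := by
  by_cases hgood : ∀ b ∈ B, cm b x₀ = 1 → ∃ c ∈ B, b = c * c
  · exact ⟨x₀, hx₀, h₀, hgood⟩
  push Not at hgood
  obtain ⟨b₁, hb₁, hθb₁, hns⟩ := hgood
  have hns' : ¬ ∃ c ∈ B, b₁ = c * c := by
    rintro ⟨c, hc, h⟩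
    exact hns c hc h
  have hU2 := hU.sq_eq_one
  have hρB : ∀ b ∈ B, ρ b ∈ B := hB.ainv ρ hU.mem
  have hρU : ∀ v ∈ U, ρ v ∈ U := hU.ainv ρ hU.mem
  have hρiB : ∀ b ∈ B, ρ⁻¹ b ∈ B := hB.ainv ρ⁻¹ (A.inv_mem hU.mem)
  obtain ⟨c₁, hc₁⟩ : ∃ c, c = ρ b₁ := ⟨_, rfl⟩
  obtain ⟨c₂, hc₂⟩ : ∃ c, c = ρ c₁ := ⟨_, rfl⟩
  obtain ⟨c₃, hc₃⟩ : ∃ c, c = ρ c₂ := ⟨_, rfl⟩
  have hc₁B : c₁ ∈ B := hc₁ ▸ hρB _ hb₁
  have hc₂B : c₂ ∈ B := hc₂ ▸ hρB _ hc₁B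
  have hc₃B : c₃ ∈ B := hc₃ ▸ hρB _ hc₂B
  obtain ⟨u₁, hu₁⟩ : ∃ v, v = b₁ ^ 2 ^ (n - 1) := ⟨_, rfl⟩
  have hu₁U : u₁ ∈ U := hu₁ ▸ x1i_phi_mem hB hb₁
  have hu₁1 : u₁ ≠ 1 := fun h => hns' ((x1i_phi_eq_one_iff hB hb₁).mp (hu₁ ▸ h))
  obtain ⟨hcube₁, hmul₁, hall₁⟩ := x1i_orbit hU hu₁U hu₁1
  have hφ1 : c₁ ^ 2 ^ (n - 1) = ρ u₁ := by rw [hc₁, ← map_pow, hu₁]
  have hφ2 : c₂ ^ 2 ^ (n - 1) = ρ (ρ u₁) := by rw [hc₂, ← map_pow, hφ1]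
  have hφ3 : c₃ ^ 2 ^ (n - 1) = u₁ := by rw [hc₃, ← map_pow, hφ2, hcube₁]
  have hcov : ∀ b ∈ B, ∃ c', c' ∈ B ∧ (c' = 1 ∨ c' = c₁ ∨ c' = c₂ ∨ c' = c₃) ∧
      ∃ s ∈ B, b = c' * (s * s) := by
    intro b hb
    rcases hall₁ _ (x1i_phi_mem hB hb) with h | h | h | h
    · obtain ⟨s, hs, hss⟩ := x1i_same_phi hB B.one_mem hb (by rw [one_pow, h])
      exact ⟨1, B.one_mem, Or.inl rfl, s, hs, hss⟩
    · obtain ⟨s, hs, hss⟩ := x1i_same_phi hB hc₃B hb (by rw [hφ3, h])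
      exact ⟨c₃, hc₃B, Or.inr (Or.inr (Or.inr rfl)), s, hs, hss⟩
    · obtain ⟨s, hs, hss⟩ := x1i_same_phi hB hc₁B hb (by rw [hφ1, h])
      exact ⟨c₁, hc₁B, Or.inr (Or.inl rfl), s, hs, hss⟩
    · obtain ⟨s, hs, hss⟩ := x1i_same_phi hB hc₂B hb (by rw [hφ2, h])
      exact ⟨c₂, hc₂B, Or.inr (Or.inr (Or.inl rfl)), s, hs, hss⟩
  have hθ1 : cm (1 : X) x₀ = 1 := Cfsg.Agent.Lib.H15.NGP.cm_one_left x₀
  have hθc₃ : cm c₃ x₀ = 1 := by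
    obtain ⟨s, hs, hss⟩ := x1i_same_phi hB hb₁ hc₃B (by rw [hφ3, hu₁])
    rw [hss, x1i_T_mul_sq hB hU2 h₀ hb₁ hs, hθb₁]
  have hex : ∃ b ∈ B, cm b x₀ ≠ 1 := by
    by_contra hcon
    push Not at hcon
    apply hx₀
    apply hB.cent
    intro b hb
    have h1 := hcon b hb
    rw [cm_def] at h1
    have h2 : b * x₀ = (b * x₀ * b⁻¹ * x₀⁻¹) * (x₀ * b) := by group
    rw [h1, one_mul] at h2
    exact h2.symm
  have hprod : cm c₁ x₀ * cm c₂ x₀ = 1 := by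
    have hφ : (c₁ * c₂ * c₃) ^ 2 ^ (n - 1) = 1 := by
      rw [x1i_phi_mul hB (B.mul_mem hc₁B hc₂B) hc₃B, x1i_phi_mul hB hc₁B hc₂B, hφ1, hφ2, hφ3]
      have : ρ u₁ * ρ (ρ u₁) = u₁ := by rw [← map_mul, hmul₁, hcube₁]
      rw [this]
      exact hU2 _ hu₁U
    obtain ⟨s, hs, hss⟩ :=
      (x1i_phi_eq_one_iff hB (B.mul_mem (B.mul_mem hc₁B hc₂B) hc₃B)).mp hφ
    have h1 : cm (c₁ * c₂ * c₃) x₀ = 1 := by
      rw [hss]
      exact x1i_T_sq hB hU2 h₀ hs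
    rw [Cfsg.Agent.Lib.H15.NGP.cm_mul_of_ab hB.normal hB.homo.ab (B.mul_mem hc₁B hc₂B) hc₃B,
      Cfsg.Agent.Lib.H15.NGP.cm_mul_of_ab hB.normal hB.homo.ab hc₁B hc₂B, hθc₃, mul_one] at h1
    exact h1
  obtain ⟨v, hv⟩ : ∃ v, v = cm c₁ x₀ := ⟨_, rfl⟩
  have hvU : v ∈ U := hv ▸ h₀ _ hc₁B
  have hv2 : cm c₂ x₀ = v := by
    have h1 := hU2 v hvU
    rw [← hv] at hprod
    exact mul_left_cancel (hprod.trans h1.symm)
  have hv1 : v ≠ 1 := by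
    intro hv1
    obtain ⟨b, hb, hbne⟩ := hex
    obtain ⟨c', hc'B, hc', s, hs, hss⟩ := hcov b hb
    apply hbne
    rw [hss, x1i_T_mul_sq hB hU2 h₀ hc'B hs]
    rcases hc' with rfl | rfl | rfl | rfl
    · exact hθ1
    · rw [← hv]; exact hv1
    · rw [hv2]; exact hv1
    · exact hθc₃
  have hF3 : ∀ b y : X, cm (ρ b) (ρ y) = ρ (cm b y) := by
    intro b y
    simp only [cm_def, map_mul, map_inv]
  have hT'U : ∀ b ∈ B, cm b (ρ x₀) ∈ U := by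
    intro b hb
    have : cm b (ρ x₀) = ρ (cm (ρ⁻¹ b) x₀) := by rw [← hF3, MulAut.apply_inv_self]
    rw [this]
    exact hρU _ (h₀ _ (hρiB b hb))
  have hT'1 : cm c₁ (ρ x₀) = 1 := by rw [hc₁, hF3, hθb₁, map_one]
  have hT'2 : cm c₂ (ρ x₀) = ρ v := by rw [hc₂, hF3, ← hv]
  have hT'3 : cm c₃ (ρ x₀) = ρ v := by rw [hc₃, hF3, hv2]
  have hF2 : ∀ b ∈ B, cm b (x₀ * ρ x₀) = cm b x₀ * cm b (ρ x₀) := by
    intro b hb
    have h1 : cm b (x₀ * ρ x₀) = cm b x₀ * (x₀ * cm b (ρ x₀) * x₀⁻¹) := by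
      simp only [cm_def]; group
    rw [h1, x1i_comm hU (hT'U b hb) x₀, mul_inv_cancel_right]
  have hxU : ∀ b ∈ B, cm b (x₀ * ρ x₀) ∈ U := fun b hb => by
    rw [hF2 b hb]
    exact U.mul_mem (h₀ b hb) (hT'U b hb)
  have hρv1 : ρ v ≠ 1 := fun h => hv1 ((map_eq_one_iff ρ ρ.injective).mp h)
  have hw1 : cm c₁ (x₀ * ρ x₀) ≠ 1 := by
    rw [hF2 _ hc₁B, hT'1, mul_one, ← hv]
    exact hv1
  have hw3 : cm c₃ (x₀ * ρ x₀) ≠ 1 := by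
    rw [hF2 _ hc₃B, hθc₃, one_mul, hT'3]
    exact hρv1
  have hw2 : cm c₂ (x₀ * ρ x₀) ≠ 1 := by
    rw [hF2 _ hc₂B, hv2, hT'2]
    obtain ⟨-, hmul, -⟩ := x1i_orbit hU hvU hv1
    rw [hmul]
    intro h
    exact hρv1 ((map_eq_one_iff ρ ρ.injective).mp h)
  refine ⟨x₀ * ρ x₀, ?_, hxU, ?_⟩
  · intro hxB
    apply hw1
    rw [cm_def, hB.homo.ab c₁ hc₁B _ hxB]
    group
  · intro b hb hb1
    obtain ⟨c', hc'B, hc', s, hs, hss⟩ := hcov b hb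
    have h1 : cm c' (x₀ * ρ x₀) = 1 := by
      rw [← x1i_T_mul_sq hB hU2 hxU hc'B hs, ← hss]
      exact hb1
    rcases hc' with rfl | rfl | rfl | rfl
    · exact ⟨s, hs, by rw [hss, one_mul]⟩
    · exact absurd h1 hw1
    · exact absurd h1 hw2
    · exact absurd h1 hw3

end Cfsg.Agent.Lib.H8.NGP
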