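import Mathlib
import Cfsg.Prelude.Def_Blocks
import Cfsg.Prelude.Def_CharExt
import Cfsg.Agent.Lib.H21.AD.Defs
import Cfsg.Agent.Lib.H28.NT.Defs
import Cfsg.Agent.Lib.H8.ADFOUR
import Cfsg.Agent.Lib.H4.ADCOSET
import Cfsg.Agent.Lib.H4.ADEND1
import Cfsg.Agent.Lib.H10.NTRESTR
import Cfsg.Agent.Lib.H24.CharLinearMul
import Cfsg.Agent.Lib.L0.SigmaResidualA
import Cfsg.Agent.Lib.H23.RelMGroup
import Cfsg.Agent.Lib.H28.NT.KEYF

/-!
# S4892, piece (B0) `sSum_top_ne_zero` (helper8, twin of helper4's)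

The canonical extension `χ` of `θ` to `G` has nonzero `p`-regular sum on `⊤` (i.e. lies in the principal
block): for `y` `p`-regular and `J := N ⊔ zpowers y`, `χ` is principal on `J`; a nontrivial twist `μ` of `J/N`
with nonzero sum would give a second principal extension `χ μ`, so `χ μ = χ` on `J` by (KEYF) and `μ = 1` by
Gallagher uniqueness; Fourier inversion (FOUR) makes all `p`-regular coset sums equal to `sSum p N χ`, and
(COSET) adds them up.
-/

set_option autoImplicit false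
open Cfsg.Agent.Lib.H21.AD Cfsg.Agent.Lib.H28.NT

namespace Cfsg.Agent.Lib.H8.NT

variable {G : Type*} [Group G] [Finite G] {p : ℕ} {M : Ideal Cfsg.AlgInt} {N Q : Subgroup G} {θ : G → ℂ}

omit [Finite G] in
/-- functions agreeing on `J` have the same `p`-regular sum over `J` -/
theorem sSum_congr_b0 (J : Subgroup G) (f f' : G → ℂ) (hff : ∀ g ∈ J, f g = f' g) :
    sSum p J f = sSum p J f' := by
  classical
  unfold sSum
  refine finsum_congr (fun g => ?_)
  by_cases hg : g ∈ J ∧ ¬ p ∣ orderOf g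
  · rw [if_pos hg, if_pos hg, hff g hg.1]
  · rw [if_neg hg, if_neg hg]

/-- a twist `μ` of `J` over `N` with `χ μ = χ` on `J` is trivial on `J` (Gallagher uniqueness) -/
theorem twist_eq_one_of_mul_eq [N.Normal] (J : Subgroup G) (hNJ : N ≤ J) (χ : G → ℂ)
    (hirrJ : Cfsg.IsIrrCharacter J (fun y : J => χ y))
    (hirrN : Cfsg.IsIrrCharacter N (fun n : N => χ n))
    (μ : G → ℂ) (hμ : IsTwist N J μ) (heq : ∀ g ∈ J, χ g * μ g = χ g) :
    ∀ g ∈ J, μ g = 1 := by
  classical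
  haveI : Fintype J := Fintype.ofFinite J
  let f0 : J →* ℂ :=
    { toFun := fun y => μ y
      map_one' := hμ.2 1 N.one_mem
      map_mul' := fun a b => hμ.1 a a.2 b b.2 }
  have hN' : Cfsg.IsIrrCharacter (N.subgroupOf J) (fun x : N.subgroupOf J => (fun y : J => χ y) x) :=
    (Cfsg.Agent.Lib.H23.isIrrCharacter_restrict_subgroupOf_iff hNJ χ).2 hirrN
  have hβ : ∀ n : N.subgroupOf J, f0.toHomUnits (n : J) = 1 := by
    intro n
    apply Units.ext
    rw [MonoidHom.coe_toHomUnits]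
    exact hμ.2 _ (Subgroup.mem_subgroupOf.1 n.2)
  have hβ' : ∀ n : N.subgroupOf J, (1 : J →* ℂˣ) (n : J) = 1 := fun _ => rfl
  have hfun : (fun y : J => χ y) * Cfsg.Agent.Lib.H23.homToFun J f0.toHomUnits =
      (fun y : J => χ y) * Cfsg.Agent.Lib.H23.homToFun J (1 : J →* ℂˣ) := by
    funext y
    rw [Pi.mul_apply, Pi.mul_apply, Cfsg.Agent.Lib.H23.homToFun_apply,
      Cfsg.Agent.Lib.H23.homToFun_apply, MonoidHom.coe_toHomUnits, MonoidHom.one_apply,
      Units.val_one, mul_one]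
    exact heq y y.2
  have hh := Cfsg.Agent.Lib.L0.SigmaRes.hom_eq_of_mul_eq (N.subgroupOf J) hirrJ hN'
    f0.toHomUnits 1 hβ hβ' hfun
  intro g hg
  have h1 := congrArg (fun β : J →* ℂˣ => ((β ⟨g, hg⟩ : ℂˣ) : ℂ)) hh
  simp only [MonoidHom.coe_toHomUnits, MonoidHom.one_apply, Units.val_one] at h1
  exact h1

/-- (B0) = END1 + COSET base-free: nontrivial twists on `N⟨y⟩` kill the sum (KEYF + Gallagher uniqueness),
`H8.AD.four`, `H4.AD.coset_count` with `J = ⊤`. -/
theorem sSum_top_ne_zero [N.Normal] (h : Hyp p M N Q θ) (χ : G → ℂ) (hχ : GoodE p N θ ⊤ χ) :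
    sSum p ⊤ χ ≠ 0 := by
  -- all `p`-regular coset sums are equal
  have hconst : ∀ y ∈ (⊤ : Subgroup G), ¬ p ∣ orderOf y → cSum p N χ y = sSum p N χ := by
    intro y _ hy
    set J : Subgroup G := N ⊔ Subgroup.zpowers y with hJ
    have hNJ : N ≤ J := le_sup_left
    have hyJ : y ∈ J := (le_sup_right : Subgroup.zpowers y ≤ J) (Subgroup.mem_zpowers y)
    have hpJ : ¬ p ∣ N.relIndex J := fun hd =>
      hy (dvd_trans hd (Cfsg.Agent.Lib.H4.AD.relIndex_sup_zpowers_dvd N y))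
    have habJ : ∀ a ∈ J, ∀ b ∈ J, a * b * a⁻¹ * b⁻¹ ∈ N :=
      fun a ha b hb => Cfsg.Agent.Lib.H4.AD.comm_mem_of_sup_zpowers N y a b ha hb
    have hnormJ : ∀ a ∈ J, ∀ b ∈ N, a * b * a⁻¹ ∈ N :=
      fun a _ b hb => (inferInstance : N.Normal).conj_mem b hb a
    have hgE : GoodE p N θ J χ :=
      Cfsg.Agent.Lib.H10.NT.goodE_restrict h J ⊤ hNJ le_top χ hχ
    have hgA : GoodA p N θ J χ := ⟨hgE.1, hgE.2.1 y hyJ hy⟩
    have hirrN : Cfsg.IsIrrCharacter N (fun n : N => χ n) := by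
      have : (fun n : N => χ n) = (fun n : N => θ n) := by
        funext n
        exact hgE.1.2 n n.2
      rw [this]
      exact h.hirr
    refine Cfsg.Agent.Lib.H8.AD.four p N J hNJ hnormJ habJ χ ?_ y hyJ
    intro μ hμ hne
    by_contra hsum
    -- then `χ μ` is a second principal extension on `J`
    have hirr2 : Cfsg.IsIrrCharacter J (fun y : J => χ y * μ y) := by
      let f0 : J →* ℂ :=
        { toFun := fun y => μ y
          map_one' := hμ.2 1 N.one_mem
          map_mul' := fun a b => hμ.1 a a.2 b b.2 }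
      have h4 := Cfsg.Agent.Lib.H24.isIrrCharacter_mul_hom (fun y : J => χ y) hgE.1.1 f0.toHomUnits
      have h5 : (fun g : J => χ g * ((f0.toHomUnits g : ℂˣ) : ℂ)) = fun y : J => χ y * μ y := by
        funext y
        rw [MonoidHom.coe_toHomUnits]
        rfl
      rw [← h5]
      exact h4
    have hgA2 : GoodA p N θ J (fun g => χ g * μ g) := by
      refine ⟨⟨hirr2, fun n hn => ?_⟩, hsum⟩
      show χ n * μ n = θ n
      rw [hμ.2 n hn, mul_one]
      exact hgE.1.2 n hn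
    have hk := Cfsg.Agent.Lib.H28.NT.keyF h J J hNJ le_rfl hpJ _ _ hgA2 hgA
    have hone := twist_eq_one_of_mul_eq J hNJ χ hgE.1.1 hirrN μ hμ hk
    obtain ⟨g, hgJ, hg⟩ := hne
    exact hg (hone g hgJ)
  obtain ⟨k, hk0, hk⟩ := Cfsg.Agent.Lib.H4.AD.coset_count p N ⊤ le_top χ hconst
  have hNθ : sSum p N χ = sSum p N θ := sSum_congr_b0 N χ θ (fun g hg => hχ.1.2 g hg)
  rw [hk, hNθ]
  have hk' : (k : ℂ) ≠ 0 := by
    exact_mod_cast hk0.ne'
  exact mul_ne_zero hk' h.hB

end Cfsg.Agent.Lib.H8.NT
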