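import Mathlib

set_option autoImplicit false

/-!
# Additive character sums over a multiplicative subgroup of a finite field

For a multiplicatively closed subset `U` of the units of a finite field `K` (i.e. a subgroup of
`Kˣ`), the number `T` of `x ∈ U` with `2 - x ∈ U` satisfies
`(Q n T - n³)² ≤ (Q - n) (Q n - n²)²`, `Q = |K|`, `n = |U|`.
-/

namespace Cfsg.Agent.Lib.H8.NOS

open Finset

variable {K : Type*} [Field K] [Fintype K] [DecidableEq K]

/-- The additive character sum over `U`. -/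
noncomputable def S (U : Finset K) (ψ : AddChar K ℂ) : ℂ := ∑ u ∈ U, ψ u

theorem S_one (U : Finset K) : S U 1 = U.card := by
  simp [S]

theorem parseval (U : Finset K) :
    ∑ ψ : AddChar K ℂ, ‖S U ψ‖ ^ 2 = (Fintype.card K : ℝ) * U.card := by
  have h : ∑ ψ : AddChar K ℂ, (S U ψ) * (starRingEnd ℂ) (S U ψ) =
      (Fintype.card K : ℂ) * U.card := by
    calc ∑ ψ : AddChar K ℂ, (S U ψ) * (starRingEnd ℂ) (S U ψ)
        = ∑ ψ : AddChar K ℂ, ∑ u ∈ U, ∑ u' ∈ U, ψ (u - u') := by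
          refine Finset.sum_congr rfl fun ψ _ => ?_
          rw [S, map_sum, Finset.sum_mul_sum]
          refine Finset.sum_congr rfl fun u _ => Finset.sum_congr rfl fun u' _ => ?_
          rw [sub_eq_add_neg, AddChar.map_add_eq_mul, AddChar.map_neg_eq_conj]
      _ = ∑ u ∈ U, ∑ u' ∈ U, ∑ ψ : AddChar K ℂ, ψ (u - u') := by
          rw [Finset.sum_comm]
          refine Finset.sum_congr rfl fun u _ => ?_
          rw [Finset.sum_comm]
      _ = ∑ u ∈ U, ∑ u' ∈ U, (if u - u' = 0 then (Fintype.card K : ℂ) else 0) := by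
          simp only [AddChar.sum_apply_eq_ite]
      _ = ∑ u ∈ U, (Fintype.card K : ℂ) := by
          refine Finset.sum_congr rfl fun u hu => ?_
          simp only [sub_eq_zero]
          rw [Finset.sum_ite_eq U u]
          simp [hu]
      _ = (Fintype.card K : ℂ) * U.card := by
          rw [Finset.sum_const, nsmul_eq_mul, mul_comm]
  have h2 : ((∑ ψ : AddChar K ℂ, ‖S U ψ‖ ^ 2 : ℝ) : ℂ) =
      (((Fintype.card K : ℝ) * U.card : ℝ) : ℂ) := by
    push_cast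
    rw [← h]
    refine Finset.sum_congr rfl fun ψ _ => ?_
    rw [Complex.mul_conj']
  exact_mod_cast h2

section group
variable (U : Finset K) (hmul : ∀ a ∈ U, ∀ b ∈ U, a * b ∈ U) (hinv : ∀ a ∈ U, a⁻¹ ∈ U)
  (h0 : (0 : K) ∉ U)
include hmul hinv h0

theorem S_mulShift {c : K} (hc : c ∈ U) (ψ : AddChar K ℂ) :
    S U (AddChar.mulShift ψ c) = S U ψ := by
  have hc0 : c ≠ 0 := fun h => h0 (h ▸ hc)
  simp only [S, AddChar.mulShift_apply]
  refine Finset.sum_nbij' (fun u => c * u) (fun u => c⁻¹ * u) ?_ ?_ ?_ ?_ ?_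
  · intro u hu; exact hmul c hc u hu
  · intro u hu; exact hmul _ (hinv c hc) u hu
  · intro u _; field_simp
  · intro u _; field_simp
  · intro u _; rfl

theorem sup_bound {ψ : AddChar K ℂ} (hψ : ψ ≠ 1) :
    (U.card : ℝ) * ‖S U ψ‖ ^ 2 + (U.card : ℝ) ^ 2 ≤ (Fintype.card K : ℝ) * U.card := by
  classical
  rw [← parseval U]
  have hinj : Set.InjOn (fun c => AddChar.mulShift ψ c) (U : Set K) := by
    intro c _ c' _ h
    by_contra hne
    have hu : IsUnit (c - c') := (sub_ne_zero.mpr hne).isUnit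
    apply hψ
    rw [← AddChar.mulShift_unit_eq_one_iff ψ hu]
    ext x
    have h1 := DFunLike.congr_fun h x
    simp only [AddChar.mulShift_apply] at h1
    rw [AddChar.mulShift_apply, sub_mul, sub_eq_add_neg, AddChar.map_add_eq_mul,
      AddChar.map_neg_eq_inv, h1, AddChar.one_apply]
    exact mul_inv_cancel₀ (AddChar.val_isUnit ψ _).ne_zero
  have himg1 : (1 : AddChar K ℂ) ∉ U.image (fun c => AddChar.mulShift ψ c) := by
    intro h1
    obtain ⟨c, hc, hc1⟩ := Finset.mem_image.mp h1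
    have hc0 : c ≠ 0 := fun h => h0 (h ▸ hc)
    exact hψ ((AddChar.mulShift_unit_eq_one_iff ψ hc0.isUnit).mp hc1)
  calc (U.card : ℝ) * ‖S U ψ‖ ^ 2 + (U.card : ℝ) ^ 2
      = ∑ φ ∈ insert 1 (U.image (fun c => AddChar.mulShift ψ c)), ‖S U φ‖ ^ 2 := by
        rw [Finset.sum_insert himg1, Finset.sum_image hinj, S_one]
        have : ∑ c ∈ U, ‖S U (AddChar.mulShift ψ c)‖ ^ 2 = ∑ _c ∈ U, ‖S U ψ‖ ^ 2 :=
          Finset.sum_congr rfl fun c hc => by rw [S_mulShift U hmul hinv h0 hc]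
        rw [this, Finset.sum_const, nsmul_eq_mul, Complex.norm_natCast]
        ring
    _ ≤ ∑ φ, ‖S U φ‖ ^ 2 :=
        Finset.sum_le_sum_of_subset_of_nonneg (Finset.subset_univ _) (fun _ _ _ => by positivity)

/-- the number of `x ∈ U` with `2 w - x ∈ U` does not depend on `w ∈ U` -/
theorem card_shift {w : K} (hw : w ∈ U) :
    (U.filter (fun x => 2 * w - x ∈ U)).card = (U.filter (fun x => 2 - x ∈ U)).card := by
  have hw0 : w ≠ 0 := fun h => h0 (h ▸ hw)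
  refine Finset.card_nbij' (fun x => w⁻¹ * x) (fun x => w * x) ?_ ?_ ?_ ?_
  · intro x hx
    rw [Finset.mem_coe, Finset.mem_filter] at hx ⊢
    refine ⟨hmul _ (hinv w hw) x hx.1, ?_⟩
    have : 2 - w⁻¹ * x = w⁻¹ * (2 * w - x) := by field_simp
    rw [this]
    exact hmul _ (hinv w hw) _ hx.2
  · intro x hx
    rw [Finset.mem_coe, Finset.mem_filter] at hx ⊢
    refine ⟨hmul w hw x hx.1, ?_⟩
    have : 2 * w - w * x = w * (2 - x) := by ring
    rw [this]
    exact hmul w hw _ hx.2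
  · intro x _
    show w * (w⁻¹ * x) = x
    field_simp
  · intro x _
    show w⁻¹ * (w * x) = x
    field_simp

theorem count3 :
    ∑ x ∈ U, ∑ y ∈ U, ∑ w ∈ U, (if x + y + (-2) * w = 0 then 1 else 0) =
      U.card * (U.filter (fun x => 2 - x ∈ U)).card := by
  have h1 : ∀ w ∈ U, ∑ x ∈ U, ∑ y ∈ U, (if x + y + (-2) * w = 0 then 1 else 0) =
      (U.filter (fun x => 2 - x ∈ U)).card := by
    intro w hw
    rw [← card_shift U hmul hinv h0 hw, Finset.card_filter]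
    refine Finset.sum_congr rfl fun x _ => ?_
    have : ∀ y : K, (x + y + (-2) * w = 0) ↔ (2 * w - x = y) := by
      intro y
      constructor
      · intro h; linear_combination (-1 : K) * h
      · intro h; rw [← h]; ring
    simp only [this]
    rw [Finset.sum_ite_eq U (2 * w - x)]
  calc ∑ x ∈ U, ∑ y ∈ U, ∑ w ∈ U, (if x + y + (-2) * w = 0 then 1 else 0)
      = ∑ x ∈ U, ∑ w ∈ U, ∑ y ∈ U, (if x + y + (-2) * w = 0 then 1 else 0) :=
        Finset.sum_congr rfl fun x _ => Finset.sum_comm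
    _ = ∑ w ∈ U, ∑ x ∈ U, ∑ y ∈ U, (if x + y + (-2) * w = 0 then 1 else 0) := Finset.sum_comm
    _ = ∑ _w ∈ U, (U.filter (fun x => 2 - x ∈ U)).card := Finset.sum_congr rfl h1
    _ = U.card * (U.filter (fun x => 2 - x ∈ U)).card := by
        rw [Finset.sum_const, smul_eq_mul]

end group

theorem sum_rev3 (U : Finset K) (f : K → K → K → ℂ) :
    ∑ a ∈ U, ∑ b ∈ U, ∑ c ∈ U, f c b a = ∑ x ∈ U, ∑ y ∈ U, ∑ w ∈ U, f x y w := by
  calc ∑ a ∈ U, ∑ b ∈ U, ∑ c ∈ U, f c b a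
      = ∑ b ∈ U, ∑ a ∈ U, ∑ c ∈ U, f c b a := Finset.sum_comm
    _ = ∑ b ∈ U, ∑ c ∈ U, ∑ a ∈ U, f c b a := Finset.sum_congr rfl fun b _ => Finset.sum_comm
    _ = ∑ c ∈ U, ∑ b ∈ U, ∑ a ∈ U, f c b a := Finset.sum_comm

theorem triple (U : Finset K) :
    ∑ ψ : AddChar K ℂ, S U ψ ^ 2 * S U (AddChar.mulShift ψ (-2)) =
      (Fintype.card K : ℂ) *
        ∑ x ∈ U, ∑ y ∈ U, ∑ w ∈ U, (if x + y + (-2) * w = 0 then (1 : ℂ) else 0) := by
  calc ∑ ψ : AddChar K ℂ, S U ψ ^ 2 * S U (AddChar.mulShift ψ (-2))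
      = ∑ ψ : AddChar K ℂ, ∑ x ∈ U, ∑ y ∈ U, ∑ w ∈ U, ψ (x + y + (-2) * w) := by
        refine Finset.sum_congr rfl fun ψ _ => ?_
        simp only [S, pow_two, AddChar.mulShift_apply, Finset.sum_mul, Finset.mul_sum,
          AddChar.map_add_eq_mul]
        exact sum_rev3 U fun x y w => ψ x * ψ y * ψ (-2 * w)
    _ = ∑ x ∈ U, ∑ y ∈ U, ∑ w ∈ U, ∑ ψ : AddChar K ℂ, ψ (x + y + (-2) * w) := by
        rw [Finset.sum_comm]
        refine Finset.sum_congr rfl fun x _ => ?_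
        rw [Finset.sum_comm]
        refine Finset.sum_congr rfl fun y _ => ?_
        rw [Finset.sum_comm]
    _ = ∑ x ∈ U, ∑ y ∈ U, ∑ w ∈ U,
          (if x + y + (-2) * w = 0 then (Fintype.card K : ℂ) else 0) := by
        simp only [AddChar.sum_apply_eq_ite]
    _ = _ := by
        simp only [Finset.mul_sum, mul_ite, mul_one, mul_zero]

/-- The basic inequality: with `Q = |K|`, `n = |U|` and `T` the number of `x ∈ U` with
`2 - x ∈ U`, one has `(Q n T - n³)² ≤ (Q - n) (Q n - n²)²`. -/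
theorem key_ineq (U : Finset K) (hmul : ∀ a ∈ U, ∀ b ∈ U, a * b ∈ U) (hinv : ∀ a ∈ U, a⁻¹ ∈ U)
    (h0 : (0 : K) ∉ U) (h1 : (1 : K) ∈ U) (h2 : (2 : K) ≠ 0) :
    ((Fintype.card K : ℝ) * U.card * ((U.filter (fun x => 2 - x ∈ U)).card : ℝ) - (U.card : ℝ) ^ 3) ^ 2
      ≤ ((Fintype.card K : ℝ) - U.card) * ((Fintype.card K : ℝ) * U.card - (U.card : ℝ) ^ 2) ^ 2 := by
  classical
  obtain ⟨Q, hQ⟩ : ∃ Q : ℝ, Q = Fintype.card K := ⟨_, rfl⟩
  obtain ⟨n, hn⟩ : ∃ n : ℝ, n = U.card := ⟨_, rfl⟩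
  obtain ⟨T, hT⟩ : ∃ T : ℝ, T = ((U.filter (fun x => 2 - x ∈ U)).card : ℝ) := ⟨_, rfl⟩
  rw [← hQ, ← hn, ← hT]
  have hnpos : 0 < n := by
    rw [hn]
    exact_mod_cast Finset.card_pos.mpr ⟨1, h1⟩
  have hid : ∑ ψ : AddChar K ℂ, S U ψ ^ 2 * S U (AddChar.mulShift ψ (-2)) =
      ((Q * (n * T) : ℝ) : ℂ) := by
    rw [triple]
    have h3 := count3 U hmul hinv h0
    have hc : ∑ x ∈ U, ∑ y ∈ U, ∑ w ∈ U, (if x + y + (-2) * w = 0 then (1 : ℂ) else 0) =
        ((U.card * (U.filter (fun x => 2 - x ∈ U)).card : ℕ) : ℂ) := by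
      rw [← h3]
      push_cast
      rfl
    rw [hc, hQ, hn, hT]
    push_cast
    ring
  have hsplit := Finset.add_sum_erase Finset.univ
    (fun ψ : AddChar K ℂ => S U ψ ^ 2 * S U (AddChar.mulShift ψ (-2))) (Finset.mem_univ 1)
  have hm1 : AddChar.mulShift (1 : AddChar K ℂ) (-2) = 1 := by
    ext x; simp
  obtain ⟨R, hRdef⟩ : ∃ R : ℂ, R = ∑ ψ ∈ Finset.univ.erase (1 : AddChar K ℂ),
      S U ψ ^ 2 * S U (AddChar.mulShift ψ (-2)) := ⟨_, rfl⟩
  have hR : R = ((Q * n * T - n ^ 3 : ℝ) : ℂ) := by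
    rw [hid] at hsplit
    simp only [hm1, S_one] at hsplit
    rw [← hRdef] at hsplit
    have : R = ((Q * (n * T) : ℝ) : ℂ) - (U.card : ℂ) ^ 2 * (U.card : ℂ) := by
      rw [← hsplit]; ring
    rw [this, hn]
    push_cast
    ring
  have hsumsq : ∑ ψ ∈ Finset.univ.erase (1 : AddChar K ℂ), ‖S U ψ‖ ^ 2 = Q * n - n ^ 2 := by
    have := Finset.add_sum_erase Finset.univ (fun ψ : AddChar K ℂ => ‖S U ψ‖ ^ 2)
      (Finset.mem_univ 1)
    simp only [parseval, S_one, Complex.norm_natCast] at this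
    rw [hQ, hn]
    linarith
  have hQn : 0 ≤ Q - n := by
    have h4 : 0 ≤ Q * n - n ^ 2 := by
      rw [← hsumsq]
      exact Finset.sum_nonneg fun _ _ => by positivity
    by_contra hcon
    push Not at hcon
    nlinarith
  have hb : ∀ ψ ∈ Finset.univ.erase (1 : AddChar K ℂ),
      ‖S U ψ ^ 2 * S U (AddChar.mulShift ψ (-2))‖ ≤ ‖S U ψ‖ ^ 2 * Real.sqrt (Q - n) := by
    intro ψ hψ
    have hψ1 : ψ ≠ 1 := (Finset.mem_erase.mp hψ).1
    have hψ2 : AddChar.mulShift ψ (-2) ≠ 1 := by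
      intro h
      exact hψ1 ((AddChar.mulShift_unit_eq_one_iff ψ (neg_ne_zero.mpr h2).isUnit).mp h)
    have hs := sup_bound U hmul hinv h0 hψ2
    rw [← hQ, ← hn] at hs
    have hs' : ‖S U (AddChar.mulShift ψ (-2))‖ ^ 2 ≤ Q - n := by
      by_contra hcon
      push Not at hcon
      nlinarith
    rw [norm_mul, norm_pow]
    apply mul_le_mul_of_nonneg_left _ (by positivity)
    exact (Real.le_sqrt (norm_nonneg _) hQn).mpr hs'
  have hRnorm : ‖R‖ ≤ (Q * n - n ^ 2) * Real.sqrt (Q - n) := by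
    calc ‖R‖ ≤ ∑ ψ ∈ Finset.univ.erase (1 : AddChar K ℂ),
          ‖S U ψ ^ 2 * S U (AddChar.mulShift ψ (-2))‖ := by
          rw [hRdef]; exact norm_sum_le _ _
      _ ≤ ∑ ψ ∈ Finset.univ.erase (1 : AddChar K ℂ), ‖S U ψ‖ ^ 2 * Real.sqrt (Q - n) :=
          Finset.sum_le_sum hb
      _ = (Q * n - n ^ 2) * Real.sqrt (Q - n) := by rw [← Finset.sum_mul, hsumsq]
  rw [hR, Complex.norm_real, Real.norm_eq_abs] at hRnorm
  have h3 : (Q * n * T - n ^ 3) ^ 2 ≤ ((Q * n - n ^ 2) * Real.sqrt (Q - n)) ^ 2 := by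
    rw [← sq_abs]
    exact pow_le_pow_left₀ (abs_nonneg _) hRnorm 2
  rw [mul_pow, Real.sq_sqrt hQn] at h3
  linarith

end Cfsg.Agent.Lib.H8.NOS
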