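import Mathlib

/-!
# The norm of `c + j` as a polynomial in `j`

For a finite-dimensional field extension `L/K` and `c : L`, the map `j ↦ N_{L/K}(c + j)` (`j : K`)
is given by a monic polynomial of degree `[L:K]`.
-/

set_option autoImplicit false

namespace Cfsg.Agent.Lib.H8

open Polynomial

theorem exists_norm_add_algebraMap_poly {K L : Type*} [Field K] [Field L] [Algebra K L]
    [FiniteDimensional K L] (c : L) :
    ∃ P : K[X], P.Monic ∧ P.natDegree = Module.finrank K L ∧
      ∀ j : K, Algebra.norm K (c + algebraMap K L j) = P.eval j := by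
  classical
  set b := Module.finBasis K L with hb
  set M := Algebra.leftMulMatrix b c with hM
  refine ⟨(-M).charpoly, Matrix.charpoly_monic _, ?_, ?_⟩
  · rw [Matrix.charpoly_natDegree_eq_dim, Fintype.card_fin]
  · intro j
    rw [Algebra.norm_eq_matrix_det b, map_add, AlgHom.commutes, Matrix.eval_charpoly, ← hM,
      sub_neg_eq_add, add_comm]
    rfl

end Cfsg.Agent.Lib.H8
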