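import Mathlib
import Cfsg.Prelude.Def_Classical

/-!
# Transport of `Cfsg.POmega F Q` along a field isomorphism (helper8, for S2095 piece TR)
-/

set_option autoImplicit false

namespace Cfsg.Agent.Lib.H8.O73M

open Matrix

universe u v

/-- an isomorphism of groups matching two subgroups restricts to them -/
def subgroupEquivOfMemIff {G₁ : Type*} {G₂ : Type*} [Group G₁] [Group G₂] (E : G₁ ≃* G₂)
    (H₁ : Subgroup G₁) (H₂ : Subgroup G₂) (h : ∀ g, g ∈ H₁ ↔ E g ∈ H₂) : H₁ ≃* H₂ where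
  toFun x := ⟨E x.1, (h x.1).mp x.2⟩
  invFun y := ⟨E.symm y.1, (h _).mpr (by rw [E.apply_symm_apply]; exact y.2)⟩
  left_inv x := Subtype.ext (E.symm_apply_apply _)
  right_inv y := Subtype.ext (E.apply_symm_apply _)
  map_mul' x y := Subtype.ext (map_mul E _ _)

theorem mem_commutator_iff_of_mulEquiv {G₁ : Type*} {G₂ : Type*} [Group G₁] [Group G₂] (φ : G₁ ≃* G₂)
    (g : G₁) : g ∈ commutator G₁ ↔ φ g ∈ commutator G₂ := by
  have hmap : (commutator G₁).map φ.toMonoidHom = commutator G₂ := by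
    rw [commutator_def, commutator_def, Subgroup.map_commutator]
    have htop : (⊤ : Subgroup G₁).map φ.toMonoidHom = ⊤ :=
      Subgroup.map_top_of_surjective _ φ.surjective
    rw [htop]
  constructor
  · intro hg
    rw [← hmap]
    exact Subgroup.mem_map_of_mem _ hg
  · intro hg
    rw [← hmap] at hg
    obtain ⟨g', hg', hgg⟩ := hg
    have : g' = g := φ.injective hgg
    rw [← this]
    exact hg'

theorem mem_center_iff_of_mulEquiv {G₁ : Type*} {G₂ : Type*} [Group G₁] [Group G₂] (φ : G₁ ≃* G₂)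
    (g : G₁) : g ∈ Subgroup.center G₁ ↔ φ g ∈ Subgroup.center G₂ := by
  rw [Subgroup.mem_center_iff, Subgroup.mem_center_iff]
  constructor
  · intro h y
    obtain ⟨x, rfl⟩ := φ.surjective y
    rw [← map_mul, ← map_mul, h x]
  · intro h x
    apply φ.injective
    rw [map_mul, map_mul, h (φ x)]

theorem map_center_of_mulEquiv {G₁ : Type*} {G₂ : Type*} [Group G₁] [Group G₂] (φ : G₁ ≃* G₂) :
    (Subgroup.center G₁).map (φ : G₁ →* G₂) = Subgroup.center G₂ := by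
  ext y
  constructor
  · rintro ⟨x, hx, rfl⟩
    exact (mem_center_iff_of_mulEquiv φ x).mp hx
  · intro hy
    refine ⟨φ.symm y, ?_, φ.apply_symm_apply y⟩
    rw [SetLike.mem_coe, mem_center_iff_of_mulEquiv φ, φ.apply_symm_apply]
    exact hy

section field

variable {ι : Type} [Fintype ι] [DecidableEq ι] {F₁ : Type u} {F₂ : Type v} [Field F₁] [Field F₂]

/-- `GL` over isomorphic fields -/
def glEquiv (e : F₁ ≃+* F₂) : GL ι F₁ ≃* GL ι F₂ :=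
  Units.mapEquiv (e.mapMatrix (m := ι)).toMulEquiv

theorem glEquiv_val (e : F₁ ≃+* F₂) (g : GL ι F₁) :
    ((glEquiv e g : GL ι F₂) : Matrix ι ι F₂) = (g : Matrix ι ι F₁).map e := rfl

theorem mem_isometryGroup_iff {F : Type*} [Field F] (Q : (ι → F) → F) (g : GL ι F) :
    g ∈ Cfsg.isometryGroup F Q ↔ ∀ u : ι → F, Q ((g : Matrix ι ι F) *ᵥ u) = Q u := by
  constructor
  · intro h u
    exact h u u
  · intro h u _
    exact h u

omit [DecidableEq ι] in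
theorem map_mulVec_comp (e : F₁ ≃+* F₂) (M : Matrix ι ι F₁) (u : ι → F₁) :
    (M.map e) *ᵥ (e ∘ u) = e ∘ (M *ᵥ u) := by
  funext i
  exact (RingHom.map_mulVec (e : F₁ →+* F₂) M u i).symm

theorem mem_isometryGroup_glEquiv (e : F₁ ≃+* F₂) (Q₁ : (ι → F₁) → F₁) (Q₂ : (ι → F₂) → F₂)
    (hQ : ∀ v : ι → F₁, Q₂ (e ∘ v) = e (Q₁ v)) (g : GL ι F₁) :
    g ∈ Cfsg.isometryGroup F₁ Q₁ ↔ glEquiv e g ∈ Cfsg.isometryGroup F₂ Q₂ := by
  rw [mem_isometryGroup_iff, mem_isometryGroup_iff, glEquiv_val]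
  constructor
  · intro h u
    have hu : u = e ∘ (e.symm ∘ u) := by
      funext i
      simp
    rw [hu, map_mulVec_comp, hQ, hQ, h]
  · intro h u
    apply e.injective
    rw [← hQ, ← hQ, ← map_mulVec_comp, h]

/-- isometry groups over isomorphic fields -/
def isometryGroupEquiv (e : F₁ ≃+* F₂) (Q₁ : (ι → F₁) → F₁) (Q₂ : (ι → F₂) → F₂)
    (hQ : ∀ v : ι → F₁, Q₂ (e ∘ v) = e (Q₁ v)) :
    Cfsg.isometryGroup F₁ Q₁ ≃* Cfsg.isometryGroup F₂ Q₂ :=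
  subgroupEquivOfMemIff (glEquiv e) _ _ (mem_isometryGroup_glEquiv e Q₁ Q₂ hQ)

/-- `Ω` over isomorphic fields -/
def omegaEquiv (e : F₁ ≃+* F₂) (Q₁ : (ι → F₁) → F₁) (Q₂ : (ι → F₂) → F₂)
    (hQ : ∀ v : ι → F₁, Q₂ (e ∘ v) = e (Q₁ v)) :
    Cfsg.Omega F₁ Q₁ ≃* Cfsg.Omega F₂ Q₂ :=
  subgroupEquivOfMemIff (isometryGroupEquiv e Q₁ Q₂ hQ) _ _
    (mem_commutator_iff_of_mulEquiv (isometryGroupEquiv e Q₁ Q₂ hQ))

/-- `PΩ` over isomorphic fields -/
noncomputable def pOmegaEquiv (e : F₁ ≃+* F₂) (Q₁ : (ι → F₁) → F₁) (Q₂ : (ι → F₂) → F₂)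
    (hQ : ∀ v : ι → F₁, Q₂ (e ∘ v) = e (Q₁ v)) :
    Cfsg.POmega F₁ Q₁ ≃* Cfsg.POmega F₂ Q₂ :=
  QuotientGroup.congr _ _ (omegaEquiv e Q₁ Q₂ hQ) (map_center_of_mulEquiv (omegaEquiv e Q₁ Q₂ hQ))

theorem quadFormOdd_comp (m : ℕ) (e : F₁ ≃+* F₂) (v : Unit ⊕ (Fin m ⊕ Fin m) → F₁) :
    Cfsg.quadFormOdd m F₂ (e ∘ v) = e (Cfsg.quadFormOdd m F₁ v) := by
  simp [Cfsg.quadFormOdd, map_sum]

theorem quadFormPlus_comp (m : ℕ) (e : F₁ ≃+* F₂) (v : Fin m ⊕ Fin m → F₁) :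
    Cfsg.quadFormPlus m F₂ (e ∘ v) = e (Cfsg.quadFormPlus m F₁ v) := by
  simp [Cfsg.quadFormPlus, map_sum]

end field

end Cfsg.Agent.Lib.H8.O73M
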