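import Mathlib
import Cfsg.Prelude.Def_KGroupFacts
import Cfsg.Prelude.Def_Classical
import Cfsg.Agent.Lib.H28.O73M.Words
import Cfsg.Agent.Lib.H17.O7Main
import Cfsg.Agent.Lib.H18.SchurTransport
import Cfsg.Agent.Lib.H8.O73FieldTr

/-!
# S2095 (helper28 architect), piece TR: transport of the multiplier from `Om` to `PΩ₇(F)`, `|F| = 3`
-/

set_option autoImplicit false

namespace Cfsg.Agent.Lib.H8.O73M

open Cfsg.Agent.Lib.H28.O73M

/-- **TR**. -/
theorem mult_transport {F : Type*} [Field F] [Fintype F] (hF : Fintype.card F = 3)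
    (h : Cfsg.HasCyclicSchurMultiplier ↥Cfsg.Agent.Lib.H17.O7Main.Om 6) :
    Cfsg.HasCyclicSchurMultiplier (Cfsg.POmega F (Cfsg.quadFormOdd 3 F)) 6 := by
  have e : ZMod 3 ≃+* F := ZMod.ringEquivOfPrime F Nat.prime_three hF
  have iso : Cfsg.POmega (ZMod 3) (Cfsg.quadFormOdd 3 (ZMod 3)) ≃* Cfsg.POmega F (Cfsg.quadFormOdd 3 F) :=
    pOmegaEquiv e _ _ (quadFormOdd_comp 3 e)
  haveI : Finite ↥Cfsg.Agent.Lib.H17.O7Main.Om := inferInstance
  exact Cfsg.Agent.Lib.H18.SchurTransport.hasSchurMultiplier_of_group_mulEquiv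
    (Cfsg.Agent.Lib.H17.O7Main.isoP.symm.trans iso) h

end Cfsg.Agent.Lib.H8.O73M
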