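import Mathlib

/-!
# S4429 (simple group of order 7920): pure arithmetic of the possible degrees (helper8)

Divisors `n` of `7920 = 2^4 * 3^2 * 5 * 11` with `n^2 ≤ 7920`, sorted by their residue mod `11`.
-/

set_option autoImplicit false

namespace Cfsg.Agent.Lib.H8.O7920

/-- A divisor `n` of `7920` with `n * n ≤ 7920` is at most `88`. -/
theorem le_88_of_sq_le {n : ℕ} (hsq : n * n ≤ 7920) : n ≤ 88 := by
  by_contra h
  have h' : 89 ≤ n := by omega
  have : 89 * 89 ≤ n * n := Nat.mul_le_mul h' h'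
  omega

/-- The divisors of `7920` that are at most `88`. -/
theorem dvd_7920_le_88 {n : ℕ} (hd : n ∣ 7920) (hn : n ≤ 88) :
    n = 1 ∨ n = 2 ∨ n = 3 ∨ n = 4 ∨ n = 5 ∨ n = 6 ∨ n = 8 ∨ n = 9 ∨ n = 10 ∨ n = 11 ∨ n = 12 ∨
    n = 15 ∨ n = 16 ∨ n = 18 ∨ n = 20 ∨ n = 22 ∨ n = 24 ∨ n = 30 ∨ n = 33 ∨ n = 36 ∨ n = 40 ∨
    n = 44 ∨ n = 45 ∨ n = 48 ∨ n = 55 ∨ n = 60 ∨ n = 66 ∨ n = 72 ∨ n = 80 ∨ n = 88 := by
  have h0 : 0 < n := Nat.pos_of_dvd_of_pos hd (by norm_num)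
  interval_cases n <;> omega

/-- Divisors `≡ 1 (mod 11)`. -/
theorem dvd_7920_mod_one {n : ℕ} (hd : n ∣ 7920) (hsq : n * n ≤ 7920) (hm : n % 11 = 1) :
    n = 1 ∨ n = 12 ∨ n = 45 := by
  rcases dvd_7920_le_88 hd (le_88_of_sq_le hsq) with h | h | h | h | h | h | h | h | h | h | h |
    h | h | h | h | h | h | h | h | h | h | h | h | h | h | h | h | h | h | h <;> subst h <;> omega

/-- Divisors `≡ -1 (mod 11)`. -/
theorem dvd_7920_mod_ten {n : ℕ} (hd : n ∣ 7920) (hsq : n * n ≤ 7920) (hm : n % 11 = 10) :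
    n = 10 := by
  rcases dvd_7920_le_88 hd (le_88_of_sq_le hsq) with h | h | h | h | h | h | h | h | h | h | h |
    h | h | h | h | h | h | h | h | h | h | h | h | h | h | h | h | h | h | h <;> subst h <;> omega

/-- Divisors `≡ 5 (mod 11)`. -/
theorem dvd_7920_mod_five {n : ℕ} (hd : n ∣ 7920) (hsq : n * n ≤ 7920) (hm : n % 11 = 5) :
    n = 5 ∨ n = 16 ∨ n = 60 := by
  rcases dvd_7920_le_88 hd (le_88_of_sq_le hsq) with h | h | h | h | h | h | h | h | h | h | h |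
    h | h | h | h | h | h | h | h | h | h | h | h | h | h | h | h | h | h | h <;> subst h <;> omega

/-- Divisors `≡ 6 (mod 11)`. -/
theorem dvd_7920_mod_six {n : ℕ} (hd : n ∣ 7920) (hsq : n * n ≤ 7920) (hm : n % 11 = 6) :
    n = 6 ∨ n = 72 := by
  rcases dvd_7920_le_88 hd (le_88_of_sq_le hsq) with h | h | h | h | h | h | h | h | h | h | h |
    h | h | h | h | h | h | h | h | h | h | h | h | h | h | h | h | h | h | h <;> subst h <;> omega

/-- Divisors `≡ 2 (mod 11)`. -/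
theorem dvd_7920_mod_two {n : ℕ} (hd : n ∣ 7920) (hsq : n * n ≤ 7920) (hm : n % 11 = 2) :
    n = 2 ∨ n = 24 := by
  rcases dvd_7920_le_88 hd (le_88_of_sq_le hsq) with h | h | h | h | h | h | h | h | h | h | h |
    h | h | h | h | h | h | h | h | h | h | h | h | h | h | h | h | h | h | h <;> subst h <;> omega

/-- Divisors `≡ -2 (mod 11)`. -/
theorem dvd_7920_mod_nine {n : ℕ} (hd : n ∣ 7920) (hsq : n * n ≤ 7920) (hm : n % 11 = 9) :
    n = 9 ∨ n = 20 := by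
  rcases dvd_7920_le_88 hd (le_88_of_sq_le hsq) with h | h | h | h | h | h | h | h | h | h | h |
    h | h | h | h | h | h | h | h | h | h | h | h | h | h | h | h | h | h | h <;> subst h <;> omega

/-- Divisors `≡ 0 (mod 11)`. -/
theorem dvd_7920_mod_zero {n : ℕ} (hd : n ∣ 7920) (hsq : n * n ≤ 7920) (hm : n % 11 = 0) :
    n = 11 ∨ n = 22 ∨ n = 33 ∨ n = 44 ∨ n = 55 ∨ n = 66 ∨ n = 88 := by
  rcases dvd_7920_le_88 hd (le_88_of_sq_le hsq) with h | h | h | h | h | h | h | h | h | h | h |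
    h | h | h | h | h | h | h | h | h | h | h | h | h | h | h | h | h | h | h <;> subst h <;> omega

end Cfsg.Agent.Lib.H8.O7920
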