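import Cfsg.Agent.Lib.H27.CentOOrth
import Cfsg.Agent.Lib.H18.SchurTransport
import Cfsg.Agent.Lib.H8.O73FieldTr

/-!
# S2098 (helper29 architect), piece TR: transport of the multiplier from `CentO.Om` to `PΩ₈⁺(F)`, `|F| = 2`
-/

set_option autoImplicit false

namespace Cfsg.Agent.Lib.H8.O8M

open Subgroup

/-- **TR**. -/
theorem mult_transport {F : Type*} [Field F] [Fintype F] (hF : Fintype.card F = 2) {A : Type*} [CommGroup A]
    (h : Cfsg.HasSchurMultiplier ↥Cfsg.Agent.Lib.H27.CentO.Om A) :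
    Cfsg.HasSchurMultiplier (Cfsg.POmega F (Cfsg.quadFormPlus 4 F)) A := by
  have e : ZMod 2 ≃+* F := ZMod.ringEquivOfPrime F Nat.prime_two hF
  have iso : Cfsg.POmega (ZMod 2) (Cfsg.quadFormPlus 4 (ZMod 2)) ≃* Cfsg.POmega F (Cfsg.quadFormPlus 4 F) :=
    Cfsg.Agent.Lib.H8.O73M.pOmegaEquiv e _ _ (Cfsg.Agent.Lib.H8.O73M.quadFormPlus_comp 4 e)
  haveI : Finite ↥Cfsg.Agent.Lib.H27.CentO.Om := inferInstance
  exact Cfsg.Agent.Lib.H18.SchurTransport.hasSchurMultiplier_of_group_mulEquiv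
    (Cfsg.Agent.Lib.H27.CentO.omEquiv.trans iso) h

end Cfsg.Agent.Lib.H8.O8M
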