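/-
S2936, the case `U_3(3)` in characteristic 2 (helper8).  Abstract part: a finite group with a
"rank one" structure `G = B ⊔ U w B`, `B = U ⋊ T`, `|U| = 27`, `|Z| = 3`, `|T| = 8`, has the
overgroup property at the prime 2.
-/
import Mathlib
import Cfsg.Agent.Lib.H1.SylowBasic
import Cfsg.Agent.Lib.H18.OGDefs

set_option autoImplicit false
set_option linter.unusedSectionVars false
set_option linter.unusedVariables false

namespace Cfsg.Agent.Lib.H8.OGU33

/-- the rank one data of `SU_3(3)` -/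
structure R1 (G : Type*) [Group G] where
  U : Subgroup G
  Z : Subgroup G
  T : Subgroup G
  w : G
  t : G
  h : G
  hZU : Z ≤ U
  cardU : Nat.card U = 27
  cardZ : Nat.card Z = 3
  cardT : Nat.card T = 8
  hTU : ∀ x ∈ T, ∀ u ∈ U, x * u * x⁻¹ ∈ U
  hTZ : ∀ x ∈ T, ∀ u ∈ Z, x * u * x⁻¹ ∈ Z
  hfree : ∀ x ∈ T, ∀ u ∈ U, x * u * x⁻¹ = u → x = 1 ∨ u ∈ Z
  hinv : ∀ V : Subgroup G, V ≤ U → (∀ x ∈ T, ∀ u ∈ V, x * u * x⁻¹ ∈ V) → V ≤ Z ∨ V = U
  hww : w * w = 1
  hwT : ∀ x ∈ T, w * x * w ∈ T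
  hTc : ∀ x ∈ T, ∀ y ∈ T, x * y = y * x
  htT : t ∈ T
  ht1 : t ≠ 1
  htt : t * t = 1
  hTinv : ∀ x ∈ T, x * x = 1 → x = 1 ∨ x = t
  hhT : h ∈ T
  hh4 : h ^ 4 = t
  hN4 : ∀ x ∈ T, (x * w) ^ 4 = 1 ∨ (x * w) ^ 4 = t
  htw : t * w = w * t
  htZ : ∀ z ∈ Z, t * z = z * t
  bruhat : ∀ g : G, (∃ u ∈ U, ∃ x ∈ T, g = u * x) ∨
    (∃ u ∈ U, ∃ u' ∈ U, ∃ x ∈ T, g = u * w * (u' * x))
  uniq : ∀ u ∈ U, ∀ u' ∈ U, ∀ x ∈ T, w * (u' * x) * w = u → u = 1
  hwB : ∀ u ∈ U, ∀ x ∈ T, w ≠ u * x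

namespace R1

variable {G : Type*} [Group G] (D : R1 G)

theorem winv : D.w⁻¹ = D.w := inv_eq_of_mul_eq_one_left D.hww

/-- `V T` for a `T`-invariant subgroup `V` of `U` -/
def VT (V : Subgroup G) (hTV : ∀ x ∈ D.T, ∀ u ∈ V, x * u * x⁻¹ ∈ V) : Subgroup G where
  carrier := {g | ∃ u ∈ V, ∃ x ∈ D.T, g = u * x}
  one_mem' := ⟨1, V.one_mem, 1, D.T.one_mem, by simp⟩
  mul_mem' := by
    rintro _ _ ⟨u, hu, x, hx, rfl⟩ ⟨u', hu', x', hx', rfl⟩
    exact ⟨u * (x * u' * x⁻¹), V.mul_mem hu (hTV x hx u' hu'), x * x', D.T.mul_mem hx hx', by group⟩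
  inv_mem' := by
    rintro _ ⟨u, hu, x, hx, rfl⟩
    exact ⟨x⁻¹ * u⁻¹ * x⁻¹⁻¹, hTV x⁻¹ (D.T.inv_mem hx) u⁻¹ (V.inv_mem hu), x⁻¹, D.T.inv_mem hx,
      by group⟩

theorem mem_VT {V : Subgroup G} {hTV : ∀ x ∈ D.T, ∀ u ∈ V, x * u * x⁻¹ ∈ V} {g : G} :
    g ∈ D.VT V hTV ↔ ∃ u ∈ V, ∃ x ∈ D.T, g = u * x := Iff.rfl

theorem U_inf_T [Finite G] : D.U ⊓ D.T = ⊥ := by
  apply (Subgroup.disjoint_of_coprime_natCard _).eq_bot
  rw [D.cardU, D.cardT]
  decide

theorem card_VT [Finite G] (V : Subgroup G) (hV : V ≤ D.U)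
    (hTV : ∀ x ∈ D.T, ∀ u ∈ V, x * u * x⁻¹ ∈ V) :
    Nat.card ↥(D.VT V hTV) = Nat.card ↥V * 8 := by
  rw [← D.cardT, ← Nat.card_prod]
  symm
  let f : ↥V × ↥D.T → ↥(D.VT V hTV) := fun p => ⟨p.1 * p.2, p.1, p.1.2, p.2, p.2.2, rfl⟩
  apply Nat.card_congr (Equiv.ofBijective f ⟨?_, ?_⟩)
  · rintro ⟨⟨u, hu⟩, ⟨x, hx⟩⟩ ⟨⟨u', hu'⟩, ⟨x', hx'⟩⟩ hxy
    have h1 : u * x = u' * x' := congrArg Subtype.val hxy
    have h2 : u'⁻¹ * u = x' * x⁻¹ := by
      calc u'⁻¹ * u = u'⁻¹ * (u * x) * x⁻¹ := by group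
        _ = x' * x⁻¹ := by rw [h1]; group
    have h3 : u'⁻¹ * u ∈ D.U ⊓ D.T :=
      ⟨D.U.mul_mem (D.U.inv_mem (hV hu')) (hV hu), by rw [h2]; exact D.T.mul_mem hx' (D.T.inv_mem hx)⟩
    rw [D.U_inf_T, Subgroup.mem_bot] at h3
    have h4 : u = u' := by
      have := congrArg (fun y => u' * y) h3
      simpa using this
    subst h4
    have h5 : x = x' := mul_left_cancel h1
    subst h5
    rfl
  · rintro ⟨g, u, hu, x, hx, rfl⟩
    exact ⟨(⟨u, hu⟩, ⟨x, hx⟩), rfl⟩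

/-- the Borel subgroup -/
def B : Subgroup G := D.VT D.U D.hTU

theorem mem_B {g : G} : g ∈ D.B ↔ ∃ u ∈ D.U, ∃ x ∈ D.T, g = u * x := Iff.rfl

theorem U_le_B : D.U ≤ D.B := fun u hu => ⟨u, hu, 1, D.T.one_mem, by simp⟩

theorem T_le_B : D.T ≤ D.B := fun x hx => ⟨1, D.U.one_mem, x, hx, by simp⟩

theorem card_B [Finite G] : Nat.card ↥D.B = 216 := by
  unfold B
  rw [D.card_VT D.U le_rfl D.hTU, D.cardU]

theorem w_notMem_B : D.w ∉ D.B := by
  rintro ⟨u, hu, x, hx, h⟩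
  exact D.hwB u hu x hx h

/-- uniqueness of the `U`-coordinate in the big cell -/
theorem cell_unique {u u' b b' : G} (hu : u ∈ D.U) (hu' : u' ∈ D.U) (hb : b ∈ D.B) (hb' : b' ∈ D.B)
    (h : u * D.w * b = u' * D.w * b') : u = u' := by
  have h1 : D.w * (b' * b⁻¹) * D.w = u'⁻¹ * u := by
    have : u'⁻¹ * u = u'⁻¹ * (u * D.w * b) * b⁻¹ * D.w⁻¹ := by group
    rw [this, h, D.winv]
    group
  obtain ⟨u₁, hu₁, x₁, hx₁, h2⟩ := D.B.mul_mem hb' (D.B.inv_mem hb)
  rw [h2] at h1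
  have h3 := D.uniq _ (D.U.mul_mem (D.U.inv_mem hu') hu) u₁ hu₁ x₁ hx₁ h1
  have := congrArg (fun y => u' * y) h3
  simpa using this

theorem cell_unique_right {u b b' : G} (h : u * D.w * b = u * D.w * b') : b = b' :=
  mul_left_cancel h

theorem not_cell_of_mem_B {g u b : G} (hg : g ∈ D.B) (hu : u ∈ D.U) (hb : b ∈ D.B)
    (h : g = u * D.w * b) : False := by
  apply D.w_notMem_B
  have : D.w = u⁻¹ * g * b⁻¹ := by rw [h]; group
  rw [this]
  exact D.B.mul_mem (D.B.mul_mem (D.B.inv_mem (D.U_le_B hu)) hg) (D.B.inv_mem hb)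

theorem bruhat' (g : G) : g ∈ D.B ∨ ∃ u ∈ D.U, ∃ b ∈ D.B, g = u * D.w * b := by
  rcases D.bruhat g with ⟨u, hu, x, hx, h⟩ | ⟨u, hu, u', hu', x, hx, h⟩
  · exact Or.inl ⟨u, hu, x, hx, h⟩
  · exact Or.inr ⟨u, hu, u' * x, ⟨u', hu', x, hx, rfl⟩, h⟩

/-- the `U`-coordinates of the big cell part of `H` -/
def X (H : Subgroup G) : Set G := {u | u ∈ D.U ∧ ∃ b ∈ D.B, u * D.w * b ∈ H}

theorem X_subset_U (H : Subgroup G) : D.X H ⊆ (D.U : Set G) := fun u hu => hu.1

theorem card_eq [Finite G] (H : Subgroup G) :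
    Nat.card ↥H = Nat.card ↥(H ⊓ D.B) * (1 + (D.X H).ncard) := by
  classical
  have hch : ∀ u : ↥(D.X H), ∃ b : G, b ∈ D.B ∧ (u : G) * D.w * b ∈ H := fun u => u.2.2
  choose β hβB hβH using hch
  let f : Option ↥(D.X H) × ↥(H ⊓ D.B) → ↥H := fun p =>
    match p.1 with
    | none => ⟨p.2, p.2.2.1⟩
    | some u => ⟨(u : G) * D.w * β u * p.2, H.mul_mem (hβH u) p.2.2.1⟩
  have hinj : Function.Injective f := by
    rintro ⟨o, k⟩ ⟨o', k'⟩ hxy
    have hv : ((f (o, k) : ↥H) : G) = ((f (o', k') : ↥H) : G) := congrArg Subtype.val hxy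
    cases o with
    | none =>
      cases o' with
      | none =>
        have : (k : G) = (k' : G) := hv
        rw [Subtype.ext this]
      | some u' =>
        exfalso
        have h1 : (k : G) = (u' : G) * D.w * (β u' * k') := by
          have : (k : G) = (u' : G) * D.w * β u' * k' := hv
          rw [this]; group
        exact D.not_cell_of_mem_B k.2.2 u'.2.1 (D.B.mul_mem (hβB u') k'.2.2) h1
    | some u =>
      cases o' with
      | none =>
        exfalso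
        have h1 : (k' : G) = (u : G) * D.w * (β u * k) := by
          have : (u : G) * D.w * β u * k = (k' : G) := hv
          rw [← this]; group
        exact D.not_cell_of_mem_B k'.2.2 u.2.1 (D.B.mul_mem (hβB u) k.2.2) h1
      | some u' =>
        have h1 : (u : G) * D.w * (β u * k) = (u' : G) * D.w * (β u' * k') := by
          have : (u : G) * D.w * β u * k = (u' : G) * D.w * β u' * k' := hv
          calc (u : G) * D.w * (β u * k) = (u : G) * D.w * β u * k := by group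
            _ = (u' : G) * D.w * β u' * k' := this
            _ = (u' : G) * D.w * (β u' * k') := by group
        have h2 : (u : G) = (u' : G) :=
          D.cell_unique u.2.1 u'.2.1 (D.B.mul_mem (hβB u) k.2.2) (D.B.mul_mem (hβB u') k'.2.2) h1
        have h3 : u = u' := Subtype.ext h2
        subst h3
        have h4 : β u * (k : G) = β u * (k' : G) := D.cell_unique_right h1
        have h5 : (k : G) = (k' : G) := mul_left_cancel h4
        rw [Subtype.ext h5]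
  have hsurj : Function.Surjective f := by
    rintro ⟨g, hg⟩
    rcases D.bruhat' g with hB | ⟨u, hu, b, hb, h⟩
    · exact ⟨(none, ⟨g, hg, hB⟩), rfl⟩
    · have huX : u ∈ D.X H := ⟨hu, b, hb, h ▸ hg⟩
      let u' : ↥(D.X H) := ⟨u, huX⟩
      have hk : (β u')⁻¹ * b ∈ H ⊓ D.B := by
        refine ⟨?_, D.B.mul_mem (D.B.inv_mem (hβB u')) hb⟩
        have : (β u')⁻¹ * b = (u * D.w * β u')⁻¹ * g := by rw [h]; group
        rw [this]
        exact H.mul_mem (H.inv_mem (hβH u')) hg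
      refine ⟨(some u', ⟨(β u')⁻¹ * b, hk⟩), ?_⟩
      apply Subtype.ext
      show u * D.w * β u' * ((β u')⁻¹ * b) = g
      rw [h]; group
  have hc := Nat.card_congr (Equiv.ofBijective f ⟨hinj, hsurj⟩)
  rw [← hc, Nat.card_prod, Finite.card_option, Nat.card_coe_set_eq, mul_comm, add_comm]

/-! ### the 2-group `N = T ∪ T w` -/

/-- `N = T ∪ T w` -/
def N : Subgroup G where
  carrier := {g | g ∈ D.T ∨ ∃ x ∈ D.T, g = x * D.w}
  one_mem' := Or.inl D.T.one_mem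
  mul_mem' := by
    rintro a b (hx | ⟨x, hx, rfl⟩) (hy | ⟨y, hy, rfl⟩)
    · exact Or.inl (D.T.mul_mem hx hy)
    · exact Or.inr ⟨_, D.T.mul_mem hx hy, by group⟩
    · refine Or.inr ⟨x * (D.w * b * D.w), D.T.mul_mem hx (D.hwT _ hy), ?_⟩
      have : x * (D.w * b * D.w) * D.w = x * D.w * b * (D.w * D.w) := by group
      rw [this, D.hww, mul_one]
    · refine Or.inl ?_
      have : x * D.w * (y * D.w) = x * (D.w * y * D.w) := by group
      rw [this]
      exact D.T.mul_mem hx (D.hwT y hy)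
  inv_mem' := by
    rintro _ (hx | ⟨x, hx, rfl⟩)
    · exact Or.inl (D.T.inv_mem hx)
    · refine Or.inr ⟨D.w * x⁻¹ * D.w, D.hwT _ (D.T.inv_mem hx), ?_⟩
      have : D.w * x⁻¹ * D.w * D.w = D.w * x⁻¹ * (D.w * D.w) := by group
      rw [this, D.hww, mul_one, mul_inv_rev, D.winv]

theorem mem_N {g : G} : g ∈ D.N ↔ g ∈ D.T ∨ ∃ x ∈ D.T, g = x * D.w := Iff.rfl

theorem T_le_N : D.T ≤ D.N := fun x hx => Or.inl hx

theorem w_mem_N : D.w ∈ D.N := Or.inr ⟨1, D.T.one_mem, by simp⟩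

theorem w_notMem_T : D.w ∉ D.T := fun h => D.w_notMem_B (D.T_le_B h)

theorem card_N [Finite G] : Nat.card ↥D.N = 16 := by
  have h16 : (16 : ℕ) = Nat.card (Bool × ↥D.T) := by
    rw [Nat.card_prod, D.cardT, Nat.card_eq_fintype_card, Fintype.card_bool]
  rw [h16]
  symm
  let f : Bool × ↥D.T → ↥D.N := fun p =>
    match p.1 with
    | false => ⟨p.2, Or.inl p.2.2⟩
    | true => ⟨p.2 * D.w, Or.inr ⟨p.2, p.2.2, rfl⟩⟩
  apply Nat.card_congr (Equiv.ofBijective f ⟨?_, ?_⟩)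
  · rintro ⟨b, x⟩ ⟨b', x'⟩ hxy
    have hv : ((f (b, x) : ↥D.N) : G) = ((f (b', x') : ↥D.N) : G) := congrArg Subtype.val hxy
    cases b <;> cases b'
    · have : (x : G) = (x' : G) := hv
      rw [Subtype.ext this]
    · exfalso
      have h1 : (x : G) = (x' : G) * D.w := hv
      apply D.w_notMem_T
      have : D.w = (x' : G)⁻¹ * (x : G) := by rw [h1]; group
      rw [this]
      exact D.T.mul_mem (D.T.inv_mem x'.2) x.2
    · exfalso
      have h1 : (x : G) * D.w = (x' : G) := hv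
      apply D.w_notMem_T
      have : D.w = (x : G)⁻¹ * (x' : G) := by rw [← h1]; group
      rw [this]
      exact D.T.mul_mem (D.T.inv_mem x.2) x'.2
    · have h1 : (x : G) * D.w = (x' : G) * D.w := hv
      have : (x : G) = (x' : G) := mul_right_cancel h1
      rw [Subtype.ext this]
  · rintro ⟨g, hg | ⟨x, hx, rfl⟩⟩
    · exact ⟨(false, ⟨g, hg⟩), rfl⟩
    · exact ⟨(true, ⟨x, hx⟩), rfl⟩

theorem N_isPGroup [Finite G] : IsPGroup 2 ↥D.N :=
  IsPGroup.of_card (n := 4) (by rw [D.card_N]; norm_num)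

theorem pow_four_of_mem_T [Finite G] {x : G} (hx : x ∈ D.T) : x ^ 4 = 1 ∨ x ^ 4 = D.t := by
  apply D.hTinv _ (D.T.pow_mem hx 4)
  have h8 : (⟨x, hx⟩ : ↥D.T) ^ 8 = 1 := by
    rw [← D.cardT]
    exact pow_card_eq_one'
  have h8' : x ^ 8 = 1 := by
    have := congrArg Subtype.val h8
    simpa using this
  rw [← pow_add]
  exact h8'

theorem pow_four_of_mem_N [Finite G] {g : G} (hg : g ∈ D.N) : g ^ 4 = 1 ∨ g ^ 4 = D.t := by
  rcases hg with hx | ⟨x, hx, rfl⟩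
  · exact D.pow_four_of_mem_T hx
  · exact D.hN4 x hx

/-! ### the centraliser of `t` -/

theorem t_mem_N : D.t ∈ D.N := D.T_le_N D.htT

theorem tinv : D.t⁻¹ = D.t := inv_eq_of_mul_eq_one_left D.htt

theorem comm_t_of_mem_T {x : G} (hx : x ∈ D.T) : D.t * x = x * D.t := D.hTc _ D.htT _ hx

theorem mem_Z_of_comm_t {u : G} (hu : u ∈ D.U) (h : D.t * u = u * D.t) : u ∈ D.Z := by
  have h1 : D.t * u * D.t⁻¹ = u := by rw [h]; group
  rcases D.hfree _ D.htT u hu h1 with h2 | h2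
  · exact absurd h2 D.ht1
  · exact h2

/-- for a subgroup of the centraliser of `t`, the big cell coordinates lie in `Z` -/
theorem X_subset_Z_of_comm {H : Subgroup G} (hH : ∀ g ∈ H, D.t * g = g * D.t) :
    D.X H ⊆ (D.Z : Set G) := by
  rintro u ⟨hu, b, hb, hg⟩
  have h1 := hH _ hg
  have h2 : (D.t * u * D.t⁻¹) * D.w * (D.t * b * D.t⁻¹) = u * D.w * b := by
    calc (D.t * u * D.t⁻¹) * D.w * (D.t * b * D.t⁻¹)
        = D.t * u * (D.t⁻¹ * (D.w * D.t)) * b * D.t⁻¹ := by group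
      _ = D.t * u * (D.t⁻¹ * (D.t * D.w)) * b * D.t⁻¹ := by rw [D.htw]
      _ = D.t * (u * D.w * b) * D.t⁻¹ := by group
      _ = u * D.w * b := by rw [h1]; group
  have htB : D.t ∈ D.B := D.T_le_B D.htT
  have h3 := D.cell_unique (D.hTU _ D.htT u hu) hu
    (D.B.mul_mem (D.B.mul_mem htB hb) (D.B.inv_mem htB)) hb h2
  apply D.mem_Z_of_comm_t hu
  calc D.t * u = (D.t * u * D.t⁻¹) * D.t := by group
    _ = u * D.t := by rw [h3]

/-- `T`-stability of the big cell coordinates -/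
theorem X_conj {H : Subgroup G} (hT : D.T ≤ H) {u x : G} (hu : u ∈ D.X H) (hx : x ∈ D.T) :
    x * u * x⁻¹ ∈ D.X H := by
  obtain ⟨hu, b, hb, hg⟩ := hu
  refine ⟨D.hTU x hx u hu, D.w * x * D.w * b, D.B.mul_mem (D.T_le_B (D.hwT x hx)) hb, ?_⟩
  have : x * u * x⁻¹ * D.w * (D.w * x * D.w * b) = x * u * x⁻¹ * (D.w * D.w) * x * D.w * b := by
    group
  rw [this, D.hww]
  have : x * u * x⁻¹ * 1 * x * D.w * b = x * (u * D.w * b) := by group
  rw [this]
  exact H.mul_mem (hT hx) hg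

/-- few big cell coordinates: all in `Z` -/
theorem X_subset_Z_of_ncard [Finite G] {H : Subgroup G} (hT : D.T ≤ H) (hc : (D.X H).ncard < 8) :
    D.X H ⊆ (D.Z : Set G) := by
  intro u hu
  by_contra huZ
  have hsub : Set.range (fun x : ↥D.T => (x : G) * u * (x : G)⁻¹) ⊆ D.X H := by
    rintro _ ⟨x, rfl⟩
    exact D.X_conj hT hu x.2
  have hinj : Function.Injective (fun x : ↥D.T => (x : G) * u * (x : G)⁻¹) := by
    intro x y hxy
    have h1 : ((y : G)⁻¹ * (x : G)) * u * ((y : G)⁻¹ * (x : G))⁻¹ = u := by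
      have hxy' : (x : G) * u * (x : G)⁻¹ = (y : G) * u * (y : G)⁻¹ := hxy
      calc ((y : G)⁻¹ * (x : G)) * u * ((y : G)⁻¹ * (x : G))⁻¹
          = (y : G)⁻¹ * ((x : G) * u * (x : G)⁻¹) * (y : G) := by group
        _ = u := by rw [hxy']; group
    rcases D.hfree _ (D.T.mul_mem (D.T.inv_mem y.2) x.2) u hu.1 h1 with h2 | h2
    · apply Subtype.ext
      have := congrArg (fun z => (y : G) * z) h2
      simpa using this
    · exact absurd h2 huZ
  have h8 : (Set.range (fun x : ↥D.T => (x : G) * u * (x : G)⁻¹)).ncard = 8 := by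
    rw [← Set.image_univ, Set.ncard_image_of_injective _ hinj, Set.ncard_univ, D.cardT]
  have := Set.ncard_le_ncard hsub (Set.toFinite _)
  omega

/-- if all coordinates are in `Z`, the subgroup centralises `t` -/
theorem comm_t_of_X_subset_Z {H : Subgroup G} (hT : D.T ≤ H) (hV : D.U ⊓ H ≤ D.Z)
    (hX : D.X H ⊆ (D.Z : Set G)) : ∀ g ∈ H, D.t * g = g * D.t := by
  intro g hg
  have hw : D.t * D.w = D.w * D.t := D.htw
  rcases D.bruhat' g with ⟨u, hu, x, hx, rfl⟩ | ⟨u, hu, b, hb, rfl⟩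
  · have huH : u ∈ H := by
      have : u = u * x * x⁻¹ := by group
      rw [this]
      exact H.mul_mem hg (H.inv_mem (hT hx))
    have huZ : u ∈ D.Z := hV ⟨hu, huH⟩
    rw [← mul_assoc, D.htZ u huZ, mul_assoc, D.comm_t_of_mem_T hx, mul_assoc]
  · have huZ : u ∈ D.Z := hX ⟨hu, b, hb, hg⟩
    -- the inverse
    obtain ⟨u₁, hu₁, x₁, hx₁, hb1⟩ := D.B.inv_mem hb
    have hinv : (u * D.w * b)⁻¹ = u₁ * D.w * (D.w * x₁ * D.w * u⁻¹) := by
      have : (u * D.w * b)⁻¹ = b⁻¹ * D.w⁻¹ * u⁻¹ := by group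
      rw [this, hb1, D.winv]
      have : u₁ * D.w * (D.w * x₁ * D.w * u⁻¹) = u₁ * (D.w * D.w) * x₁ * D.w * u⁻¹ := by group
      rw [this, D.hww]
      group
    have hu₁Z : u₁ ∈ D.Z := by
      apply hX
      refine ⟨hu₁, D.w * x₁ * D.w * u⁻¹,
        D.B.mul_mem (D.T_le_B (D.hwT x₁ hx₁)) (D.B.inv_mem (D.U_le_B hu)), ?_⟩
      rw [← hinv]
      exact H.inv_mem hg
    have hb' : b = x₁⁻¹ * u₁⁻¹ := by
      have : b = (b⁻¹)⁻¹ := by group
      rw [this, hb1]; group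
    have hbt : D.t * b = b * D.t := by
      rw [hb']
      have h1 : D.t * x₁⁻¹ = x₁⁻¹ * D.t := D.comm_t_of_mem_T (D.T.inv_mem hx₁)
      have h2 : D.t * u₁⁻¹ = u₁⁻¹ * D.t := D.htZ _ (D.Z.inv_mem hu₁Z)
      rw [← mul_assoc, h1, mul_assoc, h2, mul_assoc]
    calc D.t * (u * D.w * b) = (D.t * u) * D.w * b := by group
      _ = u * (D.t * D.w) * b := by rw [D.htZ u huZ]; group
      _ = u * D.w * (D.t * b) := by rw [hw]; group
      _ = u * D.w * b * D.t := by rw [hbt]; group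

/-! ### orders -/

theorem X_top : D.X ⊤ = (D.U : Set G) := by
  ext u
  constructor
  · exact fun h => h.1
  · exact fun hu => ⟨hu, 1, D.B.one_mem, Subgroup.mem_top _⟩

theorem ncard_U [Finite G] : (D.U : Set G).ncard = 27 := by
  rw [← D.cardU]
  exact (Nat.card_coe_set_eq _).symm

theorem ncard_Z [Finite G] : (D.Z : Set G).ncard = 3 := by
  rw [← D.cardZ]
  exact (Nat.card_coe_set_eq _).symm

include D in
theorem card_G [Finite G] : Nat.card G = 6048 := by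
  have h := D.card_eq ⊤
  rw [D.X_top, top_inf_eq, D.card_B, D.ncard_U, Subgroup.card_top] at h
  omega

/-- a Sylow 2-subgroup of `M` containing `N` -/
theorem exists_S [Finite G] (M : Subgroup G) (hN : D.N ≤ M) (h32 : 32 ∣ Nat.card ↥M)
    (h64 : ¬ 64 ∣ Nat.card ↥M) : ∃ S : Subgroup G, S ≤ M ∧ D.N ≤ S ∧ Nat.card ↥S = 32 := by
  haveI : Fact (Nat.Prime 2) := ⟨Nat.prime_two⟩
  have hN' : IsPGroup 2 ↥(D.N.subgroupOf M) := D.N_isPGroup.comap_subtype
  obtain ⟨P, hP⟩ := hN'.exists_le_sylow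
  refine ⟨(P : Subgroup ↥M).map M.subtype, Subgroup.map_subtype_le _, ?_, ?_⟩
  · intro n hn
    exact ⟨⟨n, hN hn⟩, hP (by rw [Subgroup.mem_subgroupOf]; exact hn), rfl⟩
  · rw [Subgroup.card_map_of_injective M.subtype_injective, P.card_eq_multiplicity]
    have h0 : Nat.card ↥M ≠ 0 := Nat.card_pos.ne'
    have h5 : 5 ≤ (Nat.card ↥M).factorization 2 :=
      (Nat.Prime.pow_dvd_iff_le_factorization Nat.prime_two h0).mp (by norm_num; exact h32)
    have h6 : ¬ 6 ≤ (Nat.card ↥M).factorization 2 := fun h =>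
      h64 (by have := (Nat.Prime.pow_dvd_iff_le_factorization Nat.prime_two h0).mpr h; norm_num at this; exact this)
    have : (Nat.card ↥M).factorization 2 = 5 := by omega
    rw [this]
    norm_num

/-- a group of order 32 containing `N` centralises `t` -/
theorem comm_t_of_card [Finite G] {S : Subgroup G} (hNS : D.N ≤ S) (hS : Nat.card ↥S = 32) :
    ∀ s ∈ S, D.t * s = s * D.t := by
  have hidx : (D.N.subgroupOf S).index = 2 := by
    have h1 := (D.N.subgroupOf S).card_mul_index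
    have h2 : Nat.card ↥(D.N.subgroupOf S) = 16 := by
      rw [← D.card_N]
      exact Nat.card_congr (Subgroup.subgroupOfEquivOfLe hNS).toEquiv
    rw [h2, hS] at h1
    omega
  have hn : (D.N.subgroupOf S).Normal := Subgroup.normal_of_index_eq_two hidx
  intro s hs
  have hhN : D.h ∈ D.N := D.T_le_N D.hhT
  have h1 : (⟨s, hs⟩ : ↥S) * ⟨D.h, hNS hhN⟩ * (⟨s, hs⟩ : ↥S)⁻¹ ∈ D.N.subgroupOf S :=
    hn.conj_mem _ (by rw [Subgroup.mem_subgroupOf]; exact hhN) _
  rw [Subgroup.mem_subgroupOf] at h1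
  have h2 : s * D.h * s⁻¹ ∈ D.N := h1
  have h3 := D.pow_four_of_mem_N h2
  have h4 : (s * D.h * s⁻¹) ^ 4 = s * D.t * s⁻¹ := by rw [conj_pow, D.hh4]
  rw [h4] at h3
  rcases h3 with h3 | h3
  · exfalso
    apply D.ht1
    have := congrArg (fun y => s⁻¹ * y * s) h3
    simpa [mul_assoc] using this
  · calc D.t * s = (s * D.t * s⁻¹) * s := by rw [h3]
      _ = s * D.t := by group

end R1

/-! ### general group theory -/

theorem index_normalCore_dvd_factorial {K : Type*} [Group K] [Finite K] (H : Subgroup K) :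
    H.normalCore.index ∣ (H.index).factorial := by
  rw [Subgroup.normalCore_eq_ker, Subgroup.index_ker, Subgroup.index_eq_card, ← Nat.card_perm]
  exact Subgroup.card_subgroup_dvd_card (MulAction.toPermHom K (K ⧸ H)).range

/-- a group of even order dividing 96 with trivial `O_2` has order 6 -/
theorem card_eq_six_of_pCore {K : Type*} [Group K] [Finite K] (h0 : Cfsg.pCore 2 K = ⊥)
    (h96 : Nat.card K ∣ 96) (h2 : 2 ∣ Nat.card K) : Nat.card K = 6 := by
  haveI : Fact (Nat.Prime 2) := ⟨Nat.prime_two⟩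
  obtain ⟨P⟩ : Nonempty (Sylow 2 K) := inferInstance
  have hi2 : ¬ 2 ∣ (P : Subgroup K).index := P.not_dvd_index
  have hi96 : (P : Subgroup K).index ∣ 96 := ((P : Subgroup K).index_dvd_card).trans h96
  have hi3 : (P : Subgroup K).index ∣ 3 := by
    have hc : Nat.Coprime (P : Subgroup K).index 32 := by
      have : Nat.Coprime 2 (P : Subgroup K).index :=
        (Nat.Prime.coprime_iff_not_dvd Nat.prime_two).mpr hi2
      exact (Nat.Coprime.pow_left 5 this).symm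
    have : (P : Subgroup K).index ∣ 32 * 3 := by norm_num; exact hi96
    exact hc.dvd_of_dvd_mul_left this
  have hcore : (P : Subgroup K).normalCore = ⊥ :=
    Cfsg.Agent.Lib.H18.OG.og_eq_bot_of_normal_pGroup 2 h0 _ inferInstance
      (P.isPGroup'.to_le (Subgroup.normalCore_le _))
  have h1 := index_normalCore_dvd_factorial (P : Subgroup K)
  rw [hcore, Subgroup.index_bot] at h1
  have h6 : Nat.card K ∣ 6 := by
    rcases (Nat.dvd_prime Nat.prime_three).mp hi3 with hi | hi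
    · rw [hi] at h1
      exact h1.trans (by norm_num)
    · rw [hi] at h1
      exact h1
  have hle : Nat.card K ≤ 6 := Nat.le_of_dvd (by norm_num) h6
  have hpos : 0 < Nat.card K := Nat.card_pos
  have h26 : Nat.card K = 2 ∨ Nat.card K = 6 := by
    interval_cases (Nat.card K) <;> omega
  rcases h26 with h | h
  · exfalso
    have hp : IsPGroup 2 ↥(⊤ : Subgroup K) := by
      apply IsPGroup.of_card (n := 1)
      rw [Subgroup.card_top, h, pow_one]
    have := Cfsg.Agent.Lib.H18.OG.og_eq_bot_of_normal_pGroup 2 h0 ⊤ inferInstance hp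
    have h3 : Nat.card ↥(⊤ : Subgroup K) = 1 := by rw [this]; exact Subgroup.card_bot
    rw [Subgroup.card_top] at h3
    omega
  · exact h

end Cfsg.Agent.Lib.H8.OGU33
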