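/-
S2936, the case `U_3(3)` in characteristic 2 (helper8).  Abstract part, main theorem: a finite
group with the rank one data `R1` has the overgroup property at the prime 2 and trivial centre.
-/
import Mathlib
import Cfsg.Agent.Lib.H8.OGU33Abs

set_option autoImplicit false
set_option linter.unusedSectionVars false
set_option linter.unusedVariables false

namespace Cfsg.Agent.Lib.H8.OGU33

open Cfsg.Agent.Lib.H18.OG

namespace R1

variable {G : Type*} [Group G] (D : R1 G)

/-- a central involution contradicts `O_2(M) = 1` -/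
theorem central_contra (M : Subgroup G) (hM : Cfsg.pCore 2 ↥M = ⊥) (htM : D.t ∈ M)
    (hc : ∀ g ∈ M, D.t * g = g * D.t) : False := by
  haveI : Fact (Nat.Prime 2) := ⟨Nat.prime_two⟩
  let t' : ↥M := ⟨D.t, htM⟩
  have hcomm : ∀ g : ↥M, Commute g t' := fun g => Subtype.ext (hc g g.2).symm
  have hnorm : (Subgroup.zpowers t').Normal := by
    constructor
    intro x hx g
    obtain ⟨k, rfl⟩ := Subgroup.mem_zpowers_iff.mp hx
    have h1 : Commute g (t' ^ k) := Commute.zpow_right (hcomm g) k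
    have : g * t' ^ k * g⁻¹ = t' ^ k := by rw [h1.eq]; group
    rw [this]
    exact Subgroup.zpow_mem_zpowers _ _
  have ht'1 : t' ≠ 1 := fun h => D.ht1 (congrArg Subtype.val h)
  have ht'2 : t' ^ 2 = 1 := by
    apply Subtype.ext
    show D.t ^ 2 = 1
    rw [pow_two, D.htt]
  have hp : IsPGroup 2 ↥(Subgroup.zpowers t') := by
    apply IsPGroup.of_card (n := 1)
    rw [Nat.card_zpowers, pow_one]
    exact orderOf_eq_prime ht'2 ht'1
  have h0 := og_eq_bot_of_normal_pGroup 2 hM _ hnorm hp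
  have h1 : t' ∈ (⊥ : Subgroup ↥M) := h0 ▸ Subgroup.mem_zpowers t'
  rw [Subgroup.mem_bot] at h1
  exact ht'1 h1

/-- `Z` is not normalised by `w` -/
theorem Z_not_normal [Finite G] (h : ∀ z ∈ D.Z, D.w * z * D.w ∈ D.Z) : False := by
  have h3 : Nat.card ↥D.Z ≠ 1 := by rw [D.cardZ]; norm_num
  have hne : D.Z ≠ ⊥ := fun hb => h3 (by rw [hb]; exact Subgroup.card_bot)
  obtain ⟨⟨z, hz⟩, hz1'⟩ := Subgroup.ne_bot_iff_exists_ne_one.mp hne
  have hz1 : z ≠ 1 := fun h => hz1' (Subtype.ext h)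
  have h1 := D.uniq (D.w * z * D.w) (D.hZU (h z hz)) z (D.hZU hz) 1 D.T.one_mem (by rw [mul_one])
  apply hz1
  have : z = D.w * (D.w * z * D.w) * D.w := by
    have : D.w * (D.w * z * D.w) * D.w = (D.w * D.w) * z * (D.w * D.w) := by group
    rw [this, D.hww, one_mul, mul_one]
  rw [this, h1, mul_one, D.hww]

set_option maxHeartbeats 1600000 in
/-- the main lemma: `N ≤ M` -/
theorem main_of_N_le [Finite G] (M : Subgroup G) (hN : D.N ≤ M) (hM : Cfsg.pCore 2 ↥M = ⊥)
    (hidx : ¬ 2 ∣ M.index) : M = ⊤ := by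
  haveI : Fact (Nat.Prime 2) := ⟨Nat.prime_two⟩
  haveI : Fact (Nat.Prime 3) := ⟨Nat.prime_three⟩
  have hT : D.T ≤ M := D.T_le_N.trans hN
  have hw : D.w ∈ M := hN D.w_mem_N
  have hTV : ∀ x ∈ D.T, ∀ u ∈ D.U ⊓ M, x * u * x⁻¹ ∈ D.U ⊓ M := fun x hx u hu =>
    ⟨D.hTU x hx u hu.1, M.mul_mem (M.mul_mem (hT hx) hu.2) (M.inv_mem (hT hx))⟩
  rcases D.hinv (D.U ⊓ M) inf_le_left hTV with hVZ | hVU
  swap
  · have hU : D.U ≤ M := by rw [← hVU]; exact inf_le_right
    rw [eq_top_iff]
    intro g _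
    rcases D.bruhat g with ⟨u, hu, x, hx, rfl⟩ | ⟨u, hu, u', hu', x, hx, rfl⟩
    · exact M.mul_mem (hU hu) (hT hx)
    · exact M.mul_mem (M.mul_mem (hU hu) hw) (M.mul_mem (hU hu') (hT hx))
  exfalso
  -- `M ⊓ B = V T`
  have hMB : M ⊓ D.B = D.VT (D.U ⊓ M) hTV := by
    ext g
    constructor
    · rintro ⟨hgM, u, hu, x, hx, rfl⟩
      refine ⟨u, ⟨hu, ?_⟩, x, hx, rfl⟩
      have : u = u * x * x⁻¹ := by group
      rw [this]
      exact M.mul_mem hgM (M.inv_mem (hT hx))
    · rintro ⟨u, hu, x, hx, rfl⟩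
      exact ⟨M.mul_mem hu.2 (hT hx), u, hu.1, x, hx, rfl⟩
  have hcMB : Nat.card ↥(M ⊓ D.B) = Nat.card ↥(D.U ⊓ M) * 8 := by
    rw [hMB]
    exact D.card_VT _ inf_le_left hTV
  have hv : Nat.card ↥(D.U ⊓ M) = 1 ∨ Nat.card ↥(D.U ⊓ M) = 3 := by
    have h1 : Nat.card ↥(D.U ⊓ M) ∣ 3 := by
      rw [← D.cardZ]
      exact Subgroup.card_dvd_of_le hVZ
    exact (Nat.dvd_prime Nat.prime_three).mp h1
  have hcM := D.card_eq M
  have hXU : (D.X M).ncard ≤ 27 := by
    have := Set.ncard_le_ncard (D.X_subset_U M) (Set.toFinite _)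
    rwa [D.ncard_U] at this
  have hG := D.card_G
  have hMG : Nat.card ↥M * M.index = 6048 := by rw [← hG]; exact M.card_mul_index
  have h32 : 32 ∣ Nat.card ↥M := by
    have h1 : 32 ∣ Nat.card ↥M * M.index := by rw [hMG]; norm_num
    have hc : Nat.Coprime 32 M.index := by
      have : Nat.Coprime 2 M.index := (Nat.Prime.coprime_iff_not_dvd Nat.prime_two).mpr hidx
      exact Nat.Coprime.pow_left 5 this
    exact hc.dvd_of_dvd_mul_right h1
  have h6048 : Nat.card ↥M ∣ 6048 := Dvd.intro _ hMG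
  have h64 : ¬ 64 ∣ Nat.card ↥M := fun h => by
    have := h.trans h6048
    norm_num at this
  -- the centraliser of `t` in `M`
  set C : Subgroup G := M ⊓ Subgroup.centralizer {D.t} with hCdef
  have hCcomm : ∀ g ∈ C, D.t * g = g * D.t := by
    intro g hg
    exact (Subgroup.mem_centralizer_iff.mp hg.2) D.t rfl
  have hVTcomm : ∀ g ∈ M ⊓ D.B, D.t * g = g * D.t := by
    intro g hg
    rw [hMB] at hg
    obtain ⟨u, hu, x, hx, rfl⟩ := hg
    rw [← mul_assoc, D.htZ u (hVZ hu), mul_assoc, D.comm_t_of_mem_T hx, mul_assoc]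
  have hCB : C ⊓ D.B = M ⊓ D.B := by
    ext g
    constructor
    · rintro ⟨⟨h1, _⟩, h2⟩
      exact ⟨h1, h2⟩
    · intro hg
      refine ⟨⟨hg.1, ?_⟩, hg.2⟩
      apply Subgroup.mem_centralizer_iff.mpr
      intro y hy
      rw [Set.mem_singleton_iff] at hy
      subst hy
      exact hVTcomm g hg
  have hcC := D.card_eq C
  rw [hCB] at hcC
  have hXC : (D.X C).ncard ≤ 3 := by
    have := Set.ncard_le_ncard (D.X_subset_Z_of_comm hCcomm) (Set.toFinite _)
    rwa [D.ncard_Z] at this
  obtain ⟨S, hSM, hNS, hS⟩ := D.exists_S M hN h32 h64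
  have hSC : S ≤ C := by
    intro s hs
    refine ⟨hSM hs, ?_⟩
    apply Subgroup.mem_centralizer_iff.mpr
    intro y hy
    rw [Set.mem_singleton_iff] at hy
    subst hy
    exact D.comm_t_of_card hNS hS s hs
  have h32C : 32 ∣ Nat.card ↥C := by
    rw [← hS]
    exact Subgroup.card_dvd_of_le hSC
  have hCM : C ≤ M := inf_le_left
  -- numerics
  have hc3 : (D.X C).ncard = 3 := by
    rw [hcMB] at hcC
    rcases hv with hv | hv <;> rw [hv] at hcC <;> rw [hcC] at h32C <;> omega
  have hn : (D.X M).ncard = 3 ∨ (D.X M).ncard = 11 ∨ (D.X M).ncard = 27 := by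
    rw [hcMB] at hcM
    rcases hv with hv | hv <;> rw [hv] at hcM <;> rw [hcM] at h32 h6048 <;>
      (generalize (D.X M).ncard = n at *; interval_cases n <;> omega)
  rcases hn with hn | hn
  · -- `X = Z`: `M` centralises `t`
    have hX := D.X_subset_Z_of_ncard hT (by omega)
    exact D.central_contra M hM (hT D.htT) (D.comm_t_of_X_subset_Z hT hVZ hX)
  -- the core of the centraliser
  have hcC' : Nat.card ↥C = Nat.card ↥(D.U ⊓ M) * 32 := by rw [hcC, hcMB, hc3]; ring
  let C' : Subgroup ↥M := C.subgroupOf M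
  have hC'card : Nat.card ↥C' = Nat.card ↥C :=
    Nat.card_congr (Subgroup.subgroupOfEquivOfLe hCM).toEquiv
  have hC'idx := C'.card_mul_index
  let K : Subgroup ↥M := C'.normalCore
  haveI hKn : K.Normal := C'.normalCore_normal
  have hKidx : K.index ∣ (C'.index).factorial := index_normalCore_dvd_factorial C'
  have hKcard := K.card_mul_index
  have hKC : Nat.card ↥K ∣ Nat.card ↥C' := Subgroup.card_dvd_of_le C'.normalCore_le
  have hK0 : Cfsg.pCore 2 ↥K = ⊥ := by
    haveI : (Cfsg.pCore 2 ↥K).Characteristic := Cfsg.Agent.Lib.H1.pCore_characteristic 2 ↥K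
    have hnn : ((Cfsg.pCore 2 ↥K).map K.subtype).Normal := ConjAct.normal_of_characteristic_of_normal
    have hp : IsPGroup 2 ↥((Cfsg.pCore 2 ↥K).map K.subtype) :=
      (Cfsg.Agent.Lib.H1.pCore_isPGroup 2 ↥K).map _
    have h0 := og_eq_bot_of_normal_pGroup 2 hM _ hnn hp
    exact (Subgroup.map_eq_bot_iff_of_injective _ K.subtype_injective).mp h0
  have hK96 : Nat.card ↥K ∣ 96 := by
    rw [hC'card, hcC'] at hKC
    rcases hv with hv | hv <;> rw [hv] at hKC
    · exact hKC.trans (by norm_num)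
    · exact hKC.trans (by norm_num)
  rw [hcMB] at hcM
  rcases hn with hn | hn
  · -- index 3
    have hi3 : C'.index = 3 := by
      rw [hC'card, hcC', hcM, hn] at hC'idx
      rcases hv with hv | hv <;> rw [hv] at hC'idx <;> omega
    rw [hi3] at hKidx
    have h6 : K.index ∣ 6 := hKidx
    obtain ⟨c, hc⟩ := h6
    have h16 : 16 ∣ Nat.card ↥K := by
      have h1 : 32 ∣ Nat.card ↥K * K.index := by rw [hKcard]; exact h32
      have h2 : 32 ∣ Nat.card ↥K * 6 := by
        rw [hc, ← mul_assoc]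
        exact Dvd.dvd.mul_right h1 c
      omega
    have hK6 := card_eq_six_of_pCore hK0 hK96 (by omega)
    omega
  · -- index 7
    have hi7 : C'.index = 7 := by
      rw [hC'card, hcC', hcM, hn] at hC'idx
      rcases hv with hv | hv <;> rw [hv] at hC'idx <;> omega
    rw [hi7] at hKidx
    have h5040 : K.index ∣ 5040 := hKidx
    obtain ⟨c, hc⟩ := h5040
    have h2 : 2 ∣ Nat.card ↥K := by
      have h1 : 32 ∣ Nat.card ↥K * K.index := by rw [hKcard]; exact h32
      have h2 : 32 ∣ Nat.card ↥K * 5040 := by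
        rw [hc, ← mul_assoc]
        exact Dvd.dvd.mul_right h1 c
      omega
    have hK6 := card_eq_six_of_pCore hK0 hK96 h2
    -- `|M| = 672` and `Z ≤ M`
    have h3M : 3 ∣ Nat.card ↥M := by
      rw [← hKcard, hK6]
      exact Dvd.dvd.mul_right (by norm_num) _
    have hv3 : Nat.card ↥(D.U ⊓ M) = 3 := by
      rcases hv with hv | hv
      · rw [hcM, hv, hn] at h3M
        omega
      · exact hv
    have hM672 : Nat.card ↥M = 672 := by rw [hcM, hv3, hn]
    have hVeqZ : D.U ⊓ M = D.Z :=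
      Subgroup.eq_of_le_of_card_ge hVZ (by rw [hv3, D.cardZ])
    have hZM : D.Z ≤ M := by rw [← hVeqZ]; exact inf_le_right
    -- the Sylow 3-subgroup of `K`
    obtain ⟨Q⟩ : Nonempty (Sylow 3 ↥K) := inferInstance
    have hf6 : (6 : ℕ).factorization 3 = 1 := by
      have h : (6 : ℕ) = 3 * 2 := by norm_num
      rw [h, Nat.factorization_mul (by norm_num) (by norm_num), Finsupp.add_apply,
        Nat.Prime.factorization_self Nat.prime_three,
        Nat.factorization_eq_zero_of_not_dvd (by norm_num)]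
    have hQcard : Nat.card ↥(Q : Subgroup ↥K) = 3 := by
      rw [Q.card_eq_multiplicity, hK6, hf6, pow_one]
    have hQidx : (Q : Subgroup ↥K).index = 2 := by
      have := (Q : Subgroup ↥K).card_mul_index
      rw [hQcard, hK6] at this
      omega
    have hQn : (Q : Subgroup ↥K).Normal := Subgroup.normal_of_index_eq_two hQidx
    haveI hQc : (Q : Subgroup ↥K).Characteristic := Q.characteristic_of_normal hQn
    have hQ'n : ((Q : Subgroup ↥K).map K.subtype).Normal :=
      ConjAct.normal_of_characteristic_of_normal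
    have hQ'card : Nat.card ↥((Q : Subgroup ↥K).map K.subtype) = 3 := by
      rw [Subgroup.card_map_of_injective K.subtype_injective, hQcard]
    have hQ'p : IsPGroup 3 ↥((Q : Subgroup ↥K).map K.subtype) :=
      IsPGroup.of_card (n := 1) (by rw [hQ'card, pow_one])
    -- `Z` as a Sylow 3-subgroup of `M`
    let Z' : Subgroup ↥M := D.Z.subgroupOf M
    have hZ'card : Nat.card ↥Z' = 3 := by
      rw [← D.cardZ]
      exact Nat.card_congr (Subgroup.subgroupOfEquivOfLe hZM).toEquiv
    have hZ'p : IsPGroup 3 ↥Z' := IsPGroup.of_card (n := 1) (by rw [hZ'card, pow_one])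
    obtain ⟨P, hP⟩ := hZ'p.exists_le_sylow
    have hf672 : (672 : ℕ).factorization 3 = 1 := by
      have h : (672 : ℕ) = 3 * 224 := by norm_num
      rw [h, Nat.factorization_mul (by norm_num) (by norm_num), Finsupp.add_apply,
        Nat.Prime.factorization_self Nat.prime_three,
        Nat.factorization_eq_zero_of_not_dvd (by norm_num)]
    have hPcard : Nat.card ↥(P : Subgroup ↥M) = 3 := by
      rw [P.card_eq_multiplicity, hM672, hf672, pow_one]
    have hZP : Z' = (P : Subgroup ↥M) :=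
      Subgroup.eq_of_le_of_card_ge hP (by rw [hPcard, hZ'card])
    have hQ'Z : (Q : Subgroup ↥K).map K.subtype ≤ Z' := by
      rw [hZP]
      exact (Cfsg.Agent.Lib.H1.le_pCore hQ'n hQ'p).trans (Cfsg.Agent.Lib.H1.pCore_le_sylow P)
    have hQ'eq : (Q : Subgroup ↥K).map K.subtype = Z' :=
      Subgroup.eq_of_le_of_card_ge hQ'Z (by rw [hZ'card, hQ'card])
    have hZ'n : Z'.Normal := hQ'eq ▸ hQ'n
    apply D.Z_not_normal
    intro z hz
    have h1 : (⟨D.w, hw⟩ : ↥M) * ⟨z, hZM hz⟩ * (⟨D.w, hw⟩ : ↥M)⁻¹ ∈ Z' :=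
      hZ'n.conj_mem _ (by rw [Subgroup.mem_subgroupOf]; exact hz) _
    rw [Subgroup.mem_subgroupOf] at h1
    have h2 : D.w * z * D.w⁻¹ ∈ D.Z := h1
    rwa [D.winv] at h2

include D in
/-- **the overgroup property at 2** -/
theorem overgroupProp [Finite G] : OvergroupProp 2 G := by
  intro M hM hidx
  haveI : Fact (Nat.Prime 2) := ⟨Nat.prime_two⟩
  obtain ⟨g, hg⟩ := Cfsg.Agent.Lib.H1.exists_conj_le_of_not_dvd_index hidx D.N_isPGroup
  let e : G ≃* G := MulAut.conj g
  have hN : D.N ≤ M.comap e.toMonoidHom := fun n hn => hg n hn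
  have e' : ↥M ≃* ↥(M.comap e.toMonoidHom) :=
    (MulEquiv.subgroupMap e.symm M).trans
      (MulEquiv.subgroupCongr (by
        ext x
        simp only [Subgroup.mem_map, Subgroup.mem_comap, MulEquiv.coe_toMonoidHom]
        constructor
        · rintro ⟨y, hy, rfl⟩
          simpa using hy
        · intro hx
          exact ⟨e x, hx, by simp⟩))
  have hM' : Cfsg.pCore 2 ↥(M.comap e.toMonoidHom) = ⊥ := og_pCore_eq_bot_of_mulEquiv 2 e' hM
  have hidx' : ¬ 2 ∣ (M.comap e.toMonoidHom).index := by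
    rw [Subgroup.index_comap_of_surjective M e.surjective]
    exact hidx
  have h1 := D.main_of_N_le _ hN hM' hidx'
  rw [eq_top_iff]
  intro x _
  have : e.symm x ∈ M.comap e.toMonoidHom := by rw [h1]; trivial
  simpa using this

include D in
/-- the centre is trivial -/
theorem center_eq_bot [Finite G] : Subgroup.center G = ⊥ := by
  rw [eq_bot_iff]
  intro z hz
  rw [Subgroup.mem_bot]
  have hcomm : ∀ g : G, g * z = z * g := fun g => Subgroup.mem_center_iff.mp hz g
  have hUZ : ∃ u' ∈ D.U, u' ∉ D.Z := by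
    by_contra hcon
    have h1 : D.U ≤ D.Z := fun u hu => by
      by_contra h
      exact hcon ⟨u, hu, h⟩
    have := Subgroup.card_le_of_le h1
    rw [D.cardU, D.cardZ] at this
    omega
  obtain ⟨u', hu', hu'Z⟩ := hUZ
  have hu'1 : u' ≠ 1 := fun h => hu'Z (h ▸ D.Z.one_mem)
  rcases D.bruhat' z with ⟨u, hu, x, hx, rfl⟩ | ⟨u, hu, b, hb, rfl⟩
  · -- `z = u x`
    have h1 := hcomm D.w
    have h2 : u * D.w * (D.w * x * D.w) = 1 * D.w * (u * x) := by
      have : u * D.w * (D.w * x * D.w) = u * (D.w * D.w) * x * D.w := by group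
      rw [this, D.hww, one_mul, h1]
      group
    have h3 : u = 1 := D.cell_unique hu D.U.one_mem (D.T_le_B (D.hwT x hx))
      (D.B.mul_mem (D.U_le_B hu) (D.T_le_B hx)) h2
    subst h3
    rw [one_mul] at hcomm ⊢
    have h4 : x * u' * x⁻¹ = u' := by
      rw [← hcomm u']
      group
    rcases D.hfree x hx u' hu' h4 with h5 | h5
    · exact h5
    · exact absurd h5 hu'Z
  · -- `z = u w b`
    exfalso
    have h1 := hcomm u'
    have h2 : (u' * u) * D.w * b = u * D.w * (b * u') := by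
      calc (u' * u) * D.w * b = u' * (u * D.w * b) := by group
        _ = u * D.w * b * u' := h1
        _ = u * D.w * (b * u') := by group
    have h3 : u' * u = u := D.cell_unique (D.U.mul_mem hu' hu) hu hb
      (D.B.mul_mem hb (D.U_le_B hu')) h2
    apply hu'1
    have := congrArg (fun y => y * u⁻¹) h3
    simpa using this

end R1

end Cfsg.Agent.Lib.H8.OGU33
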