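/-
S2936, the case `U_3(3)` in characteristic 2 (helper8).  Concrete part: the rank one data of
`SUJ σ` over the field with 9 elements.
-/
import Mathlib
import Cfsg.Agent.Lib.H8.SU3B
import Cfsg.Agent.Lib.H8.OGU33Main

set_option autoImplicit false
set_option linter.unusedSectionVars false
set_option linter.unusedVariables false

namespace Cfsg.Agent.Lib.H8.OGU33

open Matrix Cfsg.Agent.Lib.H8.SU3Gen

variable {F : Type*} [Field F]

/-! ### the torus -/

/-- the torus matrices `diag(l, σ l / l, (σ l)⁻¹)` -/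
def hM (σ : F →+* F) (l : F) : Matrix (Fin 3) (Fin 3) F :=
  !![l, 0, 0; 0, σ l / l, 0; 0, 0, (σ l)⁻¹]

theorem det_hM (σ : F →+* F) {l : F} (hl : l ≠ 0) : (hM σ l).det = 1 := by
  have h2 : σ l ≠ 0 := (map_ne_zero σ).mpr hl
  simp [hM, det_fin_three]
  field_simp

theorem dag_hM (σ : F →+* F) (hσ : ∀ x, σ (σ x) = x) {l : F} (hl : l ≠ 0) :
    dag σ (hM σ l) = hM σ l⁻¹ := by
  ext i j
  fin_cases i <;> fin_cases j <;> simp [dag, hM, hσ]
  ring

theorem hM_mul (σ : F →+* F) {l l' : F} (hl : l ≠ 0) (hl' : l' ≠ 0) :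
    hM σ l * hM σ l' = hM σ (l * l') := by
  have h2 : σ l ≠ 0 := (map_ne_zero σ).mpr hl
  have h2' : σ l' ≠ 0 := (map_ne_zero σ).mpr hl'
  ext i j
  fin_cases i <;> fin_cases j <;> simp [hM, Matrix.mul_apply, Fin.sum_univ_three] <;> field_simp

theorem hM_one (σ : F →+* F) : hM σ 1 = 1 := by
  ext i j
  fin_cases i <;> fin_cases j <;> simp [hM]

theorem dag_hM_mul (σ : F →+* F) (hσ : ∀ x, σ (σ x) = x) {l : F} (hl : l ≠ 0) :
    dag σ (hM σ l) * hM σ l = 1 := by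
  rw [dag_hM σ hσ hl, hM_mul σ (inv_ne_zero hl) hl, inv_mul_cancel₀ hl, hM_one]

theorem hM_inj (σ : F →+* F) {l l' : F} (h : hM σ l = hM σ l') : l = l' := by
  have h1 := congrFun (congrFun h 0) 0
  simpa [hM] using h1

/-- conjugation of `u(a,b)` by the torus -/
theorem hM_uM_hM (σ : F →+* F) (hσ : ∀ x, σ (σ x) = x) {l : F} (hl : l ≠ 0) (a b : F) :
    hM σ l * uM σ a b * hM σ l⁻¹ = uM σ (l ^ 2 / σ l * a) (l * σ l * b) := by
  have h2 : σ l ≠ 0 := (map_ne_zero σ).mpr hl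
  ext i j
  fin_cases i <;> fin_cases j <;>
    simp [hM, uM, Matrix.mul_apply, Fin.sum_univ_three, hσ] <;> field_simp

theorem wM_hM_wM (σ : F →+* F) (hσ : ∀ x, σ (σ x) = x) {l : F} (hl : l ≠ 0) :
    wM F * hM σ l * wM F = hM σ (σ l)⁻¹ := by
  have h2 : σ l ≠ 0 := (map_ne_zero σ).mpr hl
  ext i j
  fin_cases i <;> fin_cases j <;>
    simp [hM, wM, Matrix.mul_apply, Fin.sum_univ_three, hσ] <;> field_simp

/-- the torus homomorphism -/
def eta (σ : F →+* F) (hσ : ∀ x, σ (σ x) = x) : Fˣ →* SUJ σ where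
  toFun l := mkJ σ (hM σ (l : F)) (det_hM σ l.ne_zero) (dag_hM_mul σ hσ l.ne_zero)
  map_one' := by
    apply mat_injective
    rw [mat_mkJ, mat_one, Units.val_one, hM_one]
  map_mul' := by
    intro l l'
    apply mat_injective
    rw [mat_mul, mat_mkJ, mat_mkJ, mat_mkJ, Units.val_mul, hM_mul σ l.ne_zero l'.ne_zero]

theorem mat_eta (σ : F →+* F) (hσ : ∀ x, σ (σ x) = x) (l : Fˣ) :
    mat (eta σ hσ l) = hM σ (l : F) := rfl

theorem eta_injective (σ : F →+* F) (hσ : ∀ x, σ (σ x) = x) : Function.Injective (eta σ hσ) := by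
  intro l l' h
  have h1 : hM σ (l : F) = hM σ (l' : F) := by
    rw [← mat_eta σ hσ, ← mat_eta σ hσ, h]
  exact Units.ext (hM_inj σ h1)

/-! ### the field with 9 elements -/

section nine

variable [Fintype F] (hF : Fintype.card F = 9)

include hF in
theorem pow_nine (x : F) : x ^ 9 = x := by
  rw [← hF]
  exact FiniteField.pow_card x

include hF in
theorem pow_eight {x : F} (hx : x ≠ 0) : x ^ 8 = 1 := by
  have h := pow_nine hF x
  have h2 : x * x ^ 8 = x * 1 := by rw [mul_one, ← pow_succ']; exact h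
  exact mul_left_cancel₀ hx h2

include hF in
theorem three_eq_zero : (3 : F) = 0 := by
  obtain ⟨p, hp⟩ := CharP.exists F
  haveI := hp
  obtain ⟨n, hpp, hn⟩ := FiniteField.card F p
  rw [hF] at hn
  have h3 : (3 : ℕ) ∣ p ^ (n : ℕ) := by rw [← hn]; norm_num
  have hp3 : p = 3 :=
    ((Nat.prime_dvd_prime_iff_eq Nat.prime_three hpp).mp
      (Nat.Prime.dvd_of_dvd_pow Nat.prime_three h3)).symm
  subst hp3
  exact_mod_cast CharP.cast_eq_zero F 3

include hF in
theorem two_ne_zero' : (2 : F) ≠ 0 := by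
  intro h2
  have h3 := three_eq_zero hF
  have : (1 : F) = 0 := by linear_combination h3 - h2
  exact one_ne_zero this

include hF in
theorem pow_four {x : F} (hx : x ≠ 0) : x ^ 4 = 1 ∨ x ^ 4 = -1 := by
  apply mul_self_eq_one_iff.mp
  rw [← pow_add]
  exact pow_eight hF hx

include hF in
/-- a generator of the multiplicative group -/
theorem exists_gen : ∃ g : Fˣ, orderOf g = 8 := by
  obtain ⟨g, hg⟩ := IsCyclic.exists_generator (α := Fˣ)
  refine ⟨g, ?_⟩
  rw [orderOf_eq_card_of_forall_mem_zpowers hg, Nat.card_units, Nat.card_eq_fintype_card, hF]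

include hF in
theorem gen_pow_four {g : Fˣ} (hg : orderOf g = 8) : ((g : F)) ^ 4 = -1 := by
  rcases pow_four hF g.ne_zero with h | h
  · exfalso
    have h1 : g ^ 4 = 1 := by
      apply Units.ext
      rw [Units.val_pow_eq_pow_val, h, Units.val_one]
    have := orderOf_dvd_of_pow_eq_one h1
    rw [hg] at this
    omega
  · exact h

include hF in
/-- a square root of `-1` -/
theorem exists_i : ∃ i : F, i * i = -1 := by
  obtain ⟨g, hg⟩ := exists_gen hF
  refine ⟨(g : F) ^ 2, ?_⟩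
  rw [← pow_add]
  exact gen_pow_four hF hg

variable (σ : F →+* F) (hσ3 : ∀ x, σ x = x ^ 3)

include hF hσ3 in
theorem sigma_sigma (x : F) : σ (σ x) = x := by
  rw [hσ3, hσ3, ← pow_mul]
  exact pow_nine hF x

include hF hσ3 in
/-- the trace zero elements -/
theorem K0_eq {i : F} (hi : i * i = -1) : {c : F | c + σ c = 0} = {0, i, -i} := by
  ext c
  simp only [Set.mem_ofPred_eq, Set.mem_insert_iff, Set.mem_singleton_iff]
  rw [hσ3]
  constructor
  · intro h
    by_cases hc : c = 0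
    · exact Or.inl hc
    · right
      have h1 : c * (c * c - i * i) = 0 := by rw [hi]; linear_combination h
      rcases mul_eq_zero.mp h1 with h2 | h2
      · exact absurd h2 hc
      · exact mul_self_eq_mul_self_iff.mp (sub_eq_zero.mp h2)
  · rintro (h | h | h)
    · rw [h]; simp
    · rw [h]; linear_combination i * hi
    · rw [h]; linear_combination -i * hi

include hF hσ3 in
theorem card_K0 : Nat.card {c : F // c + σ c = 0} = 3 := by
  obtain ⟨i, hi⟩ := exists_i hF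
  have hi0 : i ≠ 0 := by
    rintro rfl
    simp at hi
  have h2 := two_ne_zero' hF
  show Nat.card ↥{c : F | c + σ c = 0} = 3
  rw [Nat.card_coe_set_eq, K0_eq hF σ hσ3 hi]
  apply Set.ncard_eq_three.mpr
  refine ⟨0, i, -i, hi0.symm, ?_, ?_, rfl⟩
  · intro h
    exact hi0 (neg_eq_zero.mp h.symm)
  · intro h
    have : 2 * i = 0 := by linear_combination h
    rcases mul_eq_zero.mp this with h | h
    · exact h2 h
    · exact hi0 h

end nine

/-! ### the subgroups -/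

section groups

variable (σ : F →+* F) (hσ : ∀ x, σ (σ x) = x)

/-- the unipotent radical -/
def Usub : Subgroup (SUJ σ) where
  carrier := {k | ∃ a b, mat k = uM σ a b}
  one_mem' := ⟨0, 0, by rw [mat_one, uM_zero]⟩
  mul_mem' := by
    rintro k k' ⟨a, b, h⟩ ⟨a', b', h'⟩
    exact ⟨_, _, by rw [mat_mul, h, h', uM_mul]⟩
  inv_mem' := by
    rintro k ⟨a, b, h⟩
    exact ⟨_, _, by rw [mat_inv, h, dag_uM σ hσ]⟩

/-- the centre of the unipotent radical -/
def Zsub : Subgroup (SUJ σ) where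
  carrier := {k | ∃ b, mat k = uM σ 0 b}
  one_mem' := ⟨0, by rw [mat_one, uM_zero]⟩
  mul_mem' := by
    rintro k k' ⟨b, h⟩ ⟨b', h'⟩
    refine ⟨b + b', ?_⟩
    rw [mat_mul, h, h', uM_mul]
    simp
  inv_mem' := by
    rintro k ⟨b, h⟩
    refine ⟨σ b, ?_⟩
    rw [mat_inv, h, dag_uM σ hσ]
    simp

theorem mem_Usub {k : SUJ σ} : k ∈ Usub σ hσ ↔ ∃ a b, mat k = uM σ a b := Iff.rfl

theorem mem_Zsub {k : SUJ σ} : k ∈ Zsub σ hσ ↔ ∃ b, mat k = uM σ 0 b := Iff.rfl

theorem Zsub_le_Usub : Zsub σ hσ ≤ Usub σ hσ := fun k ⟨b, h⟩ => ⟨0, b, h⟩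

theorem mat_conj_eta (l : Fˣ) (k : SUJ σ) {a b : F} (hk : mat k = uM σ a b) :
    mat (eta σ hσ l * k * (eta σ hσ l)⁻¹) = uM σ ((l : F) ^ 2 / σ l * a) (l * σ l * b) := by
  rw [mat_mul, mat_mul, mat_inv, mat_eta, hk, dag_hM σ hσ l.ne_zero, hM_uM_hM σ hσ l.ne_zero]

theorem mat_wJ : mat (wJ σ) = wM F := rfl

theorem wJ_mul_wJ : wJ σ * wJ σ = 1 := by
  apply mat_injective
  rw [mat_mul, mat_wJ, wM_mul_wM, mat_one]

/-- an isometry with vanishing `(2,0)` entry is upper triangular -/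
theorem upper_of_entry (k : SUJ σ) (h20 : mat k 2 0 = 0) :
    ∃ u ∈ Usub σ hσ, ∃ l : Fˣ, k = u * eta σ hσ l := by
  have E : ∀ i j, (dag σ (mat k) * mat k) i j = (1 : Matrix (Fin 3) (Fin 3) F) i j := fun i j => by
    rw [dag_mat_mul]
  have e20 : σ (mat k 2 0) * mat k 0 0 + σ (mat k 1 0) * mat k 1 0 + σ (mat k 0 0) * mat k 2 0
      = 0 := by
    have := E 2 0
    simpa [dag, Matrix.mul_apply, Fin.sum_univ_three] using this
  have e10 : σ (mat k 2 1) * mat k 0 0 + σ (mat k 1 1) * mat k 1 0 + σ (mat k 0 1) * mat k 2 0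
      = 0 := by
    have := E 1 0
    simpa [dag, Matrix.mul_apply, Fin.sum_univ_three] using this
  have e00 : σ (mat k 2 2) * mat k 0 0 + σ (mat k 1 2) * mat k 1 0 + σ (mat k 0 2) * mat k 2 0
      = 1 := by
    have := E 0 0
    simpa [dag, Matrix.mul_apply, Fin.sum_univ_three] using this
  have e11 : σ (mat k 2 1) * mat k 0 1 + σ (mat k 1 1) * mat k 1 1 + σ (mat k 0 1) * mat k 2 1
      = 1 := by
    have := E 1 1
    simpa [dag, Matrix.mul_apply, Fin.sum_univ_three] using this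
  have e01 : σ (mat k 2 2) * mat k 0 1 + σ (mat k 1 2) * mat k 1 1 + σ (mat k 0 2) * mat k 2 1
      = 0 := by
    have := E 0 1
    simpa [dag, Matrix.mul_apply, Fin.sum_univ_three] using this
  -- `M 1 0 = 0`
  have h10 : mat k 1 0 = 0 := by
    rw [h20, map_zero, zero_mul, mul_zero, zero_add, add_zero] at e20
    rcases mul_eq_zero.mp e20 with h | h
    · exact (map_eq_zero σ).mp h
    · exact h
  rw [h10, h20, mul_zero, mul_zero, add_zero, add_zero] at e10 e00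
  have hl : mat k 0 0 ≠ 0 := by
    intro h
    rw [h, mul_zero] at e00
    exact zero_ne_one e00
  have h21 : mat k 2 1 = 0 := by
    rcases mul_eq_zero.mp e10 with h | h
    · exact (map_eq_zero σ).mp h
    · exact absurd h hl
  rw [h21, map_zero, zero_mul, mul_zero, zero_add, add_zero] at e11
  rw [h21, mul_zero, add_zero] at e01
  have hσl : σ (mat k 0 0) ≠ 0 := (map_ne_zero σ).mpr hl
  have h22 : mat k 2 2 = (σ (mat k 0 0))⁻¹ := by
    have h1 : σ (σ (mat k 2 2) * mat k 0 0) = 1 := by rw [e00, map_one]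
    rw [map_mul, hσ] at h1
    exact eq_inv_of_mul_eq_one_left h1
  have hdet := det_mat k
  rw [det_fin_three, h10, h20, h21] at hdet
  simp at hdet
  have h22' : mat k 2 2 ≠ 0 := by rw [h22]; exact inv_ne_zero hσl
  have h11 : mat k 1 1 = σ (mat k 0 0) / mat k 0 0 := by
    rw [h22] at hdet
    field_simp at hdet ⊢
    linear_combination hdet
  have h11' : mat k 1 1 ≠ 0 := by rw [h11]; exact div_ne_zero hσl hl
  set l : Fˣ := Units.mk0 (mat k 0 0) hl with hldef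
  have hmat : mat k = uM σ (mat k 0 1 / mat k 1 1) (mat k 0 2 / mat k 2 2) * hM σ (l : F) := by
    have h12 : mat k 1 2 = -σ (mat k 0 1 / mat k 1 1) * mat k 2 2 := by
      have h1 : σ (σ (mat k 2 2) * mat k 0 1 + σ (mat k 1 2) * mat k 1 1) = 0 := by
        rw [e01, map_zero]
      rw [map_add, map_mul, map_mul, hσ, hσ] at h1
      rw [map_div₀]
      have hσ11 : σ (mat k 1 1) ≠ 0 := (map_ne_zero σ).mpr h11'
      field_simp
      linear_combination h1
    ext i j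
    fin_cases i <;> fin_cases j <;>
      simp [uM, hM, Matrix.mul_apply, Fin.sum_univ_three, hldef, h10, h20, h21]
    · rw [← h11]
      field_simp
    · rw [← h22]
      field_simp
    · exact h11
    · rw [h12, h22, map_div₀]
      ring
    · exact h22
  obtain ⟨a, b, hmat'⟩ : ∃ a b, mat k = uM σ a b * hM σ (l : F) := ⟨_, _, hmat⟩
  refine ⟨k * (eta σ hσ l)⁻¹, ⟨a, b, ?_⟩, l, by group⟩
  rw [mat_mul, mat_inv, mat_eta, dag_hM σ hσ l.ne_zero, hmat', Matrix.mul_assoc,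
    hM_mul σ l.ne_zero (inv_ne_zero l.ne_zero), mul_inv_cancel₀ l.ne_zero, hM_one, Matrix.mul_one]

/-- the Bruhat decomposition of `SUJ` -/
theorem bruhat_SUJ (k : SUJ σ) :
    (∃ u ∈ Usub σ hσ, ∃ l : Fˣ, k = u * eta σ hσ l) ∨
    (∃ u ∈ Usub σ hσ, ∃ u' ∈ Usub σ hσ, ∃ l : Fˣ, k = u * wJ σ * (u' * eta σ hσ l)) := by
  by_cases h20 : mat k 2 0 = 0
  · exact Or.inl (upper_of_entry σ hσ k h20)
  right
  have hσc : σ (mat k 2 0) ≠ 0 := (map_ne_zero σ).mpr h20
  have e20 : σ (mat k 2 0) * mat k 0 0 + σ (mat k 1 0) * mat k 1 0 + σ (mat k 0 0) * mat k 2 0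
      = 0 := by
    have : (dag σ (mat k) * mat k) 2 0 = (1 : Matrix (Fin 3) (Fin 3) F) 2 0 := by rw [dag_mat_mul]
    simpa [dag, Matrix.mul_apply, Fin.sum_univ_three] using this
  have hab : mat k 0 0 / mat k 2 0 + σ (mat k 0 0 / mat k 2 0) +
      (-σ (mat k 1 0 / mat k 2 0)) * σ (-σ (mat k 1 0 / mat k 2 0)) = 0 := by
    simp only [map_neg, map_div₀, hσ]
    field_simp
    linear_combination e20
  let u := uJ σ hσ (-σ (mat k 1 0 / mat k 2 0)) (mat k 0 0 / mat k 2 0) hab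
  have hu : mat u = uM σ (-σ (mat k 1 0 / mat k 2 0)) (mat k 0 0 / mat k 2 0) := rfl
  have hk' : mat (wJ σ * u⁻¹ * k) 2 0 = 0 := by
    rw [mat_mul, mat_mul, mat_inv, mat_wJ, hu, dag_uM σ hσ]
    simp only [wM, uM, Matrix.mul_apply, Fin.sum_univ_three, map_neg, map_div₀, hσ]
    simp
    field_simp
    linear_combination e20
  obtain ⟨u', hu', l, hl⟩ := upper_of_entry σ hσ _ hk'
  refine ⟨u, ⟨_, _, hu⟩, u', hu', l, ?_⟩
  rw [← hl]
  have : u * wJ σ * (wJ σ * u⁻¹ * k) = u * (wJ σ * wJ σ) * u⁻¹ * k := by group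
  rw [this, wJ_mul_wJ]
  group

end groups

/-! ### the rank one data -/

section data

variable [Fintype F] (hF : Fintype.card F = 9) (σ : F →+* F) (hσ3 : ∀ x, σ x = x ^ 3)
  (hσ : ∀ x, σ (σ x) = x)

include hσ3 in
theorem sq_div_sigma {l : F} (hl : l ≠ 0) : l ^ 2 / σ l = l⁻¹ := by
  rw [hσ3]
  field_simp

include hF hσ3 in
theorem card_Usub : Nat.card ↥(Usub σ hσ) = 27 := by
  have h3 := three_eq_zero hF
  have h27 : (27 : ℕ) = Nat.card (F × {c : F // c + σ c = 0}) := by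
    rw [Nat.card_prod, card_K0 hF σ hσ3, Nat.card_eq_fintype_card, hF]
  rw [h27]
  symm
  have hcond : ∀ (a : F) (c : {c : F // c + σ c = 0}),
      (a * σ a + c.1) + σ (a * σ a + c.1) + a * σ a = 0 := by
    intro a c
    have hc := c.2
    rw [map_add, map_mul, hσ]
    linear_combination hc + a * σ a * h3
  let f : F × {c : F // c + σ c = 0} → ↥(Usub σ hσ) := fun p =>
    ⟨uJ σ hσ p.1 (p.1 * σ p.1 + p.2.1) (hcond p.1 p.2), p.1, _, rfl⟩
  apply Nat.card_congr (Equiv.ofBijective f ⟨?_, ?_⟩)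
  · rintro ⟨a, c⟩ ⟨a', c'⟩ hxy
    have h1 : uM σ a (a * σ a + c.1) = uM σ a' (a' * σ a' + c'.1) :=
      congrArg (fun k : ↥(Usub σ hσ) => mat (k : SUJ σ)) hxy
    obtain ⟨h2, h4⟩ := uM_inj σ h1
    subst h2
    have h5 : c.1 = c'.1 := add_left_cancel h4
    rw [Subtype.ext h5]
  · rintro ⟨k, a, b, hk⟩
    have hc := uM_cond σ hσ k hk
    have hc0 : (b - a * σ a) + σ (b - a * σ a) = 0 := by
      rw [map_sub, map_mul, hσ]
      linear_combination hc - a * σ a * h3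
    refine ⟨(a, ⟨b - a * σ a, hc0⟩), ?_⟩
    apply Subtype.ext
    apply mat_injective
    show uM σ a (a * σ a + (b - a * σ a)) = mat k
    rw [hk]
    congr 1
    ring

include hF hσ3 in
theorem card_Zsub : Nat.card ↥(Zsub σ hσ) = 3 := by
  refine Eq.trans ?_ (card_K0 hF σ hσ3)
  symm
  have hcond : ∀ c : {c : F // c + σ c = 0}, c.1 + σ c.1 + 0 * σ 0 = 0 := by
    intro c
    rw [zero_mul, add_zero]
    exact c.2
  let f : {c : F // c + σ c = 0} → ↥(Zsub σ hσ) := fun c =>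
    ⟨uJ σ hσ 0 c.1 (hcond c), c.1, rfl⟩
  apply Nat.card_congr (Equiv.ofBijective f ⟨?_, ?_⟩)
  · intro c c' hxy
    have h1 : uM σ 0 c.1 = uM σ 0 c'.1 :=
      congrArg (fun k : ↥(Zsub σ hσ) => mat (k : SUJ σ)) hxy
    exact Subtype.ext (uM_inj σ h1).2
  · rintro ⟨k, b, hk⟩
    have hc := uM_cond σ hσ k hk
    rw [zero_mul, add_zero] at hc
    refine ⟨⟨b, hc⟩, ?_⟩
    apply Subtype.ext
    apply mat_injective
    show uM σ 0 b = mat k
    rw [hk]

include hF in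
theorem card_T : Nat.card ↥(eta σ hσ).range = 8 := by
  have h8 : Nat.card Fˣ = 8 := by rw [Nat.card_units, Nat.card_eq_fintype_card, hF]
  rw [← h8]
  exact (Nat.card_congr (MonoidHom.ofInjective (eta_injective σ hσ)).toEquiv).symm

theorem hTU_SUJ : ∀ x ∈ (eta σ hσ).range, ∀ u ∈ Usub σ hσ, x * u * x⁻¹ ∈ Usub σ hσ := by
  rintro _ ⟨l, rfl⟩ u ⟨a, b, hu⟩
  exact ⟨_, _, mat_conj_eta σ hσ l u hu⟩

theorem hTZ_SUJ : ∀ x ∈ (eta σ hσ).range, ∀ u ∈ Zsub σ hσ, x * u * x⁻¹ ∈ Zsub σ hσ := by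
  rintro _ ⟨l, rfl⟩ u ⟨b, hu⟩
  refine ⟨(l : F) * σ l * b, ?_⟩
  rw [mat_conj_eta σ hσ l u hu, mul_zero]

include hσ3 in
theorem hfree_SUJ : ∀ x ∈ (eta σ hσ).range, ∀ u ∈ Usub σ hσ, x * u * x⁻¹ = u →
    x = 1 ∨ u ∈ Zsub σ hσ := by
  rintro _ ⟨l, rfl⟩ u ⟨a, b, hu⟩ h
  have h1 := mat_conj_eta σ hσ l u hu
  rw [h, hu, sq_div_sigma σ hσ3 l.ne_zero] at h1
  obtain ⟨h2, -⟩ := uM_inj σ h1
  by_cases ha : a = 0
  · right
    subst ha
    exact ⟨b, hu⟩
  · left
    have h3 : (l : F)⁻¹ = 1 := by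
      have : ((l : F)⁻¹ - 1) * a = 0 := by linear_combination -h2
      rcases mul_eq_zero.mp this with h | h
      · exact sub_eq_zero.mp h
      · exact absurd h ha
    have h4 : l = 1 := by
      apply Units.ext
      rw [Units.val_one]
      exact inv_eq_one.mp h3
    rw [h4, map_one]

include hF hσ3 in
/-- the `T`-invariant subgroups of `U` -/
theorem hinv_SUJ (V : Subgroup (SUJ σ)) (hVU : V ≤ Usub σ hσ)
    (hTV : ∀ x ∈ (eta σ hσ).range, ∀ u ∈ V, x * u * x⁻¹ ∈ V) :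
    V ≤ Zsub σ hσ ∨ V = Usub σ hσ := by
  by_cases h : V ≤ Zsub σ hσ
  · exact Or.inl h
  right
  obtain ⟨k, hkV, hkZ⟩ := SetLike.not_le_iff_exists.mp h
  obtain ⟨a, b, hk⟩ := hVU hkV
  have ha : a ≠ 0 := by
    rintro rfl
    exact hkZ ⟨b, hk⟩
  -- step 1: all values of the first parameter occur
  have step1 : ∀ a' : F, a' ≠ 0 → ∃ k' ∈ V, ∃ b', mat k' = uM σ a' b' := by
    intro a' ha'
    let l : Fˣ := Units.mk0 (a / a') (div_ne_zero ha ha')
    refine ⟨eta σ hσ l * k * (eta σ hσ l)⁻¹, hTV _ ⟨l, rfl⟩ k hkV, (l : F) * σ l * b, ?_⟩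
    rw [mat_conj_eta σ hσ l k hk, sq_div_sigma σ hσ3 l.ne_zero]
    congr 1
    show (a / a')⁻¹ * a = a'
    field_simp
  -- step 2: `Z ≤ V`
  obtain ⟨i, hi⟩ := exists_i hF
  have hi0 : i ≠ 0 := by
    rintro rfl
    simp at hi
  have h2 := two_ne_zero' hF
  have hσi : σ i = -i := by
    rw [hσ3]
    linear_combination i * hi
  obtain ⟨k', hk'V, b', hk'⟩ := step1 (i * a) (mul_ne_zero hi0 ha)
  have hK1 : mat (k' * k) = uM σ (a + i * a) (b' + b - i * a * σ a) := by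
    rw [mat_mul, hk, hk', uM_mul, add_comm]
  have hK2 : mat (k * k') = uM σ (a + i * a) (b + b' - a * σ (i * a)) := by
    rw [mat_mul, hk, hk', uM_mul]
  have hc0 := mat_inv_mul_uM σ hσ (k' * k) (k * k') hK1 hK2
  set d : F := b + b' - a * σ (i * a) - (b' + b - i * a * σ a) with hd
  have hdval : d = 2 * i * (a * σ a) := by
    rw [hd, map_mul, hσi]
    ring
  have hσa : σ a ≠ 0 := (map_ne_zero σ).mpr ha
  have hd0 : d ≠ 0 := by
    rw [hdval]
    exact mul_ne_zero (mul_ne_zero h2 hi0) (mul_ne_zero ha hσa)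
  have hc0V : (k' * k)⁻¹ * (k * k') ∈ V :=
    V.mul_mem (V.inv_mem (V.mul_mem hk'V hkV)) (V.mul_mem hkV hk'V)
  have hdK : d + σ d = 0 := by
    have := uM_cond σ hσ _ hc0
    rw [zero_mul, add_zero] at this
    exact this
  have hK0 := K0_eq hF σ hσ3 hi
  have hZV : Zsub σ hσ ≤ V := by
    rintro z ⟨c, hz⟩
    have hcK : c + σ c = 0 := by
      have := uM_cond σ hσ z hz
      rw [zero_mul, add_zero] at this
      exact this
    have hc3 : c = 0 ∨ c = d ∨ c = -d := by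
      have h1 : c ∈ ({0, i, -i} : Set F) := by rw [← hK0]; exact hcK
      have h2 : d ∈ ({0, i, -i} : Set F) := by rw [← hK0]; exact hdK
      simp only [Set.mem_insert_iff, Set.mem_singleton_iff] at h1 h2
      rcases h2 with h2 | h2 | h2
      · exact absurd h2 hd0
      · rw [h2]
        exact h1
      · rw [h2, neg_neg]
        rcases h1 with h1 | h1 | h1
        · exact Or.inl h1
        · exact Or.inr (Or.inr h1)
        · exact Or.inr (Or.inl h1)
    rcases hc3 with rfl | rfl | rfl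
    · have : z = 1 := by
        apply mat_injective
        rw [hz, mat_one, uM_zero]
      rw [this]
      exact V.one_mem
    · have : z = (k' * k)⁻¹ * (k * k') := by
        apply mat_injective
        rw [hz, hc0]
      rw [this]
      exact hc0V
    · have : z = ((k' * k)⁻¹ * (k * k'))⁻¹ := by
        apply mat_injective
        rw [hz, mat_inv, hc0, dag_uM σ hσ, neg_zero]
        congr 1
        linear_combination -hdK
      rw [this]
      exact V.inv_mem hc0V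
  -- step 3
  apply le_antisymm hVU
  rintro k'' ⟨a'', b'', hk''⟩
  by_cases ha'' : a'' = 0
  · subst ha''
    exact hZV ⟨b'', hk''⟩
  · obtain ⟨k₁, hk₁V, b₁, hk₁⟩ := step1 a'' ha''
    have h1 := mat_inv_mul_uM σ hσ k₁ k'' hk₁ hk''
    have h2 : k₁⁻¹ * k'' ∈ V := hZV ⟨_, h1⟩
    have : k'' = k₁ * (k₁⁻¹ * k'') := by group
    rw [this]
    exact V.mul_mem hk₁V h2

theorem w_eta_w (l : Fˣ) :
    wJ σ * eta σ hσ l * wJ σ =
      eta σ hσ (Units.mk0 (σ (l : F))⁻¹ (inv_ne_zero ((map_ne_zero σ).mpr l.ne_zero))) := by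
  apply mat_injective
  rw [mat_mul, mat_mul, mat_wJ, mat_eta, mat_eta, wM_hM_wM σ hσ l.ne_zero]
  rfl

theorem hwT_SUJ : ∀ x ∈ (eta σ hσ).range, wJ σ * x * wJ σ ∈ (eta σ hσ).range := by
  rintro _ ⟨l, rfl⟩
  exact ⟨_, (w_eta_w σ hσ l).symm⟩

theorem hTc_SUJ : ∀ x ∈ (eta σ hσ).range, ∀ y ∈ (eta σ hσ).range, x * y = y * x := by
  rintro _ ⟨l, rfl⟩ _ ⟨l', rfl⟩
  rw [← map_mul, ← map_mul, mul_comm]

include hF in
theorem neg_one_ne_one : (-1 : Fˣ) ≠ 1 := by
  intro h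
  have h1 : ((-1 : Fˣ) : F) = ((1 : Fˣ) : F) := by rw [h]
  rw [Units.val_neg, Units.val_one] at h1
  have h2 := two_ne_zero' hF
  apply h2
  linear_combination -h1

include hF in
theorem ht1_SUJ : eta σ hσ (-1) ≠ 1 := by
  intro h
  rw [← map_one (eta σ hσ)] at h
  exact neg_one_ne_one hF (eta_injective σ hσ h)

theorem htt_SUJ : eta σ hσ (-1) * eta σ hσ (-1) = 1 := by
  rw [← map_mul, neg_mul_neg, one_mul, map_one]

theorem hTinv_SUJ : ∀ x ∈ (eta σ hσ).range, x * x = 1 → x = 1 ∨ x = eta σ hσ (-1) := by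
  rintro _ ⟨l, rfl⟩ h
  rw [← map_mul, ← map_one (eta σ hσ)] at h
  have h1 : l * l = 1 := eta_injective σ hσ h
  have h2 : (l : F) * (l : F) = 1 := by
    rw [← Units.val_mul, h1, Units.val_one]
  rcases mul_self_eq_one_iff.mp h2 with h3 | h3
  · left
    have : l = 1 := Units.ext (by rw [h3, Units.val_one])
    rw [this, map_one]
  · right
    have : l = -1 := Units.ext (by rw [h3, Units.val_neg, Units.val_one])
    rw [this]

include hF in
theorem hh4_SUJ {g : Fˣ} (hg : orderOf g = 8) : (eta σ hσ g) ^ 4 = eta σ hσ (-1) := by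
  rw [← map_pow]
  congr 1
  apply Units.ext
  rw [Units.val_pow_eq_pow_val, gen_pow_four hF hg, Units.val_neg, Units.val_one]

include hF hσ3 in
theorem hN4_SUJ : ∀ x ∈ (eta σ hσ).range,
    (x * wJ σ) ^ 4 = 1 ∨ (x * wJ σ) ^ 4 = eta σ hσ (-1) := by
  rintro _ ⟨l, rfl⟩
  have h1 : (eta σ hσ l * wJ σ) ^ 4 = (eta σ hσ l * (wJ σ * eta σ hσ l * wJ σ)) ^ 2 := by
    rw [pow_two, show (4 : ℕ) = 2 + 2 from rfl, pow_add, pow_two]
    group
  rw [h1, w_eta_w σ hσ l, ← map_mul, ← map_pow]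
  set m : Fˣ := (l * Units.mk0 (σ (l : F))⁻¹ (inv_ne_zero ((map_ne_zero σ).mpr l.ne_zero))) ^ 2
    with hm
  have hmval : (m : F) = ((l : F) ^ 4)⁻¹ := by
    rw [hm, Units.val_pow_eq_pow_val, Units.val_mul, Units.val_mk0, hσ3]
    have := l.ne_zero
    field_simp
  rcases pow_four hF l.ne_zero with h | h
  · left
    have : m = 1 := Units.ext (by rw [hmval, h, inv_one, Units.val_one])
    rw [this, map_one]
  · right
    have : m = -1 := Units.ext (by rw [hmval, h, Units.val_neg, Units.val_one]; norm_num)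
    rw [this]

theorem htw_SUJ : eta σ hσ (-1) * wJ σ = wJ σ * eta σ hσ (-1) := by
  apply mat_injective
  rw [mat_mul, mat_mul, mat_wJ, mat_eta]
  ext i j
  fin_cases i <;> fin_cases j <;>
    simp [hM, wM, Matrix.mul_apply, Fin.sum_univ_three]

theorem htZ_SUJ : ∀ z ∈ Zsub σ hσ, eta σ hσ (-1) * z = z * eta σ hσ (-1) := by
  rintro z ⟨b, hz⟩
  have h1 := mat_conj_eta σ hσ (-1) z hz
  have h2 : eta σ hσ (-1) * z * (eta σ hσ (-1))⁻¹ = z := by
    apply mat_injective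
    rw [h1, hz]
    congr 1
    · rw [mul_zero]
    · simp
  calc eta σ hσ (-1) * z = (eta σ hσ (-1) * z * (eta σ hσ (-1))⁻¹) * eta σ hσ (-1) := by group
    _ = z * eta σ hσ (-1) := by rw [h2]

theorem uniq_SUJ : ∀ u ∈ Usub σ hσ, ∀ u' ∈ Usub σ hσ, ∀ x ∈ (eta σ hσ).range,
    wJ σ * (u' * x) * wJ σ = u → u = 1 := by
  rintro u ⟨a, b, hu⟩ u' ⟨a', b', hu'⟩ _ ⟨l, rfl⟩ h
  have h1 : wM F * (uM σ a' b' * hM σ (l : F)) * wM F = uM σ a b := by
    rw [← hu, ← h, mat_mul, mat_mul, mat_mul, mat_wJ, hu', mat_eta]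
  have e01 := congrFun (congrFun h1 0) 1
  have e02 := congrFun (congrFun h1 0) 2
  simp [wM, uM, hM, Matrix.mul_apply, Fin.sum_univ_three] at e01 e02
  apply mat_injective
  rw [hu, mat_one, ← e01, ← e02, uM_zero]

theorem hwB_SUJ : ∀ u ∈ Usub σ hσ, ∀ x ∈ (eta σ hσ).range, wJ σ ≠ u * x := by
  rintro u ⟨a, b, hu⟩ _ ⟨l, rfl⟩ h
  have h1 : wM F = uM σ a b * hM σ (l : F) := by
    rw [← hu, ← mat_eta σ hσ, ← mat_mul, ← h, mat_wJ]
  have e20 := congrFun (congrFun h1 2) 0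
  simp [wM, uM, hM, Matrix.mul_apply, Fin.sum_univ_three] at e20

include hF hσ3 hσ in
/-- **the rank one data of `SUJ σ` over the field with 9 elements** -/
theorem exists_r1 : Nonempty (R1 (SUJ σ)) := by
  obtain ⟨g, hg⟩ := exists_gen hF
  exact ⟨{
    U := Usub σ hσ
    Z := Zsub σ hσ
    T := (eta σ hσ).range
    w := wJ σ
    t := eta σ hσ (-1)
    h := eta σ hσ g
    hZU := Zsub_le_Usub σ hσ
    cardU := card_Usub hF σ hσ3 hσ
    cardZ := card_Zsub hF σ hσ3 hσ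
    cardT := card_T hF σ hσ
    hTU := hTU_SUJ σ hσ
    hTZ := hTZ_SUJ σ hσ
    hfree := hfree_SUJ σ hσ3 hσ
    hinv := hinv_SUJ hF σ hσ3 hσ
    hww := wJ_mul_wJ σ
    hwT := hwT_SUJ σ hσ
    hTc := hTc_SUJ σ hσ
    htT := ⟨-1, rfl⟩
    ht1 := ht1_SUJ hF σ hσ
    htt := htt_SUJ σ hσ
    hTinv := hTinv_SUJ σ hσ
    hhT := ⟨g, rfl⟩
    hh4 := hh4_SUJ hF σ hσ hg
    hN4 := hN4_SUJ hF σ hσ3 hσ
    htw := htw_SUJ σ hσ
    htZ := htZ_SUJ σ hσ
    bruhat := fun k => by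
      rcases bruhat_SUJ σ hσ k with ⟨u, hu, l, h⟩ | ⟨u, hu, u', hu', l, h⟩
      · exact Or.inl ⟨u, hu, _, ⟨l, rfl⟩, h⟩
      · exact Or.inr ⟨u, hu, u', hu', _, ⟨l, rfl⟩, h⟩
    uniq := uniq_SUJ σ hσ
    hwB := hwB_SUJ σ hσ }⟩

end data

end Cfsg.Agent.Lib.H8.OGU33
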