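/-
S2936, the case `U_3(3)` in characteristic 2 (helper8): `PSU 3 F 3` over the field with 9 elements
has the overgroup property at the prime 2.
-/
import Mathlib
import Cfsg.Agent.Lib.H8.SU3F
import Cfsg.Agent.Lib.H8.OGU33Mat

set_option autoImplicit false
set_option linter.unusedSectionVars false
set_option linter.unusedVariables false

namespace Cfsg.Agent.Lib.H8.OGU33

open Cfsg.Agent.Lib.H8.SU3Gen Cfsg.Agent.Lib.H18.OG

/-- **S2936 for `U_3(3)` at the prime 2**: a subgroup of odd index with trivial `O_2` is everything -/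
theorem og_PSU33 (F : Type) [Field F] [Fintype F] (hF : Fintype.card F = 9) :
    OvergroupProp 2 (Cfsg.PSU 3 F 3) := by
  haveI : Fact (Nat.Prime 2) := ⟨Nat.prime_two⟩
  have hF' : Fintype.card F = 3 ^ 2 := by rw [hF]; norm_num
  obtain ⟨σ, hσq, hσ⟩ := exists_sigma hF'
  obtain ⟨fr, ω, hω⟩ := exists_frame_omega hF' σ hσq
  obtain ⟨D⟩ := exists_r1 hF σ hσq hσ
  haveI : Finite ↥(SUJ σ) := inferInstance
  let Ψ := Psi σ hσ hσq fr
  have hΨs : Function.Surjective Ψ := Psi_surjective σ hσ hσq fr (by norm_num)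
  have hΨi : Function.Injective Ψ := by
    intro k l h
    apply mat_injective
    rw [mat_of_Psi σ hσ hσq fr k, mat_of_Psi σ hσ hσq fr l, h]
  let π : ↥(SUJ σ) →* Cfsg.PSU 3 F 3 :=
    (QuotientGroup.mk' (Subgroup.center ↥(Cfsg.SU 3 F 3))).comp Ψ
  have hπs : Function.Surjective π := (QuotientGroup.mk'_surjective _).comp hΨs
  have hker : π.ker = ⊥ := by
    rw [eq_bot_iff, ← D.center_eq_bot]
    intro x hx
    rw [MonoidHom.mem_ker] at hx
    have h1 : Ψ x ∈ Subgroup.center ↥(Cfsg.SU 3 F 3) := by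
      have : (QuotientGroup.mk' (Subgroup.center ↥(Cfsg.SU 3 F 3))) (Ψ x) = 1 := hx
      exact (QuotientGroup.eq_one_iff _).mp this
    rw [Subgroup.mem_center_iff]
    intro y
    apply hΨi
    rw [map_mul, map_mul]
    exact Subgroup.mem_center_iff.mp h1 (Ψ y)
  apply OvergroupProp.of_surjective 2 π hπs _ D.overgroupProp
  rw [hker, Subgroup.card_bot]
  exact Nat.coprime_one_left 2

end Cfsg.Agent.Lib.H8.OGU33
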