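import Mathlib
import Cfsg.Agent.Lib.H13.OTDefs
import Cfsg.Agent.Lib.H8.Nilpotent

/-! S3999 piece P2 QCOUNT: in a Frobenius group with kernel `M`, for a prime `q ∣ |M|` the
elements of `q`-power order are exactly those of the (unique, normal) Sylow `q`-subgroup of `M`. -/

set_option autoImplicit false

namespace Cfsg.Agent.Lib.H8.OT
open Cfsg Cfsg.Agent.Lib.H13.OT
open scoped Pointwise

universe u v

theorem card_q_elements {X : Type u} [Group X] [Finite X] {Y M : Subgroup X} (h : FrobData Y M)
    (q : ℕ) [Fact q.Prime] (hq : q ∣ Nat.card M) :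
    Nat.card {x : X // ∃ j : ℕ, orderOf x = q ^ j} = q ^ (Nat.card X).factorization q := by
  classical
  have hqp : q.Prime := Fact.out
  have hqY : ¬ q ∣ Nat.card Y := by
    intro hqY
    have := Nat.dvd_gcd hq hqY
    rw [h.coprime] at this
    exact hqp.one_lt.ne' (Nat.dvd_one.1 this)
  obtain ⟨P, hPM, hPq, hPcard, hPall⟩ := Cfsg.Agent.Lib.H8.sylow_of_nilpotent M h.nilp q
  have hiff : ∀ x : X, (∃ j : ℕ, orderOf x = q ^ j) ↔ x ∈ P := by
    intro x
    constructor
    · rintro ⟨j, hj⟩
      have hpow : x ^ (q ^ j) = 1 := by rw [← hj]; exact pow_orderOf_eq_one x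
      have hxM : x ∈ M := by
        rcases h.cover x with hx | ⟨g, hx⟩
        · exact hx
        · rcases j with _ | j
          · have : x = 1 := by simpa using hpow
            rw [this]; exact one_mem _
          · exfalso
            have hdvd : orderOf x ∣ Nat.card Y := by
              have h1 : orderOf x ∣ Nat.card (MulAut.conj g • Y : Subgroup X) :=
                Subgroup.orderOf_dvd_natCard (MulAut.conj g • Y : Subgroup X) hx
              have h2 : Nat.card (MulAut.conj g • Y : Subgroup X) = Nat.card Y := by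
                exact (Nat.card_congr (Subgroup.equivSMul (MulAut.conj g) Y).toEquiv).symm
              rwa [h2] at h1
            apply hqY
            rw [hj] at hdvd
            exact dvd_trans (dvd_pow_self q (Nat.succ_ne_zero j)) hdvd
      exact hPall x hxM ⟨j, hpow⟩
    · intro hx
      obtain ⟨k, hk⟩ := hPq ⟨x, hx⟩
      have hk' : x ^ (q ^ k) = 1 := by
        have := congrArg Subtype.val hk
        simpa using this
      obtain ⟨j, -, hj⟩ := (Nat.dvd_prime_pow hqp).1 (orderOf_dvd_of_pow_eq_one hk')
      exact ⟨j, hj⟩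
  have hcard : Nat.card {x : X // ∃ j : ℕ, orderOf x = q ^ j} = Nat.card P :=
    Nat.card_congr (Equiv.subtypeEquivRight hiff)
  rw [hcard, hPcard, h.card_eq, Nat.factorization_mul Nat.card_pos.ne' Nat.card_pos.ne']
  congr 1
  simp [Nat.factorization_eq_zero_of_not_dvd hqY]

end Cfsg.Agent.Lib.H8.OT
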