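import Cfsg.Agent.Lib.H13.OTDefs

/-!
# S3999 piece P7 SOLV (helper8): a Frobenius group is solvable iff its complement is
-/

set_option autoImplicit false

namespace Cfsg.Agent.Lib.H8.OT
open Cfsg Cfsg.Agent.Lib.H13.OT
open scoped Pointwise

universe u v

/-- **P7 SOLV.** -/
theorem solvable_iff {X : Type u} [Group X] [Finite X] {Y M : Subgroup X} (h : FrobData Y M) :
    Group.IsSolvable X ↔ Group.IsSolvable Y := by
  constructor
  · intro hX
    infer_instance
  · intro hY
    have hn : M.Normal := h.normal
    have hM : Group.IsSolvable M := by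
      have := h.nilp
      infer_instance
    have e : X ⧸ M ≃* Y := h.isCompl.symm.QuotientMulEquiv
    have hQ : Group.IsSolvable (X ⧸ M) :=
      Group.isSolvable_of_isSolvable_injective (f := e.toMonoidHom) e.injective
    refine Group.isSolvable_of_ker_le_range M.subtype (QuotientGroup.mk' M) ?_
    rw [QuotientGroup.ker_mk', Subgroup.range_subtype]

end Cfsg.Agent.Lib.H8.OT
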