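/-
S4613 family piece `PSU` (helper8): rank one root data (`Lib/H8/BNRootData`): `G = B ∪ U e B` and `U ∩ e B e⁻¹ = 1`.
-/
import Cfsg.Agent.Lib.H8.BNRootData

set_option autoImplicit false
set_option linter.unusedSectionVars false
set_option linter.unusedVariables false

namespace Cfsg.Agent.Lib.H8.PAut

open Cfsg.Agent.Lib.H2 Cfsg.Agent.Lib.H2.BN Cfsg.Agent.Lib.H8.SpBN Cfsg.Agent.Lib.H8.BNRoot

variable {G : Type*} [Group G] {P : Cfsg.BNPair G} {ι : Type*}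

/-- rank one: every word is equivalent to `1` or to `e` -/
theorem eqv_one_or (D : RootData P ι) (i₀ : ι) (h1 : ∀ i, i = i₀) :
    ∀ l : List G, IsWord P.S l → Eqv P l.prod 1 ∨ Eqv P l.prod (D.e i₀) := by
  intro l
  induction l with
  | nil =>
    intro _
    left
    rw [List.prod_nil]
    exact Eqv.refl 1
  | cons s l ih =>
    intro hl
    obtain ⟨hs, hl'⟩ := hl.of_cons
    have hs' := hs
    rw [← D.hS] at hs'
    obtain ⟨i, rfl⟩ := hs'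
    rw [h1 i] at hs ⊢
    rw [List.prod_cons]
    rcases ih hl' with h | h
    · right
      have := h.mul_left (D.e i₀)
      rwa [mul_one] at this
    · left
      have h2 := h.mul_left (D.e i₀)
      apply h2.trans
      show (D.e i₀ * D.e i₀)⁻¹ * 1 ∈ P.B
      rw [mul_one]
      exact P.B.inv_mem (S_sq hs)

/-- **rank one Bruhat decomposition** `G = B ∪ U e B` -/
theorem rank_one_cover (D : RootData P ι) (i₀ : ι) (h1 : ∀ i, i = i₀) (g : G) :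
    g ∈ P.B ∨ ∃ u ∈ D.U, ∃ b ∈ P.B, g = u * D.e i₀ * b := by
  obtain ⟨n, hn, hgn⟩ := bruhat (P := P) g
  obtain ⟨l, hl, hln⟩ := exists_word hn
  have hs : D.e i₀ ∈ P.S := D.e_mem_S i₀
  rcases eqv_one_or D i₀ h1 l hl with h | h
  · left
    have h2 : Eqv P 1 n := h.symm.trans hln
    rw [← h2.C_eq] at hgn
    exact mem_C_one_iff.mp hgn
  · right
    have h2 : Eqv P (D.e i₀) n := h.symm.trans hln
    rw [← h2.C_eq, mem_C_iff] at hgn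
    obtain ⟨b₁, hb₁, b₂, hb₂, rfl⟩ := hgn
    obtain ⟨b', hb', x, hx, hbx, hconj⟩ := D.ha i₀ b₁⁻¹ (P.B.inv_mem hb₁)
    have hb1 : b₁ = x⁻¹ * b'⁻¹ := by
      have : b₁ = (b₁⁻¹)⁻¹ := (inv_inv b₁).symm
      rw [this, hbx]
      group
    have hee : D.e i₀ * D.e i₀ ∈ P.B := S_sq hs
    have h3 : (D.e i₀)⁻¹ * b'⁻¹ * D.e i₀ ∈ P.B := by
      have e : (D.e i₀)⁻¹ * b'⁻¹ * D.e i₀ =
          (D.e i₀ * D.e i₀)⁻¹ * (D.e i₀ * b' * (D.e i₀)⁻¹)⁻¹ * (D.e i₀ * D.e i₀) := by group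
      rw [e]
      exact P.B.mul_mem (P.B.mul_mem (P.B.inv_mem hee) (P.B.inv_mem hconj)) hee
    refine ⟨x⁻¹, D.U.inv_mem (D.hXU i₀ hx), (D.e i₀)⁻¹ * b'⁻¹ * D.e i₀ * b₂, P.B.mul_mem h3 hb₂, ?_⟩
    rw [hb1]
    group

/-- rank one: `e⁻¹ Y e ⊆ B` -/
theorem rank_one_Y (D : RootData P ι) (i₀ : ι) (h1 : ∀ i, i = i₀) :
    ∀ i, ∀ y ∈ D.Y i, (D.e i₀)⁻¹ * y * D.e i₀ ∈ P.B := by
  intro i
  rw [h1 i]
  have hs : D.e i₀ ∈ P.S := D.e_mem_S i₀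
  have hn : D.e i₀ ∈ P.N := S_mem_N hs
  rcases D.hc i₀ (D.e i₀) hn with h | h
  · exfalso
    have h2 := len_smul_of_root (P := P) hs hn (D.X i₀) (D.ha i₀) h
    rw [len_of_mem_B (S_sq hs)] at h2
    omega
  · exact h

/-- **rank one**: `U ∩ e B e⁻¹ = 1` -/
theorem rank_one_reg (D : RootData P ι) (i₀ : ι) (h1 : ∀ i, i = i₀) (u : G) (hu : u ∈ D.U)
    (h : (D.e i₀)⁻¹ * u * D.e i₀ ∈ P.B) : u = 1 := by
  have hs : D.e i₀ ∈ P.S := D.e_mem_S i₀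
  have hn : D.e i₀ ∈ P.N := S_mem_N hs
  have hT := D.hopp (D.e i₀) hn (rank_one_Y D i₀ h1) u (D.hUB hu) h
  exact D.hTU u hT hu

end Cfsg.Agent.Lib.H8.PAut
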