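/-
S4613 (architect helper19), generic tools used by helper8's family piece `PSU` (Mathlib only).

`α` is an automorphism with `α ^ k = 1`.
* `gen_fix` (GEN): if `α` fixes the subgroup `Q` pointwise, `Q` has no non-trivial element of order dividing `k`, and
  `C_G(Q) ≤ Q`, then `α` fixes every `x` with `x Q x⁻¹ ⊆ Q`.
* `mem_map_of_commute` (LIFT): the centraliser of the image of `Q` in `G / Z(G)`.
* `r1_fix` (R1): the rank one argument: `G = B ∪ U w B`, `U ∩ w B w⁻¹ = 1`, `α` trivial on `B`, `core B = 1` give `α = 1`.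
* `eq_one_of_forall_closure`, `sylow_reduce`, `Good`, `Good.of_mulEquiv`.
-/
import Mathlib

set_option autoImplicit false

namespace Cfsg.Agent.Lib.H8.PAut

variable {G : Type*} [Group G]

theorem pow_apply_of_fix (α : MulAut G) {z : G} (hz : α z = z) (j : ℕ) : α (z ^ j) = z ^ j := by
  rw [map_pow, hz]

/-- `(α ^ j) x = x * z ^ j` if `α x = x * z` and `α z = z` -/
theorem pow_apply_mul (α : MulAut G) {x z : G} (hx : α x = x * z) (hz : α z = z) (j : ℕ) :
    (α ^ j) x = x * z ^ j := by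
  induction j with
  | zero => simp
  | succ j ih =>
    rw [pow_succ', MulAut.mul_apply, ih, map_mul, hx, pow_apply_of_fix α hz, mul_assoc, ← pow_succ']

/-- **GEN** -/
theorem gen_fix (α : MulAut G) (k : ℕ) (hk : α ^ k = 1) (Q : Subgroup G)
    (hfix : ∀ q ∈ Q, α q = q) (hQ : ∀ q ∈ Q, q ^ k = 1 → q = 1)
    (hC : ∀ z : G, (∀ q ∈ Q, z * q = q * z) → z ∈ Q)
    (x : G) (hx : ∀ q ∈ Q, x * q * x⁻¹ ∈ Q) : α x = x := by
  set z : G := x⁻¹ * α x with hzdef
  have hzQ : z ∈ Q := by
    apply hC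
    intro q hq
    have h1 : α (x * q * x⁻¹) = x * q * x⁻¹ := hfix _ (hx q hq)
    rw [map_mul, map_mul, map_inv, hfix q hq] at h1
    -- `α x * q * (α x)⁻¹ = x * q * x⁻¹`
    have h2 : α x * q = x * q * x⁻¹ * α x := by
      rw [← h1]; group
    calc z * q = x⁻¹ * (α x * q) := by rw [hzdef]; group
      _ = x⁻¹ * (x * q * x⁻¹ * α x) := by rw [h2]
      _ = q * z := by rw [hzdef]; group
  have hxz : α x = x * z := by rw [hzdef]; group
  have h3 := pow_apply_mul α hxz (hfix z hzQ) k
  rw [hk, MulAut.one_apply] at h3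
  have h4 : z ^ k = 1 := by
    have : x * 1 = x * z ^ k := by rw [mul_one]; exact h3
    exact (mul_left_cancel this).symm
  have h5 : z = 1 := hQ z hzQ h4
  rw [hxz, h5, mul_one]

/-- a `p`-element of order dividing a number prime to `p` is trivial -/
theorem eq_one_of_pow_eq_one_of_coprime {p k : ℕ} (hpk : Nat.Coprime p k) {q : G} (a : ℕ)
    (h1 : q ^ (p ^ a) = 1) (h2 : q ^ k = 1) : q = 1 := by
  have hd1 := orderOf_dvd_of_pow_eq_one h1
  have hd2 := orderOf_dvd_of_pow_eq_one h2
  have hc : Nat.Coprime (p ^ a) k := Nat.Coprime.pow_left a hpk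
  have : orderOf q = 1 := Nat.eq_one_of_dvd_coprimes hc hd1 hd2
  exact orderOf_eq_one_iff.mp this

/-- **LIFT**: the centraliser of the image of `Q` in `G / Z(G)` -/
theorem mem_map_of_commute (p : ℕ) (Q : Subgroup G)
    (hQp : ∀ q ∈ Q, ∃ a : ℕ, q ^ (p ^ a) = 1)
    (hZ : ∀ z ∈ Subgroup.center G, ∀ a : ℕ, z ^ (p ^ a) = 1 → z = 1)
    (hC : ∀ g : G, (∀ q ∈ Q, g * q = q * g) → ∃ z ∈ Subgroup.center G, ∃ u ∈ Q, g = z * u)
    (y : G ⧸ Subgroup.center G)
    (hy : ∀ q ∈ Q, y * (QuotientGroup.mk' (Subgroup.center G) q) = QuotientGroup.mk' (Subgroup.center G) q * y) :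
    y ∈ Q.map (QuotientGroup.mk' (Subgroup.center G)) := by
  obtain ⟨g, rfl⟩ := QuotientGroup.mk'_surjective (Subgroup.center G) y
  have hcomm : ∀ q ∈ Q, g * q = q * g := by
    intro q hq
    have h1 := hy q hq
    rw [← map_mul, ← map_mul, QuotientGroup.mk'_apply, QuotientGroup.mk'_apply, QuotientGroup.eq] at h1
    -- `c = (g q)⁻¹ (q g)` is central
    set c : G := (g * q)⁻¹ * (q * g) with hc
    have hcc : ∀ x : G, x * c = c * x := fun x => Subgroup.mem_center_iff.mp h1 x
    have hqg : q * g = g * q * c := by rw [hc]; group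
    have hpow : ∀ m : ℕ, q ^ m * g = g * q ^ m * c ^ m := by
      intro m
      induction m with
      | zero => simp
      | succ m ih =>
        calc q ^ (m + 1) * g = q ^ m * (q * g) := by rw [pow_succ]; group
          _ = q ^ m * (g * q * c) := by rw [hqg]
          _ = (q ^ m * g) * q * c := by group
          _ = (g * q ^ m * c ^ m) * q * c := by rw [ih]
          _ = g * q ^ m * (c ^ m * q) * c := by group
          _ = g * q ^ m * (q * c ^ m) * c := by
              have : c ^ m * q = q * c ^ m := by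
                have hcm : c ^ m ∈ Subgroup.center G := Subgroup.pow_mem _ h1 m
                exact (Subgroup.mem_center_iff.mp hcm q).symm
              rw [this]
          _ = g * q ^ (m + 1) * c ^ (m + 1) := by rw [pow_succ, pow_succ]; group
    obtain ⟨a, ha⟩ := hQp q hq
    have h2 := hpow (p ^ a)
    rw [ha, one_mul, mul_one] at h2
    have h3 : c ^ (p ^ a) = 1 := by
      have : g * 1 = g * c ^ (p ^ a) := by rw [mul_one]; exact h2
      exact (mul_left_cancel this).symm
    have h4 : c = 1 := hZ c h1 a h3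
    rw [hqg, h4, mul_one]
  obtain ⟨z, hz, u, hu, rfl⟩ := hC g hcomm
  refine ⟨u, hu, ?_⟩
  rw [QuotientGroup.mk'_apply, QuotientGroup.mk'_apply, QuotientGroup.eq]
  have : u⁻¹ * (z * u) = z := by
    rw [← Subgroup.mem_center_iff.mp hz u]; group
  rw [this]
  exact hz

/-- an automorphism fixing a generating set is trivial -/
theorem eq_one_of_forall_closure (α : MulAut G) (S : Set G) (hS : Subgroup.closure S = ⊤)
    (h : ∀ s ∈ S, α s = s) : α = 1 := by
  have key : ∀ x ∈ Subgroup.closure S, α x = x := by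
    intro x hx
    induction hx using Subgroup.closure_induction with
    | mem x hx => exact h x hx
    | one => exact map_one α
    | mul x y _ _ hx hy => rw [map_mul, hx, hy]
    | inv x _ hx => rw [map_inv, hx]
  ext x
  rw [MulAut.one_apply]
  exact key x (by rw [hS]; trivial)

/-- the fixed points of `α`, as a subgroup -/
def fixSubgroup (α : MulAut G) : Subgroup G where
  carrier := {x | α x = x}
  one_mem' := map_one α
  mul_mem' := fun {a b} ha hb => by
    show α (a * b) = a * b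
    rw [map_mul, ha, hb]
  inv_mem' := fun {a} ha => by
    show α a⁻¹ = a⁻¹
    rw [map_inv, ha]

theorem mem_fixSubgroup (α : MulAut G) (x : G) : x ∈ fixSubgroup α ↔ α x = x := Iff.rfl

theorem eq_one_of_fixSubgroup_eq_top (α : MulAut G) (h : fixSubgroup α = ⊤) : α = 1 := by
  ext x
  rw [MulAut.one_apply]
  have : x ∈ fixSubgroup α := by rw [h]; trivial
  exact this

/-- **R1**: the rank one argument -/
theorem r1_fix (α : MulAut G) (k : ℕ) (hk : α ^ k = 1) (B U : Subgroup G) (w : G)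
    (hBfix : ∀ b ∈ B, α b = b) (hUB : U ≤ B)
    (hU : ∀ u ∈ U, u ^ k = 1 → u = 1)
    (hcover : ∀ g : G, g ∈ B ∨ ∃ u ∈ U, ∃ b ∈ B, g = u * w * b)
    (hreg : ∀ u ∈ U, w⁻¹ * u * w ∈ B → u = 1)
    (hcore : ∀ c : G, (∀ g : G, g⁻¹ * c * g ∈ B) → c = 1) : α = 1 := by
  -- `α w = w b₀`
  have hw : ∃ b₀ ∈ B, α w = w * b₀ := by
    rcases hcover (α w) with h | ⟨u₀, hu₀, b₀, hb₀, h⟩
    · -- then `w ∈ B`
      have h1 : α (α w) = α w := hBfix _ h
      have h2 : α w = w := α.injective h1
      exact ⟨1, B.one_mem, by rw [h2, mul_one]⟩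
    · have hfu : α u₀ = u₀ := hBfix _ (hUB hu₀)
      have hfb : α b₀ = b₀ := hBfix _ hb₀
      have hpow : ∀ j : ℕ, (α ^ j) w = u₀ ^ j * w * b₀ ^ j := by
        intro j
        induction j with
        | zero => simp
        | succ j ih =>
          rw [pow_succ', MulAut.mul_apply, ih, map_mul, map_mul, h, pow_apply_of_fix α hfu,
            pow_apply_of_fix α hfb, pow_succ, pow_succ']
          group
      have h1 := hpow k
      rw [hk, MulAut.one_apply] at h1
      have h2 : w⁻¹ * u₀ ^ k * w = (b₀ ^ k)⁻¹ := by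
        have : w⁻¹ * u₀ ^ k * w = w⁻¹ * (u₀ ^ k * w * b₀ ^ k) * (b₀ ^ k)⁻¹ := by group
        rw [this, ← h1]; group
      have h3 : u₀ ^ k = 1 := by
        apply hreg _ (U.pow_mem hu₀ k)
        rw [h2]
        exact B.inv_mem (B.pow_mem hb₀ k)
      have h4 : u₀ = 1 := hU u₀ hu₀ h3
      exact ⟨b₀, hb₀, by rw [h, h4, one_mul]⟩
  obtain ⟨b₀, hb₀, hwb⟩ := hw
  have hc : ∀ g : G, g⁻¹ * α g ∈ B := by
    intro g
    rcases hcover g with h | ⟨u, hu, b, hb, rfl⟩
    · rw [hBfix g h, inv_mul_cancel]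
      exact B.one_mem
    · rw [map_mul, map_mul, hBfix u (hUB hu), hBfix b hb, hwb]
      have : (u * w * b)⁻¹ * (u * (w * b₀) * b) = b⁻¹ * b₀ * b := by group
      rw [this]
      exact B.mul_mem (B.mul_mem (B.inv_mem hb) hb₀) hb
  ext h
  rw [MulAut.one_apply]
  have h1 : h⁻¹ * α h = 1 := by
    apply hcore
    intro g
    have e : g⁻¹ * (h⁻¹ * α h) * g = ((h * g)⁻¹ * α (h * g)) * (g⁻¹ * α g)⁻¹ := by
      rw [map_mul]; group
    rw [e]
    exact B.mul_mem (hc _) (B.inv_mem (hc _))
  exact (inv_mul_eq_one.mp h1).symm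

/-! ### the statement for a group, Sylow reduction, transport -/

/-- the conclusion of S4613 for the group `E` -/
def Good (p : ℕ) (E : Type*) [Group E] : Prop :=
  ∀ α : MulAut E, ¬ p ∣ orderOf α → ∀ U : Sylow p E, (∀ x ∈ (U : Subgroup E), α x = x) → α = 1

/-- it suffices to treat one `p`-subgroup `P` (not necessarily a Sylow subgroup) -/
theorem good_of_subgroup [Finite G] (p : ℕ) [Fact p.Prime] (P : Subgroup G) (hP : IsPGroup p P)
    (main : ∀ α : MulAut G, ¬ p ∣ orderOf α → (∀ x ∈ P, α x = x) → α = 1) : Good p G := by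
  intro α hα U hfix
  obtain ⟨Q, hQ⟩ := hP.exists_le_sylow
  obtain ⟨g, hg⟩ := MulAction.exists_smul_eq G U Q
  -- `Q = g U g⁻¹`
  have hmem : ∀ x ∈ P, g⁻¹ * x * g ∈ (U : Subgroup G) := by
    intro x hx
    have h1 : x ∈ (Q : Subgroup G) := hQ hx
    rw [← hg, Sylow.coe_subgroup_smul, Subgroup.mem_pointwise_smul_iff_inv_smul_mem] at h1
    have e : (MulAut.conj g)⁻¹ • x = g⁻¹ * x * g := by
      rw [MulAut.smul_def, MulAut.conj_inv_apply]
    rw [e] at h1
    exact h1
  set β : MulAut G := MulAut.conj g * α * (MulAut.conj g)⁻¹ with hβ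
  have hβpow : ∀ m : ℕ, β ^ m = MulAut.conj g * α ^ m * (MulAut.conj g)⁻¹ := by
    intro m
    rw [hβ, conj_pow]
  have hβord : ¬ p ∣ orderOf β := by
    intro h
    apply hα
    apply h.trans
    apply orderOf_dvd_of_pow_eq_one
    rw [hβpow, pow_orderOf_eq_one, mul_one, mul_inv_cancel]
  have hβfix : ∀ x ∈ P, β x = x := by
    intro x hx
    rw [hβ, MulAut.mul_apply, MulAut.mul_apply, ← map_inv, MulAut.conj_apply, MulAut.conj_apply, inv_inv,
      hfix _ (hmem x hx)]
    group
  have h1 := main β hβord hβfix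
  rw [hβ] at h1
  have h2 : α = (MulAut.conj g)⁻¹ * (MulAut.conj g * α * (MulAut.conj g)⁻¹) * MulAut.conj g := by group
  rw [h2, h1]
  group

/-- transport of `Good` along an isomorphism -/
theorem Good.of_mulEquiv {E₁ E₂ : Type*} [Group E₁] [Group E₂] (e : E₁ ≃* E₂) (p : ℕ) [Fact p.Prime]
    (h : Good p E₁) : Good p E₂ := by
  intro α hα U hfix
  -- `β = e⁻¹ α e`
  set β : MulAut E₁ := (e.trans α).trans e.symm with hβ
  have hβapp : ∀ x, β x = e.symm (α (e x)) := fun x => rfl
  have hβpow : ∀ m : ℕ, ∀ x, (β ^ m) x = e.symm ((α ^ m) (e x)) := by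
    intro m
    induction m with
    | zero => intro x; simp
    | succ m ih =>
      intro x
      rw [pow_succ', MulAut.mul_apply, ih, hβapp, MulEquiv.apply_symm_apply, pow_succ', MulAut.mul_apply]
  have hβord : ¬ p ∣ orderOf β := by
    intro hd
    apply hα
    apply hd.trans
    apply orderOf_dvd_of_pow_eq_one
    ext x
    rw [hβpow, pow_orderOf_eq_one, MulAut.one_apply, MulAut.one_apply, MulEquiv.symm_apply_apply]
  let V : Sylow p E₁ := U.comapOfInjective e.toMonoidHom e.injective (by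
    intro x _
    exact ⟨e.symm x, e.apply_symm_apply x⟩)
  have hV : ∀ x : E₁, x ∈ (V : Subgroup E₁) ↔ e x ∈ (U : Subgroup E₂) := by
    intro x
    show x ∈ ((U : Subgroup E₂).comap e.toMonoidHom) ↔ _
    rw [Subgroup.mem_comap]
    rfl
  have hβfix : ∀ x ∈ (V : Subgroup E₁), β x = x := by
    intro x hx
    rw [hβapp, hfix _ ((hV x).mp hx), MulEquiv.symm_apply_apply]
  have h1 := h β hβord V hβfix
  ext y
  rw [MulAut.one_apply]
  have h2 := hβapp (e.symm y)
  rw [h1, MulAut.one_apply, MulEquiv.apply_symm_apply] at h2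
  have := congrArg e h2
  rw [MulEquiv.apply_symm_apply, MulEquiv.apply_symm_apply] at this
  exact this.symm

end Cfsg.Agent.Lib.H8.PAut
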