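/-
S4613 family piece `PSU` (helper8), part a: matrices commuting with the root matrices of the unipotent radicals.

`rootN φ a j t = t E_{a,j} - φ(t) E_{j', a'}` (`'` = `Fin.rev`).  A matrix commuting with `E_{a,a'}` and with all `rootN φ a j t`
(`j ≠ a, a'`) is `λ + μ E_{a,a'}` (`cent_shape1`); if only `j ≠ a, b, a'` is available but the matrix also commutes with
`E_{b,b'}`, it is `λ +` entries at `{a,b} × {a',b'}` (`cent_shape2`).
-/
import Mathlib

set_option autoImplicit false

namespace Cfsg.Agent.Lib.H8.PAut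

open Matrix

variable {F : Type*} [Field F] {n : ℕ}

theorem mul_single_ite (M : Matrix (Fin n) (Fin n) F) (a b : Fin n) (t : F) (i k : Fin n) :
    (M * Matrix.single a b t) i k = if k = b then M i a * t else 0 := by
  by_cases h : k = b
  · subst h
    rw [if_pos rfl, Matrix.mul_single_apply_same]
  · rw [if_neg h, Matrix.mul_single_apply_of_ne _ _ _ _ _ h]

theorem single_mul_ite (M : Matrix (Fin n) (Fin n) F) (a b : Fin n) (t : F) (i k : Fin n) :
    (Matrix.single a b t * M) i k = if i = a then t * M b k else 0 := by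
  by_cases h : i = a
  · subst h
    rw [if_pos rfl, Matrix.single_mul_apply_same]
  · rw [if_neg h, Matrix.single_mul_apply_of_ne _ _ _ _ _ h]

/-- commuting with `E_{a,l}` -/
theorem cent_long (g : Matrix (Fin n) (Fin n) F) (a l : Fin n)
    (hL : g * Matrix.single a l 1 = Matrix.single a l 1 * g) :
    (∀ i, i ≠ a → g i a = 0) ∧ (∀ k, k ≠ l → g l k = 0) ∧ g a a = g l l := by
  have key : ∀ i k, (if k = l then g i a * 1 else 0) = (if i = a then 1 * g l k else 0) := by
    intro i k
    rw [← mul_single_ite, ← single_mul_ite, hL]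
  refine ⟨?_, ?_, ?_⟩
  · intro i hi
    have := key i l
    rw [if_pos rfl, if_neg hi, mul_one] at this
    exact this
  · intro k hk
    have := key a k
    rw [if_neg hk, if_pos rfl, one_mul] at this
    exact this.symm
  · have := key a l
    rw [if_pos rfl, if_pos rfl, mul_one, one_mul] at this
    exact this

/-- the matrix `t E_{a,j} - φ(t) E_{j', a'}` -/
def rootN (φ : F →+* F) (a j : Fin n) (t : F) : Matrix (Fin n) (Fin n) F :=
  Matrix.single a j t - Matrix.single j.rev a.rev (φ t)

/-- commuting with all `rootN φ a j t` -/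
theorem cent_short (φ : F →+* F) (g : Matrix (Fin n) (Fin n) F) (a j : Fin n)
    (_hja : j ≠ a) (hjl : j ≠ a.rev)
    (hS : ∀ t, g * rootN φ a j t = rootN φ a j t * g)
    (t₀ : F) (ht₀ : φ t₀ ≠ t₀) :
    g j j = g a a ∧ (∀ k, k ≠ j → k ≠ a.rev → g j k = 0) ∧ (∀ i, i ≠ a → i ≠ j.rev → g i j.rev = 0) ∧
      g a j.rev = 0 ∧ g j a.rev = 0 := by
  have hj'a : a ≠ j.rev := by
    intro h
    apply hjl
    rw [h, Fin.rev_rev]
  have hj'l : a.rev ≠ j := fun h => hjl h.symm
  have key : ∀ t i k, ((if k = j then g i a * t else 0) - (if k = a.rev then g i j.rev * φ t else 0)) =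
      ((if i = a then t * g j k else 0) - (if i = j.rev then φ t * g a.rev k else 0)) := by
    intro t i k
    have h := congrFun (congrFun (hS t) i) k
    unfold rootN at h
    rw [Matrix.mul_sub, Matrix.sub_mul, Matrix.sub_apply, Matrix.sub_apply, mul_single_ite, mul_single_ite,
      single_mul_ite, single_mul_ite] at h
    exact h
  have h1 : g j j = g a a := by
    have := key 1 a j
    rw [if_pos rfl, if_neg hj'l.symm, if_pos rfl, if_neg hj'a, mul_one, one_mul, sub_zero, sub_zero] at this
    exact this.symm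
  have h2 : ∀ k, k ≠ j → k ≠ a.rev → g j k = 0 := by
    intro k hkj hkl
    have := key 1 a k
    rw [if_neg hkj, if_neg hkl, if_pos rfl, if_neg hj'a, one_mul, sub_zero, sub_zero] at this
    exact this.symm
  have h3 : ∀ i, i ≠ a → i ≠ j.rev → g i j.rev = 0 := by
    intro i hia hij
    have := key 1 i a.rev
    rw [if_neg hj'l, if_pos rfl, if_neg hia, if_neg hij, map_one, mul_one, sub_zero, zero_sub, neg_eq_zero] at this
    exact this
  have h4 : ∀ t, -(g a j.rev * φ t) = t * g j a.rev := by
    intro t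
    have := key t a a.rev
    rw [if_neg hj'l, if_pos rfl, if_pos rfl, if_neg hj'a, zero_sub, sub_zero] at this
    exact this
  have h5 : g j a.rev = -g a j.rev := by
    have := h4 1
    rw [map_one, mul_one, one_mul] at this
    exact this.symm
  have h6 : g a j.rev = 0 := by
    have h7 := h4 t₀
    rw [h5] at h7
    have h8 : g a j.rev * (t₀ - φ t₀) = 0 := by
      have : g a j.rev * (t₀ - φ t₀) = -(g a j.rev * φ t₀) - t₀ * -g a j.rev := by ring
      rw [this, h7]; ring
    rcases mul_eq_zero.mp h8 with h | h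
    · exact h
    · exact absurd (sub_eq_zero.mp h).symm ht₀
  refine ⟨h1, h2, h3, h6, ?_⟩
  rw [h5, h6, neg_zero]

/-- **the centraliser of the radical of the stabiliser of the isotropic point `e_a`** -/
theorem cent_shape1 (φ : F →+* F) (g : Matrix (Fin n) (Fin n) F) (a : Fin n)
    (hL : g * Matrix.single a a.rev 1 = Matrix.single a a.rev 1 * g)
    (hS : ∀ j, j ≠ a → j ≠ a.rev → ∀ t, g * rootN φ a j t = rootN φ a j t * g)
    (t₀ : F) (ht₀ : φ t₀ ≠ t₀) :
    (∀ i, g i i = g a a) ∧ ∀ i k, i ≠ k → ¬ (i = a ∧ k = a.rev) → g i k = 0 := by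
  obtain ⟨hcol, hrow, hdiag⟩ := cent_long g a a.rev hL
  have hB := fun j hja hjl => cent_short φ g a j hja hjl (hS j hja hjl) t₀ ht₀
  constructor
  · intro i
    by_cases hia : i = a
    · rw [hia]
    by_cases hil : i = a.rev
    · rw [hil, hdiag]
    exact (hB i hia hil).1
  · intro i k hik hex
    by_cases hka : k = a
    · rw [hka]
      exact hcol i (fun h => hik (h.trans hka.symm))
    by_cases hkl : k = a.rev
    · have hia : i ≠ a := fun h => hex ⟨h, hkl⟩
      have hil : i ≠ a.rev := fun h => hik (h.trans hkl.symm)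
      rw [hkl]
      exact (hB i hia hil).2.2.2.2
    · -- `k = j.rev` with `j = k.rev`
      have hja : k.rev ≠ a := by
        intro h
        apply hkl
        rw [← h, Fin.rev_rev]
      have hjl : k.rev ≠ a.rev := fun h => hka (Fin.rev_injective h)
      obtain ⟨-, -, h3, h4, -⟩ := hB k.rev hja hjl
      rw [Fin.rev_rev] at h3 h4
      by_cases hia : i = a
      · rw [hia]; exact h4
      · exact h3 i hia hik

/-- **the centraliser of the radical of the minimal parabolic subgroup of the first node** -/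
theorem cent_shape2 (φ : F →+* F) (g : Matrix (Fin n) (Fin n) F) (a b : Fin n)
    (hab : a ≠ b) (hab' : a ≠ b.rev) (hbb : b ≠ b.rev)
    (hLa : g * Matrix.single a a.rev 1 = Matrix.single a a.rev 1 * g)
    (hLb : g * Matrix.single b b.rev 1 = Matrix.single b b.rev 1 * g)
    (hS : ∀ j, j ≠ a → j ≠ b → j ≠ a.rev → ∀ t, g * rootN φ a j t = rootN φ a j t * g)
    (t₀ : F) (ht₀ : φ t₀ ≠ t₀) :
    (∀ i, g i i = g a a) ∧
      ∀ i k, i ≠ k → ¬ ((i = a ∨ i = b) ∧ (k = a.rev ∨ k = b.rev)) → g i k = 0 := by
  obtain ⟨hcola, hrowa, hdiaga⟩ := cent_long g a a.rev hLa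
  obtain ⟨hcolb, hrowb, hdiagb⟩ := cent_long g b b.rev hLb
  have hB := fun j hja hjb hjl => cent_short φ g a j hja hjl (hS j hja hjb hjl) t₀ ht₀
  have hb'a : b.rev ≠ a := fun h => hab' h.symm
  have hb'b : b.rev ≠ b := fun h => hbb h.symm
  have hb'a' : b.rev ≠ a.rev := fun h => hab (Fin.rev_injective h).symm
  have ha'b : a.rev ≠ b := by
    intro h
    apply hab'
    rw [← h, Fin.rev_rev]
  constructor
  · intro i
    by_cases hia : i = a
    · rw [hia]
    by_cases hil : i = a.rev
    · rw [hil, hdiaga]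
    by_cases hib : i = b
    · rw [hib, hdiagb]
      exact (hB b.rev hb'a hb'b hb'a').1
    exact (hB i hia hib hil).1
  · intro i k hik hex
    by_cases hka : k = a
    · rw [hka]
      exact hcola i (fun h => hik (h.trans hka.symm))
    by_cases hkb : k = b
    · rw [hkb]
      exact hcolb i (fun h => hik (h.trans hkb.symm))
    by_cases hkl : k = a.rev
    · have hia : i ≠ a := fun h => hex ⟨Or.inl h, Or.inl hkl⟩
      have hib : i ≠ b := fun h => hex ⟨Or.inr h, Or.inl hkl⟩
      have hil : i ≠ a.rev := fun h => hik (h.trans hkl.symm)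
      rw [hkl]
      exact (hB i hia hib hil).2.2.2.2
    by_cases hkl' : k = b.rev
    · have hia : i ≠ a := fun h => hex ⟨Or.inl h, Or.inr hkl'⟩
      have hib : i ≠ b := fun h => hex ⟨Or.inr h, Or.inr hkl'⟩
      by_cases hil : i = a.rev
      · rw [hil]
        exact hrowa k hkl
      · exact (hB i hia hib hil).2.1 k (fun h => hik h.symm) hkl
    · have hja : k.rev ≠ a := by
        intro h
        apply hkl
        rw [← h, Fin.rev_rev]
      have hjb : k.rev ≠ b := by
        intro h
        apply hkl'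
        rw [← h, Fin.rev_rev]
      have hjl : k.rev ≠ a.rev := fun h => hka (Fin.rev_injective h)
      obtain ⟨-, -, h3, h4, -⟩ := hB k.rev hja hjb hjl
      rw [Fin.rev_rev] at h3 h4
      by_cases hia : i = a
      · rw [hia]; exact h4
      · exact h3 i hia hik

end Cfsg.Agent.Lib.H8.PAut
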