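/-
S4613 family piece `PSU` (helper8), part b: "shape" subgroups `S.Q φ` of the flag form group `GS φ` (matrices `1 + A` with `A`
supported on a transitive, `rev`-symmetric set of positions above the diagonal), their normalisers (`Bs`, the reflections
`sRef φ j` preserving the shape), the root elements in them and the scalar decomposition of centralising elements.
-/
import Cfsg.Agent.Lib.H8.PAutPSUa
import Cfsg.Agent.Lib.H8.FBNRefl
import Cfsg.Agent.Lib.H28.FBNROOT

set_option autoImplicit false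
set_option linter.unusedSectionVars false
set_option linter.unusedVariables false

namespace Cfsg.Agent.Lib.H8.PAut

open Matrix Cfsg.Agent.Lib.H12.DCos Cfsg.Agent.Lib.H8.FBN

variable {F : Type*} [Field F] {n : ℕ}

/-- a shape: a set of positions above the diagonal, transitive and symmetric under `(i,k) ↦ (k', i')` -/
structure Shape (n : ℕ) where
  fr : Fin n → Fin n → Prop
  lt : ∀ i k, fr i k → i < k
  trans : ∀ i m k, fr i m → fr m k → fr i k
  rev : ∀ i k, fr i k → fr k.rev i.rev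

namespace Shape

variable (S : Shape n) (φ : F →+* F)

theorem not_fr_of_rev {i k : Fin n} (h : ¬ S.fr i k) : ¬ S.fr k.rev i.rev := by
  intro h'
  apply h
  have := S.rev _ _ h'
  rwa [Fin.rev_rev, Fin.rev_rev] at this

/-- the subgroup of `GS φ` of the matrices `1 + A`, `A` supported on the shape -/
def Q : Subgroup ↥(GS (n := n) φ) where
  carrier := {u | ∀ i k, ¬ S.fr i k → (u.1 : Matrix (Fin n) (Fin n) F) i k = (1 : Matrix (Fin n) (Fin n) F) i k}
  one_mem' := fun i k _ => by rw [val_one]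
  mul_mem' := by
    intro u v hu hv i k hik
    rw [val_mul]
    have e : (u.1 : Matrix (Fin n) (Fin n) F) * (v.1 : Matrix (Fin n) (Fin n) F) =
        1 + ((u.1 : Matrix (Fin n) (Fin n) F) - 1) + ((v.1 : Matrix (Fin n) (Fin n) F) - 1) +
          ((u.1 : Matrix (Fin n) (Fin n) F) - 1) * ((v.1 : Matrix (Fin n) (Fin n) F) - 1) := by
      noncomm_ring
    rw [e, Matrix.add_apply, Matrix.add_apply, Matrix.add_apply, Matrix.sub_apply, Matrix.sub_apply, hu i k hik,
      hv i k hik, sub_self, add_zero, add_zero, Matrix.mul_apply]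
    rw [Finset.sum_eq_zero, add_zero]
    intro m _
    by_cases h1 : S.fr i m
    · by_cases h2 : S.fr m k
      · exact absurd (S.trans _ _ _ h1 h2) hik
      · rw [Matrix.sub_apply, Matrix.sub_apply, hv m k h2, sub_self, mul_zero]
    · rw [Matrix.sub_apply, hu i m h1, sub_self, zero_mul]
  inv_mem' := by
    intro u hu i k hik
    rw [inv_apply, hu _ _ (S.not_fr_of_rev hik), Matrix.one_apply, Matrix.one_apply]
    by_cases h : i = k
    · subst h
      rw [if_pos rfl, if_pos rfl, map_one]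
    · rw [if_neg h, if_neg (fun h' => h (Fin.rev_injective h').symm), map_zero]

theorem mem_Q {u : ↥(GS (n := n) φ)} : u ∈ S.Q φ ↔
    ∀ i k, ¬ S.fr i k → (u.1 : Matrix (Fin n) (Fin n) F) i k = (1 : Matrix (Fin n) (Fin n) F) i k := Iff.rfl

theorem Q_le_Us : S.Q φ ≤ Us φ := by
  intro u hu
  refine ⟨fun k l hkl => ?_, fun k => ?_⟩
  · rw [hu k l (fun h => absurd (S.lt _ _ h) (not_lt.mpr hkl.le)), Matrix.one_apply_ne (ne_of_gt hkl)]
  · rw [hu k k (fun h => absurd (S.lt _ _ h) (lt_irrefl _)), Matrix.one_apply_eq]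

/-- an element whose matrix is `1 + A`, `A` supported on the shape -/
theorem mem_Q_of_eq (u : ↥(GS (n := n) φ)) (A : Matrix (Fin n) (Fin n) F)
    (hA : ∀ i k, ¬ S.fr i k → A i k = 0) (hu : (u.1 : Matrix (Fin n) (Fin n) F) = 1 + A) : u ∈ S.Q φ := by
  intro i k hik
  rw [hu, Matrix.add_apply, hA i k hik, add_zero]

/-- ideal shapes: closed under decreasing the row and increasing the column -/
def Ideal : Prop := ∀ i m r k : Fin n, i ≤ m → S.fr m r → r ≤ k → S.fr i k

/-- ideal shapes are normalised by the Borel subgroup -/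
theorem conj_mem_of_mem_Bs (hI : S.Ideal) (b u : ↥(GS (n := n) φ)) (hb : b ∈ Bs φ) (hu : u ∈ S.Q φ) :
    b * u * b⁻¹ ∈ S.Q φ := by
  intro i k hik
  have hb1 : IsUp (b.1 : Matrix (Fin n) (Fin n) F) := mem_Bs.mp hb
  have hb' : IsUp ((b⁻¹ : ↥(GS (n := n) φ)).1 : Matrix (Fin n) (Fin n) F) := mem_Bs.mp ((Bs φ).inv_mem hb)
  have hbb : (b.1 : Matrix (Fin n) (Fin n) F) * ((b⁻¹ : ↥(GS (n := n) φ)).1 : Matrix (Fin n) (Fin n) F) = 1 := by
    rw [← val_mul, mul_inv_cancel, val_one]
  rw [val_mul, val_mul]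
  have e : (b.1 : Matrix (Fin n) (Fin n) F) * (u.1 : Matrix (Fin n) (Fin n) F) *
        ((b⁻¹ : ↥(GS (n := n) φ)).1 : Matrix (Fin n) (Fin n) F) =
      1 + (b.1 : Matrix (Fin n) (Fin n) F) * ((u.1 : Matrix (Fin n) (Fin n) F) - 1) *
        ((b⁻¹ : ↥(GS (n := n) φ)).1 : Matrix (Fin n) (Fin n) F) := by
    rw [Matrix.mul_sub, Matrix.sub_mul, Matrix.mul_one, hbb]
    abel
  rw [e, Matrix.add_apply, Matrix.mul_apply, Finset.sum_eq_zero, add_zero]
  intro r _
  by_cases hrk : r ≤ k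
  · rw [Matrix.mul_apply, Finset.sum_eq_zero, zero_mul]
    intro m _
    by_cases him : i ≤ m
    · by_cases hmr : S.fr m r
      · exact absurd (hI i m r k him hmr hrk) hik
      · rw [Matrix.sub_apply, hu m r hmr, sub_self, mul_zero]
    · rw [hb1 i m (not_le.mp him), zero_mul]
  · rw [hb' r k (not_le.mp hrk), mul_zero]

/-- a reflection whose permutation preserves the shape normalises `S.Q φ` -/
theorem sRef_conj_mem (j : Fin (n / 2)) (hτ : ∀ i k, S.fr (τ j i) (τ j k) → S.fr i k)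
    (u : ↥(GS (n := n) φ)) (hu : u ∈ S.Q φ) : sRef φ j * u * (sRef φ j)⁻¹ ∈ S.Q φ := by
  intro i k hik
  rw [sRef_conj_apply, hu _ _ (fun h => hik (hτ i k h)), Matrix.one_apply, Matrix.one_apply]
  by_cases h : i = k
  · subst h
    rw [if_pos rfl, if_pos rfl]
  · rw [if_neg h, if_neg (fun h' => h ((τ j).injective h'))]

end Shape

/-! ### root elements as elements of `GS φ` -/

section root

variable (φ : F →+* F)

/-- the long root element `1 + c E_{a,a'}` -/
def xL (a : Fin n) (ha : a ≠ a.rev) (c : F) (hc : c + φ c = 0) : ↥(GS (n := n) φ) :=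
  mkGS φ (xLm a c) (Cfsg.Agent.Lib.H28.FBN.xLm_mul_star φ a ha c hc)

/-- the short root element `1 + c E_{a,b} - φ(c) E_{b',a'}` -/
def xS (hφ2 : ∀ x, φ (φ x) = x) (a b : Fin n) (hab : a ≠ b) (ha : a ≠ a.rev) (hb : b ≠ b.rev) (c : F) :
    ↥(GS (n := n) φ) :=
  mkGS φ (xSm φ a b c) (Cfsg.Agent.Lib.H28.FBN.xSm_mul_star φ hφ2 a b hab ha hb c)

/-- the `SU_3` type root element -/
def xM (hφ2 : ∀ x, φ (φ x) = x) (a m : Fin n) (hm : m.rev = m) (ha : a ≠ a.rev) (α β : F)
    (h : β + φ β + α * φ α = 0) : ↥(GS (n := n) φ) :=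
  mkGS φ (xMm φ a m α β) (Cfsg.Agent.Lib.H28.FBN.xMm_mul_star φ hφ2 a m hm ha α β h)

theorem xL_val (a : Fin n) (ha : a ≠ a.rev) (c : F) (hc : c + φ c = 0) :
    ((xL φ a ha c hc).1 : Matrix (Fin n) (Fin n) F) = 1 + Matrix.single a a.rev c := rfl

theorem xS_val (hφ2 : ∀ x, φ (φ x) = x) (a b : Fin n) (hab : a ≠ b) (ha : a ≠ a.rev) (hb : b ≠ b.rev) (c : F) :
    ((xS φ hφ2 a b hab ha hb c).1 : Matrix (Fin n) (Fin n) F) = 1 + rootN φ a b c := by
  show xSm φ a b c = _
  unfold xSm rootN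
  rw [add_sub_assoc]

theorem xM_val (hφ2 : ∀ x, φ (φ x) = x) (a m : Fin n) (hm : m.rev = m) (ha : a ≠ a.rev) (α β : F)
    (h : β + φ β + α * φ α = 0) :
    ((xM φ hφ2 a m hm ha α β h).1 : Matrix (Fin n) (Fin n) F) =
      1 + (rootN φ a m α + Matrix.single a a.rev β) := by
  show xMm φ a m α β = _
  unfold xMm rootN
  rw [hm]
  abel

theorem single_supp (S : Shape n) (a b : Fin n) (c : F) (hab : S.fr a b) :
    ∀ i k, ¬ S.fr i k → Matrix.single a b c i k = 0 := by
  intro i k hik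
  apply Matrix.single_apply_of_ne
  rintro ⟨h1, h2⟩
  subst h1; subst h2
  exact hik hab

theorem rootN_supp (S : Shape n) (a b : Fin n) (c : F) (hab : S.fr a b) :
    ∀ i k, ¬ S.fr i k → rootN φ a b c i k = 0 := by
  intro i k hik
  unfold rootN
  rw [Matrix.sub_apply, single_supp S a b c hab i k hik, single_supp S b.rev a.rev (φ c) (S.rev _ _ hab) i k hik,
    sub_zero]

theorem xL_mem (S : Shape n) (a : Fin n) (ha : a ≠ a.rev) (c : F) (hc : c + φ c = 0) (hfr : S.fr a a.rev) :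
    xL φ a ha c hc ∈ S.Q φ :=
  S.mem_Q_of_eq φ _ _ (single_supp S a a.rev c hfr) (xL_val φ a ha c hc)

theorem xS_mem (S : Shape n) (hφ2 : ∀ x, φ (φ x) = x) (a b : Fin n) (hab : a ≠ b) (ha : a ≠ a.rev)
    (hb : b ≠ b.rev) (c : F) (hfr : S.fr a b) : xS φ hφ2 a b hab ha hb c ∈ S.Q φ :=
  S.mem_Q_of_eq φ _ _ (rootN_supp φ S a b c hfr) (xS_val φ hφ2 a b hab ha hb c)

theorem xM_mem (S : Shape n) (hφ2 : ∀ x, φ (φ x) = x) (a m : Fin n) (hm : m.rev = m) (ha : a ≠ a.rev) (α β : F)
    (h : β + φ β + α * φ α = 0) (hfr : S.fr a m) : xM φ hφ2 a m hm ha α β h ∈ S.Q φ := by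
  apply S.mem_Q_of_eq φ _ _ _ (xM_val φ hφ2 a m hm ha α β h)
  intro i k hik
  have hfr2 : S.fr m a.rev := by
    have := S.rev _ _ hfr
    rwa [hm] at this
  rw [Matrix.add_apply, rootN_supp φ S a m α hfr i k hik,
    single_supp S a a.rev β (S.trans _ _ _ hfr hfr2) i k hik, add_zero]

/-! ### from commuting group elements to commuting matrices -/

theorem comm_of_one_add {g A : Matrix (Fin n) (Fin n) F} (h : g * (1 + A) = (1 + A) * g) : g * A = A * g := by
  rw [Matrix.mul_add, Matrix.add_mul, Matrix.mul_one, Matrix.one_mul] at h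
  exact add_left_cancel h

theorem comm_xL (g : ↥(GS (n := n) φ)) (a : Fin n) (ha : a ≠ a.rev) (c : F) (hc : c + φ c = 0) (hc0 : c ≠ 0)
    (h : g * xL φ a ha c hc = xL φ a ha c hc * g) :
    ∀ t : F, (g.1 : Matrix (Fin n) (Fin n) F) * Matrix.single a a.rev t =
      Matrix.single a a.rev t * (g.1 : Matrix (Fin n) (Fin n) F) := by
  have h1 : (g.1 : Matrix (Fin n) (Fin n) F) * (1 + Matrix.single a a.rev c) =
      (1 + Matrix.single a a.rev c) * (g.1 : Matrix (Fin n) (Fin n) F) := by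
    have := congrArg (fun x : ↥(GS (n := n) φ) => (x.1 : Matrix (Fin n) (Fin n) F)) h
    simpa only [val_mul, xL_val] using this
  have h2 := comm_of_one_add h1
  intro t
  have e : Matrix.single a a.rev t = (t * c⁻¹) • Matrix.single a a.rev c := by
    rw [Matrix.smul_single, smul_eq_mul, mul_assoc, inv_mul_cancel₀ hc0, mul_one]
  rw [e, Matrix.mul_smul, Matrix.smul_mul, h2]

theorem comm_xS (hφ2 : ∀ x, φ (φ x) = x) (g : ↥(GS (n := n) φ)) (a b : Fin n) (hab : a ≠ b) (ha : a ≠ a.rev)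
    (hb : b ≠ b.rev) (c : F)
    (h : g * xS φ hφ2 a b hab ha hb c = xS φ hφ2 a b hab ha hb c * g) :
    (g.1 : Matrix (Fin n) (Fin n) F) * rootN φ a b c = rootN φ a b c * (g.1 : Matrix (Fin n) (Fin n) F) := by
  have h1 : (g.1 : Matrix (Fin n) (Fin n) F) * (1 + rootN φ a b c) =
      (1 + rootN φ a b c) * (g.1 : Matrix (Fin n) (Fin n) F) := by
    have := congrArg (fun x : ↥(GS (n := n) φ) => (x.1 : Matrix (Fin n) (Fin n) F)) h
    simpa only [val_mul, xS_val] using this
  exact comm_of_one_add h1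

theorem comm_xM (hφ2 : ∀ x, φ (φ x) = x) (g : ↥(GS (n := n) φ)) (a m : Fin n) (hm : m.rev = m) (ha : a ≠ a.rev)
    (α β : F) (hβ : β + φ β + α * φ α = 0)
    (hL : ∀ t : F, (g.1 : Matrix (Fin n) (Fin n) F) * Matrix.single a a.rev t =
      Matrix.single a a.rev t * (g.1 : Matrix (Fin n) (Fin n) F))
    (h : g * xM φ hφ2 a m hm ha α β hβ = xM φ hφ2 a m hm ha α β hβ * g) :
    (g.1 : Matrix (Fin n) (Fin n) F) * rootN φ a m α = rootN φ a m α * (g.1 : Matrix (Fin n) (Fin n) F) := by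
  have h1 : (g.1 : Matrix (Fin n) (Fin n) F) * (1 + (rootN φ a m α + Matrix.single a a.rev β)) =
      (1 + (rootN φ a m α + Matrix.single a a.rev β)) * (g.1 : Matrix (Fin n) (Fin n) F) := by
    have := congrArg (fun x : ↥(GS (n := n) φ) => (x.1 : Matrix (Fin n) (Fin n) F)) h
    simpa only [val_mul, xM_val] using this
  have h2 := comm_of_one_add h1
  rw [Matrix.mul_add, Matrix.add_mul, hL β] at h2
  exact add_right_cancel h2

end root

/-! ### scalars -/

section scalar

variable (φ : F →+* F)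

theorem star_smul (c : F) (M : Matrix (Fin n) (Fin n) F) : star φ (c • M) = φ c • star φ M := by
  ext k l
  rw [FBN.star_apply, Matrix.smul_apply, Matrix.smul_apply, FBN.star_apply, smul_eq_mul, smul_eq_mul, map_mul]

/-- the scalar matrix `c`, `c φ(c) = 1`, as an element of `GS φ` -/
def scal (c : F) (hc : c * φ c = 1) : ↥(GS (n := n) φ) :=
  mkGS φ (c • (1 : Matrix (Fin n) (Fin n) F)) (by
    rw [star_smul, FBN.star_one, Matrix.smul_mul, Matrix.mul_smul, Matrix.one_mul, smul_smul, hc, one_smul])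

theorem scal_val (c : F) (hc : c * φ c = 1) :
    ((scal (n := n) φ c hc).1 : Matrix (Fin n) (Fin n) F) = c • (1 : Matrix (Fin n) (Fin n) F) := rfl

theorem scal_comm (c : F) (hc : c * φ c = 1) (x : ↥(GS (n := n) φ)) : scal φ c hc * x = x * scal φ c hc := by
  apply ext_val
  rw [val_mul, val_mul, scal_val, Matrix.smul_mul, Matrix.one_mul, Matrix.mul_smul, Matrix.mul_one]

theorem scal_inv_val (c : F) (hc : c * φ c = 1) :
    (((scal (n := n) φ c hc)⁻¹ : ↥(GS (n := n) φ)).1 : Matrix (Fin n) (Fin n) F) =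
      φ c • (1 : Matrix (Fin n) (Fin n) F) := by
  rw [inv_val, scal_val, star_smul, FBN.star_one]

/-- **scalar decomposition**: a matrix of `GS φ` which is `λ` on the diagonal and supported on the shape off the diagonal -/
theorem exists_scal (S : Shape n) (g : ↥(GS (n := n) φ)) (lam : F) (hlam : lam * φ lam = 1)
    (hdiag : ∀ i, (g.1 : Matrix (Fin n) (Fin n) F) i i = lam)
    (hoff : ∀ i k, i ≠ k → ¬ S.fr i k → (g.1 : Matrix (Fin n) (Fin n) F) i k = 0) :
    ∃ z : ↥(GS (n := n) φ), (∀ x, z * x = x * z) ∧ z⁻¹ * g ∈ S.Q φ := by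
  refine ⟨scal φ lam hlam, scal_comm φ lam hlam, ?_⟩
  intro i k hik
  rw [val_mul, scal_inv_val, Matrix.smul_mul, Matrix.one_mul, Matrix.smul_apply, smul_eq_mul]
  by_cases h : i = k
  · subst h
    rw [hdiag, Matrix.one_apply_eq, mul_comm, hlam]
  · rw [hoff i k h hik, mul_zero, Matrix.one_apply_ne h]

/-- `λ φ(λ) = 1` for the diagonal entry of a matrix of `GS φ` whose row `l` is diagonal -/
theorem diag_norm (g : ↥(GS (n := n) φ)) (l : Fin n)
    (hrow : ∀ k, k ≠ l → (g.1 : Matrix (Fin n) (Fin n) F) l k = 0) :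
    (g.1 : Matrix (Fin n) (Fin n) F) l l * φ ((g.1 : Matrix (Fin n) (Fin n) F) l.rev l.rev) = 1 := by
  have h := congrFun (congrFun (mul_star_self φ g) l) l
  rw [Matrix.mul_apply, Matrix.one_apply_eq, Finset.sum_eq_single l] at h
  · rw [FBN.star_apply] at h
    exact h
  · intro m _ hm
    rw [hrow m hm, zero_mul]
  · intro h'
    exact absurd (Finset.mem_univ _) h'

end scalar

end Cfsg.Agent.Lib.H8.PAut
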