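/-
S4613 family piece `PSU` (helper8), part c: the two shapes (`shape1` = radical of the stabiliser of the isotropic point `e_0`,
`shape2` = radical of the minimal parabolic subgroup of the first node), their normalisers and centralisers in `GS φ`.
-/
import Cfsg.Agent.Lib.H8.PAutPSUb

set_option autoImplicit false
set_option linter.unusedSectionVars false
set_option linter.unusedVariables false

namespace Cfsg.Agent.Lib.H8.PAut

open Matrix Cfsg.Agent.Lib.H12.DCos Cfsg.Agent.Lib.H8.FBN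

variable {F : Type*} [Field F] {n : ℕ}

/-- row `0` and column `n - 1` -/
def shape1 (n : ℕ) : Shape n where
  fr := fun i k => ((i : ℕ) = 0 ∧ (k : ℕ) ≠ 0) ∨ ((k : ℕ) = n - 1 ∧ (i : ℕ) ≠ n - 1)
  lt := by
    intro i k h
    rw [Fin.lt_def]
    have := i.2
    have := k.2
    omega
  trans := by
    intro i m k h1 h2
    have := i.2
    have := m.2
    have := k.2
    omega
  rev := by
    intro i k h
    have := i.2
    have := k.2
    show ((k.rev : ℕ) = 0 ∧ (i.rev : ℕ) ≠ 0) ∨ ((i.rev : ℕ) = n - 1 ∧ (k.rev : ℕ) ≠ n - 1)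
    rw [Fin.val_rev, Fin.val_rev]
    omega

theorem shape1_fr (i k : Fin n) :
    (shape1 n).fr i k ↔ ((i : ℕ) = 0 ∧ (k : ℕ) ≠ 0) ∨ ((k : ℕ) = n - 1 ∧ (i : ℕ) ≠ n - 1) := Iff.rfl

/-- everything above the diagonal except the positions `(0,1)` and `(n-2,n-1)` -/
def shape2 (n : ℕ) : Shape n where
  fr := fun i k => (i : ℕ) < k ∧ ¬ ((i : ℕ) = 0 ∧ (k : ℕ) = 1) ∧ ¬ ((i : ℕ) = n - 2 ∧ (k : ℕ) = n - 1)
  lt := by
    intro i k h
    rw [Fin.lt_def]
    exact h.1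
  trans := by
    intro i m k h1 h2
    have := i.2
    have := m.2
    have := k.2
    omega
  rev := by
    intro i k h
    have := i.2
    have := k.2
    show (k.rev : ℕ) < i.rev ∧ ¬ ((k.rev : ℕ) = 0 ∧ (i.rev : ℕ) = 1) ∧ ¬ ((k.rev : ℕ) = n - 2 ∧ (i.rev : ℕ) = n - 1)
    rw [Fin.val_rev, Fin.val_rev]
    omega

theorem shape2_fr (i k : Fin n) :
    (shape2 n).fr i k ↔
      (i : ℕ) < k ∧ ¬ ((i : ℕ) = 0 ∧ (k : ℕ) = 1) ∧ ¬ ((i : ℕ) = n - 2 ∧ (k : ℕ) = n - 1) := Iff.rfl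

theorem shape1_ideal : (shape1 n).Ideal := by
  intro i m r k h1 h2 h3
  rw [shape1_fr] at h2 ⊢
  rw [Fin.le_def] at h1 h3
  have := i.2
  have := m.2
  have := r.2
  have := k.2
  omega

theorem shape2_ideal : (shape2 n).Ideal := by
  intro i m r k h1 h2 h3
  rw [shape2_fr] at h2 ⊢
  rw [Fin.le_def] at h1 h3
  have := i.2
  have := m.2
  have := r.2
  have := k.2
  omega

/-- the reflections `τ j`, `j ≥ 1`, preserve `shape1` -/
theorem shape1_τ (j : Fin (n / 2)) (hj : 1 ≤ (j : ℕ)) (i k : Fin n)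
    (h : (shape1 n).fr (τ j i) (τ j k)) : (shape1 n).fr i k := by
  rw [shape1_fr] at h ⊢
  have hi := τ_val j i
  have hk := τ_val j k
  generalize ((τ j i : Fin n) : ℕ) = x at h hi
  generalize ((τ j k : Fin n) : ℕ) = y at h hk
  have := j.2
  have := i.2
  have := k.2
  split_ifs at hi hk <;> omega

/-- the reflection `τ 0` preserves `shape2` (`n ≥ 4`) -/
theorem shape2_τ (j : Fin (n / 2)) (hj : (j : ℕ) = 0) (hn : 4 ≤ n) (i k : Fin n)
    (h : (shape2 n).fr (τ j i) (τ j k)) : (shape2 n).fr i k := by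
  rw [shape2_fr] at h ⊢
  have hi := τ_val j i
  have hk := τ_val j k
  generalize ((τ j i : Fin n) : ℕ) = x at h hi
  generalize ((τ j k : Fin n) : ℕ) = y at h hk
  have := j.2
  have := i.2
  have := k.2
  split_ifs at hi hk <;> omega

/-! ### the centralisers -/

variable (φ : F →+* F)

/-- for every `α` a `β` with `β + φ β + α φ α = 0` -/
theorem exists_beta (hφ2 : ∀ x, φ (φ x) = x) (β₁ : F) (hβ₁ : β₁ + φ β₁ + 1 = 0) (t : F) :
    β₁ * (t * φ t) + φ (β₁ * (t * φ t)) + t * φ t = 0 := by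
  rw [map_mul, map_mul, hφ2]
  have : β₁ * (t * φ t) + φ β₁ * (φ t * t) + t * φ t = (β₁ + φ β₁ + 1) * (t * φ t) := by ring
  rw [this, hβ₁, zero_mul]

/-- **the centraliser of `(shape1 n).Q φ` in `GS φ`** -/
theorem cent_Q1 (hφ2 : ∀ x, φ (φ x) = x) (hn : 3 ≤ n) (a : Fin n) (ha0 : (a : ℕ) = 0)
    (c₀ : F) (hc₀ : c₀ + φ c₀ = 0) (hc₀0 : c₀ ≠ 0) (β₁ : F) (hβ₁ : β₁ + φ β₁ + 1 = 0)
    (t₀ : F) (ht₀ : φ t₀ ≠ t₀) (g : ↥(GS (n := n) φ))
    (hg : ∀ u ∈ (shape1 n).Q φ, g * u = u * g) :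
    ∃ z : ↥(GS (n := n) φ), (∀ x, z * x = x * z) ∧ z⁻¹ * g ∈ (shape1 n).Q φ := by
  have harv : ((a.rev : Fin n) : ℕ) = n - 1 := by rw [Fin.val_rev, ha0]
  have ha : a ≠ a.rev := by
    intro h
    have := congrArg Fin.val h
    rw [harv, ha0] at this
    omega
  have hfrL : (shape1 n).fr a a.rev := by
    rw [shape1_fr]
    left
    exact ⟨ha0, by rw [harv]; omega⟩
  have hL := comm_xL φ g a ha c₀ hc₀ hc₀0 (hg _ (xL_mem φ (shape1 n) a ha c₀ hc₀ hfrL))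
  have hS : ∀ j, j ≠ a → j ≠ a.rev → ∀ t, (g.1 : Matrix (Fin n) (Fin n) F) * rootN φ a j t =
      rootN φ a j t * (g.1 : Matrix (Fin n) (Fin n) F) := by
    intro j hja hjl t
    have hfr : (shape1 n).fr a j := by
      rw [shape1_fr]
      left
      refine ⟨ha0, fun h => hja ?_⟩
      apply Fin.ext
      rw [h, ha0]
    by_cases hjm : j.rev = j
    · exact comm_xM φ hφ2 g a j hjm ha t _ (exists_beta φ hφ2 β₁ hβ₁ t) hL
        (hg _ (xM_mem φ (shape1 n) hφ2 a j hjm ha t _ (exists_beta φ hφ2 β₁ hβ₁ t) hfr))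
    · exact comm_xS φ hφ2 g a j hja.symm ha (fun h => hjm h.symm) t
        (hg _ (xS_mem φ (shape1 n) hφ2 a j hja.symm ha (fun h => hjm h.symm) t hfr))
  obtain ⟨hdiag, hoff⟩ := cent_shape1 φ (g.1 : Matrix (Fin n) (Fin n) F) a (hL 1) hS t₀ ht₀
  have hrow : ∀ k, k ≠ a.rev → (g.1 : Matrix (Fin n) (Fin n) F) a.rev k = 0 := by
    intro k hk
    exact hoff a.rev k hk.symm (fun h => ha h.1.symm)
  have hlam := diag_norm φ g a.rev hrow
  rw [Fin.rev_rev, hdiag a.rev] at hlam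
  apply exists_scal φ (shape1 n) g _ hlam hdiag
  intro i k hik hfr
  apply hoff i k hik
  rintro ⟨h1, h2⟩
  apply hfr
  rw [h1, h2]
  exact hfrL

/-- **the centraliser of `(shape2 n).Q φ` in `GS φ`** -/
theorem cent_Q2 (hφ2 : ∀ x, φ (φ x) = x) (hn : 4 ≤ n) (a b : Fin n) (ha0 : (a : ℕ) = 0) (hb1 : (b : ℕ) = 1)
    (c₀ : F) (hc₀ : c₀ + φ c₀ = 0) (hc₀0 : c₀ ≠ 0) (β₁ : F) (hβ₁ : β₁ + φ β₁ + 1 = 0)
    (t₀ : F) (ht₀ : φ t₀ ≠ t₀) (g : ↥(GS (n := n) φ))
    (hg : ∀ u ∈ (shape2 n).Q φ, g * u = u * g) :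
    ∃ z : ↥(GS (n := n) φ), (∀ x, z * x = x * z) ∧ z⁻¹ * g ∈ (shape2 n).Q φ := by
  have harv : ((a.rev : Fin n) : ℕ) = n - 1 := by rw [Fin.val_rev, ha0]
  have hbrv : ((b.rev : Fin n) : ℕ) = n - 2 := by rw [Fin.val_rev, hb1]
  have ha : a ≠ a.rev := by
    intro h
    have := congrArg Fin.val h
    rw [harv, ha0] at this
    omega
  have hb : b ≠ b.rev := by
    intro h
    have := congrArg Fin.val h
    rw [hbrv, hb1] at this
    omega
  have hab : a ≠ b := by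
    intro h
    have := congrArg Fin.val h
    rw [ha0, hb1] at this
    omega
  have hab' : a ≠ b.rev := by
    intro h
    have := congrArg Fin.val h
    rw [ha0, hbrv] at this
    omega
  have hfrLa : (shape2 n).fr a a.rev := by
    rw [shape2_fr, harv, ha0]
    omega
  have hfrLb : (shape2 n).fr b b.rev := by
    rw [shape2_fr, hbrv, hb1]
    omega
  have hLa := comm_xL φ g a ha c₀ hc₀ hc₀0 (hg _ (xL_mem φ (shape2 n) a ha c₀ hc₀ hfrLa))
  have hLb := comm_xL φ g b hb c₀ hc₀ hc₀0 (hg _ (xL_mem φ (shape2 n) b hb c₀ hc₀ hfrLb))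
  have hS : ∀ j, j ≠ a → j ≠ b → j ≠ a.rev → ∀ t, (g.1 : Matrix (Fin n) (Fin n) F) * rootN φ a j t =
      rootN φ a j t * (g.1 : Matrix (Fin n) (Fin n) F) := by
    intro j hja hjb hjl t
    have hj0 : (j : ℕ) ≠ 0 := fun h => hja (Fin.ext (by rw [h, ha0]))
    have hj1 : (j : ℕ) ≠ 1 := fun h => hjb (Fin.ext (by rw [h, hb1]))
    have hfr : (shape2 n).fr a j := by
      rw [shape2_fr, ha0]
      omega
    by_cases hjm : j.rev = j
    · exact comm_xM φ hφ2 g a j hjm ha t _ (exists_beta φ hφ2 β₁ hβ₁ t) hLa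
        (hg _ (xM_mem φ (shape2 n) hφ2 a j hjm ha t _ (exists_beta φ hφ2 β₁ hβ₁ t) hfr))
    · exact comm_xS φ hφ2 g a j hja.symm ha (fun h => hjm h.symm) t
        (hg _ (xS_mem φ (shape2 n) hφ2 a j hja.symm ha (fun h => hjm h.symm) t hfr))
  obtain ⟨hdiag, hoff⟩ := cent_shape2 φ (g.1 : Matrix (Fin n) (Fin n) F) a b hab hab' hb (hLa 1) (hLb 1) hS t₀ ht₀
  have hrow : ∀ k, k ≠ a.rev → (g.1 : Matrix (Fin n) (Fin n) F) a.rev k = 0 := by
    intro k hk
    apply hoff a.rev k hk.symm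
    rintro ⟨h1 | h1, -⟩
    · exact ha h1.symm
    · exact hab' (by rw [← h1, Fin.rev_rev])
  have hlam := diag_norm φ g a.rev hrow
  rw [Fin.rev_rev, hdiag a.rev] at hlam
  apply exists_scal φ (shape2 n) g _ hlam hdiag
  intro i k hik hfr
  apply hoff i k hik
  rintro ⟨h1, h2⟩
  apply hfr
  rw [shape2_fr]
  have hi : (i : ℕ) = 0 ∨ (i : ℕ) = 1 := by
    rcases h1 with h | h
    · left; rw [h, ha0]
    · right; rw [h, hb1]
  have hk : (k : ℕ) = n - 1 ∨ (k : ℕ) = n - 2 := by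
    rcases h2 with h | h
    · left; rw [h, harv]
    · right; rw [h, hbrv]
  omega

end Cfsg.Agent.Lib.H8.PAut
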