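/-
S4613 family piece `PSU` (helper8), part d: transfer lemmas (`GS φ` → `SUs φ`), normalisers of the shape subgroups.
-/
import Cfsg.Agent.Lib.H8.PAutPSUc

set_option autoImplicit false
set_option linter.unusedSectionVars false
set_option linter.unusedVariables false

namespace Cfsg.Agent.Lib.H8.PAut

open Matrix Cfsg.Agent.Lib.H12.DCos Cfsg.Agent.Lib.H8.FBN

section transfer

variable {H : Type*} [Group H]

theorem mem_normalizer_subgroupOf (X Q : Subgroup H) (x : ↥X)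
    (hx : (x : H) ∈ Subgroup.normalizer (Q : Set H)) :
    x ∈ Subgroup.normalizer ((Q.subgroupOf X : Subgroup ↥X) : Set ↥X) := by
  rw [Subgroup.mem_normalizer_iff] at hx ⊢
  intro h
  rw [Subgroup.mem_subgroupOf, Subgroup.mem_subgroupOf]
  exact hx (h : H)

/-- from a scalar decomposition in the big group to the subgroup `X` -/
theorem exists_center_mul (X Q : Subgroup H) (hQX : Q ≤ X)
    (hC : ∀ g : H, (∀ u ∈ Q, g * u = u * g) → ∃ z : H, (∀ x, z * x = x * z) ∧ z⁻¹ * g ∈ Q)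
    (g : ↥X) (hg : ∀ q ∈ Q.subgroupOf X, g * q = q * g) :
    ∃ z ∈ Subgroup.center ↥X, ∃ u ∈ Q.subgroupOf X, g = z * u := by
  have h1 : ∀ u ∈ Q, (g : H) * u = u * (g : H) := by
    intro u hu
    have := hg ⟨u, hQX hu⟩ (Subgroup.mem_subgroupOf.mpr hu)
    exact congrArg Subtype.val this
  obtain ⟨z, hz, hzg⟩ := hC (g : H) h1
  have hzX : z ∈ X := by
    have e : z = (g : H) * (z⁻¹ * (g : H))⁻¹ := by group
    rw [e]
    exact X.mul_mem g.2 (X.inv_mem (hQX hzg))
  refine ⟨⟨z, hzX⟩, ?_, ⟨z⁻¹ * (g : H), hQX hzg⟩, Subgroup.mem_subgroupOf.mpr hzg, ?_⟩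
  · rw [Subgroup.mem_center_iff]
    intro x
    apply Subtype.ext
    exact (hz (x : H)).symm
  · apply Subtype.ext
    show (g : H) = z * (z⁻¹ * (g : H))
    group

theorem centralizer_subgroupOf_le (X Q R : Subgroup H) (hQX : Q ≤ X) (hQR : Q ≤ R)
    (hC : ∀ g : H, (∀ u ∈ Q, g * u = u * g) → ∃ z : H, (∀ x, z * x = x * z) ∧ z⁻¹ * g ∈ Q) :
    Subgroup.centralizer ((Q.subgroupOf X : Subgroup ↥X) : Set ↥X) ≤ Subgroup.center ↥X ⊔ R.subgroupOf X := by
  intro g hg
  rw [Subgroup.mem_centralizer_iff] at hg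
  obtain ⟨z, hz, u, hu, rfl⟩ := exists_center_mul X Q hQX hC g (fun q hq => (hg q hq).symm)
  apply Subgroup.mul_mem_sup hz
  rw [Subgroup.mem_subgroupOf] at hu ⊢
  exact hQR hu

end transfer

section normalizer

variable {F : Type*} [Field F] {n : ℕ} (φ : F →+* F)

theorem Bs_le_normalizer (S : Shape n) (hI : S.Ideal) :
    Bs φ ≤ Subgroup.normalizer ((S.Q φ : Subgroup ↥(GS (n := n) φ)) : Set ↥(GS (n := n) φ)) := by
  intro b hb
  rw [Subgroup.mem_normalizer_iff]
  intro h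
  constructor
  · exact S.conj_mem_of_mem_Bs φ hI b h hb
  · intro hh
    have := S.conj_mem_of_mem_Bs φ hI b⁻¹ _ ((Bs φ).inv_mem hb) hh
    have e : b⁻¹ * (b * h * b⁻¹) * b⁻¹⁻¹ = h := by group
    rwa [e] at this

theorem sRef_mem_normalizer (S : Shape n) (j : Fin (n / 2)) (hτ : ∀ i k, S.fr (τ j i) (τ j k) → S.fr i k) :
    sRef φ j ∈ Subgroup.normalizer ((S.Q φ : Subgroup ↥(GS (n := n) φ)) : Set ↥(GS (n := n) φ)) := by
  rw [Subgroup.mem_normalizer_iff]
  intro h
  constructor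
  · exact S.sRef_conj_mem φ j hτ h
  · intro hh
    have := S.sRef_conj_mem φ j hτ _ hh
    have e : sRef φ j * (sRef φ j * h * (sRef φ j)⁻¹) * (sRef φ j)⁻¹ = h := by
      have h1 : sRef φ j * sRef φ j = 1 := sRef_mul_self φ j
      have h2 : (sRef φ j)⁻¹ = sRef φ j := sRef_inv φ j
      rw [h2]
      calc sRef φ j * (sRef φ j * h * sRef φ j) * sRef φ j
          = (sRef φ j * sRef φ j) * h * (sRef φ j * sRef φ j) := by group
        _ = h := by rw [h1, one_mul, mul_one]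
    rwa [e] at this

end normalizer

end Cfsg.Agent.Lib.H8.PAut
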