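/-
S4613 family piece `PSU` (helper8), part e: `SylRigid p (SUs φ / Z)` for `n ≥ 4` (criterion (GEN) of `Lib/H19/SRDefs`
with the two shape subgroups).
-/
import Cfsg.Agent.Lib.H8.PAutPSUd
import Cfsg.Agent.Lib.H8.FBNUnitary
import Cfsg.Agent.Lib.H19.SRDefs

set_option autoImplicit false
set_option linter.unusedSectionVars false
set_option linter.unusedVariables false

namespace Cfsg.Agent.Lib.H8.PAut

open Matrix Cfsg.Agent.Lib.H12.DCos Cfsg.Agent.Lib.H8.SpBN Cfsg.Agent.Lib.H8.BNRoot Cfsg.Agent.Lib.H8.BNRes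
  Cfsg.Agent.Lib.H8.FBN Cfsg.Agent.Lib.H19.SR
open Cfsg.Agent.Lib.H4.FBN (det_eq_one_of_mem_Us det_eq_one_of_mem_Y)
open Cfsg.Agent.Lib.H6.FBN (Us_isPGroup card_Ts_coprime exists_trace_zero exists_trace_neg_one exists_not_root)
open Cfsg.Agent.Lib.H25.FBN (covers)

variable {F : Type*} [Field F] [Fintype F] {n q : ℕ}

theorem exists_not_fixed (φ : F →+* F) (hF : Fintype.card F = q ^ 2) (hφ : ∀ x, φ x = x ^ q) :
    ∃ t₀ : F, φ t₀ ≠ t₀ := by
  obtain ⟨x, hx⟩ := exists_not_root hF (-1 : F) 1 (Or.inr one_ne_zero)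
  refine ⟨x, fun h => hx ?_⟩
  rw [← hφ, h]
  ring

/-- a central `p`-element of a group whose centre lies in a `p'`-subgroup `T` is trivial -/
theorem eq_one_of_center_of_pow {X : Type*} [Group X] (p : ℕ) [Fact p.Prime] (T : Subgroup X)
    (hZT : Subgroup.center X ≤ T) (hT : (Nat.card ↥T).Coprime p) :
    ∀ z ∈ Subgroup.center X, z ^ p = 1 → z = 1 := by
  intro z hz hzp
  have h1 : orderOf z ∣ p := orderOf_dvd_of_pow_eq_one hzp
  have h2 : orderOf z ∣ Nat.card ↥T := by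
    have := Subgroup.orderOf_dvd_natCard T (hZT hz)
    exact this
  have h3 : orderOf z = 1 := Nat.eq_one_of_dvd_coprimes hT h2 h1
  exact orderOf_eq_one_iff.mp h3

/-- **`SUs φ / Z` for `n ≥ 4`** -/
theorem sylRigid_SUs_of_four_le (φ : F →+* F) (hF : Fintype.card F = q ^ 2) (hφ : ∀ x, φ x = x ^ q)
    (hφ2 : ∀ x, φ (φ x) = x) (hn : 4 ≤ n) (p : ℕ) [Fact p.Prime] [CharP F p] :
    SylRigid p (↥(SUs (n := n) φ) ⧸ Subgroup.center ↥(SUs (n := n) φ)) := by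
  classical
  have hE : n % 2 = 0 → ∃ c : F, c ≠ 0 ∧ c + φ c = 0 := fun _ => exists_trace_zero φ hF hφ
  have hO : n % 2 = 1 → ∃ β : F, β + φ β + 1 = 0 := fun _ => exists_trace_neg_one φ hF hφ
  obtain ⟨c₀, hc₀0, hc₀⟩ := exists_trace_zero φ hF hφ
  obtain ⟨β₁, hβ₁⟩ := exists_trace_neg_one φ hF hφ
  obtain ⟨t₀, ht₀⟩ := exists_not_fixed φ hF hφ
  let P := flagBN (n := n) φ hφ2 hE hO
  let D := flagRootData (n := n) φ hφ2 hE hO
  have hcov : Covers P (SUs (n := n) φ) := by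
    intro h
    obtain ⟨t, ht, h'⟩ := covers φ hF hφ (by omega) h
    exact ⟨t, ⟨Ts_le_Bs ht, Ts_le_Ns ht⟩, h'⟩
  choose τ' hτ1 hτ2 using covers (n := n) φ hF hφ (by omega)
  have hτ : ∀ s ∈ P.S, τ' s ∈ P.B ⊓ P.N := fun s _ => ⟨Ts_le_Bs (hτ1 s), Ts_le_Ns (hτ1 s)⟩
  have hτG : ∀ s ∈ P.S, s * τ' s ∈ SUs (n := n) φ := fun s _ => hτ2 s
  have hτT : ∀ i, τ' (D.e i) ∈ D.T := fun i => hτ1 _
  have hUG : D.U ≤ SUs (n := n) φ := fun u hu => mem_SUs.mpr (det_eq_one_of_mem_Us φ u hu)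
  have hXG : ∀ i, D.X i ⊆ ((SUs (n := n) φ : Subgroup ↥(GS (n := n) φ)) : Set ↥(GS (n := n) φ)) :=
    fun i x hx => hUG (X_subset_Us i hx)
  have hYG : ∀ i, D.Y i ⊆ ((SUs (n := n) φ : Subgroup ↥(GS (n := n) φ)) : Set ↥(GS (n := n) φ)) :=
    fun i y hy => mem_SUs.mpr (det_eq_one_of_mem_Y φ i y hy)
  let P' := BNRes.restrict P (SUs (n := n) φ) hcov τ' hτ hτG
  let D' := D.restrict (SUs (n := n) φ) hcov τ' hτ hτG hτT hXG hYG hUG
  have hU' : IsPGroup p ↥((Us (n := n) φ).subgroupOf (SUs (n := n) φ)) := by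
    have h1 : IsPGroup p ↥(Us (n := n) φ) := Us_isPGroup φ p
    exact h1.of_injective (Subgroup.subgroupOfEquivOfLe hUG).toMonoidHom (Subgroup.subgroupOfEquivOfLe hUG).injective
  have hT' : (Nat.card ↥D'.T).Coprime p := by
    have h1 : (Nat.card ↥(Ts (n := n) φ)).Coprime p := card_Ts_coprime φ p
    let f : ↥((Ts (n := n) φ).subgroupOf (SUs (n := n) φ)) →* ↥(Ts (n := n) φ) :=
      { toFun := fun x => ⟨(x : ↥(SUs (n := n) φ)), Subgroup.mem_subgroupOf.mp x.2⟩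
        map_one' := rfl
        map_mul' := fun _ _ => rfl }
    have hf : Function.Injective f := by
      intro x y h
      apply Subtype.ext
      apply Subtype.ext
      exact congrArg (fun z : ↥(Ts (n := n) φ) => (z : ↥(GS (n := n) φ))) h
    exact Nat.Coprime.coprime_dvd_left (Subgroup.card_dvd_of_injective f hf) h1
  have hZ : ∀ z ∈ Subgroup.center ↥(SUs (n := n) φ), z ^ p = 1 → z = 1 :=
    eq_one_of_center_of_pow p D'.T D'.center_le_T hT'
  -- the indices `0`, `1`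
  let a : Fin n := ⟨0, by omega⟩
  let b : Fin n := ⟨1, by omega⟩
  -- the two subgroups
  let Q1 : Subgroup ↥(SUs (n := n) φ) := ((shape1 n).Q φ).subgroupOf (SUs (n := n) φ)
  let Q2 : Subgroup ↥(SUs (n := n) φ) := ((shape2 n).Q φ).subgroupOf (SUs (n := n) φ)
  have hQ1U : (shape1 n).Q φ ≤ Us φ := (shape1 n).Q_le_Us φ
  have hQ2U : (shape2 n).Q φ ≤ Us φ := (shape2 n).Q_le_Us φ
  have hQR : ∀ Q : Subgroup ↥(GS (n := n) φ), Q ≤ Us φ →
      Q.subgroupOf (SUs (n := n) φ) ≤ (Us (n := n) φ).subgroupOf (SUs (n := n) φ) := by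
    intro Q hQ x hx
    rw [Subgroup.mem_subgroupOf] at hx ⊢
    exact hQ hx
  apply sylRigid_center_quot_of_gen p hZ ((Us (n := n) φ).subgroupOf (SUs (n := n) φ)) hU' {Q1, Q2}
  · intro Q hQ
    rcases hQ with rfl | hQ
    · refine ⟨hQR _ hQ1U, ?_⟩
      exact centralizer_subgroupOf_le (SUs (n := n) φ) ((shape1 n).Q φ) (Us φ) (hQ1U.trans hUG) hQ1U
        (cent_Q1 φ hφ2 (by omega) a rfl c₀ hc₀ hc₀0 β₁ hβ₁ t₀ ht₀)
    · rw [Set.mem_singleton_iff] at hQ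
      subst hQ
      refine ⟨hQR _ hQ2U, ?_⟩
      exact centralizer_subgroupOf_le (SUs (n := n) φ) ((shape2 n).Q φ) (Us φ) (hQ2U.trans hUG) hQ2U
        (cent_Q2 φ hφ2 hn a b rfl rfl c₀ hc₀ hc₀0 β₁ hβ₁ t₀ ht₀)
  · -- generation
    set C : Subgroup ↥(SUs (n := n) φ) :=
      Subgroup.closure (⋃ Q ∈ ({Q1, Q2} : Set (Subgroup ↥(SUs (n := n) φ))),
        ((Subgroup.normalizer ((Q : Subgroup ↥(SUs (n := n) φ)) : Set ↥(SUs (n := n) φ)) :
          Subgroup ↥(SUs (n := n) φ)) : Set ↥(SUs (n := n) φ))) with hCdef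
    have hN1 : ∀ x : ↥(SUs (n := n) φ),
        (x : ↥(GS (n := n) φ)) ∈ Subgroup.normalizer (((shape1 n).Q φ : Subgroup ↥(GS (n := n) φ)) : Set ↥(GS (n := n) φ)) →
        x ∈ C := by
      intro x hx
      apply Subgroup.subset_closure
      rw [Set.mem_iUnion₂]
      exact ⟨Q1, Or.inl rfl, mem_normalizer_subgroupOf _ _ x hx⟩
    have hN2 : ∀ x : ↥(SUs (n := n) φ),
        (x : ↥(GS (n := n) φ)) ∈ Subgroup.normalizer (((shape2 n).Q φ : Subgroup ↥(GS (n := n) φ)) : Set ↥(GS (n := n) φ)) →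
        x ∈ C := by
      intro x hx
      apply Subgroup.subset_closure
      rw [Set.mem_iUnion₂]
      exact ⟨Q2, Or.inr rfl, mem_normalizer_subgroupOf _ _ x hx⟩
    have hB : P'.B ≤ C := by
      intro x hx
      have hx' : (x : ↥(GS (n := n) φ)) ∈ Bs φ := (mem_restrict_B (SUs (n := n) φ) hcov τ' hτ hτG x).mp hx
      exact hN1 x (Bs_le_normalizer φ (shape1 n) shape1_ideal hx')
    have hS : P'.S ⊆ (C : Set ↥(SUs (n := n) φ)) := by
      intro x hx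
      have hx' : (x : ↥(GS (n := n) φ)) ∈ newS P τ' := hx
      obtain ⟨s, hs, hsx⟩ := hx'
      obtain ⟨j, rfl⟩ := hs
      have ht : τ' (sRef φ j) ∈ Bs φ := Ts_le_Bs (hτ1 _)
      by_cases hj : 1 ≤ (j : ℕ)
      · apply hN1
        rw [← hsx]
        exact Subgroup.mul_mem _ (sRef_mem_normalizer φ (shape1 n) j (shape1_τ j hj))
          (Bs_le_normalizer φ (shape1 n) shape1_ideal ht)
      · apply hN2
        rw [← hsx]
        exact Subgroup.mul_mem _ (sRef_mem_normalizer φ (shape2 n) j (shape2_τ j (by omega) hn))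
          (Bs_le_normalizer φ (shape2 n) shape2_ideal ht)
    have hN : P'.N ≤ C := by
      rw [← P'.closure_sup]
      apply sup_le
      · rw [Subgroup.closure_le]
        exact hS
      · exact inf_le_left.trans hB
    rw [eq_top_iff, ← P'.sup_eq_top]
    exact sup_le hB hN

end Cfsg.Agent.Lib.H8.PAut
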