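/-
S4613 family piece `PSU` (helper8), part f: `SylRigid p (SUs φ / Z)` for `n = 3` (rank one: (GEN) with `Q = U` gives
`α = 1` on `B`, then the rank one argument `r1_fix`).
-/
import Cfsg.Agent.Lib.H8.PAutPSUe
import Cfsg.Agent.Lib.H8.PAutBN
import Cfsg.Agent.Lib.H8.PAutGen

set_option autoImplicit false
set_option linter.unusedSectionVars false
set_option linter.unusedVariables false

namespace Cfsg.Agent.Lib.H8.PAut

open Matrix Cfsg.Agent.Lib.H12.DCos Cfsg.Agent.Lib.H8.SpBN Cfsg.Agent.Lib.H8.BNRoot Cfsg.Agent.Lib.H8.BNRes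
  Cfsg.Agent.Lib.H8.FBN Cfsg.Agent.Lib.H19.SR Cfsg.Agent.Lib.H2.BN
open Cfsg.Agent.Lib.H4.FBN (det_eq_one_of_mem_Us det_eq_one_of_mem_Y)
open Cfsg.Agent.Lib.H6.FBN (Us_isPGroup card_Ts_coprime exists_trace_zero exists_trace_neg_one exists_not_root)
open Cfsg.Agent.Lib.H25.FBN (covers)

variable {F : Type*} [Field F] [Fintype F] {q : ℕ}

/-- **`SUs φ / Z` for `n = 3`** -/
theorem sylRigid_SUs_three (φ : F →+* F) (hF : Fintype.card F = q ^ 2) (hφ : ∀ x, φ x = x ^ q)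
    (hφ2 : ∀ x, φ (φ x) = x) (p : ℕ) [Fact p.Prime] [CharP F p]
    (hs : IsSimpleGroup (↥(SUs (n := 3) φ) ⧸ Subgroup.center ↥(SUs (n := 3) φ))) :
    SylRigid p (↥(SUs (n := 3) φ) ⧸ Subgroup.center ↥(SUs (n := 3) φ)) := by
  classical
  have hp : p.Prime := Fact.out
  have hE : 3 % 2 = 0 → ∃ c : F, c ≠ 0 ∧ c + φ c = 0 := fun _ => exists_trace_zero φ hF hφ
  have hO : 3 % 2 = 1 → ∃ β : F, β + φ β + 1 = 0 := fun _ => exists_trace_neg_one φ hF hφ
  obtain ⟨c₀, hc₀0, hc₀⟩ := exists_trace_zero φ hF hφ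
  obtain ⟨β₁, hβ₁⟩ := exists_trace_neg_one φ hF hφ
  obtain ⟨t₀, ht₀⟩ := exists_not_fixed φ hF hφ
  let P := flagBN (n := 3) φ hφ2 hE hO
  let D := flagRootData (n := 3) φ hφ2 hE hO
  have hcov : Covers P (SUs (n := 3) φ) := by
    intro h
    obtain ⟨t, ht, h'⟩ := covers φ hF hφ (by omega) h
    exact ⟨t, ⟨Ts_le_Bs ht, Ts_le_Ns ht⟩, h'⟩
  choose τ' hτ1 hτ2 using covers (n := 3) φ hF hφ (by omega)
  have hτ : ∀ s ∈ P.S, τ' s ∈ P.B ⊓ P.N := fun s _ => ⟨Ts_le_Bs (hτ1 s), Ts_le_Ns (hτ1 s)⟩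
  have hτG : ∀ s ∈ P.S, s * τ' s ∈ SUs (n := 3) φ := fun s _ => hτ2 s
  have hτT : ∀ i, τ' (D.e i) ∈ D.T := fun i => hτ1 _
  have hUG : D.U ≤ SUs (n := 3) φ := fun u hu => mem_SUs.mpr (det_eq_one_of_mem_Us φ u hu)
  have hXG : ∀ i, D.X i ⊆ ((SUs (n := 3) φ : Subgroup ↥(GS (n := 3) φ)) : Set ↥(GS (n := 3) φ)) :=
    fun i x hx => hUG (X_subset_Us i hx)
  have hYG : ∀ i, D.Y i ⊆ ((SUs (n := 3) φ : Subgroup ↥(GS (n := 3) φ)) : Set ↥(GS (n := 3) φ)) :=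
    fun i y hy => mem_SUs.mpr (det_eq_one_of_mem_Y φ i y hy)
  let P' := BNRes.restrict P (SUs (n := 3) φ) hcov τ' hτ hτG
  let D' := D.restrict (SUs (n := 3) φ) hcov τ' hτ hτG hτT hXG hYG hUG
  have hU' : IsPGroup p ↥((Us (n := 3) φ).subgroupOf (SUs (n := 3) φ)) := by
    have h1 : IsPGroup p ↥(Us (n := 3) φ) := Us_isPGroup φ p
    exact h1.of_injective (Subgroup.subgroupOfEquivOfLe hUG).toMonoidHom (Subgroup.subgroupOfEquivOfLe hUG).injective
  have hT' : (Nat.card ↥D'.T).Coprime p := by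
    have h1 : (Nat.card ↥(Ts (n := 3) φ)).Coprime p := card_Ts_coprime φ p
    let f : ↥((Ts (n := 3) φ).subgroupOf (SUs (n := 3) φ)) →* ↥(Ts (n := 3) φ) :=
      { toFun := fun x => ⟨(x : ↥(SUs (n := 3) φ)), Subgroup.mem_subgroupOf.mp x.2⟩
        map_one' := rfl
        map_mul' := fun _ _ => rfl }
    have hf : Function.Injective f := by
      intro x y h
      apply Subtype.ext
      apply Subtype.ext
      exact congrArg (fun z : ↥(Ts (n := 3) φ) => (z : ↥(GS (n := 3) φ))) h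
    exact Nat.Coprime.coprime_dvd_left (Subgroup.card_dvd_of_injective f hf) h1
  have hZ : ∀ z ∈ Subgroup.center ↥(SUs (n := 3) φ), z ^ p = 1 → z = 1 :=
    eq_one_of_center_of_pow p D'.T D'.center_le_T hT'
  have hZ' := center_pow_eq_one p hZ
  have hZB : Subgroup.center ↥(SUs (n := 3) φ) ≤ P'.B := D'.center_le_T.trans D'.hTB
  let a : Fin 3 := ⟨0, by omega⟩
  let i₀ : Fin (3 / 2) := ⟨0, by omega⟩
  have h1 : ∀ i : Fin (3 / 2), i = i₀ := by
    intro i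
    apply Fin.ext
    have := i.2
    show (i : ℕ) = 0
    omega
  let mk := QuotientGroup.mk' (Subgroup.center ↥(SUs (n := 3) φ))
  let R : Subgroup ↥(SUs (n := 3) φ) := (Us (n := 3) φ).subgroupOf (SUs (n := 3) φ)
  let Q1 : Subgroup ↥(SUs (n := 3) φ) := ((shape1 3).Q φ).subgroupOf (SUs (n := 3) φ)
  have hQ1U : (shape1 3).Q φ ≤ Us φ := (shape1 3).Q_le_Us φ
  have hQ1R : Q1 ≤ R := by
    intro x hx
    exact Subgroup.mem_subgroupOf.mpr (hQ1U (Subgroup.mem_subgroupOf.mp hx))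
  have hRp : ∀ u ∈ R, ∃ m : ℕ, u ^ (p ^ m) = 1 := by
    intro u hu
    obtain ⟨m, hm⟩ := hU' ⟨u, hu⟩
    exact ⟨m, congrArg Subtype.val hm⟩
  apply sylRigid_of_pgroup p (R.map mk) (hU'.map mk)
  intro α hα hfix
  have hk0 : orderOf α ≠ 0 := fun h => hα (by rw [h]; exact dvd_zero p)
  have hk : α ^ orderOf α = 1 := pow_orderOf_eq_one α
  have hpk : Nat.Coprime p (orderOf α) := (Nat.Prime.coprime_iff_not_dvd hp).mpr hα
  -- `p`-elements of the image of `R` of order dividing `k`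
  have hRk : ∀ u ∈ R.map mk, u ^ orderOf α = 1 → u = 1 := by
    rintro _ ⟨u, hu, rfl⟩ h
    obtain ⟨m, hm⟩ := hRp u hu
    have h2 : (mk u) ^ (p ^ m) = 1 := by rw [← map_pow, hm, map_one]
    exact eq_one_of_pow_eq_one_of_coprime hpk m h2 h
  have hC1 := exists_center_mul (SUs (n := 3) φ) ((shape1 3).Q φ) (hQ1U.trans hUG)
    (cent_Q1 φ hφ2 (le_refl 3) a rfl c₀ hc₀ hc₀0 β₁ hβ₁ t₀ ht₀)
  have hCbar : ∀ z, (∀ x ∈ Q1.map mk, z * x = x * z) → z ∈ Q1.map mk := by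
    intro z hz
    apply mem_map_of_commute p Q1 (fun x hx => hRp x (hQ1R hx)) (fun z hz m h => hZ' m z hz h) hC1 z
    intro x hx
    exact hz _ (Subgroup.mem_map_of_mem mk hx)
  have hfixQ : ∀ x ∈ Q1.map mk, α x = x := fun x hx => hfix x (Subgroup.map_mono hQ1R hx)
  have hBfix : ∀ x ∈ P'.B.map mk, α x = x := by
    rintro _ ⟨b, hb, rfl⟩
    apply gen_fix α (orderOf α) hk (Q1.map mk) hfixQ (fun x hx => hRk x (Subgroup.map_mono hQ1R hx)) hCbar
    rintro _ ⟨u, hu, rfl⟩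
    have hb' : (b : ↥(GS (n := 3) φ)) ∈ Bs φ := (mem_restrict_B (SUs (n := 3) φ) hcov τ' hτ hτG b).mp hb
    have hu' : (u : ↥(GS (n := 3) φ)) ∈ (shape1 3).Q φ := Subgroup.mem_subgroupOf.mp hu
    have h3 : b * u * b⁻¹ ∈ Q1 := by
      rw [Subgroup.mem_subgroupOf]
      exact (shape1 3).conj_mem_of_mem_Bs φ shape1_ideal _ _ hb' hu'
    have e : (mk b : _) * mk u * (mk b)⁻¹ = mk (b * u * b⁻¹) := by
      rw [map_mul, map_mul, map_inv]
    show (mk b : _) * mk u * (mk b)⁻¹ ∈ Q1.map mk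
    rw [e]
    exact Subgroup.mem_map_of_mem mk h3
  have hUB : R.map mk ≤ P'.B.map mk := Subgroup.map_mono D'.hUB
  have hcover : ∀ g, g ∈ P'.B.map mk ∨ ∃ u ∈ R.map mk, ∃ b ∈ P'.B.map mk, g = u * mk (D'.e i₀) * b := by
    intro g
    obtain ⟨g, rfl⟩ := QuotientGroup.mk'_surjective _ g
    rcases rank_one_cover D' i₀ h1 g with h | ⟨u, hu, b, hb, rfl⟩
    · left
      exact Subgroup.mem_map_of_mem mk h
    · right
      refine ⟨mk u, Subgroup.mem_map_of_mem mk hu, mk b, Subgroup.mem_map_of_mem mk hb, ?_⟩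
      show mk (u * D'.e i₀ * b) = _
      rw [map_mul, map_mul]
  have hmemB : ∀ x : ↥(SUs (n := 3) φ), mk x ∈ P'.B.map mk → x ∈ P'.B := by
    intro x hx
    obtain ⟨b, hb, hbx⟩ := hx
    have h2 : b⁻¹ * x ∈ Subgroup.center ↥(SUs (n := 3) φ) := by
      have : (mk b : _) = mk x := hbx
      exact QuotientGroup.eq.mp this
    have e : x = b * (b⁻¹ * x) := by group
    rw [e]
    exact P'.B.mul_mem hb (hZB h2)
  have hreg : ∀ u ∈ R.map mk, (mk (D'.e i₀))⁻¹ * u * mk (D'.e i₀) ∈ P'.B.map mk → u = 1 := by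
    rintro _ ⟨u, hu, rfl⟩ h
    have e : (mk (D'.e i₀))⁻¹ * mk u * mk (D'.e i₀) = mk ((D'.e i₀)⁻¹ * u * D'.e i₀) := by
      rw [map_mul, map_mul, map_inv]
    rw [e] at h
    have h2 := hmemB _ h
    have h3 : u = 1 := rank_one_reg D' i₀ h1 u hu h2
    show mk u = 1
    rw [h3, map_one]
  have hcore : ∀ c, (∀ g, g⁻¹ * c * g ∈ P'.B.map mk) → c = 1 := by
    intro c hc
    have hcc : c ∈ (P'.B.map mk).normalCore := by
      intro g
      have := hc g⁻¹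
      rwa [inv_inv] at this
    rcases (Subgroup.normalCore_normal (P'.B.map mk)).eq_bot_or_eq_top with h | h
    · rw [h, Subgroup.mem_bot] at hcc
      exact hcc
    · exfalso
      have h2 : mk (D'.e i₀) ∈ (P'.B.map mk).normalCore := by rw [h]; trivial
      have h3 := hmemB _ (Subgroup.normalCore_le _ h2)
      exact S_not_mem_B (D'.e_mem_S i₀) h3
  exact r1_fix α (orderOf α) hk (P'.B.map mk) (R.map mk) (mk (D'.e i₀)) hBfix hUB hRk hcover hreg hcore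

end Cfsg.Agent.Lib.H8.PAut
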