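import Mathlib

set_option autoImplicit false

/-!
# Element orders `r * s` in an extension by an elementary abelian 2-group (helper8)

Refinement of `Cfsg.Agent.Lib.H2.PGExt.exists_order_iff`: the kernel elements commuting with
elements of odd prime order are recorded instead of being excluded.
-/

namespace Cfsg.Agent.Lib.H8.PG63

variable {H K : Type*} [Group H] [Group K]

/-- an element of order `r s` of `H` either maps to an element of order `r s`, or one of the
primes is `2` and a nontrivial element of the kernel commutes with it -/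
theorem order_ext_imp (π : H →* K) (hker : ∀ z ∈ π.ker, z * z = 1)
    {r s : ℕ} (hr : r.Prime) (hs : s.Prime) (y : H) (hy : orderOf y = r * s) :
    (orderOf (π y) = r * s) ∨
      (∃ z : H, z ∈ π.ker ∧ z ≠ 1 ∧ Commute z y ∧
        ((r = 2 ∧ orderOf (π y) = s) ∨ (s = 2 ∧ orderOf (π y) = r))) := by
  have hdvd : orderOf (π y) ∣ r * s := hy ▸ orderOf_map_dvd π y
  have hr2 := hr.two_le
  have hs2 := hs.two_le
  have key : ∀ n : ℕ, orderOf (π y) = n → n ∣ r * s → 0 < n →
      orderOf (y ^ n) = r * s / n ∧ y ^ n ∈ π.ker := by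
    intro n hn hnd hpos
    refine ⟨?_, ?_⟩
    · rw [orderOf_pow' y hpos.ne', hy, Nat.gcd_eq_right hnd]
    · rw [MonoidHom.mem_ker, map_pow, ← hn, pow_orderOf_eq_one]
  have hz2 : ∀ n : ℕ, y ^ n ∈ π.ker → orderOf (y ^ n) ∣ 2 := by
    intro n hn
    apply orderOf_dvd_of_pow_eq_one
    rw [pow_two]
    exact hker _ hn
  have hcomm : ∀ n : ℕ, Commute (y ^ n) y := fun n => (Commute.refl y).pow_left n
  rcases (Nat.dvd_mul.1 hdvd) with ⟨a, b, ha, hb, hab⟩
  rcases (Nat.dvd_prime hr).1 ha with ha1 | ha1 <;>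
    rcases (Nat.dvd_prime hs).1 hb with hb1 | hb1 <;> subst a <;> subst b
  · -- order 1
    exfalso
    obtain ⟨h1, h2⟩ := key 1 (by rw [← hab]) (by simp) one_pos
    have h3 := hz2 1 h2
    rw [h1, Nat.div_one] at h3
    have := Nat.le_of_dvd (by norm_num) h3
    nlinarith
  · -- order s
    right
    rw [one_mul] at hab
    obtain ⟨h1, h2⟩ := key s hab.symm (Dvd.intro_left r rfl) hs.pos
    have h3 := hz2 s h2
    rw [h1, Nat.mul_div_cancel _ hs.pos] at h3
    have hr2' : r = 2 := (Nat.prime_dvd_prime_iff_eq hr Nat.prime_two).1 h3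
    refine ⟨y ^ s, h2, ?_, hcomm s, Or.inl ⟨hr2', hab.symm⟩⟩
    intro h0
    rw [h0, orderOf_one, Nat.mul_div_cancel _ hs.pos] at h1
    omega
  · -- order r
    right
    rw [mul_one] at hab
    obtain ⟨h1, h2⟩ := key r hab.symm (Dvd.intro s rfl) hr.pos
    have h3 := hz2 r h2
    rw [h1, Nat.mul_div_cancel_left _ hr.pos] at h3
    have hs2' : s = 2 := (Nat.prime_dvd_prime_iff_eq hs Nat.prime_two).1 h3
    refine ⟨y ^ r, h2, ?_, hcomm r, Or.inr ⟨hs2', hab.symm⟩⟩
    intro h0
    rw [h0, orderOf_one, Nat.mul_div_cancel_left _ hr.pos] at h1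
    omega
  · left
    exact hab.symm

/-- an involution commuting with an element of odd prime order `p` gives an element of order
`2 p` -/
theorem orderOf_mul_of_involution {z y : H} (hz : z * z = 1) (hz1 : z ≠ 1) (hzy : Commute z y)
    {p : ℕ} (hp : p.Prime) (hp2 : p ≠ 2) (hy : orderOf y = p) : orderOf (z * y) = 2 * p := by
  have h2 : orderOf z = 2 := by
    apply orderOf_eq_prime
    · rw [pow_two]; exact hz
    · exact hz1
  have hco : Nat.Coprime (orderOf z) (orderOf y) := by
    rw [h2, hy]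
    exact (Nat.coprime_primes Nat.prime_two hp).2 (Ne.symm hp2)
  rw [hzy.orderOf_mul_eq_mul_orderOf_of_coprime hco, h2, hy]

end Cfsg.Agent.Lib.H8.PG63
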