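import Mathlib
import Cfsg.Prelude.Def_LieExceptional
import Cfsg.Agent.Lib.H2.SzAut1
import Cfsg.Agent.Lib.H2.SzAutCard

set_option autoImplicit false
set_option linter.unusedSectionVars false
set_option linter.unusedSimpArgs false

/-!
# The group `Sz(8) : 3` and its module `V ⊗ V^(2)` (helper8)

`KK hF = Sz F 1 ⋊ (F ≃+* F)` for a field `F` with 8 elements, acting on the `4 × 4` matrices over `F`
by `(g, τ) • X = g * X.map τ * (g^(2))ᵀ`, where `g^(2)` is `g` with all entries squared.
-/

namespace Cfsg.Agent.Lib.H8.PG63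

open Matrix Cfsg Cfsg.Agent.Lib.H2.Sz

variable {F : Type*} [Field F] [Fintype F]

/-- `|F| = 8`, in the form used by helper2's Suzuki library with `m = 1` -/
abbrev Card8 (F : Type*) [Fintype F] : Prop := Fintype.card F = 2 ^ (2 * 1 + 1)

theorem fa_one' (hF : Card8 F) : fa le_rfl hF (1 : F ≃+* F) = 1 := by
  ext g i j
  rfl

theorem fa_mul' (hF : Card8 F) (σ τ : F ≃+* F) :
    fa le_rfl hF (σ * τ) = fa le_rfl hF σ * fa le_rfl hF τ := by
  ext g i j
  rfl

/-- the field automorphisms acting on `Sz(8)` -/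
noncomputable def faHom (hF : Card8 F) : (F ≃+* F) →* MulAut (Cfsg.Sz F 1) where
  toFun τ := fa le_rfl hF τ
  map_one' := fa_one' hF
  map_mul' := fa_mul' hF

theorem faHom_apply (hF : Card8 F) (τ : F ≃+* F) : faHom hF τ = fa le_rfl hF τ := rfl

/-- `Sz(8) : 3` -/
abbrev KK (hF : Card8 F) : Type _ := Cfsg.Sz F 1 ⋊[faHom hF] (F ≃+* F)

/-- the module: `4 × 4` matrices -/
abbrev MM (F : Type*) : Type _ := Matrix (Fin 4) (Fin 4) F

/-- entrywise squaring -/
def sq (A : MM F) : MM F := A.map (fun x => x ^ 2)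

theorem sq_apply (A : MM F) (i j : Fin 4) : sq A i j = A i j ^ 2 := rfl

/-- the underlying matrix of an element of `Sz` -/
def mat (g : Cfsg.Sz F 1) : MM F := ((g : SpecialLinearGroup (Fin 4) F) : Matrix (Fin 4) (Fin 4) F)

theorem mat_one : mat (1 : Cfsg.Sz F 1) = (1 : MM F) := rfl

theorem mat_mul (g g' : Cfsg.Sz F 1) : mat (g * g') = mat g * mat g' := rfl

theorem mat_injective : Function.Injective (mat : Cfsg.Sz F 1 → MM F) := by
  intro g g' h
  apply Subtype.ext
  apply Subtype.ext
  exact h

theorem mat_fa (hF : Card8 F) (τ : F ≃+* F) (g : Cfsg.Sz F 1) :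
    mat (fa le_rfl hF τ g) = (mat g).map τ := by
  unfold mat
  rw [coe_fa]
  rfl

theorem sq_one : sq (1 : MM F) = 1 := by
  ext i j
  rw [sq_apply]
  by_cases hij : i = j
  · subst hij; simp
  · simp [Matrix.one_apply_ne hij]

theorem sq_mul (hF : Card8 F) (A B : MM F) : sq (A * B) = sq A * sq B := by
  have h := fld_of_card hF
  haveI := h.charP
  have e : ∀ C : MM F, sq C = C.map (frobenius F 2) := by
    intro C
    ext i j
    rfl
  rw [e, e, e, Matrix.map_mul]

theorem sq_map (τ : F ≃+* F) (A : MM F) : sq (A.map τ) = (sq A).map τ := by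
  ext i j
  simp [sq_apply, map_pow]

/-- the action on the module -/
def actFun (hF : Card8 F) (x : KK hF) (X : MM F) : MM F :=
  mat x.left * X.map x.right * (sq (mat x.left))ᵀ

theorem actFun_one (hF : Card8 F) (X : MM F) : actFun hF (1 : KK hF) X = X := by
  unfold actFun
  rw [SemidirectProduct.one_left, SemidirectProduct.one_right, mat_one, sq_one,
    Matrix.transpose_one, Matrix.one_mul, Matrix.mul_one]
  ext i j
  rfl

theorem actFun_mul (hF : Card8 F) (x y : KK hF) (X : MM F) :
    actFun hF (x * y) X = actFun hF x (actFun hF y X) := by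
  unfold actFun
  rw [SemidirectProduct.mul_left, SemidirectProduct.mul_right, mat_mul, faHom_apply, mat_fa,
    sq_mul hF, Matrix.transpose_mul, sq_map]
  have e1 : X.map ⇑(x.right * y.right) = (X.map ⇑y.right).map ⇑x.right := by
    ext i j
    rfl
  rw [e1, Matrix.map_mul (f := (x.right : F ≃+* F)), Matrix.map_mul (f := (x.right : F ≃+* F)),
    Matrix.transpose_map]
  simp only [Matrix.mul_assoc]

theorem actFun_add (hF : Card8 F) (x : KK hF) (X Y : MM F) :
    actFun hF x (X + Y) = actFun hF x X + actFun hF x Y := by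
  unfold actFun
  rw [Matrix.map_add (x.right : F ≃+* F) (by intro a b; exact map_add _ a b), Matrix.mul_add,
    Matrix.add_mul]

theorem actFun_zero (hF : Card8 F) (x : KK hF) : actFun hF x (0 : MM F) = 0 := by
  unfold actFun
  rw [Matrix.map_zero _ (map_zero _), Matrix.mul_zero, Matrix.zero_mul]

noncomputable instance instActKK (hF : Card8 F) : DistribMulAction (KK hF) (MM F) where
  smul := actFun hF
  one_smul := actFun_one hF
  mul_smul := actFun_mul hF
  smul_zero := actFun_zero hF
  smul_add := actFun_add hF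

theorem smul_def (hF : Card8 F) (x : KK hF) (X : MM F) :
    x • X = mat x.left * X.map x.right * (sq (mat x.left))ᵀ := rfl

/-- the action on `k` copies of the module, multiplicatively -/
noncomputable def actHom (hF : Card8 F) (k : ℕ) :
    KK hF →* MulAut (Multiplicative (Fin k → MM F)) :=
  (MulAutMultiplicative (Fin k → MM F)).symm.toMonoidHom.comp
    (DistribMulAction.toAddAut (KK hF) (Fin k → MM F))

theorem actHom_apply (hF : Card8 F) (k : ℕ) (x : KK hF) (w : Multiplicative (Fin k → MM F)) :
    actHom hF k x w = Multiplicative.ofAdd (x • Multiplicative.toAdd w) := rfl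

/-- the group `M^k ⋊ (Sz(8) : 3)` -/
abbrev HH (hF : Card8 F) (k : ℕ) : Type _ := Multiplicative (Fin k → MM F) ⋊[actHom hF k] KK hF

end Cfsg.Agent.Lib.H8.PG63
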