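import Mathlib

set_option autoImplicit false
set_option linter.unusedSectionVars false
set_option linter.unusedSimpArgs false

/-!
# `4 × 4` matrices in characteristic 2 of order 7 or 13 without fixed vectors: the characteristic
polynomial is not defined over the prime field (helper8)
-/

namespace Cfsg.Agent.Lib.H8.PG63

open Matrix Polynomial

variable {F : Type*} [Field F]

theorem two_poly_eq_zero (h2 : (2 : F) = 0) : (2 : F[X]) = 0 := by
  have : (2 : F[X]) = C (2 : F) := (C_ofNat 2).symm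
  rw [this, h2, C_0]

theorem pow_eq_one_of_mul_eq {n : ℕ} (A : Matrix (Fin 4) (Fin 4) F) (P Q : F[X])
    (hPQ : P * Q = X ^ n - 1) (hP : aeval A P = 0) : A ^ n = 1 := by
  have h1 : aeval A (P * Q) = A ^ n - 1 := by
    rw [hPQ]
    simp
  rw [map_mul, hP, zero_mul] at h1
  exact (sub_eq_zero.1 h1.symm)

theorem poly_a (h2 : (2 : F) = 0) :
    ((X : F[X]) ^ 4 + X + 1) * (1 + X + X ^ 2 + X ^ 3 + X ^ 5 + X ^ 7 + X ^ 8 + X ^ 11) =
      X ^ 15 - 1 := by
  have h := two_poly_eq_zero h2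
  linear_combination (1 + X + X ^ 2 + X ^ 3 + X ^ 4 + X ^ 5 + X ^ 6 + X ^ 7 + X ^ 8 + X ^ 9 +
    X ^ 11 + X ^ 12 : F[X]) * h

theorem poly_b (h2 : (2 : F) = 0) :
    ((X : F[X]) ^ 4 + X ^ 3 + 1) * (1 + X ^ 3 + X ^ 4 + X ^ 6 + X ^ 8 + X ^ 9 + X ^ 10 + X ^ 11) =
      X ^ 15 - 1 := by
  have h := two_poly_eq_zero h2
  linear_combination (1 + X ^ 3 + X ^ 4 + X ^ 6 + X ^ 7 + X ^ 8 + X ^ 9 + X ^ 10 + X ^ 11 +
    X ^ 12 + X ^ 13 + X ^ 14 : F[X]) * h

theorem poly_c (h2 : (2 : F) = 0) :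
    ((X : F[X]) ^ 4 + X ^ 2 + 1) * (1 + X ^ 2) = X ^ 6 - 1 := by
  have h := two_poly_eq_zero h2
  linear_combination (1 + X ^ 2 + X ^ 4 : F[X]) * h

theorem poly_d (h2 : (2 : F) = 0) :
    ((X : F[X]) ^ 4 + X ^ 3 + X ^ 2 + X + 1) * (1 + X) = X ^ 5 - 1 := by
  have h := two_poly_eq_zero h2
  linear_combination (1 + X + X ^ 2 + X ^ 3 + X ^ 4 : F[X]) * h

theorem eq_one_of_pows {M : Type*} [Monoid M] {A : M} {p n : ℕ} (hp : p = 7 ∨ p = 13)
    (hn : n = 15 ∨ n = 6 ∨ n = 5) (hA : A ^ p = 1) (hn1 : A ^ n = 1) : A = 1 := by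
  have h1 : orderOf A ∣ p := orderOf_dvd_of_pow_eq_one hA
  have h2 : orderOf A ∣ n := orderOf_dvd_of_pow_eq_one hn1
  have h3 : orderOf A ∣ Nat.gcd p n := Nat.dvd_gcd h1 h2
  have h4 : Nat.gcd p n = 1 := by
    rcases hp with rfl | rfl <;> rcases hn with rfl | rfl | rfl <;> rfl
  rw [h4, Nat.dvd_one, orderOf_eq_one_iff] at h3
  exact h3

theorem charpoly_not_stable (h2 : (2 : F) = 0)
    (A : Matrix (Fin 4) (Fin 4) F) (hdet : A.det = 1) {p : ℕ} (hp : p = 7 ∨ p = 13)
    (hA : A ^ p = 1) (hfix : ∀ v : Fin 4 → F, A *ᵥ v = v → v = 0)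
    (hstab : ∀ i, A.charpoly.coeff i ^ 2 = A.charpoly.coeff i) : False := by
  have hc : ∀ i, A.charpoly.coeff i = 0 ∨ A.charpoly.coeff i = 1 := by
    intro i
    have h := hstab i
    have h' : A.charpoly.coeff i * (A.charpoly.coeff i - 1) = 0 := by linear_combination h
    rcases mul_eq_zero.1 h' with h0 | h0
    · exact Or.inl h0
    · exact Or.inr (sub_eq_zero.1 h0)
  have hdeg : A.charpoly.natDegree = 4 := by
    rw [charpoly_natDegree_eq_dim, Fintype.card_fin]
  have hc4 : A.charpoly.coeff 4 = 1 := by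
    have := (charpoly_monic A).leadingCoeff
    rwa [leadingCoeff, hdeg] at this
  have hc0 : A.charpoly.coeff 0 = 1 := by
    have := det_eq_sign_charpoly_coeff A
    rw [hdet, Fintype.card_fin] at this
    have h4 : ((-1 : F)) ^ 4 = 1 := by norm_num
    rw [h4, one_mul] at this
    exact this.symm
  have hA1 : A ≠ 1 := by
    intro h1
    have := hfix (fun _ => 1) (by rw [h1, one_mulVec])
    have := congrFun this 0
    simp at this
  have hev : A.charpoly.eval 1 ≠ 0 := by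
    rw [eval_charpoly]
    intro h0
    obtain ⟨v, hv0, hv⟩ := (exists_mulVec_eq_zero_iff (M := (scalar (Fin 4) (1 : F) - A))).2 h0
    apply hv0
    apply hfix
    rw [sub_mulVec] at hv
    have : (scalar (Fin 4) (1 : F)) *ᵥ v = v := by simp
    rw [this] at hv
    exact (sub_eq_zero.1 hv).symm
  have hsum : A.charpoly.eval 1 = A.charpoly.coeff 0 + A.charpoly.coeff 1 + A.charpoly.coeff 2 +
      A.charpoly.coeff 3 + A.charpoly.coeff 4 := by
    rw [eval_eq_sum_range, hdeg]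
    simp [Finset.sum_range_succ]
  have hCH : A.charpoly.coeff 0 • (1 : Matrix (Fin 4) (Fin 4) F) + A.charpoly.coeff 1 • A +
      A.charpoly.coeff 2 • A ^ 2 + A.charpoly.coeff 3 • A ^ 3 + A.charpoly.coeff 4 • A ^ 4 = 0 := by
    have := aeval_self_charpoly A
    rw [aeval_eq_sum_range, hdeg] at this
    simpa [Finset.sum_range_succ] using this
  rw [hc0, hc4] at hsum hCH
  have h11 : (1 : F) + 1 = 0 := by rw [one_add_one_eq_two, h2]
  rcases hc 1 with h1 | h1 <;> rcases hc 2 with h2' | h2' <;> rcases hc 3 with h3 | h3 <;>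
    rw [h1, h2', h3] at hsum hCH
  · -- 0 0 0
    apply hev
    rw [hsum]
    linear_combination h11
  · -- 0 0 1 : X^4 + X^3 + 1
    apply hA1
    apply eq_one_of_pows hp (Or.inl rfl) hA
    apply pow_eq_one_of_mul_eq A _ _ (poly_b h2)
    simp only [map_add, map_pow, aeval_X, map_one]
    rw [← hCH]
    simp
    abel
  · -- 0 1 0 : X^4 + X^2 + 1
    apply hA1
    apply eq_one_of_pows hp (Or.inr (Or.inl rfl)) hA
    apply pow_eq_one_of_mul_eq A _ _ (poly_c h2)
    simp only [map_add, map_pow, aeval_X, map_one]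
    rw [← hCH]
    simp
    abel
  · -- 0 1 1
    apply hev
    rw [hsum]
    linear_combination 2 * h11
  · -- 1 0 0 : X^4 + X + 1
    apply hA1
    apply eq_one_of_pows hp (Or.inl rfl) hA
    apply pow_eq_one_of_mul_eq A _ _ (poly_a h2)
    simp only [map_add, map_pow, aeval_X, map_one]
    rw [← hCH]
    simp
    abel
  · -- 1 0 1
    apply hev
    rw [hsum]
    linear_combination 2 * h11
  · -- 1 1 0
    apply hev
    rw [hsum]
    linear_combination 2 * h11
  · -- 1 1 1 : Phi_5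
    apply hA1
    apply eq_one_of_pows hp (Or.inr (Or.inr rfl)) hA
    apply pow_eq_one_of_mul_eq A _ _ (poly_d h2)
    simp only [map_add, map_pow, aeval_X, map_one]
    rw [← hCH]
    simp
    abel

end Cfsg.Agent.Lib.H8.PG63
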