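import Mathlib
import Cfsg.Agent.Lib.H8.PG63B
import Cfsg.Agent.Lib.H8.PG63C
import Cfsg.Agent.Lib.H2.SzFvf
import Cfsg.Agent.S2238

set_option autoImplicit false
set_option linter.unusedSectionVars false
set_option linter.unusedSimpArgs false

/-!
# Element orders of `Sz(8) : 3` (helper8)
-/

namespace Cfsg.Agent.Lib.H8.PG63

open Matrix Cfsg Cfsg.Agent.Lib.H2.Sz

variable {F : Type*} [Field F] [Fintype F]

theorem card_gal (hF : Card8 F) : Nat.card (F ≃+* F) = 3 := by
  haveI : Fact (Nat.Prime 2) := ⟨Nat.prime_two⟩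
  have h := Cfsg.Agent.Lib.H2.SzAut.card_ringAut (F := F) (p := 2) (n := 2 * 1 + 1) hF
  simpa using h

theorem card_sz8 (hF : Card8 F) : Nat.card (Cfsg.Sz F 1) = 29120 := by
  rw [card_Sz (fld_of_card hF) le_rfl hF]
  norm_num

theorem card_KK (hF : Card8 F) : Nat.card (KK hF) = 87360 := by
  rw [SemidirectProduct.card, card_sz8 hF, card_gal hF]

instance finite_sz8 : Finite (Cfsg.Sz F 1) := inferInstance

theorem finite_gal (hF : Card8 F) : Finite (F ≃+* F) :=
  Nat.finite_of_card_ne_zero (by rw [card_gal hF]; norm_num)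

theorem finite_KK (hF : Card8 F) : Finite (KK hF) :=
  Nat.finite_of_card_ne_zero (by rw [card_KK hF]; norm_num)

/-- every element of `Sz(8)` has prime power order -/
theorem sz8_order (hF : Card8 F) (g : Cfsg.Sz F 1) :
    orderOf g ∣ 64 ∨ orderOf g ∣ 7 ∨ orderOf g ∣ 13 ∨ orderOf g ∣ 5 := by
  by_cases hg : g = 1
  · left
    rw [hg, orderOf_one]
    exact one_dvd _
  obtain ⟨U, ⟨hU, hgU⟩, -⟩ := Cfsg.Agent.S2238.result le_rfl hF g hg
  have hdvd : orderOf g ∣ Nat.card U := Subgroup.orderOf_dvd_natCard U hgU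
  rcases hU with ⟨P, rfl⟩ | ⟨-, hcard⟩
  · left
    haveI : Fact (Nat.Prime 2) := ⟨Nat.prime_two⟩
    have h1 : Nat.card (P : Subgroup (Cfsg.Sz F 1)) = 2 ^ (Nat.card (Cfsg.Sz F 1)).factorization 2 :=
      P.card_eq_multiplicity
    rw [card_sz8 hF] at h1
    have h2 : (29120 : ℕ).factorization 2 = 6 := by
      have : (29120 : ℕ) = 2 ^ 6 * 455 := by norm_num
      rw [this, Nat.factorization_mul (by norm_num) (by norm_num), Nat.factorization_pow]
      have h455 : (455 : ℕ).factorization 2 = 0 :=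
        Nat.factorization_eq_zero_of_not_dvd (by norm_num)
      simp [h455, Nat.Prime.factorization_self Nat.prime_two]
    rw [h2] at h1
    rw [h1] at hdvd
    exact hdvd
  · right
    simp only [Set.mem_insert_iff, Set.mem_singleton_iff] at hcard
    rcases hcard with h | h | h
    · left; rw [h] at hdvd; exact hdvd
    · right; left; rw [h] at hdvd; exact hdvd
    · right; right; rw [h] at hdvd; exact hdvd

theorem sz8_order_ne (hF : Card8 F) (g : Cfsg.Sz F 1) {n : ℕ}
    (hn : n = 21 ∨ n = 35 ∨ n = 39 ∨ n = 65 ∨ n = 91 ∨ n = 26 ∨ n = 10 ∨ n = 14 ∨ n = 6 ∨ n = 15) :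
    orderOf g ≠ n := by
  intro h
  have := sz8_order hF g
  rw [h] at this
  rcases hn with rfl | rfl | rfl | rfl | rfl | rfl | rfl | rfl | rfl | rfl <;> revert this <;> decide

theorem right_pow (hF : Card8 F) (x : KK hF) (n : ℕ) : (x ^ n).right = x.right ^ n :=
  map_pow (SemidirectProduct.rightHom (φ := faHom hF)) x n

theorem gal_pow_three (hF : Card8 F) (τ : F ≃+* F) : τ ^ 3 = 1 := by
  haveI := finite_gal hF
  rw [← card_gal hF]
  exact pow_card_eq_one'

theorem eq_inl_of_right (hF : Card8 F) (x : KK hF) (h : x.right = 1) :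
    x = SemidirectProduct.inl x.left := by
  apply SemidirectProduct.ext
  · rfl
  · rw [h]; rfl

theorem orderOf_inl (hF : Card8 F) (g : Cfsg.Sz F 1) :
    orderOf (SemidirectProduct.inl g : KK hF) = orderOf g :=
  orderOf_injective _ SemidirectProduct.inl_injective g

theorem mat_pow (g : Cfsg.Sz F 1) (n : ℕ) : mat (g ^ n) = mat g ^ n := by
  induction n with
  | zero => rw [pow_zero, pow_zero, mat_one]
  | succ n ih => rw [pow_succ, pow_succ, mat_mul, ih]

theorem det_mat (g : Cfsg.Sz F 1) : (mat g).det = 1 :=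
  (g : SpecialLinearGroup (Fin 4) F).2

/-- an element of `F` fixed by a nontrivial automorphism lies in the prime field -/
theorem sq_eq_of_fixed (hF : Card8 F) {τ : F ≃+* F} (hτ : τ ≠ 1) {c : F} (hc : τ c = c) :
    c ^ 2 = c := by
  have h := fld_of_card hF
  haveI := h.charP
  haveI : Fact (Nat.Prime 2) := ⟨Nat.prime_two⟩
  haveI : Fact (Nat.Prime 3) := ⟨Nat.prime_three⟩
  let φ2 : F ≃+* F := RingEquiv.ofBijective (frobenius F 2)
    ⟨frobenius_inj F 2, Finite.surjective_of_injective (frobenius_inj F 2)⟩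
  have hmem : φ2 ∈ Subgroup.zpowers τ := mem_zpowers_of_prime_card (card_gal hF) hτ
  have hle : Subgroup.zpowers τ ≤ MulAction.stabilizer (F ≃+* F) c := by
    rw [Subgroup.zpowers_le]
    exact hc
  have h1 : φ2 • c = c := hle hmem
  exact h1

theorem coeff_fixed_of_conj {A G : Matrix (Fin 4) (Fin 4) F} (τ : F ≃+* F) (hG : IsUnit G.det)
    (h : G * A.map τ = A * G) (i : ℕ) : τ (A.charpoly.coeff i) = A.charpoly.coeff i := by
  have e0 : A.map τ = A.map (τ : F →+* F) := rfl
  have hcp : (A.map (τ : F →+* F)).charpoly = A.charpoly := by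
    rw [← e0]
    have e1 : A = G * (A.map τ * G⁻¹) := by
      rw [← Matrix.mul_assoc, h, Matrix.mul_assoc, Matrix.mul_nonsing_inv _ hG, Matrix.mul_one]
    have e2 : A.map τ = (A.map τ * G⁻¹) * G := by
      rw [Matrix.mul_assoc, Matrix.nonsing_inv_mul _ hG, Matrix.mul_one]
    conv_rhs => rw [e1]
    rw [Matrix.charpoly_mul_comm, ← e2]
  rw [Matrix.charpoly_map] at hcp
  have := congrArg (fun q => Polynomial.coeff q i) hcp
  simpa [Polynomial.coeff_map] using this

/-- no element of `Sz(8) : 3` outside `Sz(8)` has order `21` or `39` -/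
theorem no_mixed (hF : Card8 F) (x : KK hF) {p : ℕ} (hp : p = 7 ∨ p = 13)
    (hx : orderOf x = 3 * p) : False := by
  have h := fld_of_card hF
  have hpp : p.Prime := by rcases hp with rfl | rfl <;> norm_num
  haveI : Fact p.Prime := ⟨hpp⟩
  have hp2 : p ≠ 2 := by rcases hp with rfl | rfl <;> norm_num
  by_cases hτ : x.right = 1
  · have h1 := eq_inl_of_right hF x hτ
    rw [h1, orderOf_inl] at hx
    refine sz8_order_ne hF x.left ?_ hx
    rcases hp with rfl | rfl
    · left; rfl
    · right; right; left; rfl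
  set y : KK hF := x ^ 3 with hy
  have hyo : orderOf y = p := by
    rw [hy, orderOf_pow' x (by norm_num), hx, Nat.gcd_mul_right_left, Nat.mul_div_cancel_left _ (by norm_num)]
  have hyr : y.right = 1 := by rw [hy, right_pow, gal_pow_three hF]
  have hyl := eq_inl_of_right hF y hyr
  set y0 := y.left with hy0
  have hy0o : orderOf y0 = p := by
    rw [← orderOf_inl hF y0, ← hyl, hyo]
  have hcomm : x * y = y * x := by
    rw [hy, ← pow_succ', ← pow_succ]
  have hl := congrArg SemidirectProduct.left hcomm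
  rw [SemidirectProduct.mul_left, SemidirectProduct.mul_left, hyr, map_one, MulAut.one_apply,
    faHom_apply] at hl
  have hm := congrArg mat hl
  rw [mat_mul, mat_mul, mat_fa] at hm
  set G := mat x.left with hG
  set Y := mat y0 with hY
  have hGdet : IsUnit G.det := by rw [hG, det_mat]; exact isUnit_one
  have hstab : ∀ i, Y.charpoly.coeff i ^ 2 = Y.charpoly.coeff i := by
    intro i
    exact sq_eq_of_fixed hF hτ (coeff_fixed_of_conj x.right hGdet hm i)
  have hYp : Y ^ p = 1 := by
    rw [hY, ← mat_pow, ← hy0o, pow_orderOf_eq_one, mat_one]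
  have hy01 : (y0 : SpecialLinearGroup (Fin 4) F) ≠ 1 := by
    intro h0
    have : y0 = 1 := Subtype.ext h0
    rw [this, orderOf_one] at hy0o
    exact hpp.one_lt.ne hy0o
  have hy0p : (y0 : SpecialLinearGroup (Fin 4) F) ^ p = 1 := by
    rw [← Subgroup.coe_pow, ← hy0o, pow_orderOf_eq_one]
    rfl
  have hfix : ∀ v : Fin 4 → F, Y *ᵥ v = v → v = 0 := by
    intro v hv
    exact eq_zero_of_fixed h le_rfl hF y0.2 hp2 hy0p hy01 hv
  exact charpoly_not_stable h.two Y (det_mat y0) hp hYp hfix hstab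

theorem kk_order_ne (hF : Card8 F) (x : KK hF) {n : ℕ}
    (hn : n = 21 ∨ n = 35 ∨ n = 39 ∨ n = 65 ∨ n = 91 ∨ n = 26) : orderOf x ≠ n := by
  intro hx
  have hcop : n = 21 ∨ n = 39 ∨ Nat.Coprime n 3 := by
    rcases hn with rfl | rfl | rfl | rfl | rfl | rfl
    · left; rfl
    · right; right; decide
    · right; left; rfl
    · right; right; decide
    · right; right; decide
    · right; right; decide
  rcases hcop with rfl | rfl | hco
  · exact no_mixed hF x (Or.inl rfl) hx
  · exact no_mixed hF x (Or.inr rfl) hx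
  · have h1 : orderOf x.right ∣ n := by
      rw [← hx]
      exact orderOf_map_dvd (SemidirectProduct.rightHom (φ := faHom hF)) x
    have h2 : orderOf x.right ∣ 3 := orderOf_dvd_of_pow_eq_one (gal_pow_three hF _)
    have h3 : orderOf x.right = 1 := Nat.eq_one_of_dvd_coprimes hco h1 h2
    have h4 : x.right = 1 := orderOf_eq_one_iff.1 h3
    have h5 := eq_inl_of_right hF x h4
    rw [h5, orderOf_inl] at hx
    refine sz8_order_ne hF x.left ?_ hx
    rcases hn with rfl | rfl | rfl | rfl | rfl | rfl <;> simp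

end Cfsg.Agent.Lib.H8.PG63
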