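import Mathlib
import Cfsg.Agent.Lib.H8.PG63D
import Cfsg.Agent.Lib.H2.Sz23
import Cfsg.Agent.Lib.H2.Sz8
import Cfsg.Agent.Lib.H12.PGraphC

set_option autoImplicit false
set_option linter.unusedSectionVars false
set_option linter.unusedSimpArgs false

/-!
# Fixed points of `Sz(8) : 3` on `V ⊗ V^(2)` (helper8)
-/

namespace Cfsg.Agent.Lib.H8.PG63

open Matrix Cfsg Cfsg.Agent.Lib.H2.Sz

variable {F : Type*} [Field F] [Fintype F]

/-- the Frobenius automorphism -/
noncomputable def frob8 (hF : Card8 F) : F ≃+* F :=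
  haveI := (fld_of_card hF).charP
  RingEquiv.ofBijective (frobenius F 2)
    ⟨frobenius_inj F 2, Finite.surjective_of_injective (frobenius_inj F 2)⟩

theorem frob8_apply (hF : Card8 F) (x : F) : frob8 hF x = x ^ 2 := rfl

theorem map_frob8 (hF : Card8 F) (A : MM F) : A.map (frob8 hF) = sq A := rfl

theorem map_one_equiv (X : MM F) : X.map ⇑(1 : F ≃+* F) = X := by
  ext i j
  rfl

theorem sq_transpose (A : MM F) : sq Aᵀ = (sq A)ᵀ := rfl

theorem sq_form : sq (suzukiForm F) = suzukiForm F := by
  ext i j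
  fin_cases i <;> fin_cases j <;> simp [sq_apply, suzukiForm]

theorem form_mul_self : suzukiForm F * suzukiForm F = 1 := by
  ext i j
  fin_cases i <;> fin_cases j <;> simp [suzukiForm, Matrix.mul_apply, Fin.sum_univ_four]

theorem pres_sq (hF : Card8 F) {A : MM F} (hA : Pres A) : Pres (sq A) := by
  unfold Pres at *
  rw [← sq_transpose, ← sq_form, ← sq_mul hF, ← sq_mul hF, hA]

theorem pres_mat (hF : Card8 F) (g : Cfsg.Sz F 1) : Pres (mat g) :=
  pres_of_mem_Sz (fld_of_card hF) le_rfl hF g.2

theorem card8 (hF : Card8 F) : Fintype.card F = 8 := by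
  rw [hF]; norm_num

theorem orderOf_eight : orderOf ((8 : ℕ) : ZMod 13) = 4 := by
  rw [orderOf_eq_iff (by norm_num)]
  decide

/-- elements of order 13 of `Sz(8)` have no nonzero fixed point on `V ⊗ V^(2)` -/
theorem fpf13_sz (hF : Card8 F) (g : Cfsg.Sz F 1) (hg : orderOf g = 13) (X : MM F)
    (hX : mat g * X * (sq (mat g))ᵀ = X) : X = 0 := by
  classical
  have h := fld_of_card hF
  haveI : Fact (Nat.Prime 13) := ⟨by norm_num⟩
  set G := mat g with hG
  set J := suzukiForm F with hJ
  have hP : (sq G)ᵀ * J * sq G = J := pres_sq hF (pres_mat hF g)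
  -- the intertwining relation
  have hint : G * (X * J) = (X * J) * sq G := by
    calc G * (X * J) = G * X * ((sq G)ᵀ * J * sq G) := by rw [hP, Matrix.mul_assoc]
      _ = (G * X * (sq G)ᵀ) * J * sq G := by simp only [Matrix.mul_assoc]
      _ = (X * J) * sq G := by rw [hX]
  by_contra hX0
  have hXJ : X * J ≠ 0 := by
    intro h0
    apply hX0
    have : X = (X * J) * J := by rw [Matrix.mul_assoc, hJ, form_mul_self, Matrix.mul_one]
    rw [this, h0, Matrix.zero_mul]
  -- `g` has no fixed vector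
  have hg1 : (g : SpecialLinearGroup (Fin 4) F) ≠ 1 := by
    intro h0
    have : g = 1 := Subtype.ext h0
    rw [this, orderOf_one] at hg
    norm_num at hg
  have hgp : (g : SpecialLinearGroup (Fin 4) F) ^ 13 = 1 := by
    rw [← Subgroup.coe_pow, ← hg, pow_orderOf_eq_one]
    rfl
  have hfix : ∀ v : Fin 4 → F, G *ᵥ v = v → v = 0 := by
    intro v hv
    exact eq_zero_of_fixed h le_rfl hF g.2 (p := 13) (by norm_num) hgp hg1 hv
  have hG13 : G ^ 13 = 1 := by
    rw [hG, ← mat_pow, ← hg, pow_orderOf_eq_one, mat_one]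
  -- the linear map
  set T : (Fin 4 → F) →ₗ[F] (Fin 4 → F) := Matrix.toLin' G with hT
  have hT13 : T ^ 13 = 1 := by
    rw [hT, ← Matrix.toLin'_pow, hG13, Matrix.toLin'_one]
    rfl
  have h13 : ((13 : ℕ) : F) ≠ 0 := by
    have h2 := h.two
    have : ((13 : ℕ) : F) = 1 := by
      push_cast
      linear_combination 6 * h2
    rw [this]
    exact one_ne_zero
  have hinj : Function.Injective (T - (1 : Module.End F (Fin 4 → F))) := by
    rw [← LinearMap.ker_eq_bot, LinearMap.ker_eq_bot']
    intro v hv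
    apply hfix
    rw [LinearMap.sub_apply, Module.End.one_apply, sub_eq_zero, hT, Matrix.toLin'_apply] at hv
    exact hv
  have hrange : LinearMap.range (T - (1 : Module.End F (Fin 4 → F))) = ⊤ :=
    LinearMap.range_eq_top.2 (LinearMap.injective_iff_surjective.1 hinj)
  set W : Submodule F (Fin 4 → F) := LinearMap.range (Matrix.toLin' (X * J)) with hW
  have hinv : ∀ w ∈ W, T w ∈ W := by
    rintro _ ⟨v, rfl⟩
    refine ⟨Matrix.toLin' (sq G) v, ?_⟩
    rw [hT, Matrix.toLin'_apply, Matrix.toLin'_apply, Matrix.toLin'_apply, Matrix.toLin'_apply,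
      Matrix.mulVec_mulVec, Matrix.mulVec_mulVec, hint]
  have hdvd := Cfsg.Agent.Lib.H12.PGraph.orderOf_dvd_finrank T 13 hT13 h13 W
    (by rw [hrange]; exact le_top) hinv
  rw [card8 hF, orderOf_eight] at hdvd
  have hle : Module.finrank F W ≤ 4 := by
    have := Submodule.finrank_le W
    simpa using this
  have hpos : 0 < Module.finrank F W := by
    rw [Module.finrank_pos_iff_exists_ne_zero]
    obtain ⟨v, hv⟩ : ∃ v, Matrix.toLin' (X * J) v ≠ 0 := by
      by_contra hcon
      push Not at hcon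
      apply hXJ
      have : Matrix.toLin' (X * J) = 0 := LinearMap.ext hcon
      rw [← Matrix.toLin'_toMatrix' (0 : (Fin 4 → F) →ₗ[F] (Fin 4 → F))] at this
      have h2 := Matrix.toLin'.injective this
      simpa using h2
    exact ⟨⟨_, ⟨v, rfl⟩⟩, fun h0 => hv (congrArg Subtype.val h0)⟩
  have h4 : Module.finrank F W = 4 := by
    obtain ⟨c, hc⟩ := hdvd
    omega
  have htop : W = ⊤ := by
    apply Submodule.eq_top_of_finrank_eq
    rw [h4]
    simp
  have hsurj : Function.Surjective (X * J).mulVec := by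
    intro v
    have : v ∈ W := by rw [htop]; trivial
    obtain ⟨u, hu⟩ := this
    exact ⟨u, by rw [← hu, Matrix.toLin'_apply]⟩
  have hunit : IsUnit (X * J).det :=
    (Matrix.isUnit_iff_isUnit_det _).1 (Matrix.mulVec_surjective_iff_isUnit.1 hsurj)
  have hstab : ∀ i, G.charpoly.coeff i ^ 2 = G.charpoly.coeff i := by
    intro i
    have := coeff_fixed_of_conj (A := G) (G := X * J) (frob8 hF) hunit
      (by rw [map_frob8]; exact hint.symm) i
    rw [frob8_apply] at this
    exact this
  exact charpoly_not_stable h.two G (det_mat g) (Or.inr rfl) hG13 hfix hstab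

/-- elements of order 13 of `Sz(8) : 3` have no nonzero fixed point -/
theorem fpf13 (hF : Card8 F) (x : KK hF) (hx : orderOf x = 13) (X : MM F) (hX : x • X = X) :
    X = 0 := by
  have h1 : orderOf x.right ∣ 13 := by
    rw [← hx]
    exact orderOf_map_dvd (SemidirectProduct.rightHom (φ := faHom hF)) x
  have h2 : orderOf x.right ∣ 3 := orderOf_dvd_of_pow_eq_one (gal_pow_three hF _)
  have h3 : orderOf x.right = 1 := Nat.eq_one_of_dvd_coprimes (by norm_num) h1 h2
  have h4 : x.right = 1 := orderOf_eq_one_iff.1 h3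
  have h5 := eq_inl_of_right hF x h4
  have h6 : orderOf x.left = 13 := by
    rw [← orderOf_inl hF, ← h5, hx]
  rw [smul_def, h4, map_one_equiv] at hX
  exact fpf13_sz hF x.left h6 X hX

end Cfsg.Agent.Lib.H8.PG63
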