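import Mathlib
import Cfsg.Agent.Lib.H8.PG63E

set_option autoImplicit false
set_option linter.unusedSectionVars false
set_option linter.unusedSimpArgs false

/-!
# Explicit elements of `Sz(8) : 3` (helper8)
-/

namespace Cfsg.Agent.Lib.H8.PG63

open Matrix Cfsg Cfsg.Agent.Lib.H2.Sz

/-- an element of order 5 of `Sz(2)` -/
def Y5z : Matrix (Fin 4) (Fin 4) (ZMod 2) := !![1,1,0,1; 1,0,1,0; 0,1,0,0; 1,0,0,0]

/-- the form -/
def Jz : Matrix (Fin 4) (Fin 4) (ZMod 2) := !![0,0,0,1; 0,0,1,0; 0,1,0,0; 1,0,0,0]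

theorem Y5z_pow : Y5z ^ 5 = 1 := by decide

theorem Y5z_ne : Y5z ≠ 1 := by decide

theorem Y5z_form : Y5z * Jz * Y5zᵀ = Jz := by decide

theorem Y5z_sq : Y5z.map (fun x => x ^ 2) = Y5z := by decide

variable {F : Type*} [Field F] [Fintype F]

section charTwo

variable [CharP F 2]

/-- the prime field embedding -/
noncomputable def ι2 (F : Type*) [Field F] [CharP F 2] : ZMod 2 →+* F := ZMod.castHom (dvd_refl 2) F

theorem map_pow' (A : Matrix (Fin 4) (Fin 4) (ZMod 2)) (n : ℕ) :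
    (A.map (ι2 F)) ^ n = (A ^ n).map (ι2 F) := by
  have := map_pow (RingHom.mapMatrix (ι2 F) (m := Fin 4)) A n
  exact this.symm

theorem sq_map_ι2 (A : Matrix (Fin 4) (Fin 4) (ZMod 2)) :
    sq (A.map (ι2 F)) = (A.map (fun x => x ^ 2)).map (ι2 F) := by
  ext i j
  show (ι2 F (A i j)) ^ 2 = ι2 F ((A i j) ^ 2)
  rw [map_pow]

theorem Jz_map : Jz.map (ι2 F) = suzukiForm F := by
  ext i j
  fin_cases i <;> fin_cases j <;> simp [Jz, suzukiForm]

end charTwo

/-- the element of order 5 -/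
noncomputable def y5 (hF : Card8 F) : Cfsg.Sz F 1 :=
  tt (fld_of_card hF) 0 1 * ww (fld_of_card hF)

theorem mat_y5 (hF : Card8 F) [CharP F 2] : mat (y5 hF) = Y5z.map (ι2 F) := by
  unfold y5
  rw [mat_mul]
  show Tm 1 (0 : F) 1 * Wm = _
  ext i j
  fin_cases i <;> fin_cases j <;>
    simp [Tm, Wm, θ, f, Y5z, Matrix.mul_apply, Fin.sum_univ_four]

theorem orderOf_y5 (hF : Card8 F) : orderOf (y5 hF) = 5 := by
  haveI := (fld_of_card hF).charP
  haveI : Fact (Nat.Prime 5) := ⟨by norm_num⟩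
  apply orderOf_eq_prime
  · apply mat_injective
    rw [mat_pow, mat_y5, map_pow', Y5z_pow, mat_one]
    ext i j
    by_cases hij : i = j
    · subst hij; simp
    · simp [Matrix.one_apply_ne hij]
  · intro h1
    have h2 := congrArg mat h1
    rw [mat_y5, mat_one] at h2
    have h3 := congrFun (congrFun h2 0) 1
    simp [Y5z] at h3

theorem y5_fixed (hF : Card8 F) :
    (SemidirectProduct.inl (y5 hF) : KK hF) • suzukiForm F = suzukiForm F := by
  haveI := (fld_of_card hF).charP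
  rw [smul_def]
  show mat (y5 hF) * (suzukiForm F).map ⇑(1 : F ≃+* F) * (sq (mat (y5 hF)))ᵀ = _
  rw [map_one_equiv, mat_y5, sq_map_ι2, Y5z_sq, ← Jz_map, ← Matrix.transpose_map,
    ← Matrix.map_mul, ← Matrix.map_mul, Y5z_form]

theorem form_ne_zero : suzukiForm F ≠ 0 := by
  intro h
  have := congrFun (congrFun h 0) 3
  simp [suzukiForm] at this

/-- an element of order 5 with a nonzero fixed point -/
theorem exists_fixed5 (hF : Card8 F) :
    ∃ x : KK hF, orderOf x = 5 ∧ ∃ X : MM F, X ≠ 0 ∧ x • X = X :=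
  ⟨SemidirectProduct.inl (y5 hF), by rw [orderOf_inl, orderOf_y5], suzukiForm F, form_ne_zero,
    y5_fixed hF⟩

theorem card_units (hF : Card8 F) : Nat.card Fˣ = 7 := by
  rw [Nat.card_units, Nat.card_eq_fintype_card, card8 hF]

/-- an element of order 7 with a nonzero fixed point -/
theorem exists_fixed7 (hF : Card8 F) :
    ∃ x : KK hF, orderOf x = 7 ∧ ∃ X : MM F, X ≠ 0 ∧ x • X = X := by
  classical
  have h := fld_of_card hF
  haveI : Fact (Nat.Prime 7) := ⟨by norm_num⟩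
  obtain ⟨k, hk⟩ := exists_unit_ne_one' h le_rfl hF
  have hk7 : k ^ 7 = 1 := by
    rw [← card_units hF]
    exact pow_card_eq_one'
  have hk7' : (k : F) ^ 7 = 1 := by
    have := congrArg Units.val hk7
    simpa using this
  have ho : orderOf (dd h k) = 7 := by
    apply orderOf_eq_prime
    · rw [← dd_pow, hk7, dd_one]
    · intro h1
      rw [← dd_one h] at h1
      exact hk (dd_injective h h1)
  refine ⟨SemidirectProduct.inl (dd h k), by rw [orderOf_inl, ho],
    !![0,1,0,0; 0,0,0,0; 0,0,0,0; 0,0,0,0], ?_, ?_⟩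
  · intro h0
    have := congrFun (congrFun h0 0) 1
    simp at this
  · rw [smul_def]
    show Dm 1 (k : F) * (!![0,1,0,0; 0,0,0,0; 0,0,0,0; 0,0,0,0] : MM F).map ⇑(1 : F ≃+* F) *
      (sq (Dm 1 (k : F)))ᵀ = _
    rw [map_one_equiv]
    have hk0 : (k : F) ≠ 0 := k.ne_zero
    ext i j
    fin_cases i <;> fin_cases j <;>
      simp [Dm, ρ, sq_apply, Matrix.mul_apply, Fin.sum_univ_four, Matrix.diagonal]
    rw [← hk7']
    ring

end Cfsg.Agent.Lib.H8.PG63
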