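import Mathlib
import Cfsg.Agent.Lib.H8.PG63F

set_option autoImplicit false
set_option linter.unusedSectionVars false
set_option linter.unusedSimpArgs false

/-!
# Elements of order 6 and 15 of `Sz(8) : 3` (helper8)
-/

namespace Cfsg.Agent.Lib.H8.PG63

open Matrix Cfsg Cfsg.Agent.Lib.H2.Sz

variable {F : Type*} [Field F] [Fintype F]

theorem exists_sigma (hF : Card8 F) : ∃ σ : F ≃+* F, orderOf σ = 3 := by
  haveI := finite_gal hF
  haveI : Fact (Nat.Prime 3) := ⟨Nat.prime_three⟩
  haveI : Nontrivial (F ≃+* F) := by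
    rw [← Finite.one_lt_card_iff_nontrivial, card_gal hF]
    norm_num
  obtain ⟨σ, hσ⟩ := exists_ne (1 : F ≃+* F)
  exact ⟨σ, orderOf_eq_prime (gal_pow_three hF σ) hσ⟩

theorem orderOf_pair (hF : Card8 F) (t : Cfsg.Sz F 1) (σ : F ≃+* F)
    (hfix : fa le_rfl hF σ t = t) {a : ℕ} (ha : orderOf t = a) (hσ : orderOf σ = 3)
    (hco : Nat.Coprime a 3) :
    orderOf ((SemidirectProduct.inl t * SemidirectProduct.inr σ : KK hF)) = a * 3 := by
  have hcomm : Commute (SemidirectProduct.inl t : KK hF) (SemidirectProduct.inr σ) := by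
    apply SemidirectProduct.ext
    · simp [faHom_apply, hfix]
    · simp
  have h1 : orderOf (SemidirectProduct.inl t : KK hF) = a := by rw [orderOf_inl, ha]
  have h2 : orderOf (SemidirectProduct.inr σ : KK hF) = 3 := by
    rw [orderOf_injective _ SemidirectProduct.inr_injective, hσ]
  rw [hcomm.orderOf_mul_eq_mul_orderOf_of_coprime (by rw [h1, h2]; exact hco), h1, h2]

theorem orderOf_t2 (hF : Card8 F) : orderOf (tt (fld_of_card hF) (0 : F) 1) = 2 := by
  have h := fld_of_card hF
  haveI : Fact (Nat.Prime 2) := ⟨Nat.prime_two⟩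
  apply orderOf_eq_prime
  · rw [pow_two, tt_mul, ← tt_zero h]
    congr 1
    · simp
    · have := h.add_self (1 : F)
      simp [θ, this]
  · intro h1
    rw [← tt_zero h] at h1
    have := (tt_injective h h1).2
    exact one_ne_zero this

theorem exists_order_six (hF : Card8 F) : ∃ x : KK hF, orderOf x = 6 := by
  have h := fld_of_card hF
  obtain ⟨σ, hσ⟩ := exists_sigma hF
  refine ⟨_, orderOf_pair hF (tt h 0 1) σ ?_ (orderOf_t2 hF) hσ (by norm_num)⟩
  rw [fa_tt h le_rfl hF, map_zero, map_one]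

theorem exists_order_fifteen (hF : Card8 F) : ∃ x : KK hF, orderOf x = 15 := by
  have h := fld_of_card hF
  obtain ⟨σ, hσ⟩ := exists_sigma hF
  refine ⟨_, orderOf_pair hF (y5 hF) σ ?_ (orderOf_y5 hF) hσ (by norm_num)⟩
  unfold y5
  rw [map_mul, fa_tt h le_rfl hF, fa_ww h le_rfl hF, map_zero, map_one]

end Cfsg.Agent.Lib.H8.PG63
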