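import Mathlib
import Cfsg.Agent.Lib.H8.PG63A
import Cfsg.Agent.Lib.H8.PG63G

set_option autoImplicit false
set_option linter.unusedSectionVars false
set_option linter.unusedSimpArgs false

/-!
# The prime graph of `M^k ⋊ (Sz(8) : 3)` (helper8)
-/

namespace Cfsg.Agent.Lib.H8.PG63

open Matrix Cfsg Cfsg.Agent.Lib.H2.Sz

variable {F : Type*} [Field F] [Fintype F]

/-- the edges of the prime graph of `PSp_6(3)` -/
def Edge (r s : ℕ) : Prop :=
  (r = 2 ∧ s = 3) ∨ (r = 3 ∧ s = 2) ∨ (r = 2 ∧ s = 5) ∨ (r = 5 ∧ s = 2) ∨
  (r = 3 ∧ s = 5) ∨ (r = 5 ∧ s = 3) ∨ (r = 2 ∧ s = 7) ∨ (r = 7 ∧ s = 2)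

/-- the vertices of the prime graph of `PSp_6(3)` -/
def Vertex (p : ℕ) : Prop := p = 2 ∨ p = 3 ∨ p = 5 ∨ p = 7 ∨ p = 13

theorem card_MM (hF : Card8 F) (k : ℕ) :
    Nat.card (Multiplicative (Fin k → MM F)) = 2 ^ (48 * k) := by
  classical
  rw [Nat.card_eq_fintype_card, Fintype.card_multiplicative, Fintype.card_fun, Fintype.card_fin]
  have : Fintype.card (MM F) = 2 ^ 48 := by
    show Fintype.card (Fin 4 → Fin 4 → F) = _
    rw [Fintype.card_fun, Fintype.card_fun, Fintype.card_fin, card8 hF]
    norm_num
  rw [this, ← pow_mul]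

theorem card_HH (hF : Card8 F) (k : ℕ) : Nat.card (HH hF k) = 2 ^ (48 * k) * 87360 := by
  rw [SemidirectProduct.card, card_MM hF, card_KK hF]

theorem finite_HH (hF : Card8 F) (k : ℕ) : Finite (HH hF k) :=
  Nat.finite_of_card_ne_zero (by rw [card_HH hF]; positivity)

theorem prime_dvd_87360 {p : ℕ} (hp : p.Prime) : p ∣ 87360 ↔ Vertex p := by
  unfold Vertex
  constructor
  · intro h
    have e : (87360 : ℕ) = 2 ^ 6 * 3 * 5 * 7 * 13 := by norm_num
    rw [e] at h
    rcases (Nat.Prime.dvd_mul hp).1 h with h | h
    · rcases (Nat.Prime.dvd_mul hp).1 h with h | h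
      · rcases (Nat.Prime.dvd_mul hp).1 h with h | h
        · rcases (Nat.Prime.dvd_mul hp).1 h with h | h
          · left
            exact (Nat.prime_dvd_prime_iff_eq hp Nat.prime_two).1 (hp.dvd_of_dvd_pow h)
          · right; left
            exact (Nat.prime_dvd_prime_iff_eq hp Nat.prime_three).1 h
        · right; right; left
          exact (Nat.prime_dvd_prime_iff_eq hp (by norm_num)).1 h
      · right; right; right; left
        exact (Nat.prime_dvd_prime_iff_eq hp (by norm_num)).1 h
    · right; right; right; right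
      exact (Nat.prime_dvd_prime_iff_eq hp (by norm_num)).1 h
  · rintro (rfl | rfl | rfl | rfl | rfl) <;> norm_num

theorem hh_prime_dvd (hF : Card8 F) (k : ℕ) {p : ℕ} (hp : p.Prime) :
    p ∣ Nat.card (HH hF k) ↔ Vertex p := by
  rw [card_HH hF, ← prime_dvd_87360 hp]
  constructor
  · intro h
    rcases (Nat.Prime.dvd_mul hp).1 h with h | h
    · have := (Nat.prime_dvd_prime_iff_eq hp Nat.prime_two).1 (hp.dvd_of_dvd_pow h)
      rw [this]
      norm_num
    · exact h
  · intro h
    exact Dvd.dvd.mul_left h _

theorem kk_prime_dvd (hF : Card8 F) (x : KK hF) {p : ℕ} (hp : p.Prime) (hx : orderOf x = p) :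
    Vertex p := by
  haveI := finite_KK hF
  rw [← prime_dvd_87360 hp, ← card_KK hF, ← hx]
  exact orderOf_dvd_natCard x

/-- an element of order `r s` of `Sz(8) : 3` gives an edge -/
theorem kk_edge (hF : Card8 F) (x : KK hF) {r s : ℕ} (hr : r.Prime) (hs : s.Prime) (hrs : r ≠ s)
    (hx : orderOf x = r * s) : Edge r s := by
  haveI := finite_KK hF
  have hdvd : r * s ∣ 87360 := by
    rw [← card_KK hF, ← hx]
    exact orderOf_dvd_natCard x
  have hr' := (prime_dvd_87360 hr).1 (Dvd.dvd.trans (Dvd.intro _ rfl) hdvd)
  have hs' := (prime_dvd_87360 hs).1 (Dvd.dvd.trans (Dvd.intro_left _ rfl) hdvd)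
  have hne := fun n hn => kk_order_ne hF x (n := n) hn
  unfold Edge
  unfold Vertex at hr' hs'
  rcases hr' with rfl | rfl | rfl | rfl | rfl <;> rcases hs' with rfl | rfl | rfl | rfl | rfl <;>
    first
    | exact absurd rfl hrs
    | (exfalso; exact hne _ (by decide) hx)
    | simp

section ext

variable (hF : Card8 F) (k : ℕ)

theorem ker_sq (z : HH hF k) (hz : z ∈ (SemidirectProduct.rightHom (φ := actHom hF k)).ker) :
    z * z = 1 := by
  have h := fld_of_card hF
  haveI := h.charP
  rw [MonoidHom.mem_ker, SemidirectProduct.rightHom_eq_right] at hz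
  apply SemidirectProduct.ext
  · rw [SemidirectProduct.mul_left, hz, map_one, MulAut.one_apply, SemidirectProduct.one_left]
    show Multiplicative.ofAdd (Multiplicative.toAdd z.left + Multiplicative.toAdd z.left) = 1
    have h0 : Multiplicative.toAdd z.left + Multiplicative.toAdd z.left = 0 := by
      funext i
      ext a b
      exact CharTwo.add_self_eq_zero _
    rw [h0]
    rfl
  · rw [SemidirectProduct.mul_right, hz, mul_one, SemidirectProduct.one_right]

theorem fixed_of_commute (y z : HH hF k)
    (hz : z ∈ (SemidirectProduct.rightHom (φ := actHom hF k)).ker) (hcomm : Commute z y) :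
    y.right • Multiplicative.toAdd z.left = Multiplicative.toAdd z.left := by
  rw [MonoidHom.mem_ker, SemidirectProduct.rightHom_eq_right] at hz
  have h1 := congrArg SemidirectProduct.left hcomm.eq
  rw [SemidirectProduct.mul_left, SemidirectProduct.mul_left, hz, map_one, MulAut.one_apply,
    mul_comm, mul_right_inj, actHom_apply] at h1
  have := congrArg Multiplicative.toAdd h1
  exact this.symm

end ext

/-- the prime graph of `M^k ⋊ (Sz(8) : 3)` -/
theorem hh_edge (hF : Card8 F) {k : ℕ} (hk : 1 ≤ k) {r s : ℕ} (hr : r.Prime) (hs : s.Prime)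
    (hrs : r ≠ s) : (∃ y : HH hF k, orderOf y = r * s) ↔ Edge r s := by
  haveI := finite_HH hF k
  set π : HH hF k →* KK hF := SemidirectProduct.rightHom with hπ
  constructor
  · rintro ⟨y, hy⟩
    rcases order_ext_imp π (ker_sq hF k) hr hs y hy with h1 | ⟨z, hz, hz1, hcomm, h1⟩
    · exact kk_edge hF (π y) hr hs hrs h1
    · have hfixed := fixed_of_commute hF k y z hz hcomm
      -- the odd prime
      have key : ∀ p : ℕ, p.Prime → p ≠ 2 → orderOf (π y) = p → p = 3 ∨ p = 5 ∨ p = 7 := by
        intro p hp hp2 hpo
        have hv := kk_prime_dvd hF (π y) hp hpo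
        unfold Vertex at hv
        rcases hv with rfl | rfl | rfl | rfl | rfl
        · exact absurd rfl hp2
        · left; rfl
        · right; left; rfl
        · right; right; rfl
        · exfalso
          apply hz1
          rw [MonoidHom.mem_ker, SemidirectProduct.rightHom_eq_right] at hz
          apply SemidirectProduct.ext
          · rw [SemidirectProduct.one_left]
            have h0 : Multiplicative.toAdd z.left = 0 := by
              funext i
              have h4 := congrFun hfixed i
              exact fpf13 hF (π y) hpo _ h4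
            exact h0
          · rw [SemidirectProduct.one_right]
            exact hz
      unfold Edge
      rcases h1 with ⟨rfl, h1⟩ | ⟨rfl, h1⟩
      · rcases key s hs (Ne.symm hrs) h1 with rfl | rfl | rfl <;> simp
      · rcases key r hr hrs h1 with rfl | rfl | rfl <;> simp
  · intro he
    have hι : Function.Injective (SemidirectProduct.inr : KK hF →* HH hF k) :=
      SemidirectProduct.inr_injective
    -- elements of order `2 p` from fixed points
    have key : ∀ p : ℕ, p.Prime → p ≠ 2 →
        (∃ x : KK hF, orderOf x = p ∧ ∃ X : MM F, X ≠ 0 ∧ x • X = X) →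
        ∃ y : HH hF k, orderOf y = 2 * p := by
      rintro p hp hp2 ⟨x, hx, X, hX0, hX⟩
      set z : HH hF k := SemidirectProduct.inl (Multiplicative.ofAdd (fun _ => X)) with hz
      have hzk : z ∈ π.ker := by
        rw [MonoidHom.mem_ker, hπ, hz, SemidirectProduct.rightHom_inl]
      have hz1 : z ≠ 1 := by
        intro h0
        have h1 := congrArg SemidirectProduct.left h0
        rw [hz, SemidirectProduct.left_inl, SemidirectProduct.one_left] at h1
        have h2 := congrFun (congrArg Multiplicative.toAdd h1) ⟨0, hk⟩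
        exact hX0 h2
      have hcomm : Commute z (SemidirectProduct.inr x) := by
        apply SemidirectProduct.ext
        · simp only [SemidirectProduct.mul_left, hz, SemidirectProduct.left_inl,
            SemidirectProduct.right_inl, SemidirectProduct.left_inr, SemidirectProduct.right_inr,
            map_one, MulAut.one_apply, mul_one, one_mul, actHom_apply]
          congr 1
          funext i
          exact hX.symm
        · simp [hz]
      refine ⟨z * SemidirectProduct.inr x, ?_⟩
      exact orderOf_mul_of_involution (ker_sq hF k z hzk) hz1 hcomm hp hp2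
        (by rw [orderOf_injective _ hι, hx])
    have k6 : ∃ y : HH hF k, orderOf y = 6 := by
      obtain ⟨x, hx⟩ := exists_order_six hF
      exact ⟨SemidirectProduct.inr x, by rw [orderOf_injective _ hι, hx]⟩
    have k15 : ∃ y : HH hF k, orderOf y = 15 := by
      obtain ⟨x, hx⟩ := exists_order_fifteen hF
      exact ⟨SemidirectProduct.inr x, by rw [orderOf_injective _ hι, hx]⟩
    have k10 := key 5 (by norm_num) (by norm_num) (exists_fixed5 hF)
    have k14 := key 7 (by norm_num) (by norm_num) (exists_fixed7 hF)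
    unfold Edge at he
    rcases he with ⟨rfl, rfl⟩ | ⟨rfl, rfl⟩ | ⟨rfl, rfl⟩ | ⟨rfl, rfl⟩ | ⟨rfl, rfl⟩ | ⟨rfl, rfl⟩ |
      ⟨rfl, rfl⟩ | ⟨rfl, rfl⟩
    · exact k6
    · exact k6
    · exact k10
    · exact k10
    · exact k15
    · exact k15
    · exact k14
    · exact k14

end Cfsg.Agent.Lib.H8.PG63
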