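import Mathlib
import Cfsg.Agent.Lib.H8.PG63H
import Cfsg.Agent.Lib.H12.PSp63a
import Cfsg.Agent.Lib.H18.PSp63b
import Cfsg.Agent.Lib.H2.SzIso

set_option autoImplicit false
set_option linter.unusedSectionVars false
set_option linter.unusedSimpArgs false

/-!
# The prime graph of `PSp_6(3)` and the groups `M^k ⋊ (Sz(8) : 3)` with the same prime graph
(helper8; the facts on `PSp_6(3)` are due to helper12 and helper18)
-/

namespace Cfsg.Agent.Lib.H8.PG63

open Cfsg

theorem psp63_vertex {F : Type*} [Field F] [Fintype F] (hF : Fintype.card F = 3) {p : ℕ}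
    (hp : p.Prime) : p ∣ Nat.card (Cfsg.PSp 3 F) ↔ Vertex p :=
  Cfsg.Agent.Lib.H12.PSp63.psp63_prime_dvd hF p hp

theorem psp63_edge {F : Type*} [Field F] [Fintype F] (hF : Fintype.card F = 3) {r s : ℕ}
    (hr : r.Prime) (hs : s.Prime) (hrs : r ≠ s) :
    (∃ g : Cfsg.PSp 3 F, orderOf g = r * s) ↔ Edge r s := by
  haveI : Finite (Cfsg.PSp 3 F) := Cfsg.Agent.Lib.H12.SpecPSp.finite_psp 3
  obtain ⟨e6, e10, e15, e14⟩ := Cfsg.Agent.Lib.H12.PSp63.psp63_exists_order hF
  constructor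
  · rintro ⟨g, hg⟩
    have hdvd : r * s ∣ Nat.card (Cfsg.PSp 3 F) := by
      rw [← hg]
      exact orderOf_dvd_natCard g
    have hr' := (psp63_vertex hF hr).1 (Dvd.dvd.trans (Dvd.intro _ rfl) hdvd)
    have hs' := (psp63_vertex hF hs).1 (Dvd.dvd.trans (Dvd.intro_left _ rfl) hdvd)
    obtain ⟨n21, n35, n39, n65, n91⟩ := Cfsg.Agent.Lib.H12.PSp63.psp63_no_order_odd hF g
    have n26 := Cfsg.Agent.Lib.H18.PSp63.psp63_no_order_26 hF g
    unfold Edge
    unfold Vertex at hr' hs'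
    rcases hr' with rfl | rfl | rfl | rfl | rfl <;> rcases hs' with rfl | rfl | rfl | rfl | rfl <;>
      first
      | exact absurd rfl hrs
      | exact absurd hg n21
      | exact absurd hg n35
      | exact absurd hg n39
      | exact absurd hg n65
      | exact absurd hg n91
      | exact absurd hg n26
      | simp
  · intro he
    unfold Edge at he
    rcases he with ⟨rfl, rfl⟩ | ⟨rfl, rfl⟩ | ⟨rfl, rfl⟩ | ⟨rfl, rfl⟩ | ⟨rfl, rfl⟩ | ⟨rfl, rfl⟩ |
      ⟨rfl, rfl⟩ | ⟨rfl, rfl⟩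
    · exact e6
    · exact e6
    · exact e10
    · exact e10
    · exact e15
    · exact e15
    · exact e14
    · exact e14

/-- groups of arbitrarily large order with the prime graph of `PSp_6(3)` -/
theorem exists_big {F : Type*} [Field F] [Fintype F] (hF : Fintype.card F = 3) (N : ℕ) :
    ∃ (H : Type) (_ : Group H) (_ : Finite H), N < Nat.card H ∧
      ((∀ p : ℕ, p.Prime → (p ∣ Nat.card (Cfsg.PSp 3 F) ↔ p ∣ Nat.card H)) ∧
      (∀ p q : ℕ, p.Prime → q.Prime → p ≠ q →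
        ((∃ g : (Cfsg.PSp 3 F), orderOf g = p * q) ↔ (∃ g : H, orderOf g = p * q)))) := by
  obtain ⟨K, _, _, hK⟩ := Cfsg.Agent.Lib.H2.Sz.exists_model 1
  refine ⟨HH hK (N + 1), inferInstance, finite_HH hK (N + 1), ?_, ?_, ?_⟩
  · rw [card_HH hK]
    calc N < 2 ^ N := Nat.lt_two_pow_self
      _ ≤ 2 ^ (48 * (N + 1)) := Nat.pow_le_pow_right (by norm_num) (by omega)
      _ ≤ 2 ^ (48 * (N + 1)) * 87360 := Nat.le_mul_of_pos_right _ (by norm_num)
  · intro p hp
    rw [psp63_vertex hF hp, hh_prime_dvd hK (N + 1) hp]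
  · intro p q hp hq hpq
    rw [psp63_edge hF hp hq hpq, hh_edge hK (by omega) hp hq hpq]

end Cfsg.Agent.Lib.H8.PG63
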