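import Mathlib

set_option autoImplicit false

/-!
# `F₂`-valued functions on a set, extended by permutations (helper8)

`BB α = (α → ZMod 2) ⋊ Perm α`, with the power formula `(f, σ)^n = (∑_{i<n} σ^i • f, σ^n)`.
-/

namespace Cfsg.Agent.Lib.H8.PGL

variable {α : Type*}

/-- permutations acting on functions: `(σ • f) x = f (σ⁻¹ x)` -/
def pAct (σ : Equiv.Perm α) (f : α → ZMod 2) : α → ZMod 2 := fun x => f (σ⁻¹ x)

theorem pAct_apply (σ : Equiv.Perm α) (f : α → ZMod 2) (x : α) : pAct σ f x = f (σ⁻¹ x) := rfl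

theorem pAct_one (f : α → ZMod 2) : pAct 1 f = f := by
  funext x; simp [pAct]

theorem pAct_mul (σ τ : Equiv.Perm α) (f : α → ZMod 2) : pAct (σ * τ) f = pAct σ (pAct τ f) := by
  funext x; simp [pAct, mul_inv_rev]

theorem pAct_add (σ : Equiv.Perm α) (f g : α → ZMod 2) : pAct σ (f + g) = pAct σ f + pAct σ g := by
  funext x; simp [pAct]

theorem pAct_zero (σ : Equiv.Perm α) : pAct σ (0 : α → ZMod 2) = 0 := by
  funext x; simp [pAct]

theorem pAct_sum {ι : Type*} (σ : Equiv.Perm α) (s : Finset ι) (f : ι → α → ZMod 2) :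
    pAct σ (∑ i ∈ s, f i) = ∑ i ∈ s, pAct σ (f i) := by
  funext x; simp [pAct, Finset.sum_apply]

/-- the action as a homomorphism into the automorphisms of the (multiplicative) function group -/
def pHom : Equiv.Perm α →* MulAut (Multiplicative (α → ZMod 2)) where
  toFun σ :=
    { toFun := fun f => Multiplicative.ofAdd (pAct σ (Multiplicative.toAdd f))
      invFun := fun f => Multiplicative.ofAdd (pAct σ⁻¹ (Multiplicative.toAdd f))
      left_inv := by
        intro f
        show Multiplicative.ofAdd (pAct σ⁻¹ (pAct σ (Multiplicative.toAdd f))) = f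
        rw [← pAct_mul, inv_mul_cancel, pAct_one]; rfl
      right_inv := by
        intro f
        show Multiplicative.ofAdd (pAct σ (pAct σ⁻¹ (Multiplicative.toAdd f))) = f
        rw [← pAct_mul, mul_inv_cancel, pAct_one]; rfl
      map_mul' := by
        intro f g
        show Multiplicative.ofAdd (pAct σ (Multiplicative.toAdd f + Multiplicative.toAdd g)) = _
        rw [pAct_add]; rfl }
  map_one' := by
    apply MulEquiv.ext
    intro f
    show Multiplicative.ofAdd (pAct 1 (Multiplicative.toAdd f)) = f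
    rw [pAct_one]; rfl
  map_mul' := by
    intro σ τ
    apply MulEquiv.ext
    intro f
    show Multiplicative.ofAdd (pAct (σ * τ) (Multiplicative.toAdd f)) = _
    rw [pAct_mul]; rfl

theorem pHom_apply (σ : Equiv.Perm α) (f : Multiplicative (α → ZMod 2)) :
    pHom σ f = Multiplicative.ofAdd (pAct σ (Multiplicative.toAdd f)) := rfl

/-- the big group -/
abbrev BB (α : Type*) : Type _ := Multiplicative (α → ZMod 2) ⋊[pHom (α := α)] Equiv.Perm α

/-- constructor -/
def bmk (f : α → ZMod 2) (σ : Equiv.Perm α) : BB α := ⟨Multiplicative.ofAdd f, σ⟩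

theorem bmk_left (f : α → ZMod 2) (σ : Equiv.Perm α) :
    Multiplicative.toAdd (bmk f σ).left = f := rfl

theorem bmk_right (f : α → ZMod 2) (σ : Equiv.Perm α) : (bmk f σ).right = σ := rfl

theorem bmk_eta (x : BB α) : x = bmk (Multiplicative.toAdd x.left) x.right := by
  apply SemidirectProduct.ext <;> rfl

theorem bmk_mul (f g : α → ZMod 2) (σ τ : Equiv.Perm α) :
    bmk f σ * bmk g τ = bmk (f + pAct σ g) (σ * τ) := by
  apply SemidirectProduct.ext
  · rw [SemidirectProduct.mul_left]; rfl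
  · rw [SemidirectProduct.mul_right]; rfl

theorem bmk_one : (1 : BB α) = bmk 0 1 := by
  apply SemidirectProduct.ext <;> rfl

theorem bmk_inj {f g : α → ZMod 2} {σ τ : Equiv.Perm α} (h : bmk f σ = bmk g τ) : f = g ∧ σ = τ := by
  constructor
  · have := congrArg (fun x : BB α => Multiplicative.toAdd x.left) h
    exact this
  · have := congrArg (fun x : BB α => x.right) h
    exact this

theorem bmk_pow (f : α → ZMod 2) (σ : Equiv.Perm α) (n : ℕ) :
    bmk f σ ^ n = bmk (∑ i ∈ Finset.range n, pAct (σ ^ i) f) (σ ^ n) := by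
  induction n with
  | zero => simp [bmk_one]
  | succ n ih =>
    rw [pow_succ, ih, bmk_mul, Finset.sum_range_succ, pow_succ]

theorem bmk_inv (f : α → ZMod 2) (σ : Equiv.Perm α) :
    (bmk f σ)⁻¹ = bmk (pAct σ⁻¹ f) σ⁻¹ := by
  apply inv_eq_of_mul_eq_one_right
  have h2 : f + f = 0 := by funext x; exact CharTwo.add_self_eq_zero (f x)
  rw [bmk_mul, ← pAct_mul, mul_inv_cancel, pAct_one, h2, bmk_one]

/-- the norm operator of `σ` -/
def pNorm (σ : Equiv.Perm α) (n : ℕ) (f : α → ZMod 2) : α → ZMod 2 :=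
  ∑ i ∈ Finset.range n, pAct (σ ^ i) f

theorem pNorm_apply (σ : Equiv.Perm α) (n : ℕ) (f : α → ZMod 2) (x : α) :
    pNorm σ n f x = ∑ i ∈ Finset.range n, f ((σ ^ i)⁻¹ x) := by
  simp [pNorm, Finset.sum_apply, pAct]

theorem bmk_pow' (f : α → ZMod 2) (σ : Equiv.Perm α) (n : ℕ) :
    bmk f σ ^ n = bmk (pNorm σ n f) (σ ^ n) := bmk_pow f σ n

theorem bmk_sq_one (f : α → ZMod 2) : bmk f (1 : Equiv.Perm α) ^ 2 = 1 := by
  have h2 : f + f = 0 := by funext x; exact CharTwo.add_self_eq_zero (f x)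
  rw [pow_two, bmk_mul, pAct_one, h2, mul_one, bmk_one]

theorem bmk_pow_two_mul (f : α → ZMod 2) (σ : Equiv.Perm α) (n : ℕ) (h : σ ^ n = 1) :
    bmk f σ ^ (2 * n) = 1 := by
  rw [mul_comm, pow_mul, bmk_pow', h, bmk_sq_one]

theorem orderOf_bmk_dvd (f : α → ZMod 2) (σ : Equiv.Perm α) (n : ℕ) (h : σ ^ n = 1) :
    orderOf (bmk f σ) ∣ 2 * n :=
  orderOf_dvd_of_pow_eq_one (bmk_pow_two_mul f σ n h)

theorem bmk_pow_eq_one (f : α → ZMod 2) (σ : Equiv.Perm α) (n : ℕ) (h : σ ^ n = 1)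
    (hN : pNorm σ n f = 0) : bmk f σ ^ n = 1 := by
  rw [bmk_pow', h, hN, bmk_one]

theorem orderOf_dvd_orderOf_bmk (f : α → ZMod 2) (σ : Equiv.Perm α) :
    orderOf σ ∣ orderOf (bmk f σ) :=
  orderOf_map_dvd (SemidirectProduct.rightHom (φ := pHom (α := α))) (bmk f σ)

theorem orderOf_bmk_eq (f : α → ZMod 2) (σ : Equiv.Perm α) (n : ℕ) (hn : 0 < n)
    (hσ : orderOf σ = n) (hN : pNorm σ n f ≠ 0) : orderOf (bmk f σ) = 2 * n := by
  have h1 : σ ^ n = 1 := by rw [← hσ]; exact pow_orderOf_eq_one σ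
  have hd : orderOf (bmk f σ) ∣ 2 * n := orderOf_bmk_dvd f σ n h1
  have hd' : n ∣ orderOf (bmk f σ) := hσ ▸ orderOf_dvd_orderOf_bmk f σ
  obtain ⟨k, hk⟩ := hd'
  have hk2 : k ∣ 2 := by
    rw [hk, mul_comm 2 n] at hd
    exact Nat.dvd_of_mul_dvd_mul_left hn hd
  rcases (Nat.dvd_prime Nat.prime_two).mp hk2 with h | h
  · exfalso
    rw [h, mul_one] at hk
    have := pow_orderOf_eq_one (bmk f σ)
    rw [hk, bmk_pow', h1, bmk_one] at this
    exact hN (bmk_inj this).1
  · rw [hk, h, mul_comm]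

theorem orderOf_bmk_zero (σ : Equiv.Perm α) : orderOf (bmk (0 : α → ZMod 2) σ) = orderOf σ := by
  have : bmk (0 : α → ZMod 2) σ = SemidirectProduct.inr σ := by
    apply SemidirectProduct.ext <;> rfl
  rw [this]
  exact orderOf_injective _ SemidirectProduct.inr_injective σ

end Cfsg.Agent.Lib.H8.PGL
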