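import Mathlib

set_option autoImplicit false

/-!
# Trace zero `2 × 2` matrices: the quadric `X² = δ`, plane sections (helper8)
-/

namespace Cfsg.Agent.Lib.H8.PGL

open Matrix

section quad

variable {F : Type*} [Field F] [Fintype F]

/-- a quadratic function with nonzero discriminant takes each value an even number of times -/
theorem even_quad (h2 : (2 : F) ≠ 0) (A B C t : F) (hA : A ≠ 0)
    (hd : B ^ 2 - 4 * A * (C - t) ≠ 0) (P : F → Prop) [DecidablePred P]
    (hP : ∀ s, P s ↔ A * s ^ 2 + B * s + C = t) :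
    ∑ s : F, (if P s then (1 : ZMod 2) else 0) = 0 := by
  apply Finset.sum_involution (fun s _ => -B / A - s)
  · intro s _
    have hiff : P (-B / A - s) ↔ P s := by
      rw [hP, hP]
      have : A * (-B / A - s) ^ 2 + B * (-B / A - s) + C = A * s ^ 2 + B * s + C := by
        field_simp
        ring
      rw [this]
    by_cases hs : P s
    · rw [if_pos hs, if_pos (hiff.mpr hs)]
      exact CharTwo.add_self_eq_zero 1
    · rw [if_neg hs, if_neg (fun h => hs (hiff.mp h))]
      simp
  · intro s _ hne heq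
    have hs : P s := by
      by_contra h
      rw [if_neg h] at hne
      exact hne rfl
    rw [hP] at hs
    apply hd
    have h2s : 2 * s = -B / A := by linear_combination -heq
    have hs' : s = -B / (2 * A) := by
      field_simp
      field_simp at h2s
      linear_combination h2s
    rw [hs'] at hs
    field_simp at hs
    linear_combination -hs
  · intro s _
    exact Finset.mem_univ _
  · intro s _
    ring

end quad

section tz

variable {F : Type*} [Field F]

local notation "M2" => Matrix (Fin 2) (Fin 2) F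

/-- the trace zero matrix with entries `a, b, c` -/
def tz (a b c : F) : M2 := !![a, b; c, -a]

theorem tz_trace (a b c : F) : (tz a b c).trace = 0 := by
  simp [tz, Matrix.trace_fin_two]

theorem eq_tz (X : M2) (h : X.trace = 0) : X = tz (X 0 0) (X 0 1) (X 1 0) := by
  rw [Matrix.trace_fin_two] at h
  have h11 : X 1 1 = -X 0 0 := by linear_combination h
  ext i j
  fin_cases i <;> fin_cases j <;> simp [tz, h11]

theorem exists_tz (X : M2) (h : X.trace = 0) : ∃ a b c : F, X = tz a b c :=
  ⟨_, _, _, eq_tz X h⟩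

theorem tz_mul_self (a b c : F) : tz a b c * tz a b c = (a ^ 2 + b * c) • (1 : M2) := by
  ext i j
  fin_cases i <;> fin_cases j <;> simp [tz, Matrix.mul_apply, Fin.sum_univ_two] <;> ring

theorem smul_one_eq_iff (x y : F) : x • (1 : M2) = y • (1 : M2) ↔ x = y := by
  constructor
  · intro h
    have := congrFun (congrFun h 0) 0
    simpa using this
  · rintro rfl; rfl

theorem tz_sq_iff (a b c δ : F) : tz a b c * tz a b c = δ • (1 : M2) ↔ a ^ 2 + b * c = δ := by
  rw [tz_mul_self, smul_one_eq_iff]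

theorem tz_eq_zero_iff (a b c : F) : tz a b c = 0 ↔ a = 0 ∧ b = 0 ∧ c = 0 := by
  constructor
  · intro h
    refine ⟨?_, ?_, ?_⟩
    · simpa [tz] using congrFun (congrFun h 0) 0
    · simpa [tz] using congrFun (congrFun h 0) 1
    · simpa [tz] using congrFun (congrFun h 1) 0
  · rintro ⟨rfl, rfl, rfl⟩
    ext i j
    fin_cases i <;> fin_cases j <;> simp [tz]

theorem tz_pair (a b c a' b' c' : F) :
    (tz a b c * tz a' b' c').trace = 2 * a * a' + b * c' + c * b' := by
  simp [tz, Matrix.trace_fin_two]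
  ring

/-- a nonzero nilpotent is not orthogonal to a point of the quadric `X² = δ`, `δ` a nonsquare -/
theorem pair_nilp_ne_zero {X E : M2} {δ : F} (hδ : ¬ IsSquare δ) (hX0 : X.trace = 0)
    (hX : X * X = δ • (1 : M2)) (hE0 : E.trace = 0) (hE : E * E = 0) (hE1 : E ≠ 0) :
    (X * E).trace ≠ 0 := by
  obtain ⟨a, b, c, rfl⟩ := exists_tz X hX0
  obtain ⟨e1, e2, e3, rfl⟩ := exists_tz E hE0
  rw [tz_sq_iff] at hX
  have hE' : e1 ^ 2 + e2 * e3 = 0 := by
    have : tz e1 e2 e3 * tz e1 e2 e3 = (0 : F) • (1 : M2) := by rw [hE, zero_smul]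
    rwa [tz_sq_iff] at this
  rw [tz_pair]
  intro hx
  have h2 : (b * e1 - a * e2) ^ 2 = δ * e2 ^ 2 := by
    linear_combination (-(b * e2)) * hx + (b ^ 2) * hE' + (e2 ^ 2) * hX
  have h3 : (c * e1 - a * e3) ^ 2 = δ * e3 ^ 2 := by
    linear_combination (-(c * e3)) * hx + (c ^ 2) * hE' + (e3 ^ 2) * hX
  have he2 : e2 = 0 := by
    by_contra hne
    apply hδ
    refine ⟨(b * e1 - a * e2) / e2, ?_⟩
    field_simp
    linear_combination -h2
  have he3 : e3 = 0 := by
    by_contra hne
    apply hδ
    refine ⟨(c * e1 - a * e3) / e3, ?_⟩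
    field_simp
    linear_combination -h3
  have he1 : e1 = 0 := by
    rw [he2, zero_mul, add_zero] at hE'
    exact pow_eq_zero_iff (two_ne_zero) |>.mp hE'
  apply hE1
  rw [tz_eq_zero_iff]
  exact ⟨he1, he2, he3⟩

/-- the norm form `x² - κxy + y²` is anisotropic when `κ² - 4` is a nonsquare -/
theorem aniso {κ x y : F} (hκ : ¬ IsSquare (κ ^ 2 - 4))
    (h : x ^ 2 - κ * x * y + y ^ 2 = 0) : x = 0 ∧ y = 0 := by
  have hy : y = 0 := by
    by_contra hne
    apply hκ
    refine ⟨(2 * x - κ * y) / y, ?_⟩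
    field_simp
    linear_combination (-4 : F) * h
  refine ⟨?_, hy⟩
  rw [hy] at h
  have : x ^ 2 = 0 := by linear_combination h
  exact pow_eq_zero_iff (two_ne_zero) |>.mp this

/-- trace zero matrices commuting with a point of the quadric are multiples of it -/
theorem tz_comm_parallel (h2 : (2 : F) ≠ 0) {X R : M2} {δ : F} (hδ : δ ≠ 0) (hX0 : X.trace = 0)
    (hX : X * X = δ • (1 : M2)) (hR0 : R.trace = 0) (hc : X * R = R * X) :
    ∃ l : F, R = l • X := by
  obtain ⟨a, b, c, rfl⟩ := exists_tz X hX0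
  obtain ⟨r1, r2, r3, rfl⟩ := exists_tz R hR0
  rw [tz_sq_iff] at hX
  have e00 := congrFun (congrFun hc 0) 0
  have e01 := congrFun (congrFun hc 0) 1
  have e10 := congrFun (congrFun hc 1) 0
  simp only [tz, Matrix.mul_apply, Fin.sum_univ_two, Matrix.of_apply, Matrix.cons_val',
    Matrix.cons_val_zero, Matrix.cons_val_one, Matrix.cons_val_fin_one] at e00 e01 e10
  have k1 : b * r3 = r2 * c := by linear_combination e00
  have k2 : a * r2 = b * r1 := by
    have : 2 * (a * r2 - b * r1) = 0 := by linear_combination e01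
    have := (mul_eq_zero.mp this).resolve_left h2
    linear_combination this
  have k3 : c * r1 = a * r3 := by
    have : 2 * (c * r1 - a * r3) = 0 := by linear_combination e10
    have := (mul_eq_zero.mp this).resolve_left h2
    linear_combination this
  by_cases ha : a = 0
  · have hbc : b * c = δ := by rw [ha] at hX; linear_combination hX
    have hb : b ≠ 0 := by rintro rfl; apply hδ; rw [← hbc, zero_mul]
    have hc' : c ≠ 0 := by rintro rfl; apply hδ; rw [← hbc, mul_zero]
    have hr1 : r1 = 0 := by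
      have : b * r1 = 0 := by rw [← k2, ha, zero_mul]
      exact (mul_eq_zero.mp this).resolve_left hb
    refine ⟨r2 / b, ?_⟩
    ext i j
    fin_cases i <;> fin_cases j <;> simp [tz, ha, hr1]
    · field_simp
    · field_simp
      linear_combination k1
  · refine ⟨r1 / a, ?_⟩
    ext i j
    fin_cases i <;> fin_cases j <;> simp [tz]
    · field_simp
    · field_simp
      linear_combination k2
    · field_simp
      linear_combination -k3
    · field_simp

/-- the conjugates of `v` under the unipotent group `1 + sE` meet a plane section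
`tr(X n) = κ δ` with `κ² - 4` a nonsquare in an even number of points -/
theorem even_section [Fintype F] (h2 : (2 : F) ≠ 0) {δ κ : F} (hδ : ¬ IsSquare δ)
    (hκ : ¬ IsSquare (κ ^ 2 - 4)) {v n E : M2} (hv0 : v.trace = 0) (hv : v * v = δ • (1 : M2))
    (hn0 : n.trace = 0) (hn : n * n = δ • (1 : M2)) (hE0 : E.trace = 0) (hE : E * E = 0)
    (hE1 : E ≠ 0) (P : F → Prop) [DecidablePred P]
    (hP : ∀ s, P s ↔ ((1 + s • E) * v * (1 - s • E) * n).trace = κ * δ) :
    ∑ s : F, (if P s then (1 : ZMod 2) else 0) = 0 := by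
  have hx := pair_nilp_ne_zero hδ hv0 hv hE0 hE hE1
  have hy := pair_nilp_ne_zero hδ hn0 hn hE0 hE hE1
  obtain ⟨a, b, c, rfl⟩ := exists_tz v hv0
  obtain ⟨a', b', c', rfl⟩ := exists_tz n hn0
  obtain ⟨e1, e2, e3, rfl⟩ := exists_tz E hE0
  rw [tz_sq_iff] at hv hn
  have hE' : e1 ^ 2 + e2 * e3 = 0 := by
    have : tz e1 e2 e3 * tz e1 e2 e3 = (0 : F) • (1 : M2) := by rw [hE, zero_smul]
    rwa [tz_sq_iff] at this
  rw [tz_pair] at hx hy
  set x := 2 * a * e1 + b * e3 + c * e2 with hxdef
  set y := 2 * a' * e1 + b' * e3 + c' * e2 with hydef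
  set z := 2 * a * a' + b * c' + c * b' with hzdef
  set q1 := 2 * (e1 * (b * c' - b' * c) + e2 * (c * a' - a * c') + e3 * (a * b' - b * a')) with hq1
  have hN : x ^ 2 - κ * x * y + y ^ 2 ≠ 0 := fun h => hx (aniso hκ h).1
  have hδ0 : δ ≠ 0 := by
    rintro rfl
    exact hδ ⟨0, by ring⟩
  apply even_quad h2 (-(x * y)) q1 z (κ * δ) (neg_ne_zero.mpr (mul_ne_zero hx hy))
  · have : q1 ^ 2 - 4 * (-(x * y)) * (z - κ * δ) = 4 * δ * (x ^ 2 - κ * x * y + y ^ 2) := by
      rw [hq1, hxdef, hydef, hzdef]
      linear_combination (4 * (2 * a * a' + b * c' + c * b') ^ 2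
        - 16 * (a ^ 2 + b * c) * (a' ^ 2 + b' * c')) * hE'
        + 4 * (2 * a' * e1 + b' * e3 + c' * e2) ^ 2 * hv
        + 4 * (2 * a * e1 + b * e3 + c * e2) ^ 2 * hn
    rw [this]
    have h4 : (4 : F) ≠ 0 := by
      have : (4 : F) = 2 * 2 := by norm_num
      rw [this]; exact mul_ne_zero h2 h2
    exact mul_ne_zero (mul_ne_zero h4 hδ0) hN
  · intro s
    rw [hP]
    have : ((1 + s • tz e1 e2 e3) * tz a b c * (1 - s • tz e1 e2 e3) * tz a' b' c').trace
        = -(x * y) * s ^ 2 + q1 * s + z := by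
      rw [hq1, hxdef, hydef, hzdef]
      simp [tz, Matrix.mul_apply, Fin.sum_univ_two, Matrix.trace_fin_two, Matrix.one_apply]
      linear_combination (s ^ 2 * (2 * a * a' + b * c' + c * b')) * hE'
    rw [this]

theorem tz_anticomm {X Y : M2} (hX : X.trace = 0) (hY : Y.trace = 0) :
    X * Y + Y * X = (X * Y).trace • (1 : M2) := by
  obtain ⟨a, b, c, rfl⟩ := exists_tz X hX
  obtain ⟨a', b', c', rfl⟩ := exists_tz Y hY
  rw [tz_pair]
  ext i j
  fin_cases i <;> fin_cases j <;> simp [tz] <;> ring

/-- two plane sections of the quadric whose normals span a plane through a common point `w`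
meet only in `w` -/
theorem tangent_unique {δ : F} (hδ : ¬ IsSquare δ) {v w n₁ n₂ : M2} (hv0 : v.trace = 0)
    (hw0 : w.trace = 0) (hn0 : n₂.trace = 0) (hv : v * v = δ • (1 : M2))
    (hw : w * w = δ • (1 : M2)) (hn : n₂ * n₂ = δ • (1 : M2)) (α β : F)
    (hw' : w = α • n₁ + β • n₂) (h1 : (v * n₁).trace = (w * n₁).trace)
    (h2 : (v * n₂).trace = (w * n₂).trace) : v = w := by
  set d := v - w with hd
  have hd0 : d.trace = 0 := by rw [hd, Matrix.trace_sub, hv0, hw0, sub_zero]
  have e1 : (d * n₁).trace = 0 := by rw [hd, Matrix.sub_mul, Matrix.trace_sub, h1, sub_self]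
  have e2 : (d * n₂).trace = 0 := by rw [hd, Matrix.sub_mul, Matrix.trace_sub, h2, sub_self]
  have e3 : (w * d).trace = 0 := by
    rw [Matrix.trace_mul_comm, hw', Matrix.mul_add, Matrix.trace_add, Matrix.mul_smul,
      Matrix.mul_smul, Matrix.trace_smul, Matrix.trace_smul, e1, e2]
    simp
  have hvw : v = w + d := by rw [hd]; abel
  have hdd : d * d = 0 := by
    have h := tz_anticomm hw0 hd0
    rw [e3, zero_smul] at h
    have : v * v = w * w + (w * d + d * w) + d * d := by
      rw [hvw]; noncomm_ring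
    rw [hv, hw, h, add_zero] at this
    exact (left_eq_add.mp this)
  by_contra hne
  have hd1 : d ≠ 0 := by
    intro h0
    apply hne
    rw [hvw, h0, add_zero]
  have := pair_nilp_ne_zero hδ hn0 hn hd0 hdd hd1
  rw [Matrix.trace_mul_comm] at this
  exact this e2

end tz

end Cfsg.Agent.Lib.H8.PGL
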