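import Mathlib
import Cfsg.Agent.Lib.H8.PGLb
import Cfsg.Agent.Lib.H12.SL2Reg

set_option autoImplicit false

/-!
# `SL₂(F)` acting on the quadric `X² = δ` by conjugation (helper8)
-/

namespace Cfsg.Agent.Lib.H8.PGL

open Matrix

variable {F : Type*} [Field F]

local notation "M2" => Matrix (Fin 2) (Fin 2) F
local notation "SL2" => Matrix.SpecialLinearGroup (Fin 2) F

/-- conjugation by an element of `SL₂` -/
def cj (g : SL2) (X : M2) : M2 := (g : M2) * X * ((g⁻¹ : SL2) : M2)

theorem inv_mul_val (g : SL2) : ((g⁻¹ : SL2) : M2) * (g : M2) = 1 := by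
  rw [← Matrix.SpecialLinearGroup.coe_mul, inv_mul_cancel, Matrix.SpecialLinearGroup.coe_one]

theorem mul_inv_val (g : SL2) : (g : M2) * ((g⁻¹ : SL2) : M2) = 1 := by
  rw [← Matrix.SpecialLinearGroup.coe_mul, mul_inv_cancel, Matrix.SpecialLinearGroup.coe_one]

theorem cj_one (X : M2) : cj (1 : SL2) X = X := by
  simp [cj]

theorem cj_mul (g h : SL2) (X : M2) : cj (g * h) X = cj g (cj h X) := by
  rw [cj, cj, cj, _root_.mul_inv_rev, Matrix.SpecialLinearGroup.coe_mul,
    Matrix.SpecialLinearGroup.coe_mul]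
  simp only [Matrix.mul_assoc]

theorem cj_trace (g : SL2) (X : M2) : (cj g X).trace = X.trace := by
  rw [cj, Matrix.trace_mul_cycle, inv_mul_val, Matrix.one_mul]

theorem cj_mul_mul (g : SL2) (X Y : M2) : cj g (X * Y) = cj g X * cj g Y := by
  simp only [cj]
  calc (g : M2) * (X * Y) * ((g⁻¹ : SL2) : M2)
      = (g : M2) * X * (1 : M2) * Y * ((g⁻¹ : SL2) : M2) := by
        simp only [Matrix.mul_one, Matrix.mul_assoc]
    _ = (g : M2) * X * ((g⁻¹ : SL2) : M2) * ((g : M2) * Y * ((g⁻¹ : SL2) : M2)) := by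
        rw [← inv_mul_val g]; simp only [Matrix.mul_assoc]

theorem cj_smul_one (g : SL2) (c : F) : cj g (c • (1 : M2)) = c • (1 : M2) := by
  rw [cj, Matrix.mul_smul, Matrix.mul_one, Matrix.smul_mul, mul_inv_val]

theorem cj_zero (g : SL2) : cj g (0 : M2) = 0 := by simp [cj]

theorem cj_add (g : SL2) (X Y : M2) : cj g (X + Y) = cj g X + cj g Y := by
  simp [cj, Matrix.mul_add, Matrix.add_mul]

theorem cj_smul (g : SL2) (c : F) (X : M2) : cj g (c • X) = c • cj g X := by
  simp [cj]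

theorem cj_eq_zero_iff (g : SL2) (X : M2) : cj g X = 0 ↔ X = 0 := by
  constructor
  · intro h
    have := congrArg (cj g⁻¹) h
    rwa [← cj_mul, inv_mul_cancel, cj_one, cj_zero] at this
  · rintro rfl; exact cj_zero g

theorem cj_eq_self_iff (g : SL2) (X : M2) : cj g X = X ↔ (g : M2) * X = X * (g : M2) := by
  constructor
  · intro h
    calc (g : M2) * X = (g : M2) * X * (((g⁻¹ : SL2) : M2) * (g : M2)) := by
          rw [inv_mul_val, Matrix.mul_one]
      _ = cj g X * (g : M2) := by simp only [cj, Matrix.mul_assoc]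
      _ = X * (g : M2) := by rw [h]
  · intro h
    rw [cj, h, Matrix.mul_assoc, mul_inv_val, Matrix.mul_one]

/-- the quadric `X² = δ` in the trace zero matrices -/
def Om (δ : F) : Type _ := {X : M2 // X.trace = 0 ∧ X * X = δ • (1 : M2)}

instance (δ : F) [Finite F] : Finite (Om δ) := by
  unfold Om; infer_instance

instance instActOm (δ : F) : MulAction SL2 (Om δ) where
  smul g X := ⟨cj g X.1, by rw [cj_trace]; exact X.2.1, by
    rw [← cj_mul_mul, X.2.2, cj_smul_one]⟩
  one_smul X := Subtype.ext (cj_one X.1)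
  mul_smul g h X := Subtype.ext (cj_mul g h X.1)

theorem smul_val {δ : F} (g : SL2) (X : Om δ) : (g • X).1 = cj g X.1 := rfl

/-- the permutation representation -/
def rho (δ : F) : SL2 →* Equiv.Perm (Om δ) := MulAction.toPermHom SL2 (Om δ)

theorem rho_apply {δ : F} (g : SL2) (X : Om δ) : rho δ g X = g • X := rfl

theorem rho_inv_apply {δ : F} (g : SL2) (X : Om δ) : (rho δ g)⁻¹ X = g⁻¹ • X := by
  rw [← map_inv]; rfl

theorem rho_eq_one_of_val {δ : F} (g : SL2) (h : (g : M2) = 1 ∨ (g : M2) = -1) : rho δ g = 1 := by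
  ext X
  rw [rho_apply, Equiv.Perm.one_apply]
  apply Subtype.ext
  rw [smul_val]
  apply (cj_eq_self_iff g X.1).mpr
  rcases h with h | h <;> rw [h] <;> simp

/-- an element of `SL₂` commuting with two non-parallel trace zero matrices is `±1` -/
theorem eq_pm_one_of_comm (h2 : (2 : F) ≠ 0) {X Y : M2} {ξ : F} (hξ : ξ ≠ 0) (hX0 : X.trace = 0)
    (hX : X * X = ξ • (1 : M2)) (hY0 : Y.trace = 0) (hY : ¬ ∃ c : F, Y = c • X) (g : SL2)
    (hgX : (g : M2) * X = X * (g : M2)) (hgY : (g : M2) * Y = Y * (g : M2)) :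
    (g : M2) = 1 ∨ (g : M2) = -1 := by
  set a := (g : M2).trace / 2 with ha
  set R := (g : M2) - a • (1 : M2) with hR
  have hR0 : R.trace = 0 := by
    rw [hR, Matrix.trace_sub, Matrix.trace_smul, Matrix.trace_one, ha]
    simp
    field_simp
    ring
  have hXR : X * R = R * X := by
    rw [hR, Matrix.mul_sub, Matrix.sub_mul, hgX]
    simp
  have hYR : Y * R = R * Y := by
    rw [hR, Matrix.mul_sub, Matrix.sub_mul, hgY]
    simp
  obtain ⟨l, hl⟩ := tz_comm_parallel h2 hξ hX0 hX hR0 hXR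
  by_cases hl0 : l = 0
  · have hg : (g : M2) = a • (1 : M2) := by
      have : R = 0 := by rw [hl, hl0, zero_smul]
      rw [hR] at this
      exact sub_eq_zero.mp this
    have hdet := g.det_coe
    rw [hg, Matrix.det_smul, Matrix.det_one, Fintype.card_fin, mul_one] at hdet
    have : (a - 1) * (a + 1) = 0 := by linear_combination hdet
    rcases mul_eq_zero.mp this with h | h
    · left
      rw [hg, sub_eq_zero.mp h, one_smul]
    · right
      rw [hg, eq_neg_of_add_eq_zero_left h, neg_smul, one_smul]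
  · exfalso
    apply hY
    have hXY : X * Y = Y * X := by
      have hX' : X = l⁻¹ • R := by rw [hl, smul_smul, inv_mul_cancel₀ hl0, one_smul]
      rw [hX', Matrix.smul_mul, Matrix.mul_smul, hYR]
    exact tz_comm_parallel h2 hξ hX0 hX hY0 hXY

/-- an element commuting with `N` preserves the pairing with `N` -/
theorem cj_pair_of_comm (g : SL2) (X N : M2) (hg : (g : M2) * N = N * (g : M2)) :
    (cj g X * N).trace = (X * N).trace := by
  have hg' : ((g⁻¹ : SL2) : M2) * N = N * ((g⁻¹ : SL2) : M2) := by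
    calc ((g⁻¹ : SL2) : M2) * N = ((g⁻¹ : SL2) : M2) * N * ((g : M2) * ((g⁻¹ : SL2) : M2)) := by
          rw [mul_inv_val, Matrix.mul_one]
      _ = ((g⁻¹ : SL2) : M2) * (N * (g : M2)) * ((g⁻¹ : SL2) : M2) := by
          simp only [Matrix.mul_assoc]
      _ = ((g⁻¹ : SL2) : M2) * ((g : M2) * N) * ((g⁻¹ : SL2) : M2) := by rw [hg]
      _ = (((g⁻¹ : SL2) : M2) * (g : M2)) * N * ((g⁻¹ : SL2) : M2) := by
          simp only [Matrix.mul_assoc]
      _ = N * ((g⁻¹ : SL2) : M2) := by rw [inv_mul_val, Matrix.one_mul]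
  rw [cj, Matrix.mul_assoc, hg', ← Matrix.mul_assoc, Matrix.trace_mul_cycle, ← Matrix.mul_assoc,
    inv_mul_val, Matrix.one_mul]

theorem pow_val_comm (g : SL2) (N : M2) (hg : (g : M2) * N = N * (g : M2)) (k : ℕ) :
    ((g ^ k : SL2) : M2) * N = N * ((g ^ k : SL2) : M2) := by
  induction k with
  | zero => simp
  | succ k ih =>
    rw [pow_succ, Matrix.SpecialLinearGroup.coe_mul, Matrix.mul_assoc, hg, ← Matrix.mul_assoc, ih,
      Matrix.mul_assoc]

theorem val_pm_one_of_sq (h2 : (2 : F) ≠ 0) (x : SL2) (h : x * x = 1) :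
    (x : M2) = 1 ∨ (x : M2) = -1 := by
  rcases (Cfsg.Agent.Lib.H12.sl2_mul_self_eq_one_iff h2 x).mp h with h | h
  · left; rw [h, Matrix.SpecialLinearGroup.coe_one]
  · right; rw [h, Matrix.SpecialLinearGroup.coe_neg, Matrix.SpecialLinearGroup.coe_one]

theorem sq_eq_one_of_val (x : SL2) (h : (x : M2) = 1 ∨ (x : M2) = -1) : x * x = 1 := by
  apply Subtype.ext
  rw [Matrix.SpecialLinearGroup.coe_mul, Matrix.SpecialLinearGroup.coe_one]
  rcases h with h | h <;> rw [h] <;> simp

/-- a power of a torus element of order `2k` fixing a point off the axis: `k ∣ i` -/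
theorem dvd_of_pow_smul_eq (h2 : (2 : F) ≠ 0) {δ ξ : F} (hξ : ξ ≠ 0) {X : M2} (hX0 : X.trace = 0)
    (hX : X * X = ξ • (1 : M2)) (Y : Om δ) (hY : ¬ ∃ c : F, Y.1 = c • X) (g : SL2)
    (hg : (g : M2) * X = X * (g : M2)) (k : ℕ) (ho : orderOf g = 2 * k) (i : ℕ)
    (hfix : (g ^ i) • Y = Y) : k ∣ i := by
  have hfix' : cj (g ^ i) Y.1 = Y.1 := congrArg Subtype.val hfix
  rw [cj_eq_self_iff] at hfix'
  have hpm := eq_pm_one_of_comm h2 hξ hX0 hX Y.2.1 hY (g ^ i) (pow_val_comm g X hg i) hfix'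
  have hsq := sq_eq_one_of_val _ hpm
  rw [← pow_two, ← pow_mul] at hsq
  have hdvd := orderOf_dvd_of_pow_eq_one hsq
  rw [ho, mul_comm i 2] at hdvd
  exact Nat.dvd_of_mul_dvd_mul_left (by norm_num) hdvd

/-- the image in `Perm Ω` of a torus element of order `2k` has order `k` -/
theorem orderOf_rho_torus (h2 : (2 : F) ≠ 0) {δ ξ : F} (hξ : ξ ≠ 0) {X : M2} (hX0 : X.trace = 0)
    (hX : X * X = ξ • (1 : M2)) (Y : Om δ) (hY : ¬ ∃ c : F, Y.1 = c • X) (g : SL2)
    (hg : (g : M2) * X = X * (g : M2)) (k : ℕ) (hk : 0 < k) (ho : orderOf g = 2 * k) :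
    orderOf (rho δ g) = k := by
  rw [orderOf_eq_iff hk]
  constructor
  · rw [← map_pow]
    apply rho_eq_one_of_val
    apply val_pm_one_of_sq h2
    rw [← pow_two, ← pow_mul, mul_comm, ← ho, pow_orderOf_eq_one]
  · intro m hm hm0 h1
    rw [← map_pow] at h1
    have hfix : (g ^ m) • Y = Y := by
      have := congrArg (fun σ : Equiv.Perm (Om δ) => σ Y) h1
      simp only [Equiv.Perm.one_apply] at this
      rw [rho_apply] at this
      exact this
    have := Nat.le_of_dvd hm0 (dvd_of_pow_smul_eq h2 hξ hX0 hX Y hY g hg k ho m hfix)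
    omega

end Cfsg.Agent.Lib.H8.PGL
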