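import Mathlib
import Cfsg.Agent.Lib.H8.PGLc

set_option autoImplicit false

/-!
# Unipotent elements, the trichotomy for `SL₂(p)` (helper8)
-/

namespace Cfsg.Agent.Lib.H8.PGL

open Matrix

variable {F : Type*} [Field F]

local notation "M2" => Matrix (Fin 2) (Fin 2) F
local notation "SL2" => Matrix.SpecialLinearGroup (Fin 2) F

theorem det_one_add_smul {E : M2} (hE0 : E.trace = 0) (hE : E * E = 0) (s : F) :
    (1 + s • E).det = 1 := by
  obtain ⟨e1, e2, e3, rfl⟩ := exists_tz E hE0
  have hE' : e1 ^ 2 + e2 * e3 = 0 := by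
    have : tz e1 e2 e3 * tz e1 e2 e3 = (0 : F) • (1 : M2) := by rw [hE, zero_smul]
    rwa [tz_sq_iff] at this
  rw [Matrix.det_fin_two]
  simp [tz]
  linear_combination (-(s ^ 2)) * hE'

/-- the unipotent element `1 + sE` -/
def uE (E : M2) (hE0 : E.trace = 0) (hE : E * E = 0) (s : F) : SL2 :=
  ⟨1 + s • E, det_one_add_smul hE0 hE s⟩

theorem uE_val (E : M2) (hE0 : E.trace = 0) (hE : E * E = 0) (s : F) :
    ((uE E hE0 hE s : SL2) : M2) = 1 + s • E := rfl

theorem uE_inv_val (E : M2) (hE0 : E.trace = 0) (hE : E * E = 0) (s : F) :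
    (((uE E hE0 hE s)⁻¹ : SL2) : M2) = 1 - s • E := by
  rw [Cfsg.Agent.Lib.H12.sl2_inv_val, uE_val, Matrix.trace_add, Matrix.trace_smul, hE0,
    Matrix.trace_one]
  simp
  rw [two_smul]
  abel

theorem uE_mul (E : M2) (hE0 : E.trace = 0) (hE : E * E = 0) (s t : F) :
    uE E hE0 hE s * uE E hE0 hE t = uE E hE0 hE (s + t) := by
  apply Subtype.ext
  rw [Matrix.SpecialLinearGroup.coe_mul, uE_val, uE_val, uE_val]
  simp only [Matrix.add_mul, Matrix.mul_add, Matrix.one_mul, Matrix.mul_one, Matrix.smul_mul,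
    Matrix.mul_smul, hE, smul_zero, add_zero, add_smul]
  abel

theorem uE_zero (E : M2) (hE0 : E.trace = 0) (hE : E * E = 0) : uE E hE0 hE 0 = 1 := by
  apply Subtype.ext
  rw [uE_val, zero_smul, add_zero, Matrix.SpecialLinearGroup.coe_one]

theorem uE_pow (E : M2) (hE0 : E.trace = 0) (hE : E * E = 0) (s : F) (i : ℕ) :
    (uE E hE0 hE s) ^ i = uE E hE0 hE (i * s) := by
  induction i with
  | zero => simp [uE_zero]
  | succ i ih =>
    rw [pow_succ, ih, uE_mul]
    congr 1
    push_cast
    ring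

theorem uE_inv (E : M2) (hE0 : E.trace = 0) (hE : E * E = 0) (s : F) :
    (uE E hE0 hE s)⁻¹ = uE E hE0 hE (-s) := by
  apply inv_eq_of_mul_eq_one_right
  rw [uE_mul, add_neg_cancel, uE_zero]

theorem uE_smul_val {δ : F} (E : M2) (hE0 : E.trace = 0) (hE : E * E = 0) (s : F) (X : Om δ) :
    ((uE E hE0 hE s) • X).1 = (1 + s • E) * X.1 * (1 - s • E) := by
  rw [smul_val, cj, uE_inv_val, uE_val]

section tri

theorem ringChar_ne_two (h2 : (2 : F) ≠ 0) : ringChar F ≠ 2 := by
  intro h
  have : CharP F 2 := h ▸ ringChar.charP F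
  apply h2
  have := CharP.cast_eq_zero F 2
  exact_mod_cast this

/-- the trace zero part of an element of `SL₂` squares to a scalar -/
theorem tzpart_sq (h2 : (2 : F) ≠ 0) (M : SL2) :
    ((M : M2) - ((M : M2).trace / 2) • (1 : M2)) * ((M : M2) - ((M : M2).trace / 2) • (1 : M2))
      = (((M : M2).trace / 2) ^ 2 - 1) • (1 : M2) := by
  have hc := Cfsg.Agent.Lib.H12.m2_cayley (M : M2) M.det_coe
  set a := (M : M2).trace / 2 with ha
  have ht : (M : M2).trace = 2 * a := by rw [ha]; field_simp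
  rw [Matrix.sub_mul, Matrix.mul_sub, Matrix.mul_sub, hc, ht]
  simp only [Matrix.mul_smul, Matrix.smul_mul, Matrix.mul_one, Matrix.one_mul, smul_smul]
  rw [sub_smul, two_mul, add_smul, ← pow_two, one_smul]
  abel

theorem tzpart_trace (h2 : (2 : F) ≠ 0) (M : SL2) :
    ((M : M2) - ((M : M2).trace / 2) • (1 : M2)).trace = 0 := by
  rw [Matrix.trace_sub, Matrix.trace_smul, Matrix.trace_one]
  simp
  field_simp
  ring

theorem pow_odd_of_sq {R : M2} {D : F} (hR : R * R = D • (1 : M2)) (k : ℕ) :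
    R ^ (2 * k + 1) = D ^ k • R := by
  rw [pow_succ, pow_mul, pow_two, hR, smul_pow, one_pow, Matrix.smul_mul, Matrix.one_mul]

variable [Fintype F]

theorem sl2_pow_card (hq : (Fintype.card F).Prime) (h2 : (2 : F) ≠ 0) (M : SL2) :
    ((M ^ Fintype.card F : SL2) : M2) = ((M : M2).trace / 2) • (1 : M2)
      + (((M : M2).trace / 2) ^ 2 - 1) ^ (Fintype.card F / 2)
        • ((M : M2) - ((M : M2).trace / 2) • (1 : M2)) := by
  haveI : Fact (Fintype.card F).Prime := ⟨hq⟩
  haveI : CharP F (Fintype.card F) := charP_of_card_eq_prime rfl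
  set a := (M : M2).trace / 2 with ha
  set R := (M : M2) - a • (1 : M2) with hR
  have hM : (M : M2) = a • (1 : M2) + R := by rw [hR]; abel
  have hcomm : Commute (a • (1 : M2)) R := by
    rw [Commute, SemiconjBy]
    simp
  have hodd : Fintype.card F = 2 * (Fintype.card F / 2) + 1 := by
    have := FiniteField.odd_card_of_char_ne_two (ringChar_ne_two h2)
    omega
  rw [Matrix.SpecialLinearGroup.coe_pow]
  conv_lhs => rw [hM]
  rw [add_pow_char_of_commute _ hcomm, smul_pow, one_pow, FiniteField.pow_card]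
  congr 1
  conv_lhs => rw [hodd]
  exact pow_odd_of_sq (tzpart_sq h2 M) _

/-- the three kinds of elements of `SL₂(p)` -/
theorem sl2_cases (hq : (Fintype.card F).Prime) (h2 : (2 : F) ≠ 0) (M : SL2) :
    (∃ E : M2, E.trace = 0 ∧ E * E = 0 ∧ ((M : M2) = 1 + E ∨ (M : M2) = -(1 + E))) ∨
    (IsSquare (((M : M2).trace / 2) ^ 2 - 1) ∧ M ^ (Fintype.card F - 1) = 1) ∨
    (¬ IsSquare (((M : M2).trace / 2) ^ 2 - 1) ∧ M ^ (Fintype.card F + 1) = 1) := by
  have hpc := sl2_pow_card hq h2 M
  have hsq := tzpart_sq h2 M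
  have htr := tzpart_trace h2 M
  set a := (M : M2).trace / 2 with ha
  set R := (M : M2) - a • (1 : M2) with hR
  have hM : (M : M2) = a • (1 : M2) + R := by rw [hR]; abel
  by_cases hD : a ^ 2 - 1 = 0
  · left
    rw [hD, zero_smul] at hsq
    have ha2 : (a - 1) * (a + 1) = 0 := by linear_combination hD
    rcases mul_eq_zero.mp ha2 with h | h
    · have ha1 : a = 1 := sub_eq_zero.mp h
      refine ⟨R, htr, hsq, Or.inl ?_⟩
      rw [hM, ha1, one_smul]
    · have ha1 : a = -1 := eq_neg_of_add_eq_zero_left h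
      refine ⟨-R, by rw [Matrix.trace_neg, htr, neg_zero], by rw [neg_mul_neg, hsq], Or.inr ?_⟩
      rw [hM, ha1, neg_smul, one_smul]
      abel
  · right
    have hF := ringChar_ne_two h2
    rcases FiniteField.pow_dichotomy hF hD with h | h
    · left
      refine ⟨(FiniteField.isSquare_iff hF hD).mpr h, ?_⟩
      rw [h, one_smul, ← hM] at hpc
      have hq1 : Fintype.card F = (Fintype.card F - 1) + 1 := by
        have := hq.one_lt; omega
      have : M ^ (Fintype.card F - 1) * M = M := by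
        rw [← pow_succ, ← hq1]
        exact Subtype.ext hpc
      exact mul_eq_right.mp this
    · right
      refine ⟨fun hs => ?_, ?_⟩
      · have := (FiniteField.isSquare_iff hF hD).mp hs
        rw [h] at this
        have h20 : (2 : F) = 0 := by linear_combination -this
        exact h2 h20
      · rw [pow_succ]
        apply Subtype.ext
        rw [Matrix.SpecialLinearGroup.coe_mul, hpc, h, Matrix.SpecialLinearGroup.coe_one]
        have hinv : ((M⁻¹ : SL2) : M2) = a • (1 : M2) + (-1 : F) • R := by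
          rw [Cfsg.Agent.Lib.H12.sl2_inv_val, hR]
          have ht : (M : M2).trace = 2 * a := by rw [ha]; field_simp
          rw [ht, two_mul, add_smul, neg_smul, one_smul]
          abel
        rw [← hinv, inv_mul_val]

/-- elements `±(1 + E)` have order dividing `2p` -/
theorem pow_two_mul_card_eq_one (hq : (Fintype.card F).Prime) (M : SL2) {E : M2}
    (hE0 : E.trace = 0) (hE : E * E = 0) (hM : (M : M2) = 1 + E ∨ (M : M2) = -(1 + E)) :
    M ^ (2 * Fintype.card F) = 1 := by
  haveI : Fact (Fintype.card F).Prime := ⟨hq⟩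
  haveI : CharP F (Fintype.card F) := charP_of_card_eq_prime rfl
  have hMM : M * M = uE E hE0 hE 2 := by
    apply Subtype.ext
    rw [Matrix.SpecialLinearGroup.coe_mul, uE_val]
    have : (1 + E) * (1 + E) = 1 + (2 : F) • E := by
      rw [Matrix.add_mul, Matrix.mul_add, Matrix.mul_add, hE, two_smul]
      simp
      abel
    rcases hM with h | h <;> rw [h]
    · exact this
    · rw [neg_mul_neg]; exact this
  rw [pow_mul, pow_two, hMM, uE_pow, CharP.cast_eq_zero, zero_mul, uE_zero]

end tri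

end Cfsg.Agent.Lib.H8.PGL
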