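import Mathlib
import Cfsg.Agent.Lib.H8.PGLa
import Cfsg.Agent.Lib.H8.PGLd

set_option autoImplicit false

/-!
# The cuspidal `F₂`-functions on the quadric and the group `V ⋊ L₂(p)` (helper8)
-/

namespace Cfsg.Agent.Lib.H8.PGL

open Matrix

variable {F : Type*} [Field F] [Fintype F]

local notation "M2" => Matrix (Fin 2) (Fin 2) F
local notation "SL2" => Matrix.SpecialLinearGroup (Fin 2) F

/-- reindexing a sum over `range p` by the prime field -/
theorem sum_range_neg_cast {A : Type*} [AddCommMonoid A] (hq : (Fintype.card F).Prime)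
    (h : F → A) :
    ∑ i ∈ Finset.range (Fintype.card F), h (-(i : F)) = ∑ s : F, h s := by
  classical
  haveI : Fact (Fintype.card F).Prime := ⟨hq⟩
  haveI : CharP F (Fintype.card F) := charP_of_card_eq_prime rfl
  have hinj : Set.InjOn (fun i : ℕ => -(i : F)) (Finset.range (Fintype.card F) : Set ℕ) := by
    intro i hi j hj hij
    have hij' : (i : F) = (j : F) := neg_injective hij
    apply CharP.natCast_injOn_Iio F (Fintype.card F) _ _ hij'
    · simpa using hi
    · simpa using hj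
  have himg : (Finset.range (Fintype.card F)).image (fun i : ℕ => -(i : F)) = Finset.univ := by
    apply Finset.eq_univ_of_card
    rw [Finset.card_image_of_injOn hinj, Finset.card_range]
  rw [← himg, Finset.sum_image hinj]

/-- the cuspidal functions: all sums over orbits of unipotent subgroups vanish -/
def VV (δ : F) : AddSubgroup (Om δ → ZMod 2) where
  carrier := {f | ∀ (E : M2) (hE0 : E.trace = 0) (hE : E * E = 0), E ≠ 0 →
    ∀ X : Om δ, ∑ s : F, f (uE E hE0 hE s • X) = 0}
  zero_mem' := by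
    intro E hE0 hE _ X
    simp
  add_mem' := by
    intro f g hf hg E hE0 hE hE1 X
    simp only [Pi.add_apply, Finset.sum_add_distrib]
    rw [hf E hE0 hE hE1 X, hg E hE0 hE hE1 X, add_zero]
  neg_mem' := by
    intro f hf E hE0 hE hE1 X
    simp only [Pi.neg_apply, Finset.sum_neg_distrib]
    rw [hf E hE0 hE hE1 X, neg_zero]

theorem mem_VV {δ : F} (f : Om δ → ZMod 2) : f ∈ VV δ ↔
    ∀ (E : M2) (hE0 : E.trace = 0) (hE : E * E = 0), E ≠ 0 →
      ∀ X : Om δ, ∑ s : F, f (uE E hE0 hE s • X) = 0 := Iff.rfl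

theorem conj_uE (g : SL2) (E : M2) (hE0 : E.trace = 0) (hE : E * E = 0) (s : F) :
    g * uE E hE0 hE s * g⁻¹ = uE (cj g E) (by rw [cj_trace]; exact hE0)
      (by rw [← cj_mul_mul, hE, cj_zero]) s := by
  apply Subtype.ext
  rw [Matrix.SpecialLinearGroup.coe_mul, Matrix.SpecialLinearGroup.coe_mul, uE_val, uE_val, cj]
  rw [Matrix.mul_add, Matrix.add_mul, Matrix.mul_one, mul_inv_val, Matrix.mul_smul,
    Matrix.smul_mul]

/-- `V` is stable under `SL₂` -/
theorem pAct_mem_VV {δ : F} (g : SL2) {f : Om δ → ZMod 2} (hf : f ∈ VV δ) :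
    pAct (rho δ g) f ∈ VV δ := by
  intro E hE0 hE hE1 X
  simp only [pAct_apply, rho_inv_apply]
  have key : ∀ s : F, g⁻¹ • (uE E hE0 hE s • X) =
      uE (cj g⁻¹ E) (by rw [cj_trace]; exact hE0) (by rw [← cj_mul_mul, hE, cj_zero]) s
        • (g⁻¹ • X) := by
    intro s
    rw [← conj_uE g⁻¹ E hE0 hE s, inv_inv, ← mul_smul, ← mul_smul]
    congr 1
    group
  simp only [key]
  apply hf
  rw [Ne, cj_eq_zero_iff]
  exact hE1

open Classical in
/-- the indicator function of a plane section -/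
noncomputable def ind (δ : F) (N : M2) (c : F) : Om δ → ZMod 2 :=
  fun X => if (X.1 * N).trace = c then 1 else 0

theorem ind_apply_of_eq {δ : F} {N : M2} {c : F} {X : Om δ} (h : (X.1 * N).trace = c) :
    ind δ N c X = 1 := by
  simp [ind, h]

theorem ind_apply_ne_zero {δ : F} {N : M2} {c : F} {X : Om δ} (h : ind δ N c X ≠ 0) :
    (X.1 * N).trace = c := by
  by_contra hne
  apply h
  simp [ind, hne]

/-- the indicator of a section `tr(X N) = κ δ` with `κ² - 4` a nonsquare is cuspidal -/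
theorem ind_mem_VV (h2 : (2 : F) ≠ 0) {δ κ : F} (hδ : ¬ IsSquare δ) (hκ : ¬ IsSquare (κ ^ 2 - 4))
    (N : Om δ) : ind δ N.1 (κ * δ) ∈ VV δ := by
  classical
  intro E hE0 hE hE1 X
  simp only [ind]
  apply even_section h2 hδ hκ X.2.1 X.2.2 N.2.1 N.2.2 hE0 hE hE1
  intro s
  rw [uE_smul_val]

end Cfsg.Agent.Lib.H8.PGL
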