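import Mathlib
import Cfsg.Agent.Lib.H8.PGLe

set_option autoImplicit false

/-!
# The group `V ⋊ L₂(p)` and its element orders (helper8)
-/

namespace Cfsg.Agent.Lib.H8.PGL

open Matrix

variable {F : Type*} [Field F] [Fintype F]

local notation "M2" => Matrix (Fin 2) (Fin 2) F
local notation "SL2" => Matrix.SpecialLinearGroup (Fin 2) F

omit [Fintype F] in
theorem inv_val_comm (g : SL2) (N : M2) (hg : (g : M2) * N = N * (g : M2)) :
    ((g⁻¹ : SL2) : M2) * N = N * ((g⁻¹ : SL2) : M2) := by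
  calc ((g⁻¹ : SL2) : M2) * N = ((g⁻¹ : SL2) : M2) * N * ((g : M2) * ((g⁻¹ : SL2) : M2)) := by
        rw [mul_inv_val, Matrix.mul_one]
    _ = ((g⁻¹ : SL2) : M2) * (N * (g : M2)) * ((g⁻¹ : SL2) : M2) := by
        simp only [Matrix.mul_assoc]
    _ = ((g⁻¹ : SL2) : M2) * ((g : M2) * N) * ((g⁻¹ : SL2) : M2) := by rw [hg]
    _ = (((g⁻¹ : SL2) : M2) * (g : M2)) * N * ((g⁻¹ : SL2) : M2) := by
        simp only [Matrix.mul_assoc]
    _ = N * ((g⁻¹ : SL2) : M2) := by rw [inv_mul_val, Matrix.one_mul]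

/-- the norm of the indicator of a tangent section is `1` at the point of tangency -/
theorem pNorm_ind_eq_one (h2 : (2 : F) ≠ 0) {δ ξ : F} (hδ : ¬ IsSquare δ) (hξ : ξ ≠ 0) {X : M2}
    (hX0 : X.trace = 0) (hX : X * X = ξ • (1 : M2)) (N v : Om δ) (α β : F)
    (hv : v.1 = α • X + β • N.1) (hpar : ¬ ∃ c : F, v.1 = c • X) (g : SL2)
    (hg : (g : M2) * X = X * (g : M2)) (k : ℕ) (hk : 0 < k) (ho : orderOf g = 2 * k) :
    pNorm (rho δ g) k (ind δ N.1 ((v.1 * N.1).trace)) v = 1 := by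
  rw [pNorm_apply, Finset.sum_eq_single 0]
  · rw [pow_zero, inv_one, Equiv.Perm.one_apply]
    exact ind_apply_of_eq rfl
  · intro i hi hi0
    by_contra hne
    have h1 := ind_apply_ne_zero hne
    rw [← map_pow, rho_inv_apply] at h1
    set h := (g ^ i)⁻¹ with hh
    have hcomm : (h : M2) * X = X * (h : M2) := inv_val_comm _ X (pow_val_comm g X hg i)
    have h3 : ((h • v).1 * X).trace = (v.1 * X).trace := by
      rw [smul_val]; exact cj_pair_of_comm h v.1 X hcomm
    have heq : (h • v).1 = v.1 :=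
      tangent_unique hδ (h • v).2.1 v.2.1 N.2.1 (h • v).2.2 v.2.2 N.2.2 α β hv h3 h1
    have hfix : (g ^ i) • v = v := by
      have : h • v = v := Subtype.ext heq
      rw [hh, inv_smul_eq_iff] at this
      exact this.symm
    have hdvd := dvd_of_pow_smul_eq h2 hξ hX0 hX v hpar g hg k ho i hfix
    have := Nat.le_of_dvd (Nat.pos_of_ne_zero hi0) hdvd
    have := Finset.mem_range.mp hi
    omega
  · intro h0
    exfalso
    exact h0 (Finset.mem_range.mpr hk)

/-- the group `V ⋊ L₂(p)` inside `(Ω → F₂) ⋊ Perm Ω` -/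
def HH (δ : F) : Subgroup (BB (Om δ)) where
  carrier := {x | Multiplicative.toAdd x.left ∈ VV δ ∧ x.right ∈ (rho δ).range}
  one_mem' := by
    refine ⟨?_, one_mem _⟩
    show (0 : Om δ → ZMod 2) ∈ VV δ
    exact zero_mem _
  mul_mem' := by
    rintro x y ⟨hx1, hx2⟩ ⟨hy1, hy2⟩
    rw [bmk_eta x, bmk_eta y, bmk_mul]
    refine ⟨?_, ?_⟩
    · rw [bmk_left]
      apply add_mem hx1
      obtain ⟨g, hg⟩ := hx2
      rw [← hg]
      exact pAct_mem_VV g hy1
    · rw [bmk_right]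
      exact mul_mem hx2 hy2
  inv_mem' := by
    rintro x ⟨hx1, hx2⟩
    rw [bmk_eta x, bmk_inv]
    refine ⟨?_, ?_⟩
    · rw [bmk_left]
      obtain ⟨g, hg⟩ := hx2
      rw [← hg, ← map_inv]
      exact pAct_mem_VV g⁻¹ hx1
    · rw [bmk_right]
      exact inv_mem hx2

theorem bmk_mem_HH {δ : F} {f : Om δ → ZMod 2} (hf : f ∈ VV δ) (g : SL2) :
    bmk f (rho δ g) ∈ HH δ := ⟨hf, ⟨g, rfl⟩⟩

theorem exists_of_mem_HH {δ : F} {x : BB (Om δ)} (hx : x ∈ HH δ) :
    ∃ (f : Om δ → ZMod 2) (g : SL2), f ∈ VV δ ∧ x = bmk f (rho δ g) := by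
  obtain ⟨h1, g, hg⟩ := hx
  exact ⟨_, g, h1, by rw [hg]; exact bmk_eta x⟩

theorem rho_pow_half_eq_one (h2 : (2 : F) ≠ 0) {δ : F} (g : SL2) (k : ℕ) (h : g ^ (2 * k) = 1) :
    (rho δ g) ^ k = 1 := by
  rw [← map_pow]
  apply rho_eq_one_of_val
  apply val_pm_one_of_sq h2
  rw [← pow_two, ← pow_mul, mul_comm]
  exact h

theorem rho_eq_rho_uE {δ : F} (g : SL2) {E : M2} (hE0 : E.trace = 0) (hE : E * E = 0)
    (hM : (g : M2) = 1 + E ∨ (g : M2) = -(1 + E)) : rho δ g = rho δ (uE E hE0 hE 1) := by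
  have h1 : rho δ (g * (uE E hE0 hE 1)⁻¹) = 1 := by
    apply rho_eq_one_of_val
    rw [Matrix.SpecialLinearGroup.coe_mul, uE_inv_val, one_smul]
    have : (1 + E) * (1 - E) = 1 := by
      rw [Matrix.add_mul, Matrix.mul_sub, Matrix.mul_sub, hE]
      simp
    rcases hM with h | h <;> rw [h]
    · left; exact this
    · right; rw [neg_mul, this]
  rw [map_mul, map_inv, mul_inv_eq_one] at h1
  exact h1

/-- every element of `V ⋊ L₂(p)` has order dividing `p`, `p - 1` or `p + 1` -/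
theorem orderOf_dvd_of_mem_HH (hq : (Fintype.card F).Prime) (h2 : (2 : F) ≠ 0) {δ : F}
    {x : BB (Om δ)} (hx : x ∈ HH δ) :
    orderOf x ∣ Fintype.card F ∨ orderOf x ∣ Fintype.card F - 1 ∨
      orderOf x ∣ Fintype.card F + 1 := by
  obtain ⟨f, g, hf, rfl⟩ := exists_of_mem_HH hx
  have hodd : Fintype.card F % 2 = 1 := FiniteField.odd_card_of_char_ne_two (ringChar_ne_two h2)
  rcases sl2_cases hq h2 g with ⟨E, hE0, hE, hM⟩ | ⟨_, hpow⟩ | ⟨_, hpow⟩
  · by_cases hE1 : E = 0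
    · right; left
      have hg1 : rho δ g = 1 := by
        apply rho_eq_one_of_val
        rw [hE1, add_zero] at hM
        exact hM
      rw [hg1]
      have : orderOf (bmk f (1 : Equiv.Perm (Om δ))) ∣ 2 := orderOf_dvd_of_pow_eq_one (bmk_sq_one f)
      exact this.trans (by omega)
    · left
      haveI : Fact (Fintype.card F).Prime := ⟨hq⟩
      haveI : CharP F (Fintype.card F) := charP_of_card_eq_prime rfl
      rw [rho_eq_rho_uE g hE0 hE hM]
      apply orderOf_dvd_of_pow_eq_one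
      apply bmk_pow_eq_one
      · rw [← map_pow, uE_pow, CharP.cast_eq_zero, zero_mul, uE_zero, map_one]
      · funext X
        rw [pNorm_apply]
        have key : ∀ i : ℕ, ((rho δ (uE E hE0 hE 1)) ^ i)⁻¹ X = uE E hE0 hE (-(i : F)) • X := by
          intro i
          rw [← map_pow, rho_inv_apply, uE_pow, uE_inv, mul_one]
        simp only [key]
        rw [sum_range_neg_cast hq (fun s => f (uE E hE0 hE s • X))]
        exact hf E hE0 hE hE1 X
  · right; left
    have hk : Fintype.card F - 1 = 2 * ((Fintype.card F - 1) / 2) := by omega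
    rw [hk] at hpow
    have := orderOf_bmk_dvd f (rho δ g) _ (rho_pow_half_eq_one h2 (δ := δ) g _ hpow)
    rwa [← hk] at this
  · right; right
    have hk : Fintype.card F + 1 = 2 * ((Fintype.card F + 1) / 2) := by omega
    rw [hk] at hpow
    have := orderOf_bmk_dvd f (rho δ g) _ (rho_pow_half_eq_one h2 (δ := δ) g _ hpow)
    rwa [← hk] at this

end Cfsg.Agent.Lib.H8.PGL
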