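import Mathlib
import Cfsg.Agent.Lib.H8.PGLf
import Cfsg.Agent.Lib.H12.SL2Odd

set_option autoImplicit false

/-!
# Split torus elements and the points needed for the tangency argument (helper8)
-/

namespace Cfsg.Agent.Lib.H8.PGL

open Matrix

variable {F : Type*} [Field F]

local notation "M2" => Matrix (Fin 2) (Fin 2) F
local notation "SL2" => Matrix.SpecialLinearGroup (Fin 2) F

/-- the matrix `(g + g')/2 + (g - g')/2 · m` -/
def torM (m : M2) (g g' : F) : M2 := ((g + g') / 2) • (1 : M2) + ((g - g') / 2) • m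

theorem torM_det (h2 : (2 : F) ≠ 0) {m : M2} (hm0 : m.trace = 0) (hm : m * m = (1 : F) • (1 : M2))
    (g g' : F) (hg : g * g' = 1) : (torM m g g').det = 1 := by
  obtain ⟨a, b, c, rfl⟩ := exists_tz m hm0
  rw [tz_sq_iff] at hm
  rw [torM, Matrix.det_fin_two]
  simp [tz]
  field_simp
  linear_combination (-((g - g') ^ 2)) * hm + 4 * hg

theorem torM_mul (h2 : (2 : F) ≠ 0) {m : M2} (hm : m * m = (1 : F) • (1 : M2)) (g g' k k' : F) :
    torM m g g' * torM m k k' = torM m (g * k) (k' * g') := by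
  have hm' : m * m = 1 := by rw [hm, one_smul]
  simp only [torM, Matrix.add_mul, Matrix.mul_add, Matrix.smul_mul, Matrix.mul_smul, Matrix.one_mul,
    Matrix.mul_one, hm', smul_smul]
  match_scalars <;> field_simp <;> ring

theorem torM_one (h2 : (2 : F) ≠ 0) (m : M2) : torM m 1 1 = 1 := by
  simp only [torM, sub_self, zero_div, zero_smul, add_zero]
  rw [show ((1 : F) + 1) / 2 = 1 by field_simp; norm_num, one_smul]

theorem units_mul_inv_val (γ : Fˣ) : (γ : F) * ((γ⁻¹ : Fˣ) : F) = 1 := by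
  rw [← Units.val_mul, mul_inv_cancel, Units.val_one]

/-- the split torus through `m` -/
def torS (h2 : (2 : F) ≠ 0) (m : M2) (hm0 : m.trace = 0) (hm : m * m = (1 : F) • (1 : M2)) :
    Fˣ →* SL2 where
  toFun γ := ⟨torM m (γ : F) ((γ⁻¹ : Fˣ) : F), torM_det h2 hm0 hm _ _ (units_mul_inv_val γ)⟩
  map_one' := by
    apply Subtype.ext
    show torM m ((1 : Fˣ) : F) (((1 : Fˣ)⁻¹ : Fˣ) : F) = 1
    rw [inv_one, Units.val_one, torM_one h2]
  map_mul' γ γ' := by
    apply Subtype.ext
    show torM m ((γ * γ' : Fˣ) : F) (((γ * γ')⁻¹ : Fˣ) : F) = torM m _ _ * torM m _ _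
    rw [torM_mul h2 hm, _root_.mul_inv_rev, Units.val_mul, Units.val_mul]

theorem torS_val (h2 : (2 : F) ≠ 0) (m : M2) (hm0 : m.trace = 0)
    (hm : m * m = (1 : F) • (1 : M2)) (γ : Fˣ) :
    ((torS h2 m hm0 hm γ : SL2) : M2) = torM m (γ : F) ((γ⁻¹ : Fˣ) : F) := rfl

theorem torS_comm (h2 : (2 : F) ≠ 0) (m : M2) (hm0 : m.trace = 0)
    (hm : m * m = (1 : F) • (1 : M2)) (γ : Fˣ) :
    ((torS h2 m hm0 hm γ : SL2) : M2) * m = m * ((torS h2 m hm0 hm γ : SL2) : M2) := by
  rw [torS_val, torM]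
  simp [Matrix.add_mul, Matrix.mul_add]

theorem torM_eq_one (h2 : (2 : F) ≠ 0) {m : M2} (hm0 : m.trace = 0)
    (hm : m * m = (1 : F) • (1 : M2)) (g g' : F) (h : torM m g g' = 1) : g = 1 := by
  have hm1 : m ≠ 0 := by
    rintro rfl
    rw [Matrix.mul_zero, one_smul] at hm
    have := congrFun (congrFun hm 0) 0
    simp at this
  have ht := congrArg Matrix.trace h
  rw [torM, Matrix.trace_add, Matrix.trace_smul, Matrix.trace_smul, hm0, Matrix.trace_one] at ht
  simp only [Fintype.card_fin, smul_eq_mul, mul_zero, add_zero] at ht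
  have hα : (g + g') / 2 = 1 := by
    have : (2 : F) * ((g + g') / 2) = 2 * 1 := by
      rw [mul_one, mul_comm]; exact_mod_cast ht
    exact mul_left_cancel₀ h2 this
  rw [torM, hα, one_smul, add_eq_left] at h
  have hβ : (g - g') / 2 = 0 := by
    by_contra hne
    apply hm1
    have := congrArg (fun X : M2 => ((g - g') / 2)⁻¹ • X) h
    simp only [smul_smul, inv_mul_cancel₀ hne, one_smul, smul_zero] at this
    exact this
  have hα' : g + g' = 2 := by field_simp at hα; linear_combination hα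
  have hβ' : g - g' = 0 := by field_simp at hβ; linear_combination hβ
  have : 2 * g = 2 * 1 := by linear_combination hα' + hβ'
  exact mul_left_cancel₀ h2 this

theorem torS_injective (h2 : (2 : F) ≠ 0) (m : M2) (hm0 : m.trace = 0)
    (hm : m * m = (1 : F) • (1 : M2)) : Function.Injective (torS h2 m hm0 hm) := by
  rw [injective_iff_map_eq_one]
  intro γ hγ
  have h := congrArg (fun x : SL2 => (x : M2)) hγ
  simp only [torS_val, Matrix.SpecialLinearGroup.coe_one] at h
  apply Units.ext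
  rw [Units.val_one]
  exact torM_eq_one h2 hm0 hm _ _ h

end Cfsg.Agent.Lib.H8.PGL
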