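import Mathlib
import Cfsg.Agent.Lib.H8.PGLg

set_option autoImplicit false

/-!
# The points of the quadric used in the tangency argument (helper8)
-/

namespace Cfsg.Agent.Lib.H8.PGL

open Matrix

variable {F : Type*} [Field F] [Fintype F]

local notation "M2" => Matrix (Fin 2) (Fin 2) F
local notation "SL2" => Matrix.SpecialLinearGroup (Fin 2) F

/-- an element of order `p + 1` is of nonsplit type with nonzero trace -/
theorem nonsplit_data (hq : (Fintype.card F).Prime) (h5 : 5 ≤ Fintype.card F) (h2 : (2 : F) ≠ 0)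
    (Mp : SL2) (hMp : orderOf Mp = Fintype.card F + 1) :
    ¬ IsSquare (((Mp : M2).trace / 2) ^ 2 - 1) ∧ (Mp : M2).trace ≠ 0 := by
  constructor
  · rcases sl2_cases hq h2 Mp with ⟨E, hE0, hE, hM⟩ | ⟨_, hpow⟩ | ⟨h, _⟩
    · exfalso
      have := orderOf_dvd_of_pow_eq_one (pow_two_mul_card_eq_one hq Mp hE0 hE hM)
      rw [hMp] at this
      obtain ⟨c, hc⟩ := this
      have hc2 : c < 2 := by nlinarith
      interval_cases c <;> omega
    · exfalso
      have := orderOf_dvd_of_pow_eq_one hpow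
      rw [hMp] at this
      have := Nat.le_of_dvd (by omega) this
      omega
    · exact h
  · intro ht
    have hc := Cfsg.Agent.Lib.H12.m2_cayley (Mp : M2) Mp.det_coe
    rw [ht, zero_smul, zero_sub] at hc
    have h4 : Mp ^ 4 = 1 := by
      apply Subtype.ext
      rw [show (4 : ℕ) = 2 * 2 by norm_num, pow_mul, pow_two, pow_two,
        Matrix.SpecialLinearGroup.coe_mul, Matrix.SpecialLinearGroup.coe_mul, hc,
        Matrix.SpecialLinearGroup.coe_one]
      simp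
    have := orderOf_dvd_of_pow_eq_one h4
    rw [hMp] at this
    have := Nat.le_of_dvd (by norm_num) this
    omega

/-- a point `N` of the quadric with prescribed pairing `2aδ` with `n`, where `δ = a² - 1` -/
theorem exists_N (hodd : Odd (Fintype.card F)) {δ a : F} (hδ : ¬ IsSquare δ) (ha : δ = a ^ 2 - 1)
    (n : Om δ) : ∃ N : Om δ, (n.1 * N.1).trace = 2 * a * δ := by
  obtain ⟨r1, r2, r3, hn⟩ := exists_tz n.1 n.2.1
  have hn2 := n.2.2
  rw [hn, tz_sq_iff] at hn2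
  have h2 : (2 : F) ≠ 0 := Cfsg.Agent.Lib.H12.two_ne_zero_of_odd hodd
  have hδ0 : δ ≠ 0 := by
    rintro rfl
    exact hδ ⟨0, by ring⟩
  have hr3 : r3 ≠ 0 := by
    rintro rfl
    apply hδ
    exact ⟨r1, by rw [← hn2]; ring⟩
  have hdisc : (2 * r1 * r3) ^ 2 - 4 * (r3 ^ 2) * (-(r2 * r3)) ≠ 0 := by
    have : (2 * r1 * r3) ^ 2 - 4 * (r3 ^ 2) * (-(r2 * r3)) = 4 * r3 ^ 2 * δ := by
      rw [← hn2]; ring
    rw [this]
    have h4 : (4 : F) ≠ 0 := by
      have : (4 : F) = 2 * 2 := by norm_num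
      rw [this]; exact mul_ne_zero h2 h2
    exact mul_ne_zero (mul_ne_zero h4 (pow_ne_zero 2 hr3)) hδ0
  obtain ⟨s, t, hst⟩ := Cfsg.Agent.Lib.H12.binary_form_universal hodd (r3 ^ 2) (2 * r1 * r3)
    (-(r2 * r3)) (-(δ ^ 2)) hdisc
  refine ⟨⟨tz (a * r1 + s * r3) (a * r2 - 2 * r1 * s + r2 * t) (a * r3 - r3 * t), tz_trace _ _ _, ?_⟩,
    ?_⟩
  · rw [tz_sq_iff]
    linear_combination (a ^ 2) * hn2 + hst + (-δ) * ha
  · show (n.1 * tz _ _ _).trace = _
    rw [hn, tz_pair]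
    linear_combination (2 * a) * hn2

omit [Fintype F] in
theorem om_pair_self {δ : F} (N : Om δ) : (N.1 * N.1).trace = 2 * δ := by
  rw [N.2.2, Matrix.trace_smul, Matrix.trace_one]
  simp
  ring

omit [Fintype F] in
theorem lin_sq {δ : F} (N n : Om δ) (s t : F) :
    (s • N.1 + t • n.1) * (s • N.1 + t • n.1)
      = (s ^ 2 * δ + s * t * (N.1 * n.1).trace + t ^ 2 * δ) • (1 : M2) := by
  have h : (s • N.1 + t • n.1) * (s • N.1 + t • n.1)
      = (s * s) • (N.1 * N.1) + (s * t) • (N.1 * n.1 + n.1 * N.1) + (t * t) • (n.1 * n.1) := by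
    simp only [Matrix.add_mul, Matrix.mul_add, Matrix.smul_mul, Matrix.mul_smul, smul_smul, smul_add]
    rw [mul_comm t s]
    abel
  rw [h, N.2.2, n.2.2, tz_anticomm N.2.1 n.2.1]
  match_scalars
  ring

/-- the point `v = κ N - n` -/
def vpt {δ : F} (n N : Om δ) (κ : F) (hp : (n.1 * N.1).trace = κ * δ) : Om δ :=
  ⟨κ • N.1 + (-1 : F) • n.1, by
    rw [Matrix.trace_add, Matrix.trace_smul, Matrix.trace_smul, N.2.1, n.2.1]; simp, by
    rw [lin_sq, Matrix.trace_mul_comm, hp]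
    congr 1
    ring⟩

omit [Fintype F] in
theorem vpt_val {δ : F} (n N : Om δ) (κ : F) (hp : (n.1 * N.1).trace = κ * δ) :
    (vpt n N κ hp).1 = (-1 : F) • n.1 + κ • N.1 := by
  show κ • N.1 + (-1 : F) • n.1 = _
  abel

omit [Fintype F] in
theorem vpt_pair {δ : F} (n N : Om δ) (κ : F) (hp : (n.1 * N.1).trace = κ * δ) :
    ((vpt n N κ hp).1 * N.1).trace = κ * δ := by
  rw [vpt_val, Matrix.add_mul, Matrix.trace_add, Matrix.smul_mul, Matrix.smul_mul,
    Matrix.trace_smul, Matrix.trace_smul, hp, om_pair_self]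
  simp
  ring

omit [Fintype F] in
theorem vpt_not_parallel {δ : F} (hδ : ¬ IsSquare δ) (n N : Om δ) (κ : F)
    (hp : (n.1 * N.1).trace = κ * δ) (hκ0 : κ ≠ 0) (hκ : ¬ IsSquare (κ ^ 2 - 4)) :
    ¬ ∃ c : F, (vpt n N κ hp).1 = c • n.1 := by
  rintro ⟨c, hc⟩
  have hδ0 : δ ≠ 0 := by
    rintro rfl
    exact hδ ⟨0, by ring⟩
  have h1 := vpt_pair n N κ hp
  rw [hc, Matrix.smul_mul, Matrix.trace_smul, hp, smul_eq_mul] at h1
  have hc1 : c = 1 := by
    have : (c - 1) * (κ * δ) = 0 := by linear_combination h1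
    rcases mul_eq_zero.mp this with h | h
    · exact sub_eq_zero.mp h
    · exact absurd h (mul_ne_zero hκ0 hδ0)
  rw [hc1, one_smul, vpt_val] at hc
  have h2 : κ • N.1 = (2 : F) • n.1 := by
    rw [two_smul]
    have : κ • N.1 = ((-1 : F) • n.1 + κ • N.1) + n.1 := by
      rw [neg_smul, one_smul]; abel
    rw [this, hc]
  have hN : N.1 * N.1 = δ • (1 : M2) := N.2.2
  have hn : n.1 * n.1 = δ • (1 : M2) := n.2.2
  have h3 : (κ • N.1) * (κ • N.1) = ((2 : F) • n.1) * ((2 : F) • n.1) := by rw [h2]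
  rw [Matrix.smul_mul, Matrix.mul_smul, Matrix.smul_mul, Matrix.mul_smul, smul_smul, smul_smul,
    hN, hn, smul_smul, smul_smul] at h3
  have h4 := (smul_one_eq_iff _ _).mp h3
  apply hκ
  refine ⟨0, ?_⟩
  have : (κ ^ 2 - 4) * δ = 0 := by linear_combination h4
  rcases mul_eq_zero.mp this with h | h
  · rw [h]; ring
  · exact absurd h hδ0

/-- a hyperbolic vector in the plane spanned by `N` and `v` -/
theorem exists_m (hodd : Odd (Fintype.card F)) {δ κ : F} (hδ : ¬ IsSquare δ) (hκ : κ ^ 2 - 4 ≠ 0)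
    (N v : Om δ) (hp : (N.1 * v.1).trace = κ * δ) :
    ∃ (m : M2) (x y : F), m.trace = 0 ∧ m * m = (1 : F) • (1 : M2) ∧ v.1 = x • m + y • N.1 ∧
      ¬ ∃ c : F, v.1 = c • m := by
  have hδ0 : δ ≠ 0 := by
    rintro rfl
    exact hδ ⟨0, by ring⟩
  have hdisc : (κ * δ) ^ 2 - 4 * δ * δ ≠ 0 := by
    have : (κ * δ) ^ 2 - 4 * δ * δ = δ ^ 2 * (κ ^ 2 - 4) := by ring
    rw [this]
    exact mul_ne_zero (pow_ne_zero 2 hδ0) hκ
  obtain ⟨s, t, hst⟩ := Cfsg.Agent.Lib.H12.binary_form_universal hodd δ (κ * δ) δ 1 hdisc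
  have hmm : (s • N.1 + t • v.1) * (s • N.1 + t • v.1) = (1 : F) • (1 : M2) := by
    rw [lin_sq, hp]
    congr 1
    linear_combination hst
  have ht : t ≠ 0 := by
    rintro rfl
    apply hδ
    have hs : s ≠ 0 := by
      rintro rfl
      simp at hst
    refine ⟨s⁻¹, ?_⟩
    have hs2 : δ * s ^ 2 = 1 := by linear_combination hst
    calc δ = δ * s ^ 2 * (s⁻¹ * s⁻¹) := by field_simp
      _ = s⁻¹ * s⁻¹ := by rw [hs2, one_mul]
  refine ⟨s • N.1 + t • v.1, t⁻¹, -(s / t), ?_, hmm, ?_, ?_⟩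
  · rw [Matrix.trace_add, Matrix.trace_smul, Matrix.trace_smul, N.2.1, v.2.1]; simp
  · rw [smul_add, smul_smul, smul_smul, inv_mul_cancel₀ ht, one_smul]
    have : t⁻¹ * s = s / t := by field_simp
    rw [this, neg_smul]
    abel
  · rintro ⟨c, hc⟩
    have hv : v.1 * v.1 = δ • (1 : M2) := v.2.2
    have h3 : v.1 * v.1 = (c • (s • N.1 + t • v.1)) * (c • (s • N.1 + t • v.1)) := by rw [← hc]
    rw [Matrix.smul_mul, Matrix.mul_smul, smul_smul, hmm, hv, smul_smul] at h3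
    have h4 := (smul_one_eq_iff _ _).mp h3
    apply hδ
    exact ⟨c, by rw [h4]; ring⟩

end Cfsg.Agent.Lib.H8.PGL
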