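import Mathlib
import Cfsg.Agent.Lib.H8.PGLh
import Cfsg.Agent.Lib.H1.PGL2SpecA

set_option autoImplicit false

/-!
# The element orders of `V ⋊ L₂(p)` (helper8)
-/

namespace Cfsg.Agent.Lib.H8.PGL

open Matrix

variable {F : Type*} [Field F] [Fintype F]

local notation "M2" => Matrix (Fin 2) (Fin 2) F
local notation "SL2" => Matrix.SpecialLinearGroup (Fin 2) F

theorem two_ne_zero_of_card (hq : (Fintype.card F).Prime) (h5 : 5 ≤ Fintype.card F) :
    (2 : F) ≠ 0 := by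
  haveI : Fact (Fintype.card F).Prime := ⟨hq⟩
  haveI : CharP F (Fintype.card F) := charP_of_card_eq_prime rfl
  intro h
  have h' : ((2 : ℕ) : F) = 0 := by exact_mod_cast h
  rw [CharP.cast_eq_zero_iff F (Fintype.card F)] at h'
  have := Nat.le_of_dvd (by norm_num) h'
  omega

/-- an element of order `p` -/
theorem exists_orderOf_card (hq : (Fintype.card F).Prime) (h2 : (2 : F) ≠ 0) {δ : F}
    (hδ : δ ≠ 0) (n : Om δ) : ∃ x ∈ HH δ, orderOf x = Fintype.card F := by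
  haveI : Fact (Fintype.card F).Prime := ⟨hq⟩
  haveI : CharP F (Fintype.card F) := charP_of_card_eq_prime rfl
  have hE0 : (tz (0 : F) 1 0).trace = 0 := tz_trace _ _ _
  have hE : tz (0 : F) 1 0 * tz (0 : F) 1 0 = 0 := by
    rw [tz_mul_self]; simp
  have hE1 : tz (0 : F) 1 0 ≠ 0 := by
    rw [Ne, tz_eq_zero_iff]
    simp
  refine ⟨bmk 0 (rho δ (uE _ hE0 hE 1)), bmk_mem_HH (zero_mem _) _, ?_⟩
  rw [orderOf_bmk_zero]
  apply orderOf_eq_prime
  · rw [← map_pow, uE_pow, CharP.cast_eq_zero, zero_mul, uE_zero, map_one]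
  · intro h1
    have hfix : uE _ hE0 hE 1 • n = n := by
      have := congrArg (fun σ : Equiv.Perm (Om δ) => σ n) h1
      simp only [Equiv.Perm.one_apply] at this
      rw [rho_apply] at this
      exact this
    have hfix' : cj (uE _ hE0 hE 1) n.1 = n.1 := congrArg Subtype.val hfix
    rw [cj_eq_self_iff, uE_val, one_smul, Matrix.add_mul, Matrix.mul_add, Matrix.one_mul,
      Matrix.mul_one, add_right_inj] at hfix'
    obtain ⟨l, hl⟩ := tz_comm_parallel h2 hδ n.2.1 n.2.2 hE0 hfix'.symm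
    have hn : n.1 * n.1 = δ • (1 : M2) := n.2.2
    have h3 : tz (0 : F) 1 0 * tz (0 : F) 1 0 = (l • n.1) * (l • n.1) := by rw [← hl]
    rw [hE, Matrix.smul_mul, Matrix.mul_smul, smul_smul, hn, smul_smul] at h3
    have h4 : (0 : F) • (1 : M2) = (l * l * δ) • (1 : M2) := by rw [zero_smul]; exact h3
    have h5 := (smul_one_eq_iff _ _).mp h4
    have hl0 : l = 0 := by
      rcases mul_eq_zero.mp h5.symm with h | h
      · exact mul_self_eq_zero.mp h
      · exact absurd h hδ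
    apply hE1
    rw [hl, hl0, zero_smul]

/-- an element of order `2k` from a torus element of order `2k` -/
theorem exists_orderOf_torus (h2 : (2 : F) ≠ 0) {δ ξ κ : F} (hδ : ¬ IsSquare δ)
    (hκ : ¬ IsSquare (κ ^ 2 - 4)) (hξ : ξ ≠ 0) {X : M2} (hX0 : X.trace = 0)
    (hX : X * X = ξ • (1 : M2)) (N v : Om δ) (hp : (v.1 * N.1).trace = κ * δ) (α β : F)
    (hv : v.1 = α • X + β • N.1) (hpar : ¬ ∃ c : F, v.1 = c • X) (g : SL2)
    (hg : (g : M2) * X = X * (g : M2)) (k : ℕ) (hk : 0 < k) (ho : orderOf g = 2 * k) :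
    ∃ x ∈ HH δ, orderOf x = 2 * k := by
  refine ⟨bmk (ind δ N.1 (κ * δ)) (rho δ g), bmk_mem_HH (ind_mem_VV h2 hδ hκ N) g, ?_⟩
  apply orderOf_bmk_eq _ _ k hk (orderOf_rho_torus h2 hξ hX0 hX v hpar g hg k hk ho)
  intro h0
  have h1 := pNorm_ind_eq_one h2 hδ hξ hX0 hX N v α β hv hpar g hg k hk ho
  rw [hp, h0] at h1
  simp at h1

/-- the spectrum data of `V ⋊ L₂(p)` -/
theorem main_prime (hq : (Fintype.card F).Prime) (h5 : 5 ≤ Fintype.card F) :
    ∃ δ : F, (∃ f ∈ VV δ, f ≠ 0) ∧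
      (∃ x ∈ HH δ, orderOf x = Fintype.card F) ∧
      (∃ x ∈ HH δ, orderOf x = Fintype.card F - 1) ∧
      (∃ x ∈ HH δ, orderOf x = Fintype.card F + 1) ∧
      (∀ x ∈ HH δ, orderOf x ∣ Fintype.card F ∨ orderOf x ∣ Fintype.card F - 1 ∨
        orderOf x ∣ Fintype.card F + 1) := by
  have h2 := two_ne_zero_of_card hq h5
  have hoddm : Fintype.card F % 2 = 1 :=
    FiniteField.odd_card_of_char_ne_two (ringChar_ne_two h2)
  have hodd : Odd (Fintype.card F) := Nat.odd_iff.mpr hoddm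
  obtain ⟨Mp, hMp⟩ := Cfsg.Agent.Lib.H1.PGL2Spec.exists_sl2_orderOf_card_succ (F := F)
  obtain ⟨hδ, htr⟩ := nonsplit_data hq h5 h2 Mp hMp
  set a := (Mp : M2).trace / 2 with ha
  set δ := a ^ 2 - 1 with hδdef
  have hδ0 : δ ≠ 0 := by
    intro h0
    apply hδ
    rw [h0]
    exact ⟨0, by ring⟩
  let n : Om δ := ⟨(Mp : M2) - a • (1 : M2), tzpart_trace h2 Mp, tzpart_sq h2 Mp⟩
  have hcomm : (Mp : M2) * n.1 = n.1 * (Mp : M2) := by
    show (Mp : M2) * ((Mp : M2) - a • (1 : M2)) = ((Mp : M2) - a • (1 : M2)) * (Mp : M2)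
    rw [Matrix.mul_sub, Matrix.sub_mul]
    simp
  set κ := 2 * a with hκdef
  have hκ0 : κ ≠ 0 := by
    rw [hκdef, ha]
    intro h
    apply htr
    field_simp at h
    exact h
  have hκ4 : κ ^ 2 - 4 = 4 * δ := by rw [hκdef, hδdef]; ring
  have hκ : ¬ IsSquare (κ ^ 2 - 4) := by
    rintro ⟨r, hr⟩
    apply hδ
    refine ⟨r / 2, ?_⟩
    field_simp
    linear_combination hr - hκ4
  have hκne : κ ^ 2 - 4 ≠ 0 := by
    intro h
    apply hκ
    rw [h]
    exact ⟨0, by ring⟩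
  obtain ⟨N, hN⟩ := exists_N hodd hδ hδdef n
  have hN' : (n.1 * N.1).trace = κ * δ := by rw [hN]
  set v := vpt n N κ hN' with hvdef
  have hvN : (v.1 * N.1).trace = κ * δ := vpt_pair n N κ hN'
  have hvpar := vpt_not_parallel hδ n N κ hN' hκ0 hκ
  refine ⟨δ, ⟨ind δ N.1 (κ * δ), ind_mem_VV h2 hδ hκ N, ?_⟩, exists_orderOf_card hq h2 hδ0 n,
    ?_, ?_, fun x hx => orderOf_dvd_of_mem_HH hq h2 hx⟩
  · intro h0
    have := ind_apply_of_eq (δ := δ) (N := N.1) (c := κ * δ) (X := v) hvN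
    rw [h0] at this
    simp at this
  · -- order p - 1
    obtain ⟨m, x, y, hm0, hmm, hvm, hparm⟩ := exists_m hodd hδ hκne N v
      (by rw [Matrix.trace_mul_comm]; exact hvN)
    obtain ⟨γ, hγ⟩ := IsCyclic.exists_generator (α := Fˣ)
    have hoγ : orderOf γ = Fintype.card F - 1 := by
      classical
      rw [orderOf_eq_card_of_forall_mem_zpowers hγ, Nat.card_eq_fintype_card, Fintype.card_units]
    have hk : Fintype.card F - 1 = 2 * ((Fintype.card F - 1) / 2) := by omega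
    have ho : orderOf (torS h2 m hm0 hmm γ) = 2 * ((Fintype.card F - 1) / 2) := by
      rw [orderOf_injective _ (torS_injective h2 m hm0 hmm), hoγ]
      exact hk
    have := exists_orderOf_torus h2 hδ hκ (one_ne_zero) hm0 hmm N v hvN x y hvm hparm
      (torS h2 m hm0 hmm γ) (torS_comm h2 m hm0 hmm γ) ((Fintype.card F - 1) / 2) (by omega) ho
    rwa [← hk] at this
  · -- order p + 1
    have hk : Fintype.card F + 1 = 2 * ((Fintype.card F + 1) / 2) := by omega
    have ho : orderOf Mp = 2 * ((Fintype.card F + 1) / 2) := by rw [hMp]; exact hk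
    have := exists_orderOf_torus h2 hδ hκ hδ0 n.2.1 n.2.2 N v hvN (-1) κ (vpt_val n N κ hN')
      hvpar Mp hcomm ((Fintype.card F + 1) / 2) (by omega) ho
    rwa [← hk] at this

end Cfsg.Agent.Lib.H8.PGL
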