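import Mathlib
import Cfsg.Agent.Lib.H8.PGLi
import Cfsg.Agent.Lib.H17.LargeIsospectral

set_option autoImplicit false

/-!
# Arbitrarily large groups isospectral to `PGL₂(p)`, `p ≥ 5` (helper8)
-/

namespace Cfsg.Agent.Lib.H8.PGL

open Matrix

variable {F : Type*} [Field F] [Fintype F]

local notation "M2" => Matrix (Fin 2) (Fin 2) F
local notation "SL2" => Matrix.SpecialLinearGroup (Fin 2) F

instance (δ : F) : Finite (BB (Om δ)) :=
  Finite.of_equiv _ (SemidirectProduct.equivProd (N := Multiplicative (Om δ → ZMod 2))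
    (G := Equiv.Perm (Om δ)) (φ := pHom)).symm

/-- the kernel of the projection to `L₂(p)` -/
def KK (δ : F) : Subgroup (HH δ) :=
  ((SemidirectProduct.rightHom (φ := pHom (α := Om δ))).ker).subgroupOf (HH δ)

instance (δ : F) : (KK δ).Normal := by
  unfold KK; infer_instance

theorem mem_KK {δ : F} (x : HH δ) : x ∈ KK δ ↔ (x : BB (Om δ)).right = 1 := by
  rw [KK, Subgroup.mem_subgroupOf, MonoidHom.mem_ker]; rfl

theorem isSolvable_KK (δ : F) : Group.IsSolvable (KK δ) := by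
  apply Group.isSolvable_of_comm
  rintro ⟨⟨x, hx⟩, hxK⟩ ⟨⟨y, hy⟩, hyK⟩
  rw [mem_KK] at hxK hyK
  apply Subtype.ext
  apply Subtype.ext
  show x * y = y * x
  simp only at hxK hyK
  rw [bmk_eta x, bmk_eta y, hxK, hyK, bmk_mul, bmk_mul, pAct_one, pAct_one, add_comm]

theorem KK_ne_bot {δ : F} (h : ∃ f ∈ VV δ, f ≠ 0) : KK δ ≠ ⊥ := by
  obtain ⟨f, hf, hf0⟩ := h
  intro hbot
  have hmem : bmk f (1 : Equiv.Perm (Om δ)) ∈ HH δ := by
    have := bmk_mem_HH hf (1 : SL2)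
    rwa [map_one] at this
  have hK : (⟨bmk f 1, hmem⟩ : HH δ) ∈ KK δ := by
    rw [mem_KK]; rfl
  rw [hbot, Subgroup.mem_bot] at hK
  have h1 : bmk f (1 : Equiv.Perm (Om δ)) = 1 := congrArg Subtype.val hK
  rw [bmk_one] at h1
  exact hf0 (bmk_inj h1).1

/-- the spectrum of `V ⋊ L₂(p)` -/
theorem spectrum_HH (hq : (Fintype.card F).Prime) (h5 : 5 ≤ Fintype.card F) :
    ∃ δ : F, KK δ ≠ ⊥ ∧ Set.range (orderOf : HH δ → ℕ) =
      {d : ℕ | d ∣ Fintype.card F ∨ d ∣ Fintype.card F - 1 ∨ d ∣ Fintype.card F + 1} := by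
  obtain ⟨δ, hV, ⟨xp, hxp, hop⟩, ⟨xm, hxm, hom⟩, ⟨xs, hxs, hos⟩, hall⟩ := main_prime hq h5
  refine ⟨δ, KK_ne_bot hV, ?_⟩
  have key : ∀ (x : BB (Om δ)) (hx : x ∈ HH δ) (d : ℕ), 0 < orderOf x → d ∣ orderOf x →
      ∃ y : HH δ, orderOf y = d := by
    intro x hx d hpos hd
    refine ⟨(⟨x, hx⟩ : HH δ) ^ (orderOf x / d), ?_⟩
    have hox : orderOf (⟨x, hx⟩ : HH δ) = orderOf x := Subgroup.orderOf_mk x hx
    have hdiv : orderOf x / d ∣ orderOf x := Nat.div_dvd_of_dvd hd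
    rw [orderOf_pow_of_dvd (by
      intro h0
      have := Nat.div_eq_zero_iff.mp h0
      rcases this with h | h
      · rw [h] at hd
        have := Nat.eq_zero_of_zero_dvd hd
        omega
      · have := Nat.le_of_dvd hpos hd
        omega) (hox ▸ hdiv), hox]
    exact Nat.div_div_self hd hpos.ne'
  ext d
  simp only [Set.mem_range, Set.mem_ofPred_eq]
  constructor
  · rintro ⟨x, rfl⟩
    rw [← Subgroup.orderOf_coe]
    exact hall x.1 x.2
  · rintro (h | h | h)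
    · exact key xp hxp d (by rw [hop]; exact hq.pos) (by rw [hop]; exact h)
    · exact key xm hxm d (by rw [hom]; have := hq.two_le; omega) (by rw [hom]; exact h)
    · exact key xs hxs d (by rw [hos]; omega) (by rw [hos]; exact h)

/-- arbitrarily large groups with the spectrum `{d | d ∣ p ∨ d ∣ p - 1 ∨ d ∣ p + 1}` -/
theorem exists_large_prime (hq : (Fintype.card F).Prime) (h5 : 5 ≤ Fintype.card F) (N : ℕ) :
    ∃ (H : Type) (_ : Group H) (_ : Fintype H), N < Fintype.card H ∧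
      Set.range (orderOf : H → ℕ) =
        {d : ℕ | d ∣ Fintype.card F ∨ d ∣ Fintype.card F - 1 ∨ d ∣ Fintype.card F + 1} := by
  obtain ⟨δ, hK, hspec⟩ := spectrum_HH hq h5
  rw [← hspec]
  exact Cfsg.Agent.Lib.H17.exists_large_isospectral_of_solvable (KK δ) hK (isSolvable_KK δ) N

end Cfsg.Agent.Lib.H8.PGL
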