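/-
S2937 (architect helper3), helper8: generic glue between helper8's `RootData` and helper3's split data `Spl`, and the
translation of "commuting modulo `B`" between the shapes `Eqv P (x * y) (y * x)` and `x * y * x⁻¹ * y⁻¹ ∈ B`.
-/
import Mathlib
import Cfsg.Agent.Lib.H3.PMinBN
import Cfsg.Agent.Lib.H8.BNRootData
import Cfsg.Agent.Lib.H1.PMRES

set_option autoImplicit false
set_option linter.unusedSectionVars false
set_option linter.unusedVariables false

namespace Cfsg.Agent.Lib.H8.PM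

open Cfsg Cfsg.Agent.Lib.H3.PMin Cfsg.Agent.Lib.H2.BN
open Cfsg.Agent.Lib.H8.BNRes Cfsg.Agent.Lib.H8.BNRoot

variable {G : Type*} [Group G] {P : Cfsg.BNPair G}

/-- the split data of a root datum -/
theorem spl_of_rootData {ι : Type*} (D : RootData P ι) (p : ℕ) (hU : IsPGroup p ↥D.U)
    (hT : (Nat.card ↥D.T).Coprime p) : Spl p P D.T D.U where
  hTB := D.hTB
  hNT := D.hNT
  hUB := D.hUB
  hBTU := D.hBTU
  hUn := D.hUn
  hU := hU
  hTp := by
    intro t ht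
    have h1 : orderOf (⟨t, ht⟩ : ↥D.T) ∣ Nat.card ↥D.T := orderOf_dvd_natCard _
    rw [Subgroup.orderOf_mk] at h1
    exact Nat.Coprime.coprime_dvd_left h1 hT

/-- "commuting modulo `B`" for two elements of `N`, in the two shapes -/
theorem eqv_comm_iff {x y : G} (hx : x ∈ P.N) (hy : y ∈ P.N) :
    Eqv P (x * y) (y * x) ↔ x * y * x⁻¹ * y⁻¹ ∈ P.B := by
  unfold Eqv
  have hyx : y * x ∈ P.N := P.N.mul_mem hy hx
  have hcN : x * y * x⁻¹ * y⁻¹ ∈ P.N :=
    P.N.mul_mem (P.N.mul_mem (P.N.mul_mem hx hy) (P.N.inv_mem hx)) (P.N.inv_mem hy)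
  have e : (x * y)⁻¹ * (y * x) = (y * x)⁻¹ * (x * y * x⁻¹ * y⁻¹)⁻¹ * (y * x) := by group
  constructor
  · intro h
    have hN : (x * y)⁻¹ * (y * x) ∈ P.N := P.N.mul_mem (P.N.inv_mem (P.N.mul_mem hx hy)) hyx
    have h1 := T_conj_mem' hyx (⟨h, hN⟩ : (x * y)⁻¹ * (y * x) ∈ P.B ⊓ P.N)
    have e2 : (y * x) * ((x * y)⁻¹ * (y * x)) * (y * x)⁻¹ = (x * y * x⁻¹ * y⁻¹)⁻¹ := by group
    rw [e2] at h1
    exact (Subgroup.inv_mem_iff P.B).mp h1.1
  · intro h
    have h1 := T_conj_mem hyx (⟨P.B.inv_mem h, P.N.inv_mem hcN⟩ : (x * y * x⁻¹ * y⁻¹)⁻¹ ∈ P.B ⊓ P.N)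
    rw [e]
    exact h1.1

/-- **counting a minimal parabolic subgroup**: if `B = (B ∩ s⁻¹ B s) X` with `X ⊆ B` and `x ↦ B s x` injective on `X`,
then `|P_s| = |B| (1 + |X|)` -/
theorem card_parabolic_singleton [Finite G] {s : G} (hs : s ∈ P.S) (X : Set G) (hXB : X ⊆ (P.B : Set G))
    (hfac : ∀ b ∈ P.B, ∃ b' ∈ P.B, ∃ x ∈ X, b = b' * x ∧ s * b' * s⁻¹ ∈ P.B)
    (hinj : ∀ x ∈ X, ∀ x' ∈ X, s * (x * x'⁻¹) * s⁻¹ ∈ P.B → x = x') :
    Nat.card ↥(P.parabolic {s}) = Nat.card ↥P.B * (1 + Nat.card ↥X) := by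
  classical
  have hBpar : P.B ≤ P.parabolic {s} := B_le_parabolic _
  have hspar : s ∈ P.parabolic {s} := mem_parabolic_of_mem rfl
  let f : ↥P.B × Option ↥X → ↥(P.parabolic {s}) := fun q =>
    match q.2 with
    | none => ⟨q.1.1, hBpar q.1.2⟩
    | some x => ⟨q.1.1 * s * x.1, mul_mem (mul_mem (hBpar q.1.2) hspar) (hBpar (hXB x.2))⟩
  have hf : Function.Bijective f := by
    constructor
    · rintro ⟨b, o⟩ ⟨b', o'⟩ he
      have he' : (f (b, o)).1 = (f (b', o')).1 := congrArg Subtype.val he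
      rcases o with _ | x <;> rcases o' with _ | x'
      · have hb : b = b' := Subtype.ext he'
        rw [hb]
      · exfalso
        apply S_not_mem_B (P := P) hs
        have e1 : (b : G) = b'.1 * s * x'.1 := he'
        have e2 : s = b'.1⁻¹ * b.1 * x'.1⁻¹ := by rw [e1]; group
        rw [e2]
        exact P.B.mul_mem (P.B.mul_mem (P.B.inv_mem b'.2) b.2) (P.B.inv_mem (hXB x'.2))
      · exfalso
        apply S_not_mem_B (P := P) hs
        have e1 : b.1 * s * x.1 = (b' : G) := he'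
        have e2 : s = b.1⁻¹ * b'.1 * x.1⁻¹ := by rw [← e1]; group
        rw [e2]
        exact P.B.mul_mem (P.B.mul_mem (P.B.inv_mem b.2) b'.2) (P.B.inv_mem (hXB x.2))
      · have e1 : b.1 * s * x.1 = b'.1 * s * x'.1 := he'
        have e2 : s * (x.1 * x'.1⁻¹) * s⁻¹ = b.1⁻¹ * b'.1 := by
          have : s * x.1 = b.1⁻¹ * (b'.1 * s * x'.1) := by rw [← e1]; group
          calc s * (x.1 * x'.1⁻¹) * s⁻¹ = (s * x.1) * x'.1⁻¹ * s⁻¹ := by group
            _ = b.1⁻¹ * (b'.1 * s * x'.1) * x'.1⁻¹ * s⁻¹ := by rw [this]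
            _ = b.1⁻¹ * b'.1 := by group
        have hx : x.1 = x'.1 := hinj x.1 x.2 x'.1 x'.2 (by rw [e2]; exact P.B.mul_mem (P.B.inv_mem b.2) b'.2)
        have hxx : x = x' := Subtype.ext hx
        subst hxx
        have hb : b.1 = b'.1 := by
          have := congrArg (fun z => z * (s * x.1)⁻¹) e1
          simpa [mul_assoc] using this
        have hbb : b = b' := Subtype.ext hb
        rw [hbb]
    · rintro ⟨g, hg⟩
      have hg' : g ∈ ((P.parabolic {s} : Subgroup G) : Set G) := hg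
      rw [coe_parabolic_singleton hs] at hg'
      rcases hg' with hgB | hgC
      · exact ⟨(⟨g, hgB⟩, none), rfl⟩
      · obtain ⟨b₁, hb₁, b₂, hb₂, rfl⟩ := mem_C_iff.1 hgC
        obtain ⟨b', hb', x, hx, hbx, hconj⟩ := hfac b₂ hb₂
        refine ⟨(⟨b₁ * (s * b' * s⁻¹), P.B.mul_mem hb₁ hconj⟩, some ⟨x, hx⟩), ?_⟩
        apply Subtype.ext
        show b₁ * (s * b' * s⁻¹) * s * x = b₁ * s * b₂
        rw [hbx]; group
  have h1 := Nat.card_eq_of_bijective f hf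
  rw [← h1, Nat.card_prod, Finite.card_option, add_comm]

end Cfsg.Agent.Lib.H8.PM
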