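import Mathlib
import Cfsg.Agent.Lib.H26.PPearlDefs

/-!
# S5238 piece PW (general `p`): the power structure of `γ₂`, from the collection formula passed as a hypothesis
(helper8, for architect helper26)
-/

set_option autoImplicit false

namespace Cfsg.Agent.Lib.H8.PPearl

open Cfsg.Agent.Lib.H22.Pearl Cfsg.Agent.Lib.H26.PPearl

variable {G : Type*} [Group G] {e : G}

theorem ppw_L_anti {i j : ℕ} (h : i ≤ j) : L G j ≤ L G i :=
  Subgroup.lowerCentralSeries_antitone _ h

theorem ppw_comm_mem {i j : ℕ} {x y : G} (hx : x ∈ L G i) (hy : y ∈ L G j) :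
    x * y * x⁻¹ * y⁻¹ ∈ L G (i + j + 1) :=
  Cfsg.Agent.Lib.H9.PolySeq.commutator_lcs_le j i (Subgroup.commutator_mem_commutator hx hy)

theorem ppw_comm_top_mem {i : ℕ} {x : G} (hx : x ∈ L G i) (y : G) :
    x * y * x⁻¹ * y⁻¹ ∈ L G (i + 1) :=
  Subgroup.commutator_mem_commutator hx (Subgroup.mem_top y)

theorem ppw_itc_mem {i : ℕ} {d : G} (hd : d ∈ L G i) : ∀ j, itc e d j ∈ L G (i + j)
  | 0 => hd
  | (j + 1) => by
    have h1 := ppw_itc_mem hd j
    have h2 := ppw_comm_top_mem (inv_mem h1) e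
    rw [inv_inv] at h2
    exact h2

/-- The statement of COLLECT for the group `G`. -/
def CollectAt (G : Type*) [Group G] (p : ℕ) : Prop :=
  ∀ (K : ℕ → Subgroup G) (e : G), (∀ a, (K a).Normal) → (∀ a, K (a + 1) ≤ K a) →
    (∀ a b, ∀ x ∈ K a, ∀ y ∈ K b, x * y * x⁻¹ * y⁻¹ ∈ K (a + b + 2)) →
    (∀ a, ∀ x ∈ K a, x * e * x⁻¹ * e⁻¹ ∈ K (a + 1)) →
    (∀ x ∈ K 1, x ^ p ∈ K p) →
    ∀ d : G, d ∈ K 0 → ((d * e) ^ p)⁻¹ * (d ^ p * itc e d (p - 1) * e ^ p) ∈ K p

theorem ppw_key {p : ℕ} (hp : p.Prime) (hcol : CollectAt G p) (he : e ^ p = 1)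
    (hcls : ∀ d ∈ L G 1, (e * d) ^ p = 1) (i : ℕ) (hi : 1 ≤ i)
    (ihA : ∀ x ∈ L G (i + 1), x ^ p ∈ L G (i + 1 + (p - 1))) (d : G) (hd : d ∈ L G i) :
    d ^ p * itc e d (p - 1) ∈ L G (i + p) := by
  have hp1 : 1 ≤ p := hp.one_lt.le
  have h := hcol (fun a => L G (i + a)) e (fun a => inferInstance)
    (fun a => ppw_L_anti (by omega))
    (fun a b x hx y hy => ppw_L_anti (by omega) (ppw_comm_mem hx hy))
    (fun a x hx => ppw_comm_top_mem hx e)
    (fun x hx => by
      have := ihA x hx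
      rwa [show i + 1 + (p - 1) = i + p by omega] at this)
    d hd
  have hde : (d * e) ^ p = 1 := by
    have h1 : d * e = e⁻¹ * (e * d) * e⁻¹⁻¹ := by group
    rw [h1, conj_pow, hcls d (ppw_L_anti hi hd)]
    group
  rw [hde, he, inv_one, one_mul, mul_one] at h
  exact h

/-- **PW** from COLLECT. -/
theorem pow_struct_of_collect {p : ℕ} (hp : p.Prime) (hcol : CollectAt G p) (he : e ^ p = 1) (m : ℕ)
    (hbot : L G m = ⊥) (hcls : ∀ d ∈ L G 1, (e * d) ^ p = 1)
    (hU2 : ∀ i, 1 ≤ i → i + 1 < m → ∀ d ∈ L G i, d ∉ L G (i + 1) → d * e * d⁻¹ * e⁻¹ ∉ L G (i + 2)) :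
    ∀ i, 1 ≤ i → (∀ d ∈ L G i, d ^ p ∈ L G (i + (p - 1))) ∧
      (i + (p - 1) < m → ∀ d ∈ L G i, d ∉ L G (i + 1) → d ^ p ∉ L G (i + p)) := by
  have hp1 : 1 ≤ p := hp.one_lt.le
  have main : ∀ k i, m ≤ i + k → 1 ≤ i → (∀ d ∈ L G i, d ^ p ∈ L G (i + (p - 1))) ∧
      (i + (p - 1) < m → ∀ d ∈ L G i, d ∉ L G (i + 1) → d ^ p ∉ L G (i + p)) := by
    intro k
    induction k with
    | zero =>
      intro i hmi hi
      have hLi : L G i = ⊥ := le_bot_iff.1 (hbot ▸ ppw_L_anti (by omega))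
      refine ⟨fun d hd => ?_, fun h => by omega⟩
      rw [hLi, Subgroup.mem_bot] at hd
      subst hd
      rw [one_pow]; exact one_mem _
    | succ k ih =>
      intro i hmi hi
      obtain ⟨ihA, -⟩ := ih (i + 1) (by omega) (by omega)
      refine ⟨fun d hd => ?_, fun him d hd hd' => ?_⟩
      · have h3 := ppw_key hp hcol he hcls i hi ihA d hd
        have h4 : itc e d (p - 1) ∈ L G (i + (p - 1)) := ppw_itc_mem hd (p - 1)
        have := mul_mem (ppw_L_anti (show i + (p - 1) ≤ i + p by omega) h3) (inv_mem h4)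
        rwa [mul_inv_cancel_right] at this
      · have h3 := ppw_key hp hcol he hcls i hi ihA d hd
        intro hdp
        have h5 : itc e d (p - 1) ∈ L G (i + p) := by
          have := mul_mem (inv_mem hdp) h3
          rwa [inv_mul_cancel_left] at this
        -- `d_j ∉ L (i+j+1)` for `j ≤ p-1`
        have h6 : ∀ j, j ≤ p - 1 → itc e d j ∉ L G (i + j + 1) := by
          intro j
          induction j with
          | zero => intro _; exact hd'
          | succ j ihj =>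
            intro hj
            have hj' := ihj (by omega)
            have hmem : itc e d j ∈ L G (i + j) := ppw_itc_mem hd j
            have := hU2 (i + j) (by omega) (by omega) (itc e d j)⁻¹ (inv_mem hmem)
              (fun h => hj' (by have := inv_mem h; rwa [inv_inv] at this))
            rw [inv_inv] at this
            exact this
        have h7 := h6 (p - 1) le_rfl
        rw [show i + (p - 1) + 1 = i + p by omega] at h7
        exact h7 h5
  intro i hi
  exact main m i (by omega) hi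

end Cfsg.Agent.Lib.H8.PPearl
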