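import Mathlib
import Cfsg.Agent.Lib.H4.SLKDefs
import Cfsg.Agent.Lib.H15.SLKP24
import Cfsg.Agent.Lib.H15.SLKP27

/-!
# S2480: the numerical step for the non-trivial central elements

If `Q · fix(z) ≤ Rn Q (n / ord z)` for the `≤ gcd(n, Q) - 1` non-trivial central elements `z`
(`2 ≤ ord z ∣ n`), then `∑ fix(z) ≤ 2 q^(n-2)` (`q = Q + 1`, `n ≥ 3`).
-/

set_option autoImplicit false

namespace Cfsg.Agent.Lib.H8.PSLK

open Cfsg.Agent.Lib.H12.Cls Cfsg.Agent.Lib.H4.SLK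

theorem Rn_one (Q : ℕ) : Rn Q 1 = Q := by
  unfold Rn
  rw [Nat.gcd_one_left]
  have : (Nat.divisors 1).erase 1 = ∅ := by decide
  rw [this, Finset.sum_empty, Cfsg.Agent.Lib.H15.SLK.tn1, add_zero]

/-- one non-trivial central element -/
theorem two_mul_fix_le (Q n m k : ℕ) (hQ : 1 ≤ Q) (hn : 1 ≤ n) (hm : 2 ≤ m) (hmn : m ∣ n)
    (hk : Q * k ≤ Rn Q (n / m)) : 2 * k ≤ 5 * (Q + 1) ^ (n / 2 - 1) := by
  have hn' : 1 ≤ n / m := by
    obtain ⟨c, rfl⟩ := hmn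
    rw [Nat.mul_div_cancel_left c (by omega)]
    rcases Nat.eq_zero_or_pos c with rfl | hc
    · omega
    · exact hc
  have hle : n / m ≤ n / 2 := Nat.div_le_div_left hm (by norm_num)
  have hpow : (Q + 1) ^ (n / m - 1) ≤ (Q + 1) ^ (n / 2 - 1) :=
    Nat.pow_le_pow_right (by omega) (by omega)
  have h1 : 2 * k ≤ 5 * (Q + 1) ^ (n / m - 1) := by
    rcases Nat.lt_or_ge (n / m) 2 with h | h
    · have h1 : n / m = 1 := by omega
      rw [h1, Rn_one] at hk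
      have hk1 : k ≤ 1 := by
        by_contra hcon
        have : 2 ≤ k := by omega
        nlinarith
      rw [h1]
      simp
      omega
    · exact (Cfsg.Agent.Lib.H15.SLK.num_main Q (n / m) k hQ h hk).1
  calc 2 * k ≤ 5 * (Q + 1) ^ (n / m - 1) := h1
    _ ≤ 5 * (Q + 1) ^ (n / 2 - 1) := Nat.mul_le_mul_left 5 hpow

/-- the arithmetic: `5 (d - 1) q^(n/2 - 1) ≤ 4 q^(n-2)` -/
theorem arith (Q n d : ℕ) (hQ : 1 ≤ Q) (hn : 3 ≤ n) (hdn : d ∣ n) (hdQ : d ∣ Q) :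
    (d - 1) * (5 * (Q + 1) ^ (n / 2 - 1)) ≤ 4 * (Q + 1) ^ (n - 2) := by
  have hdQ' : d ≤ Q := Nat.le_of_dvd (by omega) hdQ
  have hdn' : d ≤ n := Nat.le_of_dvd (by omega) hdn
  rcases Nat.eq_zero_or_pos d with rfl | hd
  · simp
  obtain ⟨e, rfl⟩ : ∃ e, d = e + 1 := ⟨d - 1, by omega⟩
  rw [Nat.add_sub_cancel]
  by_cases h3 : n = 3
  · subst h3
    have : e + 1 = 1 ∨ e + 1 = 3 := by
      have := (Nat.dvd_prime Nat.prime_three).mp hdn
      exact this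
    norm_num
    rcases this with h | h
    · have : e = 0 := by omega
      subst this; simp
    · have : e = 2 := by omega
      subst this
      omega
  by_cases h4 : n = 4
  · subst h4
    norm_num
    have : e * 5 ≤ 4 * (Q + 1) := by omega
    nlinarith
  · have h5 : 5 ≤ n := by omega
    have hexp : n / 2 - 1 ≤ n - 4 := by omega
    have hpow : (Q + 1) ^ (n / 2 - 1) ≤ (Q + 1) ^ (n - 4) := Nat.pow_le_pow_right (by omega) hexp
    have hsplit : (Q + 1) ^ (n - 2) = (Q + 1) ^ 2 * (Q + 1) ^ (n - 4) := by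
      rw [← pow_add]; congr 1; omega
    rw [hsplit]
    have h1 : e * 5 ≤ 4 * (Q + 1) ^ 2 := by nlinarith
    calc e * (5 * (Q + 1) ^ (n / 2 - 1)) ≤ e * (5 * (Q + 1) ^ (n - 4)) :=
          Nat.mul_le_mul_left _ (Nat.mul_le_mul_left _ hpow)
      _ = (e * 5) * (Q + 1) ^ (n - 4) := by ring
      _ ≤ (4 * (Q + 1) ^ 2) * (Q + 1) ^ (n - 4) := Nat.mul_le_mul_right _ h1
      _ = 4 * ((Q + 1) ^ 2 * (Q + 1) ^ (n - 4)) := by ring

/-- **(NUM)** the contribution of the non-trivial central elements -/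
theorem sum_fix_le {ι : Type*} (s : Finset ι) (Q n : ℕ) (hQ : 1 ≤ Q) (hn : 3 ≤ n) (fx ord : ι → ℕ)
    (hcard : s.card + 1 ≤ Nat.gcd n Q) (hord : ∀ z ∈ s, 2 ≤ ord z ∧ ord z ∣ n)
    (hfix : ∀ z ∈ s, Q * fx z ≤ Rn Q (n / ord z)) :
    ∑ z ∈ s, fx z ≤ 2 * (Q + 1) ^ (n - 2) := by
  have h1 : ∀ z ∈ s, 2 * fx z ≤ 5 * (Q + 1) ^ (n / 2 - 1) := fun z hz =>
    two_mul_fix_le Q n (ord z) (fx z) hQ (by omega) (hord z hz).1 (hord z hz).2 (hfix z hz)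
  have h2 : 2 * ∑ z ∈ s, fx z ≤ s.card * (5 * (Q + 1) ^ (n / 2 - 1)) := by
    rw [Finset.mul_sum, ← smul_eq_mul (a := s.card)]
    exact Finset.sum_le_card_nsmul s _ _ h1
  have h3 : s.card ≤ Nat.gcd n Q - 1 := by omega
  have h4 := arith Q n (Nat.gcd n Q) hQ hn (Nat.gcd_dvd_left n Q) (Nat.gcd_dvd_right n Q)
  have h5 : s.card * (5 * (Q + 1) ^ (n / 2 - 1)) ≤
      (Nat.gcd n Q - 1) * (5 * (Q + 1) ^ (n / 2 - 1)) := Nat.mul_le_mul_right _ h3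
  omega

end Cfsg.Agent.Lib.H8.PSLK
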