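import Mathlib
import Cfsg.Agent.S2479
import Cfsg.Agent.Lib.H8.CentralClassCount
import Cfsg.Agent.Lib.H8.PSLKNum
import Cfsg.Agent.Lib.H11.SLCenterCard

/-!
# S2480: assembly for `n ≥ 3`, given the bound for the fixed classes of a central element
-/

set_option autoImplicit false

namespace Cfsg.Agent.Lib.H8.PSLK

open Cfsg.Agent.Lib.H12.Cls Cfsg.Agent.Lib.H4.SLK Cfsg.Agent.Lib.H8.CentralClassCount

/-- `d · k(PSL_n(q)) = k(SL_n(q)) + ∑_{z ≠ 1} fix(z)` -/
theorem gcd_mul_card_classes_PSL {F : Type*} [Field F] [Fintype F] (n : ℕ) (hn : 1 ≤ n)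
    [Fintype ↥(Subgroup.center (Matrix.SpecialLinearGroup (Fin n) F))]
    [DecidableEq ↥(Subgroup.center (Matrix.SpecialLinearGroup (Fin n) F))] :
    Nat.gcd n (Fintype.card F - 1) *
        Nat.card (ConjClasses (Matrix.ProjectiveSpecialLinearGroup (Fin n) F)) =
      Nat.card (ConjClasses (Matrix.SpecialLinearGroup (Fin n) F)) +
        ∑ z ∈ (Finset.univ : Finset ↥(Subgroup.center (Matrix.SpecialLinearGroup (Fin n) F))).erase 1,
          Nat.card {C : ConjClasses (Matrix.SpecialLinearGroup (Fin n) F) //
            mulClass (z : Matrix.SpecialLinearGroup (Fin n) F) z.2 C = C} := by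
  have h := card_classes_quotient_mul' (Subgroup.center (Matrix.SpecialLinearGroup (Fin n) F)) le_rfl
  rw [Cfsg.Agent.Lib.H11.SLCenter.card_center_SL n hn, mul_comm] at h
  exact h

/-- **(ASM3)** the bounds for `n ≥ 3` from the bound for the classes fixed by a central element -/
theorem psl_bounds_of {F : Type*} [Field F] [Fintype F] (n : ℕ) (hn : 3 ≤ n)
    (hfixz : ∀ (z : Matrix.SpecialLinearGroup (Fin n) F)
      (hz : z ∈ Subgroup.center (Matrix.SpecialLinearGroup (Fin n) F)), z ≠ 1 →
      (Fintype.card F - 1) * Nat.card {C : ConjClasses (Matrix.SpecialLinearGroup (Fin n) F) //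
          mulClass z hz C = C} ≤ Rn (Fintype.card F - 1) (n / orderOf z)) :
    Fintype.card F ^ (n - 1) ≤ Nat.gcd n (Fintype.card F - 1) *
        Nat.card (ConjClasses (Matrix.ProjectiveSpecialLinearGroup (Fin n) F)) ∧
      Nat.gcd n (Fintype.card F - 1) *
        Nat.card (ConjClasses (Matrix.ProjectiveSpecialLinearGroup (Fin n) F)) ≤
          Fintype.card F ^ (n - 1) + 5 * Fintype.card F ^ (n - 2) := by
  classical
  haveI : Fintype ↥(Subgroup.center (Matrix.SpecialLinearGroup (Fin n) F)) := Fintype.ofFinite _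
  have hq : Fintype.card F - 1 + 1 = Fintype.card F := by
    have : 1 < Fintype.card F := Fintype.one_lt_card
    omega
  have hQ : 1 ≤ Fintype.card F - 1 := by
    have : 1 < Fintype.card F := Fintype.one_lt_card
    omega
  have hmain := gcd_mul_card_classes_PSL (F := F) n (by omega)
  obtain ⟨hlow, -, hup⟩ := Cfsg.Agent.S2479.result (F := F) n (by omega)
  have hup' := hup hn
  have hcZ : Fintype.card ↥(Subgroup.center (Matrix.SpecialLinearGroup (Fin n) F)) =
      Nat.gcd n (Fintype.card F - 1) := by
    rw [← Nat.card_eq_fintype_card, Cfsg.Agent.Lib.H11.SLCenter.card_center_SL n (by omega)]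
  have hsum := sum_fix_le
    ((Finset.univ : Finset ↥(Subgroup.center (Matrix.SpecialLinearGroup (Fin n) F))).erase 1)
    (Fintype.card F - 1) n hQ hn
    (fun z => Nat.card {C : ConjClasses (Matrix.SpecialLinearGroup (Fin n) F) //
            mulClass (z : Matrix.SpecialLinearGroup (Fin n) F) z.2 C = C})
    (fun z => orderOf (z : Matrix.SpecialLinearGroup (Fin n) F))
    (by
      rw [Finset.card_erase_of_mem (Finset.mem_univ _), Finset.card_univ, hcZ]
      have : 0 < Nat.gcd n (Fintype.card F - 1) := Nat.gcd_pos_of_pos_left _ (by omega)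
      omega)
    (by
      intro z hz
      have hz1 : z ≠ 1 := (Finset.mem_erase.mp hz).1
      have hz1' : (z : Matrix.SpecialLinearGroup (Fin n) F) ≠ 1 := by
        intro h; exact hz1 (Subtype.ext h)
      have hord : orderOf (z : Matrix.SpecialLinearGroup (Fin n) F) = orderOf z :=
        Subgroup.orderOf_coe z
      have hdvd : orderOf z ∣ Nat.gcd n (Fintype.card F - 1) := by
        rw [← hcZ]; exact orderOf_dvd_card
      constructor
      · have hpos : 0 < orderOf (z : Matrix.SpecialLinearGroup (Fin n) F) := orderOf_pos _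
        have hne : orderOf (z : Matrix.SpecialLinearGroup (Fin n) F) ≠ 1 := by
          rw [Ne, orderOf_eq_one_iff]; exact hz1'
        omega
      · rw [hord]
        exact hdvd.trans (Nat.gcd_dvd_left _ _))
    (by
      intro z hz
      have hz1 : z ≠ 1 := (Finset.mem_erase.mp hz).1
      have hz1' : (z : Matrix.SpecialLinearGroup (Fin n) F) ≠ 1 := by
        intro h; exact hz1 (Subtype.ext h)
      exact hfixz z z.2 hz1')
  rw [hq] at hsum
  rw [hmain]
  constructor
  · omega
  · omega

end Cfsg.Agent.Lib.H8.PSLK
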