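import Mathlib
import Cfsg.Agent.Lib.H22.PearlDefs

/-!
# S5239 piece PDC: positive degree of commutativity (helper8, for architect helper22)
-/

set_option autoImplicit false

namespace Cfsg.Agent.Lib.H8.Pearl

open Cfsg.Agent.Lib.H22.Pearl

variable {G : Type*} [Group G] {e : G}

theorem pdc_L_anti {i j : ℕ} (h : i ≤ j) : L G j ≤ L G i :=
  Subgroup.lowerCentralSeries_antitone _ h

theorem pdc_comm_mem {i j : ℕ} {x y : G} (hx : x ∈ L G i) (hy : y ∈ L G j) :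
    x * y * x⁻¹ * y⁻¹ ∈ L G (i + j + 1) :=
  Cfsg.Agent.Lib.H9.PolySeq.commutator_lcs_le j i (Subgroup.commutator_mem_commutator hx hy)

theorem pdc_comm_top_mem {i : ℕ} {x : G} (hx : x ∈ L G i) (y : G) :
    x * y * x⁻¹ * y⁻¹ ∈ L G (i + 1) :=
  Subgroup.commutator_mem_commutator hx (Subgroup.mem_top y)

/-- The elements commuting with `h` modulo the normal subgroup `N`. -/
def pdcCent (N : Subgroup G) [N.Normal] (h : G) : Subgroup G :=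
  (Subgroup.centralizer {(h : G ⧸ N)}).comap (QuotientGroup.mk' N)

theorem mem_pdcCent (N : Subgroup G) [N.Normal] (h y : G) :
    y ∈ pdcCent N h ↔ y * h * y⁻¹ * h⁻¹ ∈ N := by
  unfold pdcCent
  rw [Subgroup.mem_comap, Subgroup.mem_centralizer_iff, ← QuotientGroup.eq_one_iff]
  simp only [Set.mem_singleton_iff, forall_eq, QuotientGroup.mk'_apply, QuotientGroup.mk_mul,
    QuotientGroup.mk_inv]
  constructor
  · intro hc
    rw [← hc]; group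
  · intro hc
    have h2 := congrArg (fun z => z * (h : G ⧸ N) * (y : G ⧸ N)) hc
    simp only [inv_mul_cancel_right, one_mul] at h2
    exact h2.symm

/-- Semiconjugation bookkeeping: if `c = [a,h]` commutes with `a` and `c^3 = 1` then `a^3` commutes with `h`. -/
theorem pdc_cube_aux {Q : Type*} [Group Q] (a h c : Q) (hc : c = a * h * a⁻¹ * h⁻¹)
    (hac : a * c = c * a) (hc3 : c ^ 3 = 1) : a ^ 3 * h = h * a ^ 3 := by
  have h0 : SemiconjBy a h (c * h) := by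
    show a * h = c * h * a
    rw [hc]; group
  have hcc : SemiconjBy a c c := hac
  have h1 : SemiconjBy a (c * h) (c * (c * h)) := hcc.mul_right h0
  have h2 : SemiconjBy a (c * (c * h)) (c * (c * (c * h))) := hcc.mul_right h1
  have h3 : SemiconjBy (a * (a * a)) h (c * (c * (c * h))) := h2.mul_left (h1.mul_left h0)
  have e1 : c * (c * (c * h)) = h := by
    have : c * (c * (c * h)) = c ^ 3 * h := by simp only [pow_succ, pow_zero, one_mul, mul_assoc]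
    rw [this, hc3, one_mul]
  have e2 : a * (a * a) = a ^ 3 := by simp only [pow_succ, pow_zero, one_mul, mul_assoc]
  rw [e1, e2] at h3
  exact h3

theorem pdc_cube_mem (N : Subgroup G) [N.Normal] (d h : G)
    (hdc : d * (d * h * d⁻¹ * h⁻¹) * d⁻¹ * (d * h * d⁻¹ * h⁻¹)⁻¹ ∈ N)
    (hc3 : (d * h * d⁻¹ * h⁻¹) ^ 3 ∈ N) : d ^ 3 * h * (d ^ 3)⁻¹ * h⁻¹ ∈ N := by
  rw [← QuotientGroup.eq_one_iff] at hdc hc3 ⊢
  have hc : ((d * h * d⁻¹ * h⁻¹ : G) : G ⧸ N) = (d : G ⧸ N) * h * (d : G ⧸ N)⁻¹ * (h : G ⧸ N)⁻¹ := by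
    simp only [QuotientGroup.mk_mul, QuotientGroup.mk_inv]
  have hac : (d : G ⧸ N) * ((d * h * d⁻¹ * h⁻¹ : G) : G ⧸ N) =
      ((d * h * d⁻¹ * h⁻¹ : G) : G ⧸ N) * (d : G ⧸ N) := by
    have h2 := congrArg (fun z => z * ((d * h * d⁻¹ * h⁻¹ : G) : G ⧸ N) * (d : G ⧸ N)) hdc
    simp only [QuotientGroup.mk_mul (N := N) (a := d * (d * h * d⁻¹ * h⁻¹) * d⁻¹),
      QuotientGroup.mk_mul (N := N) (a := d * (d * h * d⁻¹ * h⁻¹)),
      QuotientGroup.mk_mul (N := N) (a := d) (b := (d * h * d⁻¹ * h⁻¹)),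
      QuotientGroup.mk_inv (N := N) (a := d), QuotientGroup.mk_inv (N := N) (a := (d * h * d⁻¹ * h⁻¹)),
      inv_mul_cancel_right, one_mul] at h2
    exact h2
  have hc3' : (((d * h * d⁻¹ * h⁻¹ : G) : G ⧸ N)) ^ 3 = 1 := by
    rw [← QuotientGroup.mk_pow]; exact hc3
  have key := pdc_cube_aux (d : G ⧸ N) (h : G ⧸ N) _ hc hac hc3'
  have : ((d ^ 3 * h * (d ^ 3)⁻¹ * h⁻¹ : G) : G ⧸ N) =
      ((d : G ⧸ N) ^ 3 * h) * ((d : G ⧸ N) ^ 3)⁻¹ * (h : G ⧸ N)⁻¹ := by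
    simp only [QuotientGroup.mk_mul, QuotientGroup.mk_inv, QuotientGroup.mk_pow]
  rw [this, key]; group

theorem pdc_two (hU : ∀ y ∈ L G 2, ∃ d ∈ L G 1, d * e * d⁻¹ * e⁻¹ = y)
    (hab : ∀ x ∈ L G 1, ∀ y ∈ L G 1, x * y * x⁻¹ * y⁻¹ ∈ L G 4)
    (h : G) (hh : h ∈ S1 G) : ∀ y ∈ L G 2, y * h * y⁻¹ * h⁻¹ ∈ L G 4 := by
  intro y hy
  obtain ⟨d, hd, rfl⟩ := hU y hy
  have h3 : ⁅⁅L G 1, Subgroup.zpowers e⁆, Subgroup.zpowers h⁆ ≤ L G 4 := by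
    apply Cfsg.Agent.Lib.H9.PolySeq.three_subgroups_mod
    · have h1 : ⁅Subgroup.zpowers e, Subgroup.zpowers h⁆ ≤ L G 1 :=
        Subgroup.commutator_mono le_top le_top
      refine (Subgroup.commutator_mono h1 le_rfl).trans ?_
      rw [Subgroup.commutator_le]
      intro x hx y hy
      exact hab x hx y hy
    · have h1 : ⁅Subgroup.zpowers h, L G 1⁆ ≤ L G 3 := by
        rw [Subgroup.commutator_comm, Subgroup.commutator_le]
        intro x hx z hz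
        have hz' : z ∈ S1 G := (Subgroup.zpowers_le.2 hh) hz
        exact mem_S1.1 hz' x hx
      exact Subgroup.commutator_mono h1 le_top
  exact h3 (Subgroup.commutator_mem_commutator
    (Subgroup.commutator_mem_commutator hd (Subgroup.mem_zpowers e)) (Subgroup.mem_zpowers h))

theorem pdc_step (hpw : ∀ i, 1 ≤ i → ∀ d ∈ L G i, d ^ 3 ∈ L G (i + 2))
    (hgen : ∀ i, 1 ≤ i → ∀ y ∈ L G (i + 2), ∃ d ∈ L G i, ∃ k : ℕ, ∃ y' ∈ L G (i + 3),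
      y = (d ^ 3) ^ k * y')
    (h : G) (i : ℕ) (hi : 1 ≤ i) (hP : ∀ y ∈ L G i, y * h * y⁻¹ * h⁻¹ ∈ L G (i + 2)) :
    ∀ y ∈ L G (i + 2), y * h * y⁻¹ * h⁻¹ ∈ L G (i + 2 + 2) := by
  intro y hy
  obtain ⟨d, hd, k, y', hy', rfl⟩ := hgen i hi y hy
  rw [← mem_pdcCent]
  refine mul_mem (pow_mem ?_ k) ?_
  · -- `d ^ 3`
    rw [mem_pdcCent]
    have hc : d * h * d⁻¹ * h⁻¹ ∈ L G (i + 2) := hP d hd
    have hc3 : (d * h * d⁻¹ * h⁻¹) ^ 3 ∈ L G (i + 2 + 2) := hpw (i + 2) (by omega) _ hc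
    have hdc : d * (d * h * d⁻¹ * h⁻¹) * d⁻¹ * (d * h * d⁻¹ * h⁻¹)⁻¹ ∈ L G (i + 2 + 2) :=
      pdc_L_anti (by omega) (pdc_comm_mem hd hc)
    exact pdc_cube_mem _ d h hdc hc3
  · rw [mem_pdcCent]
    exact pdc_comm_top_mem hy' h

/-- **PDC**. -/
theorem pdc (hU : ∀ y ∈ L G 2, ∃ d ∈ L G 1, d * e * d⁻¹ * e⁻¹ = y)
    (hab : ∀ x ∈ L G 1, ∀ y ∈ L G 1, x * y * x⁻¹ * y⁻¹ ∈ L G 4)
    (hpw : ∀ i, 1 ≤ i → ∀ d ∈ L G i, d ^ 3 ∈ L G (i + 2))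
    (hgen : ∀ i, 1 ≤ i → ∀ y ∈ L G (i + 2), ∃ d ∈ L G i, ∃ k : ℕ, ∃ y' ∈ L G (i + 3), y = (d ^ 3) ^ k * y')
    (h : G) (hh : h ∈ S1 G) :
    ∀ i, 1 ≤ i → ∀ y ∈ L G i, y * h * y⁻¹ * h⁻¹ ∈ L G (i + 2) := by
  have main : ∀ j, (∀ y ∈ L G (j + 1), y * h * y⁻¹ * h⁻¹ ∈ L G (j + 1 + 2)) ∧
      (∀ y ∈ L G (j + 2), y * h * y⁻¹ * h⁻¹ ∈ L G (j + 2 + 2)) := by
    intro j
    induction j with
    | zero =>
      exact ⟨fun y hy => mem_S1.1 hh y hy, pdc_two hU hab h hh⟩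
    | succ j ih =>
      exact ⟨ih.2, pdc_step hpw hgen h (j + 1) (by omega) ih.1⟩
  intro i hi
  obtain ⟨j, rfl⟩ : ∃ j, i = j + 1 := ⟨i - 1, by omega⟩
  exact (main j).1

end Cfsg.Agent.Lib.H8.Pearl
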