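import Mathlib
import Cfsg.Agent.Lib.H22.PearlDefs

/-!
# S5239 piece PW: the power structure of `γ₂` (helper8, for architect helper22)
-/

set_option autoImplicit false

namespace Cfsg.Agent.Lib.H8.Pearl

open Cfsg.Agent.Lib.H22.Pearl

variable {G : Type*} [Group G] {e : G}

theorem pw_L_anti {i j : ℕ} (h : i ≤ j) : L G j ≤ L G i :=
  Subgroup.lowerCentralSeries_antitone _ h

theorem pw_comm_mem {i j : ℕ} {x y : G} (hx : x ∈ L G i) (hy : y ∈ L G j) :
    x * y * x⁻¹ * y⁻¹ ∈ L G (i + j + 1) :=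
  Cfsg.Agent.Lib.H9.PolySeq.commutator_lcs_le j i (Subgroup.commutator_mem_commutator hx hy)

theorem pw_comm_top_mem {i : ℕ} {x : G} (hx : x ∈ L G i) (y : G) :
    x * y * x⁻¹ * y⁻¹ ∈ L G (i + 1) :=
  Subgroup.commutator_mem_commutator hx (Subgroup.mem_top y)

/-- Commutative bookkeeping in a quotient. -/
theorem pw_cube_aux {Q : Type*} [Group Q] (a b c : Q) (hab : a * b = b * a) (hac : a * c = c * a)
    (hbc : b * c = c * b) (h : (a * b) * (a * b * b * c) * a = 1) (hb : b ^ 3 = 1) :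
    a ^ 3 * c = 1 := by
  have hab' : Commute a b := hab
  have hac' : Commute a c := hac
  have hbc' : Commute b c := hbc
  have h1 : (a * b) * (a * b * b * c) * a = a * (a * (a * (b * (b * (b * c))))) := by
    simp only [mul_assoc, hab'.symm.left_comm, hac'.symm.eq]
  rw [h1] at h
  have h2 : b * (b * (b * c)) = c := by
    have : b * (b * (b * c)) = b ^ 3 * c := by simp only [pow_succ, pow_zero, one_mul, mul_assoc]
    rw [this, hb, one_mul]
  rw [h2] at h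
  rw [← h]
  simp only [pow_succ, pow_zero, one_mul, mul_assoc]

theorem pw_quot (N : Subgroup G) [N.Normal] (d u v : G) (hdu : d * u * d⁻¹ * u⁻¹ ∈ N)
    (hdv : d * v * d⁻¹ * v⁻¹ ∈ N) (huv : u * v * u⁻¹ * v⁻¹ ∈ N)
    (hrel : (d * u) * (d * u * u * v) * d = 1) (hu3 : u ^ 3 ∈ N) : d ^ 3 * v ∈ N := by
  rw [← QuotientGroup.eq_one_iff]
  have comm_of : ∀ x y : G, x * y * x⁻¹ * y⁻¹ ∈ N →
      ((x : G ⧸ N) * (y : G ⧸ N) = (y : G ⧸ N) * x) := by
    intro x y hxy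
    rw [← QuotientGroup.eq_one_iff] at hxy
    have h2 := congrArg (fun z => z * (y : G ⧸ N) * (x : G ⧸ N)) hxy
    simpa [mul_assoc] using h2
  have hu3' : ((u : G ⧸ N)) ^ 3 = 1 := by
    rw [← QuotientGroup.mk_pow, QuotientGroup.eq_one_iff]
    exact hu3
  have hrelQ : ((d : G ⧸ N) * u) * ((d : G ⧸ N) * u * u * v) * d = 1 := by
    have := congrArg (fun z : G => (z : G ⧸ N)) hrel
    simpa using this
  have := pw_cube_aux (d : G ⧸ N) u v (comm_of d u hdu) (comm_of d v hdv)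
    (comm_of u v huv) hrelQ hu3'
  simpa using this

theorem pw_key (he : e ^ 3 = 1) (hcls : ∀ d ∈ L G 1, (e * d) ^ 3 = 1) (i : ℕ) (hi : 1 ≤ i)
    (ihA : ∀ d ∈ L G (i + 1), d ^ 3 ∈ L G (i + 1 + 2)) (d : G) (hd : d ∈ L G i) :
    d⁻¹ * e * d * e⁻¹ ∈ L G (i + 1) ∧
    (d⁻¹ * e * d * e⁻¹)⁻¹ * e * (d⁻¹ * e * d * e⁻¹) * e⁻¹ ∈ L G (i + 2) ∧
    d ^ 3 * ((d⁻¹ * e * d * e⁻¹)⁻¹ * e * (d⁻¹ * e * d * e⁻¹) * e⁻¹) ∈ L G (i + 3) := by
  have hu_mem : d⁻¹ * e * d * e⁻¹ ∈ L G (i + 1) := by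
    have := pw_comm_top_mem (inv_mem hd) e
    rwa [inv_inv] at this
  have hv_mem : (d⁻¹ * e * d * e⁻¹)⁻¹ * e * (d⁻¹ * e * d * e⁻¹) * e⁻¹ ∈ L G (i + 2) := by
    have := pw_comm_top_mem (inv_mem hu_mem) e
    rwa [inv_inv] at this
  refine ⟨hu_mem, hv_mem, ?_⟩
  generalize hu : d⁻¹ * e * d * e⁻¹ = u at *
  generalize hv : u⁻¹ * e * u * e⁻¹ = v at *
  -- the relation
  have hrel : (d * u) * (d * u * u * v) * d = 1 := by
    have h1 : (d * u) * (d * u * u * v) * d =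
        ((e * d) * (e * d) * (e * d)) * (d⁻¹ * (e * e * e)⁻¹ * d) := by
      rw [← hv, ← hu]; group
    have he' : e * e * e = 1 := by rw [← he]; simp only [pow_succ, pow_zero, one_mul]
    have hc' : (e * d) * (e * d) * (e * d) = 1 := by
      rw [← hcls d (pw_L_anti hi hd)]; simp only [pow_succ, pow_zero, one_mul]
    rw [h1, he', hc']; group
  exact pw_quot (L G (i + 3)) d u v
    (pw_L_anti (by omega) (pw_comm_mem hd hu_mem))
    (pw_L_anti (by omega) (pw_comm_mem hd hv_mem))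
    (pw_L_anti (by omega) (pw_comm_mem hu_mem hv_mem)) hrel (ihA u hu_mem)

/-- **PW**. -/
theorem pow_struct (he : e ^ 3 = 1) (m : ℕ) (hbot : L G m = ⊥)
    (hcls : ∀ d ∈ L G 1, (e * d) ^ 3 = 1)
    (hU2 : ∀ i, 1 ≤ i → i + 1 < m → ∀ d ∈ L G i, d ∉ L G (i + 1) → d * e * d⁻¹ * e⁻¹ ∉ L G (i + 2)) :
    ∀ i, 1 ≤ i → (∀ d ∈ L G i, d ^ 3 ∈ L G (i + 2)) ∧
      (i + 2 < m → ∀ d ∈ L G i, d ∉ L G (i + 1) → d ^ 3 ∉ L G (i + 3)) := by
  have main : ∀ k i, m ≤ i + k → 1 ≤ i → (∀ d ∈ L G i, d ^ 3 ∈ L G (i + 2)) ∧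
      (i + 2 < m → ∀ d ∈ L G i, d ∉ L G (i + 1) → d ^ 3 ∉ L G (i + 3)) := by
    intro k
    induction k with
    | zero =>
      intro i hmi hi
      have hLi : L G i = ⊥ := le_bot_iff.1 (hbot ▸ pw_L_anti (by omega))
      refine ⟨fun d hd => ?_, fun h => by omega⟩
      rw [hLi, Subgroup.mem_bot] at hd
      subst hd
      rw [one_pow]; exact one_mem _
    | succ k ih =>
      intro i hmi hi
      obtain ⟨ihA, -⟩ := ih (i + 1) (by omega) (by omega)
      refine ⟨fun d hd => ?_, fun him d hd hd' => ?_⟩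
      · obtain ⟨-, hv, h3⟩ := pw_key he hcls i hi ihA d hd
        have := mul_mem (pw_L_anti (show i + 2 ≤ i + 3 by omega) h3) (inv_mem hv)
        rwa [mul_inv_cancel_right] at this
      · obtain ⟨hu, hv, h3⟩ := pw_key he hcls i hi ihA d hd
        intro hd3
        have hvN : (d⁻¹ * e * d * e⁻¹)⁻¹ * e * (d⁻¹ * e * d * e⁻¹) * e⁻¹ ∈ L G (i + 3) := by
          have := mul_mem (inv_mem hd3) h3
          rwa [inv_mul_cancel_left] at this
        have hu' : d⁻¹ * e * d * e⁻¹ ∉ L G (i + 2) := by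
          have := hU2 i hi (by omega) d⁻¹ (inv_mem hd)
            (fun h => hd' (by have := inv_mem h; rwa [inv_inv] at this))
          rwa [inv_inv] at this
        have hv' := hU2 (i + 1) (by omega) (by omega) (d⁻¹ * e * d * e⁻¹)⁻¹ (inv_mem hu)
          (fun h => hu' (by have := inv_mem h; rwa [inv_inv] at this))
        rw [inv_inv] at hv'
        exact hv' hvN
  intro i hi
  exact main m i (by omega) hi

end Cfsg.Agent.Lib.H8.Pearl
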