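/-
S2333, counting lemma (K) (helper8).  Part 1: two counting lemmas in a finite field of characteristic 2.

* `card_St_le` : a binary form `a x² + b x y + c y²` with `a ≠ 0`, `b ≠ 0` has at most `2 (q + 1)` isometries
  (pairs of vectors `(p₁, p₂)` with `β p₁ = a`, `p₁ ∧ p₂ = 1`, `β p₂ = c`).
* `card_hyp_ge` : at least `(q - 1) q (q + 1) / 2` triples `(a, b, c)`, `b ≠ 0`, with `a c ∈ b² · Im (λ² + λ)`
  (the binary forms `(Q u, B(u,v), Q v)` realised in a hyperbolic plane).
-/
import Mathlib

set_option autoImplicit false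

namespace Cfsg.Agent.Lib.H8.QOrbit

section field

variable {F : Type*} [Field F] [CharP F 2]

theorem sq_inj2 {x y : F} (h : x * x = y * y) : x = y := by
  have h1 : (x + y) * (x + y) = 0 := by
    have : (x + y) * (x + y) = x * x + y * y + (x * y + x * y) := by ring
    rw [this, CharTwo.add_self_eq_zero, h, CharTwo.add_self_eq_zero, add_zero]
  have h2 : x + y = 0 := by
    rcases mul_eq_zero.mp h1 with h | h <;> exact h
  calc x = x + y + y := by rw [add_assoc, CharTwo.add_self_eq_zero, add_zero]
    _ = y := by rw [h2, zero_add]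

theorem add_eq_zero_iff2 {x y : F} : x + y = 0 ↔ x = y := by
  constructor
  · intro h
    calc x = x + y + y := by rw [add_assoc, CharTwo.add_self_eq_zero, add_zero]
      _ = y := by rw [h, zero_add]
  · rintro rfl
    exact CharTwo.add_self_eq_zero _

/-- the binary form `a x² + b x y + c y²` -/
def bf (a b c : F) (p : F × F) : F := a * p.1 * p.1 + b * p.1 * p.2 + c * p.2 * p.2

theorem bf_add (a b c : F) (p p' : F × F) :
    bf a b c (p + p') = bf a b c p + bf a b c p' + b * (p.1 * p'.2 + p'.1 * p.2) := by
  simp only [bf, Prod.fst_add, Prod.snd_add]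
  have h2 : ∀ t : F, t + t = 0 := CharTwo.add_self_eq_zero
  have e : a * (p.1 + p'.1) * (p.1 + p'.1) + b * (p.1 + p'.1) * (p.2 + p'.2)
      + c * (p.2 + p'.2) * (p.2 + p'.2)
      = a * p.1 * p.1 + b * p.1 * p.2 + c * p.2 * p.2 + (a * p'.1 * p'.1 + b * p'.1 * p'.2
        + c * p'.2 * p'.2) + b * (p.1 * p'.2 + p'.1 * p.2) + ((a * p.1 * p'.1 + a * p.1 * p'.1)
        + (c * p.2 * p'.2 + c * p.2 * p'.2)) := by ring
  rw [e, h2, h2, add_zero, add_zero]

omit [CharP F 2] in
theorem bf_smul (a b c : F) (m : F) (p : F × F) : bf a b c (m • p) = m * m * bf a b c p := by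
  simp only [bf, Prod.smul_fst, Prod.smul_snd, smul_eq_mul]
  ring

end field

section count

variable {F : Type*} [Field F] [CharP F 2] [Fintype F] [DecidableEq F]

/-- at most `q + 1` vectors with a given non-zero value of a binary form -/
theorem card_bf_eq_le (a b c : F) (ha : a ≠ 0) :
    (Finset.univ.filter (fun p : F × F => bf a b c p = a)).card ≤ Fintype.card F + 1 := by
  classical
  have hcard : (Finset.univ : Finset (Option F)).card = Fintype.card F + 1 := by
    rw [Finset.card_univ, Fintype.card_option]
  rw [← hcard]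
  refine Finset.card_le_card_of_injOn
    (fun p : F × F => if p.2 = 0 then none else some (p.1 / p.2)) (fun _ _ => Finset.mem_univ _) ?_
  intro p hp p' hp'
  have hp1 : bf a b c p = a := (Finset.mem_filter.mp hp).2
  have hp1' : bf a b c p' = a := (Finset.mem_filter.mp hp').2
  intro h
  simp only at h
  by_cases h0 : p.2 = 0
  · by_cases h0' : p'.2 = 0
    · have e1 : p.1 * p.1 = 1 := by
        have : a * (p.1 * p.1) = a * 1 := by
          have := hp1
          simp only [bf, h0, mul_zero, add_zero] at this
          rw [mul_one, ← mul_assoc]; exact this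
        exact mul_left_cancel₀ ha this
      have e1' : p'.1 * p'.1 = 1 := by
        have : a * (p'.1 * p'.1) = a * 1 := by
          have := hp1'
          simp only [bf, h0', mul_zero, add_zero] at this
          rw [mul_one, ← mul_assoc]; exact this
        exact mul_left_cancel₀ ha this
      have : p.1 = p'.1 := sq_inj2 (e1.trans e1'.symm)
      exact Prod.ext this (h0.trans h0'.symm)
    · rw [if_pos h0, if_neg h0'] at h
      exact absurd h (by simp)
  · by_cases h0' : p'.2 = 0
    · rw [if_neg h0, if_pos h0'] at h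
      exact absurd h (by simp)
    · rw [if_neg h0, if_neg h0'] at h
      have hm : p.1 / p.2 = p'.1 / p'.2 := Option.some.inj h
      set m := p.1 / p.2 with hmdef
      have e : p.1 = m * p.2 := by rw [hmdef]; field_simp
      have e' : p'.1 = m * p'.2 := by rw [hm]; field_simp
      have v : bf a b c p = p.2 * p.2 * (a * m * m + b * m + c) := by
        simp only [bf]; rw [e]; ring
      have v' : bf a b c p' = p'.2 * p'.2 * (a * m * m + b * m + c) := by
        simp only [bf]; rw [e']; ring
      have hne : a * m * m + b * m + c ≠ 0 := by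
        intro h0
        rw [v, h0, mul_zero] at hp1
        exact ha hp1.symm
      have : p.2 * p.2 = p'.2 * p'.2 :=
        mul_right_cancel₀ hne ((v.symm.trans hp1).trans (hp1'.symm.trans v'))
      have h2 : p.2 = p'.2 := sq_inj2 this
      exact Prod.ext (by rw [e, e', h2]) h2

/-- **St bound**: a binary form with `a ≠ 0`, `b ≠ 0` has at most `2 (q + 1)` isometries. -/
theorem card_St_le (a b c : F) (ha : a ≠ 0) :
    (Finset.univ.filter (fun h : (F × F) × (F × F) =>
      bf a b c h.1 = a ∧ h.1.1 * h.2.2 + h.2.1 * h.1.2 = 1 ∧ bf a b c h.2 = c)).card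
      ≤ 2 * (Fintype.card F + 1) := by
  classical
  set St := Finset.univ.filter (fun h : (F × F) × (F × F) =>
      bf a b c h.1 = a ∧ h.1.1 * h.2.2 + h.2.1 * h.1.2 = 1 ∧ bf a b c h.2 = c) with hSt
  have h1 : St.card ≤ 2 * (St.image Prod.fst).card := by
    apply Finset.card_le_mul_card_image
    intro p₁ _
    by_cases hne : (St.filter (fun h => h.1 = p₁)).Nonempty
    · obtain ⟨h0, hh0⟩ := hne
      have hh0S := (Finset.mem_filter.mp (Finset.mem_filter.mp hh0).1).2
      have hh01 : h0.1 = p₁ := (Finset.mem_filter.mp hh0).2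
      have hsub : St.filter (fun h => h.1 = p₁) ⊆ {h0, (p₁, h0.2 + (b / a) • p₁)} := by
        intro h hh
        have hhS := (Finset.mem_filter.mp (Finset.mem_filter.mp hh).1).2
        have hh1 : h.1 = p₁ := (Finset.mem_filter.mp hh).2
        -- d = h.2 + h0.2 is a multiple of p₁
        obtain ⟨hx1, hy1⟩ := p₁
        obtain ⟨h1', ⟨x2, y2⟩⟩ := h
        obtain ⟨k1', ⟨x0, y0⟩⟩ := h0
        simp only at hh1 hh01
        subst hh1
        subst hh01
        simp only at hhS hh0S
        obtain ⟨s1, s2, s3⟩ := hhS
        obtain ⟨t1, t2, t3⟩ := hh0S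
        have hp1ne : (hx1, hy1) ≠ ((0 : F), (0 : F)) := by
          intro h
          rw [h] at s1
          simp [bf] at s1
          exact ha s1.symm
        -- the wedge of p₁ with d vanishes
        have hw : hx1 * (y2 + y0) + (x2 + x0) * hy1 = 0 := by
          have : hx1 * (y2 + y0) + (x2 + x0) * hy1
              = (hx1 * y2 + x2 * hy1) + (hx1 * y0 + x0 * hy1) := by ring
          rw [this, s2, t2]
          exact CharTwo.add_self_eq_zero _
        obtain ⟨μ, hμx, hμy⟩ : ∃ μ : F, x2 + x0 = μ * hx1 ∧ y2 + y0 = μ * hy1 := by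
          by_cases hx : hx1 = 0
          · have hy : hy1 ≠ 0 := by
              intro hy; exact hp1ne (by rw [hx, hy])
            rw [hx, zero_mul, zero_add] at hw
            have : x2 + x0 = 0 := (mul_eq_zero.mp hw).resolve_right hy
            refine ⟨(y2 + y0) / hy1, by rw [this, hx, mul_zero], by field_simp⟩
          · refine ⟨(x2 + x0) / hx1, by field_simp, ?_⟩
            have : hx1 * (y2 + y0) = (x2 + x0) * hy1 := add_eq_zero_iff2.mp hw
            field_simp
            rw [mul_comm, this]
        have hx2 : x2 = x0 + μ * hx1 := by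
          rw [← hμx, add_comm x2 x0, ← add_assoc, CharTwo.add_self_eq_zero, zero_add]
        have hy2 : y2 = y0 + μ * hy1 := by
          rw [← hμy, add_comm y2 y0, ← add_assoc, CharTwo.add_self_eq_zero, zero_add]
        -- the quadratic equation for μ
        have hq : μ * (μ * a + b) = 0 := by
          have e : ((x2, y2) : F × F) = (x0, y0) + μ • (hx1, hy1) := by
            rw [hx2, hy2]; rfl
          have := s3
          rw [e, bf_add, bf_smul, t3, s1] at this
          simp only [Prod.smul_fst, Prod.smul_snd, smul_eq_mul] at this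
          have e2 : x0 * (μ * hy1) + μ * hx1 * y0 = μ * (hx1 * y0 + x0 * hy1) := by ring
          rw [e2, t2, mul_one] at this
          have : c + (μ * μ * a + b * μ) = c + 0 := by rw [add_zero, ← add_assoc]; exact this
          have := add_left_cancel this
          rw [← this]; ring
        rcases mul_eq_zero.mp hq with hμ0 | hμ1
        · rw [hμ0, zero_mul, add_zero] at hx2 hy2
          rw [hx2, hy2]
          exact Finset.mem_insert_self _ _
        · have : μ = b / a := by
            have : μ * a = b := add_eq_zero_iff2.mp hμ1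
            field_simp
            exact this
          rw [this] at hx2 hy2
          rw [hx2, hy2]
          apply Finset.mem_insert_of_mem
          exact Finset.mem_singleton.mpr rfl
      exact (Finset.card_le_card hsub).trans Finset.card_le_two
    · rw [Finset.not_nonempty_iff_eq_empty.mp hne]
      simp
  have h2 : (St.image Prod.fst).card ≤ Fintype.card F + 1 := by
    refine (Finset.card_le_card ?_).trans (card_bf_eq_le a b c ha)
    intro p hp
    obtain ⟨h, hh, rfl⟩ := Finset.mem_image.mp hp
    exact Finset.mem_filter.mpr ⟨Finset.mem_univ _, (Finset.mem_filter.mp hh).2.1⟩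
  calc St.card ≤ 2 * (St.image Prod.fst).card := h1
    _ ≤ 2 * (Fintype.card F + 1) := Nat.mul_le_mul_left _ h2


/-- the Artin-Schreier map `λ ↦ λ² + λ` has at least `q / 2` values -/
theorem card_image_AS_ge :
    Fintype.card F ≤ 2 * ((Finset.univ : Finset F).image (fun l : F => l * l + l)).card := by
  classical
  have := Finset.card_le_mul_card_image (f := fun l : F => l * l + l) (Finset.univ : Finset F) 2 ?_
  · rwa [Finset.card_univ] at this
  · intro μ _
    by_cases hne : ((Finset.univ : Finset F).filter (fun l => l * l + l = μ)).Nonempty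
    · obtain ⟨l0, hl0⟩ := hne
      have h0 : l0 * l0 + l0 = μ := (Finset.mem_filter.mp hl0).2
      have hsub : (Finset.univ : Finset F).filter (fun l => l * l + l = μ) ⊆ {l0, l0 + 1} := by
        intro l hl
        have h1 : l * l + l = μ := (Finset.mem_filter.mp hl).2
        have h2 : (l + l0) * (l + l0 + 1) = 0 := by
          have e : (l + l0) * (l + l0 + 1) = (l * l + l) + (l0 * l0 + l0) + (l * l0 + l * l0) := by
            ring
          rw [e, h1, h0, CharTwo.add_self_eq_zero, CharTwo.add_self_eq_zero, add_zero]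
        rcases mul_eq_zero.mp h2 with h | h
        · rw [add_eq_zero_iff2.mp h]; exact Finset.mem_insert_self _ _
        · have : l = l0 + 1 := by
            rw [add_assoc] at h
            exact add_eq_zero_iff2.mp h
          rw [this]
          exact Finset.mem_insert_of_mem (Finset.mem_singleton.mpr rfl)
      exact (Finset.card_le_card hsub).trans Finset.card_le_two
    · rw [Finset.not_nonempty_iff_eq_empty.mp hne]; simp

/-- **hyperbolic count**: at least `(q - 1) q (q + 1) / 2` triples `(a, b, c)` with `b ≠ 0` and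
`a c ∈ b² · Im (λ² + λ)`. -/
theorem card_hyp_ge :
    (Fintype.card F - 1) * Fintype.card F * (Fintype.card F + 1) ≤
      2 * (Finset.univ.filter (fun t : F × F × F =>
        t.2.1 ≠ 0 ∧ ∃ l : F, t.1 * t.2.2 = t.2.1 * t.2.1 * (l * l + l))).card := by
  classical
  set q := Fintype.card F with hq
  set BB := Finset.univ.filter (fun t : F × F × F =>
        t.2.1 ≠ 0 ∧ ∃ l : F, t.1 * t.2.2 = t.2.1 * t.2.1 * (l * l + l)) with hBB
  set I := (Finset.univ : Finset F).image (fun l : F => l * l + l) with hI
  set N0 := (Finset.univ : Finset F).filter (fun b => b ≠ 0) with hN0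
  have hN0card : N0.card = q - 1 := by
    rw [hN0, Finset.filter_ne' Finset.univ (0 : F), Finset.card_erase_of_mem (Finset.mem_univ _),
      Finset.card_univ]
  -- the part with `a = 0`
  set D0 := (N0 ×ˢ (Finset.univ : Finset F)).image (fun x : F × F => ((0 : F), x.1, x.2)) with hD0
  -- the part with `a ≠ 0`
  set D1 := (N0 ×ˢ (N0 ×ˢ I)).image (fun x : F × F × F => (x.2.1, x.1, x.1 * x.1 * x.2.2 / x.2.1))
    with hD1
  have c0 : D0.card = (q - 1) * q := by
    rw [hD0, Finset.card_image_of_injective, Finset.card_product, hN0card, Finset.card_univ]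
    intro x y hxy
    simp only [Prod.mk.injEq, true_and] at hxy
    exact Prod.ext hxy.1 hxy.2
  have c1 : D1.card = (q - 1) * ((q - 1) * I.card) := by
    rw [hD1, Finset.card_image_of_injOn, Finset.card_product, Finset.card_product, hN0card]
    intro x hx y hy hxy
    simp only [Finset.coe_product, Set.mem_prod, Finset.mem_coe] at hx hy
    simp only [Prod.mk.injEq] at hxy
    obtain ⟨h1, h2, h3⟩ := hxy
    have hx1 : x.1 ≠ 0 := (Finset.mem_filter.mp hx.1).2
    have hx2 : x.2.1 ≠ 0 := (Finset.mem_filter.mp hx.2.1).2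
    have h4 : x.2.2 = y.2.2 := by
      rw [← h1, ← h2] at h3
      have h5 : x.1 * x.1 * x.2.2 = x.1 * x.1 * y.2.2 := by
        have h6 := congrArg (fun t => t * x.2.1) h3
        beta_reduce at h6
        rwa [div_mul_cancel₀ _ hx2, div_mul_cancel₀ _ hx2] at h6
      exact mul_left_cancel₀ (mul_ne_zero hx1 hx1) h5
    exact Prod.ext h2 (Prod.ext h1 h4)
  have hdisj : Disjoint D0 D1 := by
    rw [Finset.disjoint_left]
    intro t ht0 ht1
    obtain ⟨x, _, rfl⟩ := Finset.mem_image.mp ht0
    obtain ⟨y, hy, hxy⟩ := Finset.mem_image.mp ht1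
    simp only [Finset.mem_product] at hy
    have hy2 : y.2.1 ≠ 0 := (Finset.mem_filter.mp hy.2.1).2
    simp only [Prod.mk.injEq] at hxy
    exact hy2 hxy.1
  have hsub : D0 ∪ D1 ⊆ BB := by
    intro t ht
    rcases Finset.mem_union.mp ht with ht | ht
    · obtain ⟨x, hx, rfl⟩ := Finset.mem_image.mp ht
      simp only [Finset.mem_product] at hx
      refine Finset.mem_filter.mpr ⟨Finset.mem_univ _, (Finset.mem_filter.mp hx.1).2, 0, ?_⟩
      simp
    · obtain ⟨x, hx, rfl⟩ := Finset.mem_image.mp ht
      simp only [Finset.mem_product] at hx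
      have hx1 : x.1 ≠ 0 := (Finset.mem_filter.mp hx.1).2
      have hx2 : x.2.1 ≠ 0 := (Finset.mem_filter.mp hx.2.1).2
      obtain ⟨l, _, hl⟩ := Finset.mem_image.mp hx.2.2
      refine Finset.mem_filter.mpr ⟨Finset.mem_univ _, hx1, l, ?_⟩
      simp only
      rw [hl]
      field_simp
  have hI2 : q ≤ 2 * I.card := card_image_AS_ge
  have hcard : D0.card + D1.card ≤ BB.card := by
    rw [← Finset.card_union_of_disjoint hdisj]
    exact Finset.card_le_card hsub
  have hq1 : 1 ≤ q := Fintype.card_pos
  obtain ⟨m, hm⟩ : ∃ m, q = m + 1 := ⟨q - 1, by omega⟩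
  rw [c0, c1] at hcard
  have hm1 : q - 1 = m := by omega
  rw [hm1] at hcard ⊢
  rw [hm] at hcard hI2 ⊢
  nlinarith [Nat.zero_le m, Nat.zero_le I.card, Nat.mul_le_mul_left (m * m) hI2]

end count

end Cfsg.Agent.Lib.H8.QOrbit
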