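/-
S2333, counting lemma (K) (helper8).  Part 2: the case of a singular vector outside the radical of the polar form.

A hyperbolic pair `(z, w)` exists; in coordinates with `z = e₀`, `w = e₁` every datum
`(Q' e₀, B'(e₀,e₁), Q' e₁, B'(e₀,e_j), B'(e₁,e_j))` with `(Q' e₀, B'(e₀,e₁), Q' e₁)` one of the `≥ (q-1) q (q+1)/2` binary forms
realised in the hyperbolic plane is realised by a member `Q'` of the orbit: `|orb Q| ≥ (q-1) q (q+1)/2 · q^(2(n-2))`.
-/
import Cfsg.Agent.Lib.H8.QOrbitBasic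
import Cfsg.Agent.Lib.H8.QOrbitField

set_option autoImplicit false

namespace Cfsg.Agent.Lib.H8.QOrbit

open Matrix

section hyp

variable {F : Type*} [Field F] [CharP F 2] {V : Type*} [AddCommGroup V] [Module F V]
  (Q : QuadraticForm F V)

/-- a singular vector outside the radical lies in a hyperbolic pair -/
theorem exists_hyperbolic_pair {z y : V} (hz : Q z = 0) (hzy : QuadraticMap.polar Q z y ≠ 0) :
    ∃ w, Q w = 0 ∧ QuadraticMap.polar Q z w = 1 := by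
  obtain ⟨w₀, h1⟩ : ∃ w₀, QuadraticMap.polar Q z w₀ = 1 :=
    ⟨(QuadraticMap.polar Q z y)⁻¹ • y, by rw [polar_smul_right', inv_mul_cancel₀ hzy]⟩
  refine ⟨w₀ + Q w₀ • z, ?_, ?_⟩
  · rw [map_add', map_smul', hz, mul_zero, add_zero, polar_smul_right',
      QuadraticMap.polar_comm Q w₀ z, h1, mul_one]
    exact CharTwo.add_self_eq_zero _
  · rw [QuadraticMap.polar_add_right, polar_smul_right', polar_self_zero, mul_zero, add_zero, h1]

/-- the binary forms realised in a hyperbolic plane -/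
theorem exists_pair_of_hyp {z w : V} (hz : Q z = 0) (hw : Q w = 0)
    (hzw : QuadraticMap.polar Q z w = 1) (a b c : F) (hb : b ≠ 0) (l : F)
    (hl : a * c = b * b * (l * l + l)) :
    ∃ u v : V, Q u = a ∧ QuadraticMap.polar Q u v = b ∧ Q v = c := by
  by_cases ha : a = 0
  · refine ⟨(0 : F) • z + (1 : F) • w, b • z + (c / b) • w, ?_, ?_, ?_⟩
    · rw [map_lin2, hz, hw, hzw, ha]; ring
    · rw [polar_lin2, hzw]
      have : (0 : F) * (c / b) + 1 * b = b := by ring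
      rw [this, mul_one]
    · rw [map_lin2, hz, hw, hzw]
      field_simp
      ring
  · refine ⟨(1 : F) • z + a • w, (b * l / a) • z + (b * (1 + l)) • w, ?_, ?_, ?_⟩
    · rw [map_lin2, hz, hw, hzw]; ring
    · rw [polar_lin2, hzw, mul_one]
      have : (1 : F) * (b * (1 + l)) + a * (b * l / a) = b + (b * l + b * l) := by
        field_simp
        ring
      rw [this, CharTwo.add_self_eq_zero, add_zero]
    · rw [map_lin2, hz, hw, hzw]
      have : b * l / a * (b * (1 + l)) * 1 = (b * b * (l * l + l)) / a := by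
        field_simp
        ring
      rw [mul_zero, mul_zero, zero_add, zero_add, this, ← hl]
      field_simp

end hyp

section coord

variable {F : Type*} [Field F] {m : ℕ}

/-- extension by two zero coordinates -/
def ext2 (α : Fin m → F) : Fin (m + 2) → F := Fin.cons 0 (Fin.cons 0 α)

@[simp] theorem ext2_zero (α : Fin m → F) : ext2 α 0 = 0 := rfl

@[simp] theorem ext2_one (α : Fin m → F) : ext2 α 1 = 0 := rfl

@[simp] theorem ext2_succ_succ (α : Fin m → F) (j : Fin m) : ext2 α j.succ.succ = α j := by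
  simp [ext2]

/-- `x ↦ x + (α'·x) e₀ + (β'·x) e₁` -/
def Kmat (α' β' : Fin (m + 2) → F) : Matrix (Fin (m + 2)) (Fin (m + 2)) F :=
  1 + vecMulVec (Pi.single 0 1) α' + vecMulVec (Pi.single 1 1) β'

theorem Kmat_mulVec (α' β' x : Fin (m + 2) → F) :
    Kmat α' β' *ᵥ x = x + (α' ⬝ᵥ x) • Pi.single 0 1 + (β' ⬝ᵥ x) • Pi.single 1 1 := by
  simp only [Kmat, Matrix.add_mulVec, Matrix.one_mulVec, vecMulVec_mulVec, op_smul_eq_smul]

theorem Kmat_mulVec_e0 (α' β' : Fin (m + 2) → F) (hα : α' 0 = 0) (hβ : β' 0 = 0) :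
    Kmat α' β' *ᵥ Pi.single 0 1 = Pi.single 0 1 := by
  rw [Kmat_mulVec, dotProduct_single_one, dotProduct_single_one, hα, hβ]
  simp

theorem Kmat_mulVec_e1 (α' β' : Fin (m + 2) → F) (hα : α' 1 = 0) (hβ : β' 1 = 0) :
    Kmat α' β' *ᵥ Pi.single 1 1 = Pi.single 1 1 := by
  rw [Kmat_mulVec, dotProduct_single_one, dotProduct_single_one, hα, hβ]
  simp

theorem Kmat_invol [CharP F 2] (α' β' : Fin (m + 2) → F) (hα0 : α' 0 = 0) (hβ0 : β' 0 = 0)
    (hα1 : α' 1 = 0) (hβ1 : β' 1 = 0) : Kmat α' β' * Kmat α' β' = 1 := by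
  apply Matrix.toLin'.injective
  refine LinearMap.ext fun x => ?_
  rw [Matrix.toLin'_apply, ← Matrix.mulVec_mulVec, Matrix.toLin'_one, LinearMap.id_apply]
  rw [Kmat_mulVec α' β' x, Matrix.mulVec_add, Matrix.mulVec_add, Matrix.mulVec_smul,
    Matrix.mulVec_smul, Kmat_mulVec_e0 α' β' hα0 hβ0, Kmat_mulVec_e1 α' β' hα1 hβ1, Kmat_mulVec]
  have h2 : ∀ t : Fin (m + 2) → F, t + t = 0 := fun t => by
    ext i; exact CharTwo.add_self_eq_zero _
  have e : x + (α' ⬝ᵥ x) • (Pi.single 0 1 : Fin (m + 2) → F) + (β' ⬝ᵥ x) • Pi.single 1 1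
      + (α' ⬝ᵥ x) • Pi.single 0 1 + (β' ⬝ᵥ x) • Pi.single 1 1
      = x + ((α' ⬝ᵥ x) • (Pi.single 0 1 : Fin (m + 2) → F) + (α' ⬝ᵥ x) • Pi.single 0 1)
        + ((β' ⬝ᵥ x) • (Pi.single 1 1 : Fin (m + 2) → F) + (β' ⬝ᵥ x) • Pi.single 1 1) := by
    abel
  rw [e, h2, h2, add_zero, add_zero]

theorem Kmat_isUnit_det [CharP F 2] (α β : Fin m → F) : IsUnit (Kmat (ext2 α) (ext2 β)).det :=
  Matrix.isUnit_det_of_left_inverse
    (Kmat_invol (ext2 α) (ext2 β) (ext2_zero α) (ext2_zero β) (ext2_one α) (ext2_one β))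

theorem Kmat_mulVec_succ_succ (α β : Fin m → F) (j : Fin m) :
    Kmat (ext2 α) (ext2 β) *ᵥ Pi.single j.succ.succ 1
      = Pi.single j.succ.succ 1 + α j • Pi.single 0 1 + β j • Pi.single 1 1 := by
  rw [Kmat_mulVec, dotProduct_single_one, dotProduct_single_one, ext2_succ_succ, ext2_succ_succ]

theorem linearIndependent_e0_e1 :
    LinearIndependent F ![(Pi.single 0 1 : Fin (m + 2) → F), Pi.single 1 1] := by
  rw [LinearIndependent.pair_iff]
  intro s t hst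
  have h0 := congrFun hst 0
  have h1 := congrFun hst 1
  simp at h0 h1
  exact ⟨h0, h1⟩

end coord


section main

variable {F : Type*} [Field F] [CharP F 2] [Fintype F] {m : ℕ}

/-- normalised case: `e₀, e₁` is a hyperbolic pair -/
theorem card_orb_ge_of_std [DecidableEq F] (Q₁ : QuadraticForm F (Fin (m + 2) → F))
    (h0 : Q₁ (Pi.single 0 1) = 0) (h1 : Q₁ (Pi.single 1 1) = 0)
    (h01 : QuadraticMap.polar Q₁ (Pi.single 0 1) (Pi.single 1 1) = 1) :
    (Finset.univ.filter (fun t : F × F × F =>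
        t.2.1 ≠ 0 ∧ ∃ l : F, t.1 * t.2.2 = t.2.1 * t.2.1 * (l * l + l))).card
      * (Fintype.card F ^ m * Fintype.card F ^ m) ≤ (orb Q₁).ncard := by
  classical
  obtain ⟨e0, he0⟩ : ∃ e0 : Fin (m + 2) → F, e0 = Pi.single 0 1 := ⟨_, rfl⟩
  obtain ⟨e1, he1⟩ : ∃ e1 : Fin (m + 2) → F, e1 = Pi.single 1 1 := ⟨_, rfl⟩
  rw [← he0] at h0 h01
  rw [← he1] at h1 h01
  set BB := Finset.univ.filter (fun t : F × F × F =>
        t.2.1 ≠ 0 ∧ ∃ l : F, t.1 * t.2.2 = t.2.1 * t.2.1 * (l * l + l)) with hBB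
  have hind01 : LinearIndependent F ![e0, e1] := by
    rw [he0, he1]; exact linearIndependent_e0_e1
  have key : ∀ t : F × F × F, t ∈ BB → ∃ M : Matrix (Fin (m + 2)) (Fin (m + 2)) F, IsUnit M.det ∧
      Q₁ (M *ᵥ e0) = t.1 ∧ QuadraticMap.polar Q₁ (M *ᵥ e0) (M *ᵥ e1) = t.2.1 ∧
      Q₁ (M *ᵥ e1) = t.2.2 := by
    intro t ht
    obtain ⟨hb, l, hl⟩ := (Finset.mem_filter.mp ht).2
    obtain ⟨u, v, hu, huv, hv⟩ := exists_pair_of_hyp Q₁ h0 h1 h01 t.1 t.2.1 t.2.2 hb l hl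
    have hind : LinearIndependent F ![u, v] :=
      linearIndependent_of_polar_ne_zero Q₁ (by rw [huv]; exact hb)
    obtain ⟨M, hM, hM0, hM1⟩ := exists_matrix_pair hind01 hind
    exact ⟨M, hM, by rw [hM0]; exact hu, by rw [hM0, hM1]; exact huv, by rw [hM1]; exact hv⟩
  choose! Mt hMt using key
  let J : (F × F × F) × ((Fin m → F) × (Fin m → F)) → QuadraticForm F (Fin (m + 2) → F) :=
    fun p => Q₁.comp (Matrix.toLin' (Mt p.1 * Kmat (ext2 p.2.1) (ext2 p.2.2)))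
  have hJ : ∀ p, J p = Q₁.comp (Matrix.toLin' (Mt p.1 * Kmat (ext2 p.2.1) (ext2 p.2.2))) :=
    fun p => rfl
  have hJmem : ∀ p, p.1 ∈ BB → J p ∈ orb Q₁ := by
    intro p hp
    refine comp_mem_orb Q₁ _ ?_
    rw [Matrix.det_mul]
    exact (hMt p.1 hp).1.mul (Kmat_isUnit_det _ _)
  have hK0 : ∀ p : (F × F × F) × ((Fin m → F) × (Fin m → F)),
      (Mt p.1 * Kmat (ext2 p.2.1) (ext2 p.2.2)) *ᵥ e0 = Mt p.1 *ᵥ e0 := by
    intro p
    rw [← Matrix.mulVec_mulVec, he0, Kmat_mulVec_e0 _ _ (ext2_zero _) (ext2_zero _)]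
  have hK1 : ∀ p : (F × F × F) × ((Fin m → F) × (Fin m → F)),
      (Mt p.1 * Kmat (ext2 p.2.1) (ext2 p.2.2)) *ᵥ e1 = Mt p.1 *ᵥ e1 := by
    intro p
    rw [← Matrix.mulVec_mulVec, he1, Kmat_mulVec_e1 _ _ (ext2_one _) (ext2_one _)]
  have hKj : ∀ (p : (F × F × F) × ((Fin m → F) × (Fin m → F))) (j : Fin m),
      (Mt p.1 * Kmat (ext2 p.2.1) (ext2 p.2.2)) *ᵥ Pi.single j.succ.succ 1
        = Mt p.1 *ᵥ Pi.single j.succ.succ 1 + p.2.1 j • (Mt p.1 *ᵥ e0)
          + p.2.2 j • (Mt p.1 *ᵥ e1) := by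
    intro p j
    rw [← Matrix.mulVec_mulVec, Kmat_mulVec_succ_succ, Matrix.mulVec_add, Matrix.mulVec_add,
      Matrix.mulVec_smul, Matrix.mulVec_smul, he0, he1]
  have v0 : ∀ p, J p e0 = Q₁ (Mt p.1 *ᵥ e0) := by
    intro p; rw [hJ, comp_toLin'_apply, hK0]
  have v1 : ∀ p, J p e1 = Q₁ (Mt p.1 *ᵥ e1) := by
    intro p; rw [hJ, comp_toLin'_apply, hK1]
  have v01 : ∀ p, QuadraticMap.polar (J p) e0 e1
      = QuadraticMap.polar Q₁ (Mt p.1 *ᵥ e0) (Mt p.1 *ᵥ e1) := by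
    intro p; rw [hJ, polar_comp_toLin', hK0, hK1]
  have v0j : ∀ p (j : Fin m), QuadraticMap.polar (J p) e0 (Pi.single j.succ.succ 1)
      = QuadraticMap.polar Q₁ (Mt p.1 *ᵥ e0) (Mt p.1 *ᵥ Pi.single j.succ.succ 1)
        + p.2.2 j * QuadraticMap.polar Q₁ (Mt p.1 *ᵥ e0) (Mt p.1 *ᵥ e1) := by
    intro p j
    rw [hJ, polar_comp_toLin', hK0, hKj, QuadraticMap.polar_add_right, QuadraticMap.polar_add_right,
      polar_smul_right', polar_smul_right', polar_self_zero, mul_zero, add_zero]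
  have v1j : ∀ p (j : Fin m), QuadraticMap.polar (J p) e1 (Pi.single j.succ.succ 1)
      = QuadraticMap.polar Q₁ (Mt p.1 *ᵥ e1) (Mt p.1 *ᵥ Pi.single j.succ.succ 1)
        + p.2.1 j * QuadraticMap.polar Q₁ (Mt p.1 *ᵥ e0) (Mt p.1 *ᵥ e1) := by
    intro p j
    rw [hJ, polar_comp_toLin', hK1, hKj, QuadraticMap.polar_add_right, QuadraticMap.polar_add_right,
      polar_smul_right', polar_smul_right', polar_self_zero, mul_zero, add_zero,
      QuadraticMap.polar_comm Q₁ (Mt p.1 *ᵥ e1) (Mt p.1 *ᵥ e0)]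
  have hinj : Set.InjOn J ↑(BB ×ˢ (Finset.univ : Finset ((Fin m → F) × (Fin m → F)))) := by
    intro p hp p' hp' hpp
    have hpB : p.1 ∈ BB := (Finset.mem_product.mp (Finset.mem_coe.mp hp)).1
    have hpB' : p'.1 ∈ BB := (Finset.mem_product.mp (Finset.mem_coe.mp hp')).1
    obtain ⟨-, ha, hb, hc⟩ := hMt p.1 hpB
    obtain ⟨-, ha', hb', hc'⟩ := hMt p'.1 hpB'
    have e1' : p.1 = p'.1 := by
      refine Prod.ext ?_ (Prod.ext ?_ ?_)
      · rw [← ha, ← ha', ← v0, ← v0, hpp]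
      · rw [← hb, ← hb', ← v01, ← v01, hpp]
      · rw [← hc, ← hc', ← v1, ← v1, hpp]
    have hbne : QuadraticMap.polar Q₁ (Mt p.1 *ᵥ e0) (Mt p.1 *ᵥ e1) ≠ 0 := by
      rw [hb]; exact (Finset.mem_filter.mp hpB).2.1
    have e2 : p.2.1 = p'.2.1 := by
      funext j
      have := v1j p j
      rw [hpp, v1j p' j, ← e1'] at this
      exact (mul_right_cancel₀ hbne (add_left_cancel this)).symm
    have e3 : p.2.2 = p'.2.2 := by
      funext j
      have := v0j p j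
      rw [hpp, v0j p' j, ← e1'] at this
      exact (mul_right_cancel₀ hbne (add_left_cancel this)).symm
    exact Prod.ext e1' (Prod.ext e2 e3)
  have hcard : ((BB ×ˢ (Finset.univ : Finset ((Fin m → F) × (Fin m → F)))).image J).card
      = BB.card * (Fintype.card F ^ m * Fintype.card F ^ m) := by
    rw [Finset.card_image_of_injOn hinj, Finset.card_product, Finset.card_univ, Fintype.card_prod,
      Fintype.card_pi_const]
  rw [← hcard]
  apply card_le_ncard_of_forall_mem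
  intro Q' hQ'
  obtain ⟨p, hp, rfl⟩ := Finset.mem_image.mp hQ'
  exact hJmem p (Finset.mem_product.mp hp).1


/-- **case (α)**: a singular vector outside the radical of the polar form. -/
theorem card_orb_ge_of_singular (Q : QuadraticForm F (Fin (m + 2) → F))
    {z y : Fin (m + 2) → F} (hz : Q z = 0) (hzy : QuadraticMap.polar Q z y ≠ 0) :
    (Fintype.card F ^ (m + 2) - 1) * (Fintype.card F ^ (m + 2) - Fintype.card F) ≤
      2 * (Fintype.card F + 1) * (orb Q).ncard := by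
  classical
  obtain ⟨w, hw, hzw⟩ := exists_hyperbolic_pair Q hz hzy
  have hind : LinearIndependent F ![z, w] :=
    linearIndependent_of_polar_ne_zero Q (by rw [hzw]; exact one_ne_zero)
  obtain ⟨M₀, hM₀, hM0, hM1⟩ := exists_matrix_pair (linearIndependent_e0_e1 (F := F) (m := m)) hind
  have hstd := card_orb_ge_of_std (Q.comp (Matrix.toLin' M₀))
    (by rw [comp_toLin'_apply, hM0]; exact hz) (by rw [comp_toLin'_apply, hM1]; exact hw)
    (by rw [polar_comp_toLin', hM0, hM1]; exact hzw)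
  have hsub : (orb (Q.comp (Matrix.toLin' M₀))).ncard ≤ (orb Q).ncard :=
    Set.ncard_le_ncard (orb_comp_subset Q M₀ hM₀) (Set.toFinite _)
  have hB := card_hyp_ge (F := F)
  have hq2 : 2 ≤ Fintype.card F := Fintype.one_lt_card
  set q := Fintype.card F with hq
  set N := (orb Q).ncard with hN
  set Bc := (Finset.univ.filter (fun t : F × F × F =>
        t.2.1 ≠ 0 ∧ ∃ l : F, t.1 * t.2.2 = t.2.1 * t.2.1 * (l * l + l))).card with hBc
  set A := q ^ m with hA
  have h1 : Bc * (A * A) ≤ N := hstd.trans hsub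
  have hpow : q ^ (m + 2) = A * q ^ 2 := by rw [hA, pow_add]
  have hL : (q ^ (m + 2) - 1) * (q ^ (m + 2) - q) ≤ (A * q ^ 2) * (A * q ^ 2) := by
    rw [hpow]
    exact Nat.mul_le_mul (Nat.sub_le _ _) (Nat.sub_le _ _)
  obtain ⟨k, hk⟩ : ∃ k, q = k + 2 := ⟨q - 2, by omega⟩
  have hk1 : q - 1 = k + 1 := by omega
  rw [hk1] at hB
  have h4 : q ^ 2 * q ^ 2 ≤ (q + 1) * ((k + 1) * q * (q + 1)) := by
    rw [hk]
    have : (k + 2 + 1) * ((k + 1) * (k + 2) * (k + 2 + 1))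
        = (k + 2) ^ 2 * (k + 2) ^ 2 + (k + 2) * (k ^ 2 + 3 * k + 1) := by ring
    rw [this]
    exact Nat.le_add_right _ _
  calc (q ^ (m + 2) - 1) * (q ^ (m + 2) - q) ≤ (A * q ^ 2) * (A * q ^ 2) := hL
    _ = (q ^ 2 * q ^ 2) * (A * A) := by ring
    _ ≤ ((q + 1) * ((k + 1) * q * (q + 1))) * (A * A) := Nat.mul_le_mul_right _ h4
    _ ≤ ((q + 1) * (2 * Bc)) * (A * A) :=
        Nat.mul_le_mul_right _ (Nat.mul_le_mul_left _ hB)
    _ = 2 * (q + 1) * (Bc * (A * A)) := by ring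
    _ ≤ 2 * (q + 1) * N := Nat.mul_le_mul_left _ h1

end main

end Cfsg.Agent.Lib.H8.QOrbit
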