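/-
S2333 (Landazuri-Seitz bound for `Sp_2n(q)`, `q` even; architect helper12): the counting lemma (K) on the `GL_n`-orbits of
quadratic forms in characteristic 2 (helper8).  Part 0: generalities.

* char-2 identities for a quadratic form `Q` with polar form `B = QuadraticMap.polar Q`;
* `orb Q` : the set of all `Q ∘ M`, `M` an invertible matrix;
* `exists_matrix_pair` : invertible matrices are transitive on linearly independent pairs.
-/
import Mathlib
import Cfsg.Agent.Lib.H17.LinExtend

set_option autoImplicit false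

namespace Cfsg.Agent.Lib.H8.QOrbit

open Matrix

section general

variable {F : Type*} [Field F] {V : Type*} [AddCommGroup V] [Module F V]
  (Q : QuadraticForm F V)

theorem map_add' (x y : V) : Q (x + y) = Q x + Q y + QuadraticMap.polar Q x y := by
  unfold QuadraticMap.polar
  ring

theorem map_smul' (a : F) (x : V) : Q (a • x) = a * a * Q x := by
  rw [QuadraticMap.map_smul]; rfl

theorem polar_smul_left' (a : F) (x y : V) :
    QuadraticMap.polar Q (a • x) y = a * QuadraticMap.polar Q x y := by
  rw [QuadraticMap.polar_smul_left]; rfl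

theorem polar_smul_right' (a : F) (x y : V) :
    QuadraticMap.polar Q x (a • y) = a * QuadraticMap.polar Q x y := by
  rw [QuadraticMap.polar_smul_right]; rfl

theorem polar_zero_left' (y : V) : QuadraticMap.polar Q 0 y = 0 := by
  simp [QuadraticMap.polar]

theorem polar_zero_right' (y : V) : QuadraticMap.polar Q y 0 = 0 := by
  simp [QuadraticMap.polar]

theorem map_lin2 (a b : F) (x y : V) :
    Q (a • x + b • y) = a * a * Q x + b * b * Q y + a * b * QuadraticMap.polar Q x y := by
  rw [map_add', map_smul', map_smul', polar_smul_left', polar_smul_right']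
  ring

end general

section char2

variable {F : Type*} [Field F] [CharP F 2] {V : Type*} [AddCommGroup V] [Module F V]
  (Q : QuadraticForm F V)

theorem polar_self_zero (x : V) : QuadraticMap.polar Q x x = 0 := by
  rw [QuadraticMap.polar_self, two_nsmul]
  exact CharTwo.add_self_eq_zero _

theorem polar_lin2 (a b c d : F) (x y : V) :
    QuadraticMap.polar Q (a • x + b • y) (c • x + d • y) =
      (a * d + b * c) * QuadraticMap.polar Q x y := by
  rw [QuadraticMap.polar_add_left, QuadraticMap.polar_add_right, QuadraticMap.polar_add_right,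
    polar_smul_left', polar_smul_left', polar_smul_right', polar_smul_right', polar_smul_left',
    polar_smul_right', polar_smul_left', polar_smul_right', polar_self_zero, polar_self_zero,
    QuadraticMap.polar_comm Q y x]
  ring

/-- a pair with non-zero polar value is linearly independent -/
theorem linearIndependent_of_polar_ne_zero {x y : V} (h : QuadraticMap.polar Q x y ≠ 0) :
    LinearIndependent F ![x, y] := by
  rw [LinearIndependent.pair_iff]
  intro s t hst
  have h1 : QuadraticMap.polar Q (s • x + t • y) y = 0 := by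
    rw [hst]; exact polar_zero_left' Q y
  have h2 : QuadraticMap.polar Q x (s • x + t • y) = 0 := by
    rw [hst]; exact polar_zero_right' Q x
  rw [QuadraticMap.polar_add_left, polar_smul_left', polar_smul_left', polar_self_zero, mul_zero,
    add_zero] at h1
  rw [QuadraticMap.polar_add_right, polar_smul_right', polar_smul_right', polar_self_zero, mul_zero,
    zero_add] at h2
  exact ⟨(mul_eq_zero.mp h1).resolve_right h, (mul_eq_zero.mp h2).resolve_right h⟩

end char2

section orbit

variable {F : Type*} [Field F] {n : ℕ}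

/-- the orbit of a quadratic form under all invertible matrices -/
def orb (Q : QuadraticForm F (Fin n → F)) : Set (QuadraticForm F (Fin n → F)) :=
  {Q' | ∃ M : Matrix (Fin n) (Fin n) F, IsUnit M.det ∧ Q' = Q.comp (Matrix.toLin' M)}

theorem mem_orb_self (Q : QuadraticForm F (Fin n → F)) : Q ∈ orb Q :=
  ⟨1, by simp, by ext x; simp⟩

theorem comp_mem_orb (Q : QuadraticForm F (Fin n → F)) (M : Matrix (Fin n) (Fin n) F)
    (hM : IsUnit M.det) : Q.comp (Matrix.toLin' M) ∈ orb Q := ⟨M, hM, rfl⟩

theorem orb_comp_subset (Q : QuadraticForm F (Fin n → F)) (M : Matrix (Fin n) (Fin n) F)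
    (hM : IsUnit M.det) : orb (Q.comp (Matrix.toLin' M)) ⊆ orb Q := by
  rintro Q' ⟨N, hN, rfl⟩
  refine ⟨M * N, by rw [Matrix.det_mul]; exact hM.mul hN, ?_⟩
  ext x
  simp [Matrix.toLin'_mul]

theorem comp_toLin'_apply (Q : QuadraticForm F (Fin n → F)) (M : Matrix (Fin n) (Fin n) F)
    (x : Fin n → F) : (Q.comp (Matrix.toLin' M)) x = Q (M *ᵥ x) := by
  simp

theorem polar_comp_toLin' (Q : QuadraticForm F (Fin n → F)) (M : Matrix (Fin n) (Fin n) F)
    (x y : Fin n → F) :
    QuadraticMap.polar (Q.comp (Matrix.toLin' M)) x y = QuadraticMap.polar Q (M *ᵥ x) (M *ᵥ y) := by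
  simp [QuadraticMap.polar, Matrix.mulVec_add]

instance finite_quadForm [Finite F] : Finite (QuadraticForm F (Fin n → F)) :=
  Finite.of_injective (fun Q : QuadraticForm F (Fin n → F) => (Q : (Fin n → F) → F))
    DFunLike.coe_injective

/-- the orbit under `GL_n` (as a subtype) has the cardinality of `orb Q` -/
theorem card_GL_orbit_eq (Q : QuadraticForm F (Fin n → F)) :
    Nat.card {Q' : QuadraticForm F (Fin n → F) //
      ∃ g : Matrix.GeneralLinearGroup (Fin n) F,
        Q' = Q.comp (Matrix.toLin' (g : Matrix (Fin n) (Fin n) F))} = (orb Q).ncard := by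
  have : {Q' : QuadraticForm F (Fin n → F) |
      ∃ g : Matrix.GeneralLinearGroup (Fin n) F,
        Q' = Q.comp (Matrix.toLin' (g : Matrix (Fin n) (Fin n) F))} = orb Q := by
    ext Q'
    constructor
    · rintro ⟨g, rfl⟩
      exact ⟨g.1, (Matrix.isUnit_iff_isUnit_det _).mp (Units.isUnit g), rfl⟩
    · rintro ⟨M, hM, rfl⟩
      exact ⟨Matrix.GeneralLinearGroup.mk'' M hM, rfl⟩
  rw [← this]
  rfl

/-- invertible matrices are transitive on linearly independent pairs -/
theorem exists_matrix_pair {u₁ u₂ w₁ w₂ : Fin n → F}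
    (hu : LinearIndependent F ![u₁, u₂]) (hw : LinearIndependent F ![w₁, w₂]) :
    ∃ M : Matrix (Fin n) (Fin n) F, IsUnit M.det ∧ M *ᵥ u₁ = w₁ ∧ M *ᵥ u₂ = w₂ := by
  obtain ⟨g, h1, h2⟩ := Cfsg.Agent.Lib.H17.exists_linearEquiv_pair u₁ u₂ w₁ w₂ hu hw
  refine ⟨LinearMap.toMatrix' (g : (Fin n → F) →ₗ[F] (Fin n → F)), ?_, ?_, ?_⟩
  · rw [LinearMap.det_toMatrix']
    exact LinearEquiv.isUnit_det' g
  · rw [← Matrix.toLin'_apply, Matrix.toLin'_toMatrix']
    exact h1
  · rw [← Matrix.toLin'_apply, Matrix.toLin'_toMatrix']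
    exact h2

/-- a lower bound for `ncard` from a finset of members -/
theorem card_le_ncard_of_forall_mem {X : Type*} [Finite X] (S : Finset X) (O : Set X)
    (h : ∀ x ∈ S, x ∈ O) : S.card ≤ O.ncard := by
  rw [← Set.ncard_coe_finset]
  exact Set.ncard_le_ncard (fun x hx => h x (Finset.mem_coe.mp hx)) (Set.toFinite O)

end orbit

end Cfsg.Agent.Lib.H8.QOrbit
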