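/-
S2333, counting lemma (K) (helper8).  Part 3: the case where all singular vectors lie in the radical of the polar form.

Then `Q x = β (f₁·x, f₂·x)` with an anisotropic binary form `β = a x² + b x y + c y²` and linearly independent `f₁, f₂`; the orbit
contains `β (r₁·x, r₂·x)` for all `(q^n - 1)(q^n - q)` linearly independent pairs `(r₁, r₂)`, and at most `2 (q + 1)` pairs give
the same form (`card_St_le`).
-/
import Cfsg.Agent.Lib.H8.QOrbitBasic
import Cfsg.Agent.Lib.H8.QOrbitField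

set_option autoImplicit false

namespace Cfsg.Agent.Lib.H8.QOrbit

open Matrix

section normalform

variable {F : Type*} [Field F] [CharP F 2] [Finite F] {V : Type*} [AddCommGroup V] [Module F V]
  (Q : QuadraticForm F V)

theorem exists_sqrt2 (t : F) : ∃ s : F, s * s = t := by
  obtain ⟨s, hs⟩ := FiniteField.isSquare_of_char_two (ringChar.eq F 2) t
  exact ⟨s, hs.symm⟩

/-- if all singular vectors lie in the radical then `Q` is an anisotropic binary form in two functionals -/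
theorem eq_bf_of_radical (hrad : ∀ z, Q z = 0 → ∀ y, QuadraticMap.polar Q z y = 0)
    {u₀ v₀ : V} (hb : QuadraticMap.polar Q u₀ v₀ ≠ 0) (x : V) :
    Q x = bf (Q u₀) (QuadraticMap.polar Q u₀ v₀) (Q v₀)
      ((QuadraticMap.polar Q u₀ v₀)⁻¹ * QuadraticMap.polar Q x v₀,
        (QuadraticMap.polar Q u₀ v₀)⁻¹ * QuadraticMap.polar Q u₀ x) := by
  obtain ⟨b, hbdef⟩ : ∃ b, b = QuadraticMap.polar Q u₀ v₀ := ⟨_, rfl⟩
  rw [← hbdef] at hb ⊢
  obtain ⟨p1, hp1⟩ : ∃ p1, p1 = b⁻¹ * QuadraticMap.polar Q x v₀ := ⟨_, rfl⟩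
  obtain ⟨p2, hp2⟩ : ∃ p2, p2 = b⁻¹ * QuadraticMap.polar Q u₀ x := ⟨_, rfl⟩
  rw [← hp1, ← hp2]
  obtain ⟨r, hr⟩ : ∃ r, r = x + (p1 • u₀ + p2 • v₀) := ⟨_, rfl⟩
  have hx : x = r + (p1 • u₀ + p2 • v₀) := by
    rw [hr, add_assoc]
    have : p1 • u₀ + p2 • v₀ + (p1 • u₀ + p2 • v₀) = 0 := by
      rw [← two_smul F, CharTwo.two_eq_zero, zero_smul]
    rw [this, add_zero]
  have h1 : QuadraticMap.polar Q u₀ r = 0 := by
    rw [hr, QuadraticMap.polar_add_right, QuadraticMap.polar_add_right, polar_smul_right',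
      polar_smul_right', polar_self_zero, mul_zero, zero_add, ← hbdef, hp2,
      mul_comm b⁻¹, mul_assoc, inv_mul_cancel₀ hb, mul_one]
    exact CharTwo.add_self_eq_zero _
  have h2 : QuadraticMap.polar Q r v₀ = 0 := by
    rw [hr, QuadraticMap.polar_add_left, QuadraticMap.polar_add_left, polar_smul_left',
      polar_smul_left', polar_self_zero, mul_zero, add_zero, ← hbdef, hp1,
      mul_comm b⁻¹, mul_assoc, inv_mul_cancel₀ hb, mul_one]
    exact CharTwo.add_self_eq_zero _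
  have h3 : Q r = 0 := by
    obtain ⟨al, hal⟩ := exists_sqrt2 (Q u₀)
    obtain ⟨ro, hro⟩ := exists_sqrt2 (Q r)
    have hs : Q (al • r + ro • u₀) = 0 := by
      rw [map_lin2, hal, hro, QuadraticMap.polar_comm Q r u₀, h1, mul_zero, add_zero, mul_comm]
      exact CharTwo.add_self_eq_zero _
    have := hrad _ hs v₀
    rw [QuadraticMap.polar_add_left, polar_smul_left', polar_smul_left', h2, mul_zero, zero_add,
      ← hbdef] at this
    have hro0 : ro = 0 := (mul_eq_zero.mp this).resolve_right hb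
    rw [← hro, hro0, mul_zero]
  have h4 := hrad r h3
  rw [hx, map_add', h3, h4, zero_add, add_zero, map_lin2, ← hbdef]
  simp only [bf]
  ring

end normalform


section coordB

variable {F : Type*} [Field F] {n : ℕ}

theorem dual_eq_dot (φ : (Fin n → F) →ₗ[F] F) (x : Fin n → F) :
    φ x = (fun j => φ (Pi.single j 1)) ⬝ᵥ x := by
  rw [LinearMap.pi_apply_eq_sum_univ φ x, dotProduct]
  refine Finset.sum_congr rfl fun i _ => ?_
  have : (fun j => if i = j then (1 : F) else 0) = Pi.single i 1 := by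
    funext j
    rw [Pi.single_apply]
    by_cases h : i = j
    · rw [if_pos h, if_pos h.symm]
    · rw [if_neg h, if_neg (Ne.symm h)]
  rw [this, smul_eq_mul, mul_comm]

theorem exists_transfer {f₁ f₂ r₁ r₂ : Fin n → F} (hf : LinearIndependent F ![f₁, f₂])
    (hr : LinearIndependent F ![r₁, r₂]) :
    ∃ N : Matrix (Fin n) (Fin n) F, IsUnit N.det ∧
      ∀ x, r₁ ⬝ᵥ x = f₁ ⬝ᵥ (N *ᵥ x) ∧ r₂ ⬝ᵥ x = f₂ ⬝ᵥ (N *ᵥ x) := by
  obtain ⟨M, hM, h1, h2⟩ := exists_matrix_pair hf hr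
  refine ⟨Mᵀ, by rw [Matrix.det_transpose]; exact hM, fun x => ⟨?_, ?_⟩⟩
  · rw [dotProduct_mulVec, vecMul_transpose, h1]
  · rw [dotProduct_mulVec, vecMul_transpose, h2]

theorem eq_of_dot_eq {r r' : Fin n → F} (h : ∀ x, r ⬝ᵥ x = r' ⬝ᵥ x) : r = r' := by
  funext j
  have := h (Pi.single j 1)
  rwa [dotProduct_single_one, dotProduct_single_one] at this

/-- the number of linearly independent pairs -/
theorem card_indep_pairs_ge [Fintype F] :
    (Fintype.card F ^ n - 1) * (Fintype.card F ^ n - Fintype.card F) ≤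
      Nat.card {r : (Fin n → F) × (Fin n → F) // LinearIndependent F ![r.1, r.2]} := by
  classical
  set q := Fintype.card F with hq
  set X := q ^ n with hX
  have hV : Fintype.card (Fin n → F) = X := by rw [Fintype.card_pi_const]
  rw [Nat.card_eq_fintype_card, Fintype.card_subtype]
  set P := Finset.univ.filter
    (fun r : (Fin n → F) × (Fin n → F) => LinearIndependent F ![r.1, r.2]) with hP
  set A := (Finset.univ : Finset (Fin n → F)).image (fun y => ((0 : Fin n → F), y)) with hA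
  set B := (((Finset.univ : Finset (Fin n → F)).filter (fun x => x ≠ 0)) ×ˢ
    (Finset.univ : Finset F)).image (fun p : (Fin n → F) × F => (p.1, p.2 • p.1)) with hB
  have hcov : (Finset.univ : Finset ((Fin n → F) × (Fin n → F))) ⊆ P ∪ (A ∪ B) := by
    intro r _
    by_cases hr : LinearIndependent F ![r.1, r.2]
    · exact Finset.mem_union_left _ (Finset.mem_filter.mpr ⟨Finset.mem_univ _, hr⟩)
    · apply Finset.mem_union_right
      by_cases h0 : r.1 = 0
      · apply Finset.mem_union_left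
        exact Finset.mem_image.mpr ⟨r.2, Finset.mem_univ _, Prod.ext h0.symm rfl⟩
      · apply Finset.mem_union_right
        rw [LinearIndependent.pair_iff' h0] at hr
        simp only [ne_eq, not_forall, not_not] at hr
        obtain ⟨c, hc⟩ := hr
        exact Finset.mem_image.mpr ⟨(r.1, c), Finset.mem_product.mpr
          ⟨Finset.mem_filter.mpr ⟨Finset.mem_univ _, h0⟩, Finset.mem_univ _⟩, Prod.ext rfl hc⟩
  have hAc : A.card ≤ X := by
    refine Finset.card_image_le.trans ?_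
    rw [Finset.card_univ, hV]
  have hBc : B.card ≤ (X - 1) * q := by
    refine Finset.card_image_le.trans ?_
    rw [Finset.card_product, Finset.card_univ, Finset.filter_ne' Finset.univ (0 : Fin n → F),
      Finset.card_erase_of_mem (Finset.mem_univ _), Finset.card_univ, hV]
  have htot : X * X ≤ P.card + (X + (X - 1) * q) := by
    have h1 := Finset.card_le_card hcov
    rw [Finset.card_univ, Fintype.card_prod, hV] at h1
    exact h1.trans ((Finset.card_union_le _ _).trans (Nat.add_le_add_left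
      ((Finset.card_union_le _ _).trans (Nat.add_le_add hAc hBc)) _))
  have hq1 : 1 ≤ q := Fintype.card_pos
  rcases le_or_gt q X with h | h
  · obtain ⟨d, hd⟩ : ∃ d, X = q + d := ⟨X - q, by omega⟩
    obtain ⟨k, hk⟩ : ∃ k, q = k + 1 := ⟨q - 1, by omega⟩
    have e1 : X - 1 = k + d := by omega
    have e2 : X - q = d := by omega
    rw [e1, e2]
    rw [e1, hd, hk] at htot
    have : (k + 1 + d) * (k + 1 + d) = (k + d) * d + ((k + 1 + d) + (k + d) * (k + 1)) := by ring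
    rw [this] at htot
    exact Nat.le_of_add_le_add_right htot
  · have : X - q = 0 := by omega
    rw [this, mul_zero]
    exact Nat.zero_le _

end coordB


section mainB

variable {F : Type*} [Field F] [CharP F 2] [Fintype F] {n : ℕ}

/-- the orbit of an anisotropic binary form in two independent functionals -/
theorem card_orb_ge_of_bf (Q : QuadraticForm F (Fin n → F)) (a b c : F) (ha : a ≠ 0) (hb : b ≠ 0)
    (haniso : ∀ s t : F, bf a b c (s, t) = 0 → s = 0 ∧ t = 0)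
    (f₁ f₂ u₀ v₀ : Fin n → F) (h11 : f₁ ⬝ᵥ u₀ = 1) (h12 : f₁ ⬝ᵥ v₀ = 0) (h21 : f₂ ⬝ᵥ u₀ = 0)
    (h22 : f₂ ⬝ᵥ v₀ = 1) (hQ : ∀ x, Q x = bf a b c (f₁ ⬝ᵥ x, f₂ ⬝ᵥ x)) :
    (Fintype.card F ^ n - 1) * (Fintype.card F ^ n - Fintype.card F) ≤
      2 * (Fintype.card F + 1) * (orb Q).ncard := by
  classical
  have hf : LinearIndependent F ![f₁, f₂] := by
    rw [LinearIndependent.pair_iff]
    intro s t hst
    have e1 := congrArg (fun w => w ⬝ᵥ u₀) hst
    have e2 := congrArg (fun w => w ⬝ᵥ v₀) hst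
    simp only [add_dotProduct, smul_dotProduct, h11, h12, h21, h22, zero_dotProduct, smul_eq_mul,
      mul_one, mul_zero, add_zero, zero_add] at e1 e2
    exact ⟨e1, e2⟩
  have key : ∀ r : (Fin n → F) × (Fin n → F), LinearIndependent F ![r.1, r.2] →
      ∃ (Q' : QuadraticForm F (Fin n → F)) (v₁ v₂ : Fin n → F), Q' ∈ orb Q ∧
        (∀ x, Q' x = bf a b c (r.1 ⬝ᵥ x, r.2 ⬝ᵥ x)) ∧
        r.1 ⬝ᵥ v₁ = 1 ∧ r.1 ⬝ᵥ v₂ = 0 ∧ r.2 ⬝ᵥ v₁ = 0 ∧ r.2 ⬝ᵥ v₂ = 1 := by
    intro r hr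
    obtain ⟨N, hN, hNx⟩ := exists_transfer hf hr
    have hinv : ∀ y, N *ᵥ (N⁻¹ *ᵥ y) = y := by
      intro y
      rw [Matrix.mulVec_mulVec, Matrix.mul_nonsing_inv N hN, Matrix.one_mulVec]
    refine ⟨Q.comp (Matrix.toLin' N), N⁻¹ *ᵥ u₀, N⁻¹ *ᵥ v₀, comp_mem_orb Q N hN, ?_, ?_, ?_, ?_, ?_⟩
    · intro x
      rw [comp_toLin'_apply, hQ, (hNx x).1, (hNx x).2]
    · rw [(hNx _).1, hinv, h11]
    · rw [(hNx _).1, hinv, h12]
    · rw [(hNx _).2, hinv, h21]
    · rw [(hNx _).2, hinv, h22]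
  choose! Ψ w₁ w₂ hΨ using key
  set P := Finset.univ.filter
    (fun r : (Fin n → F) × (Fin n → F) => LinearIndependent F ![r.1, r.2]) with hP
  have hPcard : (Fintype.card F ^ n - 1) * (Fintype.card F ^ n - Fintype.card F) ≤ P.card := by
    have := card_indep_pairs_ge (F := F) (n := n)
    rwa [Nat.card_eq_fintype_card, Fintype.card_subtype] at this
  have hfib : P.card ≤ (2 * (Fintype.card F + 1)) * (P.image Ψ).card := by
    apply Finset.card_le_mul_card_image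
    intro Q' hQ'
    obtain ⟨r0, hr0P, hr0⟩ := Finset.mem_image.mp hQ'
    have hr0i : LinearIndependent F ![r0.1, r0.2] := (Finset.mem_filter.mp hr0P).2
    obtain ⟨-, hval0, d11, d12, d21, d22⟩ := hΨ r0 hr0i
    obtain ⟨v₁, hv₁⟩ : ∃ v₁, v₁ = w₁ r0 := ⟨_, rfl⟩
    obtain ⟨v₂, hv₂⟩ : ∃ v₂, v₂ = w₂ r0 := ⟨_, rfl⟩
    rw [← hv₁] at d11 d21
    rw [← hv₂] at d12 d22
    -- the values of the forms in the fibre
    have hval : ∀ r ∈ P.filter (fun r => Ψ r = Q'), ∀ x,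
        bf a b c (r.1 ⬝ᵥ x, r.2 ⬝ᵥ x) = bf a b c (r0.1 ⬝ᵥ x, r0.2 ⬝ᵥ x) := by
      intro r hr x
      have hri : LinearIndependent F ![r.1, r.2] :=
        (Finset.mem_filter.mp (Finset.mem_filter.mp hr).1).2
      have hrQ : Ψ r = Q' := (Finset.mem_filter.mp hr).2
      rw [← (hΨ r hri).2.1 x, ← hval0 x, hrQ, hr0]
    -- expansion of the members of the fibre
    have hexp : ∀ r ∈ P.filter (fun r => Ψ r = Q'), ∀ x,
        r.1 ⬝ᵥ x = (r0.1 ⬝ᵥ x) * (r.1 ⬝ᵥ v₁) + (r0.2 ⬝ᵥ x) * (r.1 ⬝ᵥ v₂) ∧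
        r.2 ⬝ᵥ x = (r0.1 ⬝ᵥ x) * (r.2 ⬝ᵥ v₁) + (r0.2 ⬝ᵥ x) * (r.2 ⬝ᵥ v₂) := by
      intro r hr x
      have h := hval r hr (x + ((r0.1 ⬝ᵥ x) • v₁ + (r0.2 ⬝ᵥ x) • v₂))
      have z1 : r0.1 ⬝ᵥ (x + ((r0.1 ⬝ᵥ x) • v₁ + (r0.2 ⬝ᵥ x) • v₂)) = 0 := by
        rw [dotProduct_add, dotProduct_add, dotProduct_smul, dotProduct_smul, d11, d12,
          smul_eq_mul, smul_eq_mul, mul_one, mul_zero, add_zero]
        exact CharTwo.add_self_eq_zero _
      have z2 : r0.2 ⬝ᵥ (x + ((r0.1 ⬝ᵥ x) • v₁ + (r0.2 ⬝ᵥ x) • v₂)) = 0 := by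
        rw [dotProduct_add, dotProduct_add, dotProduct_smul, dotProduct_smul, d21, d22,
          smul_eq_mul, smul_eq_mul, mul_one, mul_zero, zero_add]
        exact CharTwo.add_self_eq_zero _
      rw [z1, z2] at h
      have h0 : bf a b c ((0 : F), (0 : F)) = 0 := by simp [bf]
      rw [h0] at h
      obtain ⟨k1, k2⟩ := haniso _ _ h
      rw [dotProduct_add, dotProduct_add, dotProduct_smul, dotProduct_smul, smul_eq_mul,
        smul_eq_mul] at k1 k2
      exact ⟨add_eq_zero_iff2.mp k1, add_eq_zero_iff2.mp k2⟩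
    refine (Finset.card_le_card_of_injOn
      (fun r : (Fin n → F) × (Fin n → F) =>
        (((r.1 ⬝ᵥ v₁, r.2 ⬝ᵥ v₁), (r.1 ⬝ᵥ v₂, r.2 ⬝ᵥ v₂)) : (F × F) × (F × F))) ?_ ?_).trans
      (card_St_le a b c ha)
    · intro r hr
      have hr' := Finset.mem_coe.mp hr
      have e1 := hval r hr' v₁
      have e2 := hval r hr' v₂
      have e3 := hval r hr' (v₁ + v₂)
      rw [d11, d21] at e1
      rw [d12, d22] at e2
      have b10 : bf a b c ((1 : F), (0 : F)) = a := by simp [bf]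
      have b01 : bf a b c ((0 : F), (1 : F)) = c := by simp [bf]
      have b11 : bf a b c ((1 : F), (1 : F)) = a + b + c := by simp [bf]
      rw [b10] at e1
      rw [b01] at e2
      rw [dotProduct_add, dotProduct_add, dotProduct_add, dotProduct_add, d11, d12, d21, d22,
        zero_add, add_zero, b11] at e3
      have e4 : ((r.1 ⬝ᵥ v₁ + r.1 ⬝ᵥ v₂, r.2 ⬝ᵥ v₁ + r.2 ⬝ᵥ v₂) : F × F)
          = (r.1 ⬝ᵥ v₁, r.2 ⬝ᵥ v₁) + (r.1 ⬝ᵥ v₂, r.2 ⬝ᵥ v₂) := rfl
      rw [e4, bf_add, e1, e2] at e3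
      simp only at e3
      have e5 : b * (r.1 ⬝ᵥ v₁ * (r.2 ⬝ᵥ v₂) + r.1 ⬝ᵥ v₂ * (r.2 ⬝ᵥ v₁)) = b * 1 := by
        have : a + c + b * (r.1 ⬝ᵥ v₁ * (r.2 ⬝ᵥ v₂) + r.1 ⬝ᵥ v₂ * (r.2 ⬝ᵥ v₁)) = a + c + b * 1 := by
          rw [e3]; ring
        exact add_left_cancel this
      refine Finset.mem_coe.mpr (Finset.mem_filter.mpr ⟨Finset.mem_univ _, e1, ?_, e2⟩)
      exact mul_left_cancel₀ hb e5
    · intro r hr r' hr' hrr
      have hr1 := Finset.mem_coe.mp hr
      have hr1' := Finset.mem_coe.mp hr'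
      simp only [Prod.mk.injEq] at hrr
      obtain ⟨⟨g1, g2⟩, g3, g4⟩ := hrr
      refine Prod.ext (eq_of_dot_eq fun x => ?_) (eq_of_dot_eq fun x => ?_)
      · rw [(hexp r hr1 x).1, (hexp r' hr1' x).1, g1, g3]
      · rw [(hexp r hr1 x).2, (hexp r' hr1' x).2, g2, g4]
  have hS : (P.image Ψ).card ≤ (orb Q).ncard := by
    apply card_le_ncard_of_forall_mem
    intro Q' hQ'
    obtain ⟨r, hr, rfl⟩ := Finset.mem_image.mp hQ'
    exact (hΨ r (Finset.mem_filter.mp hr).2).1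
  calc (Fintype.card F ^ n - 1) * (Fintype.card F ^ n - Fintype.card F) ≤ P.card := hPcard
    _ ≤ (2 * (Fintype.card F + 1)) * (P.image Ψ).card := hfib
    _ ≤ 2 * (Fintype.card F + 1) * (orb Q).ncard := Nat.mul_le_mul_left _ hS


/-- **case (β)**: all singular vectors lie in the radical of the polar form. -/
theorem card_orb_ge_of_radical (Q : QuadraticForm F (Fin n → F))
    (hrad : ∀ z, Q z = 0 → ∀ y, QuadraticMap.polar Q z y = 0)
    {u₀ v₀ : Fin n → F} (hb : QuadraticMap.polar Q u₀ v₀ ≠ 0) :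
    (Fintype.card F ^ n - 1) * (Fintype.card F ^ n - Fintype.card F) ≤
      2 * (Fintype.card F + 1) * (orb Q).ncard := by
  have hnf := eq_bf_of_radical Q hrad hb
  obtain ⟨b, hbdef⟩ : ∃ b, b = QuadraticMap.polar Q u₀ v₀ := ⟨_, rfl⟩
  rw [← hbdef] at hb hnf
  have ha : Q u₀ ≠ 0 := by
    intro h
    exact hb (by rw [hbdef]; exact hrad u₀ h v₀)
  set φ₁ : (Fin n → F) →ₗ[F] F := b⁻¹ • (QuadraticMap.polarBilin Q).flip v₀ with hφ₁
  set φ₂ : (Fin n → F) →ₗ[F] F := b⁻¹ • (QuadraticMap.polarBilin Q) u₀ with hφ₂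
  have e1 : ∀ x, φ₁ x = b⁻¹ * QuadraticMap.polar Q x v₀ := by
    intro x
    rw [hφ₁, LinearMap.smul_apply, LinearMap.flip_apply, QuadraticMap.polarBilin_apply_apply,
      smul_eq_mul]
  have e2 : ∀ x, φ₂ x = b⁻¹ * QuadraticMap.polar Q u₀ x := by
    intro x
    rw [hφ₂, LinearMap.smul_apply, QuadraticMap.polarBilin_apply_apply, smul_eq_mul]
  refine card_orb_ge_of_bf Q (Q u₀) b (Q v₀) ha hb ?_ (fun j => φ₁ (Pi.single j 1))
    (fun j => φ₂ (Pi.single j 1)) u₀ v₀ ?_ ?_ ?_ ?_ ?_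
  · intro s t hst
    have h1 : Q (s • u₀ + t • v₀) = 0 := by
      rw [map_lin2, ← hbdef, ← hst]
      simp only [bf]
      ring
    have h2 := hrad _ h1 v₀
    have h3 := hrad _ h1 u₀
    rw [QuadraticMap.polar_add_left, polar_smul_left', polar_smul_left', polar_self_zero, mul_zero,
      add_zero, ← hbdef] at h2
    rw [QuadraticMap.polar_add_left, polar_smul_left', polar_smul_left', polar_self_zero, mul_zero,
      zero_add, QuadraticMap.polar_comm Q v₀ u₀, ← hbdef] at h3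
    exact ⟨(mul_eq_zero.mp h2).resolve_right hb, (mul_eq_zero.mp h3).resolve_right hb⟩
  · rw [← dual_eq_dot, e1, ← hbdef, inv_mul_cancel₀ hb]
  · rw [← dual_eq_dot, e1, polar_self_zero, mul_zero]
  · rw [← dual_eq_dot, e2, polar_self_zero, mul_zero]
  · rw [← dual_eq_dot, e2, ← hbdef, inv_mul_cancel₀ hb]
  · intro x
    rw [← dual_eq_dot, ← dual_eq_dot, e1, e2]
    exact hnf x

end mainB

end Cfsg.Agent.Lib.H8.QOrbit
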