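/-
S2333 (Landazuri-Seitz bound for `Sp_2n(q)`, `q` even; architect helper12): the counting lemma (K) (helper8).

**`quad_orbit_card_ge`**: over a finite field of even order `q`, a quadratic form `Q` on `F^n` (`n ≥ 2`) with non-zero polar
form has at least `(q^n - 1)(q^n - q) / (2 (q + 1))` distinct images `Q ∘ g`, `g ∈ GL_n(F)`.

Proof.  (α) If some singular vector lies outside the radical of the polar form there is a hyperbolic plane and the orbit has at
least `q^(2n-4) · (q-1) q (q+1)/2` members (`QOrbitA`).  (β) Otherwise `Q = β(f₁·x, f₂·x)` with `β` an anisotropic binary form,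
the orbit is `{β(r₁·x, r₂·x)}` over all independent pairs and the bound is attained (`QOrbitB`).
-/
import Cfsg.Agent.Lib.H8.QOrbitA
import Cfsg.Agent.Lib.H8.QOrbitB

set_option autoImplicit false

namespace Cfsg.Agent.Lib.H8.QOrbit

open Matrix

variable {F : Type*} [Field F] [Fintype F]

/-- the counting lemma for `orb Q` -/
theorem card_orb_ge (n : ℕ) (hn : 2 ≤ n) (heven : Even (Fintype.card F))
    (Q : QuadraticForm F (Fin n → F)) (hQ : ∃ x y, QuadraticMap.polar Q x y ≠ 0) :
    (Fintype.card F ^ n - 1) * (Fintype.card F ^ n - Fintype.card F) ≤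
      2 * (Fintype.card F + 1) * (orb Q).ncard := by
  haveI : CharP F 2 :=
    ringChar.of_eq (FiniteField.even_card_iff_char_two.mpr (Nat.even_iff.mp heven))
  by_cases h : ∃ z, Q z = 0 ∧ ∃ y, QuadraticMap.polar Q z y ≠ 0
  · obtain ⟨z, hz, y, hzy⟩ := h
    obtain ⟨m, rfl⟩ : ∃ m, n = m + 2 := ⟨n - 2, by omega⟩
    exact card_orb_ge_of_singular Q hz hzy
  · have hrad : ∀ z, Q z = 0 → ∀ y, QuadraticMap.polar Q z y = 0 := by
      intro z hz y
      by_contra hne
      exact h ⟨z, hz, y, hne⟩
    obtain ⟨u₀, v₀, hb⟩ := hQ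
    exact card_orb_ge_of_radical Q hrad hb

/-- **(K)** the orbit lemma for quadratic forms in characteristic 2. -/
theorem quad_orbit_card_ge (n : ℕ) (hn : 2 ≤ n) (heven : Even (Fintype.card F))
    (Q : QuadraticForm F (Fin n → F)) (hQ : ∃ x y, QuadraticMap.polar Q x y ≠ 0) :
    (Fintype.card F ^ n - 1) * (Fintype.card F ^ n - Fintype.card F) ≤
      2 * (Fintype.card F + 1) *
        Nat.card {Q' : QuadraticForm F (Fin n → F) //
          ∃ g : Matrix.GeneralLinearGroup (Fin n) F,
            Q' = Q.comp (Matrix.toLin' (g : Matrix (Fin n) (Fin n) F))} := by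
  rw [card_GL_orbit_eq]
  exact card_orb_ge n hn heven Q hQ

end Cfsg.Agent.Lib.H8.QOrbit
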