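import Mathlib
import Cfsg.Agent.Lib.H4.ReeSpecDefs
import Cfsg.Agent.Lib.H4.RSFIX
import Cfsg.Agent.Lib.H3.RSSDP
import Cfsg.Agent.Lib.H8.RSORD

/-!
# S3626 piece Y1 (helper8): all element orders of `Y K` (from ORD, FIX, SDP)
-/

set_option autoImplicit false

namespace Cfsg.Agent.Lib.H8.RS

open Matrix Cfsg.Agent.Lib.H4.ReeSpec

section field

variable {K : Type*} [Field K] [CharP K 3]

/-- `W K` has exponent `3`. -/
theorem y1_W_pow_three (n : W K) : n ^ 3 = 1 := by
  apply Multiplicative.toAdd.injective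
  rw [toAdd_pow, toAdd_one, ← Nat.cast_smul_eq_nsmul K, CharP.cast_eq_zero K 3, zero_smul]

/-- **Y1**: all element orders of `Y K`. -/
theorem Y_orders [Fintype K] {m : ℕ} (hK : Fintype.card K = 3 ^ (2 * m + 1)) (y : Y K) :
    orderOf y ∣ 6 ∨ orderOf y ∣ 9 ∨ orderOf y ∣ 3 ^ (2 * m + 1) - 1 ∨
      orderOf y ∣ (3 ^ (2 * m + 1) + 1) / 2 := by
  obtain ⟨w, x⟩ := y
  by_cases hfix : ∃ w' : W K, w' ≠ 1 ∧ (x : MulAut (W K)) w' = w'
  · obtain ⟨w', hw', hxw'⟩ := hfix
    rcases Cfsg.Agent.Lib.H4.RS.fixed_cases hK x w' hw' hxw' with h | h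
    · left
      exact orderOf_dvd_of_pow_eq_one
        (Cfsg.Agent.Lib.H3.RS.sdp_pow_eq_one (Mq K).subtype 3 2 y1_W_pow_three w x h)
    · right; left
      exact orderOf_dvd_of_pow_eq_one
        (Cfsg.Agent.Lib.H3.RS.sdp_pow_eq_one (Mq K).subtype 3 3 y1_W_pow_three w x h)
  · push Not at hfix
    have hff : ∀ n : W K, (Mq K).subtype x n = n → n = 1 := by
      intro n hn
      by_contra hne
      exact hfix n hne hn
    have ho := Cfsg.Agent.Lib.H3.RS.sdp_orderOf_of_fixedfree (Mq K).subtype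
      (fun a b : W K => mul_comm a b) x hff w
    rw [ho]
    rcases Mq_pow_cases hK x with h | h | h
    · right; right; left
      exact orderOf_dvd_of_pow_eq_one h
    · right; right; right
      exact orderOf_dvd_of_pow_eq_one h
    · left
      exact orderOf_dvd_of_pow_eq_one h

end field

end Cfsg.Agent.Lib.H8.RS
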