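import Mathlib
import Cfsg.Agent.Lib.H8.S3571SSDefs

/-! S3571, block NT (helper8): assembly of Sylvester–Schur from the pieces of the cut. -/

set_option autoImplicit false

namespace Cfsg.Agent.Lib.H8.S3571SS

theorem exists_cbrt (n : ℕ) : ∃ t : ℕ, t ^ 3 ≤ n ∧ n < (t + 1) ^ 3 := by
  induction n with
  | zero => exact ⟨0, by simp, by simp⟩
  | succ n ih =>
    obtain ⟨t, h1, h2⟩ := ih
    by_cases h : n + 1 < (t + 1) ^ 3
    · exact ⟨t, by omega, h⟩
    · refine ⟨t + 1, by omega, ?_⟩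
      have h3 : (t + 1) ^ 3 < (t + 1 + 1) ^ 3 := Nat.pow_lt_pow_left (by omega) (by norm_num)
      omega

theorem ss_of (h0 : SS0Stmt) (h3 : SS3Stmt) (h4 : SS4Stmt) (h5 : SS5Stmt) (h7 : SS7Stmt)
    (h8 : SS8Stmt) (h9 : SS9Stmt) (h10 : SS10Stmt) (h11 : SS11Stmt) : SSStmt := by
  intro n k hk hnk
  by_cases hk36 : k ≤ 36
  · exact h7 n k hk hk36 hnk
  have hk37 : 37 ≤ k := by omega
  by_contra hcon
  have hsm : Smooth n k := by
    intro p hp hpd
    by_contra hlt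
    exact hcon ⟨p, hp, by omega, hpd⟩
  have hnk3 : n ^ 2 ≤ k ^ 3 := h8 n k hk37 hnk hsm
  by_cases hk18 : k < 2 ^ 18
  · -- chain range
    have hn27 : n < 2 ^ 27 := by
      by_contra hge
      have hge' : 2 ^ 27 ≤ n := by omega
      have h1 : (2 ^ 27) ^ 2 ≤ n ^ 2 := Nat.pow_le_pow_left hge' 2
      have h2 : k ^ 3 < (2 ^ 18) ^ 3 := Nat.pow_lt_pow_left hk18 (by norm_num)
      have h3' : (2 ^ 27 : ℕ) ^ 2 = (2 ^ 18) ^ 3 := by norm_num
      omega
    obtain ⟨q, hq, hqn, hgap⟩ := h11 n (by omega) hn27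
    have hlt3 : (n - q) ^ 3 < k ^ 3 := lt_of_lt_of_le hgap hnk3
    have hlt : n - q < k := lt_of_pow_lt_pow_left₀ 3 (Nat.zero_le k) hlt3
    have hkq : k < q := by omega
    have hmod : n % q < k := by
      have h1 : n % q = (n - q) % q := Nat.mod_eq_sub_mod hqn
      have h2 : (n - q) % q = n - q := Nat.mod_eq_of_lt (by omega)
      omega
    exact hcon ⟨q, hq, hkq, h0 n k q hq hkq (by omega) hmod⟩
  · have hk18' : 2 ^ 18 ≤ k := by omega
    obtain ⟨t, ht1, ht2⟩ := exists_cbrt n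
    have hs : (Nat.sqrt n) ^ 2 ≤ n := Nat.sqrt_le' n
    have hL := h3 n k hk hnk
    by_cases hc : 5 * k ≤ 2 * n
    · have hU := h4 n k t hnk hsm ht2
      have hN := h9 n k (Nat.sqrt n) t hk18' hc hnk3 hs ht1
      have : (2 * n) ^ k ≤ 2 * k * k ^ k * (4 ^ (k + Nat.sqrt n) * n ^ t) :=
        le_trans hL (Nat.mul_le_mul_left _ hU)
      omega
    · have hc' : 2 * n < 5 * k := by omega
      have hn6 : 6 ≤ n := by
        have : (2:ℕ) ^ 18 = 262144 := by norm_num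
        omega
      have hU := h5 n k t hn6 hnk hsm ht2
      have hN := h10 n k (Nat.sqrt n) t hk18' hnk hc' hs ht1
      have : (2 * n) ^ k ≤ 2 * k * k ^ k * (4 ^ (n / 3 + Nat.sqrt n) * n ^ t) :=
        le_trans hL (Nat.mul_le_mul_left _ hU)
      omega

/-- (SS8) from (SS1), (SS2), (SS6). -/
theorem ss8_of (h1 : SS1Stmt) (h2 : SS2Stmt) (h6 : SS6Stmt) : SS8Stmt := by
  intro n k hk hnk hsm
  have hkn : k ≤ n := by omega
  have hn0 : 0 < n := by omega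
  have hA : n ^ k ≤ k ^ k * n ^ (Nat.primeCounting k) :=
    le_trans (h2 n k hkn) (Nat.mul_le_mul_left _ (h1 n k hkn hsm))
  have hpi := h6 k hk
  -- cube
  have hB : (n ^ k) ^ 3 ≤ (k ^ k * n ^ (Nat.primeCounting k)) ^ 3 := Nat.pow_le_pow_left hA 3
  have hC : (k ^ k * n ^ (Nat.primeCounting k)) ^ 3 ≤ (k ^ 3) ^ k * n ^ k := by
    rw [mul_pow, ← pow_mul, ← pow_mul, ← pow_mul]
    have e1 : k * 3 = 3 * k := by ring
    rw [e1]
    apply Nat.mul_le_mul_left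
    apply Nat.pow_le_pow_right hn0
    omega
  have hD : (n ^ 2) ^ k * n ^ k ≤ (k ^ 3) ^ k * n ^ k := by
    have e : (n ^ 2) ^ k * n ^ k = (n ^ k) ^ 3 := by
      rw [← pow_mul, ← pow_add, ← pow_mul]
      congr 1; ring
    rw [e]
    exact le_trans hB hC
  have hE : (n ^ 2) ^ k ≤ (k ^ 3) ^ k := Nat.le_of_mul_le_mul_right hD (Nat.pow_pos hn0)
  by_contra hlt
  have hlt' : k ^ 3 < n ^ 2 := by omega
  have : (k ^ 3) ^ k < (n ^ 2) ^ k := Nat.pow_lt_pow_left hlt' (by omega)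
  omega

end Cfsg.Agent.Lib.H8.S3571SS
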