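import Mathlib
import Cfsg.Agent.Lib.H8.S3571SSAsm

/-! S3571, block NT (helper8): the two numeric inequalities (SS9), (SS10). -/

set_option autoImplicit false

namespace Cfsg.Agent.Lib.H8.S3571SS

theorem cube_le_four_pow (m : ℕ) : m ^ 3 ≤ 4 ^ m := by
  induction m with
  | zero => simp
  | succ m ih =>
    rcases Nat.lt_or_ge m 3 with h | h
    · interval_cases m <;> norm_num
    · have h1 : (m + 1) ^ 3 ≤ 4 * m ^ 3 := by nlinarith [Nat.pow_le_pow_left h 2, Nat.pow_le_pow_left h 3]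
      calc (m + 1) ^ 3 ≤ 4 * m ^ 3 := h1
        _ ≤ 4 * 4 ^ m := Nat.mul_le_mul_left 4 ih
        _ = 4 ^ (m + 1) := by ring

theorem lin_lt_four_pow (j : ℕ) (hj : 5 ≤ j) : 128 * (j + 1) ≤ 4 ^ j := by
  induction j, hj using Nat.le_induction with
  | base => norm_num
  | succ j hj ih =>
    calc 128 * (j + 1 + 1) ≤ 4 * (128 * (j + 1)) := by omega
      _ ≤ 4 * 4 ^ j := Nat.mul_le_mul_left 4 ih
      _ = 4 ^ (j + 1) := by ring

theorem five_pow_ge (k : ℕ) : 4 ^ k * 2 ^ (5 * (k / 16)) ≤ 5 ^ k := by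
  have h16 : (4 : ℕ) ^ 16 * 2 ^ 5 ≤ 5 ^ 16 := by norm_num
  have hk : k = 16 * (k / 16) + k % 16 := (Nat.div_add_mod k 16).symm
  set j := k / 16 with hj
  set i := k % 16 with hi
  rw [hk]
  calc 4 ^ (16 * j + i) * 2 ^ (5 * j) = (4 ^ 16 * 2 ^ 5) ^ j * 4 ^ i := by
        rw [mul_pow, ← pow_mul, ← pow_mul, pow_add]; ring
    _ ≤ (5 ^ 16) ^ j * 5 ^ i :=
        Nat.mul_le_mul (Nat.pow_le_pow_left h16 j) (Nat.pow_le_pow_left (by norm_num) i)
    _ = 5 ^ (16 * j + i) := by rw [← pow_mul, pow_add]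

/-- Lemma A: the logarithmic budget. -/
theorem lemmaA (L : ℕ) (hL : 18 ≤ L) :
    (2 * L + 2) * 2 ^ ((L + 2) / 2) + L + 2 ≤ 3 * 2 ^ (L - 4) := by
  -- two-step induction
  have key : ∀ m : ℕ, (2 * (18 + 2 * m) + 2) * 2 ^ ((18 + 2 * m + 2) / 2) + (18 + 2 * m) + 2
        ≤ 3 * 2 ^ (18 + 2 * m - 4) ∧
      (2 * (19 + 2 * m) + 2) * 2 ^ ((19 + 2 * m + 2) / 2) + (19 + 2 * m) + 2
        ≤ 3 * 2 ^ (19 + 2 * m - 4) := by
    intro m
    induction m with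
    | zero => constructor <;> norm_num
    | succ m ih =>
      obtain ⟨ih1, ih2⟩ := ih
      have e1 : (18 + 2 * (m + 1) + 2) / 2 = (18 + 2 * m + 2) / 2 + 1 := by omega
      have e2 : 18 + 2 * (m + 1) - 4 = (18 + 2 * m - 4) + 2 := by omega
      have e3 : (19 + 2 * (m + 1) + 2) / 2 = (19 + 2 * m + 2) / 2 + 1 := by omega
      have e4 : 19 + 2 * (m + 1) - 4 = (19 + 2 * m - 4) + 2 := by omega
      constructor
      · rw [e1, e2, pow_succ, pow_add]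
        set A := 2 ^ ((18 + 2 * m + 2) / 2) with hA
        set B := 2 ^ (18 + 2 * m - 4) with hB
        have hApos : 0 < A := Nat.pow_pos (by norm_num)
        nlinarith [ih1, hApos]
      · rw [e3, e4, pow_succ, pow_add]
        set A := 2 ^ ((19 + 2 * m + 2) / 2) with hA
        set B := 2 ^ (19 + 2 * m - 4) with hB
        have hApos : 0 < A := Nat.pow_pos (by norm_num)
        nlinarith [ih2, hApos]
  rcases Nat.even_or_odd' (L - 18) with ⟨m, hm | hm⟩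
  · have : L = 18 + 2 * m := by omega
    rw [this]; exact (key m).1
  · have : L = 19 + 2 * m := by omega
    rw [this]; exact (key m).2

theorem ss10 : SS10Stmt := by
  intro n k s t hk hnk hnk' hs ht
  have hk18 : (2 : ℕ) ^ 18 = 262144 := by norm_num
  rw [hk18] at hk
  obtain ⟨t', ht'1, ht'2⟩ := exists_cbrt n
  have hn0 : 0 < n := by omega
  have htt' : t ≤ t' := by
    by_contra h
    have h1 : t' + 1 ≤ t := by omega
    have h2 : (t' + 1) ^ 3 ≤ t ^ 3 := Nat.pow_le_pow_left h1 3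
    omega
  have hnt : n ^ t ≤ n ^ t' := Nat.pow_le_pow_right hn0 htt'
  have hn4 : n ≤ 4 ^ (t' + 1) := le_trans (le_of_lt ht'2) (cube_le_four_pow (t' + 1))
  have hnt' : n ^ t' ≤ 4 ^ ((t' + 1) * t') := by
    rw [pow_mul]; exact Nat.pow_le_pow_left hn4 t'
  -- 16 t'^2 ≤ k
  have hn3k : n ≤ 3 * k := by omega
  have ht16 : 16 * t' ^ 2 ≤ k := by
    by_contra h
    have h1 : k < 16 * t' ^ 2 := by omega
    have h2 : k ^ 3 < (16 * t' ^ 2) ^ 3 := Nat.pow_lt_pow_left h1 (by norm_num)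
    have h3 : (16 * t' ^ 2) ^ 3 = 4096 * (t' ^ 3) ^ 2 := by ring
    have h4 : (t' ^ 3) ^ 2 ≤ (3 * k) ^ 2 := Nat.pow_le_pow_left (le_trans ht'1 hn3k) 2
    have h5 : 4096 * (3 * k) ^ 2 ≤ k ^ 3 := by nlinarith
    omega
  have hX : 8 * ((t' + 1) * t') ≤ k := by
    rcases Nat.eq_zero_or_pos t' with h | h
    · subst h; simp
    · have : (t' + 1) * t' ≤ 2 * t' ^ 2 := by nlinarith
      omega
  -- 64 s ≤ k
  have hs64 : 64 * s ≤ k := by
    by_contra h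
    have h1 : k < 64 * s := by omega
    have h2 : k ^ 2 < (64 * s) ^ 2 := Nat.pow_lt_pow_left h1 (by norm_num)
    have h3 : (64 * s) ^ 2 = 4096 * s ^ 2 := by ring
    have h4 : 4096 * s ^ 2 ≤ 4096 * (3 * k) := Nat.mul_le_mul_left _ (le_trans hs hn3k)
    have h5 : 4096 * (3 * k) ≤ k ^ 2 := by nlinarith
    omega
  set j := k / 64 with hj
  have hj5 : 5 ≤ j := by omega
  have h2k : 2 * k < 4 ^ j := by
    have := lin_lt_four_pow j hj5
    omega
  set a := n / 3 with ha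
  have hsum : j + (a + s) + (t' + 1) * t' ≤ k := by omega
  -- assemble
  have hA : 2 * k * (4 ^ (a + s) * n ^ t) < 4 ^ k := by
    calc 2 * k * (4 ^ (a + s) * n ^ t) ≤ 2 * k * (4 ^ (a + s) * 4 ^ ((t' + 1) * t')) :=
          Nat.mul_le_mul_left _ (Nat.mul_le_mul_left _ (le_trans hnt hnt'))
      _ < 4 ^ j * (4 ^ (a + s) * 4 ^ ((t' + 1) * t')) :=
          Nat.mul_lt_mul_of_pos_right h2k (by positivity)
      _ = 4 ^ (j + (a + s) + (t' + 1) * t') := by rw [pow_add, pow_add]; ring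
      _ ≤ 4 ^ k := Nat.pow_le_pow_right (by norm_num) hsum
  have hB : 4 ^ k * k ^ k ≤ (2 * n) ^ k := by
    rw [← mul_pow]
    exact Nat.pow_le_pow_left (by omega) k
  have hkk : 0 < k ^ k := Nat.pow_pos (by omega)
  calc 2 * k * k ^ k * (4 ^ (a + s) * n ^ t) = (2 * k * (4 ^ (a + s) * n ^ t)) * k ^ k := by ring
    _ < 4 ^ k * k ^ k := Nat.mul_lt_mul_of_pos_right hA hkk
    _ ≤ (2 * n) ^ k := hB

theorem ss9 : SS9Stmt := by
  intro n k s t hk hnk hnk3 hs ht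
  have hk18 : (2 : ℕ) ^ 18 = 262144 := by norm_num
  have hk' : 262144 ≤ k := by rw [hk18] at hk; exact hk
  have hk0 : 0 < k := by omega
  have hn0 : 0 < n := by omega
  set j := k / 16 with hj
  -- s ≤ j
  have hs16 : 16 * s ≤ k := by
    by_contra h
    have h1 : k < 16 * s := by omega
    have h2 : k ^ 4 < (16 * s) ^ 4 := Nat.pow_lt_pow_left h1 (by norm_num)
    have h3 : (16 * s) ^ 4 = 65536 * (s ^ 2) ^ 2 := by ring
    have h4 : (s ^ 2) ^ 2 ≤ n ^ 2 := Nat.pow_le_pow_left hs 2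
    have h5 : 65536 * k ^ 3 ≤ k ^ 4 := by
      have : k ^ 4 = k * k ^ 3 := by ring
      rw [this]; exact Nat.mul_le_mul_right _ (by omega)
    have h6 : 65536 * (s ^ 2) ^ 2 ≤ 65536 * k ^ 3 := Nat.mul_le_mul_left _ (le_trans h4 hnk3)
    omega
  have hsj : s ≤ j := by omega
  -- L
  set L := Nat.log 2 k with hL
  have hL1 : 2 ^ L ≤ k := Nat.pow_log_le_self 2 (by omega)
  have hL2 : k < 2 ^ (L + 1) := Nat.lt_pow_succ_log_self (by norm_num) k
  have hL18 : 18 ≤ L := Nat.le_log_of_pow_le (by norm_num) hk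
  -- n ≤ k^2
  have hnk2 : n ≤ k ^ 2 := by
    by_contra h
    have h1 : k ^ 2 < n := by omega
    have h2 : (k ^ 2) ^ 2 < n ^ 2 := Nat.pow_lt_pow_left h1 (by norm_num)
    have h3 : k ^ 3 ≤ (k ^ 2) ^ 2 := by
      have : (k ^ 2) ^ 2 = k * k ^ 3 := by ring
      rw [this]; exact Nat.le_mul_of_pos_left _ hk0
    omega
  have hn2L : n < 2 ^ (2 * L + 2) := by
    have h1 : k ^ 2 < (2 ^ (L + 1)) ^ 2 := Nat.pow_lt_pow_left hL2 (by norm_num)
    have h2 : (2 ^ (L + 1)) ^ 2 = 2 ^ (2 * L + 2) := by rw [← pow_mul]; congr 1; ring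
    omega
  -- t^2 ≤ k
  have ht2 : t ^ 2 ≤ k := by
    by_contra h
    have h1 : k < t ^ 2 := by omega
    have h2 : k ^ 3 < (t ^ 2) ^ 3 := Nat.pow_lt_pow_left h1 (by norm_num)
    have h3 : (t ^ 2) ^ 3 = (t ^ 3) ^ 2 := by ring
    have h4 : (t ^ 3) ^ 2 ≤ n ^ 2 := Nat.pow_le_pow_left ht 2
    omega
  set e := (L + 2) / 2 with he
  have hte : t < 2 ^ e := by
    by_contra h
    have h1 : 2 ^ e ≤ t := by omega
    have h2 : (2 ^ e) ^ 2 ≤ t ^ 2 := Nat.pow_le_pow_left h1 2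
    have h3 : (2 ^ e) ^ 2 = 2 ^ (2 * e) := by rw [← pow_mul]; congr 1; ring
    have h4 : 2 ^ (L + 1) ≤ 2 ^ (2 * e) := Nat.pow_le_pow_right (by norm_num) (by omega)
    omega
  have hnt : n ^ t ≤ 2 ^ ((2 * L + 2) * 2 ^ e) := by
    calc n ^ t ≤ (2 ^ (2 * L + 2)) ^ t := Nat.pow_le_pow_left (le_of_lt hn2L) t
      _ = 2 ^ ((2 * L + 2) * t) := by rw [← pow_mul]
      _ ≤ 2 ^ ((2 * L + 2) * 2 ^ e) :=
          Nat.pow_le_pow_right (by norm_num) (Nat.mul_le_mul_left _ (le_of_lt hte))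
  have h2k : 2 * k < 2 ^ (L + 2) := by
    have : 2 ^ (L + 2) = 2 * 2 ^ (L + 1) := by ring
    omega
  have hA : (2 * L + 2) * 2 ^ e + L + 2 ≤ 3 * 2 ^ (L - 4) := lemmaA L hL18
  have hjL : 2 ^ (L - 4) ≤ j := by
    have h1 : 2 ^ L = 16 * 2 ^ (L - 4) := by
      have : L = (L - 4) + 4 := by omega
      conv_lhs => rw [this, pow_add]
      ring
    omega
  have hbudget : (L + 2) + 2 * s + (2 * L + 2) * 2 ^ e ≤ 5 * j := by
    generalize (2 * L + 2) * 2 ^ e = X at hA ⊢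
    generalize 2 ^ (L - 4) = Y at hA hjL
    omega
  have hfive := five_pow_ge k
  have hC : 2 * k * (4 ^ (k + s) * n ^ t) < 5 ^ k := by
    have h4s : (4 : ℕ) ^ (k + s) = 4 ^ k * 2 ^ (2 * s) := by
      rw [pow_add, pow_mul]; norm_num
    calc 2 * k * (4 ^ (k + s) * n ^ t)
          ≤ 2 * k * (4 ^ (k + s) * 2 ^ ((2 * L + 2) * 2 ^ e)) :=
          Nat.mul_le_mul_left _ (Nat.mul_le_mul_left _ hnt)
      _ < 2 ^ (L + 2) * (4 ^ (k + s) * 2 ^ ((2 * L + 2) * 2 ^ e)) :=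
          Nat.mul_lt_mul_of_pos_right h2k (by positivity)
      _ = 4 ^ k * 2 ^ ((L + 2) + 2 * s + (2 * L + 2) * 2 ^ e) := by
          rw [h4s, pow_add, pow_add]; ring
      _ ≤ 4 ^ k * 2 ^ (5 * j) :=
          Nat.mul_le_mul_left _ (Nat.pow_le_pow_right (by norm_num) hbudget)
      _ ≤ 5 ^ k := hfive
  have hB : 5 ^ k * k ^ k ≤ (2 * n) ^ k := by
    rw [← mul_pow]
    exact Nat.pow_le_pow_left (by omega) k
  have hkk : 0 < k ^ k := Nat.pow_pos hk0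
  calc 2 * k * k ^ k * (4 ^ (k + s) * n ^ t) = (2 * k * (4 ^ (k + s) * n ^ t)) * k ^ k := by ring
    _ < 5 ^ k * k ^ k := Nat.mul_lt_mul_of_pos_right hC hkk
    _ ≤ (2 * n) ^ k := hB

end Cfsg.Agent.Lib.H8.S3571SS
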