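import Mathlib
import Cfsg.Agent.Lib.H8.S3571SSAsm
import Cfsg.Agent.Lib.H1.S3571SS910
import Cfsg.Agent.Lib.H4.S3571SS23W
import Cfsg.Agent.Lib.H5.S3571SS45X
import Cfsg.Agent.Lib.H21.S3571SS7
import Cfsg.Agent.Lib.H22.S3571SS6W
import Cfsg.Agent.Lib.H28.S3571SS12
import Cfsg.Agent.Lib.H29.S3571Chain

/-! S3571, block NT (helper8): FINAL of Sylvester–Schur.
`C(n,k)` has a prime factor `> k` whenever `n ≥ 2k ≥ 2`.  Pieces: `k ≤ 36` (helper21);
`37 ≤ k`: smooth forces `n² ≤ k³` (helper28 SS1+SS2, helper22 SS6); `k < 2^16`: the prime chain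
to `2^24` (helper29); `k ≥ 2^16`: lower bound (helper4 SS3) against the three-level upper bound
(helper5 SS4/SS5) via the numeric inequalities (helper1). -/

set_option autoImplicit false

namespace Cfsg.Agent.Lib.H8.S3571SS

/-- Sylvester–Schur. -/
theorem ss : SSStmt := by
  intro n k hk hnk
  by_cases hk36 : k ≤ 36
  · exact Cfsg.Agent.Lib.H21.S3571SS7.ss7 n k hk hk36 hnk
  have hk37 : 37 ≤ k := by omega
  by_contra hcon
  have hsm : Smooth n k := by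
    intro p hp hpd
    by_contra hlt
    exact hcon ⟨p, hp, by omega, hpd⟩
  have hnk3 : n ^ 2 ≤ k ^ 3 :=
    ss8_of Cfsg.Agent.Lib.H28.S3571SS.ss1 Cfsg.Agent.Lib.H28.S3571SS.ss2
      Cfsg.Agent.Lib.H22.S3571SS6W.ss6 n k hk37 hnk hsm
  by_cases hk16 : k < 2 ^ 16
  · -- chain range
    have hn24 : n < 2 ^ 24 := by
      by_contra hge
      have hge' : 2 ^ 24 ≤ n := by omega
      have h1 : (2 ^ 24) ^ 2 ≤ n ^ 2 := Nat.pow_le_pow_left hge' 2
      have h2 : k ^ 3 < (2 ^ 16) ^ 3 := Nat.pow_lt_pow_left hk16 (by norm_num)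
      have h3' : (2 ^ 24 : ℕ) ^ 2 = (2 ^ 16) ^ 3 := by norm_num
      omega
    exact hcon (Cfsg.Agent.Lib.H29.S3571Chain.sylvester_schur_window n k (by omega) hn24 hnk hnk3)
  · have hk16' : 2 ^ 16 ≤ k := by omega
    obtain ⟨t, ht1, ht2⟩ := exists_cbrt n
    have hs : (Nat.sqrt n) ^ 2 ≤ n := Nat.sqrt_le' n
    have hL := Cfsg.Agent.Lib.H4.S3571SS.ss3 n k hk hnk
    by_cases hc : 3 * k ≤ n
    · have hU := Cfsg.Agent.Lib.H5.S3571SS.ss4' n k t (by omega) hnk hsm ht2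
      have hN := Cfsg.Agent.Lib.H1.S3571SS910.large_far k n (Nat.sqrt n) t hk16' hc hnk3 hs ht1
      have h1 : (2 * n) ^ k ≤ 2 * k * k ^ k * (4 ^ (k + Nat.sqrt n) * n ^ t) :=
        le_trans hL (Nat.mul_le_mul_left _ hU)
      have h2 : 2 * k * k ^ k * (4 ^ (k + Nat.sqrt n) * n ^ t)
          = 2 * k * k ^ k * 4 ^ (k + Nat.sqrt n) * n ^ t := by ring
      omega
    · have hc' : n < 3 * k := by omega
      have hn6 : 6 ≤ n := by omega
      have hU := Cfsg.Agent.Lib.H5.S3571SS.ss5 n k t hn6 hnk hsm ht2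
      have hN := Cfsg.Agent.Lib.H1.S3571SS910.large_near k n (Nat.sqrt n) t hk16' hnk hc' hs ht1
      have h1 : (2 * n) ^ k ≤ 2 * k * k ^ k * (4 ^ (n / 3 + Nat.sqrt n) * n ^ t) :=
        le_trans hL (Nat.mul_le_mul_left _ hU)
      have h2 : 2 * k * k ^ k * (4 ^ (n / 3 + Nat.sqrt n) * n ^ t)
          = 2 * k * k ^ k * 4 ^ (n / 3 + Nat.sqrt n) * n ^ t := by ring
      omega

end Cfsg.Agent.Lib.H8.S3571SS
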