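import Mathlib
import Cfsg.Agent.Lib.H5.S3777Defs

/-! S3777 (helper8): PAIR-TRANSFER.  Passing from a pair `(G, M)` to a sub-pair on the type `↥K`. -/

set_option autoImplicit false

namespace Cfsg.Agent.Lib.H8.S3777PT

open Cfsg.Agent.Lib.H5.S3777

universe u

variable {G : Type u} [Group G]

/-- centraliser index in `↥K` is at most the centraliser index in `G`. -/
theorem index_centralizer_sub_le [Finite G] (K : Subgroup G) (k : ↥K) :
    (Subgroup.centralizer ({k} : Set ↥K)).index ≤
      (Subgroup.centralizer ({(k : G)} : Set G)).index := by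
  have h1 : Subgroup.centralizer ({k} : Set ↥K) =
      (Subgroup.centralizer ({(k : G)} : Set G)).subgroupOf K := by
    ext x
    simp only [Subgroup.mem_centralizer_iff, Set.mem_singleton_iff, forall_eq,
      Subgroup.mem_subgroupOf]
    constructor
    · intro h
      have := congrArg (Subtype.val) h
      simpa using this
    · intro h
      apply Subtype.ext
      simpa using h
  rw [h1]
  change (Subgroup.centralizer ({(k : G)} : Set G)).relIndex K ≤ _
  have h0 : (Subgroup.centralizer ({(k : G)} : Set G)).relIndex ⊤ ≠ 0 := by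
    rw [Subgroup.relIndex_top_right]; exact Subgroup.index_ne_zero_of_finite
  have := Subgroup.relIndex_le_of_le_right (le_top : K ≤ ⊤) h0
  rwa [Subgroup.relIndex_top_right] at this

/-- (PT2a) -/
theorem commutator_subgroupOf (K M0 : Subgroup G) (hM0 : M0 ≤ K) :
    ⁅M0.subgroupOf K, M0.subgroupOf K⁆ = ⁅M0, M0⁆.subgroupOf K := by
  apply Subgroup.map_injective K.subtype_injective
  rw [Subgroup.map_commutator, Subgroup.subgroupOf_map_subtype, Subgroup.subgroupOf_map_subtype,
    inf_of_le_left hM0, inf_of_le_left (le_trans (Subgroup.commutator_mono hM0 hM0)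
      (Subgroup.commutator_le_self K))]
  
/-- (PT2b) -/
theorem commutator_type (K : Subgroup G) : commutator ↥K = ⁅K, K⁆.subgroupOf K := by
  have := commutator_subgroupOf K K le_rfl
  rw [Subgroup.subgroupOf_self] at this
  rw [commutator_def]
  exact this

/-- (PT2) residual in `↥K` iff residual among subgroups of `G`. -/
theorem residual_iff (K M0 : Subgroup G) (hM0 : M0 ≤ K) :
    ⁅M0.subgroupOf K, M0.subgroupOf K⁆ = commutator ↥K ↔ ⁅M0, M0⁆ = ⁅K, K⁆ := by
  rw [commutator_subgroupOf K M0 hM0, commutator_type K]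
  have h1 : ⁅M0, M0⁆ ≤ K := le_trans (Subgroup.commutator_mono hM0 hM0)
    (Subgroup.commutator_le_self K)
  have h2 : ⁅K, K⁆ ≤ K := Subgroup.commutator_le_self K
  constructor
  · intro h
    have := congrArg (Subgroup.map K.subtype) h
    rwa [Subgroup.subgroupOf_map_subtype, Subgroup.subgroupOf_map_subtype,
      inf_of_le_left h1, inf_of_le_left h2] at this
  · intro h; rw [h]

/-- (PT3) -/
theorem card_commutator_type (K : Subgroup G) :
    Nat.card ↥(commutator ↥K) = Nat.card ↥⁅K, K⁆ := by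
  rw [commutator_type K]
  have h2 : ⁅K, K⁆ ≤ K := Subgroup.commutator_le_self K
  exact Nat.card_congr (Subgroup.subgroupOfEquivOfLe h2).toEquiv

/-- (PT1) a sub-pair on the type `↥K`. -/
theorem pair_sub [Finite G] (p : ℕ) (K M0 : Subgroup G) (hidx : M0.relIndex K = p) (f : ℕ)
    (hout : ∀ k : G, k ∈ K → k ∉ M0 → (Subgroup.centralizer ({k} : Set G)).index ≤ p ^ f) :
    IsPair p (M0.subgroupOf K) f := by
  refine ⟨hidx, ?_⟩
  intro k hk
  have hk' : (k : G) ∉ M0 := by
    intro h; exact hk (Subgroup.mem_subgroupOf.mpr h)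
  exact le_trans (index_centralizer_sub_le K k) (hout k k.2 hk')

/-- in a finite `p`-group a subgroup of index `p` is normal. -/
theorem normal_of_index_p [Finite G] {p : ℕ} [hp : Fact p.Prime] (hG : IsPGroup p G)
    (M : Subgroup G) (hM : M.index = p) : M.Normal := by
  apply Subgroup.normal_of_index_eq_minFac_card
  obtain ⟨n, hn⟩ := hG.exists_card_eq
  have hn0 : n ≠ 0 := by
    rintro rfl
    rw [pow_zero] at hn
    have h1 : M.index ∣ Nat.card G := Subgroup.index_dvd_card M
    rw [hn, hM] at h1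
    exact hp.out.one_lt.ne' (Nat.dvd_one.mp h1)
  rw [hM, hn, Nat.Prime.pow_minFac hp.out hn0]

/-- two distinct subgroups of prime index `p` generate `G`. -/
theorem sup_eq_top_of_ne [Finite G] {p : ℕ} [hp : Fact p.Prime] (M K : Subgroup G)
    (hM : M.index = p) (hK : K.index = p) (hKM : K ≠ M) : M ⊔ K = ⊤ := by
  have h1 : (M ⊔ K).index ∣ M.index := Subgroup.index_dvd_of_le le_sup_left
  rw [hM] at h1
  rcases (Nat.dvd_prime hp.out).mp h1 with h | h
  · exact Subgroup.index_eq_one.mp h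
  · exfalso
    have h2 := Subgroup.relIndex_mul_index (le_sup_left : M ≤ M ⊔ K)
    rw [h, hM] at h2
    have h3 : M.relIndex (M ⊔ K) = 1 := by
      have hp0 : 0 < p := hp.out.pos
      exact Nat.eq_of_mul_eq_mul_right hp0 (by rw [h2, one_mul])
    have h4 : M ⊔ K ≤ M := Subgroup.relIndex_eq_one.mp h3
    have hKM' : K ≤ M := le_trans le_sup_right h4
    have h5 := Subgroup.relIndex_mul_index hKM'
    rw [hM, hK] at h5
    have h6 : K.relIndex M = 1 := by
      have hp0 : 0 < p := hp.out.pos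
      exact Nat.eq_of_mul_eq_mul_right hp0 (by rw [h5, one_mul])
    exact hKM (le_antisymm hKM' (Subgroup.relIndex_eq_one.mp h6))

/-- `M ⊓ K` has relative index `p` in `K` when `M ≠ K` both have index `p` (`M` normal). -/
theorem relIndex_inf_of_ne [Finite G] {p : ℕ} [hp : Fact p.Prime] (M K : Subgroup G)
    (hM : M.index = p) (hK : K.index = p) [M.Normal] (hKM : K ≠ M) :
    (M ⊓ K).relIndex K = p := by
  rw [Subgroup.inf_relIndex_right]
  have h1 : M.relIndex (K ⊔ M) = M.relIndex K := Subgroup.relIndex_sup_right K M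
  rw [← h1, sup_comm, sup_eq_top_of_ne M K hM hK hKM, Subgroup.relIndex_top_right, hM]

/-- (PT1') the pair `(↥K, M ⊓ K)` from the pair `(G, M)`. -/
theorem pair_inf [Finite G] {p : ℕ} [hp : Fact p.Prime] {M : Subgroup G} {f : ℕ}
    (hP : IsPair p M f) [M.Normal] (K : Subgroup G) (hK : K.index = p) (hKM : K ≠ M) :
    IsPair p ((M ⊓ K).subgroupOf K) f := by
  apply pair_sub p K (M ⊓ K) (relIndex_inf_of_ne M K hP.idx hK hKM) f
  intro k hk hk'
  apply hP.out k
  intro h
  exact hk' ⟨h, hk⟩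

/-- (PT4) -/
theorem card_lt [Finite G] (K : Subgroup G) (hK : K ≠ ⊤) : Nat.card ↥K < Nat.card G := by
  have h1 := Subgroup.card_mul_index K
  have h2 : K.index ≠ 1 := fun h => hK (Subgroup.index_eq_one.mp h)
  have h3 : K.index ≠ 0 := Subgroup.index_ne_zero_of_finite
  have h4 : 0 < Nat.card ↥K := Nat.card_pos
  have h5 : 2 ≤ K.index := by omega
  calc Nat.card ↥K < Nat.card ↥K * 2 := by omega
    _ ≤ Nat.card ↥K * K.index := Nat.mul_le_mul_left _ h5
    _ = Nat.card G := h1

theorem card_lt_of_index [Finite G] {p : ℕ} [hp : Fact p.Prime] (K : Subgroup G)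
    (hK : K.index = p) : Nat.card ↥K < Nat.card G := by
  apply card_lt K
  intro h
  rw [h, Subgroup.index_top] at hK
  exact hp.out.one_lt.ne hK

theorem isPGroup_sub {p : ℕ} (hG : IsPGroup p G) (K : Subgroup G) : IsPGroup p ↥K :=
  hG.to_subgroup K

/-- the induction hypothesis applied to a proper subgroup, as a type. -/
theorem ih_sub [Finite G] {p : ℕ} (hG : IsPGroup p G) (hIH : IH.{u} p (Nat.card G))
    (K : Subgroup G) (hK : K ≠ ⊤) : P1 p ↥K ∧ P2 p ↥K ∧ P3 p ↥K :=
  hIH ↥K (hG.to_subgroup K) (card_lt K hK)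

/-- (PT5) `P1` for a proper sub-pair `(K, M0)`, stated with subgroups of `G`. -/
theorem bound_sub_P1 [Finite G] {p : ℕ} (hG : IsPGroup p G) (hIH : IH.{u} p (Nat.card G))
    (K M0 : Subgroup G) (hK : K ≠ ⊤) (hM0 : M0 ≤ K) (hidx : M0.relIndex K = p) (f : ℕ)
    (hout : ∀ k : G, k ∈ K → k ∉ M0 → (Subgroup.centralizer ({k} : Set G)).index ≤ p ^ f)
    (hne : ⁅M0, M0⁆ ≠ ⁅K, K⁆) : Nat.card ↥⁅K, K⁆ ≤ p ^ tri f := by
  have h := (ih_sub hG hIH K hK).1 (M0.subgroupOf K) f (pair_sub p K M0 hidx f hout)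
    (fun h => hne ((residual_iff K M0 hM0).mp h))
  rwa [card_commutator_type] at h

/-- (PT6) `P2` for a proper sub-pair `(K, M0)`, stated with subgroups of `G`. -/
theorem bound_sub_P2 [Finite G] {p : ℕ} (hG : IsPGroup p G) (hIH : IH.{u} p (Nat.card G))
    (K M0 : Subgroup G) (hK : K ≠ ⊤) (hM0 : M0 ≤ K) (hidx : M0.relIndex K = p) (f : ℕ)
    (hout : ∀ k : G, k ∈ K → k ∉ M0 → (Subgroup.centralizer ({k} : Set G)).index ≤ p ^ f)
    (heq : ⁅M0, M0⁆ = ⁅K, K⁆) : Nat.card ↥⁅K, K⁆ ≤ p ^ (tri f + f) := by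
  have h := (ih_sub hG hIH K hK).2.1 (M0.subgroupOf K) f (pair_sub p K M0 hidx f hout)
    ((residual_iff K M0 hM0).mpr heq)
  rwa [card_commutator_type] at h

/-- (PT7) `P3` for a proper subgroup `K`, stated with subgroups of `G`. -/
theorem bound_sub_P3 [Finite G] {p : ℕ} (hG : IsPGroup p G) (hIH : IH.{u} p (Nat.card G))
    (K : Subgroup G) (hK : K ≠ ⊤) (b : ℕ)
    (hb : ∀ k : G, k ∈ K → (Subgroup.centralizer ({k} : Set G)).index ≤ p ^ b) :
    Nat.card ↥⁅K, K⁆ ≤ p ^ tri b := by
  have h := (ih_sub hG hIH K hK).2.2 b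
    (fun k => le_trans (index_centralizer_sub_le K k) (hb k k.2))
  rwa [card_commutator_type] at h

/-- tri identities -/
theorem two_tri (n : ℕ) : 2 * tri n = n * (n + 1) := by
  unfold tri
  have h : 2 ∣ n * (n + 1) := by
    have := Nat.even_mul_succ_self n
    exact even_iff_two_dvd.mp this
  omega

theorem tri_add (l d : ℕ) : tri l + l * d + tri d = tri (l + d) := by
  have h1 := two_tri l
  have h2 := two_tri d
  have h3 := two_tri (l + d)
  nlinarith

theorem tri_succ (n : ℕ) : tri (n + 1) = tri n + (n + 1) := by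
  have h1 := two_tri n
  have h2 := two_tri (n + 1)
  nlinarith

theorem tri_mono {a b : ℕ} (h : a ≤ b) : tri a ≤ tri b := by
  have h1 := two_tri a
  have h2 := two_tri b
  nlinarith

end Cfsg.Agent.Lib.H8.S3777PT
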