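import Mathlib
import Cfsg.Agent.Lib.H5.S3777P1Defs
import Cfsg.Agent.Lib.H8.S3777PT

/-! S3777 (helper8): piece (S4) of the `P1` step: the sub-pair `(K₀, A)`, `K₀ = A ⊔ zpowers y₀`. -/

set_option autoImplicit false

namespace Cfsg.Agent.Lib.H8.S3777S4

open Cfsg.Agent.Lib.H5.S3777 Cfsg.Agent.Lib.H8.S3777PT

universe u

variable {G : Type u} [Group G]

/-- centraliser index in `↥K` is the relative index. -/
theorem index_centralizer_sub_eq (K : Subgroup G) (k : ↥K) :
    (Subgroup.centralizer ({k} : Set ↥K)).index =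
      (Subgroup.centralizer ({(k : G)} : Set G)).relIndex K := by
  have h1 : Subgroup.centralizer ({k} : Set ↥K) =
      (Subgroup.centralizer ({(k : G)} : Set G)).subgroupOf K := by
    ext x
    simp only [Subgroup.mem_centralizer_iff, Set.mem_singleton_iff, forall_eq,
      Subgroup.mem_subgroupOf]
    constructor
    · intro h
      have := congrArg (Subtype.val) h
      simpa using this
    · intro h
      apply Subtype.ext
      simpa using h
  rw [h1]
  rfl

/-- a sub-pair on the type `↥K`, hypotheses in relative-index form. -/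
theorem pair_sub_rel (p : ℕ) (K M0 : Subgroup G) (hidx : M0.relIndex K = p) (f : ℕ)
    (hout : ∀ k : G, k ∈ K → k ∉ M0 →
      (Subgroup.centralizer ({k} : Set G)).relIndex K ≤ p ^ f) :
    IsPair p (M0.subgroupOf K) f := by
  refine ⟨hidx, ?_⟩
  intro k hk
  have hk' : (k : G) ∉ M0 := by
    intro h; exact hk (Subgroup.mem_subgroupOf.mpr h)
  rw [index_centralizer_sub_eq]
  exact hout k k.2 hk'

theorem bound_sub_P1_rel [Finite G] {p : ℕ} (hG : IsPGroup p G) (hIH : IH.{u} p (Nat.card G))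
    (K M0 : Subgroup G) (hK : K ≠ ⊤) (hM0 : M0 ≤ K) (hidx : M0.relIndex K = p) (f : ℕ)
    (hout : ∀ k : G, k ∈ K → k ∉ M0 →
      (Subgroup.centralizer ({k} : Set G)).relIndex K ≤ p ^ f)
    (hne : ⁅M0, M0⁆ ≠ ⁅K, K⁆) : Nat.card ↥⁅K, K⁆ ≤ p ^ tri f := by
  have h := (ih_sub hG hIH K hK).1 (M0.subgroupOf K) f (pair_sub_rel p K M0 hidx f hout)
    (fun h => hne ((residual_iff K M0 hM0).mp h))
  rwa [card_commutator_type] at h

theorem bound_sub_P2_rel [Finite G] {p : ℕ} (hG : IsPGroup p G) (hIH : IH.{u} p (Nat.card G))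
    (K M0 : Subgroup G) (hK : K ≠ ⊤) (hM0 : M0 ≤ K) (hidx : M0.relIndex K = p) (f : ℕ)
    (hout : ∀ k : G, k ∈ K → k ∉ M0 →
      (Subgroup.centralizer ({k} : Set G)).relIndex K ≤ p ^ f)
    (heq : ⁅M0, M0⁆ = ⁅K, K⁆) : Nat.card ↥⁅K, K⁆ ≤ p ^ (tri f + f) := by
  have h := (ih_sub hG hIH K hK).2.1 (M0.subgroupOf K) f (pair_sub_rel p K M0 hidx f hout)
    ((residual_iff K M0 hM0).mpr heq)
  rwa [card_commutator_type] at h

/-- `M ⊔ H = ⊤` when `M` has prime index and `H ≰ M`. -/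
theorem sup_eq_top_of_not_le [Finite G] {p : ℕ} [hp : Fact p.Prime] (M H : Subgroup G)
    (hM : M.index = p) (hH : ¬ H ≤ M) : M ⊔ H = ⊤ := by
  have h1 : (M ⊔ H).index ∣ M.index := Subgroup.index_dvd_of_le le_sup_left
  rw [hM] at h1
  rcases (Nat.dvd_prime hp.out).mp h1 with h | h
  · exact Subgroup.index_eq_one.mp h
  · exfalso
    have h2 := Subgroup.relIndex_mul_index (le_sup_left : M ≤ M ⊔ H)
    rw [h, hM] at h2
    have h3 : M.relIndex (M ⊔ H) = 1 := by
      have hp0 : 0 < p := hp.out.pos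
      exact Nat.eq_of_mul_eq_mul_right hp0 (by rw [h2, one_mul])
    have h4 : M ⊔ H ≤ M := Subgroup.relIndex_eq_one.mp h3
    exact hH (le_trans le_sup_right h4)

/-- if `y ∉ M`, `y ^ p ∈ M` and `y ^ i ∈ M` then `p ∣ i`. -/
theorem dvd_of_zpow_mem {p : ℕ} [hp : Fact p.Prime] (M : Subgroup G) (y : G) (hy : y ∉ M)
    (hyp : y ^ p ∈ M) (i : ℤ) (hi : y ^ i ∈ M) : (p : ℤ) ∣ i := by
  by_contra hnd
  have hcop : IsCoprime i (p : ℤ) := by
    have hp' : Prime (p : ℤ) := Nat.prime_iff_prime_int.mp hp.out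
    exact ((hp'.coprime_iff_not_dvd).mpr hnd).symm
  obtain ⟨a, b, hab⟩ := hcop
  apply hy
  have h1 : y = (y ^ i) ^ a * (y ^ (p : ℤ)) ^ b := by
    rw [← zpow_mul, ← zpow_mul, ← zpow_add]
    have : i * a + (p : ℤ) * b = 1 := by linarith
    rw [this, zpow_one]
  rw [h1]
  apply M.mul_mem (M.zpow_mem hi a)
  apply M.zpow_mem
  rw [zpow_natCast]
  exact hyp

theorem s4 : S4Stmt.{u} := by
  intro p hp G _ _ hG hIH M A lam Delta hMi hAn hAM hlam hAidx hyp hcen hcidx hcrel y0 hy0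
  haveI : A.Normal := hAn
  haveI hMn : M.Normal := normal_of_index_p hG M hMi
  have hpp : p.Prime := hp.out
  set K0 : Subgroup G := A ⊔ Subgroup.zpowers y0 with hK0
  have hAK0 : A ≤ K0 := le_sup_left
  have hy0K0 : y0 ∈ K0 := (le_sup_right : Subgroup.zpowers y0 ≤ K0) (Subgroup.mem_zpowers y0)
  -- K0 ⊔ M = ⊤
  have hsup : K0 ⊔ M = ⊤ := by
    rw [sup_comm]
    apply sup_eq_top_of_not_le M K0 hMi
    intro h; exact hy0 (h hy0K0)
  -- K0 ⊓ M = A
  have hinf : K0 ⊓ M = A := by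
    apply le_antisymm
    · intro x hx
      obtain ⟨hx1, hx2⟩ := hx
      have hx1' : x ∈ ((A ⊔ Subgroup.zpowers y0 : Subgroup G) : Set G) := hx1
      rw [Subgroup.normal_mul] at hx1'
      obtain ⟨a, ha, z, hz, rfl⟩ := Set.mem_mul.mp hx1'
      obtain ⟨i, rfl⟩ := Subgroup.mem_zpowers_iff.mp hz
      have hzi : y0 ^ i ∈ M := by
        have : y0 ^ i = a⁻¹ * (a * y0 ^ i) := by group
        rw [this]
        exact M.mul_mem (M.inv_mem (hAM ha)) hx2
      obtain ⟨j, rfl⟩ := dvd_of_zpow_mem M y0 hy0 (hAM (hyp y0 hy0)) i hzi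
      apply A.mul_mem ha
      rw [zpow_mul, zpow_natCast]
      exact A.zpow_mem (hyp y0 hy0) j
    · exact le_inf hAK0 hAM
  -- A.relIndex K0 = p
  have hidx : A.relIndex K0 = p := by
    rw [← hinf, Subgroup.inf_relIndex_left]
    have h1 : M.relIndex (K0 ⊔ M) = M.relIndex K0 := Subgroup.relIndex_sup_right K0 M
    rw [← h1, hsup, Subgroup.relIndex_top_right, hMi]
  -- K0.index = p ^ lam
  have hK0idx : K0.index = p ^ lam := by
    have h1 := Subgroup.relIndex_mul_index hAK0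
    have h2 := Subgroup.relIndex_mul_index hAM
    rw [hidx] at h1
    rw [hAidx, hMi] at h2
    have h3 : p * K0.index = p * p ^ lam := by rw [h1, ← h2, mul_comm]
    exact Nat.eq_of_mul_eq_mul_left hpp.pos h3
  have hK0top : K0 ≠ ⊤ := by
    intro h
    rw [h, Subgroup.index_top] at hK0idx
    have : 1 < p ^ lam := Nat.one_lt_pow (by omega) hpp.one_lt
    omega
  -- outside elements
  have hout : ∀ k : G, k ∈ K0 → k ∉ A →
      (Subgroup.centralizer ({k} : Set G)).relIndex K0 ≤ p ^ Delta := by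
    intro k hk hkA
    have hkM : k ∉ M := by
      intro h
      apply hkA
      rw [← hinf]; exact ⟨hk, h⟩
    have hC : Subgroup.centralizer ({k} : Set G) ≤ K0 := by
      refine le_trans (hcen k hkM) (sup_le hAK0 ?_)
      rw [Subgroup.zpowers_le]; exact hk
    have h1 := Subgroup.relIndex_mul_index hC
    rw [hK0idx, hcidx k hkM, mul_comm] at h1
    have h2 : (Subgroup.centralizer ({k} : Set G)).relIndex K0 =
        (Subgroup.centralizer ({k} : Set G)).relIndex A :=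
      Nat.eq_of_mul_eq_mul_left (Nat.pow_pos hpp.pos) h1
    rw [h2]
    exact hcrel k hkM
  have hne_case : ⁅K0, K0⁆ ≠ ⁅A, A⁆ → Nat.card ↥⁅K0, K0⁆ ≤ p ^ tri Delta := by
    intro hne
    exact bound_sub_P1_rel hG hIH K0 A hK0top hAK0 hidx Delta hout (fun h => hne h.symm)
  refine ⟨?_, hne_case⟩
  by_cases heq : ⁅A, A⁆ = ⁅K0, K0⁆
  · exact bound_sub_P2_rel hG hIH K0 A hK0top hAK0 hidx Delta hout heq
  · have h := hne_case (fun h => heq h.symm)
    exact le_trans h (Nat.pow_le_pow_right hpp.pos (Nat.le_add_right _ _))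

end Cfsg.Agent.Lib.H8.S3777S4
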