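import Mathlib

set_option autoImplicit false

namespace Cfsg.Agent.Lib.H8.S3797E

/-- every element of `Multiplicative (ZMod n)` is killed by `n`. -/
theorem zmod_pow_card (n : ℕ) (z : Multiplicative (ZMod n)) : z ^ n = 1 := by
  have : (n : ℕ) • (Multiplicative.toAdd z) = 0 := by
    rw [nsmul_eq_mul]; simp
  change Multiplicative.ofAdd (n • Multiplicative.toAdd z) = 1
  rw [this]; rfl

theorem zmod_pow_of_dvd (n k : ℕ) (h : n ∣ k) (z : Multiplicative (ZMod n)) : z ^ k = 1 := by
  obtain ⟨c, rfl⟩ := h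
  rw [pow_mul, zmod_pow_card, one_pow]

/-- a finite abelian 2-group whose automorphism group is transitive on involutions is
homocyclic. -/
theorem homocyclic_of_transitive {S : Type*} [CommGroup S] [Finite S] (hS : IsPGroup 2 S)
    (htr : ∀ x y : S, x ≠ 1 → x ^ 2 = 1 → y ≠ 1 → y ^ 2 = 1 → ∃ a : MulAut S, a x = y) :
    ∃ m r : ℕ, Nonempty (S ≃* (Fin r → Multiplicative (ZMod (2 ^ m)))) := by
  classical
  obtain ⟨ι, hι, n, hn, ⟨e⟩⟩ := CommGroup.equiv_prod_multiplicative_zmod_of_finite S
  -- each n i is a power of two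
  obtain ⟨k, hk⟩ := IsPGroup.iff_card.mp hS
  have hcard : Nat.card S = ∏ i, n i := by
    rw [Nat.card_congr e.toEquiv, Nat.card_pi]
    refine Finset.prod_congr rfl (fun i _ => ?_)
    have : NeZero (n i) := ⟨by have := hn i; omega⟩
    rw [Nat.card_eq_fintype_card]
    exact (Fintype.card_congr Multiplicative.toAdd).trans (ZMod.card (n i))
  have hpow : ∀ i, ∃ f : ℕ, n i = 2 ^ f := by
    intro i
    have hdvd : n i ∣ 2 ^ k := by
      rw [← hk, hcard]
      exact Finset.dvd_prod_of_mem n (Finset.mem_univ i)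
    obtain ⟨f, _, hf⟩ := (Nat.dvd_prime_pow Nat.prime_two).mp hdvd
    exact ⟨f, hf⟩
  choose f hf using hpow
  have hf1 : ∀ i, 1 ≤ f i := by
    intro i
    by_contra h
    have h0 : f i = 0 := by omega
    have := hn i
    rw [hf i, h0] at this
    simp at this
  set m := Finset.univ.sup f with hm
  -- generators and involutions
  let g : ∀ i : ι, ((j : ι) → Multiplicative (ZMod (n j))) :=
    fun i => Pi.mulSingle i (Multiplicative.ofAdd (1 : ZMod (n i)))
  have hg_card : ∀ i, (g i) ^ (n i) = 1 := by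
    intro i
    funext j
    rw [Pi.pow_apply, Pi.one_apply]
    by_cases hji : j = i
    · subst hji
      simp only [g, Pi.mulSingle_eq_same]
      exact zmod_pow_card _ _
    · simp only [g, Pi.mulSingle_eq_of_ne hji, one_pow]
  have hδ_ne : ∀ i, ((g i) ^ (2 ^ (f i - 1))) i ≠ 1 := by
    intro i
    rw [Pi.pow_apply]
    simp only [g, Pi.mulSingle_eq_same]
    intro h
    have h2 : ((2 ^ (f i - 1) : ℕ) : ZMod (n i)) = 0 := by
      have h3 : Multiplicative.ofAdd ((2 ^ (f i - 1) : ℕ) • (1 : ZMod (n i))) = 1 := h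
      have h4 : ((2 ^ (f i - 1) : ℕ) • (1 : ZMod (n i))) = 0 := h3
      rwa [nsmul_eq_mul, mul_one] at h4
    rw [ZMod.natCast_eq_zero_iff] at h2
    have hlt : 2 ^ (f i - 1) < n i := by
      rw [hf i]
      exact Nat.pow_lt_pow_right (by norm_num) (by have := hf1 i; omega)
    exact absurd (Nat.le_of_dvd (Nat.pow_pos (by norm_num)) h2) (by omega)
  have hδ_sq : ∀ i, ((g i) ^ (2 ^ (f i - 1))) ^ 2 = 1 := by
    intro i
    rw [← pow_mul]
    have : 2 ^ (f i - 1) * 2 = n i := by
      rw [hf i, ← pow_succ]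
      congr 1
      have := hf1 i; omega
    rw [this, hg_card]
  -- all exponents are equal to m
  have hall : ∀ j, f j = m := by
    intro j
    by_contra hne
    have hle : f j ≤ m := Finset.le_sup (f := f) (Finset.mem_univ j)
    have hlt : f j < m := lt_of_le_of_ne hle hne
    have hne' : (Finset.univ : Finset ι).Nonempty := ⟨j, Finset.mem_univ j⟩
    obtain ⟨i0, _, hi0⟩ := Finset.exists_mem_eq_sup Finset.univ hne' f
    have hi0m : f i0 = m := hi0.symm
    set x0 : S := e.symm ((g i0) ^ (2 ^ (f i0 - 1))) with hx0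
    set xj : S := e.symm ((g j) ^ (2 ^ (f j - 1))) with hxj
    have hx0ne : x0 ≠ 1 := by
      intro h
      have : (g i0) ^ (2 ^ (f i0 - 1)) = 1 := by
        have := congrArg e h
        simpa [hx0] using this
      exact hδ_ne i0 (by rw [this]; rfl)
    have hxjne : xj ≠ 1 := by
      intro h
      have : (g j) ^ (2 ^ (f j - 1)) = 1 := by
        have := congrArg e h
        simpa [hxj] using this
      exact hδ_ne j (by rw [this]; rfl)
    have hx0sq : x0 ^ 2 = 1 := by
      rw [hx0, ← map_pow, hδ_sq, map_one]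
    have hxjsq : xj ^ 2 = 1 := by
      rw [hxj, ← map_pow, hδ_sq, map_one]
    obtain ⟨a, ha⟩ := htr x0 xj hx0ne hx0sq hxjne hxjsq
    -- x0 is a 2^(m-1)-th power
    have hx0pow : x0 = (e.symm (g i0)) ^ (2 ^ (m - 1)) := by
      rw [hx0, map_pow, hi0m]
    have hw : (e (a (e.symm (g i0)))) ^ (2 ^ (m - 1)) = (g j) ^ (2 ^ (f j - 1)) := by
      rw [← map_pow, ← map_pow, ← hx0pow, ha, hxj, MulEquiv.apply_symm_apply]
    have hcoord := congrFun hw j
    rw [Pi.pow_apply] at hcoord
    have hkill : ((e (a (e.symm (g i0)))) j) ^ (2 ^ (m - 1)) = 1 := by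
      apply zmod_pow_of_dvd
      rw [hf j]
      exact pow_dvd_pow 2 (by omega)
    rw [hkill] at hcoord
    exact hδ_ne j hcoord.symm
  have hn' : n = fun _ => 2 ^ m := by
    funext i
    rw [hf i, hall i]
  subst hn'
  refine ⟨m, Fintype.card ι, ⟨e.trans ?_⟩⟩
  exact MulEquiv.arrowCongr (Fintype.equivFin ι) (MulEquiv.refl _)

/-- the same for a group with a commutativity hypothesis (no `CommGroup` instance needed). -/
theorem homocyclic_of_transitive' {S : Type*} [Group S] [Finite S]
    (hc : ∀ a b : S, a * b = b * a) (hS : IsPGroup 2 S)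
    (htr : ∀ x y : S, x ≠ 1 → x ^ 2 = 1 → y ≠ 1 → y ^ 2 = 1 → ∃ a : MulAut S, a x = y) :
    ∃ m r : ℕ, Nonempty (S ≃* (Fin r → Multiplicative (ZMod (2 ^ m)))) := by
  letI : CommGroup S := { (inferInstance : Group S) with mul_comm := hc }
  exact homocyclic_of_transitive hS htr

/-- the shape of the second conclusion of S3797 in the abelian case: `S` a Sylow 2-subgroup,
`Y` any set of automorphisms transitive on the involutions of `S`. -/
theorem sylow_homocyclic {G : Type*} [Group G] [Finite G] (S : Sylow 2 G)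
    (hc : IsMulCommutative (S : Subgroup G))
    (htr : ∀ x y : ↥(S : Subgroup G), x ≠ 1 → x ^ 2 = 1 → y ≠ 1 → y ^ 2 = 1 →
      ∃ a : MulAut ↥(S : Subgroup G), a x = y) :
    ∃ m r : ℕ, Nonempty (↥(S : Subgroup G) ≃* (Fin r → Multiplicative (ZMod (2 ^ m)))) :=
  homocyclic_of_transitive' (fun a b => (isMulCommutative_iff.mp hc) a b) S.isPGroup' htr

end Cfsg.Agent.Lib.H8.S3797E
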