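import Cfsg.Agent.Lib.H19.S3797Defs
import Cfsg.Agent.Lib.H8.S3797E

set_option autoImplicit false

namespace Cfsg.Agent.Lib.H8.S3797Homo

universe u

/-- (HOMO) in the exact shape of the cut. -/
theorem homo : Cfsg.Agent.Lib.H19.S3797.HomoStmt.{u} := by
  intro A _ _ hA hc hY
  obtain ⟨Y, hY⟩ := hY
  refine Cfsg.Agent.Lib.H8.S3797E.homocyclic_of_transitive' hc hA ?_
  intro x y hx hx2 hy hy2
  obtain ⟨a, _, ha⟩ := hY x y hx hx2 hy hy2
  exact ⟨a, ha⟩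

example : Cfsg.Agent.Lib.H19.S3797.HomoStmt.{0} := homo

end Cfsg.Agent.Lib.H8.S3797Homo
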