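import Mathlib

set_option autoImplicit false

namespace Cfsg.Agent.Lib.H8.S3797Idx2A

/-- ring automorphisms of a finite field commute. -/
theorem ringAut_comm {F : Type*} [Field F] [Finite F] (σ τ : F ≃+* F) (x : F) :
    σ (τ x) = τ (σ x) := by
  classical
  haveI := Fintype.ofFinite F
  obtain ⟨ζ, hζ⟩ := IsCyclic.exists_generator (α := Fˣ)
  have hgen : ∀ u : Fˣ, ∃ k : ℕ, ζ ^ k = u := fun u => by
    have := hζ u
    rwa [← mem_powers_iff_mem_zpowers, Submonoid.mem_powers_iff] at this
  have hval : ∀ y : F, y ≠ 0 → ∃ k : ℕ, y = (ζ : F) ^ k := by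
    intro y hy
    obtain ⟨k, hk⟩ := hgen (Units.mk0 y hy)
    refine ⟨k, ?_⟩
    have := congrArg Units.val hk
    simpa using this.symm
  have hζ0 : (ζ : F) ≠ 0 := ζ.ne_zero
  obtain ⟨i, hi⟩ := hval (σ (ζ : F)) (by simp)
  obtain ⟨j, hj⟩ := hval (τ (ζ : F)) (by simp)
  by_cases hx : x = 0
  · simp [hx]
  · obtain ⟨k, hk⟩ := hval x hx
    have e1 : σ (τ ((ζ : F) ^ k)) = (ζ : F) ^ (i * (j * k)) := by
      rw [map_pow τ, hj, ← pow_mul, map_pow σ, hi, ← pow_mul]
    have e2 : τ (σ ((ζ : F) ^ k)) = (ζ : F) ^ (j * (i * k)) := by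
      rw [map_pow σ, hi, ← pow_mul, map_pow τ, hj, ← pow_mul]
    rw [hk, e1, e2]
    congr 1
    ring

/-- a finite commutative group of even order has a subgroup of index 2. -/
theorem exists_index_two_of_comm {A : Type*} [CommGroup A] [Finite A]
    (h : Even (Nat.card A)) : ∃ B : Subgroup A, B.index = 2 := by
  classical
  obtain ⟨ι, hι, n, hn, ⟨e⟩⟩ := CommGroup.equiv_prod_multiplicative_zmod_of_finite A
  have hcard : Nat.card A = ∏ i, n i := by
    rw [Nat.card_congr e.toEquiv, Nat.card_pi]
    refine Finset.prod_congr rfl (fun i _ => ?_)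
    have : NeZero (n i) := ⟨by have := hn i; omega⟩
    rw [Nat.card_eq_fintype_card]
    exact (Fintype.card_congr Multiplicative.toAdd).trans (ZMod.card (n i))
  have h2 : 2 ∣ ∏ i, n i := by rw [← hcard]; exact even_iff_two_dvd.mp h
  obtain ⟨i, _, hi⟩ := (Prime.dvd_finsetProd_iff Nat.prime_two.prime n).mp h2
  let ψ : A →* Multiplicative (ZMod 2) :=
    (AddMonoidHom.toMultiplicative (ZMod.castHom hi (ZMod 2)).toAddMonoidHom).comp
      ((Pi.evalMonoidHom (fun j => Multiplicative (ZMod (n j))) i).comp e.toMonoidHom)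
  have hsurj : Function.Surjective ψ := by
    intro t
    obtain ⟨z, hz⟩ := ZMod.castHom_surjective hi (Multiplicative.toAdd t)
    refine ⟨e.symm (Pi.mulSingle i (Multiplicative.ofAdd z)), ?_⟩
    simp only [ψ, MonoidHom.coe_comp, Function.comp_apply, MulEquiv.coe_toMonoidHom,
      MulEquiv.apply_symm_apply, Pi.evalMonoidHom_apply, Pi.mulSingle_eq_same]
    change Multiplicative.ofAdd ((ZMod.castHom hi (ZMod 2)) z) = t
    rw [hz]; rfl
  refine ⟨ψ.ker, ?_⟩
  rw [Subgroup.index_ker, MonoidHom.range_eq_top.mpr hsurj, Subgroup.card_top,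
    Nat.card_eq_fintype_card]
  exact (Fintype.card_congr Multiplicative.toAdd).trans (ZMod.card 2)

/-- a hom with odd kernel into a group whose relevant elements commute, from a group of even
order: normal subgroup of index 2. -/
theorem exists_normal_index_two {H : Type*} [Group H] [Finite H] {A : Type*} [Group A]
    (φ : H →* A) (hcomm : ∀ a b : A, a ∈ φ.range → b ∈ φ.range → a * b = b * a)
    (hker : Odd (Nat.card φ.ker)) (heven : Even (Nat.card H)) :
    ∃ N : Subgroup H, N.Normal ∧ N.index = 2 := by
  classical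
  haveI : Finite φ.range := Finite.of_surjective φ.rangeRestrict φ.rangeRestrict_surjective
  letI : CommGroup φ.range :=
    { (inferInstance : Group φ.range) with
      mul_comm := fun a b => Subtype.ext (hcomm a b a.2 b.2) }
  have hrange : Even (Nat.card φ.range) := by
    have h1 : Nat.card φ.ker * Nat.card φ.range = Nat.card H := by
      rw [← Subgroup.index_ker, mul_comm]; exact φ.ker.index_mul_card
    rw [← h1] at heven
    rcases Nat.even_mul.mp heven with h | h
    · exact absurd h (Nat.not_even_iff_odd.mpr hker)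
    · exact h
  obtain ⟨B, hB⟩ := exists_index_two_of_comm hrange
  refine ⟨B.comap φ.rangeRestrict, inferInstance, ?_⟩
  rw [Subgroup.index_comap_of_surjective _ φ.rangeRestrict_surjective, hB]

/-- a faithful action of a finite group `H` of even order on (a copy of) the additive group of a
finite field of characteristic 2 by maps `x ↦ a * σ x`: `H` has a normal subgroup of index 2. -/
theorem exists_normal_index_two_of_semilinear {H : Type*} [Group H] [Finite H]
    {V : Type*} [AddCommGroup V] (hV2 : ∀ v : V, v + v = 0)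
    {F : Type*} [Field F] [Finite F] (e : V ≃+ F)
    (act : H → V → V) (act_one : ∀ v, act 1 v = v)
    (act_mul : ∀ g h v, act (g * h) v = act g (act h v))
    (faith : ∀ g, (∀ v, act g v = v) → g = 1)
    (hsemi : ∀ g : H, ∃ (a : F) (σ : F ≃+* F), ∀ v : V, e (act g v) = a * σ (e v))
    (heven : Even (Nat.card H)) : ∃ N : Subgroup H, N.Normal ∧ N.index = 2 := by
  classical
  -- characteristic 2
  have h2 : (1 : F) + 1 = 0 := by
    have := hV2 (e.symm 1)
    have h := congrArg e this
    simpa using h
  have hneg : ∀ x : F, x + x = 0 := fun x => by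
    have : x + x = x * (1 + 1) := by ring
    rw [this, h2, mul_zero]
  choose a σ hσ using hsemi
  have ha0 : ∀ g, a g ≠ 0 := by
    intro g h0
    have h1 := hσ g (act g⁻¹ (e.symm 1))
    rw [← act_mul, mul_inv_cancel, act_one, h0, zero_mul] at h1
    simp at h1
  -- uniqueness
  have huniq : ∀ (b b' : F) (τ τ' : F ≃+* F), b ≠ 0 →
      (∀ v : V, b * τ (e v) = b' * τ' (e v)) → b = b' ∧ τ = τ' := by
    intro b b' τ τ' hb h
    have hbb : b = b' := by
      have := h (e.symm 1)
      simpa using this
    refine ⟨hbb, ?_⟩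
    ext x
    have := h (e.symm x)
    rw [← hbb] at this
    simpa using mul_left_cancel₀ hb this
  have hmul : ∀ g h, a (g * h) = a g * σ g (a h) ∧ σ (g * h) = σ g * σ h := by
    intro g h
    apply huniq _ _ _ _ (ha0 (g * h))
    intro v
    rw [← hσ (g * h) v, act_mul, hσ g, hσ h, map_mul, RingAut.mul_apply, mul_assoc]
  have hone : a 1 = 1 ∧ σ 1 = 1 := by
    apply huniq _ _ _ _ (ha0 1)
    intro v
    rw [← hσ 1 v, act_one]
    simp
  let φ : H →* RingAut F :=
    { toFun := σ
      map_one' := hone.2
      map_mul' := fun g h => (hmul g h).2 }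
  have hker : Odd (Nat.card φ.ker) := by
    rw [← Nat.not_even_iff_odd]
    intro hev
    haveI : Fact (Nat.Prime 2) := ⟨Nat.prime_two⟩
    obtain ⟨x, hx⟩ := exists_prime_orderOf_dvd_card' (G := φ.ker) 2 (even_iff_two_dvd.mp hev)
    have hxk : σ (x : H) = 1 := x.2
    have hx1 : (x : H) ≠ 1 := by
      intro h
      have : x = 1 := Subtype.ext h
      rw [this, orderOf_one] at hx
      omega
    have hx2 : (x : H) * (x : H) = 1 := by
      have : x ^ 2 = 1 := by rw [← hx]; exact pow_orderOf_eq_one x
      have h := congrArg Subtype.val this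
      simpa [pow_two] using h
    have hsq : a (x : H) * a (x : H) = 1 := by
      have h := (hmul (x : H) (x : H)).1
      rw [hx2, hone.1, hxk] at h
      simpa using h.symm
    have ha1 : a (x : H) = 1 := by
      have h0 : (a (x : H) + 1) * (a (x : H) + 1) = 0 := by
        have : (a (x : H) + 1) * (a (x : H) + 1)
            = a (x : H) * a (x : H) + (a (x : H) + a (x : H)) + 1 := by ring
        rw [this, hsq, hneg, add_zero, h2]
      have h1 : a (x : H) + 1 = 0 := by
        rcases mul_self_eq_zero.mp h0 with h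
        exact h
      have h3 : a (x : H) = a (x : H) + (1 + 1) := by rw [h2, add_zero]
      rw [h3, ← add_assoc, h1, zero_add]
    apply hx1
    apply faith
    intro v
    have h := hσ (x : H) v
    rw [ha1, hxk] at h
    apply e.injective
    simpa using h
  refine exists_normal_index_two φ ?_ hker heven
  rintro _ _ ⟨g, rfl⟩ ⟨h, rfl⟩
  ext x
  exact ringAut_comm (σ g) (σ h) x

end Cfsg.Agent.Lib.H8.S3797Idx2A
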