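import Cfsg.Agent.Lib.H19.S3797Defs
import Cfsg.Agent.S3360
import Cfsg.Agent.Lib.H8.S3797Idx2A

set_option autoImplicit false

namespace Cfsg.Agent.Lib.H8.S3797Idx2

universe u

open Cfsg.Agent.Lib.H19.S3797

theorem two_pow_not_exc (k : ℕ) :
    (2 : ℕ) ^ k ∉ ({9, 25, 49, 121, 529, 81} : Set ℕ) := by
  intro h
  simp only [Set.mem_insert_iff, Set.mem_singleton_iff] at h
  rcases k with _ | k
  · simp at h
  · have h2 : 2 ∣ 2 ^ (k + 1) := dvd_pow_self 2 (by omega)
    omega

/-- (IDX2) in the exact shape of the cut. -/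
theorem idx2 : Idx2Stmt.{u} := by
  intro G _ _ hsol Q V hF hev
  classical
  haveI : V.Normal := hF.Vn
  haveI : Group.IsSolvable G := hsol
  haveI : Fact (Nat.Prime 2) := ⟨Nat.prime_two⟩
  have hsq : ∀ v : V, v * v = 1 := fun v => by
    have h := (hF.Vmem v).mp v.2
    exact Subtype.ext (by simpa [pow_two] using h)
  have hinv : ∀ a : V, a⁻¹ = a := fun a => inv_eq_of_mul_eq_one_left (hsq a)
  have hcommV : ∀ v w : V, v * w = w * v := by
    intro v w
    calc v * w = (v * w)⁻¹ := (hinv _).symm
      _ = w⁻¹ * v⁻¹ := mul_inv_rev _ _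
      _ = w * v := by rw [hinv, hinv]
  letI : CommGroup V := { (inferInstance : Group V) with mul_comm := hcommV }
  have hV2 : ∀ x : Additive V, x + x = 0 := fun x =>
    congrArg Additive.ofMul (hsq (Additive.toMul x))
  letI : Module (ZMod 2) (Additive V) := AddCommGroup.zmodModule (n := 2) (fun x => by
    rw [two_nsmul]; exact hV2 x)
  haveI : Nontrivial V := by
    obtain ⟨x, y, hxy, _, hx2, _, hy2⟩ := hF.four
    exact ⟨⟨⟨x, (hF.Vmem x).mpr hx2⟩, ⟨y, (hF.Vmem y).mpr hy2⟩,
      fun h => hxy (congrArg Subtype.val h)⟩⟩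
  let c : G →* MulAut V := MulAut.conjNormal
  haveI : Finite c.range := Finite.of_surjective c.rangeRestrict c.rangeRestrict_surjective
  have hsolH : Group.IsSolvable c.range :=
    Group.isSolvable_of_surjective (f := c.rangeRestrict) c.rangeRestrict_surjective
  let toLin : MulAut V →* (Additive V ≃ₗ[ZMod 2] Additive V) :=
    { toFun := fun f =>
        (MulEquiv.toAdditive f).toLinearEquiv (fun a x => ZMod.map_smul (MulEquiv.toAdditive f) a x)
      map_one' := by ext x; rfl
      map_mul' := fun f g => by ext x; rfl }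
  have htoLin : ∀ (f : MulAut V) (x : Additive V),
      toLin f x = Additive.ofMul (f (Additive.toMul x)) := fun f x => rfl
  let ρ : c.range →* (Additive V ≃ₗ[ZMod 2] Additive V) := toLin.comp c.range.subtype
  have hρapp : ∀ (h : c.range) (x : Additive V),
      ρ h x = Additive.ofMul ((h : MulAut V) (Additive.toMul x)) := fun h x => rfl
  have hρ : Function.Injective ρ := by
    intro h h' hh
    apply Subtype.ext
    ext v
    have := congrArg (fun L : Additive V ≃ₗ[ZMod 2] Additive V => L (Additive.ofMul v)) hh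
    simp only [hρapp] at this
    exact congrArg Subtype.val (Additive.ofMul.injective this)
  have htrans : ∀ v w : Additive V, v ≠ 0 → w ≠ 0 → ∃ g : c.range, ρ g v = w := by
    intro v w hv hw
    have hv1 : ((Additive.toMul v : V) : G) ≠ 1 := fun h => hv (by
      have : Additive.toMul v = 1 := Subtype.ext h
      exact congrArg Additive.ofMul this)
    have hw1 : ((Additive.toMul w : V) : G) ≠ 1 := fun h => hw (by
      have : Additive.toMul w = 1 := Subtype.ext h
      exact congrArg Additive.ofMul this)
    obtain ⟨g, hg⟩ := hF.trans _ _ (Additive.toMul v).2 (Additive.toMul w).2 hv1 hw1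
    refine ⟨⟨c g, MonoidHom.mem_range.mpr ⟨g, rfl⟩⟩, ?_⟩
    rw [hρapp]
    have h1 : (c g) (Additive.toMul v) = Additive.toMul w := by
      apply Subtype.ext
      rw [← hg]
      exact MulAut.conjNormal_apply g _
    change Additive.ofMul ((c g) (Additive.toMul v)) = w
    rw [h1]
    rfl
  have hevenH : Even (Nat.card c.range) := by
    have hker : c.ker = Subgroup.centralizer (V : Set G) := by
      ext g
      rw [MonoidHom.mem_ker, Subgroup.mem_centralizer_iff]
      constructor
      · intro h v hv
        have h1 : (c g) ⟨v, hv⟩ = ⟨v, hv⟩ := by rw [h]; rfl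
        have h2 := congrArg Subtype.val h1
        rw [MulAut.conjNormal_apply] at h2
        change g * v * g⁻¹ = v at h2
        calc v * g = g * v * g⁻¹ * g := by rw [h2]
          _ = g * v := by group
      · intro h
        ext v
        rw [MulAut.conjNormal_apply]
        have := h v v.2
        change g * (v : G) * g⁻¹ = v
        rw [← this]; group
    rw [← Subgroup.index_ker, hker]
    exact hev
  rcases Cfsg.Agent.S3360.result 2 hsolH ρ hρ htrans with ⟨F, _, _, e, hsemi⟩ | hcard
  · obtain ⟨N, hN, hN2⟩ :=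
      Cfsg.Agent.Lib.H8.S3797Idx2A.exists_normal_index_two_of_semilinear (H := c.range)
        hV2 e (fun h v => ρ h v) (fun v => by simp) (fun g h v => by simp)
        (fun g hg => hρ (by ext v; simpa using hg v)) hsemi hevenH
    haveI := hN
    refine ⟨N.comap c.rangeRestrict, inferInstance, ?_⟩
    rw [Subgroup.index_comap_of_surjective _ c.rangeRestrict_surjective, hN2]
  · exfalso
    have hV2g : IsPGroup 2 V := hF.Q2.to_le hF.VQ
    obtain ⟨k, hk⟩ := IsPGroup.iff_card.mp hV2g
    have : Nat.card (Additive V) = 2 ^ k := by rw [← hk]; exact Nat.card_congr Additive.toMul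
    rw [this] at hcard
    exact two_pow_not_exc k hcard

example : Idx2Stmt.{0} := idx2

end Cfsg.Agent.Lib.H8.S3797Idx2
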