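import Cfsg.Agent.Lib.H25.S3797MLDefs
import Cfsg.Agent.Lib.H1.CoprimeAction

set_option autoImplicit false

namespace Cfsg.Agent.Lib.H8.S3797M0B

universe u

open Cfsg.Agent.Lib.H25.S3797ML

variable {G : Type u} [Group G]

/-- the kernel of the action on `K/V`, as a subgroup -/
def Dsub (V K : Subgroup G) (hV : V.Normal) (hK : K.Normal) : Subgroup G where
  carrier := {x | TrivOn V K x}
  one_mem' := by
    intro k _
    have : (1 : G) * k * 1⁻¹ * k⁻¹ = 1 := by group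
    rw [this]; exact V.one_mem
  mul_mem' := by
    intro x y hx hy k hk
    have : x * y * k * (x * y)⁻¹ * k⁻¹ = x * (y * k * y⁻¹ * k⁻¹) * x⁻¹ * (x * k * x⁻¹ * k⁻¹) := by
      group
    rw [this]
    exact V.mul_mem (hV.conj_mem _ (hy k hk) x) (hx k hk)
  inv_mem' := by
    intro x hx k hk
    have hk' : x⁻¹ * k * x ∈ K := by
      have := hK.conj_mem k hk x⁻¹
      simpa using this
    have h1 := hx _ hk'
    have : x⁻¹ * k * x⁻¹⁻¹ * k⁻¹ = (x * (x⁻¹ * k * x) * x⁻¹ * (x⁻¹ * k * x)⁻¹)⁻¹ := by group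
    rw [this]
    exact V.inv_mem h1

theorem mem_Dsub {V K : Subgroup G} (hV : V.Normal) (hK : K.Normal) (x : G) :
    x ∈ Dsub V K hV hK ↔ TrivOn V K x := Iff.rfl

theorem Dsub_normal (V K : Subgroup G) (hV : V.Normal) (hK : K.Normal) :
    (Dsub V K hV hK).Normal := by
  constructor
  intro x hx g k hk
  have hk' : g⁻¹ * k * g ∈ K := by
    have := hK.conj_mem k hk g⁻¹
    simpa using this
  have h1 := hx _ hk'
  have : g * x * g⁻¹ * k * (g * x * g⁻¹)⁻¹ * k⁻¹
      = g * (x * (g⁻¹ * k * g) * x⁻¹ * (g⁻¹ * k * g)⁻¹) * g⁻¹ := by group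
  rw [this]
  exact hV.conj_mem _ h1 g

/-- (M0B) in the exact shape of the interface. -/
theorem m0b : M0BStmt.{u} := by
  intro hcore G _ _ V K S E hV hK hVK hVmem hVcen hKsq hS2 hSV hEodd hES hEtr hfix
  classical
  set D := Dsub V K hV hK with hD
  haveI hDn : D.Normal := Dsub_normal V K hV hK
  -- reduce to S ≤ D
  suffices hSD : S ≤ D by
    intro s hs k hk
    exact hSD hs k hk
  by_contra hnot
  -- the quotient S / (D ∩ S)
  haveI : Finite S := inferInstance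
  have hproper : D.subgroupOf S ≠ ⊤ := by
    intro h
    apply hnot
    intro s hs
    have : (⟨s, hs⟩ : S) ∈ D.subgroupOf S := by rw [h]; exact Subgroup.mem_top _
    exact this
  haveI : Nontrivial (S ⧸ D.subgroupOf S) := by
    rw [QuotientGroup.nontrivial_iff]
    exact hproper
  have hQ2 : IsPGroup 2 (S ⧸ D.subgroupOf S) := hS2.to_quotient (D.subgroupOf S)
  haveI : Fact (Nat.Prime 2) := ⟨Nat.prime_two⟩
  haveI : Nontrivial (Subgroup.center (S ⧸ D.subgroupOf S)) := hQ2.center_nontrivial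
  have hZ2 : IsPGroup 2 (Subgroup.center (S ⧸ D.subgroupOf S)) :=
    hQ2.to_subgroup _
  obtain ⟨n, hn⟩ := IsPGroup.iff_card.mp hZ2
  have hn0 : n ≠ 0 := by
    intro h0
    rw [h0, pow_zero] at hn
    have := Finite.one_lt_card (α := Subgroup.center (S ⧸ D.subgroupOf S))
    omega
  have h2dvd : 2 ∣ Nat.card (Subgroup.center (S ⧸ D.subgroupOf S)) := by
    rw [hn]; exact dvd_pow_self 2 hn0
  obtain ⟨ζ, hζ⟩ := exists_prime_orderOf_dvd_card' (G := Subgroup.center (S ⧸ D.subgroupOf S)) 2 h2dvd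
  obtain ⟨z, hz⟩ := QuotientGroup.mk_surjective (ζ : S ⧸ D.subgroupOf S)
  have hζ1 : (ζ : S ⧸ D.subgroupOf S) ≠ 1 := by
    intro h
    have : ζ = 1 := Subtype.ext h
    rw [this, orderOf_one] at hζ
    omega
  have hζ2 : (ζ : S ⧸ D.subgroupOf S) ^ 2 = 1 := by
    have : ζ ^ 2 = 1 := by rw [← hζ]; exact pow_orderOf_eq_one ζ
    have h := congrArg Subtype.val this
    simpa using h
  -- properties of z
  have hzD : (z : G) ∉ D := by
    intro h
    apply hζ1
    rw [← hz]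
    exact (QuotientGroup.eq_one_iff z).mpr h
  have hz2 : (z : G) ^ 2 ∈ D := by
    have h1 : ((z ^ 2 : S) : S ⧸ D.subgroupOf S) = 1 := by
      rw [QuotientGroup.mk_pow, hz, hζ2]
    have h2 := (QuotientGroup.eq_one_iff (z ^ 2)).mp h1
    simpa [Subgroup.mem_subgroupOf] using h2
  have hzc : ∀ t ∈ S, (z : G) * t * (z : G)⁻¹ * t⁻¹ ∈ D := by
    intro t ht
    have hcomm : (ζ : S ⧸ D.subgroupOf S) * ((⟨t, ht⟩ : S) : S ⧸ D.subgroupOf S)
        = ((⟨t, ht⟩ : S) : S ⧸ D.subgroupOf S) * ζ :=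
      (Subgroup.mem_center_iff.mp ζ.2 _).symm
    have h1 : ((z * ⟨t, ht⟩ * z⁻¹ * (⟨t, ht⟩ : S)⁻¹ : S) : S ⧸ D.subgroupOf S) = 1 := by
      rw [QuotientGroup.mk_mul, QuotientGroup.mk_mul, QuotientGroup.mk_mul, QuotientGroup.mk_inv,
        QuotientGroup.mk_inv, hz, hcomm]
      group
    have h2 := (QuotientGroup.eq_one_iff _).mp h1
    simpa [Subgroup.mem_subgroupOf] using h2
  -- the set T
  let T : Set G := {s | s ∈ S ∧ s ^ 2 ∈ D ∧ ∀ t ∈ S, s * t * s⁻¹ * t⁻¹ ∈ D}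
  have hzT : (z : G) ∈ T := ⟨z.2, hz2, hzc⟩
  have hTE : ∀ e ∈ E, ∀ t ∈ T, e * t * e⁻¹ ∈ T := by
    rintro e he t ⟨htS, ht2, htc⟩
    refine ⟨hES e he t htS, ?_, ?_⟩
    · have : (e * t * e⁻¹) ^ 2 = e * t ^ 2 * e⁻¹ := by
        rw [pow_two, pow_two]; group
      rw [this]
      exact hDn.conj_mem _ ht2 e
    · intro t' ht'
      have ht'' : e⁻¹ * t' * e ∈ S := by
        have := hES e⁻¹ (E.inv_mem he) t' ht'
        simpa using this
      have h1 := htc _ ht''
      have : e * t * e⁻¹ * t' * (e * t * e⁻¹)⁻¹ * t'⁻¹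
          = e * (t * (e⁻¹ * t' * e) * t⁻¹ * (e⁻¹ * t' * e)⁻¹) * e⁻¹ := by group
      rw [this]
      exact hDn.conj_mem _ h1 e
  have hcoreT := hcore G V K E T hV hK hVK hVmem hVcen hKsq
    (fun t ht v hv => hSV t ht.1 v hv) hTE hEtr
    (fun t ht => ht.2.1) (fun t ht t' ht' => ht.2.2 t' ht'.1)
  -- z⁻¹ (e z e⁻¹) ∈ D for all e
  have hfixz : ∀ e ∈ E, e * (z : G) * e⁻¹ * (z : G)⁻¹ ∈ S ⊓ D := by
    intro e he
    have hezT := hTE e he _ hzT
    have hezD : ¬ TrivOn V K (e * (z : G) * e⁻¹) := by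
      intro h
      apply hzD
      have h1 : e * (z : G) * e⁻¹ ∈ D := h
      have h2 := hDn.conj_mem _ h1 e⁻¹
      have : e⁻¹ * (e * (z : G) * e⁻¹) * e⁻¹⁻¹ = (z : G) := by group
      rwa [this] at h2
    have h3 : (z : G)⁻¹ * (e * (z : G) * e⁻¹) ∈ D := hcoreT _ hzT _ hezT hzD hezD
    refine ⟨?_, ?_⟩
    · exact S.mul_mem (hES e he _ z.2) (S.inv_mem z.2)
    · -- conjugate h3 by z
      have h4 := hDn.conj_mem _ h3 (z : G)
      have : (z : G) * ((z : G)⁻¹ * (e * (z : G) * e⁻¹)) * (z : G)⁻¹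
          = e * (z : G) * e⁻¹ * (z : G)⁻¹ := by group
      rwa [this] at h4
  -- coprime action
  have hcop : Cfsg.Agent.Lib.H1.CoprimeAction E S := by
    refine ⟨?_, ?_, Or.inr ?_⟩
    · intro e he
      rw [Subgroup.mem_normalizer_iff]
      intro s
      constructor
      · intro hs; exact hES e he s hs
      · intro hs
        have := hES e⁻¹ (E.inv_mem he) _ hs
        have h2 : e⁻¹ * (e * s * e⁻¹) * e⁻¹⁻¹ = s := by group
        rwa [h2] at this
    · obtain ⟨m, hm⟩ := IsPGroup.iff_card.mp hS2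
      rw [hm]
      exact Nat.Coprime.pow_right m (Nat.coprime_two_right.mpr hEodd)
    · haveI : Group.IsNilpotent S := hS2.isNilpotent
      exact IsNilpotent.to_isSolvable
  have hN1 : S ⊓ D ≤ S := inf_le_left
  have hN2 : S ≤ Subgroup.normalizer ((S ⊓ D : Subgroup G) : Set G) := by
    intro s hs
    rw [Subgroup.mem_normalizer_iff]
    intro x
    constructor
    · rintro ⟨hxS, hxD⟩
      exact ⟨S.mul_mem (S.mul_mem hs hxS) (S.inv_mem hs), hDn.conj_mem _ hxD s⟩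
    · rintro ⟨hxS, hxD⟩
      refine ⟨?_, ?_⟩
      · have := S.mul_mem (S.mul_mem (S.inv_mem hs) hxS) hs
        have h2 : s⁻¹ * (s * x * s⁻¹) * s = x := by group
        rwa [h2] at this
      · have := hDn.conj_mem _ hxD s⁻¹
        have h2 : s⁻¹ * (s * x * s⁻¹) * s⁻¹⁻¹ = x := by group
        rwa [h2] at this
  have hN3 : E ≤ Subgroup.normalizer ((S ⊓ D : Subgroup G) : Set G) := by
    intro e he
    rw [Subgroup.mem_normalizer_iff]
    intro x
    constructor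
    · rintro ⟨hxS, hxD⟩
      exact ⟨hES e he x hxS, hDn.conj_mem _ hxD e⟩
    · rintro ⟨hxS, hxD⟩
      refine ⟨?_, ?_⟩
      · have := hES e⁻¹ (E.inv_mem he) _ hxS
        have h2 : e⁻¹ * (e * x * e⁻¹) * e⁻¹⁻¹ = x := by group
        rwa [h2] at this
      · have := hDn.conj_mem _ hxD e⁻¹
        have h2 : e⁻¹ * (e * x * e⁻¹) * e⁻¹⁻¹ = x := by group
        rwa [h2] at this
  obtain ⟨c, hc, hzc'⟩ :=
    Cfsg.Agent.Lib.H1.coprime_centralizer_quotient hcop hN1 hN2 hN3 z.2 hfixz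
  have hc1 : c = 1 := by
    apply hfix c hc.1
    intro e he
    have := (Subgroup.mem_centralizer_iff.mp hc.2) e he
    calc e * c * e⁻¹ = c * e * e⁻¹ := by rw [this]
      _ = c := by group
  rw [hc1, mul_one] at hzc'
  exact hzD (by
    have := D.inv_mem hzc'.2
    simpa using this)

example : M0BStmt.{0} := m0b

end Cfsg.Agent.Lib.H8.S3797M0B
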