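import Cfsg.Agent.Lib.H15.S3797M1Defs

set_option autoImplicit false

namespace Cfsg.Agent.Lib.H8.S3797M1Arith

open Cfsg.Agent.H15.S3797M1

theorem odd_factor_eq_one {u b m : ℕ} (h : 2 ^ u = b * m) (hm : Odd m) : m = 1 := by
  have hd : m ∣ 2 ^ u := ⟨b, by rw [h, mul_comm]⟩
  obtain ⟨i, _, hi⟩ := (Nat.dvd_prime_pow Nat.prime_two).mp hd
  rcases i with _ | i
  · simpa using hi
  · exfalso
    rw [hi] at hm
    have : Even (2 ^ (i + 1)) := by
      rw [pow_succ]; exact even_two.mul_left _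
    exact (Nat.not_even_iff_odd.mpr hm) this

/-- core: `P + B = A * B + A`, `A = 2^n`, `B = 2^j`, `P = 2^u`, `n ≥ 1` force `j = n`. -/
theorem core {u n j : ℕ} (hn : 1 ≤ n) (h : 2 ^ u + 2 ^ j = 2 ^ n * 2 ^ j + 2 ^ n) : j = n := by
  rcases lt_trichotomy j n with hlt | heq | hgt
  · exfalso
    obtain ⟨d, rfl⟩ : ∃ d, n = j + (d + 1) := ⟨n - j - 1, by omega⟩
    -- A = B * (2 * D'), D' = 2^d
    set B := 2 ^ j with hB
    set D' := 2 ^ d with hD'
    have hBpos : 1 ≤ B := Nat.one_le_two_pow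
    have hDpos : 1 ≤ D' := Nat.one_le_two_pow
    have hA : 2 ^ (j + (d + 1)) = B * (2 * D') := by
      rw [pow_add, pow_succ]; ring
    rw [hA] at h
    obtain ⟨t, ht⟩ : ∃ t, D' * B + D' = t + 1 := ⟨D' * B + D' - 1, by
      have : 1 ≤ D' * B + D' := by nlinarith
      omega⟩
    have hP : 2 ^ u = B * (2 * t + 1) := by
      have h1 : B * (2 * t + 1) + B = B * (2 * D') * B + B * (2 * D') := by
        have : 2 * t + 1 + 1 = 2 * (D' * B + D') := by omega
        calc B * (2 * t + 1) + B = B * (2 * t + 1 + 1) := by ring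
          _ = B * (2 * (D' * B + D')) := by rw [this]
          _ = B * (2 * D') * B + B * (2 * D') := by ring
      omega
    have hm1 := odd_factor_eq_one hP ⟨t, rfl⟩
    have ht0 : t = 0 := by omega
    rw [ht0] at ht
    nlinarith
  · exact heq
  · exfalso
    obtain ⟨d, rfl⟩ : ∃ d, j = n + (d + 1) := ⟨j - n - 1, by omega⟩
    set A := 2 ^ n with hA
    set D' := 2 ^ d with hD'
    have hApos : 2 ≤ A := by
      rw [hA]
      calc 2 = 2 ^ 1 := by norm_num
        _ ≤ 2 ^ n := Nat.pow_le_pow_right (by norm_num) hn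
    have hDpos : 1 ≤ D' := Nat.one_le_two_pow
    have hBe : 2 ^ (n + (d + 1)) = A * (2 * D') := by
      rw [pow_add, pow_succ]; ring
    rw [hBe] at h
    obtain ⟨a, ha⟩ : ∃ a, A = a + 1 := ⟨A - 1, by omega⟩
    -- m = 2 * D' * (A - 1) + 1 = 2 * (D' * a) + 1
    have hP : 2 ^ u = A * (2 * (D' * a) + 1) := by
      have h1 : A * (2 * (D' * a) + 1) + A * (2 * D') = A * (A * (2 * D')) + A := by
        rw [ha]; ring
      omega
    have hm1 := odd_factor_eq_one hP ⟨D' * a, rfl⟩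
    have : D' * a = 0 := by omega
    have ha1 : 1 ≤ a := by omega
    nlinarith

/-- (ARITH) in the exact shape of the sub-cut. -/
theorem arith : ArithStmt := by
  intro u n r N h1 h2
  have hA1 : 1 ≤ 2 ^ n := Nat.one_le_two_pow
  rcases Nat.eq_zero_or_pos n with hn | hn
  · left; subst hn; simpa using h1
  rcases h2 with h2 | h2
  · right; left
    have h3 : (1 - (N : ℤ)) = 0 := by
      rcases pow_eq_zero_iff (n := 2) (by norm_num) |>.mp h2 with h
      exact h
    have hN : N = 1 := by omega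
    subst hN
    rw [h1]; omega
  · rcases Nat.eq_zero_or_pos N with hN | hN
    · left; subst hN; simpa using h1
    obtain ⟨M, rfl⟩ : ∃ M, N = M + 1 := ⟨N - 1, by omega⟩
    have hM : M ^ 2 = 2 ^ (u + r) := by
      have : ((M : ℤ)) ^ 2 = (2 : ℤ) ^ u * (2 : ℤ) ^ r := by
        rw [← h2]; push_cast; ring
      rw [pow_add]
      exact_mod_cast this
    have hMd : M ∣ 2 ^ (u + r) := ⟨M, by rw [← hM]; ring⟩
    obtain ⟨j, _, rfl⟩ := (Nat.dvd_prime_pow Nat.prime_two).mp hMd
    have hB1 : 1 ≤ 2 ^ j := Nat.one_le_two_pow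
    have h4 : 2 ^ u + 2 ^ j = 2 ^ n * 2 ^ j + 2 ^ n := by
      obtain ⟨a, ha⟩ : ∃ a, 2 ^ n = a + 1 := ⟨2 ^ n - 1, by omega⟩
      rw [h1, ha]
      have : a + 1 - 1 = a := by omega
      rw [this]; ring
    have hj : j = n := core hn h4
    subst hj
    right; right
    have hu : 2 ^ u = (2 ^ j) ^ 2 := by
      have : 2 ^ u + 2 ^ j = (2 ^ j) ^ 2 + 2 ^ j := by rw [h4]; ring
      omega
    refine ⟨hu, Or.inr ?_⟩
    have hu2 : u = j * 2 := by
      rw [← pow_mul] at hu
      exact Nat.pow_right_injective (le_refl 2) hu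
    have : j * 2 = u + r := by
      rw [← pow_mul] at hM
      exact Nat.pow_right_injective (le_refl 2) hM
    omega

end Cfsg.Agent.Lib.H8.S3797M1Arith
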