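import Mathlib
import Cfsg.Agent.Lib.H8.S3814MPDefs

/-!
# S3814, block (MP): piece ENDCORE (helper8)
-/

set_option autoImplicit false

namespace Cfsg.Agent.Lib.H8.S3814MPEndCore

open Cfsg.Agent.H7.S3814Defs Cfsg.Agent.Lib.H8.S3814MP

universe u

variable {G : Type u} [Group G]

theorem conj_pow_eq {x z : G} {k : ℕ} (h : x * z * x⁻¹ = z ^ k) (i : ℕ) :
    x ^ i * z * (x ^ i)⁻¹ = z ^ (k ^ i) := by
  induction i with
  | zero => simp
  | succ i ih =>
    calc x ^ (i + 1) * z * (x ^ (i + 1))⁻¹ = x * (x ^ i * z * (x ^ i)⁻¹) * x⁻¹ := by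
          rw [pow_succ']; group
      _ = x * z ^ (k ^ i) * x⁻¹ := by rw [ih]
      _ = (x * z * x⁻¹) ^ (k ^ i) := by rw [conj_pow]
      _ = (z ^ k) ^ (k ^ i) := by rw [h]
      _ = z ^ (k ^ (i + 1)) := by rw [← pow_mul, ← pow_succ']

/-- An `r`-element normalising a subgroup `⟨z⟩` of prime order `r` centralises it. -/
theorem commute_of_normalizes_prime {r : ℕ} (hr : r.Prime) {x z : G} (hz : orderOf z = r)
    (hn : x * z * x⁻¹ ∈ Subgroup.zpowers z) {m : ℕ} (hx : x ^ (r ^ m) = 1) : x * z = z * x := by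
  haveI : Fact r.Prime := ⟨hr⟩
  have hfin : IsOfFinOrder z := by
    rw [← orderOf_pos_iff, hz]; exact hr.pos
  rw [← hfin.mem_powers_iff_mem_zpowers, Submonoid.mem_powers_iff] at hn
  obtain ⟨k, hk⟩ := hn
  have h1 := conj_pow_eq hk.symm (r ^ m)
  rw [hx] at h1
  simp only [one_mul, inv_one, mul_one] at h1
  have h2 : z ^ (k ^ (r ^ m)) = z ^ 1 := by rw [← h1, pow_one]
  rw [pow_eq_pow_iff_modEq, hz] at h2
  have h3 : ((k ^ (r ^ m) : ℕ) : ZMod r) = ((1 : ℕ) : ZMod r) := (ZMod.natCast_eq_natCast_iff _ _ _).2 h2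
  rw [Nat.cast_pow, ZMod.pow_card_pow] at h3
  have h4 : k ≡ 1 [MOD r] := (ZMod.natCast_eq_natCast_iff _ _ _).1 h3
  have h5 : z ^ k = z ^ 1 := by rw [pow_eq_pow_iff_modEq, hz]; exact h4
  rw [pow_one] at h5
  rw [h5] at hk
  calc x * z = x * z * x⁻¹ * x := by group
    _ = z * x := by rw [← hk]

/-- A coprime automorphism of an abelian `s`-group that is trivial on the elements killed by `s`
is trivial. -/
theorem commute_of_commute_omega {r s : ℕ} (hr : r.Prime) (hs : s.Prime) (hrs : r ≠ s)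
    (S : Subgroup G) (hcomm : ∀ a ∈ S, ∀ b ∈ S, a * b = b * a) {x : G} (hxr : x ^ r = 1)
    (hn : ∀ d ∈ S, x * d * x⁻¹ ∈ S) (hω : ∀ c ∈ S, c ^ s = 1 → x * c = c * x) :
    ∀ n : ℕ, ∀ d ∈ S, d ^ (s ^ n) = 1 → x * d = d * x := by
  intro n
  induction n with
  | zero =>
    intro d _ hd
    rw [pow_zero, pow_one] at hd
    rw [hd, mul_one, one_mul]
  | succ n ih =>
    intro d hdS hd
    have hds : x * d ^ s = d ^ s * x := by
      apply ih (d ^ s) (S.pow_mem hdS s)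
      rw [← pow_mul, ← pow_succ']; exact hd
    obtain ⟨c, hc⟩ : ∃ c : G, c = x * d * x⁻¹ * d⁻¹ := ⟨_, rfl⟩
    have hcS : c ∈ S := by rw [hc]; exact S.mul_mem (hn d hdS) (S.inv_mem hdS)
    have hcs : c ^ s = 1 := by
      have hcm : Commute (x * d * x⁻¹) d⁻¹ := hcomm _ (hn d hdS) _ (S.inv_mem hdS)
      rw [hc, hcm.mul_pow, conj_pow, inv_pow]
      have : x * d ^ s * x⁻¹ = d ^ s := by rw [hds]; group
      rw [this, mul_inv_cancel]
    have hxc : x * c = c * x := hω c hcS hcs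
    have hxd : x * d * x⁻¹ = c * d := by rw [hc]; group
    have hpow : ∀ i : ℕ, x ^ i * d * (x ^ i)⁻¹ = c ^ i * d := by
      intro i
      induction i with
      | zero => simp
      | succ i ihi =>
        have hxci : x * c ^ i * x⁻¹ = c ^ i := by
          have : Commute x (c ^ i) := (show Commute x c from hxc).pow_right i
          rw [this.eq]; group
        calc x ^ (i + 1) * d * (x ^ (i + 1))⁻¹ = x * (x ^ i * d * (x ^ i)⁻¹) * x⁻¹ := by
              rw [pow_succ']; group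
          _ = x * (c ^ i * d) * x⁻¹ := by rw [ihi]
          _ = (x * c ^ i * x⁻¹) * (x * d * x⁻¹) := by group
          _ = c ^ i * (c * d) := by rw [hxci, hxd]
          _ = c ^ (i + 1) * d := by rw [pow_succ, mul_assoc]
    have hr1 := hpow r
    rw [hxr] at hr1
    simp only [one_mul, inv_one, mul_one] at hr1
    have hcr : c ^ r = 1 := by
      have : c ^ r * d = 1 * d := by rw [← hr1, one_mul]
      exact mul_right_cancel this
    have hcop : Nat.Coprime r s := (Nat.coprime_primes hr hs).2 hrs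
    have hc1 : c = 1 := by
      have : c ^ Nat.gcd r s = 1 := pow_gcd_eq_one.2 ⟨hcr, hcs⟩
      rwa [hcop.gcd_eq_one, pow_one] at this
    rw [hc1, one_mul] at hxd
    calc x * d = x * d * x⁻¹ * x := by group
      _ = d * x := by rw [hxd]

/-- Elements of `R ⊔ S` are products when `S` normalises `R`. -/
theorem exists_mul_of_mem_sup {R S : Subgroup G} (hn : ∀ w ∈ S, ∀ y ∈ R, w * y * w⁻¹ ∈ R)
    {a : G} (ha : a ∈ R ⊔ S) : ∃ y ∈ R, ∃ w ∈ S, a = y * w := by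
  rw [Subgroup.sup_eq_closure] at ha
  induction ha using Subgroup.closure_induction with
  | mem x hx =>
    rcases hx with hx | hx
    · exact ⟨x, hx, 1, S.one_mem, (mul_one x).symm⟩
    · exact ⟨1, R.one_mem, x, hx, (one_mul x).symm⟩
  | one => exact ⟨1, R.one_mem, 1, S.one_mem, (mul_one 1).symm⟩
  | mul x y _ _ hx hy =>
    obtain ⟨y1, hy1, w1, hw1, rfl⟩ := hx
    obtain ⟨y2, hy2, w2, hw2, rfl⟩ := hy
    refine ⟨y1 * (w1 * y2 * w1⁻¹), R.mul_mem hy1 (hn w1 hw1 y2 hy2), w1 * w2, S.mul_mem hw1 hw2, ?_⟩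
    group
  | inv x _ hx =>
    obtain ⟨y1, hy1, w1, hw1, rfl⟩ := hx
    refine ⟨w1⁻¹ * y1⁻¹ * (w1⁻¹)⁻¹, hn w1⁻¹ (S.inv_mem hw1) y1⁻¹ (R.inv_mem hy1), w1⁻¹, S.inv_mem hw1, ?_⟩
    group

theorem le_normalizer_of_conj_mem {X R : Subgroup G}
    (h : ∀ x ∈ X, ∀ y ∈ R, x * y * x⁻¹ ∈ R) : X ≤ Subgroup.normalizer (R : Set G) := by
  intro x hx
  rw [Subgroup.mem_normalizer_iff]
  intro y
  constructor
  · exact h x hx y
  · intro hy
    have h1 := h x⁻¹ (X.inv_mem hx) _ hy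
    have h2 : x⁻¹ * (x * y * x⁻¹) * x⁻¹⁻¹ = y := by group
    rwa [h2] at h1

theorem pow_eq_one_of_mem_pgroup {p : ℕ} {P : Subgroup G} (hP : IsPGroup p ↥P) {y : G}
    (hy : y ∈ P) : ∃ m : ℕ, y ^ (p ^ m) = 1 := by
  obtain ⟨m, hm⟩ := hP ⟨y, hy⟩
  exact ⟨m, by simpa using congrArg Subtype.val hm⟩

theorem exists_orderOf_eq_of_pgroup_ne_bot [Finite G] {p : ℕ} [Fact p.Prime] {P : Subgroup G}
    (hP : IsPGroup p ↥P) (hne : P ≠ ⊥) : ∃ z ∈ P, orderOf z = p := by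
  obtain ⟨n, hn⟩ := IsPGroup.iff_card.1 hP
  have hn0 : n ≠ 0 := by
    rintro rfl
    rw [pow_zero] at hn
    exact hne (Subgroup.card_eq_one.1 hn)
  have hdvd : p ∣ Nat.card ↥P := by rw [hn]; exact dvd_pow_self p hn0
  obtain ⟨z, hz⟩ := exists_prime_orderOf_dvd_card' p hdvd
  exact ⟨z.1, z.2, by rw [← hz]; exact Subgroup.orderOf_coe z⟩

theorem orderOf_conj_eq (y c : G) : orderOf (y * c * y⁻¹) = orderOf c := by
  rw [← MulAut.conj_apply]
  exact MulEquiv.orderOf_eq _ _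

/-- PIECE ENDCORE of the (MP) block. -/
theorem endcore : EndCoreStmt.{u} := by
  intro hU hQ hC G _ _ r s V W X h R₀ S₀ g
  haveI : Fact r.Prime := ⟨h.hr⟩
  haveI : Fact s.Prime := ⟨h.hs⟩
  have hcop : Nat.Coprime r s := (Nat.coprime_primes h.hr h.hs).2 h.hrs
  -- `S₀` is commutative
  have hS₀comm : ∀ a ∈ S₀, ∀ b ∈ S₀, a * b = b * a := by
    intro a ha b hb
    obtain ⟨gen, hgen⟩ := g.cycS.exists_generator
    obtain ⟨i, hi⟩ := Subgroup.mem_zpowers_iff.1 (hgen ⟨a, ha⟩)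
    obtain ⟨j, hj⟩ := Subgroup.mem_zpowers_iff.1 (hgen ⟨b, hb⟩)
    have h1 := zpow_mul_comm gen i j
    rw [hi, hj] at h1
    exact congrArg Subtype.val h1
  -- every element of order `r` of `X` centralises `S₀`
  have hcentS : ∀ x ∈ X, orderOf x = r → ∀ d ∈ S₀, x * d = d * x := by
    intro x hxX hxo d hdS
    obtain ⟨n, hn⟩ := pow_eq_one_of_mem_pgroup g.pS hdS
    refine commute_of_commute_omega h.hr h.hs h.hrs S₀ hS₀comm
      (by rw [← hxo]; exact pow_orderOf_eq_one x) (fun d hd => g.nS x hxX d hd) ?_ n d hdS hn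
    intro c hcS hcs
    by_cases hc1 : c = 1
    · rw [hc1, mul_one, one_mul]
    · have hco : orderOf c = s := orderOf_eq_prime hcs hc1
      obtain ⟨huniq, hnV, hnW⟩ := hU h.swapRS S₀ g.hS g.nS g.pS c hcS hco
      have hnorm : ∀ y ∈ X, y * c * y⁻¹ ∈ Subgroup.zpowers c := by
        intro y hy
        apply huniq _ (g.nS y hy c hcS)
        rw [orderOf_conj_eq, hco]
      exact hC h c (g.hS hcS) hco hnorm hnV hnW x hxX hxo
  -- `z ∈ R₀` of order `r`
  obtain ⟨z, hzR, hzo⟩ := exists_orderOf_eq_of_pgroup_ne_bot g.pR g.neR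
  obtain ⟨hzuniq, hzV, hzW⟩ := hU h R₀ g.hR g.nR g.pR z hzR hzo
  have hznorm : ∀ y ∈ X, y * z * y⁻¹ ∈ Subgroup.zpowers z := by
    intro y hy
    apply hzuniq _ (g.nR y hy z hzR)
    rw [orderOf_conj_eq, hzo]
  -- every element of order `r` of `X` lies in `R₀`
  have key : ∀ x ∈ X, orderOf x = r → x ∈ R₀ := by
    intro x hxX hxo
    have hxr : x ^ r = 1 := by rw [← hxo]; exact pow_orderOf_eq_one x
    have hxR₀ : ∀ y ∈ R₀, x * y = y * x := by
      have hzx : Subgroup.zpowers x ≤ Subgroup.normalizer (R₀ : Set G) :=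
        (Subgroup.zpowers_le.2 hxX).trans (le_normalizer_of_conj_mem g.nR)
      have hpx : IsPGroup r ↥(Subgroup.zpowers x) :=
        IsPGroup.of_card (n := 1) (by rw [Nat.card_zpowers, hxo, pow_one])
      have hD₁p : IsPGroup r ↥(R₀ ⊔ Subgroup.zpowers x) :=
        IsPGroup.to_sup_of_normal_left' g.pR hpx hzx
      have hD₁X : R₀ ⊔ Subgroup.zpowers x ≤ X := sup_le g.hR (Subgroup.zpowers_le.2 hxX)
      have hcentz : ∀ d ∈ R₀ ⊔ Subgroup.zpowers x, d * z = z * d := by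
        intro d hd
        obtain ⟨m, hm⟩ := pow_eq_one_of_mem_pgroup hD₁p hd
        exact commute_of_normalizes_prime h.hr hzo (hznorm d (hD₁X hd)) hm
      have hq := hQ h (R₀ ⊔ Subgroup.zpowers x) hD₁X hD₁p z
        ((le_sup_left : R₀ ≤ R₀ ⊔ Subgroup.zpowers x) hzR) hzo hcentz hzV hzW x
        ((le_sup_right : Subgroup.zpowers x ≤ R₀ ⊔ Subgroup.zpowers x)
          (Subgroup.mem_zpowers x)) hxo
      intro y hy
      exact (hq y ((le_sup_left : R₀ ≤ R₀ ⊔ Subgroup.zpowers x) hy)).symm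
    have hmem : x ∈ R₀ ⊔ S₀ := g.selfc x hxX hxR₀ (hcentS x hxX hxo)
    obtain ⟨y, hyR, w, hwS, hxyw⟩ :=
      exists_mul_of_mem_sup (fun w hw y hy => g.nR w (g.hS hw) y hy) hmem
    obtain ⟨m, hm⟩ := pow_eq_one_of_mem_pgroup g.pR hyR
    obtain ⟨k, hk⟩ := pow_eq_one_of_mem_pgroup g.pS hwS
    have hw : w = y⁻¹ * x := by rw [hxyw]; group
    have hcomm : Commute y⁻¹ x := ((show Commute x y from hxR₀ y hyR).symm).inv_left
    have hwr : w ^ (r ^ (m + 1)) = 1 := by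
      rw [hw, hcomm.mul_pow, inv_pow, pow_succ, pow_mul, hm, one_pow, inv_one, one_mul,
        mul_comm (r ^ m) r, pow_mul, hxr, one_pow]
    have hw1 : w = 1 := by
      have h1 : w ^ Nat.gcd (r ^ (m + 1)) (s ^ k) = 1 := pow_gcd_eq_one.2 ⟨hwr, hk⟩
      rwa [(Nat.Coprime.pow (m + 1) k hcop).gcd_eq_one, pow_one] at h1
    rw [hxyw, hw1, mul_one]
    exact hyR
  -- the rank-2 pair of `rk_r` lies in `R₀`, against (UNIQ)
  obtain ⟨a, haX, b, hbX, hao, hbo, -, hnot⟩ := h.rk_r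
  have haR := key a haX hao
  have hbR := key b hbX hbo
  exact hnot ((hU h R₀ g.hR g.nR g.pR a haR hao).1 b hbR hbo)

example : EndCoreStmt.{0} := endcore

end Cfsg.Agent.Lib.H8.S3814MPEndCore
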