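import Cfsg.Agent.Lib.H8.S3814MPDefs
import Cfsg.Agent.Lib.H8.S3814MPEndCore
import Cfsg.Agent.Lib.H12.S3814MPLine
import Cfsg.Agent.Lib.H12.S3814MPNcf
import Cfsg.Agent.Lib.H26.S3814MPK1
import Cfsg.Agent.Lib.H6.S3814MPK2
import Cfsg.Agent.Lib.H4.S3814MPK3a
import Cfsg.Agent.Lib.H3.S3814MPK3b
import Cfsg.Agent.Lib.H23.S3814MPK3c
import Cfsg.Agent.Lib.H2.S3814MPK3d
import Cfsg.Agent.Lib.H24.S3814MPK4
import Cfsg.Agent.Lib.H21.S3814MPQ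
import Cfsg.Agent.Lib.H4.S3814MPUniq
import Cfsg.Agent.Lib.H6.S3814MPCent
import Cfsg.Agent.Lib.H22.S3814MPFit
import Cfsg.Agent.Lib.H29.S3814MPBridge
import Cfsg.Agent.Lib.H7.S3814F2

/-!
# S3814, block (MP) = shape (II): assembly (helper8, sub-architect)

`mp : MPStmt` from the fourteen landed pieces, and `shapeII : ShapeIIStmt` (the hypothesis of
helper7's level-1 assembly) through helper29's bridge and the landed (F2).
-/

set_option autoImplicit false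

namespace Cfsg.Agent.Lib.H8.S3814MPAsm

open Cfsg.Agent.H7.S3814Defs Cfsg.Agent.Lib.H8.S3814MP

universe u

/-- Lemma (MP). -/
theorem mp : MPStmt.{u} :=
  mp_of Cfsg.Agent.Lib.H12.S3814MPLine.line Cfsg.Agent.Lib.H12.S3814MPNcf.ncf
    Cfsg.Agent.Lib.H26.S3814MPK1.k1 Cfsg.Agent.Lib.H6.S3814MPK2.k2
    Cfsg.Agent.Lib.H4.S3814MPK3a.k3a Cfsg.Agent.Lib.H3.S3814MPK3b.k3b
    Cfsg.Agent.Lib.H23.S3814MPK3c.k3c Cfsg.Agent.Lib.H2.S3814MPK3d.k3d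
    Cfsg.Agent.Lib.H24.S3814MPK4.k4 Cfsg.Agent.Lib.H21.S3814MPQ.q
    Cfsg.Agent.Lib.H4.S3814MPUniq.uniq Cfsg.Agent.Lib.H6.S3814MPCent.cent
    Cfsg.Agent.Lib.H22.S3814MPFit.fit Cfsg.Agent.Lib.H8.S3814MPEndCore.endcore

/-- (F2) in the form of the (MP) cut. -/
theorem f2 : Cfsg.Agent.Lib.H8.S3814MP.F2Stmt.{u} := Cfsg.Agent.H7.S3814F2.f2

/-- Shape (II) of the level-1 cut is impossible. -/
theorem shapeII : ShapeIIStmt.{u} := Cfsg.Agent.Lib.H29.S3814MPBridge.bridge mp f2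

example : ShapeIIStmt.{0} := shapeII

end Cfsg.Agent.Lib.H8.S3814MPAsm
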