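import Cfsg.Agent.Lib.H1.S77.Hyp

/-!
# S0429, pieces (TR1)/(TR2): the common six-group certificate inequality
-/

set_option autoImplicit false
set_option linter.unusedSectionVars false
open Cfsg

namespace Cfsg.Agent.Lib.H8.S77

open Cfsg.Agent.Lib.H1.S77 Finset

section
variable {V : Type*} [Fintype V] [DecidableEq V] {G : SimpleGraph V} [DecidableRel G.Adj]

theorem ee_zero_of {S T : Finset V} (h : ∀ x ∈ S, ∀ y ∈ T, ¬ G.Adj x y) : ee G S T = 0 := by
  unfold ee
  refine Finset.sum_eq_zero ?_
  intro x hx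
  rw [Nat.cast_eq_zero, Finset.card_eq_zero, Finset.eq_empty_iff_forall_notMem]
  intro y hy
  rw [Finset.mem_inter, SimpleGraph.mem_neighborFinset] at hy
  exact h x hx y hy.2 hy.1

theorem ee_mul_of {S T : Finset V} {d : ℕ} (h : ∀ x ∈ S, (G.neighborFinset x ∩ T).card = d) :
    ee G S T = (S.card : ℤ) * d := by
  unfold ee
  rw [Finset.sum_congr rfl (fun x hx => by rw [h x hx]), Finset.sum_const, nsmul_eq_mul]

theorem ee_eq_card_pairs (S T : Finset V) :
    ee G S T = (((S ×ˢ T).filter (fun p => G.Adj p.1 p.2)).card : ℤ) := by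
  unfold ee
  rw [← Nat.cast_sum]
  congr 1
  rw [Finset.card_filter, Finset.sum_product]
  refine Finset.sum_congr rfl ?_
  intro x _
  rw [← Finset.card_filter]
  congr 1
  ext y
  simp [and_comm]

theorem ee_symm (S T : Finset V) : ee G S T = ee G T S := by
  rw [ee_eq_card_pairs, ee_eq_card_pairs]
  congr 1
  refine Finset.card_bij (fun p _ => (p.2, p.1)) ?_ ?_ ?_
  · intro p hp
    rw [Finset.mem_filter, Finset.mem_product] at hp ⊢
    exact ⟨⟨hp.1.2, hp.1.1⟩, hp.2.symm⟩
  · intro p _ q _ h
    rw [Prod.mk.injEq] at h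
    exact Prod.ext h.2 h.1
  · intro q hq
    rw [Finset.mem_filter, Finset.mem_product] at hq
    refine ⟨(q.2, q.1), ?_, rfl⟩
    rw [Finset.mem_filter, Finset.mem_product]
    exact ⟨⟨hq.1.2, hq.1.1⟩, hq.2.symm⟩

variable {v0 : V}

/-- the six-group inequality for two distinct mates `z`, `w` of `b`, with `ov = |blk z ∩ blk w|` -/
theorem mate_ineq (hG : G.IsSRGWith 77 16 0 4) (hp : HPsdFam G) (hn : HNadj G v0)
    {b z w : V} (hb : b ∈ nB G v0) (hz : z ∈ cls G v0 b) (hw : w ∈ cls G v0 b)
    (hzb : z ≠ b) (hwb : w ≠ b) (hzw : z ≠ w) (c0 c1 c2 c3 c4 c5 : ℤ) :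
    0 ≤ 22 * (c0 ^ 2 + c1 ^ 2 + 2 * c2 ^ 2 + 4 * c3 ^ 2
          + ((blk G v0 z ∩ blk G v0 w).card : ℤ) * c4 ^ 2
          + (8 - 2 * ((blk G v0 z ∩ blk G v0 w).card : ℤ)) * c5 ^ 2)
      - 22 * (4 * c0 * c3 + ((blk G v0 z ∩ blk G v0 w).card : ℤ) * c0 * c4
          + (8 - 2 * ((blk G v0 z ∩ blk G v0 w).card : ℤ)) * c0 * c5 + 4 * c1 * c3
          + 2 * ((blk G v0 z ∩ blk G v0 w).card : ℤ) * c2 * c4
          + (8 - 2 * ((blk G v0 z ∩ blk G v0 w).card : ℤ)) * c2 * c5)
      + 2 * (c0 + c1 + 2 * c2 + 4 * c3 + ((blk G v0 z ∩ blk G v0 w).card : ℤ) * c4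
          + (8 - 2 * ((blk G v0 z ∩ blk G v0 w).card : ℤ)) * c5) ^ 2 := by
  -- basic facts
  obtain ⟨hzB, hz'⟩ := mem_cls.mp hz
  obtain ⟨hwB, hw'⟩ := mem_cls.mp hw
  have hbz : ¬ G.Adj b z ∧ Disjoint (blk G v0 b) (blk G v0 z) := by
    rcases hz' with h | h
    · exact absurd h hzb
    · exact h
  have hbw : ¬ G.Adj b w ∧ Disjoint (blk G v0 b) (blk G v0 w) := by
    rcases hw' with h | h
    · exact absurd h hwb
    · exact h
  have nzw : ¬ G.Adj z w := hn b hb z hz w hw
  obtain ⟨hb0, n0b⟩ := mem_nB.mp hb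
  obtain ⟨hz0, n0z⟩ := mem_nB.mp hzB
  obtain ⟨hw0, n0w⟩ := mem_nB.mp hwB
  set Pb := blk G v0 b with hPb
  set Pz := blk G v0 z with hPz
  set Pw := blk G v0 w with hPw
  set I := Pz ∩ Pw with hI
  set D := symmDiff Pz Pw with hD
  have cPb : Pb.card = 4 := card_blk hG hb
  have cPz : Pz.card = 4 := card_blk hG hzB
  have cPw : Pw.card = 4 := card_blk hG hwB
  -- membership facts
  have mPb : ∀ x, x ∈ Pb ↔ G.Adj b x ∧ G.Adj v0 x := fun x => mem_blk
  have mPz : ∀ x, x ∈ Pz ↔ G.Adj z x ∧ G.Adj v0 x := fun x => mem_blk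
  have mPw : ∀ x, x ∈ Pw ↔ G.Adj w x ∧ G.Adj v0 x := fun x => mem_blk
  have mI : ∀ x, x ∈ I ↔ x ∈ Pz ∧ x ∈ Pw := fun x => Finset.mem_inter
  have mD : ∀ x, x ∈ D ↔ (x ∈ Pz ∧ x ∉ Pw) ∨ (x ∈ Pw ∧ x ∉ Pz) := fun x => Finset.mem_symmDiff
  have dbz : ∀ x, x ∈ Pb → x ∈ Pz → False := fun x h1 h2 => Finset.disjoint_left.mp hbz.2 h1 h2
  have dbw : ∀ x, x ∈ Pb → x ∈ Pw → False := fun x h1 h2 => Finset.disjoint_left.mp hbw.2 h1 h2
  -- points are pairwise non-adjacent
  have hind : ∀ x y, G.Adj v0 x → G.Adj v0 y → ¬ G.Adj x y :=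
    fun x y hx hy => indep hG (mem_nA.mpr hx) (mem_nA.mpr hy)
  -- cards
  have cZW : ({z, w} : Finset V).card = 2 := Finset.card_pair hzw
  have cI_le : I.card ≤ 4 := by
    rw [← cPz]; exact Finset.card_le_card Finset.inter_subset_left
  have hc1 : (Pz \ Pw).card + I.card = 4 := by
    rw [hI, Finset.card_sdiff_add_card_inter, cPz]
  have hc2 : (Pw \ Pz).card + I.card = 4 := by
    rw [hI, Finset.inter_comm, Finset.card_sdiff_add_card_inter, cPw]
  have cD : (D.card : ℤ) = 8 - 2 * (I.card : ℤ) := by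
    have h1 : D = (Pz \ Pw) ∪ (Pw \ Pz) := by
      rw [hD]; rfl
    have h2 : Disjoint (Pz \ Pw) (Pw \ Pz) := by
      rw [Finset.disjoint_left]
      intro x hx hx'
      rw [Finset.mem_sdiff] at hx hx'
      exact hx.2 hx'.1
    rw [h1, Finset.card_union_of_disjoint h2]
    push_cast
    omega
  -- the groups
  let S : Fin 6 → Finset V := ![{v0}, {b}, {z, w}, Pb, I, D]
  let c : Fin 6 → ℤ := ![c0, c1, c2, c3, c4, c5]
  -- disjointness
  have d01 : Disjoint ({v0} : Finset V) {b} := by
    rw [Finset.disjoint_singleton]; exact fun h => hb0 h.symm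
  have d02 : Disjoint ({v0} : Finset V) {z, w} := by
    rw [Finset.disjoint_left]
    intro x hx hx'
    rw [Finset.mem_singleton] at hx
    rw [Finset.mem_insert, Finset.mem_singleton] at hx'
    subst hx
    rcases hx' with h | h
    · exact hz0 h.symm
    · exact hw0 h.symm
  have d03 : Disjoint ({v0} : Finset V) Pb := by
    rw [Finset.disjoint_singleton_left, mPb]
    exact fun h => G.irrefl h.2
  have d04 : Disjoint ({v0} : Finset V) I := by
    rw [Finset.disjoint_singleton_left, mI, mPz]
    exact fun h => G.irrefl h.1.2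
  have d05 : Disjoint ({v0} : Finset V) D := by
    rw [Finset.disjoint_singleton_left, mD, mPz, mPw]
    rintro (h | h)
    · exact G.irrefl h.1.2
    · exact G.irrefl h.1.2
  have d12 : Disjoint ({b} : Finset V) {z, w} := by
    rw [Finset.disjoint_singleton_left, Finset.mem_insert, Finset.mem_singleton]
    rintro (h | h)
    · exact hzb h.symm
    · exact hwb h.symm
  have d13 : Disjoint ({b} : Finset V) Pb := by
    rw [Finset.disjoint_singleton_left, mPb]
    exact fun h => n0b h.2
  have d14 : Disjoint ({b} : Finset V) I := by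
    rw [Finset.disjoint_singleton_left, mI, mPz]
    exact fun h => n0b h.1.2
  have d15 : Disjoint ({b} : Finset V) D := by
    rw [Finset.disjoint_singleton_left, mD, mPz, mPw]
    rintro (h | h)
    · exact n0b h.1.2
    · exact n0b h.1.2
  have hzw_notpt : ∀ x ∈ ({z, w} : Finset V), ¬ G.Adj v0 x := by
    intro x hx
    rw [Finset.mem_insert, Finset.mem_singleton] at hx
    rcases hx with rfl | rfl
    · exact n0z
    · exact n0w
  have d23 : Disjoint ({z, w} : Finset V) Pb := by
    rw [Finset.disjoint_left]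
    intro x hx hx'
    exact hzw_notpt x hx ((mPb x).mp hx').2
  have d24 : Disjoint ({z, w} : Finset V) I := by
    rw [Finset.disjoint_left]
    intro x hx hx'
    exact hzw_notpt x hx ((mPz x).mp ((mI x).mp hx').1).2
  have d25 : Disjoint ({z, w} : Finset V) D := by
    rw [Finset.disjoint_left]
    intro x hx hx'
    rcases (mD x).mp hx' with h | h
    · exact hzw_notpt x hx ((mPz x).mp h.1).2
    · exact hzw_notpt x hx ((mPw x).mp h.1).2
  have d34 : Disjoint Pb I := by
    rw [Finset.disjoint_left]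
    intro x hx hx'
    exact dbz x hx ((mI x).mp hx').1
  have d35 : Disjoint Pb D := by
    rw [Finset.disjoint_left]
    intro x hx hx'
    rcases (mD x).mp hx' with h | h
    · exact dbz x hx h.1
    · exact dbw x hx h.1
  have d45 : Disjoint I D := by
    rw [Finset.disjoint_left]
    intro x hx hx'
    have := (mI x).mp hx
    rcases (mD x).mp hx' with h | h
    · exact h.2 this.2
    · exact h.2 this.1
  have hdisj : ∀ i j : Fin 6, i ≠ j → Disjoint (S i) (S j) := by
    intro i j hij
    fin_cases i <;> fin_cases j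
    · exact absurd rfl hij
    · exact d01
    · exact d02
    · exact d03
    · exact d04
    · exact d05
    · exact d01.symm
    · exact absurd rfl hij
    · exact d12
    · exact d13
    · exact d14
    · exact d15
    · exact d02.symm
    · exact d12.symm
    · exact absurd rfl hij
    · exact d23
    · exact d24
    · exact d25
    · exact d03.symm
    · exact d13.symm
    · exact d23.symm
    · exact absurd rfl hij
    · exact d34
    · exact d35
    · exact d04.symm
    · exact d14.symm
    · exact d24.symm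
    · exact d34.symm
    · exact absurd rfl hij
    · exact d45
    · exact d05.symm
    · exact d15.symm
    · exact d25.symm
    · exact d35.symm
    · exact d45.symm
    · exact absurd rfl hij
  -- adjacency of the special vertices
  have adj_v0 : ∀ x, x ∈ Pb ∨ x ∈ I ∨ x ∈ D → G.Adj v0 x := by
    intro x hx
    rcases hx with h | h | h
    · exact ((mPb x).mp h).2
    · exact ((mPz x).mp ((mI x).mp h).1).2
    · rcases (mD x).mp h with h' | h'
      · exact ((mPz x).mp h'.1).2
      · exact ((mPw x).mp h'.1).2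
  -- the `ee` table, upper triangle
  have e00 : ee G ({v0} : Finset V) {v0} = 0 := ee_zero_of (by
    intro x hx y hy
    rw [Finset.mem_singleton] at hx hy
    subst hx; subst hy
    exact G.irrefl)
  have e01 : ee G ({v0} : Finset V) {b} = 0 := ee_zero_of (by
    intro x hx y hy
    rw [Finset.mem_singleton] at hx hy
    subst hx; subst hy
    exact n0b)
  have e02 : ee G ({v0} : Finset V) {z, w} = 0 := ee_zero_of (by
    intro x hx y hy
    rw [Finset.mem_singleton] at hx
    subst hx
    exact hzw_notpt y hy)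
  have e03 : ee G ({v0} : Finset V) Pb = 4 := by
    rw [ee_mul_of (d := 4), Finset.card_singleton]; · norm_num
    intro x hx
    rw [Finset.mem_singleton] at hx
    subst hx
    rw [← cPb]
    congr 1
    rw [Finset.inter_eq_right]
    intro y hy
    rw [SimpleGraph.mem_neighborFinset]
    exact adj_v0 y (Or.inl hy)
  have e04 : ee G ({v0} : Finset V) I = (I.card : ℤ) := by
    rw [ee_mul_of (d := I.card), Finset.card_singleton]; · norm_num
    intro x hx
    rw [Finset.mem_singleton] at hx
    subst hx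
    congr 1
    rw [Finset.inter_eq_right]
    intro y hy
    rw [SimpleGraph.mem_neighborFinset]
    exact adj_v0 y (Or.inr (Or.inl hy))
  have e05 : ee G ({v0} : Finset V) D = (D.card : ℤ) := by
    rw [ee_mul_of (d := D.card), Finset.card_singleton]; · norm_num
    intro x hx
    rw [Finset.mem_singleton] at hx
    subst hx
    congr 1
    rw [Finset.inter_eq_right]
    intro y hy
    rw [SimpleGraph.mem_neighborFinset]
    exact adj_v0 y (Or.inr (Or.inr hy))
  have e11 : ee G ({b} : Finset V) {b} = 0 := ee_zero_of (by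
    intro x hx y hy
    rw [Finset.mem_singleton] at hx hy
    subst hx; subst hy
    exact G.irrefl)
  have e12 : ee G ({b} : Finset V) {z, w} = 0 := ee_zero_of (by
    intro x hx y hy
    rw [Finset.mem_singleton] at hx
    rw [Finset.mem_insert, Finset.mem_singleton] at hy
    subst hx
    rcases hy with rfl | rfl
    · exact hbz.1
    · exact hbw.1)
  have e13 : ee G ({b} : Finset V) Pb = 4 := by
    rw [ee_mul_of (d := 4), Finset.card_singleton]; · norm_num
    intro x hx
    rw [Finset.mem_singleton] at hx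
    subst hx
    rw [← cPb]
    congr 1
    rw [Finset.inter_eq_right]
    intro y hy
    rw [SimpleGraph.mem_neighborFinset]
    exact ((mPb y).mp hy).1
  have e14 : ee G ({b} : Finset V) I = 0 := ee_zero_of (by
    intro x hx y hy
    rw [Finset.mem_singleton] at hx
    subst hx
    intro hadj
    have hyz := (mI y).mp hy
    exact dbz y ((mPb y).mpr ⟨hadj, ((mPz y).mp hyz.1).2⟩) hyz.1)
  have e15 : ee G ({b} : Finset V) D = 0 := ee_zero_of (by
    intro x hx y hy
    rw [Finset.mem_singleton] at hx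
    subst hx
    intro hadj
    have hy0 := adj_v0 y (Or.inr (Or.inr hy))
    rcases (mD y).mp hy with h | h
    · exact dbz y ((mPb y).mpr ⟨hadj, hy0⟩) h.1
    · exact dbw y ((mPb y).mpr ⟨hadj, hy0⟩) h.1)
  have e22 : ee G ({z, w} : Finset V) {z, w} = 0 := ee_zero_of (by
    intro x hx y hy
    rw [Finset.mem_insert, Finset.mem_singleton] at hx hy
    rcases hx with rfl | rfl <;> rcases hy with rfl | rfl
    · exact G.irrefl
    · exact nzw
    · exact fun h => nzw h.symm
    · exact G.irrefl)
  have e23 : ee G ({z, w} : Finset V) Pb = 0 := ee_zero_of (by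
    intro x hx y hy
    rw [Finset.mem_insert, Finset.mem_singleton] at hx
    have hy0 := ((mPb y).mp hy).2
    rcases hx with rfl | rfl
    · exact fun hadj => dbz y hy ((mPz y).mpr ⟨hadj, hy0⟩)
    · exact fun hadj => dbw y hy ((mPw y).mpr ⟨hadj, hy0⟩))
  have e24 : ee G ({z, w} : Finset V) I = 2 * (I.card : ℤ) := by
    rw [ee_mul_of (d := I.card), cZW]; · norm_num
    intro x hx
    rw [Finset.mem_insert, Finset.mem_singleton] at hx
    congr 1
    rw [Finset.inter_eq_right]
    intro y hy
    rw [SimpleGraph.mem_neighborFinset]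
    rcases hx with rfl | rfl
    · exact ((mPz y).mp ((mI y).mp hy).1).1
    · exact ((mPw y).mp ((mI y).mp hy).2).1
  have e25 : ee G ({z, w} : Finset V) D = (D.card : ℤ) := by
    have hd : ∀ x ∈ ({z, w} : Finset V), (G.neighborFinset x ∩ D).card = 4 - I.card := by
      intro x hx
      rw [Finset.mem_insert, Finset.mem_singleton] at hx
      rcases hx with rfl | rfl
      · have : G.neighborFinset x ∩ D = Pz \ Pw := by
          ext y
          rw [Finset.mem_inter, SimpleGraph.mem_neighborFinset, Finset.mem_sdiff, mD]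
          constructor
          · rintro ⟨hadj, h | h⟩
            · exact h
            · exact absurd ((mPz y).mpr ⟨hadj, ((mPw y).mp h.1).2⟩) h.2
          · intro h
            exact ⟨((mPz y).mp h.1).1, Or.inl h⟩
        rw [this]; omega
      · have : G.neighborFinset x ∩ D = Pw \ Pz := by
          ext y
          rw [Finset.mem_inter, SimpleGraph.mem_neighborFinset, Finset.mem_sdiff, mD]
          constructor
          · rintro ⟨hadj, h | h⟩
            · exact absurd ((mPw y).mpr ⟨hadj, ((mPz y).mp h.1).2⟩) h.2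
            · exact h
          · intro h
            exact ⟨((mPw y).mp h.1).1, Or.inr h⟩
        rw [this]; omega
    rw [ee_mul_of hd, cZW, cD]
    push_cast [Nat.cast_sub cI_le]
    ring
  have epts : ∀ X Y : Finset V, (∀ x ∈ X, G.Adj v0 x) → (∀ y ∈ Y, G.Adj v0 y) → ee G X Y = 0 :=
    fun X Y hX hY => ee_zero_of (fun x hx y hy => hind x y (hX x hx) (hY y hy))
  have aPb : ∀ x ∈ Pb, G.Adj v0 x := fun x hx => adj_v0 x (Or.inl hx)
  have aI : ∀ x ∈ I, G.Adj v0 x := fun x hx => adj_v0 x (Or.inr (Or.inl hx))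
  have aD : ∀ x ∈ D, G.Adj v0 x := fun x hx => adj_v0 x (Or.inr (Or.inr hx))
  have e33 : ee G Pb Pb = 0 := epts _ _ aPb aPb
  have e34 : ee G Pb I = 0 := epts _ _ aPb aI
  have e35 : ee G Pb D = 0 := epts _ _ aPb aD
  have e44 : ee G I I = 0 := epts _ _ aI aI
  have e45 : ee G I D = 0 := epts _ _ aI aD
  have e55 : ee G D D = 0 := epts _ _ aD aD
  -- lower triangle by symmetry
  have e10 := (ee_symm (G := G) {b} {v0}).trans e01
  have e20 := (ee_symm (G := G) {z, w} {v0}).trans e02
  have e30 := (ee_symm (G := G) Pb {v0}).trans e03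
  have e40 := (ee_symm (G := G) I {v0}).trans e04
  have e50 := (ee_symm (G := G) D {v0}).trans e05
  have e21 := (ee_symm (G := G) {z, w} {b}).trans e12
  have e31 := (ee_symm (G := G) Pb {b}).trans e13
  have e41 := (ee_symm (G := G) I {b}).trans e14
  have e51 := (ee_symm (G := G) D {b}).trans e15
  have e32 := (ee_symm (G := G) Pb {z, w}).trans e23
  have e42 := (ee_symm (G := G) I {z, w}).trans e24
  have e52 := (ee_symm (G := G) D {z, w}).trans e25
  have e43 := (ee_symm (G := G) I Pb).trans e34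
  have e53 := (ee_symm (G := G) D Pb).trans e35
  have e54 := (ee_symm (G := G) D I).trans e45
  have main := hp 6 S hdisj c
  simp only [Fin.sum_univ_six, S, c, Matrix.cons_val_zero, Matrix.cons_val_one, Matrix.cons_val,
    Finset.card_singleton, cZW, cPb,
    e00, e01, e02, e03, e04, e05, e10, e11, e12, e13, e14, e15, e20, e21, e22, e23, e24, e25,
    e30, e31, e32, e33, e34, e35, e40, e41, e42, e43, e44, e45, e50, e51, e52, e53, e54, e55,
    cD] at main
  refine main.trans (le_of_eq ?_)
  push_cast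
  ring

end

end Cfsg.Agent.Lib.H8.S77
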