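import Cfsg.Agent.Lib.H1.S77.Hyp
import Cfsg.Agent.Lib.H8.S77TR

/-!
# S0429, piece (TR2): two mates of `b` do not have blocks meeting in exactly two points
-/

set_option autoImplicit false
set_option linter.unusedSectionVars false
open Cfsg

namespace Cfsg.Agent.Lib.H8.S77

open Cfsg.Agent.Lib.H1.S77 Finset

section
variable {V : Type*} [Fintype V] [DecidableEq V] {G : SimpleGraph V} [DecidableRel G.Adj]
variable {v0 : V}

/-- (TR2) overlap two: same groups; weights (-1,-2,1,-1,1,0); value -4 -/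
theorem mate_inter_ne_two (hG : G.IsSRGWith 77 16 0 4) (hp : HPsdFam G) (hn : HNadj G v0)
    {b z w : V} (hb : b ∈ nB G v0) (hz : z ∈ cls G v0 b) (hw : w ∈ cls G v0 b)
    (hzb : z ≠ b) (hwb : w ≠ b) (hzw : z ≠ w) :
    (blk G v0 z ∩ blk G v0 w).card ≠ 2 := by
  intro h
  have := mate_ineq hG hp hn hb hz hw hzb hwb hzw (-1) (-2) 1 (-1) 1 0
  rw [h] at this
  norm_num at this

end

end Cfsg.Agent.Lib.H8.S77
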