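import Mathlib
import Cfsg.Prelude.Def_Local
import Cfsg.Agent.Lib.H7.PComponent2
import Cfsg.Agent.Lib.H7.Quasisimple

/-!
# S2924, piece KEY1 (helper9's sig): a central extension of a quasisimple section has a quasisimple
commutator subgroup, which is a component.
-/

set_option autoImplicit false
open Cfsg
open scoped commutatorElement

namespace Cfsg.Agent.Lib.H8.SG

/-- if `A` commutes elementwise with `L` and `S ≤ L`, then `⁅S ⊔ A, S ⊔ A⁆ ≤ ⁅S, S⁆` -/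
theorem commutator_sup_central_le {H : Type*} [Group H] (A L S : Subgroup H) [A.Normal]
    (hAL : A ≤ L) (hcent : L ≤ Subgroup.centralizer (A : Set H)) (hSL : S ≤ L) :
    ⁅S ⊔ A, S ⊔ A⁆ ≤ ⁅S, S⁆ := by
  have hAc : ∀ a ∈ A, ∀ l ∈ L, l * a = a * l := fun a ha l hl =>
    ((Subgroup.mem_centralizer_iff.1 (hcent hl)) a ha).symm
  rw [Subgroup.commutator_le]
  intro x hx y hy
  obtain ⟨s, hs, a, ha, rfl⟩ := Subgroup.mem_sup_of_normal_right.1 hx
  obtain ⟨s', hs', a', ha', rfl⟩ := Subgroup.mem_sup_of_normal_right.1 hy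
  have e : ⁅s * a, s' * a'⁆ = ⁅s, s'⁆ := by
    have h1 : s' * a = a * s' := hAc a ha s' (hSL hs')
    have h2 : s * a' = a' * s := hAc a' ha' s (hSL hs)
    have h3 : a * a' = a' * a := (hAc a' ha' a (hAL ha))
    have h4 : s⁻¹ * a' = a' * s⁻¹ := hAc a' ha' s⁻¹ (L.inv_mem (hSL hs))
    have h5 : s'⁻¹ * a = a * s'⁻¹ := hAc a ha s'⁻¹ (L.inv_mem (hSL hs'))
    have h6 : s⁻¹ * a = a * s⁻¹ := hAc a ha s⁻¹ (L.inv_mem (hSL hs))
    have h7 : s'⁻¹ * a' = a' * s'⁻¹ := hAc a' ha' s'⁻¹ (L.inv_mem (hSL hs'))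
    rw [commutatorElement_def, commutatorElement_def]
    -- (s a)(s' a')(s a)⁻¹(s' a')⁻¹
    have e1 : (s * a)⁻¹ = s⁻¹ * a⁻¹ := by
      rw [mul_inv_rev]
      have : a⁻¹ * s⁻¹ = s⁻¹ * a⁻¹ := by
        calc a⁻¹ * s⁻¹ = a⁻¹ * (s⁻¹ * a) * a⁻¹ := by group
          _ = a⁻¹ * (a * s⁻¹) * a⁻¹ := by rw [h6]
          _ = s⁻¹ * a⁻¹ := by group
      exact this
    have e2 : (s' * a')⁻¹ = s'⁻¹ * a'⁻¹ := by
      rw [mul_inv_rev]
      calc a'⁻¹ * s'⁻¹ = a'⁻¹ * (s'⁻¹ * a') * a'⁻¹ := by group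
        _ = a'⁻¹ * (a' * s'⁻¹) * a'⁻¹ := by rw [h7]
        _ = s'⁻¹ * a'⁻¹ := by group
    rw [e1, e2]
    calc s * a * (s' * a') * (s⁻¹ * a⁻¹) * (s'⁻¹ * a'⁻¹)
        = s * (a * s') * (a' * s⁻¹) * (a⁻¹ * s'⁻¹) * a'⁻¹ := by group
      _ = s * (s' * a) * (s⁻¹ * a') * (a⁻¹ * s'⁻¹) * a'⁻¹ := by rw [h1, h4]
      _ = s * s' * (a * s⁻¹) * (a' * a⁻¹) * s'⁻¹ * a'⁻¹ := by group
      _ = s * s' * (s⁻¹ * a) * (a' * a⁻¹) * s'⁻¹ * a'⁻¹ := by rw [h6]
      _ = s * s' * s⁻¹ * (a * a') * a⁻¹ * s'⁻¹ * a'⁻¹ := by group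
      _ = s * s' * s⁻¹ * (a' * a) * a⁻¹ * s'⁻¹ * a'⁻¹ := by rw [h3]
      _ = s * s' * s⁻¹ * (a' * s'⁻¹) * a'⁻¹ := by group
      _ = s * s' * s⁻¹ * (s'⁻¹ * a') * a'⁻¹ := by rw [h7]
      _ = s * s' * s⁻¹ * s'⁻¹ := by group
  rw [e]
  exact Subgroup.commutator_mem_commutator hs hs'

/-- **KEY1** (exact sig of helper9 #8715). -/
theorem component_of_central_ext {H : Type*} [Group H] [Finite H] (A L : Subgroup H) [A.Normal]
    (hAL : A ≤ L) (hcent : L ≤ Subgroup.centralizer (A : Set H)) (hLs : L.IsSubnormal)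
    (hq : Cfsg.IsQuasisimple ↥(L.map (QuotientGroup.mk' A))) : Cfsg.IsComponent ⁅L, L⁆ := by
  set π := QuotientGroup.mk' A with hπ
  have hDL : ⁅L, L⁆ ≤ L := Subgroup.commutator_le_self L
  have hKperf : ⁅L.map π, L.map π⁆ = L.map π := Subgroup.isPerfect_iff.1 hq.1
  have hπD : (⁅L, L⁆).map π = L.map π := by rw [Subgroup.map_commutator, hKperf]
  -- generic: `π S = π L`, `S ≤ L` gives `L ≤ S ⊔ A`
  have lift : ∀ S : Subgroup H, L.map π ≤ S.map π → L ≤ S ⊔ A := by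
    intro S hS l hl
    obtain ⟨d, hd, hdl⟩ := hS (Subgroup.mem_map_of_mem π hl)
    have hA : d⁻¹ * l ∈ A := QuotientGroup.eq.1 hdl
    have : l = d * (d⁻¹ * l) := by group
    rw [this]
    exact Subgroup.mul_mem _ (Subgroup.mem_sup_left hd) (Subgroup.mem_sup_right hA)
  have hLDA : L ≤ ⁅L, L⁆ ⊔ A := lift _ hπD.ge
  -- `D` is perfect
  have hDperf : ⁅⁅L, L⁆, ⁅L, L⁆⁆ = ⁅L, L⁆ := by
    apply le_antisymm (Subgroup.commutator_le_self _)
    calc ⁅L, L⁆ ≤ ⁅⁅L, L⁆ ⊔ A, ⁅L, L⁆ ⊔ A⁆ := Subgroup.commutator_mono hLDA hLDA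
      _ ≤ ⁅⁅L, L⁆, ⁅L, L⁆⁆ := commutator_sup_central_le A L _ hAL hcent hDL
  -- subnormal
  have hDn : ((⁅L, L⁆).subgroupOf L).Normal := by
    apply Subgroup.normal_subgroupOf_of_le_normalizer
    intro l hl
    rw [Subgroup.mem_normalizer_iff]
    intro x
    have hconj : ∀ g ∈ L, ∀ y ∈ ⁅L, L⁆, g * y * g⁻¹ ∈ ⁅L, L⁆ := by
      intro g hg y hy
      have h1 : ⁅g, y⁆ ∈ ⁅L, L⁆ := Subgroup.commutator_mem_commutator hg (hDL hy)
      have : g * y * g⁻¹ = ⁅g, y⁆ * y := by rw [commutatorElement_def]; group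
      rw [this]
      exact Subgroup.mul_mem _ h1 hy
    constructor
    · intro hx
      exact hconj l hl x hx
    · intro hx
      have := hconj l⁻¹ (L.inv_mem hl) _ hx
      have e : l⁻¹ * (l * x * l⁻¹) * l⁻¹⁻¹ = x := by group
      rwa [e] at this
  have hDs : (⁅L, L⁆).IsSubnormal :=
    Subgroup.IsSubnormal.trans hDL (Subgroup.Normal.isSubnormal hDn) hLs
  refine ⟨hDs, ?_⟩
  -- quasisimple
  have hperf : Group.IsPerfect ↥(⁅L, L⁆) := Subgroup.isPerfect_iff.2 hDperf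
  have hnt : Nontrivial ↥(⁅L, L⁆) := by
    rw [Subgroup.nontrivial_iff_ne_bot]
    intro h0
    have hK : Nontrivial ↥(L.map π) := Cfsg.Agent.Lib.H7.quasisimple_nontrivial hq
    rw [Subgroup.nontrivial_iff_ne_bot] at hK
    apply hK
    rw [← hπD, h0, Subgroup.map_bot]
  apply Cfsg.Agent.Lib.H7.isQuasisimple_of_forall_normal hperf hnt
  intro N hN
  set N' : Subgroup H := N.map (⁅L, L⁆).subtype with hN'
  have hN'D : N' ≤ ⁅L, L⁆ := Subgroup.map_subtype_le _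
  have hDN' : ⁅L, L⁆ ≤ Subgroup.normalizer (N' : Set H) := by
    intro k hk
    rw [Subgroup.mem_normalizer_iff]
    intro x
    constructor
    · rintro ⟨n, hn, rfl⟩
      exact ⟨⟨k, hk⟩ * n * ⟨k, hk⟩⁻¹, hN.conj_mem n hn _, rfl⟩
    · rintro ⟨n, hn, hnx⟩
      refine ⟨⟨k, hk⟩⁻¹ * n * ⟨k, hk⟩, ?_, ?_⟩
      · have := hN.conj_mem n hn ⟨k, hk⟩⁻¹
        simpa using this
      · simp only [Subgroup.coe_subtype, Subgroup.coe_mul, InvMemClass.coe_inv] at hnx ⊢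
        rw [hnx]; group
  have hnorm : ((N'.map π).subgroupOf (L.map π)).Normal := by
    apply Subgroup.normal_subgroupOf_of_le_normalizer
    rw [← hπD]
    exact (Subgroup.map_mono hDN').trans (Subgroup.le_normalizer_map π)
  rcases Cfsg.Agent.Lib.H7.quasisimple_normal hq ((N'.map π).subgroupOf (L.map π)) with h1 | h1
  · left
    have h2 : L.map π ≤ N'.map π := Subgroup.subgroupOf_eq_top.1 h1
    have h3 : L ≤ N' ⊔ A := lift N' h2
    have h4 : ⁅L, L⁆ ≤ N' := by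
      calc ⁅L, L⁆ ≤ ⁅N' ⊔ A, N' ⊔ A⁆ := Subgroup.commutator_mono h3 h3
        _ ≤ ⁅N', N'⁆ := commutator_sup_central_le A L N' hAL hcent (hN'D.trans hDL)
        _ ≤ N' := Subgroup.commutator_le_self N'
    rw [eq_top_iff]
    intro y _
    have hy : (y : H) ∈ N' := h4 y.2
    obtain ⟨z, hz, hzy⟩ := hy
    have : z = y := Subtype.ext hzy
    rw [← this]; exact hz
  · right
    -- `⁅N', D⁆ ≤ A`
    have h2 : ⁅N', ⁅L, L⁆⁆ ≤ A := by
      rw [← QuotientGroup.ker_mk' A, ← MonoidHom.comap_bot,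
        ← Subgroup.map_le_iff_le_comap, Subgroup.map_commutator, le_bot_iff,
        Subgroup.commutator_eq_bot_iff_le_centralizer]
      intro a ha
      rw [Subgroup.mem_centralizer_iff]
      intro b hb
      have hb' : b ∈ L.map π := by
        have : b ∈ (⁅L, L⁆).map π := hb
        rwa [hπD] at this
      have haK : a ∈ L.map π := Subgroup.map_mono (hN'D.trans hDL) ha
      have h3 : (⟨a, haK⟩ : L.map π) ∈ Subgroup.center (L.map π) :=
        h1 (Subgroup.mem_subgroupOf.2 ha)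
      have h4 := Subgroup.mem_center_iff.1 h3 ⟨b, hb'⟩
      exact congrArg Subtype.val h4
    have hAD : ⁅A, ⁅L, L⁆⁆ = ⊥ := by
      rw [Subgroup.commutator_eq_bot_iff_le_centralizer]
      intro a ha
      rw [Subgroup.mem_centralizer_iff]
      intro d hd
      exact ((Subgroup.mem_centralizer_iff.1 (hcent (hDL hd))) a ha).symm
    have h3 : ⁅⁅N', ⁅L, L⁆⁆, ⁅L, L⁆⁆ = ⊥ := by
      rw [← le_bot_iff, ← hAD]
      exact Subgroup.commutator_mono h2 le_rfl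
    have h4 : ⁅⁅⁅L, L⁆, N'⁆, ⁅L, L⁆⁆ = ⊥ := by
      rw [Subgroup.commutator_comm ⁅L, L⁆ N']; exact h3
    have h5 : ⁅⁅⁅L, L⁆, ⁅L, L⁆⁆, N'⁆ = ⊥ :=
      Subgroup.commutator_commutator_eq_bot_of_rotate h4 h3
    rw [hDperf, Subgroup.commutator_eq_bot_iff_le_centralizer] at h5
    intro n hn
    rw [Subgroup.mem_center_iff]
    intro g
    have h6 := Subgroup.mem_centralizer_iff.1 (h5 g.2) (n : H) ⟨n, hn, rfl⟩
    exact Subtype.ext h6.symm

end Cfsg.Agent.Lib.H8.SG
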