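import Mathlib

/-!
# S3017 piece ENDB-ARITH (helper8): the arithmetic endgame of CASE B (pure)

`q = |H| ≥ 4`; for `χ ∈ B₀`: `d = χ(a)` (integer, constant on `H#`), `f = χ(1)`,
`R = (q-1) d²/f - (q-2) d` (class sum), `R ≥ 2d - f` (eigenvalue bound), `∑ d R = 0` (S0925(ii)),
`q ∣ f - d` (multiplicity of a nontrivial character of `H`).
-/

set_option autoImplicit false

namespace Cfsg.Agent.Lib.H8.SH

/-- from the eigenvalue bound `2d - f ≤ R` and the class-sum identity `(q-1) d² = f ((q-2) d + R)`: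
`((q-1) d - f)(d - f) ≥ 0`, hence `(q-1) d ≤ f` when `d < f`. -/
theorem le_of_eigen (q d f R : ℝ) (hf : 0 < f) (hcs : (q - 1) * d ^ 2 = f * ((q - 2) * d + R))
    (heig : 2 * d - f ≤ R) (hdf : d < f) : (q - 1) * d ≤ f := by
  have h1 : 0 ≤ ((q - 1) * d - f) * (d - f) := by
    have h2 : f * (2 * d - f) ≤ f * R := mul_le_mul_of_nonneg_left heig hf.le
    nlinarith
  by_contra hcon
  push Not at hcon
  have h3 : ((q - 1) * d - f) * (d - f) < 0 :=
    mul_neg_of_pos_of_neg (by linarith) (by linarith)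
  linarith

/-- the integer inequality behind ENDB -/
theorem endb_key (q d f : ℤ) (hq : 4 ≤ q) (hf : 0 < f) (hle : (q - 1) * d ≤ f)
    (hcong : q ∣ f - d) (hd : d ≠ 0) : f < d ^ 2 * ((q - 2) * f - (q - 1) * d) := by
  rcases lt_or_gt_of_ne hd with hneg | hpos
  · have hd2 : 1 ≤ d ^ 2 := by nlinarith
    have h1 : 2 * f ≤ (q - 2) * f := by nlinarith
    have h2 : 3 ≤ -((q - 1) * d) := by nlinarith
    have hX : f < (q - 2) * f - (q - 1) * d := by linarith
    have hX0 : 0 ≤ (q - 2) * f - (q - 1) * d := by linarith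
    calc f < (q - 2) * f - (q - 1) * d := hX
      _ ≤ d ^ 2 * ((q - 2) * f - (q - 1) * d) := le_mul_of_one_le_left hX0 hd2
  · have hd1 : 1 ≤ d := hpos
    have hf3 : 3 ≤ f := by nlinarith
    have hX : f ≤ (q - 2) * f - (q - 1) * d := by nlinarith
    have hX0 : 0 ≤ (q - 2) * f - (q - 1) * d := by linarith
    rcases hd1.lt_or_eq with hd2 | hd1'
    · have hd4 : 4 ≤ d ^ 2 := by nlinarith
      have h3 : 4 * ((q - 2) * f - (q - 1) * d) ≤ d ^ 2 * ((q - 2) * f - (q - 1) * d) :=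
        mul_le_mul_of_nonneg_right hd4 hX0
      linarith
    · subst hd1'
      rcases hq.lt_or_eq with hq5 | hq4
      · have hq5' : 5 ≤ q := hq5
        have h4 : 2 * f ≤ (q - 3) * f := by nlinarith
        nlinarith
      · subst hq4
        have hf4 : 4 ≤ f := by omega
        nlinarith

/-- **ENDB-ARITH**: the CASE B endgame. -/
theorem endb_arith {ι : Type*} (s : Finset ι) (i₀ : ι) (hi₀ : i₀ ∈ s) (q : ℕ) (hq : 4 ≤ q)
    (d f : ι → ℤ) (hf : ∀ i ∈ s, 0 < f i) (hd0 : d i₀ = 1) (hf0 : f i₀ = 1)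
    (hle : ∀ i ∈ s, i ≠ i₀ → ((q : ℤ) - 1) * d i ≤ f i)
    (hcong : ∀ i ∈ s, i ≠ i₀ → (q : ℤ) ∣ f i - d i)
    (hsum : ∑ i ∈ s, (d i : ℚ) * (((q : ℚ) - 1) * (d i : ℚ) ^ 2 / (f i : ℚ) - ((q : ℚ) - 2) * (d i : ℚ)) = 0) :
    False := by
  classical
  have hq' : (4 : ℤ) ≤ (q : ℤ) := by exact_mod_cast hq
  set u : ι → ℚ := fun i =>
    (d i : ℚ) ^ 2 * (((q : ℚ) - 2) * (f i : ℚ) - ((q : ℚ) - 1) * (d i : ℚ)) / (f i : ℚ) with hu
  have ht : ∀ i ∈ s, (d i : ℚ) * (((q : ℚ) - 1) * (d i : ℚ) ^ 2 / (f i : ℚ) -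
      ((q : ℚ) - 2) * (d i : ℚ)) = -u i := by
    intro i hi
    have hfi : (f i : ℚ) ≠ 0 := by
      have := hf i hi
      exact_mod_cast this.ne'
    simp only [hu]
    field_simp
    ring
  have h0 : u i₀ = -1 := by
    simp only [hu, hd0, hf0]
    push_cast
    ring
  have hu_cases : ∀ i ∈ s.erase i₀, u i = 0 ∨ 1 < u i := by
    intro i hi
    obtain ⟨hne, his⟩ := Finset.mem_erase.1 hi
    by_cases hd : d i = 0
    · left
      simp only [hu, hd]
      push_cast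
      ring
    · right
      have hkey := endb_key (q : ℤ) (d i) (f i) hq' (hf i his) (hle i his hne) (hcong i his hne) hd
      have hfi : (0 : ℚ) < (f i : ℚ) := by
        have := hf i his
        exact_mod_cast this
      simp only [hu]
      rw [lt_div_iff₀ hfi, one_mul]
      have : ((f i : ℤ) : ℚ) < ((d i ^ 2 * (((q : ℤ) - 2) * f i - ((q : ℤ) - 1) * d i) : ℤ) : ℚ) := by
        exact_mod_cast hkey
      push_cast at this
      exact this
  have hsum' : ∑ i ∈ s.erase i₀, u i = 1 := by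
    have h1 : ∑ i ∈ s, -u i = 0 := by
      rw [← hsum]
      exact Finset.sum_congr rfl (fun i hi => (ht i hi).symm)
    rw [Finset.sum_neg_distrib, neg_eq_zero, ← Finset.add_sum_erase s u hi₀, h0] at h1
    linarith
  have hnn : ∀ i ∈ s.erase i₀, 0 ≤ u i := by
    intro i hi
    rcases hu_cases i hi with h | h
    · rw [h]
    · linarith
  by_cases hall : ∀ i ∈ s.erase i₀, u i = 0
  · rw [Finset.sum_eq_zero hall] at hsum'
    exact zero_ne_one hsum'
  · push Not at hall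
    obtain ⟨i₁, hi₁, hne⟩ := hall
    have h1 : 1 < u i₁ := by
      rcases hu_cases i₁ hi₁ with h | h
      · exact absurd h hne
      · exact h
    have h2 : u i₁ ≤ ∑ i ∈ s.erase i₀, u i := Finset.single_le_sum hnn hi₁
    rw [hsum'] at h2
    linarith

/-- ENDB with the class-sum and eigenvalue inputs (`R` explicit, real form). -/
theorem endb_core {ι : Type*} (s : Finset ι) (i₀ : ι) (hi₀ : i₀ ∈ s) (q : ℕ) (hq : 4 ≤ q)
    (d f : ι → ℤ) (R : ι → ℝ) (hf : ∀ i ∈ s, 0 < f i) (hd0 : d i₀ = 1) (hf0 : f i₀ = 1)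
    (hdf : ∀ i ∈ s, i ≠ i₀ → d i < f i)
    (hcs : ∀ i ∈ s, ((q : ℝ) - 1) * (d i : ℝ) ^ 2 = (f i : ℝ) * (((q : ℝ) - 2) * (d i : ℝ) + R i))
    (heig : ∀ i ∈ s, 2 * (d i : ℝ) - (f i : ℝ) ≤ R i)
    (hcong : ∀ i ∈ s, i ≠ i₀ → (q : ℤ) ∣ f i - d i)
    (hsum : ∑ i ∈ s, (d i : ℝ) * R i = 0) : False := by
  refine endb_arith s i₀ hi₀ q hq d f hf hd0 hf0 ?_ hcong ?_
  · intro i hi hne
    have hfi : (0 : ℝ) < (f i : ℝ) := by
      have := hf i hi
      exact_mod_cast this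
    have hdfi : (d i : ℝ) < (f i : ℝ) := by
      have := hdf i hi hne
      exact_mod_cast this
    have h1 := le_of_eigen (q : ℝ) (d i : ℝ) (f i : ℝ) (R i) hfi (hcs i hi) (heig i hi) hdfi
    have h2 : (((q : ℤ) - 1) * d i : ℤ) ≤ f i := by
      have : ((((q : ℤ) - 1) * d i : ℤ) : ℝ) ≤ ((f i : ℤ) : ℝ) := by
        push_cast
        exact h1
      exact_mod_cast this
    exact h2
  · have hR : ∀ i ∈ s, R i = ((q : ℝ) - 1) * (d i : ℝ) ^ 2 / (f i : ℝ) - ((q : ℝ) - 2) * (d i : ℝ) := by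
      intro i hi
      have hfi : (f i : ℝ) ≠ 0 := by
        have := hf i hi
        exact_mod_cast this.ne'
      have h := hcs i hi
      field_simp
      linarith
    have h1 : ∑ i ∈ s, (d i : ℝ) * (((q : ℝ) - 1) * (d i : ℝ) ^ 2 / (f i : ℝ) -
        ((q : ℝ) - 2) * (d i : ℝ)) = 0 := by
      rw [← hsum]
      exact Finset.sum_congr rfl (fun i hi => by rw [hR i hi])
    have h2 : ((∑ i ∈ s, (d i : ℚ) * (((q : ℚ) - 1) * (d i : ℚ) ^ 2 / (f i : ℚ) -
        ((q : ℚ) - 2) * (d i : ℚ)) : ℚ) : ℝ) = ((0 : ℚ) : ℝ) := by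
      push_cast
      exact h1
    exact_mod_cast h2

end Cfsg.Agent.Lib.H8.SH
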