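/-
S4613 (architect helper19), piece **PSU** (helper8): `SylRigid p (PSU_n(q))`, `n ≥ 3`, in the exact form of
`tools/blueprints/S4613_sigs.lean`.

Route: `PSU n F q ≃* SUs φ / Z` (flag form, `Lib/H23/FBNISO`).  `n ≥ 4`: criterion (GEN) for a central quotient with
`R = Us`, `Q₁` = radical of the stabiliser of the isotropic point `e₀` (`shape1`), `Q₂` = radical of the minimal parabolic of the
first node (`shape2`); `C(Q_i) ≤ Z Q_i` by a matrix unit computation (`Lib/H8/PAutPSUa`), normalisers: `B` and the reflections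
`s_j t_j` (`j ≥ 1` for `Q₁`, `j = 0` for `Q₂`), generation from the restricted (B,N)-pair.  `n = 3`: (GEN) with `Q₁ = U`
gives `α = 1` on `B`, then the rank one argument (`Lib/H8/PAutGen.r1_fix`, `Lib/H8/PAutBN`).
-/
import Cfsg.Agent.Lib.H8.PAutPSUf

set_option autoImplicit false

namespace Cfsg.Agent.Lib.H8.SR

open Cfsg Cfsg.Agent.Lib.H19.SR

/-- PSU -/
theorem sylRigid_PSU (F : Type*) [Field F] [Fintype F] (p : ℕ) [Fact p.Prime] [CharP F p] (n q : ℕ)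
    (hF : Fintype.card F = q ^ 2) (hn : 3 ≤ n) (h32 : ¬ (n = 3 ∧ q = 2)) (hs : IsSimpleGroup (PSU n F q)) :
    SylRigid p (PSU n F q) := by
  obtain ⟨φ, hφ, hφ2⟩ := Cfsg.Agent.Lib.H4.exists_frob hF
  obtain ⟨ψ⟩ := Cfsg.Agent.Lib.H23.FBN.nonempty_iso φ hF hφ n
  let e : (↥(Cfsg.Agent.Lib.H8.FBN.SUs (n := n) φ) ⧸ Subgroup.center ↥(Cfsg.Agent.Lib.H8.FBN.SUs (n := n) φ)) ≃*
      PSU n F q := Cfsg.Agent.Lib.H8.BNSteinberg.centerQuotientCongr ψ
  apply SylRigid.of_equiv e.symm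
  rcases Nat.lt_or_ge n 4 with h | h
  · have h3 : n = 3 := by omega
    subst h3
    haveI := hs
    exact Cfsg.Agent.Lib.H8.PAut.sylRigid_SUs_three φ hF hφ hφ2 p e.isSimpleGroup
  · exact Cfsg.Agent.Lib.H8.PAut.sylRigid_SUs_of_four_le φ hF hφ hφ2 h p

end Cfsg.Agent.Lib.H8.SR
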