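import Mathlib
import Cfsg.Agent.Lib.H8.SUN4
import Cfsg.Agent.Lib.H8.SUN6
import Cfsg.Agent.Lib.H7.SunR5
import Cfsg.Agent.Lib.H20.SunMid

set_option autoImplicit false

/-!
# S2282: the case `q ≥ 3` in the antidiagonal model (helper8)
-/

namespace Cfsg.Agent.Lib.H8.SUN

open Matrix Cfsg.Agent.Lib.H8.SU3Gen Cfsg.Agent.Lib.H20.SunMid

variable {F : Type*} [Field F] {σ : F →+* F}

/-! ### bridge between the `3`-dimensional models -/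

theorem dagn_eq_dag (σ : F →+* F) (M : Matrix (Fin 3) (Fin 3) F) : dagn σ M = dag σ M := by
  ext i j
  rw [dagn_apply]
  fin_cases i <;> fin_cases j <;> rfl

/-- the identity map `SUJn σ 3 → SUJ σ` -/
def toJ : SUJn σ 3 →* SUJ σ where
  toFun x := ⟨x.1, by rw [mem_SUJ, ← dagn_eq_dag]; exact x.2⟩
  map_one' := rfl
  map_mul' _ _ := rfl

theorem mat_toJ (x : SUJn σ 3) : mat (toJ x) = matn x := rfl

theorem toJ_injective : Function.Injective (toJ (σ := σ)) := by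
  intro x y h
  apply matn_injective
  rw [← mat_toJ, ← mat_toJ, h]

/-- transfer of the generation statement -/
theorem eq_top_of_toJ (K : Subgroup (SUJn σ 3)) (h : K.map toJ = ⊤) : K = ⊤ := by
  rw [eq_top_iff]
  intro y _
  have : toJ y ∈ K.map toJ := by rw [h]; trivial
  obtain ⟨y', hy', hyy⟩ := this
  rw [← toJ_injective hyy]
  exact hy'

/-! ### the (non-split) torus elements `diag(ν, 1, (σ ν)⁻¹)` -/

/-- `diag(ν, 1, (σ ν)⁻¹)` -/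
def dM (σ : F →+* F) (ν : F) : Matrix (Fin 3) (Fin 3) F := !![ν, 0, 0; 0, 1, 0; 0, 0, (σ ν)⁻¹]

theorem det_dM (σ : F →+* F) (ν : F) : (dM σ ν).det = ν * (σ ν)⁻¹ := by
  simp [dM, det_fin_three]

theorem dag_dM (σ : F →+* F) (hσ : ∀ x, σ (σ x) = x) (ν : F) : dag σ (dM σ ν) = dM σ ν⁻¹ := by
  ext i j
  fin_cases i <;> fin_cases j <;> simp [dag, dM, hσ]

theorem dM_inv_mul (σ : F →+* F) {ν : F} (hν : ν ≠ 0) : dM σ ν⁻¹ * dM σ ν = 1 := by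
  have h2 : σ ν ≠ 0 := by rw [Ne, map_eq_zero]; exact hν
  ext i j
  fin_cases i <;> fin_cases j <;> simp [dM, Matrix.mul_apply, Fin.sum_univ_three, hν, h2]

theorem dM_uM_dM (σ : F →+* F) {ν : F} (hν : ν ≠ 0) (a b : F) :
    dM σ ν * uM σ a b * dM σ ν⁻¹ = uM σ (ν * a) (ν * σ ν * b) := by
  have h2 : σ ν ≠ 0 := by rw [Ne, map_eq_zero]; exact hν
  ext i j
  fin_cases i <;> fin_cases j <;>
    simp [dM, uM, Matrix.mul_apply, Fin.sum_univ_three, hν, h2] <;> ring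

theorem dM_col (σ : F →+* F) (ν : F) (i : Fin 3) : dM σ ν i 1 = if i = 1 then 1 else 0 := by
  fin_cases i <;> simp [dM]

theorem dM_row (σ : F →+* F) (ν : F) (j : Fin 3) : dM σ ν 1 j = if j = 1 then 1 else 0 := by
  fin_cases j <;> simp [dM]

theorem tM_col (l : F) (i : Fin 3) : tM l i 1 = if i = 1 then 1 else 0 := by
  fin_cases i <;> simp [tM]

theorem tM_row (l : F) (j : Fin 3) : tM l 1 j = if j = 1 then 1 else 0 := by
  fin_cases j <;> simp [tM]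

/-- conjugating `u(a,b)` by `μ • (w d(ν))` -/
theorem hk_conj (σ : F →+* F) (hσ : ∀ x, σ (σ x) = x) {ν μ : F} (hν : ν ≠ 0)
    (hμ : μ * σ μ = 1) (a b : F) :
    (μ • (wM F * dM σ ν)) * uM σ a b * dagn σ (μ • (wM F * dM σ ν)) =
      vM σ (ν * a) (ν * σ ν * b) := by
  rw [dagn_smul, dagn_eq_dag, dag_mul, dag_dM σ hσ, dag_wM, Matrix.smul_mul, Matrix.smul_mul,
    Matrix.mul_smul, smul_smul, mul_comm (μ) (σ μ), mul_comm (σ μ) μ, hμ, one_smul,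
    ← wM_uM_wM, ← dM_uM_dM σ hν]
  simp only [Matrix.mul_assoc]

theorem hk_unitary (σ : F →+* F) (hσ : ∀ x, σ (σ x) = x) {ν μ : F} (hν : ν ≠ 0)
    (hμ : μ * σ μ = 1) :
    (μ • (wM F * dM σ ν)) * dagn σ (μ • (wM F * dM σ ν)) = 1 := by
  rw [dagn_smul, dagn_eq_dag, dag_mul, dag_dM σ hσ, dag_wM, Matrix.smul_mul,
    Matrix.mul_smul, smul_smul, hμ, one_smul]
  apply mul_eq_one_comm.mp
  rw [Matrix.mul_assoc, ← Matrix.mul_assoc (wM F), wM_mul_wM, Matrix.one_mul, dM_inv_mul σ hν]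

/-! ### the model statement for `q ≥ 3` -/

theorem uM_upper (σ : F →+* F) (a b : F) (i j : Fin 3) (h : j < i) : uM σ a b i j = 0 := by
  fin_cases i <;> fin_cases j <;> first | (exact absurd h (by decide)) | simp [uM]

theorem uM_diag (σ : F →+* F) (a b : F) (i : Fin 3) : uM σ a b i i = 1 := by
  fin_cases i <;> simp [uM]

theorem uM_super (σ : F →+* F) {a : F} (ha : a ≠ 0) (b : F) (i j : Fin 3)
    (h : (j : ℕ) = (i : ℕ) + 1) : uM σ a b i j ≠ 0 := by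
  have h2 : σ a ≠ 0 := by rw [Ne, map_eq_zero]; exact ha
  fin_cases i <;> fin_cases j <;> first | (exact absurd h (by decide)) | simp [uM, ha, h2]

theorem model_of_local3 (hσ : ∀ x, σ (σ x) = x) {ω : F} (hω : ω + σ ω = 1) {c₀ : F}
    (hc₀ : c₀ ≠ 0) (hc₀' : c₀ + σ c₀ = 0) {n : ℕ} (hn : 3 < n) (hodd : Odd n)
    (Cm : Matrix (Fin n) (Fin n) F) (hCu : dagn σ Cm * Cm = 1) (hCdet : Cm.det = 1)
    (hC1 : ∀ i j : Fin n, j < i → Cm i j = 0) (hC2 : ∀ i, Cm i i = 1)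
    (hC3 : ∀ i j : Fin n, ((i : ℕ) < 1 ∨ n ≤ (i : ℕ) + 1) → i ≠ j → Cm i j = 0 ∧ Cm j i = 0)
    (hC4 : ∀ i j : Fin n, 1 ≤ (i : ℕ) → (j : ℕ) = (i : ℕ) + 1 → (j : ℕ) + 1 < n → Cm i j ≠ 0)
    (hL4 : ∀ M : Matrix (Fin 3) (Fin 3) F, (∀ i, M i 1 = if i = 1 then 1 else 0) →
      (∀ j, M 1 j = if j = 1 then 1 else 0) →
      (midFrame (σ := σ) hω (show 3 = 2 * 1 + 1 by norm_num) hn).emb M * Cm =
        Cm * (midFrame (σ := σ) hω (show 3 = 2 * 1 + 1 by norm_num) hn).emb M)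
    {a b ν₁ ν μ : F} (ha : a ≠ 0) (hab : b + σ b + a * σ a = 0) (hν₁ : σ ν₁ = ν₁)
    (hν₁0 : ν₁ ≠ 0) (hν0 : ν ≠ 0) (hμ1 : μ * σ μ = 1) (hμ2 : μ ^ n * ν = σ ν)
    (hloc : ∀ (K : Subgroup (SUJ σ)) (x₁ k₂ : SUJ σ),
      mat x₁ = uM σ a b * uM σ (-(ν₁ * a)) (ν₁ ^ 2 * σ b) →
      mat k₂ = uM σ a b * vM σ (-(ν * a)) (ν * σ ν * σ b) →
      x₁ ∈ K → k₂ ∈ K → K = ⊤) :
    ∃ X G H' : SUJn σ n, (IsNilpotent (matn X - 1) ∧ (matn X - 1) ^ (n - 1) ≠ 0) ∧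
      ∀ (g : SUJn σ n) (v : Fin n → F) (c : F), hJn σ v v = 0 → c + σ c = 0 →
        matn g = tJn σ v c →
          g ∈ Subgroup.closure ({X, G * X * G⁻¹, H' * X * H'⁻¹} : Set (SUJn σ n)) := by
  have hk3 : (3 : ℕ) = 2 * 1 + 1 := by norm_num
  have hn0 : 0 < n := by omega
  have hn2 : 2 ≤ n := by omega
  obtain ⟨fr, hfr⟩ : ∃ fr : SubFrame σ n 3, fr = midFrame (σ := σ) hω hk3 hn := ⟨_, rfl⟩
  have hfrP : fr.P = midP ω n 1 3 := by rw [hfr]; rfl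
  have hσν0 : σ ν ≠ 0 := by rw [Ne, map_eq_zero]; exact hν0
  -- the elements
  obtain ⟨C, hCdef⟩ : ∃ C : SUJn σ n, matn C = Cm := ⟨mkJn σ Cm hCdet hCu, rfl⟩
  obtain ⟨xk, hxk⟩ : ∃ xk : SUJn σ 3, matn xk = uM σ a b :=
    ⟨mkJn σ (uM σ a b) (det_uM σ a b) (by rw [dagn_eq_dag]; exact dag_uM_mul σ hσ a b hab), rfl⟩
  have htk : dagn σ (tM ν₁) * tM ν₁ = 1 := by rw [dagn_eq_dag, dag_tM σ hν₁, tM_mul_tM hν₁0]
  have htk' : tM ν₁ * dagn σ (tM ν₁) = 1 := mul_eq_one_comm.mp htk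
  obtain ⟨tk, htkm⟩ : ∃ tk : SUJn σ 3, matn tk = tM ν₁ := ⟨mkJn σ (tM ν₁) (det_tM hν₁0) htk, rfl⟩
  obtain ⟨G, hG⟩ : ∃ G : SUJn σ n, G = fr.iota hσ tk := ⟨_, rfl⟩
  have hGm : matn G = fr.emb (tM ν₁) := by rw [hG, SubFrame.matn_iota, htkm]
  -- the matrix of `H'`
  obtain ⟨hk, hhkdef⟩ : ∃ hk : Matrix (Fin 3) (Fin 3) F, hk = μ • (wM F * dM σ ν) := ⟨_, rfl⟩
  obtain ⟨Hm, hHm⟩ : ∃ Hm : Matrix (Fin n) (Fin n) F,
      Hm = μ • (wt σ n hn0 * fr.emb (dM σ ν)) := ⟨_, rfl⟩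
  have hdMu : dagn σ (dM σ ν) * dM σ ν = 1 := by
    rw [dagn_eq_dag, dag_dM σ hσ, dM_inv_mul σ hν0]
  have hHdet : Hm.det = 1 := by
    rw [hHm, Matrix.det_smul, Fintype.card_fin, Matrix.det_mul, det_wt hn2 hodd, fr.det_emb,
      det_dM, one_mul, ← mul_assoc, hμ2, mul_inv_cancel₀ hσν0]
  have hHu : dagn σ Hm * Hm = 1 := by
    rw [hHm, dagn_smul, Matrix.smul_mul, Matrix.mul_smul, smul_smul, mul_comm (σ μ) μ, hμ1,
      one_smul, dagn_mul, fr.dagn_emb hσ, Matrix.mul_assoc,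
      ← Matrix.mul_assoc (dagn σ (wt σ n hn0)), wt_unitary hσ hn2, Matrix.one_mul, ← fr.emb_mul,
      hdMu, fr.emb_one]
  obtain ⟨H', hH'⟩ : ∃ H' : SUJn σ n, matn H' = Hm := ⟨mkJn σ Hm hHdet hHu, rfl⟩
  -- commutation with `C`
  have hGC : G * C = C * G := by
    apply matn_injective
    rw [matn_mul, matn_mul, hGm, hCdef, hfr]
    exact hL4 _ (tM_col ν₁) (tM_row ν₁)
  have hHC : H' * C = C * H' := by
    apply matn_injective
    rw [matn_mul, matn_mul, hH', hCdef, hHm, Matrix.smul_mul, Matrix.mul_smul, Matrix.mul_assoc,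
      hfr, hL4 _ (dM_col σ ν) (dM_row σ ν), ← Matrix.mul_assoc,
      wt_mul_comm hσ (le_refl 1) hn0 Cm hC2 hC3 hCu, Matrix.mul_assoc]
  -- action on the frame
  have hGP : matn G * fr.P = fr.P * tM ν₁ := by rw [hGm, fr.emb_mul_P]
  have hHP : matn H' * fr.P = fr.P * hk := by
    rw [hH', hHm, hhkdef, Matrix.smul_mul, Matrix.mul_smul, Matrix.mul_assoc, fr.emb_mul_P,
      ← Matrix.mul_assoc, hfrP, wt_mul_midP hn, Matrix.mul_assoc]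
  have hhk : hk * dagn σ hk = 1 := by rw [hhkdef]; exact hk_unitary σ hσ hν0 hμ1
  -- the two commutators
  obtain ⟨x₁, hx₁⟩ : ∃ x₁ : SUJn σ 3, x₁ = xk * (tk * xk * tk⁻¹)⁻¹ := ⟨_, rfl⟩
  have hx₁m : matn x₁ = matn xk * dagn σ (tM ν₁ * matn xk * dagn σ (tM ν₁)) := by
    rw [hx₁, matn_mul, matn_inv, matn_mul, matn_mul, matn_inv, htkm]
  have hhkinv : ∃ hkJ : Matrix (Fin 3) (Fin 3) F, hkJ = hk * uM σ a b * dagn σ hk := ⟨_, rfl⟩
  have hvu : dagn σ (vM σ (ν * a) (ν * σ ν * b)) * vM σ (ν * a) (ν * σ ν * b) = 1 := by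
    rw [dagn_eq_dag]
    apply dag_vM_mul σ hσ
    have : σ (ν * σ ν * b) = ν * σ ν * σ b := by rw [map_mul, map_mul, hσ]; ring
    rw [this, map_mul]
    linear_combination (ν * σ ν) * hab
  obtain ⟨vk, hvk⟩ : ∃ vk : SUJn σ 3, matn vk = vM σ (ν * a) (ν * σ ν * b) :=
    ⟨mkJn σ _ (det_vM σ _ _) hvu, rfl⟩
  obtain ⟨k₂, hk₂⟩ : ∃ k₂ : SUJn σ 3, k₂ = xk * vk⁻¹ := ⟨_, rfl⟩
  have hk₂m : matn k₂ = matn xk * dagn σ (hk * matn xk * dagn σ hk) := by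
    rw [hk₂, matn_mul, matn_inv, hvk, hxk, hhkdef, hk_conj σ hσ hν0 hμ1]
  -- local generation
  have hgen : ∀ K : Subgroup (SUJn σ 3), x₁ ∈ K → k₂ ∈ K → K = ⊤ := by
    intro K h1 h2
    apply eq_top_of_toJ
    apply hloc (K.map toJ) (toJ x₁) (toJ k₂)
    · rw [mat_toJ, hx₁m, hxk, dagn_eq_dag, dagn_eq_dag, dag_tM σ hν₁, tM_uM_tM σ hν₁ hν₁0,
        dag_uM σ hσ, map_mul, map_pow, hν₁]
    · rw [mat_toJ, hk₂m, hxk, hhkdef, hk_conj σ hσ hν0 hμ1, dagn_eq_dag, dag_vM σ hσ]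
      congr 2
      rw [map_mul, map_mul, hσ]; ring
    · exact Subgroup.mem_map_of_mem _ h1
    · exact Subgroup.mem_map_of_mem _ h2
  -- the vectors `e0`, `el` of the frame
  have hPe0 : fr.P *ᵥ (Pi.single (0 : Fin 3) (1 : F)) = Pi.single (⟨0, hn0⟩ : Fin n) 1 := by
    rw [hfrP]
    exact midP_mulVec_first (le_refl 1) (0 : Fin 3) rfl ⟨0, hn0⟩ rfl
  have hPel : fr.P *ᵥ (Pi.single (2 : Fin 3) (1 : F)) =
      Pi.single (⟨n - 1, by omega⟩ : Fin n) 1 := by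
    rw [hfrP]
    exact midP_mulVec_last hk3 (le_refl 1) (2 : Fin 3) rfl ⟨n - 1, by omega⟩
      (by simp only; omega)
  have hCu0 : matn C *ᵥ (fr.P *ᵥ (Pi.single (0 : Fin 3) (1 : F))) =
      fr.P *ᵥ (Pi.single (0 : Fin 3) (1 : F)) := by
    rw [hPe0, hCdef]
    exact mulVec_single_of_trivial_col Cm _ (hC2 _)
      (fun j hj => (hC3 _ j (Or.inl (by simp)) hj).2)
  have hcyc : ∀ b : Fin n → F, hJn σ b (fr.P *ᵥ (Pi.single (0 : Fin 3) (1 : F))) = 0 →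
      hJn σ b (fr.P *ᵥ (Pi.single (2 : Fin 3) (1 : F))) = 0 →
      b ∈ Submodule.span F {v | ∃ (i : ℕ) (bk : Fin 3 → F),
        hJn σ bk (Pi.single (0 : Fin 3) (1 : F)) = 0 ∧
        hJn σ bk (Pi.single (2 : Fin 3) (1 : F)) = 0 ∧
        v = (matn C ^ i) *ᵥ (fr.P *ᵥ bk)} := by
    intro b hb0 hbl
    rw [hPe0, hJn_single_right] at hb0
    rw [hPel, hJn_single_right] at hbl
    have hb0' : b ⟨n - 1, by omega⟩ = 0 := by
      have : (⟨n - 1, by omega⟩ : Fin n) = Fin.rev ⟨0, hn0⟩ := by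
        apply Fin.ext; rw [Fin.val_rev]
      rw [this]; exact hb0
    have hbl' : b ⟨0, by omega⟩ = 0 := by
      have : (⟨0, by omega⟩ : Fin n) = Fin.rev ⟨n - 1, by omega⟩ := by
        apply Fin.ext; rw [Fin.val_rev]; simp only; omega
      rw [this]; exact hbl
    have h := Cfsg.Agent.Lib.H7.SunR.span_mid (ω := ω) hk3 (le_refl 1) hn Cm hC1 hC2 hC3 hC4 b
      hbl' hb0'
    refine Submodule.span_mono ?_ h
    rintro v ⟨i, bk, h0, hl, rfl⟩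
    refine ⟨i, bk, ?_, ?_, ?_⟩
    · rw [hJn_single_right]; exact hl
    · rw [hJn_single_right]; exact h0
    · rw [hCdef, hfrP]
  -- assemble
  refine ⟨fr.iota hσ xk * C, G, H', ?_, ?_⟩
  · rw [matn_mul, SubFrame.matn_iota, hxk, hCdef, hfr]
    exact Cfsg.Agent.Lib.H7.SunR.regular_mid hω hk3 hn (uM σ a b) (uM_upper σ a b) (uM_diag σ a b)
      (uM_super σ ha b) Cm hC1 hC2 hC3 hC4
  · exact tJn_mem_gens3 hσ hω hc₀ hc₀' fr C G H' xk x₁ k₂ (tM ν₁) hk htk' hhk hGP hHP hGC hHC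
      hx₁m hk₂m hgen (Pi.single 0 1) (Pi.single 2 1)
      (by rw [hJn_single]; simp) (by rw [hJn_single]; simp) (by rw [hJn_single]; simp)
      hCu0 hcyc

end Cfsg.Agent.Lib.H8.SUN
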