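import Mathlib
import Cfsg.Agent.Lib.H8.SUN7
import Cfsg.Agent.Lib.H8.SU3H
import Cfsg.Agent.Lib.H18.SunL4
import Cfsg.Agent.Lib.H18.SunTr2

set_option autoImplicit false

/-!
# S2282: existence lemmas and the two model theorems (helper8)
-/

namespace Cfsg.Agent.Lib.H8.SUN

open Matrix Cfsg.Agent.Lib.H8.SU3Gen Cfsg.Agent.Lib.H20.SunMid

variable {F : Type*} [Field F] {σ : F →+* F}

section exist

variable [Fintype F] {q : ℕ}

theorem two_le_q (hF : Fintype.card F = q ^ 2) : 2 ≤ q := by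
  have h1 : 1 < Fintype.card F := Fintype.one_lt_card
  rw [hF] at h1
  by_contra h
  have : q = 0 ∨ q = 1 := by omega
  rcases this with rfl | rfl <;> simp at h1

/-- an element not fixed by the Frobenius `x ↦ x ^ q` -/
theorem exists_not_fixed (hF : Fintype.card F = q ^ 2) (σ : F →+* F) (hσq : ∀ x, σ x = x ^ q) :
    ∃ η : F, σ η ≠ η := by
  classical
  have hq := two_le_q hF
  by_contra hcon
  have hcon : ∀ η : F, σ η = η := by
    intro η
    by_contra h'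
    exact hcon ⟨η, h'⟩
  have hroot : ∀ x : F, x ∈ (Polynomial.X ^ q - Polynomial.X : Polynomial F).roots := by
    intro x
    have hne : (Polynomial.X ^ q - Polynomial.X : Polynomial F) ≠ 0 :=
      FiniteField.X_pow_card_sub_X_ne_zero F (by omega)
    rw [Polynomial.mem_roots hne, Polynomial.IsRoot, Polynomial.eval_sub, Polynomial.eval_pow,
      Polynomial.eval_X, ← hσq, hcon, sub_self]
  have h1 : Fintype.card F ≤ Multiset.card (Polynomial.X ^ q - Polynomial.X : Polynomial F).roots := by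
    rw [← Finset.card_univ]
    calc (Finset.univ : Finset F).card
        ≤ (Polynomial.X ^ q - Polynomial.X : Polynomial F).roots.toFinset.card := by
          apply Finset.card_le_card
          intro x _
          rw [Multiset.mem_toFinset]
          exact hroot x
      _ ≤ _ := Multiset.toFinset_card_le _
  have h2 := Polynomial.card_roots' (Polynomial.X ^ q - Polynomial.X : Polynomial F)
  rw [FiniteField.X_pow_card_sub_X_natDegree_eq F (by omega)] at h2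
  rw [hF] at h1
  nlinarith

/-- trace one, trace zero and non-fixed elements -/
theorem exists_params (hF : Fintype.card F = q ^ 2) (σ : F →+* F) (hσq : ∀ x, σ x = x ^ q)
    (hσ : ∀ x, σ (σ x) = x) :
    ∃ ω c₀ η : F, ω + σ ω = 1 ∧ c₀ ≠ 0 ∧ c₀ + σ c₀ = 0 ∧ σ η ≠ η := by
  obtain ⟨-, ω, hω⟩ := exists_frame_omega hF σ hσq
  obtain ⟨η, hη⟩ := exists_not_fixed hF σ hσq
  refine ⟨ω, η - σ η, η, hω, ?_, ?_, hη⟩
  · intro h
    apply hη
    rw [sub_eq_zero] at h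
    exact h.symm
  · rw [map_sub, hσ]; ring

/-- the scalar correcting the determinant -/
theorem exists_mu (hF : Fintype.card F = q ^ 2) (σ : F →+* F) (hσq : ∀ x, σ x = x ^ q)
    {n : ℕ} (hodd : Odd n) {ν : F} (hν0 : ν ≠ 0) (h : σ ν = ν ∨ Nat.card F = 9) :
    ∃ μ : F, μ * σ μ = 1 ∧ μ ^ n * ν = σ ν := by
  rcases h with h | h
  · exact ⟨1, by rw [map_one, mul_one], by rw [one_pow, one_mul, h]⟩
  · rw [Nat.card_eq_fintype_card, hF] at h
    have hq3 : q = 3 := by nlinarith [two_le_q hF]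
    subst hq3
    have h8 : ν ^ 8 = 1 := by
      have := FiniteField.pow_card_sub_one_eq_one ν hν0
      rw [hF] at this
      exact this
    obtain ⟨j, rfl⟩ := hodd
    refine ⟨ν ^ (2 * (2 * j + 1)), ?_, ?_⟩
    · rw [hσq, ← pow_mul]
      calc ν ^ (2 * (2 * j + 1)) * ν ^ (2 * (2 * j + 1) * 3)
          = ν ^ (8 * (2 * j + 1)) := by rw [← pow_add]; congr 1; ring
        _ = 1 := by rw [pow_mul, h8, one_pow]
    · rw [hσq, ← pow_mul, ← pow_succ]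
      have : 2 * (2 * j + 1) * (2 * j + 1) + 1 = 8 * (j * j + j) + 3 := by ring
      rw [this, pow_add, pow_mul, h8, one_pow, one_mul]

/-- the model statement for `q ≥ 3`, `n ≥ 5` -/
theorem model_q3 (hF : Fintype.card F = q ^ 2) (σ : F →+* F) (hσq : ∀ x, σ x = x ^ q)
    (hσ : ∀ x, σ (σ x) = x) {n : ℕ} (hn : 3 < n) (hodd : Odd n) (hloc : Local3 σ) :
    ∃ X G H' : SUJn σ n, (IsNilpotent (matn X - 1) ∧ (matn X - 1) ^ (n - 1) ≠ 0) ∧
      ∀ (g : SUJn σ n) (v : Fin n → F) (c : F), hJn σ v v = 0 → c + σ c = 0 →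
        matn g = tJn σ v c →
          g ∈ Subgroup.closure ({X, G * X * G⁻¹, H' * X * H'⁻¹} : Set (SUJn σ n)) := by
  obtain ⟨ω, c₀, η, hω, hc₀, hc₀', hη⟩ := exists_params hF σ hσq hσ
  obtain ⟨a, b, ν₁, ν, ha, hab, hν₁, hν₁0, hν0, hνc, hgen3⟩ := hloc
  obtain ⟨μ, hμ1, hμ2⟩ := exists_mu hF σ hσq hodd hν0 hνc
  obtain ⟨Cm, hCu, hCdet, hC1, hC2, hC3, hC4⟩ := Cfsg.Agent.Lib.H7.SunR.exists_mid hσ hη n 1
  exact model_of_local3 hσ hω hc₀ hc₀' hn hodd Cm hCu hCdet hC1 hC2 hC3 hC4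
    (fun M hMc hMr => Cfsg.Agent.Lib.H18.SunTr.emb_comm_mid' hω _ hn M hMc hMr Cm hC2 hC3)
    ha hab hν₁ hν₁0 hν0 hμ1 hμ2 hgen3

end exist

/-- the model statement from `Local5`, `n ≥ 7` -/
theorem model_of_local5 (hσ : ∀ x, σ (σ x) = x) {ω : F} (hω : ω + σ ω = 1) {c₀ : F}
    (hc₀ : c₀ ≠ 0) (hc₀' : c₀ + σ c₀ = 0) {η : F} (hη : σ η ≠ η) {n : ℕ} (hn : 5 < n)
    (h5 : Local5 σ) :
    ∃ X G H' : SUJn σ n, (IsNilpotent (matn X - 1) ∧ (matn X - 1) ^ (n - 1) ≠ 0) ∧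
      ∀ (g : SUJn σ n) (v : Fin n → F) (c : F), hJn σ v v = 0 → c + σ c = 0 →
        matn g = tJn σ v c →
          g ∈ Subgroup.closure ({X, G * X * G⁻¹, H' * X * H'⁻¹} : Set (SUJn σ n)) := by
  obtain ⟨x, g, h, hx1, hx2, hx3, hgc, hgr, hhc, hhr, hK⟩ := h5
  obtain ⟨Cm, hCu, hCdet, hC1, hC2, hC3, hC4⟩ := Cfsg.Agent.Lib.H7.SunR.exists_mid hσ hη n 2
  have hk5 : (5 : ℕ) = 2 * 2 + 1 := by norm_num
  have hn0 : 0 < n := by omega
  obtain ⟨fr, hfr⟩ : ∃ fr : SubFrame σ n 5, fr = midFrame (σ := σ) hω hk5 hn := ⟨_, rfl⟩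
  have hfrP : fr.P = midP ω n 2 5 := by rw [hfr]; rfl
  obtain ⟨C, hCdef⟩ : ∃ C : SUJn σ n, matn C = Cm := ⟨mkJn σ Cm hCdet hCu, rfl⟩
  obtain ⟨G, hG⟩ : ∃ G : SUJn σ n, G = fr.iota hσ g := ⟨_, rfl⟩
  obtain ⟨H', hH'⟩ : ∃ H' : SUJn σ n, H' = fr.iota hσ h := ⟨_, rfl⟩
  have hGC : G * C = C * G := by
    apply matn_injective
    rw [matn_mul, matn_mul, hG, SubFrame.matn_iota, hCdef, hfr]
    exact Cfsg.Agent.Lib.H18.SunTr.emb_comm_mid' hω hk5 hn (matn g) hgc hgr Cm hC2 hC3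
  have hHC : H' * C = C * H' := by
    apply matn_injective
    rw [matn_mul, matn_mul, hH', SubFrame.matn_iota, hCdef, hfr]
    exact Cfsg.Agent.Lib.H18.SunTr.emb_comm_mid' hω hk5 hn (matn h) hhc hhr Cm hC2 hC3
  have hGP : matn G * fr.P = fr.P * matn g := by rw [hG, SubFrame.matn_iota, fr.emb_mul_P]
  have hHP : matn H' * fr.P = fr.P * matn h := by rw [hH', SubFrame.matn_iota, fr.emb_mul_P]
  obtain ⟨x₁, hx₁⟩ : ∃ x₁ : SUJn σ 5, x₁ = x * (g * x * g⁻¹)⁻¹ := ⟨_, rfl⟩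
  obtain ⟨k₂, hk₂⟩ : ∃ k₂ : SUJn σ 5, k₂ = x * (h * x * h⁻¹)⁻¹ := ⟨_, rfl⟩
  have hx₁m : matn x₁ = matn x * dagn σ (matn g * matn x * dagn σ (matn g)) := by
    rw [hx₁, matn_mul, matn_inv, matn_mul, matn_mul, matn_inv]
  have hk₂m : matn k₂ = matn x * dagn σ (matn h * matn x * dagn σ (matn h)) := by
    rw [hk₂, matn_mul, matn_inv, matn_mul, matn_mul, matn_inv]
  have hgen : ∀ K : Subgroup (SUJn σ 5), x₁ ∈ K → k₂ ∈ K → K = ⊤ := by
    intro K h1 h2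
    rw [hx₁] at h1
    rw [hk₂] at h2
    exact hK K h1 h2
  have hPe0 : fr.P *ᵥ (Pi.single (0 : Fin 5) (1 : F)) = Pi.single (⟨0, hn0⟩ : Fin n) 1 := by
    rw [hfrP]
    exact midP_mulVec_first (by norm_num) (0 : Fin 5) rfl ⟨0, hn0⟩ rfl
  have hPel : fr.P *ᵥ (Pi.single (4 : Fin 5) (1 : F)) =
      Pi.single (⟨n - 1, by omega⟩ : Fin n) 1 := by
    rw [hfrP]
    exact midP_mulVec_last hk5 (by norm_num) (4 : Fin 5) rfl ⟨n - 1, by omega⟩
      (by simp only; omega)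
  have hCu0 : matn C *ᵥ (fr.P *ᵥ (Pi.single (0 : Fin 5) (1 : F))) =
      fr.P *ᵥ (Pi.single (0 : Fin 5) (1 : F)) := by
    rw [hPe0, hCdef]
    exact mulVec_single_of_trivial_col Cm _ (hC2 _)
      (fun j hj => (hC3 _ j (Or.inl (by simp)) hj).2)
  have hcyc : ∀ b : Fin n → F, hJn σ b (fr.P *ᵥ (Pi.single (0 : Fin 5) (1 : F))) = 0 →
      hJn σ b (fr.P *ᵥ (Pi.single (4 : Fin 5) (1 : F))) = 0 →
      b ∈ Submodule.span F {v | ∃ (i : ℕ) (bk : Fin 5 → F),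
        hJn σ bk (Pi.single (0 : Fin 5) (1 : F)) = 0 ∧
        hJn σ bk (Pi.single (4 : Fin 5) (1 : F)) = 0 ∧
        v = (matn C ^ i) *ᵥ (fr.P *ᵥ bk)} := by
    intro b hb0 hbl
    rw [hPe0, hJn_single_right] at hb0
    rw [hPel, hJn_single_right] at hbl
    have hb0' : b ⟨n - 1, by omega⟩ = 0 := by
      have : (⟨n - 1, by omega⟩ : Fin n) = Fin.rev ⟨0, hn0⟩ := by
        apply Fin.ext; rw [Fin.val_rev]
      rw [this]; exact hb0
    have hbl' : b ⟨0, by omega⟩ = 0 := by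
      have : (⟨0, by omega⟩ : Fin n) = Fin.rev ⟨n - 1, by omega⟩ := by
        apply Fin.ext; rw [Fin.val_rev]; simp only; omega
      rw [this]; exact hbl
    have h := Cfsg.Agent.Lib.H7.SunR.span_mid (ω := ω) hk5 (by norm_num) hn Cm hC1 hC2 hC3 hC4 b
      hbl' hb0'
    refine Submodule.span_mono ?_ h
    rintro v ⟨i, bk, h0, hl, rfl⟩
    refine ⟨i, bk, ?_, ?_, ?_⟩
    · rw [hJn_single_right]; exact hl
    · rw [hJn_single_right]; exact h0
    · rw [hCdef, hfrP]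
  refine ⟨fr.iota hσ x * C, G, H', ?_, ?_⟩
  · rw [matn_mul, SubFrame.matn_iota, hCdef, hfr]
    exact Cfsg.Agent.Lib.H7.SunR.regular_mid hω hk5 hn (matn x) hx1 hx2 hx3 Cm hC1 hC2 hC3 hC4
  · exact tJn_mem_gens3 hσ hω hc₀ hc₀' fr C G H' x x₁ k₂ (matn g) (matn h) (matn_mul_dagn g)
      (matn_mul_dagn h) hGP hHP hGC hHC hx₁m hk₂m hgen (Pi.single 0 1) (Pi.single 4 1)
      (by rw [hJn_single]; simp) (by rw [hJn_single]; simp) (by rw [hJn_single]; simp)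
      hCu0 hcyc

end Cfsg.Agent.Lib.H8.SUN
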