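import Mathlib
import Cfsg.Agent.Lib.H8.SUN8
import Cfsg.Agent.Lib.H25.Sun3q3
import Cfsg.Agent.Lib.H25.Sun3q11
import Cfsg.Agent.Lib.H16.Sun3q5
import Cfsg.Agent.Lib.H16.Sun3q8
import Cfsg.Agent.S2283

set_option autoImplicit false

/-!
# S2282 modulo the local statement for `q = 2` (helper8)
-/

namespace Cfsg.Agent.Lib.H8.SUN

open Matrix Cfsg.Agent.Lib.H8.SU3Gen

variable {F : Type*} [Field F] [Fintype F]

/-- `Local3` for all `q ≥ 3` -/
theorem local3_all {q : ℕ} (hF : Fintype.card F = q ^ 2) (hq : 3 ≤ q) (σ : F →+* F)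
    (hσq : ∀ x, σ x = x ^ q) (hσ : ∀ x, σ (σ x) = x) : Local3 σ := by
  by_cases h3 : q = 3
  · subst h3; exact Cfsg.Agent.Lib.H25.Sun3.local3_q3 hF σ hσq hσ
  by_cases h5 : q = 5
  · subst h5; exact Cfsg.Agent.Lib.H16.Sun3.local3_q5 hF σ hσq hσ
  by_cases h8 : q = 8
  · subst h8; exact Cfsg.Agent.Lib.H16.Sun3.local3_q8 hF σ hσq hσ
  by_cases h11 : q = 11
  · subst h11; exact Cfsg.Agent.Lib.H25.Sun3.local3_q11 hF σ hσq hσ
  exact local3_generic hF hq h3 h5 h8 h11 σ hσq hσ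

theorem s2282_main (q : ℕ) (hF : Fintype.card F = q ^ 2) (n : ℕ) (hn : 3 ≤ n) (hodd : Odd n)
    (h32 : ¬ (n = 3 ∧ q = 2))
    (h5 : ∀ σ : F →+* F, q = 2 → (∀ x, σ x = x ^ q) → (∀ x, σ (σ x) = x) → Local5 σ) :
    ∃ u g h : ↥(Cfsg.SU n F q),
      (IsNilpotent (((u : Matrix.SpecialLinearGroup (Fin n) F) : Matrix (Fin n) (Fin n) F) - 1) ∧
        (((u : Matrix.SpecialLinearGroup (Fin n) F) : Matrix (Fin n) (Fin n) F) - 1) ^ (n - 1)
          ≠ 0) ∧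
      Subgroup.closure ({u, g * u * g⁻¹, h * u * h⁻¹} : Set ↥(Cfsg.SU n F q)) = ⊤ := by
  obtain ⟨σ, hσq, hσ⟩ := exists_sigma hF
  have hq2 := two_le_q hF
  by_cases hn3 : n = 3
  · subst hn3
    have hq : 3 ≤ q := by
      by_contra hlt
      exact h32 ⟨rfl, by omega⟩
    obtain ⟨u, g, hreg, hcl⟩ := Cfsg.Agent.S2283.result q hq hF
    refine ⟨u, g, g, hreg, ?_⟩
    rw [← hcl]
    congr 1
    ext y
    simp
  have hn5 : 3 < n := by
    obtain ⟨j, rfl⟩ := hodd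
    omega
  have hmodel : ∃ X G H' : SUJn σ n,
      (IsNilpotent (matn X - 1) ∧ (matn X - 1) ^ (n - 1) ≠ 0) ∧
      ∀ (g : SUJn σ n) (v : Fin n → F) (c : F), hJn σ v v = 0 → c + σ c = 0 →
        matn g = tJn σ v c →
          g ∈ Subgroup.closure ({X, G * X * G⁻¹, H' * X * H'⁻¹} : Set (SUJn σ n)) := by
    by_cases hq2' : q = 2
    · have hl5 := h5 σ hq2' hσq hσ
      by_cases hn5' : n = 5
      · subst hn5'
        obtain ⟨x, g, h, hreg, hcl⟩ := model5_of_local5 hl5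
        refine ⟨x, g, h, hreg, ?_⟩
        intro k _ _ _ _ _
        rw [hcl]
        trivial
      · obtain ⟨ω, c₀, η, hω, hc₀, hc₀', hη⟩ := exists_params hF σ hσq hσ
        have hn7 : 5 < n := by
          obtain ⟨j, rfl⟩ := hodd
          omega
        exact model_of_local5 hσ hω hc₀ hc₀' hη hn7 hl5
    · exact model_q3 hF σ hσq hσ hn5 hodd (local3_all hF (by omega) σ hσq hσ)
  obtain ⟨X, G, H', hreg, hgen⟩ := hmodel
  exact Cfsg.Agent.Lib.H18.SunTr.s2282_transport hF n hn h32 σ hσq hσ X G H' hreg hgen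

end Cfsg.Agent.Lib.H8.SUN
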