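import Cfsg.Agent.Lib.H24.GlaubAmb6
import Cfsg.Agent.Lib.H24.ShIDefs
import Cfsg.Agent.Lib.H18.SH16CS

/-!
# S3016, conclusion (I), piece I-CORE (twin, helper8), part A: the step for a fixed `x ∈ H`

`Y` a `p'`-subgroup normalised by the abelian `p`-group `H`, `p` odd, `KeyStmt H Y`.  If every
`H`-invariant irreducible character of `C_Y(x)` has `[C_Y(x), H]` in its kernel, then every
`H`-invariant `θ ∈ Irr(Y)` has `[x, y]` in its kernel for all `y ∈ Y`.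
-/

set_option autoImplicit false

universe u

namespace Cfsg.Agent.Lib.H8.ShI

open Cfsg Cfsg.Agent.Lib.L0 Cfsg.Agent.Lib.H24 Cfsg.Agent.Lib.H24.Glaub Cfsg.Agent.Lib.H24.ShI
open scoped commutatorElement

variable {G : Type u} [Group G]

/-- the kernel statement `P(Y)`: every `H`-invariant irreducible character of `Y` is trivial on
`[Y, H]`. -/
def PStmt (H Y : Subgroup G) : Prop :=
  ∀ θ : IrrCharacter Y, (∀ h ∈ H, InvUnder Y h (θ : Y → ℂ)) →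
    ∀ z : Y, (z : G) ∈ ⁅Y, H⁆ → (θ : Y → ℂ) z = (θ : Y → ℂ) 1

theorem orderOf_eq_prime_pow {p : ℕ} [hp : Fact p.Prime] {H : Subgroup G} (hHp : IsPGroup p H)
    {x : G} (hx : x ∈ H) : ∃ a : ℕ, orderOf x = p ^ a := by
  obtain ⟨k, hk⟩ := hHp ⟨x, hx⟩
  have h1 : x ^ p ^ k = 1 := by
    have := congrArg (Subtype.val : H → G) hk
    simpa using this
  obtain ⟨a, _, ha⟩ := (Nat.dvd_prime_pow hp.out).1 (orderOf_dvd_of_pow_eq_one h1)
  exact ⟨a, ha⟩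

/-- `H` abelian normalising `Y` normalises `C_Y(x)` for `x ∈ H`. -/
theorem fixedSub_norm {H Y : Subgroup G} (hHab : ∀ a ∈ H, ∀ b ∈ H, a * b = b * a)
    (hnorm : ∀ h ∈ H, ∀ y ∈ Y, h * y * h⁻¹ ∈ Y) {x : G} (hx : x ∈ H) :
    ∀ h ∈ H, ∀ c ∈ fixedSub Y x, h * c * h⁻¹ ∈ fixedSub Y x := by
  intro h hh c hc
  rw [mem_fixedSub] at hc ⊢
  refine ⟨hnorm h hh c hc.1, ?_⟩
  have h1 : h * x = x * h := hHab h hh x hx
  have h2 : h⁻¹ * x = x * h⁻¹ := by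
    have : x = h * x * h⁻¹ := by rw [h1]; group
    calc h⁻¹ * x = h⁻¹ * (h * x * h⁻¹) := by rw [← this]
      _ = x * h⁻¹ := by group
  calc h * c * h⁻¹ * x = h * c * (h⁻¹ * x) := by group
    _ = h * c * (x * h⁻¹) := by rw [h2]
    _ = h * (c * x) * h⁻¹ := by group
    _ = h * (x * c) * h⁻¹ := by rw [hc.2]
    _ = (h * x) * c * h⁻¹ := by group
    _ = (x * h) * c * h⁻¹ := by rw [h1]
    _ = x * (h * c * h⁻¹) := by group

theorem commutator_fixedSub_le {H Y : Subgroup G} (hHab : ∀ a ∈ H, ∀ b ∈ H, a * b = b * a)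
    (hnorm : ∀ h ∈ H, ∀ y ∈ Y, h * y * h⁻¹ ∈ Y) {x : G} (hx : x ∈ H) :
    ⁅fixedSub Y x, H⁆ ≤ fixedSub Y x := by
  rw [Subgroup.commutator_le]
  intro c hc h hh
  have h1 := fixedSub_norm hHab hnorm hx h hh c⁻¹ ((fixedSub Y x).inv_mem hc)
  have h2 : ⁅c, h⁆ = c * (h * c⁻¹ * h⁻¹) := by
    rw [commutatorElement_def]; group
  rw [h2]
  exact (fixedSub Y x).mul_mem hc h1

section Step

variable [Finite G] {p : ℕ} [hp : Fact p.Prime]

/-- **the step for a fixed `x ∈ H`** -/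
theorem step_x (hp2 : p ≠ 2) (H Y : Subgroup G) (hHp : IsPGroup p H)
    (hHab : ∀ a ∈ H, ∀ b ∈ H, a * b = b * a) (hYp : ¬ p ∣ Nat.card Y)
    (hnorm : ∀ h ∈ H, ∀ y ∈ Y, h * y * h⁻¹ ∈ Y) (hkey : KeyStmt H Y) (x : G) (hx : x ∈ H)
    (hIH : PStmt H (fixedSub Y x))
    (θ : IrrCharacter Y) (hθ : ∀ h ∈ H, InvUnder Y h (θ : Y → ℂ))
    (y : G) (hy : y ∈ Y) (hy' : x * y * x⁻¹ * y⁻¹ ∈ Y) :
    (θ : Y → ℂ) ⟨x * y * x⁻¹ * y⁻¹, hy'⟩ = (θ : Y → ℂ) 1 := by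
  classical
  letI : Fintype G := Fintype.ofFinite G
  letI : Fintype (LL Y x) := Fintype.ofFinite _
  have hs : ∀ b ∈ Y, x * b * x⁻¹ ∈ Y := hnorm x hx
  haveI hNn : (NN Y x).Normal := normal_NN hs
  letI : Fintype (NN Y x) := Fintype.ofFinite _
  letI : Fintype (fixedSub (NN Y x) (ss Y x)) := Fintype.ofFinite _
  letI : Fintype (fixedSub Y x) := Fintype.ofFinite _
  obtain ⟨a, ha⟩ := orderOf_eq_prime_pow hHp hx
  have hcop : (Nat.card Y).Coprime (orderOf x) := by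
    rw [ha]
    exact (Nat.Coprime.pow_left a ((Nat.Prime.coprime_iff_not_dvd hp.out).mpr hYp)).symm
  have hset : CycSetup (NN Y x) (ss Y x) := cycSetup_NN hs hcop
  have hirr₀ : IsIrrCharacter (NN Y x) ((θ : Y → ℂ) ∘ (eB Y x)) :=
    isIrrCharacter_comp_of_surjective (eB Y x).toMonoidHom (eB Y x).surjective θ.2
  have hinv₀ : SInv (NN Y x) (ss Y x) ((θ : Y → ℂ) ∘ (eB Y x)) := by
    intro n
    exact hθ x hx (eB Y x n) _ rfl
  obtain ⟨χh, h1, h2, h3⟩ := hset.exists_canonical hirr₀ hinv₀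
  have hirr : IsIrrCharacter (NN Y x) (fun n : NN Y x => χh n) := by
    have : (fun n : NN Y x => χh n) = (θ : Y → ℂ) ∘ (eB Y x) := funext h2
    rw [this]
    exact hirr₀
  obtain ⟨β₀, ε, hε, hβ₀⟩ := hset.exists_sign_irr h1 hirr h3
  have hχc : IsCharacter (LL Y x) χh := isCharacter_of_irr h1
  have hcf : IsClassFunction (LL Y x) χh := isClassFunction_of_isCharacter hχc
  -- the correspondent `β ∈ Irr(C_Y(x))`
  have hC : fixedSub Y x = fixedSub Y x := rfl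
  have hCB : fixedSub Y x ≤ Y := fixedSub_le Y x
  set β : IrrCharacter (fixedSub Y x) := pushIrr hC β₀ with hβdef
  have hcong : ∀ ξ : IrrCharacter (fixedSub Y x),
      (p : ℤ) ∣ (resMult hCB (θ : Y → ℂ) (ξ : fixedSub Y x → ℂ) : ℤ) -
        ε * (if ξ = β then 1 else 0) := by
    intro ξ
    have h4 := pcyc_key2 hp.out ⟨a, ha⟩ hYp hC hCB θ χh β₀ ε hχc h2 hβ₀ ξ
    have h5 : (pullIrr hC ξ = β₀) = (ξ = pushIrr hC β₀) := propext (pull_eq_iff hC ξ β₀)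
    simp only [h5] at h4
    exact h4
  have hβnd : ¬ p ∣ resMult hCB (θ : Y → ℂ) (β : fixedSub Y x → ℂ) := by
    have h4 := hcong β
    rw [if_pos rfl] at h4
    exact not_dvd_of_dvd_sub_sign hp.out hε h4
  -- `β` is `H`-invariant
  have hβinv : ∀ h ∈ H, InvUnder (fixedSub Y x) h (β : fixedSub Y x → ℂ) := by
    intro h hh
    have hhC := fixedSub_norm hHab hnorm hx h hh
    have hhC' := inv_norm_of_norm hhC
    rw [invUnder_iff_comp (fixedSub Y x) h hhC hhC']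
    have h4 : ¬ p ∣ resMult hCB (θ : Y → ℂ)
        ((irrPerm (conjN (fixedSub Y x) h hhC hhC') β : IrrCharacter (fixedSub Y x)) :
          fixedSub Y x → ℂ) := by
      show ¬ p ∣ resMult hCB (θ : Y → ℂ)
        ((β : fixedSub Y x → ℂ) ∘ conjN (fixedSub Y x) h hhC hhC')
      rw [resMult_conj_right hCB hhC hhC' (hθ h hh)]
      exact hβnd
    have h5 : irrPerm (conjN (fixedSub Y x) h hhC hhC') β = β := GCorr.eq_of_not_dvd hcong h4
    exact congrArg (fun ξ : IrrCharacter (fixedSub Y x) => (ξ : fixedSub Y x → ℂ)) h5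
  have hβker := hIH β hβinv
  -- `χh (ss) = ε β(1)`
  have hone : χh (ss Y x) = (ε : ℂ) * (β : fixedSub Y x → ℂ) 1 := by
    have h4 := hβ₀ 1
    rw [Subgroup.coe_one, one_mul] at h4
    rw [h4]
    rfl
  have hεne : (ε : ℂ) ≠ 0 := by
    rcases hε with rfl | rfl <;> norm_num
  have hβ1 : (β : fixedSub Y x → ℂ) 1 ≠ 0 := Cfsg.Agent.Lib.H18.SH16.irr_one_ne_zero β
  have h0 : χh (ss Y x) ≠ 0 := by
    rw [hone]
    exact mul_ne_zero hεne hβ1
  have h2cop : (2 : ℕ).Coprime (orderOf (ss Y x)) := by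
    rw [orderOf_ss, ha]
    apply Nat.Coprime.pow_right
    exact (Nat.coprime_primes Nat.prime_two hp.out).2 (Ne.symm hp2)
  -- the key: `χh (ss * (n ss n⁻¹)) = χh ss` for `n ∈ NN`
  have hkeyχ : ∀ n ∈ NN Y x, χh (ss Y x * (n * ss Y x * n⁻¹)) = χh (ss Y x) := by
    intro n hn
    have hnY : ((n : LL Y x) : G) ∈ Y := (mem_NN Y x).mp hn
    obtain ⟨u, hu, w, hw, huw⟩ := hkey x hx (n : G) hnY
    have hwC : w ∈ fixedSub Y x := commutator_fixedSub_le hHab hnorm hx hw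
    -- elements of `LL`
    set U : LL Y x := ⟨u, le_LL Y x hu⟩ with hU
    set Wc : fixedSub (NN Y x) (ss Y x) := (eC Y x hC).symm ⟨w, hwC⟩ with hWc
    have hWcoe : (((Wc : fixedSub (NN Y x) (ss Y x)) : LL Y x) : G) = w := rfl
    have hconj : U * (ss Y x * (n * ss Y x * n⁻¹)) * U⁻¹ =
        ((Wc : fixedSub (NN Y x) (ss Y x)) : LL Y x) * (ss Y x) ^ 2 := by
      apply Subtype.ext
      show u * (x * ((n : G) * x * (n : G)⁻¹)) * u⁻¹ = w * x ^ 2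
      exact huw
    rw [← hcf (ss Y x * (n * ss Y x * n⁻¹)) U, hconj,
      hset.canonical_gen h1 hirr h3 h2cop Wc.2, hβ₀ Wc, hone]
    congr 1
    show (β : fixedSub Y x → ℂ) ⟨w, hwC⟩ = (β : fixedSub Y x → ℂ) 1
    exact hβker ⟨w, hwC⟩ hw
  have hker : χh (ss Y x) = χh 1 :=
    Cfsg.Agent.Lib.H18.SH16.cs_ker_N h1 (ss Y x) (NN Y x) hset.gen hkeyχ h0
  -- conclusion
  set Yy : LL Y x := ⟨y, le_LL Y x hy⟩ with hYy
  have h5 := Cfsg.Agent.Lib.H18.SH16.comm_val hχc hker Yy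
  have hmem : ss Y x * Yy * (ss Y x)⁻¹ * Yy⁻¹ ∈ NN Y x := by
    rw [mem_NN]
    exact hy'
  have h6 := h2 ⟨ss Y x * Yy * (ss Y x)⁻¹ * Yy⁻¹, hmem⟩
  have h7 := h2 1
  have h8 : (eB Y x ⟨ss Y x * Yy * (ss Y x)⁻¹ * Yy⁻¹, hmem⟩ : Y) = ⟨x * y * x⁻¹ * y⁻¹, hy'⟩ := by
    apply Subtype.ext
    rfl
  rw [Function.comp_apply, h8] at h6
  rw [Function.comp_apply, map_one] at h7
  rw [← h6, ← h7]
  exact h5

end Step

end Cfsg.Agent.Lib.H8.ShI
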