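import Cfsg.Agent.Lib.H8.ShICoreA

/-!
# S3016, conclusion (I), piece I-CORE (twin, helper8), part B: the induction

`PStmt H Y` for every `p'`-subgroup `Y` normalised by the abelian `p`-group `H` (`p` odd) with
`EC H Y`, by strong induction on `|Y|` from `step_x`; then `lemma_I` from the counting finish
(piece I-FIN, taken as a hypothesis `hfin`).
-/

set_option autoImplicit false

universe u

namespace Cfsg.Agent.Lib.H8.ShI

open Cfsg Cfsg.Agent.Lib.L0 Cfsg.Agent.Lib.H24 Cfsg.Agent.Lib.H24.Glaub Cfsg.Agent.Lib.H24.ShI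
open scoped commutatorElement

variable {G : Type u} [Group G] [Finite G] {p : ℕ} [hp : Fact p.Prime]

omit [Finite G] in
theorem ec_mono {H Y C : Subgroup G} (hCY : C ≤ Y) (hEC : EC H Y) : EC H C := by
  intro y hy z hz hzC hcomm
  exact hEC y (hCY hy) z hz (hCY hzC) hcomm

theorem card_fixedSub_lt {Y : Subgroup G} {x : G} (hne : ¬ ∀ y ∈ Y, x * y = y * x) :
    Nat.card (fixedSub Y x) < Nat.card Y := by
  have hle : fixedSub Y x ≤ Y := fixedSub_le Y x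
  have hlt : fixedSub Y x < Y := by
    refine lt_of_le_of_ne hle ?_
    intro heq
    apply hne
    intro y hy
    rw [← heq, mem_fixedSub] at hy
    exact hy.2.symm
  have h1 : (fixedSub Y x : Set G) ⊂ (Y : Set G) := SetLike.coe_ssubset_coe.mpr hlt
  have h2 := Set.ncard_lt_ncard h1 (Set.toFinite _)
  exact h2

/-- `P(Y)` by strong induction on `|Y|`. -/
theorem pstmt_of_key (hp2 : p ≠ 2) (H : Subgroup G) (hHp : IsPGroup p H)
    (hHab : ∀ a ∈ H, ∀ b ∈ H, a * b = b * a)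
    (hkey : ∀ Y : Subgroup G, ¬ p ∣ Nat.card Y → (∀ h ∈ H, ∀ y ∈ Y, h * y * h⁻¹ ∈ Y) →
      EC H Y → KeyStmt H Y) :
    ∀ (n : ℕ) (Y : Subgroup G), Nat.card Y = n → ¬ p ∣ Nat.card Y →
      (∀ h ∈ H, ∀ y ∈ Y, h * y * h⁻¹ ∈ Y) → EC H Y → PStmt H Y := by
  intro n
  induction n using Nat.strong_induction_on with
  | _ n ih =>
    intro Y hn hYp hnorm hEC θ hθ z hz
    have hθc : IsCharacter Y (θ : Y → ℂ) := isCharacter_of_irr θ.2
    -- the kernel of `θ` as a subgroup of `G`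
    set K : Subgroup G := (charKer (θ : Y → ℂ) hθc).map Y.subtype with hK
    have hcomm : ⁅Y, H⁆ ≤ K := by
      rw [Subgroup.commutator_le]
      intro y hy h hh
      have hmem1 : h * y * h⁻¹ ∈ Y := hnorm h hh y hy
      have hmemY : h * y * h⁻¹ * y⁻¹ ∈ Y := Y.mul_mem hmem1 (Y.inv_mem hy)
      have hval : (θ : Y → ℂ) ⟨h * y * h⁻¹ * y⁻¹, hmemY⟩ = (θ : Y → ℂ) 1 := by
        by_cases hc : ∀ y' ∈ Y, h * y' = y' * h
        · have h1 : h * y * h⁻¹ * y⁻¹ = 1 := by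
            rw [hc y hy]; group
          have h2 : (⟨h * y * h⁻¹ * y⁻¹, hmemY⟩ : Y) = 1 := Subtype.ext h1
          rw [h2]
        · have hlt := card_fixedSub_lt hc
          rw [hn] at hlt
          have hle : fixedSub Y h ≤ Y := fixedSub_le Y h
          have hCp : ¬ p ∣ Nat.card (fixedSub Y h) := fun hd =>
            hYp (dvd_trans hd (Subgroup.card_dvd_of_le hle))
          have hIH : PStmt H (fixedSub Y h) :=
            ih _ hlt (fixedSub Y h) rfl hCp (fixedSub_norm hHab hnorm hh) (ec_mono hle hEC)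
          exact step_x hp2 H Y hHp hHab hYp hnorm (hkey Y hYp hnorm hEC) h hh hIH θ hθ y hy hmemY
      have hinK : h * y * h⁻¹ * y⁻¹ ∈ K := by
        rw [hK, Subgroup.mem_map]
        exact ⟨⟨h * y * h⁻¹ * y⁻¹, hmemY⟩, hval, rfl⟩
      have h3 : ⁅y, h⁆ = (h * y * h⁻¹ * y⁻¹)⁻¹ := by
        rw [commutatorElement_def]; group
      rw [h3]
      exact K.inv_mem hinK
    have hzK : (z : G) ∈ K := hcomm hz
    rw [hK, Subgroup.mem_map] at hzK
    obtain ⟨k, hk, hkz⟩ := hzK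
    have : k = z := Subtype.ext hkz
    rw [← this]
    exact hk

/-- **I-CORE** (`lemma_I` of the cut), with the counting finish I-FIN as a hypothesis. -/
theorem lemma_I_of_fin (hp2 : p ≠ 2) (H : Subgroup G) (hHp : IsPGroup p H)
    (hHab : ∀ a ∈ H, ∀ b ∈ H, a * b = b * a)
    (hkey : ∀ Y : Subgroup G, ¬ p ∣ Nat.card Y → (∀ h ∈ H, ∀ y ∈ Y, h * y * h⁻¹ ∈ Y) →
      EC H Y → KeyStmt H Y)
    (hfin : ∀ Y : Subgroup G, (∀ h ∈ H, ∀ y ∈ Y, h * y * h⁻¹ ∈ Y) →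
      (Nat.card Y).Coprime (Nat.card H) →
      (∀ θ : IrrCharacter Y, (∀ s ∈ H, InvUnder Y s (θ : Y → ℂ)) →
        ∀ z : Y, (z : G) ∈ ⁅Y, H⁆ → (θ : Y → ℂ) z = (θ : Y → ℂ) 1) →
      ⁅Y, H⁆ ⊓ Subgroup.centralizer (H : Set G) = ⊥)
    (Y : Subgroup G) (hYp : ¬ p ∣ Nat.card Y) (hnorm : ∀ h ∈ H, ∀ y ∈ Y, h * y * h⁻¹ ∈ Y)
    (hEC : EC H Y) : ⁅Y, H⁆ ⊓ Subgroup.centralizer (H : Set G) = ⊥ := by
  have hP : PStmt H Y := pstmt_of_key hp2 H hHp hHab hkey _ Y rfl hYp hnorm hEC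
  have hcop : (Nat.card Y).Coprime (Nat.card H) := by
    obtain ⟨k, hk⟩ := IsPGroup.iff_card.mp hHp
    rw [hk]
    exact (Nat.Coprime.pow_left k ((Nat.Prime.coprime_iff_not_dvd hp.out).mpr hYp)).symm
  exact hfin Y hnorm hcop hP

end Cfsg.Agent.Lib.H8.ShI
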