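import Cfsg.Agent.Lib.H8.ShICoreB
import Cfsg.Agent.Lib.H18.SH16FIN

/-!
# S3016, conclusion (I), piece I-CORE (twin, helper8), part C: `lemma_I` in the exact shape of the cut
-/

set_option autoImplicit false

universe u

namespace Cfsg.Agent.Lib.H8.ShI

open Cfsg Cfsg.Agent.Lib.L0 Cfsg.Agent.Lib.H24 Cfsg.Agent.Lib.H24.Glaub Cfsg.Agent.Lib.H24.ShI

variable {G : Type u} [Group G]

/-- **I-CORE** in the exact shape of helper24's cut (twin of `Cfsg.Agent.Lib.H24.ShI.lemma_I`). -/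
theorem lemma_I [Finite G] {p : ℕ} [Fact p.Prime] (hp2 : p ≠ 2) (H : Subgroup G)
    (hHp : IsPGroup p H) (hHab : ∀ a ∈ H, ∀ b ∈ H, a * b = b * a)
    (hkey : ∀ Y : Subgroup G, ¬ p ∣ Nat.card Y → (∀ h ∈ H, ∀ y ∈ Y, h * y * h⁻¹ ∈ Y) →
      EC H Y → KeyStmt H Y)
    (Y : Subgroup G) (hYp : ¬ p ∣ Nat.card Y) (hnorm : ∀ h ∈ H, ∀ y ∈ Y, h * y * h⁻¹ ∈ Y)
    (hEC : EC H Y) : ⁅Y, H⁆ ⊓ Subgroup.centralizer (H : Set G) = ⊥ := by
  classical
  letI : Fintype G := Fintype.ofFinite G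
  have hsolv : Group.IsSolvable ↥H := by
    apply Group.isSolvable_of_comm
    intro a b
    exact Subtype.ext (hHab a a.2 b b.2)
  refine lemma_I_of_fin hp2 H hHp hHab hkey ?_ Y hYp hnorm hEC
  intro Y' hnorm' hcop' hP'
  exact Cfsg.Agent.Lib.H18.SH16.finish Y' H hnorm' hcop' hsolv hP'

end Cfsg.Agent.Lib.H8.ShI
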