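import Mathlib
import Cfsg.Agent.Lib.H24.CharOrth
import Cfsg.Agent.Lib.H24.CharBasic
import Cfsg.Agent.Lib.L0.CharBasic
import Cfsg.Agent.Lib.L0.CharInner

/-!
# Class functions whose multiplicities on `Irr(L | Z)` are proportional to the degrees
(helper8's library, for Sibley's coherence theorem)

If `Θ` is a class function of `L`, `Z ⊴ L`, and `⟨Θ, φ⟩ = c φ(1)` for all irreducible `φ` whose
kernel does not contain `Z`, then `Θ(1) - Θ(z) = c |L|` for all `z ∈ Z`, `z ≠ 1`.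
-/

set_option autoImplicit false

namespace Cfsg.Agent.Lib.H8

open Cfsg Cfsg.Agent.Lib.L0 Cfsg.Agent.Lib.H24
open scoped ComplexConjugate

section
variable {L : Type*} [Group L] [Fintype L]

theorem apply_one_sub_apply_of_proportional (Z : Subgroup L) (Θ : L → ℂ)
    (hΘ : IsClassFunction L Θ) (c : ℂ)
    (hc : ∀ φ : L → ℂ, IsIrrCharacter L φ → (∃ z ∈ Z, φ z ≠ φ 1) → classInner Θ φ = c * φ 1)
    {z : L} (hz : z ∈ Z) (hz1 : z ≠ 1) : Θ 1 - Θ z = c * (Nat.card L : ℂ) := by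
  classical
  haveI := Fintype.ofFinite (IrrCharacter L)
  have hexp := classFunction_expansion Θ hΘ
  have h1 : Θ 1 - Θ z = ∑ φ : IrrCharacter L, classInner Θ (φ : L → ℂ) *
      ((φ : L → ℂ) 1 - (φ : L → ℂ) z) := by
    conv_lhs => rw [hexp]
    rw [Finset.sum_apply, Finset.sum_apply, ← Finset.sum_sub_distrib]
    refine Finset.sum_congr rfl fun φ _ => ?_
    rw [Pi.smul_apply, Pi.smul_apply, smul_eq_mul, smul_eq_mul, mul_sub]
  have h2 : ∀ φ : IrrCharacter L, classInner Θ (φ : L → ℂ) *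
      ((φ : L → ℂ) 1 - (φ : L → ℂ) z) = c * ((φ : L → ℂ) 1 * ((φ : L → ℂ) 1 - (φ : L → ℂ) z)) := by
    intro φ
    by_cases hφ : (φ : L → ℂ) z = (φ : L → ℂ) 1
    · rw [hφ, sub_self, mul_zero, mul_zero, mul_zero]
    · rw [hc φ φ.2 ⟨z, hz, hφ⟩, mul_assoc]
  rw [h1, Finset.sum_congr rfl fun φ _ => h2 φ, ← Finset.mul_sum]
  congr 1
  have h3 : ∑ φ : IrrCharacter L, (φ : L → ℂ) 1 * ((φ : L → ℂ) 1 - (φ : L → ℂ) z) =
      ∑ φ : IrrCharacter L, (φ : L → ℂ) 1 ^ 2 -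
        ∑ φ : IrrCharacter L, (φ : L → ℂ) z * conj ((φ : L → ℂ) 1) := by
    rw [← Finset.sum_sub_distrib]
    refine Finset.sum_congr rfl fun φ _ => ?_
    obtain ⟨n, -, hn⟩ := irr_one_eq φ
    rw [hn, Complex.conj_natCast]
    ring
  rw [h3, sum_irr_one_sq, second_orthogonality (G := L) z 1, if_neg, sub_zero]
  intro hcj
  exact hz1 (isConj_one_right.mp hcj.symm)

end

end Cfsg.Agent.Lib.H8
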