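import Mathlib
import Cfsg.Agent.Lib.H8.Coherence
import Cfsg.Agent.Lib.H8.GenChar
import Cfsg.Agent.Lib.L0.CharBasic
import Cfsg.Agent.Lib.L0.CharInner

/-!
# Swapping a coherent extension on a two-element set; a four-term Bessel equality
(helper8's library, for Sibley's coherence theorem)
-/

set_option autoImplicit false

namespace Cfsg.Agent.Lib.H8

open Cfsg Cfsg.Agent.Lib.L0
open scoped ComplexConjugate

section swap
variable {L : Type*} [Group L] [Fintype L] {G : Type*} [Group G] [Fintype G]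

/-- If `T = {ξ₁, ξ₂}` consists of two irreducible characters of the same degree and `ρ` is a
coherent extension of `α` on `ℤ[T]`, then so is the "swapped" map `ξ₁ ↦ -ρ ξ₂`, `ξ₂ ↦ -ρ ξ₁`. -/
theorem swap_extension (α : (L → ℂ) → (G → ℂ)) (ξ₁ ξ₂ : L → ℂ) (h12 : ξ₁ ≠ ξ₂)
    (hirr₁ : IsIrrCharacter L ξ₁) (hirr₂ : IsIrrCharacter L ξ₂) (hdeg : ξ₁ 1 = ξ₂ 1)
    (T : Set (L → ℂ)) (h1T : ξ₁ ∈ T) (h2T : ξ₂ ∈ T) (hT : ∀ ξ ∈ T, ξ = ξ₁ ∨ ξ = ξ₂)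
    (ρ : (L → ℂ) → (G → ℂ)) (hρ : IsLinearIsometryOn (zspan T) ρ)
    (hρα : ∀ θ ∈ zspanOn T ({1}ᶜ : Set L), ρ θ = α θ)
    (hα : IsLinearIsometryOn (zspanOn T ({1}ᶜ : Set L)) α) :
    ∃ ρ' : (L → ℂ) → (G → ℂ), IsLinearIsometryOn (zspan T) ρ' ∧
      (∀ θ ∈ zspanOn T ({1}ᶜ : Set L), ρ' θ = α θ) ∧ ρ' ξ₁ = -ρ ξ₂ ∧ ρ' ξ₂ = -ρ ξ₁ := by
  classical
  obtain ⟨Tf, hTf⟩ : ∃ Tf : Finset (L → ℂ), Tf = {ξ₁, ξ₂} := ⟨_, rfl⟩
  have hTeq : T = (↑Tf : Set (L → ℂ)) := by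
    ext ξ
    rw [hTf]
    simp only [Finset.coe_insert, Finset.coe_singleton, Set.mem_insert_iff, Set.mem_singleton_iff]
    constructor
    · exact hT ξ
    · rintro (h | h)
      · rw [h]; exact h1T
      · rw [h]; exact h2T
  have hmem : ∀ ξ, ξ ∈ Tf ↔ ξ = ξ₁ ∨ ξ = ξ₂ := by
    intro ξ; rw [hTf]; simp
  obtain ⟨Ψ, hΨ⟩ : ∃ Ψ : (L → ℂ) → (G → ℂ), Ψ = fun ξ => if ξ = ξ₁ then -ρ ξ₂ else -ρ ξ₁ :=
    ⟨_, rfl⟩
  have hΨ1 : Ψ ξ₁ = -ρ ξ₂ := by rw [hΨ]; simp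
  have hΨ2 : Ψ ξ₂ = -ρ ξ₁ := by rw [hΨ]; simp [Ne.symm h12]
  have hn1 : classInner ξ₁ ξ₁ = 1 := irr_classInner_self hirr₁
  have hn2 : classInner ξ₂ ξ₂ = 1 := irr_classInner_self hirr₂
  have ho12 : classInner ξ₁ ξ₂ = 0 := irr_classInner_ne hirr₁ hirr₂ h12
  have ho21 : classInner ξ₂ ξ₁ = 0 := irr_classInner_ne hirr₂ hirr₁ (Ne.symm h12)
  have hne : ∀ ξ ∈ Tf, classInner ξ ξ ≠ 0 := by
    intro ξ hξ
    rcases (hmem ξ).mp hξ with h | h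
    · rw [h, hn1]; exact one_ne_zero
    · rw [h, hn2]; exact one_ne_zero
  have horth : ∀ ξ ∈ Tf, ∀ η ∈ Tf, ξ ≠ η → classInner ξ η = 0 := by
    intro ξ hξ η hη hξη
    rcases (hmem ξ).mp hξ with h | h <;> rcases (hmem η).mp hη with h' | h'
    · exact absurd (h.trans h'.symm) hξη
    · rw [h, h']; exact ho12
    · rw [h, h']; exact ho21
    · exact absurd (h.trans h'.symm) hξη
  have hs1 : ξ₁ ∈ zspan T := subset_zspan _ h1T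
  have hs2 : ξ₂ ∈ zspan T := subset_zspan _ h2T
  have hneg : ∀ f g : G → ℂ, classInner (-f) (-g) = classInner f g := by
    intro f g
    simp [classInner]
  have hY : ∀ ξ ∈ Tf, ∀ η ∈ Tf, classInner (Ψ ξ) (Ψ η) = classInner ξ η := by
    intro ξ hξ η hη
    rcases (hmem ξ).mp hξ with h | h <;> rcases (hmem η).mp hη with h' | h'
    · rw [h, h', hΨ1, hneg, lio_inner hρ hs2 hs2, hn1, hn2]
    · rw [h, h', hΨ1, hΨ2, hneg, lio_inner hρ hs2 hs1, ho12, ho21]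
    · rw [h, h', hΨ1, hΨ2, hneg, lio_inner hρ hs1 hs2, ho12, ho21]
    · rw [h, h', hΨ2, hneg, lio_inner hρ hs1 hs1, hn1, hn2]
  have hYg : ∀ ξ ∈ Tf, IsGeneralizedCharacter G (Ψ ξ) := by
    intro ξ hξ
    rcases (hmem ξ).mp hξ with h | h
    · rw [h, hΨ1]; exact isGeneralizedCharacter_neg (lio_genChar hρ hs2)
    · rw [h, hΨ2]; exact isGeneralizedCharacter_neg (lio_genChar hρ hs1)
  have hiso := isLinearIsometryOn_extendIso Tf hne horth Ψ hY hYg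
  obtain ⟨n, hn0, hn⟩ : ∃ n : ℕ, 0 < n ∧ ξ₁ 1 = (n : ℂ) :=
    Cfsg.Agent.Lib.H24.irr_one_eq ⟨ξ₁, hirr₁⟩
  have hn' : ξ₂ 1 = (n : ℂ) := by rw [← hdeg]; exact hn
  have hd : ∀ ξ ∈ Tf, ξ 1 = (((fun _ : L → ℂ => n) ξ : ℕ) : ℂ) := by
    intro ξ hξ
    rcases (hmem ξ).mp hξ with h | h
    · rw [h]; exact hn
    · rw [h]; exact hn'
  have hα' : IsLinearIsometryOn (zspanOn (↑Tf : Set (L → ℂ)) ({1}ᶜ : Set L)) α := by
    rw [← hTeq]; exact hα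
  have hE := isZClosed_zspanOn T ({1}ᶜ : Set L)
  have hbase : ∀ ξ ∈ Tf, α ((((fun _ : L → ℂ => n) ξ₁ : ℕ) : ℤ) • ξ -
      (((fun _ : L → ℂ => n) ξ : ℕ) : ℤ) • ξ₁) =
      (((fun _ : L → ℂ => n) ξ₁ : ℕ) : ℤ) • Ψ ξ - (((fun _ : L → ℂ => n) ξ : ℕ) : ℤ) • Ψ ξ₁ := by
    intro ξ hξ
    show α ((n : ℤ) • ξ - (n : ℤ) • ξ₁) = (n : ℤ) • Ψ ξ - (n : ℤ) • Ψ ξ₁
    rcases (hmem ξ).mp hξ with h | h
    · rw [h, sub_self, sub_self]
      exact lio_zero hα hE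
    · rw [h, hΨ1, hΨ2]
      have hmemz : (n : ℤ) • ξ₂ - (n : ℤ) • ξ₁ ∈ zspanOn T ({1}ᶜ : Set L) := by
        rw [mem_zspanOn_compl_one]
        refine ⟨sub_mem_zspan (zsmul_mem_zspan hs2 _) (zsmul_mem_zspan hs1 _), ?_⟩
        rw [Pi.sub_apply, Pi.smul_apply, Pi.smul_apply, hn, hn', sub_self]
      rw [← hρα _ hmemz, lio_sub hρ (isZClosed_zspan T) (zsmul_mem_zspan hs2 _)
        (zsmul_mem_zspan hs1 _), lio_zsmul hρ hs2, lio_zsmul hρ hs1]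
      rw [smul_neg, smul_neg]
      abel
  have hagree := extendIso_eq_of_base Tf hne horth Ψ hα' (fun _ => n) hd
    ((hmem ξ₁).mpr (Or.inl rfl)) hn0.ne' hbase
  refine ⟨extendIso Tf Ψ, ?_, ?_, ?_, ?_⟩
  · rw [hTeq]; exact hiso
  · rw [hTeq]; exact hagree
  · rw [extendIso_apply_mem Tf hne horth Ψ ((hmem ξ₁).mpr (Or.inl rfl)), hΨ1]
  · rw [extendIso_apply_mem Tf hne horth Ψ ((hmem ξ₂).mpr (Or.inr rfl)), hΨ2]

end swap

section bessel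
variable {G : Type*} [Group G] [Fintype G]

/-- Bessel equality for four orthonormal functions with integer coefficients. -/
theorem bessel_four (B F₀ F₁ F₂ F₃ : G → ℂ) (y₀ y₁ y₂ y₃ m : ℤ)
    (h00 : classInner F₀ F₀ = 1) (h11 : classInner F₁ F₁ = 1) (h22 : classInner F₂ F₂ = 1)
    (h33 : classInner F₃ F₃ = 1) (h01 : classInner F₀ F₁ = 0) (h02 : classInner F₀ F₂ = 0)
    (h03 : classInner F₀ F₃ = 0) (h12 : classInner F₁ F₂ = 0) (h13 : classInner F₁ F₃ = 0)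
    (h23 : classInner F₂ F₃ = 0)
    (hy₀ : classInner B F₀ = (y₀ : ℂ)) (hy₁ : classInner B F₁ = (y₁ : ℂ))
    (hy₂ : classInner B F₂ = (y₂ : ℂ)) (hy₃ : classInner B F₃ = (y₃ : ℂ))
    (hm : classInner B B = (m : ℂ)) :
    y₀ ^ 2 + y₁ ^ 2 + y₂ ^ 2 + y₃ ^ 2 ≤ m ∧
      (y₀ ^ 2 + y₁ ^ 2 + y₂ ^ 2 + y₃ ^ 2 = m → B = y₀ • F₀ + y₁ • F₁ + y₂ • F₂ + y₃ • F₃) := by
  have hsymm : ∀ f g : G → ℂ, classInner f g = 0 → classInner g f = 0 := by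
    intro f g h
    rw [← classInner_conj_symm, h, map_zero]
  have hb := bessel_int (Finset.univ : Finset (Fin 4)) ![F₀, F₁, F₂, F₃]
    (by
      intro i _ j _
      fin_cases i <;> fin_cases j <;>
        simp [h00, h11, h22, h33, h01, h02, h03, h12, h13, h23, hsymm _ _ h01, hsymm _ _ h02,
          hsymm _ _ h03, hsymm _ _ h12, hsymm _ _ h13, hsymm _ _ h23])
    B ![y₀, y₁, y₂, y₃]
    (by
      intro i _
      fin_cases i <;> simp [hy₀, hy₁, hy₂, hy₃])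
    m hm
  simp only [Fin.sum_univ_four, Matrix.cons_val_zero, Matrix.cons_val_one, Matrix.cons_val_two,
    Matrix.cons_val_three, Matrix.head_cons, Matrix.tail_cons] at hb
  exact hb

end bessel

end Cfsg.Agent.Lib.H8
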