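import Mathlib
import Cfsg.Agent.Lib.H8.SibleyB
import Cfsg.Agent.Lib.H8.ClassFun
import Cfsg.Agent.Lib.L0.CharIndChar
import Cfsg.Agent.S1531

/-!
# Gluing two coherent sets by an integrality condition (helper8's library; the key step of
Sibley's coherence theorem)

`X`, `Y ⊆ S` disjoint coherent sets of irreducible characters of `N ≤ G` for `α = Ind`, all members
of `Y` of the same degree `e`, `χ ∈ X` of degree `a e`.  If `⟨Ind χ, τ η⟩ ∈ a ℤ` for all `η ∈ Y`,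
then `X ∪ Y` is coherent.
-/

set_option autoImplicit false

namespace Cfsg.Agent.Lib.H8

open Cfsg Cfsg.Agent.Lib.L0
open scoped ComplexConjugate

section
variable {G : Type*} [Group G] [Fintype G]

theorem int_mul_succ_nonneg (v : ℤ) : 0 ≤ v * (v + 1) := by
  rcases le_or_gt 0 v with h | h
  · exact mul_nonneg h (by omega)
  · have h1 : v + 1 ≤ 0 := by omega
    exact mul_nonneg_of_nonpos_of_nonpos h.le h1

theorem coherent_union_of_integrality (N : Subgroup G) [Fintype N]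
    (S X Y : Set (N → ℂ)) (hirr : ∀ ξ ∈ S, IsIrrCharacter N ξ) (hXS : X ⊆ S) (hYS : Y ⊆ S)
    (hXY : Disjoint X Y)
    (α : (N → ℂ) → (G → ℂ)) (hα : IsLinearIsometryOn (zspanOn S ({1}ᶜ : Set N)) α)
    (hα1 : ∀ θ ∈ zspanOn S ({1}ᶜ : Set N), α θ 1 = 0)
    (hαind : ∀ θ ∈ zspanOn S ({1}ᶜ : Set N), α θ = indFun N θ)
    (σ τ : (N → ℂ) → (G → ℂ)) (hσ : IsLinearIsometryOn (zspan X) σ)
    (hσα : ∀ θ ∈ zspanOn X ({1}ᶜ : Set N), σ θ = α θ) (hτ : IsLinearIsometryOn (zspan Y) τ)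
    (hτα : ∀ θ ∈ zspanOn Y ({1}ᶜ : Set N), τ θ = α θ)
    (χ χ₂ : N → ℂ) (hχ : χ ∈ X) (hχ₂ : χ₂ ∈ X) (hχne : χ₂ ≠ χ) (hχdeg : χ₂ 1 = χ 1)
    (l₀ l₁ : N → ℂ) (hl₀ : l₀ ∈ Y) (hl₁ : l₁ ∈ Y) (hlne : l₁ ≠ l₀)
    (hYdeg : ∀ η ∈ Y, η 1 = l₀ 1)
    (a : ℕ) (ha : χ 1 = (a : ℂ) * l₀ 1)
    (hint : ∀ η ∈ Y, ∃ m : ℤ, classInner (indFun N χ) (τ η) = (((a : ℤ) * m : ℤ) : ℂ)) :
    IsCoherent (X ∪ Y) ({1}ᶜ : Set N) α := by
  classical
  have hX2 : ∃ a ∈ X, ∃ b ∈ X, a ≠ b := ⟨χ₂, hχ₂, χ, hχ, hχne⟩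
  have hY2 : ∃ a ∈ Y, ∃ b ∈ Y, a ≠ b := ⟨l₁, hl₁, l₀, hl₀, hlne⟩
  have hnorm : ∀ ξ ∈ S, classInner ξ ξ = 1 := fun ξ hξ => irr_classInner_self (hirr ξ hξ)
  have horth : ∀ ξ ∈ S, ∀ η ∈ S, ξ ≠ η → classInner ξ η = 0 :=
    fun ξ hξ η hη h => irr_classInner_ne (hirr ξ hξ) (hirr η hη) h
  have hXYne : ∀ χ' ∈ X, ∀ η ∈ Y, χ' ≠ η := by
    intro χ' hχ' η hη h
    exact Set.disjoint_left.mp hXY hχ' (h ▸ hη)
  obtain ⟨e, he0, he⟩ : ∃ e : ℕ, 0 < e ∧ l₀ 1 = (e : ℂ) :=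
    Cfsg.Agent.Lib.H24.irr_one_eq ⟨l₀, hirr _ (hYS hl₀)⟩
  have hχ1 : χ 1 = (((a * e : ℕ) : ℤ) : ℂ) := by rw [ha, he]; push_cast; ring
  have ha0 : 0 < a := by
    rcases Nat.eq_zero_or_pos a with h | h
    · exfalso
      obtain ⟨n, hn0, hn⟩ : ∃ n : ℕ, 0 < n ∧ χ 1 = (n : ℂ) :=
        Cfsg.Agent.Lib.H24.irr_one_eq ⟨χ, hirr _ (hXS hχ)⟩
      rw [ha, h, Nat.cast_zero, zero_mul] at hn
      have : n = 0 := by exact_mod_cast hn.symm
      omega
    · exact h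
  have hZS := isZClosed_zspanOn S ({1}ᶜ : Set N)
  have hZX := isZClosed_zspan X
  have hZY := isZClosed_zspan Y
  -- the element β
  obtain ⟨β, hβdef⟩ : ∃ β : N → ℂ, β = (a : ℤ) • l₀ - χ := ⟨_, rfl⟩
  have hβ : β ∈ zspanOn S ({1}ᶜ : Set N) := by
    rw [hβdef, mem_zspanOn_compl_one]
    refine ⟨sub_mem_zspan (zsmul_mem_zspan (subset_zspan _ (hYS hl₀)) _)
      (subset_zspan _ (hXS hχ)), ?_⟩
    rw [Pi.sub_apply, Pi.smul_apply, ha, he, zsmul_eq_mul]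
    push_cast; ring
  obtain ⟨B, hBdef⟩ : ∃ B : G → ℂ, B = α β := ⟨_, rfl⟩
  have hBgen : IsGeneralizedCharacter G B := by rw [hBdef]; exact lio_genChar hα hβ
  -- inner products of β with members of S
  have hβl₀ : classInner β l₀ = (a : ℂ) := by
    rw [hβdef, classInner_sub_left, classInner_zsmul_left, hnorm _ (hYS hl₀),
      horth _ (hXS hχ) _ (hYS hl₀) (hXYne _ hχ _ hl₀)]
    push_cast; ring
  have hβη : ∀ η ∈ Y, η ≠ l₀ → classInner β η = 0 := by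
    intro η hη hne
    rw [hβdef, classInner_sub_left, classInner_zsmul_left,
      horth _ (hYS hl₀) _ (hYS hη) (Ne.symm hne),
      horth _ (hXS hχ) _ (hYS hη) (hXYne _ hχ _ hη)]
    ring
  have hβχ : classInner β χ = -1 := by
    rw [hβdef, classInner_sub_left, classInner_zsmul_left, hnorm _ (hXS hχ),
      horth _ (hYS hl₀) _ (hXS hχ) (Ne.symm (hXYne _ hχ _ hl₀))]
    ring
  have hβχ' : ∀ χ' ∈ X, χ' ≠ χ → classInner β χ' = 0 := by
    intro χ' hχ' hne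
    rw [hβdef, classInner_sub_left, classInner_zsmul_left,
      horth _ (hYS hl₀) _ (hXS hχ') (Ne.symm (hXYne _ hχ' _ hl₀)),
      horth _ (hXS hχ) _ (hXS hχ') (Ne.symm hne)]
    ring
  have hββ : classInner β β = (((a : ℤ) ^ 2 + 1 : ℤ) : ℂ) := by
    conv_lhs => rw [hβdef]
    rw [classInner_sub_right, classInner_zsmul_right, ← hβdef, hβl₀, hβχ]
    push_cast; ring
  have hBB : classInner B B = (((a : ℤ) ^ 2 + 1 : ℤ) : ℂ) := by
    rw [hBdef, lio_inner hα hβ hβ, hββ]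
  -- orthogonality of the two families
  obtain ⟨hcross, -⟩ := Cfsg.Agent.S1531.result N S X Y hirr hXS hYS hXY hX2 hY2 α hα hα1 σ τ hσ
    hσα hτ hτα
  have hcross' : ∀ χ' ∈ X, ∀ η ∈ Y, classInner (τ η) (σ χ') = 0 := by
    intro χ' hχ' η hη
    rw [← classInner_conj_symm, hcross χ' hχ' η hη, map_zero]
  have hττ : ∀ η ∈ Y, ∀ η' ∈ Y, classInner (τ η) (τ η') = classInner η η' := fun η hη η' hη' =>
    lio_inner hτ (subset_zspan _ hη) (subset_zspan _ hη')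
  have hσσ : ∀ η ∈ X, ∀ η' ∈ X, classInner (σ η) (σ η') = classInner η η' := fun η hη η' hη' =>
    lio_inner hσ (subset_zspan _ hη) (subset_zspan _ hη')
  -- (i) inner products with τ η
  have hi : ∀ η ∈ Y, η ≠ l₀ → classInner B (τ η) = classInner B (τ l₀) - (a : ℂ) := by
    intro η hη hne
    have hmem : η - l₀ ∈ zspanOn Y ({1}ᶜ : Set N) := by
      rw [mem_zspanOn_compl_one]
      refine ⟨sub_mem_zspan (subset_zspan _ hη) (subset_zspan _ hl₀), ?_⟩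
      rw [Pi.sub_apply, hYdeg η hη, sub_self]
    have h1 : τ (η - l₀) = τ η - τ l₀ := lio_sub hτ hZY (subset_zspan _ hη) (subset_zspan _ hl₀)
    have h2 : classInner B (α (η - l₀)) = classInner β (η - l₀) := by
      rw [hBdef]
      exact lio_inner hα hβ (zspanOn_mono hYS _ hmem)
    rw [← hτα _ hmem, h1, classInner_sub_right, classInner_sub_right, hβη η hη hne, hβl₀] at h2
    linear_combination h2
  -- (ii) integrality
  have hii : ∀ η ∈ Y, ∃ v : ℤ, classInner B (τ η) = (((a : ℤ) * v : ℤ) : ℂ) := by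
    intro η hη
    have hgen : IsGeneralizedCharacter G (τ η) := lio_genChar hτ (subset_zspan _ hη)
    have hcl : IsClassFunction G (τ η) := isClassFunction_of_isGeneralizedCharacter hgen
    obtain ⟨m, hm⟩ := hint η hη
    have hl₀char : IsGeneralizedCharacter G (indFun N l₀) :=
      isGeneralizedCharacter_of_isCharacter
        (isCharacter_indFun N (isCharacter_of_irr (hirr _ (hYS hl₀))))
    obtain ⟨k, hk⟩ := genChar_classInner_int hl₀char hgen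
    refine ⟨k - m, ?_⟩
    rw [hBdef, hαind β hβ, frobenius_reciprocity N β (τ η) hcl, hβdef, classInner_sub_left,
      classInner_zsmul_left, ← frobenius_reciprocity N l₀ (τ η) hcl,
      ← frobenius_reciprocity N χ (τ η) hcl, hk, hm]
    push_cast; ring
  -- (iii) inner products with σ χ'
  have hiii : ∀ χ' ∈ X, χ' ≠ χ → ∀ d' : ℕ, χ' 1 = (d' : ℂ) →
      ((a * e : ℕ) : ℂ) * classInner B (σ χ') - (d' : ℂ) * classInner B (σ χ) = (d' : ℂ) := by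
    intro χ' hχ' hne d' hd'
    have hmem : ((a * e : ℕ) : ℤ) • χ' - (d' : ℤ) • χ ∈ zspanOn X ({1}ᶜ : Set N) := by
      rw [mem_zspanOn_compl_one]
      refine ⟨sub_mem_zspan (zsmul_mem_zspan (subset_zspan _ hχ') _)
        (zsmul_mem_zspan (subset_zspan _ hχ) _), ?_⟩
      rw [Pi.sub_apply, Pi.smul_apply, Pi.smul_apply, hd', hχ1, zsmul_eq_mul, zsmul_eq_mul]
      push_cast; ring
    have h1 : σ (((a * e : ℕ) : ℤ) • χ' - (d' : ℤ) • χ) =
        ((a * e : ℕ) : ℤ) • σ χ' - (d' : ℤ) • σ χ := by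
      rw [lio_sub hσ hZX (zsmul_mem_zspan (subset_zspan _ hχ') _)
        (zsmul_mem_zspan (subset_zspan _ hχ) _), lio_zsmul hσ (subset_zspan _ hχ'),
        lio_zsmul hσ (subset_zspan _ hχ)]
    have h2 : classInner B (α (((a * e : ℕ) : ℤ) • χ' - (d' : ℤ) • χ)) =
        classInner β (((a * e : ℕ) : ℤ) • χ' - (d' : ℤ) • χ) := by
      rw [hBdef]
      exact lio_inner hα hβ (zspanOn_mono hXS _ hmem)
    rw [← hσα _ hmem, h1, classInner_sub_right, classInner_sub_right, classInner_zsmul_right,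
      classInner_zsmul_right, classInner_zsmul_right, classInner_zsmul_right, hβχ' χ' hχ' hne,
      hβχ] at h2
    push_cast at h2 ⊢
    linear_combination h2
  -- the integers s, t
  obtain ⟨v, hv⟩ := hii l₁ hl₁
  obtain ⟨t, ht⟩ := genChar_classInner_int hBgen (lio_genChar hσ (subset_zspan _ hχ))
  have hy₀ : classInner B (τ l₀) = (((a : ℤ) + (a : ℤ) * v : ℤ) : ℂ) := by
    have := hi l₁ hl₁ hlne
    rw [hv] at this
    push_cast at this ⊢
    linear_combination -this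
  have hy₃ : classInner B (σ χ₂) = ((t + 1 : ℤ) : ℂ) := by
    have h := hiii χ₂ hχ₂ hχne (a * e) (by rw [hχdeg, hχ1]; push_cast; ring)
    rw [ht] at h
    have hne : (((a * e : ℕ)) : ℂ) ≠ 0 := by
      exact_mod_cast (Nat.mul_pos ha0 he0).ne'
    have h2 : ((a * e : ℕ) : ℂ) * (classInner B (σ χ₂) - ((t : ℂ) + 1)) = 0 := by
      linear_combination h
    rcases mul_eq_zero.mp h2 with h3 | h3
    · exact absurd h3 hne
    · push_cast
      linear_combination h3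
  -- Bessel
  have hl₀S := hYS hl₀
  have hl₁S := hYS hl₁
  have hb := bessel_four B (τ l₀) (τ l₁) (σ χ) (σ χ₂) ((a : ℤ) + (a : ℤ) * v) ((a : ℤ) * v) t (t + 1)
    ((a : ℤ) ^ 2 + 1)
    (by rw [hττ _ hl₀ _ hl₀, hnorm _ hl₀S]) (by rw [hττ _ hl₁ _ hl₁, hnorm _ hl₁S])
    (by rw [hσσ _ hχ _ hχ, hnorm _ (hXS hχ)]) (by rw [hσσ _ hχ₂ _ hχ₂, hnorm _ (hXS hχ₂)])
    (by rw [hττ _ hl₀ _ hl₁, horth _ hl₀S _ hl₁S (Ne.symm hlne)])
    (hcross' χ hχ l₀ hl₀) (hcross' χ₂ hχ₂ l₀ hl₀) (hcross' χ hχ l₁ hl₁) (hcross' χ₂ hχ₂ l₁ hl₁)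
    (by rw [hσσ _ hχ _ hχ₂, horth _ (hXS hχ) _ (hXS hχ₂) (Ne.symm hχne)])
    hy₀ hv ht hy₃ hBB
  obtain ⟨hle, heq⟩ := hb
  have hvv := int_mul_succ_nonneg v
  have htt := int_mul_succ_nonneg t
  have ha2 : (0 : ℤ) < (a : ℤ) ^ 2 := by positivity
  have hkey : (a : ℤ) ^ 2 * (2 * (v * (v + 1))) + 2 * (t * (t + 1)) ≤ 0 := by
    nlinarith [hle]
  have hv0 : v * (v + 1) = 0 := by
    by_contra hne
    have : 0 < v * (v + 1) := lt_of_le_of_ne hvv (Ne.symm hne)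
    nlinarith
  have ht0 : t * (t + 1) = 0 := by
    by_contra hne
    have : 0 < t * (t + 1) := lt_of_le_of_ne htt (Ne.symm hne)
    nlinarith
  have hBexp := heq (by nlinarith)
  have hvcase : v = 0 ∨ v = -1 := by
    rcases mul_eq_zero.mp hv0 with h | h
    · exact Or.inl h
    · exact Or.inr (by omega)
  have htcase : t = -1 ∨ t = 0 := by
    rcases mul_eq_zero.mp ht0 with h | h
    · exact Or.inr h
    · exact Or.inl (by omega)
  -- inner products of the expansion with other members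
  have hBτ : ∀ η ∈ Y, η ≠ l₀ → η ≠ l₁ → classInner B (τ η) = 0 := by
    intro η hη h0 h1
    have hηS := hYS hη
    rw [hBexp, classInner_add_left, classInner_add_left, classInner_add_left,
      classInner_zsmul_left, classInner_zsmul_left, classInner_zsmul_left, classInner_zsmul_left,
      hττ _ hl₀ _ hη, hττ _ hl₁ _ hη, horth _ hl₀S _ hηS (Ne.symm h0),
      horth _ hl₁S _ hηS (Ne.symm h1), hcross χ hχ η hη, hcross χ₂ hχ₂ η hη]
    ring
  have hBσ : ∀ χ' ∈ X, χ' ≠ χ → χ' ≠ χ₂ → classInner B (σ χ') = 0 := by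
    intro χ' hχ' h0 h1
    have hχ'S := hXS hχ'
    rw [hBexp, classInner_add_left, classInner_add_left, classInner_add_left,
      classInner_zsmul_left, classInner_zsmul_left, classInner_zsmul_left, classInner_zsmul_left,
      hcross' χ' hχ' l₀ hl₀, hcross' χ' hχ' l₁ hl₁, hσσ _ hχ _ hχ', hσσ _ hχ₂ _ hχ',
      horth _ (hXS hχ) _ hχ'S (Ne.symm h0), horth _ (hXS hχ₂) _ hχ'S (Ne.symm h1)]
    ring
  have hYtwo : v = -1 → ∀ η ∈ Y, η = l₀ ∨ η = l₁ := by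
    intro hv1 η hη
    by_contra hcon
    push Not at hcon
    have h1 := hi η hη hcon.1
    rw [hBτ η hη hcon.1 hcon.2, hy₀, hv1] at h1
    have h2 : ((a : ℤ) : ℂ) = 0 := by
      push_cast at h1 ⊢
      linear_combination h1
    have : (a : ℤ) = 0 := by exact_mod_cast h2
    omega
  have hXtwo : t = 0 → ∀ χ' ∈ X, χ' = χ ∨ χ' = χ₂ := by
    intro ht1 χ' hχ'
    by_contra hcon
    push Not at hcon
    obtain ⟨d', hd'0, hd'⟩ : ∃ n : ℕ, 0 < n ∧ χ' 1 = (n : ℂ) :=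
      Cfsg.Agent.Lib.H24.irr_one_eq ⟨χ', hirr _ (hXS hχ')⟩
    have h1 := hiii χ' hχ' hcon.1 d' hd'
    rw [hBσ χ' hχ' hcon.1 hcon.2, ht, ht1] at h1
    have h2 : (d' : ℂ) = 0 := by
      push_cast at h1
      linear_combination -h1
    have : d' = 0 := by exact_mod_cast h2
    omega
  -- adjust τ
  have hαY : IsLinearIsometryOn (zspanOn Y ({1}ᶜ : Set N)) α := lio_mono hα (zspanOn_mono hYS _)
  have hαX : IsLinearIsometryOn (zspanOn X ({1}ᶜ : Set N)) α := lio_mono hα (zspanOn_mono hXS _)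
  obtain ⟨τ', hτ', hτ'α, hτ'l₀⟩ : ∃ τ' : (N → ℂ) → (G → ℂ),
      IsLinearIsometryOn (zspan Y) τ' ∧ (∀ θ ∈ zspanOn Y ({1}ᶜ : Set N), τ' θ = α θ) ∧
      (a : ℤ) • τ' l₀ = ((a : ℤ) + (a : ℤ) * v) • τ l₀ + ((a : ℤ) * v) • τ l₁ := by
    rcases hvcase with h | h
    · refine ⟨τ, hτ, hτα, ?_⟩
      rw [h, mul_zero, add_zero, zero_smul, add_zero]
    · obtain ⟨τ', h1, h2, h3, -⟩ := swap_extension α l₀ l₁ (Ne.symm hlne) (hirr _ hl₀S)
        (hirr _ hl₁S) (hYdeg l₁ hl₁).symm Y hl₀ hl₁ (hYtwo h) τ hτ hτα hαY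
      refine ⟨τ', h1, h2, ?_⟩
      rw [h3, h]
      have : (a : ℤ) + (a : ℤ) * (-1) = 0 := by ring
      rw [this, zero_smul, zero_add, smul_neg, mul_neg, mul_one, neg_smul]
  obtain ⟨σ', hσ', hσ'α, hσ'χ⟩ : ∃ σ' : (N → ℂ) → (G → ℂ),
      IsLinearIsometryOn (zspan X) σ' ∧ (∀ θ ∈ zspanOn X ({1}ᶜ : Set N), σ' θ = α θ) ∧
      -σ' χ = t • σ χ + (t + 1) • σ χ₂ := by
    rcases htcase with h | h
    · refine ⟨σ, hσ, hσα, ?_⟩
      rw [h]
      have : (-1 : ℤ) + 1 = 0 := by ring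
      rw [this, zero_smul, add_zero, neg_smul, one_smul]
    · obtain ⟨σ', h1, h2, h3, -⟩ := swap_extension α χ χ₂ (Ne.symm hχne) (hirr _ (hXS hχ))
        (hirr _ (hXS hχ₂)) hχdeg.symm X hχ hχ₂ (hXtwo h) σ hσ hσα hαX
      refine ⟨σ', h1, h2, ?_⟩
      rw [h3, h, zero_smul, zero_add, zero_add, one_smul, neg_neg]
  have hBfinal : B = (a : ℤ) • τ' l₀ - σ' χ := by
    rw [hBexp, hτ'l₀, sub_eq_add_neg, hσ'χ]
    abel
  -- conclusion via S1531
  obtain ⟨-, hfin⟩ := Cfsg.Agent.S1531.result N S X Y hirr hXS hYS hXY hX2 hY2 α hα hα1 σ' τ' hσ'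
    hσ'α hτ' hτ'α
  apply hfin
  refine ⟨χ, hχ, l₀, hl₀, ?_⟩
  have hc1 : χ 1 • l₀ - l₀ 1 • χ = (e : ℤ) • β := by
    rw [hβdef, hχ1, he]
    funext x
    simp only [Pi.sub_apply, Pi.smul_apply]
    simp only [smul_eq_mul, zsmul_eq_mul]
    push_cast; ring
  rw [hc1, lio_zsmul hα hβ, ← hBdef, hBfinal, hχ1, he]
  funext x
  simp only [Pi.sub_apply, Pi.smul_apply]
  simp only [smul_eq_mul, zsmul_eq_mul]
  push_cast; ring

end

end Cfsg.Agent.Lib.H8
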