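import Mathlib
import Cfsg.Agent.Lib.H8.SibleyA
import Cfsg.Agent.Lib.H8.Coherence
import Cfsg.Agent.Lib.H8.GenChar
import Cfsg.Agent.Lib.H8.ClassFun
import Cfsg.Agent.Lib.L0.CharBasic
import Cfsg.Agent.Lib.L0.CharInner
import Cfsg.Agent.S1523

/-!
# The integrality step of Sibley's coherence theorem (helper8's library)

`P` a TI Sylow `p`-subgroup of `G` with normaliser `N` of odd order (Frobenius with kernel `P`),
`Z ≠ 1` central in `P` and normal in `N`.  If `ψ` is (up to sign) an irreducible character of `G`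
whose restriction to `N` has multiplicities on `Irr(N | Z)` proportional to the degrees, then the
multiplicity of `χ ∈ Irr(N | Z)`, `χ(1) = a |N:P|`, is divisible by `a` (Peterfalvi (6.7) = S1523).
-/

set_option autoImplicit false

namespace Cfsg.Agent.Lib.H8

open Cfsg Cfsg.Agent.Lib.L0 Cfsg.Agent.Lib.H24
open scoped ComplexConjugate

section
variable {G : Type*} [Group G] [Fintype G]

/-- cross-orthogonality to `σ(X)` gives proportionality of the multiplicities of the restriction -/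
theorem proportional_of_cross_orth (N : Subgroup G) [Fintype ↥N] (X : Set (↥N → ℂ))
    (hirr : ∀ ξ ∈ X, IsIrrCharacter ↥N ξ)
    (σ : (↥N → ℂ) → (G → ℂ)) (hσ : IsLinearIsometryOn (zspan X) σ)
    (hσα : ∀ θ ∈ zspanOn X ({1}ᶜ : Set ↥N), σ θ = indFun N θ)
    (Ψ : G → ℂ) (hΨ : IsClassFunction G Ψ) (horth : ∀ φ ∈ X, classInner (σ φ) Ψ = 0)
    (χ φ : ↥N → ℂ) (hχ : χ ∈ X) (hφ : φ ∈ X) :
    χ 1 * classInner (fun x : ↥N => Ψ (x : G)) φ = φ 1 * classInner (fun x : ↥N => Ψ (x : G)) χ := by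
  obtain ⟨n₁, -, hn₁⟩ := irr_one_eq ⟨χ, hirr χ hχ⟩
  obtain ⟨n₂, -, hn₂⟩ := irr_one_eq ⟨φ, hirr φ hφ⟩
  have hn₁' : χ 1 = (n₁ : ℂ) := hn₁
  have hn₂' : φ 1 = (n₂ : ℂ) := hn₂
  have hZX : IsZClosed (zspan X) := isZClosed_zspan X
  have hχm : χ ∈ zspan X := subset_zspan _ hχ
  have hφm : φ ∈ zspan X := subset_zspan _ hφ
  obtain ⟨β, hβdef⟩ : ∃ β : ↥N → ℂ, β = (n₁ : ℤ) • φ - (n₂ : ℤ) • χ := ⟨_, rfl⟩
  have hβ : β ∈ zspanOn X ({1}ᶜ : Set ↥N) := by
    rw [mem_zspanOn_compl_one]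
    refine ⟨?_, ?_⟩
    · rw [hβdef]
      exact sub_mem_zspan (zsmul_mem_zspan hφm _) (zsmul_mem_zspan hχm _)
    · rw [hβdef, Pi.sub_apply, Pi.smul_apply, Pi.smul_apply, hn₁', hn₂']
      simp only [zsmul_eq_mul]
      push_cast
      ring
  have h1 : σ β = (n₁ : ℤ) • σ φ - (n₂ : ℤ) • σ χ := by
    rw [hβdef, lio_sub hσ hZX (zsmul_mem_zspan hφm _) (zsmul_mem_zspan hχm _),
      lio_zsmul hσ hφm, lio_zsmul hσ hχm]
  have h2 : classInner (σ β) Ψ = 0 := by
    rw [h1, classInner_sub_left, classInner_zsmul_left, classInner_zsmul_left, horth φ hφ,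
      horth χ hχ]
    ring
  rw [hσα β hβ, frobenius_reciprocity N β Ψ hΨ, hβdef, classInner_sub_left,
    classInner_zsmul_left, classInner_zsmul_left] at h2
  have h3 : (n₁ : ℂ) * classInner φ (fun x : ↥N => Ψ (x : G)) =
      (n₂ : ℂ) * classInner χ (fun x : ↥N => Ψ (x : G)) := by
    push_cast at h2
    linear_combination h2
  have h4 := congrArg (starRingEnd ℂ) h3
  rw [map_mul, map_mul, classInner_conj_symm, classInner_conj_symm, Complex.conj_natCast,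
    Complex.conj_natCast] at h4
  rw [hn₁', hn₂']
  exact h4

/-- the integrality statement for an irreducible character `ψ` of `G` -/
theorem integrality_irr (p : ℕ) [Fact p.Prime] (P : Sylow p G)
    (hTI : IsTISubset ((P : Subgroup G) : Set G))
    (N : Subgroup G) [Fintype ↥N] (hN : Subgroup.normalizer ((P : Subgroup G) : Set G) = N)
    (hodd : Odd (Nat.card ↥N))
    (hC : ∀ k ∈ (P : Subgroup G), k ≠ 1 → Subgroup.centralizer ({k} : Set G) ≤ (P : Subgroup G))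
    (Z : Subgroup G) (hZ1 : Z ≠ ⊥) (hZP : Z ≤ (P : Subgroup G))
    (hZn : ∀ x ∈ N, ∀ z ∈ Z, x * z * x⁻¹ ∈ Z)
    (hZc : ∀ z ∈ Z, ∀ y ∈ (P : Subgroup G), z * y = y * z)
    (ψ : G → ℂ) (hψ : IsIrrCharacter G ψ)
    (χ : ↥N → ℂ) (hχ : IsIrrCharacter ↥N χ) (a : ℕ)
    (hχ1 : χ 1 = (a : ℂ) * (((P : Subgroup G).subgroupOf N).index : ℂ))
    (hprop : ∀ φ : ↥N → ℂ, IsIrrCharacter ↥N φ → (∃ z : ↥N, (z : G) ∈ Z ∧ φ z ≠ φ 1) →
      χ 1 * classInner (fun x : ↥N => ψ (x : G)) φ =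
        φ 1 * classInner (fun x : ↥N => ψ (x : G)) χ) :
    ∃ m : ℤ, classInner (fun x : ↥N => ψ (x : G)) χ = (((a : ℤ) * m : ℤ) : ℂ) := by
  classical
  subst hN
  have hPN : (P : Subgroup G) ≤ Subgroup.normalizer ((P : Subgroup G) : Set G) :=
    Subgroup.le_normalizer
  obtain ⟨Θ, hΘdef⟩ : ∃ Θ : ↥(Subgroup.normalizer ((P : Subgroup G) : Set G)) → ℂ,
      Θ = fun x : ↥(Subgroup.normalizer ((P : Subgroup G) : Set G)) => ψ (x : G) := ⟨_, rfl⟩
  rw [← hΘdef] at hprop ⊢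
  have hψcf : IsClassFunction G ψ := isClassFunction_of_isCharacter (isCharacter_of_irr hψ)
  have hΘcf : IsClassFunction ↥(Subgroup.normalizer ((P : Subgroup G) : Set G)) Θ := by
    intro g h
    rw [hΘdef]
    exact hψcf (g : G) (h : G)
  obtain ⟨n₁, hn₁0, hn₁⟩ := irr_one_eq ⟨χ, hχ⟩
  have hn₁' : χ 1 = (n₁ : ℂ) := hn₁
  have hχne : χ 1 ≠ 0 := by
    rw [hn₁']
    exact Nat.cast_ne_zero.mpr hn₁0.ne'
  obtain ⟨c, hcdef⟩ : ∃ c : ℂ, c = classInner Θ χ / χ 1 := ⟨_, rfl⟩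
  have hc : ∀ φ : ↥(Subgroup.normalizer ((P : Subgroup G) : Set G)) → ℂ,
      IsIrrCharacter ↥(Subgroup.normalizer ((P : Subgroup G) : Set G)) φ →
      (∃ z ∈ Z.subgroupOf (Subgroup.normalizer ((P : Subgroup G) : Set G)), φ z ≠ φ 1) →
      classInner Θ φ = c * φ 1 := by
    rintro φ hφ ⟨z, hz, hne⟩
    have h1 := hprop φ hφ ⟨z, Subgroup.mem_subgroupOf.mp hz, hne⟩
    rw [hcdef]
    field_simp
    linear_combination h1
  have hdiff : ∀ z ∈ Z, z ≠ 1 → ψ 1 - ψ z =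
      c * (Nat.card ↥(Subgroup.normalizer ((P : Subgroup G) : Set G)) : ℂ) := by
    intro z hz hz1
    have hzN : z ∈ Subgroup.normalizer ((P : Subgroup G) : Set G) := hPN (hZP hz)
    have h1 := apply_one_sub_apply_of_proportional
      (Z.subgroupOf (Subgroup.normalizer ((P : Subgroup G) : Set G))) Θ hΘcf c hc
      (z := ⟨z, hzN⟩) (Subgroup.mem_subgroupOf.mpr hz) (fun h => hz1 (congrArg Subtype.val h))
    rw [hΘdef] at h1
    exact h1
  have hconst : ∀ z ∈ Z, ∀ z' ∈ Z, z ≠ 1 → z' ≠ 1 → ψ z = ψ z' := by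
    intro z hz z' hz' h1 h1'
    have e1 := hdiff z hz h1
    have e2 := hdiff z' hz' h1'
    linear_combination e2 - e1
  have hCeq : ∀ z ∈ Z, z ≠ 1 → Subgroup.normalizer ((P : Subgroup G) : Set G) ⊓
      Subgroup.centralizer ({z} : Set G) = (P : Subgroup G) := by
    intro z hz hz1
    apply le_antisymm
    · exact inf_le_right.trans (hC z (hZP hz) hz1)
    · refine le_inf hPN ?_
      intro y hy
      rw [Subgroup.mem_centralizer_singleton_iff]
      exact (hZc z hz y hy).symm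
  have hCL : ∀ z ∈ Z, ∀ z' ∈ Z, z ≠ 1 → z' ≠ 1 →
      Nat.card ↥(Subgroup.normalizer ((P : Subgroup G) : Set G) ⊓
        Subgroup.centralizer ({z} : Set G)) =
      Nat.card ↥(Subgroup.normalizer ((P : Subgroup G) : Set G) ⊓
        Subgroup.centralizer ({z'} : Set G)) := by
    intro z hz z' hz' h1 h1'
    rw [hCeq z hz h1, hCeq z' hz' h1']
  obtain ⟨z, hz, hz1⟩ : ∃ z ∈ Z, z ≠ 1 := by
    by_contra hcon
    push Not at hcon
    apply hZ1
    rw [eq_bot_iff]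
    intro z hz
    rw [Subgroup.mem_bot]
    exact hcon z hz
  obtain ⟨n, d, hn, hd, hdvd⟩ := Cfsg.Agent.S1523.result p P hTI hodd Z hZ1 hZP hZn hZc hCL ψ hψ
    hconst z hz hz1
  obtain ⟨k, hk⟩ := hdvd
  have h1 := hdiff z hz hz1
  rw [hn, hd] at h1
  have hcard : Nat.card ↥(Subgroup.normalizer ((P : Subgroup G) : Set G)) =
      Nat.card (P : Subgroup G) *
        ((P : Subgroup G).subgroupOf (Subgroup.normalizer ((P : Subgroup G) : Set G))).index := by
    rw [← Subgroup.card_mul_index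
      ((P : Subgroup G).subgroupOf (Subgroup.normalizer ((P : Subgroup G) : Set G)))]
    congr 1
    exact Nat.card_congr (Subgroup.subgroupOfEquivOfLe hPN).toEquiv
  have hP0 : (Nat.card (P : Subgroup G) : ℂ) ≠ 0 := Nat.cast_ne_zero.mpr Nat.card_pos.ne'
  have h2 : c * (((P : Subgroup G).subgroupOf
      (Subgroup.normalizer ((P : Subgroup G) : Set G))).index : ℂ) = (k : ℂ) := by
    have h3 : ((d - n : ℤ) : ℂ) = ((Nat.card (P : Subgroup G) : ℤ) : ℂ) * (k : ℂ) := by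
      rw [hk]; push_cast; ring
    rw [hcard] at h1
    push_cast at h1 h3
    apply mul_left_cancel₀ hP0
    linear_combination -h1 + h3
  refine ⟨k, ?_⟩
  have h4 : classInner Θ χ = c * χ 1 := by
    rw [hcdef]; field_simp
  rw [h4, hχ1]
  push_cast
  linear_combination (a : ℂ) * h2

/-- the integrality statement for a generalized character of norm one -/
theorem integrality_genChar (p : ℕ) [Fact p.Prime] (P : Sylow p G)
    (hTI : IsTISubset ((P : Subgroup G) : Set G))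
    (N : Subgroup G) [Fintype ↥N] (hN : Subgroup.normalizer ((P : Subgroup G) : Set G) = N)
    (hodd : Odd (Nat.card ↥N))
    (hC : ∀ k ∈ (P : Subgroup G), k ≠ 1 → Subgroup.centralizer ({k} : Set G) ≤ (P : Subgroup G))
    (Z : Subgroup G) (hZ1 : Z ≠ ⊥) (hZP : Z ≤ (P : Subgroup G))
    (hZn : ∀ x ∈ N, ∀ z ∈ Z, x * z * x⁻¹ ∈ Z)
    (hZc : ∀ z ∈ Z, ∀ y ∈ (P : Subgroup G), z * y = y * z)
    (Ψ : G → ℂ) (hΨ : IsGeneralizedCharacter G Ψ) (hΨ1 : classInner Ψ Ψ = 1)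
    (χ : ↥N → ℂ) (hχ : IsIrrCharacter ↥N χ) (a : ℕ)
    (hχ1 : χ 1 = (a : ℂ) * (((P : Subgroup G).subgroupOf N).index : ℂ))
    (hprop : ∀ φ : ↥N → ℂ, IsIrrCharacter ↥N φ → (∃ z : ↥N, (z : G) ∈ Z ∧ φ z ≠ φ 1) →
      χ 1 * classInner (fun x : ↥N => Ψ (x : G)) φ =
        φ 1 * classInner (fun x : ↥N => Ψ (x : G)) χ) :
    ∃ m : ℤ, classInner (indFun N χ) Ψ = (((a : ℤ) * m : ℤ) : ℂ) := by
  have hΨcf : IsClassFunction G Ψ := isClassFunction_of_isGeneralizedCharacter hΨ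
  have key : ∃ m : ℤ, classInner (fun x : ↥N => Ψ (x : G)) χ = (((a : ℤ) * m : ℤ) : ℂ) := by
    rcases genChar_norm_one hΨ hΨ1 with h | h
    · exact integrality_irr p P hTI N hN hodd hC Z hZ1 hZP hZn hZc Ψ h χ hχ a hχ1 hprop
    · have hneg : (fun x : ↥N => (-Ψ) (x : G)) = -(fun x : ↥N => Ψ (x : G)) := rfl
      obtain ⟨m, hm⟩ := integrality_irr p P hTI N hN hodd hC Z hZ1 hZP hZn hZc (-Ψ) h χ hχ a hχ1
        (by
          intro φ hφ hz
          rw [hneg, classInner_neg_left, classInner_neg_left, mul_neg, mul_neg, hprop φ hφ hz])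
      refine ⟨-m, ?_⟩
      rw [hneg, classInner_neg_left] at hm
      have : classInner (fun x : ↥N => Ψ (x : G)) χ = -(((a : ℤ) * m : ℤ) : ℂ) := by
        rw [← hm, neg_neg]
      rw [this]
      push_cast
      ring
  obtain ⟨m, hm⟩ := key
  refine ⟨m, ?_⟩
  rw [frobenius_reciprocity N χ Ψ hΨcf, ← classInner_conj_symm, hm, map_intCast]

end

end Cfsg.Agent.Lib.H8
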