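import Mathlib
import Cfsg.Agent.Lib.H8.CohCentralD
import Cfsg.Agent.Lib.H8.FeitFrob
import Cfsg.Agent.Lib.H8.CohFrob
import Cfsg.Agent.Lib.H8.CohExtend

/-!
# The final extension step of Sibley's coherence theorem (helper8's library)

`L` of odd order, Frobenius-type with kernel `K`; `Z ≠ 1` central in `K`, normal in `L`,
`Z ≤ [K,K] < K`.  If `(S ∖ S(Z)) ∪ S([K,K])` is coherent then so is `S = S(1)`.
-/

set_option autoImplicit false

namespace Cfsg.Agent.Lib.H8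

open Cfsg Cfsg.Agent.Lib.L0 Cfsg.Agent.Lib.H24
open scoped ComplexConjugate commutatorElement

section
variable {L : Type*} [Group L] [Fintype L] {G : Type*} [Group G] [Fintype G]

theorem sibley_arith (e t r z : ℕ) (he : 0 < e) (ht : t ^ 2 ≤ r) (hr : 1 < r)
    (hz : 2 * e + 1 ≤ z) : 2 * (e * t) * e < r * e * (z - 1) := by
  have htr : t < r := by
    rcases Nat.lt_or_ge t 2 with h | h
    · omega
    · nlinarith
  have h1 : 2 * e ≤ z - 1 := by omega
  have h2 : t + 1 ≤ r := htr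
  calc 2 * (e * t) * e = e * e * (2 * t) := by ring
    _ < e * e * (2 * (t + 1)) := by
        apply Nat.mul_lt_mul_of_pos_left (by omega) (by positivity)
    _ ≤ e * e * (2 * r) := by
        apply Nat.mul_le_mul_left
        omega
    _ = r * e * (2 * e) := by ring
    _ ≤ r * e * (z - 1) := Nat.mul_le_mul_left _ h1

theorem coherent_of_coherent_diff_union (K : Subgroup L) [K.Normal]
    (hCK : ∀ k ∈ K, k ≠ 1 → Subgroup.centralizer ({k} : Set L) ≤ K)
    (hodd : Odd (Nat.card L)) (hsolv : Group.IsSolvable K)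
    (τ : (L → ℂ) → (G → ℂ)) (R : (L → ℂ) → Finset (G → ℂ))
    (hS : IsCoherenceSystem (inducedIrrAbove K ⊥) τ R)
    (Z : Subgroup L) [Z.Normal] (hZ1 : Z ≠ ⊥) (hZK : Z ≤ K)
    (hZc : ∀ z ∈ Z, ∀ k ∈ K, z * k = k * z) (hZK' : Z ≤ ⁅K, K⁆) (hK' : ¬ K ≤ ⁅K, K⁆)
    (hcoh : IsCoherent ((inducedIrrAbove K ⊥ \ inducedIrrAbove K Z) ∪ inducedIrrAbove K ⁅K, K⁆)
      {1}ᶜ τ) :
    IsCoherent (inducedIrrAbove K ⊥) {1}ᶜ τ := by
  classical
  have hSfeit : inducedIrrAbove K ⊥ ⊆ feitSet K := inducedIrrAbove_subset_feitSet K hCK ⊥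
  have hSirr : ∀ χ ∈ inducedIrrAbove K ⊥, IsIrrCharacter L χ := fun χ hχ => (hSfeit hχ).1
  have hirr : ∀ χ ∈ inducedIrrAbove K ⊥ \ inducedIrrAbove K Z, IsIrrCharacter L χ :=
    fun χ hχ => hSirr χ hχ.1
  have hXeq := diff_eq_irr K Z hZK hirr
  have hfin := coh_finite hS
  obtain ⟨X, hXdef⟩ : ∃ X : Set (L → ℂ), X = inducedIrrAbove K ⊥ \ inducedIrrAbove K Z := ⟨_, rfl⟩
  obtain ⟨Y, hYdef⟩ : ∃ Y : Set (L → ℂ), Y = inducedIrrAbove K ⁅K, K⁆ := ⟨_, rfl⟩
  rw [← hXdef, ← hYdef] at hcoh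
  rw [← hXdef] at hXeq
  have hXS : X ⊆ inducedIrrAbove K ⊥ := by rw [hXdef]; exact Set.sdiff_subset
  have hYS : Y ⊆ inducedIrrAbove K ⊥ := by rw [hYdef]; exact inducedIrrAbove_subset_bot K _
  obtain ⟨S₀, hS₀def⟩ : ∃ S₀ : Finset (L → ℂ), S₀ = hfin.toFinset.filter (fun φ => φ ∈ X ∪ Y) :=
    ⟨_, rfl⟩
  obtain ⟨U, hUdef⟩ : ∃ U : Finset (L → ℂ), U = hfin.toFinset.filter (fun φ => φ ∉ X ∪ Y) :=
    ⟨_, rfl⟩
  obtain ⟨T, hTdef⟩ : ∃ T : Finset (L → ℂ), T = hfin.toFinset.filter (fun φ => φ ∈ X) := ⟨_, rfl⟩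
  have hS₀mem : ∀ φ, φ ∈ S₀ ↔ φ ∈ X ∪ Y := by
    intro φ
    rw [hS₀def, Finset.mem_filter, Set.Finite.mem_toFinset]
    constructor
    · exact fun h => h.2
    · intro h
      refine ⟨?_, h⟩
      rcases h with h | h
      · exact hXS h
      · exact hYS h
  have hUmem : ∀ φ, φ ∈ U ↔ φ ∈ inducedIrrAbove K ⊥ ∧ φ ∉ X ∪ Y := by
    intro φ
    rw [hUdef, Finset.mem_filter, Set.Finite.mem_toFinset]
  have hTmem : ∀ φ, φ ∈ T ↔ φ ∈ X := by
    intro φ
    rw [hTdef, Finset.mem_filter, Set.Finite.mem_toFinset]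
    exact ⟨fun h => h.2, fun h => ⟨hXS h, h⟩⟩
  have hS₀coe : (↑S₀ : Set (L → ℂ)) = X ∪ Y := by
    ext φ; exact hS₀mem φ
  have hTcoe : (↑T : Set (L → ℂ)) = {χ | IsIrrCharacter L χ ∧ ∃ z ∈ Z, χ z ≠ χ 1} := by
    rw [← hXeq]; ext φ; exact hTmem φ
  have hTS₀ : T ⊆ S₀ := fun φ hφ => (hS₀mem φ).mpr (Or.inl ((hTmem φ).mp hφ))
  have hunion : (↑(S₀ ∪ U) : Set (L → ℂ)) = inducedIrrAbove K ⊥ := by
    ext φ
    rw [Finset.coe_union, Set.mem_union, Finset.mem_coe, Finset.mem_coe, hS₀mem, hUmem]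
    constructor
    · rintro (h | h)
      · rcases h with h | h
        · exact hXS h
        · exact hYS h
      · exact h.1
    · intro h
      by_cases h1 : φ ∈ X ∪ Y
      · exact Or.inl h1
      · exact Or.inr ⟨h, h1⟩
  -- conjugation
  have hXc : ∀ φ ∈ X, conjFun φ ∈ X := by
    intro φ hφ; rw [hXdef] at hφ ⊢; exact diff_conj K Z hφ
  have hYc : ∀ φ ∈ Y, conjFun φ ∈ Y := by
    intro φ hφ; rw [hYdef] at hφ ⊢; exact inducedIrrAbove_conj K _ hφ
  have hS₀c : ∀ φ ∈ S₀, conjFun φ ∈ S₀ := by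
    intro φ hφ
    rw [hS₀mem] at hφ ⊢
    rcases hφ with h | h
    · exact Or.inl (hXc φ h)
    · exact Or.inr (hYc φ h)
  have hUc : ∀ φ ∈ U, conjFun φ ∈ U := by
    intro φ hφ
    rw [hUmem] at hφ ⊢
    refine ⟨inducedIrrAbove_conj K ⊥ hφ.1, fun h => hφ.2 ?_⟩
    rcases h with h | h
    · have := hXc _ h
      rw [conjFun_conjFun] at this
      exact Or.inl this
    · have := hYc _ h
      rw [conjFun_conjFun] at this
      exact Or.inr this
  -- the linear character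
  obtain ⟨l₀, hl₀, hl₀1⟩ := exists_linear_induced K ⁅K, K⁆ hsolv hK'
  have hl₀S₀ : l₀ ∈ S₀ := (hS₀mem l₀).mpr (Or.inr (by rw [hYdef]; exact hl₀))
  have hl₀S : l₀ ∈ inducedIrrAbove K ⊥ := inducedIrrAbove_subset_bot K _ hl₀
  have hdl₀ : charDegree l₀ = K.index := by
    have h1 := Cfsg.Agent.Lib.H23.apply_one_eq_charDegree l₀ (hSirr l₀ hl₀S)
    rw [hl₀1] at h1
    exact_mod_cast h1.symm
  -- arithmetic data
  have he0 : 0 < K.index := Nat.pos_of_ne_zero Subgroup.index_ne_zero_of_finite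
  have hZodd : Odd (Nat.card Z) := Odd.of_dvd_nat hodd (Subgroup.card_subgroup_dvd_card Z)
  have heodd : Odd K.index := Odd.of_dvd_nat hodd (Subgroup.index_dvd_card K)
  have hZgt : 1 < Nat.card Z := by
    rw [Subgroup.one_lt_card_iff_ne_bot]; exact hZ1
  have hZge : 2 * K.index + 1 ≤ Nat.card Z :=
    ge_of_modEq_odd K.index (Nat.card Z) heodd hZodd hZgt (frob_card_modEq K hCK Z hZK)
  have hr1 : 1 < Z.relIndex K := by
    have h0 : Z.relIndex K ≠ 0 := by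
      intro h
      have := Subgroup.relIndex_dvd_card Z K
      rw [h, zero_dvd_iff] at this
      exact (Nat.card_pos (α := K)).ne' this
    have h1 : Z.relIndex K ≠ 1 := by
      intro h
      exact hK' ((Subgroup.relIndex_eq_one.mp h).trans hZK')
    omega
  have hsumT : ∑ φ ∈ T, charDegree φ ^ 2 = Z.relIndex K * K.index * (Nat.card Z - 1) := by
    have h1 := sum_degree_sq_not_ker' Z T hTcoe
    have h2 : Nat.card K * K.index = Nat.card L := Subgroup.card_mul_index K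
    have h3 : Z.relIndex K * Nat.card Z = Nat.card K := by
      have := Subgroup.relIndex_mul_relIndex ⊥ Z K bot_le hZK
      rw [Subgroup.relIndex_bot_left, Subgroup.relIndex_bot_left] at this
      rw [mul_comm]; exact this
    have hZ0 : 0 < Nat.card Z := Nat.card_pos
    apply Nat.eq_of_mul_eq_mul_right hZ0
    have h4 : Nat.card L = Z.relIndex K * Nat.card Z * K.index := by rw [h3, h2]
    obtain ⟨w, hw⟩ : ∃ w, Nat.card Z = w + 1 := ⟨Nat.card Z - 1, by omega⟩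
    rw [h4] at h1
    rw [hw] at h1 ⊢
    rw [Nat.add_sub_cancel]
    nlinarith
  -- apply the extension lemma
  have hd : ∀ φ ∈ inducedIrrAbove K ⊥, φ 1 = (charDegree φ : ℂ) := fun φ hφ =>
    Cfsg.Agent.Lib.H23.apply_one_eq_charDegree φ (hSirr φ hφ)
  have hn : ∀ φ ∈ inducedIrrAbove K ⊥, classInner φ φ = (((fun _ : L → ℂ => (1 : ℕ)) φ : ℕ) : ℂ) := by
    intro φ hφ
    rw [irr_classInner_self (hSirr φ hφ)]
    simp
  have hcoh' : IsCoherent (↑S₀ : Set (L → ℂ)) {1}ᶜ τ := by rw [hS₀coe]; exact hcoh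
  have hS₀S : (↑S₀ : Set (L → ℂ)) ⊆ inducedIrrAbove K ⊥ := by
    rw [hS₀coe]; exact Set.union_subset hXS hYS
  have hUS : (↑U : Set (L → ℂ)) ⊆ inducedIrrAbove K ⊥ := fun φ hφ => ((hUmem φ).mp hφ).1
  have hNle : ((∑ φ ∈ T, charDegree φ ^ 2 : ℕ) : ℝ) ≤
      ∑ φ ∈ S₀, ((charDegree φ : ℕ) : ℝ) ^ 2 / (((fun _ : L → ℂ => (1 : ℕ)) φ : ℕ) : ℝ) := by
    push_cast
    simp only [div_one]
    exact Finset.sum_le_sum_of_subset_of_nonneg hTS₀ (fun φ _ _ => by positivity)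
  have hres := coherent_union_of_bound hS charDegree (fun _ => 1) hd hn S₀ hS₀S hS₀c hcoh' l₀ hl₀S₀
    ((∑ φ ∈ T, charDegree φ ^ 2 : ℕ) : ℝ) hNle U.card U le_rfl hUS hUc (by
      intro φ hφ
      obtain ⟨hφS, hφXY⟩ := (hUmem φ).mp hφ
      have hφZ : φ ∈ inducedIrrAbove K Z := by
        by_contra hcon
        apply hφXY
        left
        rw [hXdef]
        exact ⟨hφS, hcon⟩
      obtain ⟨θ, hθ, hθ1, hθZ, rfl⟩ := hφZ
      have hdeg := charDegree_indFun K θ hθ (hSirr _ hφS)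
      haveI : (Z.subgroupOf K).Normal := by
        constructor
        intro n hn g
        rw [Subgroup.mem_subgroupOf] at hn ⊢
        rw [Subgroup.coe_mul, Subgroup.coe_mul, Subgroup.coe_inv]
        have hZn : Z.Normal := inferInstance
        exact hZn.conj_mem _ hn _
      have hsq := irr_degree_sq_le_mod (⟨θ, hθ⟩ : IrrCharacter ↥K) (Z.subgroupOf K) ⊤
        (Z.subgroupOf K) le_rfl le_top
        (by
          intro d hd c _
          have h1 : d * c = c * d := Subtype.ext (hZc d (Subgroup.mem_subgroupOf.mp hd) c c.2)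
          have h2 : d * c * d⁻¹ * c⁻¹ = 1 := by
            rw [h1]; group
          rw [h2]
          exact Subgroup.one_mem _)
        (fun b hb => hθZ b (Subgroup.mem_subgroupOf.mp hb))
      rw [Subgroup.index_top, one_pow, one_mul, Subgroup.relIndex_top_right] at hsq
      have hsq' : charDegree θ ^ 2 ≤ Z.relIndex K := hsq
      refine ⟨?_, ?_⟩
      · rw [hdl₀, hdeg]
        exact Dvd.intro _ rfl
      · rw [hdl₀, hdeg, hsumT]
        have := sibley_arith K.index (charDegree θ) (Z.relIndex K) (Nat.card Z) he0 hsq' hr1 hZge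
        exact_mod_cast this)
  rw [hunion] at hres
  exact hres

end

end Cfsg.Agent.Lib.H8
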