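import Mathlib
import Cfsg.Agent.Lib.H8.CohCentralD
import Cfsg.Agent.Lib.H8.TIInd
import Cfsg.Agent.Lib.H8.FeitFrob
import Cfsg.Agent.Lib.H8.Clifford
import Cfsg.Agent.Lib.H24.CharOdd
import Cfsg.Agent.Lib.H27.Basic
import Cfsg.Agent.S1514

/-!
# A TI `p`-subgroup `P` with Frobenius normaliser `N` ("tifn"): coherence of the characters of `N`
nontrivial on a central subgroup `Z` of `P` (helper8's library, for S1532)
-/

set_option autoImplicit false

namespace Cfsg.Agent.Lib.H8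

open Cfsg Cfsg.Agent.Lib.L0 Cfsg.Agent.Lib.H24
open scoped ComplexConjugate

section
variable {G : Type*} [Group G] [Fintype G]

/-- a Frobenius-type group `N` with non-abelian kernel `P` of odd order has odd order -/
theorem odd_card_of_frob_nonabelian (P N : Subgroup G) (hPodd : Odd (Nat.card P))
    (hna : ¬ IsMulCommutative P) (hnorm : ∀ x ∈ N, ∀ y ∈ P, x * y * x⁻¹ ∈ P)
    (hC : ∀ k ∈ P, k ≠ 1 → Subgroup.centralizer ({k} : Set G) ≤ P) : Odd (Nat.card N) := by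
  by_contra hcon
  rw [Nat.not_odd_iff_even, even_iff_two_dvd] at hcon
  haveI : Fact (Nat.Prime 2) := ⟨Nat.prime_two⟩
  obtain ⟨t, ht⟩ := exists_prime_orderOf_dvd_card' (G := ↥N) 2 hcon
  have ht2 : (t : G) * (t : G) = 1 := by
    have h1 : t ^ 2 = 1 := by rw [← ht]; exact pow_orderOf_eq_one t
    have h2 : ((t ^ 2 : ↥N) : G) = 1 := by rw [h1]; rfl
    rw [← h2, pow_two]; rfl
  have htne : (t : G) ≠ 1 := by
    intro h
    have : t = 1 := Subtype.ext h
    rw [this, orderOf_one] at ht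
    omega
  have htP : (t : G) ∉ P := by
    intro h
    have h1 : orderOf (⟨(t : G), h⟩ : ↥P) ∣ Nat.card P := orderOf_dvd_natCard _
    have h2 : orderOf (⟨(t : G), h⟩ : ↥P) = 2 := by
      rw [← Subgroup.orderOf_coe]
      show orderOf (t : G) = 2
      rw [Subgroup.orderOf_coe]
      exact ht
    rw [h2] at h1
    exact (Nat.not_even_iff_odd.mpr hPodd) (even_iff_two_dvd.mpr h1)
  have hfpf : ∀ k ∈ P, (t : G) * k = k * (t : G) → k = 1 := by
    intro k hk hcomm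
    by_contra hk1
    apply htP
    apply hC k hk hk1
    rw [Subgroup.mem_centralizer_singleton_iff]
    exact hcomm
  have hinv := Cfsg.Agent.Lib.H27.inverts_of_fixedPointFree P (t : G) ht2
    (fun k hk => hnorm t t.2 k hk) hfpf
  apply hna
  refine ⟨⟨fun a b => ?_⟩⟩
  apply Subtype.ext
  show (a : G) * b = b * a
  have h1 := hinv _ (P.mul_mem a.2 b.2)
  have h2 := hinv _ a.2
  have h3 := hinv _ b.2
  have h4 : (t : G) * ((a : G) * b) * (t : G)⁻¹ = ((t : G) * a * (t : G)⁻¹) * ((t : G) * b * (t : G)⁻¹) := by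
    group
  rw [h4, h2, h3] at h1
  have h5 : ((a : G) * b)⁻¹ = (b : G)⁻¹ * (a : G)⁻¹ := mul_inv_rev _ _
  rw [h5] at h1
  have h6 := congrArg (fun x => x⁻¹) h1
  simp only [mul_inv_rev, inv_inv] at h6
  exact h6.symm

/-- Sylow-tifn version of Peterfalvi (6.6): `P` a non-abelian `p`-subgroup (`p` odd) that is a TI
set with normaliser-like overgroup `N` (Frobenius with kernel `P`); `Z ≠ 1` central in `P`, normalised
by `N`.  Then the irreducible characters of `N` not containing `Z` in their kernel form a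
coherent set for induction to `G`. -/
theorem coherent_central_of_tifn (p : ℕ) (hp : p.Prime) (hp2 : p ≠ 2)
    (P N : Subgroup G) [Fintype ↥N] (hPN : P ≤ N) (m : ℕ) (hPp : Nat.card P = p ^ m)
    (hna : ¬ IsMulCommutative P)
    (hnorm : ∀ x ∈ N, ∀ y ∈ P, x * y * x⁻¹ ∈ P)
    (hTI : ∀ g : G, ∀ a ∈ P, a ≠ 1 → g * a * g⁻¹ ∈ P → g ∈ N)
    (hC : ∀ k ∈ P, k ≠ 1 → Subgroup.centralizer ({k} : Set G) ≤ P)
    (Z : Subgroup G) (hZ1 : Z ≠ ⊥) (hZP : ∀ z ∈ Z, z ∈ P ∧ ∀ y ∈ P, z * y = y * z)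
    (hZn : ∀ x ∈ N, ∀ z ∈ Z, x * z * x⁻¹ ∈ Z) :
    IsCoherent {χ : ↥N → ℂ | IsIrrCharacter ↥N χ ∧ ∃ z : ↥N, (z : G) ∈ Z ∧ χ z ≠ χ 1} {1}ᶜ
      (fun α => indFun N α) := by
  classical
  have hp3 : 2 < p := lt_of_le_of_ne hp.two_le (Ne.symm hp2)
  have hPodd : Odd (Nat.card P) := by
    rw [hPp]
    apply Odd.pow
    rcases hp.eq_two_or_odd' with h | h
    · exact absurd h hp2
    · exact h
  have hodd : Odd (Nat.card ↥N) := odd_card_of_frob_nonabelian P N hPodd hna hnorm hC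
  obtain ⟨K, hKdef⟩ : ∃ K : Subgroup ↥N, K = P.subgroupOf N := ⟨_, rfl⟩
  obtain ⟨Z', hZ'def⟩ : ∃ Z' : Subgroup ↥N, Z' = Z.subgroupOf N := ⟨_, rfl⟩
  have hKmem : ∀ x : ↥N, x ∈ K ↔ (x : G) ∈ P := fun x => by rw [hKdef]; exact Subgroup.mem_subgroupOf
  have hZ'mem : ∀ x : ↥N, x ∈ Z' ↔ (x : G) ∈ Z := fun x => by
    rw [hZ'def]; exact Subgroup.mem_subgroupOf
  haveI hKn : K.Normal := by
    constructor
    intro k hk x
    rw [hKmem] at hk ⊢
    exact hnorm x x.2 k hk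
  haveI hZ'n : Z'.Normal := by
    constructor
    intro k hk x
    rw [hZ'mem] at hk ⊢
    exact hZn x x.2 k hk
  have hZK : Z' ≤ K := fun x hx => (hKmem x).mpr (hZP _ ((hZ'mem x).mp hx)).1
  have hZc : ∀ z ∈ Z', ∀ k ∈ K, z * k = k * z := by
    intro z hz k hk
    apply Subtype.ext
    exact (hZP _ ((hZ'mem z).mp hz)).2 _ ((hKmem k).mp hk)
  have hCK : ∀ k ∈ K, k ≠ 1 → Subgroup.centralizer ({k} : Set ↥N) ≤ K := by
    intro k hk hk1 x hx
    rw [hKmem]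
    apply hC (k : G) ((hKmem k).mp hk) (fun h => hk1 (Subtype.ext h))
    rw [Subgroup.mem_centralizer_singleton_iff] at hx ⊢
    exact congrArg Subtype.val hx
  have hKcard : Nat.card K = p ^ m := by
    rw [← hPp, hKdef]
    exact Nat.card_congr (Subgroup.subgroupOfEquivOfLe hPN).toEquiv
  have hm0 : m ≠ 0 := by
    intro h
    rw [h, pow_zero] at hPp
    haveI : Subsingleton ↥P := (Nat.card_eq_one_iff_unique.mp hPp).1
    apply hna
    exact ⟨⟨fun a b => Subsingleton.elim _ _⟩⟩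
  have hep : Nat.Coprime K.index p := by
    apply Nat.Coprime.symm
    rw [Nat.Prime.coprime_iff_not_dvd hp]
    intro hpe
    have hmod := frob_card_modEq K hCK K le_rfl
    have h1 : Nat.card K ≡ 1 [MOD p] := hmod.of_dvd hpe
    have h2 : Nat.card K ≡ 0 [MOD p] := by
      rw [hKcard]; exact (Nat.modEq_zero_iff_dvd).mpr (dvd_pow_self p hm0)
    have h3 : (1 : ℕ) ≡ 0 [MOD p] := h1.symm.trans h2
    have h4 : p ∣ 1 := (Nat.modEq_zero_iff_dvd).mp h3
    exact hp.one_lt.ne' (Nat.dvd_one.mp h4)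
  -- the set S
  have hSfeit : inducedIrrAbove K ⊥ ⊆ feitSet K := inducedIrrAbove_subset_feitSet K hCK ⊥
  have hSirr : ∀ χ ∈ inducedIrrAbove K ⊥, IsIrrCharacter ↥N χ := fun χ hχ => (hSfeit hχ).1
  have hirr : ∀ χ ∈ inducedIrrAbove K ⊥ \ inducedIrrAbove K Z', IsIrrCharacter ↥N χ :=
    fun χ hχ => hSirr χ hχ.1
  have hXeq := diff_eq_irr K Z' hZK hirr
  have hne : (inducedIrrAbove K ⊥ \ inducedIrrAbove K Z').Nonempty := by
    by_contra hcon
    rw [Set.not_nonempty_iff_eq_empty] at hcon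
    have h1 := sum_degree_sq_not_ker' Z' (∅ : Finset (↥N → ℂ)) (by rw [← hXeq, hcon]; simp)
    rw [Finset.sum_empty, zero_mul, zero_add] at h1
    have hLpos : 0 < Nat.card ↥N := Nat.card_pos
    have h2 : Nat.card Z' = 1 := by
      have : Nat.card ↥N * 1 = Nat.card ↥N * Nat.card Z' := by rw [mul_one]; exact h1
      exact (Nat.eq_of_mul_eq_mul_left hLpos this).symm
    have h3 : Z' = ⊥ := Subgroup.card_eq_one.mp h2
    apply hZ1
    rw [eq_bot_iff]
    intro z hz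
    have hzN : z ∈ N := hPN (hZP z hz).1
    have : (⟨z, hzN⟩ : ↥N) ∈ Z' := (hZ'mem _).mpr hz
    rw [h3, Subgroup.mem_bot] at this
    rw [Subgroup.mem_bot]
    exact congrArg Subtype.val this
  have hSne : (inducedIrrAbove K ⊥).Nonempty := hne.mono Set.sdiff_subset
  -- the isometry
  obtain ⟨A, hA⟩ : ∃ A : Set G, A = {a | a ∈ P ∧ a ≠ 1} := ⟨_, rfl⟩
  have hTI' : ∀ g : G, ∀ a ∈ A, g * a * g⁻¹ ∈ A → g ∈ N := by
    intro g a ha hga
    rw [hA] at ha hga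
    exact hTI g a ha.1 ha.2 hga.1
  have hSA : ∀ χ ∈ inducedIrrAbove K ⊥, ∀ x : ↥N, x ≠ 1 → (x : G) ∉ A → χ x = 0 := by
    rintro χ ⟨θ, -, -, -, rfl⟩ x hx hxA
    apply indFun_of_not_mem_normal
    intro hxK
    apply hxA
    rw [hA]
    exact ⟨(hKmem x).mp hxK, fun h => hx (Subtype.ext h)⟩
  obtain ⟨hτ, hτ1⟩ := isLinearIsometryOn_indFun_of_tiSet N A hTI' (inducedIrrAbove K ⊥)
    (fun χ hχ => isCharacter_of_irr (hSirr χ hχ)) hSA
  have hconj : ∀ χ ∈ inducedIrrAbove K ⊥, conjFun χ ∈ inducedIrrAbove K ⊥ ∧ conjFun χ ≠ χ := by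
    intro χ hχ
    refine ⟨inducedIrrAbove_conj K ⊥ hχ, fun h => ?_⟩
    have hreal : ∀ g : ↥N, (χ g).im = 0 := by
      intro g
      have := congrFun h g
      rw [conjFun_apply] at this
      exact Complex.conj_eq_iff_im.mp this
    have h1 := real_irr_eq_trivial_of_odd hodd ⟨χ, hSirr χ hχ⟩ hreal
    obtain ⟨-, k, -, hk⟩ := hSfeit hχ
    apply hk
    have h2 : χ = fun _ => 1 := congrArg Subtype.val h1
    rw [h2]
  obtain ⟨R, hS⟩ := Cfsg.Agent.S1514.result (inducedIrrAbove K ⊥) hSne hSirr hconj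
    (fun α => indFun N α) hτ hτ1
  have hcoh := coherent_diff_of_pgroup K (fun α => indFun N α) R hS Z' hZK hZc hirr p m hp hp3
    hKcard hep hne
  rw [hXeq] at hcoh
  have hset : {χ : ↥N → ℂ | IsIrrCharacter ↥N χ ∧ ∃ z ∈ Z', χ z ≠ χ 1} =
      {χ : ↥N → ℂ | IsIrrCharacter ↥N χ ∧ ∃ z : ↥N, (z : G) ∈ Z ∧ χ z ≠ χ 1} := by
    ext χ
    constructor
    · rintro ⟨h1, z, hz, h2⟩
      exact ⟨h1, z, (hZ'mem z).mp hz, h2⟩
    · rintro ⟨h1, z, hz, h2⟩
      exact ⟨h1, z, (hZ'mem z).mpr hz, h2⟩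
  rw [hset] at hcoh
  exact hcoh

end

end Cfsg.Agent.Lib.H8
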