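import Mathlib
import Cfsg.Agent.Lib.H8.SibleyC
import Cfsg.Agent.Lib.H8.SibleyD
import Cfsg.Agent.Lib.H8.SibleyE
import Cfsg.Agent.Lib.H8.SylowTIFN
import Cfsg.Agent.Lib.H16.PGroupCenter

/-!
# Sibley's coherence theorem for a non-abelian TI Sylow `p`-subgroup (`p` odd) with Frobenius
normaliser (helper8's library)
-/

set_option autoImplicit false

namespace Cfsg.Agent.Lib.H8

open Cfsg Cfsg.Agent.Lib.L0 Cfsg.Agent.Lib.H24
open scoped ComplexConjugate commutatorElement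

section
variable {G : Type*} [Group G] [Fintype G]

/-- the subgroup `Z = [P,P] ∩ C_G(P)`: nontrivial, central in `P`, normalised by `N_G(P)` -/
theorem exists_central_in_commutator (p : ℕ) (hp : p.Prime) (P N : Subgroup G)
    (hP : IsPGroup p P) (hna : ¬ IsMulCommutative P)
    (hnorm : ∀ x ∈ N, ∀ y ∈ P, x * y * x⁻¹ ∈ P) (hPN : P ≤ N) :
    ∃ Z : Subgroup G, Z ≠ ⊥ ∧ Z ≤ ⁅P, P⁆ ∧ Z ≤ P ∧ (∀ z ∈ Z, ∀ y ∈ P, z * y = y * z) ∧
      ∀ x ∈ N, ∀ z ∈ Z, x * z * x⁻¹ ∈ Z := by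
  have hP'P : ⁅P, P⁆ ≤ P := by
    rw [Subgroup.commutator_le]
    intro a ha b hb
    rw [commutatorElement_def]
    exact P.mul_mem (P.mul_mem (P.mul_mem ha hb) (inv_mem ha)) (inv_mem hb)
  have hP'n : ∀ x ∈ N, ∀ b ∈ ⁅P, P⁆, x * b * x⁻¹ ∈ ⁅P, P⁆ := by
    intro x hx
    have hle : ⁅P, P⁆ ≤ (⁅P, P⁆).comap (MulAut.conj x).toMonoidHom := by
      rw [Subgroup.commutator_le]
      intro a ha b hb
      rw [Subgroup.mem_comap]
      show x * ⁅a, b⁆ * x⁻¹ ∈ ⁅P, P⁆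
      have h1 : x * ⁅a, b⁆ * x⁻¹ = ⁅x * a * x⁻¹, x * b * x⁻¹⁆ := by
        simp only [commutatorElement_def]; group
      rw [h1]
      exact Subgroup.commutator_mem_commutator (hnorm x hx a ha) (hnorm x hx b hb)
    intro b hb
    exact hle hb
  have hP'1 : ⁅P, P⁆ ≠ ⊥ := by
    intro h
    rw [Subgroup.commutator_eq_bot_iff_le_centralizer] at h
    apply hna
    refine ⟨⟨fun a b => ?_⟩⟩
    apply Subtype.ext
    have := (Subgroup.mem_centralizer_iff.mp (h a.2)) b b.2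
    exact this.symm
  refine ⟨⁅P, P⁆ ⊓ Subgroup.centralizer (P : Set G), ?_, inf_le_left, inf_le_left.trans hP'P,
    ?_, ?_⟩
  · obtain ⟨x, hx, hx1, hxc⟩ := Cfsg.Agent.Lib.H16.exists_ne_one_central_of_le_normalizer hp P
      ⁅P, P⁆ hP hP'P
      (Cfsg.Agent.Lib.H16.le_normalizer_of_conj_mem P ⁅P, P⁆ (fun g hg => hP'n g (hPN hg))) hP'1
    intro h
    apply hx1
    have : x ∈ ⁅P, P⁆ ⊓ Subgroup.centralizer (P : Set G) := by
      rw [Subgroup.mem_inf]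
      refine ⟨hx, ?_⟩
      rw [Subgroup.mem_centralizer_iff]
      intro g hg
      exact hxc g hg
    rw [h, Subgroup.mem_bot] at this
    exact this
  · intro z hz y hy
    rw [Subgroup.mem_inf] at hz
    exact ((Subgroup.mem_centralizer_iff.mp hz.2) y hy).symm
  · intro x hx z hz
    rw [Subgroup.mem_inf] at hz ⊢
    refine ⟨hP'n x hx z hz.1, ?_⟩
    rw [Subgroup.mem_centralizer_iff]
    intro y hy
    have h1 : x⁻¹ * y * x⁻¹⁻¹ ∈ P := hnorm x⁻¹ (inv_mem hx) y hy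
    have h2 := (Subgroup.mem_centralizer_iff.mp hz.2) _ h1
    calc y * (x * z * x⁻¹) = x * ((x⁻¹ * y * x⁻¹⁻¹) * z) * x⁻¹ := by group
      _ = x * (z * (x⁻¹ * y * x⁻¹⁻¹)) * x⁻¹ := by rw [h2]
      _ = x * z * x⁻¹ * y := by group

/-- **Sibley's coherence theorem**, `p`-group case: `P` a non-abelian TI Sylow `p`-subgroup of `G`
(`p` odd) whose normaliser `N` is a Frobenius group with kernel `P`.  Then the set of characters
of `N` induced from the non-principal irreducible characters of `P` is coherent. -/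
theorem sibley_sylow (p : ℕ) [Fact p.Prime] (hp2 : p ≠ 2) (P : Sylow p G)
    (hTI : IsTISubset ((P : Subgroup G) : Set G))
    (N : Subgroup G) [Fintype ↥N] (hN : Subgroup.normalizer ((P : Subgroup G) : Set G) = N)
    (hna : ¬ IsMulCommutative (P : Subgroup G))
    (hC : ∀ k ∈ (P : Subgroup G), k ≠ 1 → Subgroup.centralizer ({k} : Set G) ≤ (P : Subgroup G)) :
    IsCoherent (inducedIrrAbove ((P : Subgroup G).subgroupOf N) ⊥) {1}ᶜ
      (fun α => indFun N α) := by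
  classical
  have hp : p.Prime := Fact.out
  have hp3 : 2 < p := lt_of_le_of_ne hp.two_le (Ne.symm hp2)
  have hPN : (P : Subgroup G) ≤ N := by rw [← hN]; exact Subgroup.le_normalizer
  have hnorm : ∀ x ∈ N, ∀ y ∈ (P : Subgroup G), x * y * x⁻¹ ∈ (P : Subgroup G) := by
    intro x hx y hy
    rw [← hN, Subgroup.mem_normalizer_iff] at hx
    exact (hx y).mp hy
  have hTI' : ∀ g : G, ∀ a ∈ (P : Subgroup G), a ≠ 1 → g * a * g⁻¹ ∈ (P : Subgroup G) → g ∈ N := by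
    intro g a ha ha1 hga
    by_contra hg
    rw [← hN] at hg
    exact ha1 (hTI g hg a ha hga)
  have hPgroup : IsPGroup p (P : Subgroup G) := P.isPGroup'
  obtain ⟨m, hPp⟩ := IsPGroup.iff_card.mp hPgroup
  have hPodd : Odd (Nat.card (P : Subgroup G)) := by
    rw [hPp]
    apply Odd.pow
    rcases hp.eq_two_or_odd' with h | h
    · exact absurd h hp2
    · exact h
  have hodd : Odd (Nat.card ↥N) := odd_card_of_frob_nonabelian (P : Subgroup G) N hPodd hna hnorm hC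
  obtain ⟨Z, hZ1, hZP', hZP, hZc, hZn⟩ := exists_central_in_commutator p hp (P : Subgroup G) N
    hPgroup hna hnorm hPN
  -- the groups inside `N`
  obtain ⟨K, hKdef⟩ : ∃ K : Subgroup ↥N, K = (P : Subgroup G).subgroupOf N := ⟨_, rfl⟩
  obtain ⟨Z', hZ'def⟩ : ∃ Z' : Subgroup ↥N, Z' = Z.subgroupOf N := ⟨_, rfl⟩
  rw [← hKdef]
  have hKmem : ∀ x : ↥N, x ∈ K ↔ (x : G) ∈ (P : Subgroup G) := fun x => by
    rw [hKdef]; exact Subgroup.mem_subgroupOf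
  have hZ'mem : ∀ x : ↥N, x ∈ Z' ↔ (x : G) ∈ Z := fun x => by
    rw [hZ'def]; exact Subgroup.mem_subgroupOf
  haveI hKn : K.Normal := by
    constructor
    intro k hk x
    rw [hKmem] at hk ⊢
    exact hnorm x x.2 k hk
  haveI hZ'n : Z'.Normal := by
    constructor
    intro k hk x
    rw [hZ'mem] at hk ⊢
    exact hZn x x.2 k hk
  have hZK : Z' ≤ K := fun x hx => (hKmem x).mpr (hZP ((hZ'mem x).mp hx))
  have hZ'c : ∀ z ∈ Z', ∀ k ∈ K, z * k = k * z := by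
    intro z hz k hk
    apply Subtype.ext
    exact hZc _ ((hZ'mem z).mp hz) _ ((hKmem k).mp hk)
  have hCK : ∀ k ∈ K, k ≠ 1 → Subgroup.centralizer ({k} : Set ↥N) ≤ K := by
    intro k hk hk1 x hx
    rw [hKmem]
    apply hC (k : G) ((hKmem k).mp hk) (fun h => hk1 (Subtype.ext h))
    rw [Subgroup.mem_centralizer_singleton_iff] at hx ⊢
    exact congrArg Subtype.val hx
  have hKcard : Nat.card K = p ^ m := by
    rw [← hPp, hKdef]
    exact Nat.card_congr (Subgroup.subgroupOfEquivOfLe hPN).toEquiv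
  have hKp : IsPGroup p K := IsPGroup.of_card hKcard
  haveI hKnil : Group.IsNilpotent ↥K := hKp.isNilpotent
  have hsolv : Group.IsSolvable ↥K := inferInstance
  have hmapK : K.map N.subtype = (P : Subgroup G) := by
    rw [hKdef]; exact Subgroup.map_subgroupOf_eq_of_le hPN
  have hZ'1 : Z' ≠ ⊥ := by
    intro h3
    apply hZ1
    rw [eq_bot_iff]
    intro z hz
    have hzN : z ∈ N := hPN (hZP hz)
    have : (⟨z, hzN⟩ : ↥N) ∈ Z' := (hZ'mem _).mpr hz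
    rw [h3, Subgroup.mem_bot] at this
    rw [Subgroup.mem_bot]
    exact congrArg Subtype.val this
  have hZK' : Z' ≤ ⁅K, K⁆ := by
    intro z hz
    have h1 : (z : G) ∈ ⁅(P : Subgroup G), (P : Subgroup G)⁆ := hZP' ((hZ'mem z).mp hz)
    rw [← hmapK, ← Subgroup.map_commutator] at h1
    obtain ⟨w, hw, hwz⟩ := h1
    have : w = z := Subtype.ext hwz
    rw [← this]
    exact hw
  have hKne : K ≠ ⊥ := fun h => hZ'1 (eq_bot_iff.mpr (h ▸ hZK))
  have hK' : ¬ K ≤ ⁅K, K⁆ := by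
    intro hle
    haveI : Nontrivial ↥K := (Subgroup.nontrivial_iff_ne_bot K).mpr hKne
    have h1 : commutator ↥K < ⊤ := Group.IsSolvable.commutator_lt_top_of_nontrivial ↥K
    apply h1.ne
    rw [eq_top_iff]
    intro k _
    have h2 : (k : ↥N) ∈ ⁅K, K⁆ := hle k.2
    rw [← Subgroup.map_subtype_commutator] at h2
    obtain ⟨w, hw, hwk⟩ := h2
    have : w = k := Subtype.ext hwk
    rw [← this]
    exact hw
  -- the coherence system
  have hSfeit : inducedIrrAbove K ⊥ ⊆ feitSet K := inducedIrrAbove_subset_feitSet K hCK ⊥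
  have hSirr : ∀ χ ∈ inducedIrrAbove K ⊥, IsIrrCharacter ↥N χ := fun χ hχ => (hSfeit hχ).1
  have hirr : ∀ χ ∈ inducedIrrAbove K ⊥ \ inducedIrrAbove K Z', IsIrrCharacter ↥N χ :=
    fun χ hχ => hSirr χ hχ.1
  have hXeq := diff_eq_irr K Z' hZK hirr
  have hset : {χ : ↥N → ℂ | IsIrrCharacter ↥N χ ∧ ∃ z ∈ Z', χ z ≠ χ 1} =
      {χ : ↥N → ℂ | IsIrrCharacter ↥N χ ∧ ∃ z : ↥N, (z : G) ∈ Z ∧ χ z ≠ χ 1} := by
    ext χ
    constructor
    · rintro ⟨h1, z, hz, h2⟩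
      exact ⟨h1, z, (hZ'mem z).mp hz, h2⟩
    · rintro ⟨h1, z, hz, h2⟩
      exact ⟨h1, z, (hZ'mem z).mpr hz, h2⟩
  have hXcoh : IsCoherent (inducedIrrAbove K ⊥ \ inducedIrrAbove K Z') {1}ᶜ
      (fun α => indFun N α) := by
    rw [hXeq, hset]
    exact coherent_central_of_tifn p hp hp2 (P : Subgroup G) N hPN m hPp hna hnorm hTI' hC Z hZ1
      (fun z hz => ⟨hZP hz, hZc z hz⟩) hZn
  obtain ⟨A, hA⟩ : ∃ A : Set G, A = {a | a ∈ (P : Subgroup G) ∧ a ≠ 1} := ⟨_, rfl⟩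
  have hTIA : ∀ g : G, ∀ a ∈ A, g * a * g⁻¹ ∈ A → g ∈ N := by
    intro g a ha hga
    rw [hA] at ha hga
    exact hTI' g a ha.1 ha.2 hga.1
  have hSA : ∀ χ ∈ inducedIrrAbove K ⊥, ∀ x : ↥N, x ≠ 1 → (x : G) ∉ A → χ x = 0 := by
    rintro χ ⟨θ, -, -, -, rfl⟩ x hx hxA
    apply indFun_of_not_mem_normal
    intro hxK
    apply hxA
    rw [hA]
    exact ⟨(hKmem x).mp hxK, fun h => hx (Subtype.ext h)⟩
  obtain ⟨hτ, hτ1⟩ := isLinearIsometryOn_indFun_of_tiSet N A hTIA (inducedIrrAbove K ⊥)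
    (fun χ hχ => isCharacter_of_irr (hSirr χ hχ)) hSA
  have hconj : ∀ χ ∈ inducedIrrAbove K ⊥, conjFun χ ∈ inducedIrrAbove K ⊥ ∧ conjFun χ ≠ χ := by
    intro χ hχ
    refine ⟨inducedIrrAbove_conj K ⊥ hχ, fun h => ?_⟩
    have hreal : ∀ g : ↥N, (χ g).im = 0 := by
      intro g
      have := congrFun h g
      rw [conjFun_apply] at this
      exact Complex.conj_eq_iff_im.mp this
    have h1 := real_irr_eq_trivial_of_odd hodd ⟨χ, hSirr χ hχ⟩ hreal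
    obtain ⟨-, k, -, hk⟩ := hSfeit hχ
    apply hk
    have h2 : χ = fun _ => 1 := congrArg Subtype.val h1
    rw [h2]
  have hXne : (inducedIrrAbove K ⊥ \ inducedIrrAbove K Z').Nonempty := by
    obtain ⟨⟨α, hα, hα0⟩, -⟩ := hXcoh
    by_contra hcon
    rw [Set.not_nonempty_iff_eq_empty] at hcon
    apply hα0
    rw [hcon] at hα
    have h1 : α ∈ ((Submodule.span ℤ (∅ : Set (↥N → ℂ)) : Submodule ℤ (↥N → ℂ)) :
        Set (↥N → ℂ)) := hα.1
    rw [Submodule.span_empty] at h1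
    exact h1
  have hSne : (inducedIrrAbove K ⊥).Nonempty := hXne.mono Set.sdiff_subset
  obtain ⟨R, hS⟩ := Cfsg.Agent.S1514.result (inducedIrrAbove K ⊥) hSne hSirr hconj
    (fun α => indFun N α) hτ hτ1
  -- the set `Y`
  have hYcoh : IsCoherent (inducedIrrAbove K ⁅K, K⁆) {1}ᶜ (fun α => indFun N α) :=
    coherent_of_commutator_le K hsolv _ R hS ⁅K, K⁆ le_rfl hK'
  -- the gluing
  apply coherent_of_coherent_diff_union K hCK hodd hsolv _ R hS Z' hZ'1 hZK hZ'c hZK' hK'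
  obtain ⟨X, hXdef⟩ : ∃ X : Set (↥N → ℂ), X = inducedIrrAbove K ⊥ \ inducedIrrAbove K Z' :=
    ⟨_, rfl⟩
  obtain ⟨Y, hYdef⟩ : ∃ Y : Set (↥N → ℂ), Y = inducedIrrAbove K ⁅K, K⁆ := ⟨_, rfl⟩
  rw [← hXdef, ← hYdef]
  rw [← hXdef] at hXcoh hXne hXeq
  rw [← hYdef] at hYcoh
  have hXS : X ⊆ inducedIrrAbove K ⊥ := by rw [hXdef]; exact Set.sdiff_subset
  have hYS : Y ⊆ inducedIrrAbove K ⊥ := by rw [hYdef]; exact inducedIrrAbove_subset_bot K _
  have hXY : Disjoint X Y := by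
    rw [Set.disjoint_left]
    intro φ hφX hφY
    rw [hXdef] at hφX
    rw [hYdef] at hφY
    exact hφX.2 (inducedIrrAbove_mono K hZK' hφY)
  obtain ⟨χ, hχ⟩ := hXne
  have hχ₂ : conjFun χ ∈ X := by
    rw [hXdef] at hχ ⊢; exact diff_conj K Z' hχ
  obtain ⟨l₀, hl₀, hl₀1⟩ := exists_linear_induced K ⁅K, K⁆ hsolv hK'
  rw [← hYdef] at hl₀
  have hl₁ : conjFun l₀ ∈ Y := by
    rw [hYdef] at hl₀ ⊢; exact inducedIrrAbove_conj K _ hl₀
  have hYdeg : ∀ η ∈ Y, η 1 = l₀ 1 := by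
    intro η hη
    rw [hl₀1]
    rw [hYdef] at hη
    obtain ⟨θ, hθ, -, hθA, rfl⟩ := hη
    rw [indFun_one, linear_of_commutator_le K ⁅K, K⁆ le_rfl θ hθ hθA, mul_one]
  obtain ⟨a, ha⟩ : ∃ a : ℕ, χ 1 = (a : ℂ) * (K.index : ℂ) := by
    obtain ⟨θ, hθ, -, -, hχθ⟩ := hXS hχ
    obtain ⟨a, -, ha⟩ := irr_one_eq ⟨θ, hθ⟩
    refine ⟨a, ?_⟩
    have ha' : θ 1 = (a : ℂ) := ha
    rw [hχθ, indFun_one, ha', mul_comm]
  obtain ⟨-, σ, hσ, hσα⟩ := hXcoh
  obtain ⟨-, τ, hτY, hτα⟩ := hYcoh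
  have hconj1 : ∀ φ ∈ inducedIrrAbove K ⊥, conjFun φ 1 = φ 1 := by
    intro φ hφ
    exact coh_conj_apply_one hS hφ
  have hX2 : ∃ a ∈ X, ∃ b ∈ X, a ≠ b := ⟨conjFun χ, hχ₂, χ, hχ, (hconj χ (hXS hχ)).2⟩
  have hY2 : ∃ a ∈ Y, ∃ b ∈ Y, a ≠ b := ⟨conjFun l₀, hl₁, l₀, hl₀, (hconj l₀ (hYS hl₀)).2⟩
  obtain ⟨hcross, -⟩ := Cfsg.Agent.S1531.result N (inducedIrrAbove K ⊥) X Y hSirr hXS hYS hXY hX2
    hY2 (fun α => indFun N α) hτ hτ1 σ τ hσ hσα hτY hτα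
  have hXirr : ∀ φ : ↥N → ℂ, IsIrrCharacter ↥N φ → (∃ z : ↥N, (z : G) ∈ Z ∧ φ z ≠ φ 1) → φ ∈ X := by
    intro φ hφ hz
    rw [hXeq, hset]
    exact ⟨hφ, hz⟩
  apply coherent_union_of_integrality N (inducedIrrAbove K ⊥) X Y hSirr hXS hYS hXY
    (fun α => indFun N α) hτ hτ1 (fun θ _ => rfl) σ τ hσ hσα hτY hτα χ (conjFun χ) hχ hχ₂
    (hconj χ (hXS hχ)).2 (hconj1 χ (hXS hχ)) l₀ (conjFun l₀) hl₀ hl₁ (hconj l₀ (hYS hl₀)).2 hYdeg a
    (by rw [ha, hl₀1])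
  intro η hη
  have hηm : η ∈ zspan Y := subset_zspan _ hη
  have hgen : IsGeneralizedCharacter G (τ η) := lio_genChar hτY hηm
  have hnorm1 : classInner (τ η) (τ η) = 1 := by
    rw [lio_inner hτY hηm hηm]
    exact irr_classInner_self (hSirr η (hYS hη))
  have hχ1 : χ 1 = (a : ℂ) * (((P : Subgroup G).subgroupOf N).index : ℂ) := by
    rw [ha, hKdef]
  apply integrality_genChar p P hTI N hN hodd hC Z hZ1 hZP hZn hZc (τ η) hgen hnorm1 χ
    (hSirr χ (hXS hχ)) a hχ1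
  intro φ hφ hz
  exact proportional_of_cross_orth N X (fun ξ hξ => hSirr ξ (hXS hξ)) σ hσ
    (fun θ hθ => hσα θ hθ) (τ η) (isClassFunction_of_isGeneralizedCharacter hgen)
    (fun ξ hξ => hcross ξ hξ η hη) χ φ hχ (hXirr φ hφ hz)

end

end Cfsg.Agent.Lib.H8
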