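import Mathlib
import Cfsg.Agent.Lib.H8.FrobType

/-!
# Group-theoretic lemmas for Sibley's theorem (helper8's library)
-/

set_option autoImplicit false

namespace Cfsg.Agent.Lib.H8

section
variable {G : Type*} [Group G] [Finite G]

/-- a nontrivial `p`-subgroup containing the centralisers of its non-identity elements is a
Sylow `p`-subgroup -/
theorem exists_sylow_eq_of_centralizer_le (p : ℕ) [Fact p.Prime] (H : Subgroup G)
    (hH : IsPGroup p H) (hH1 : H ≠ ⊥)
    (hC : ∀ k ∈ H, k ≠ 1 → Subgroup.centralizer ({k} : Set G) ≤ H) :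
    ∃ P : Sylow p G, (P : Subgroup G) = H := by
  obtain ⟨P, hHP⟩ := hH.exists_le_sylow
  refine ⟨P, le_antisymm ?_ hHP⟩
  obtain ⟨k, hk, hk1⟩ : ∃ k ∈ H, k ≠ 1 := by
    by_contra hcon
    push Not at hcon
    exact hH1 ((Subgroup.eq_bot_iff_forall H).mpr hcon)
  haveI : Nontrivial ↥(P : Subgroup G) := by
    refine ⟨⟨⟨k, hHP hk⟩, 1, fun h => hk1 (congrArg Subtype.val h)⟩⟩
  have hcen : ⊥ < Subgroup.center ↥(P : Subgroup G) := P.isPGroup'.bot_lt_center
  obtain ⟨z, hz, hz1⟩ : ∃ z ∈ Subgroup.center ↥(P : Subgroup G), z ≠ 1 := by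
    by_contra hcon
    push Not at hcon
    exact hcen.ne' ((Subgroup.eq_bot_iff_forall _).mpr hcon)
  have hzH : (z : G) ∈ H := by
    apply hC k hk hk1
    rw [Subgroup.mem_centralizer_singleton_iff]
    have := Subgroup.mem_center_iff.mp hz ⟨k, hHP hk⟩
    exact (congrArg Subtype.val this).symm
  have hz1' : (z : G) ≠ 1 := fun h => hz1 (Subtype.ext h)
  intro y hy
  apply hC (z : G) hzH hz1'
  rw [Subgroup.mem_centralizer_singleton_iff]
  have := Subgroup.mem_center_iff.mp hz ⟨y, hy⟩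
  exact (congrArg Subtype.val this)

/-- a TI subgroup `H` with normaliser `L = H W₁`, where `W₁` acts on `H` without fixed points,
contains the centralisers of its non-identity elements -/
theorem centralizer_le_of_ti_frob (H L W₁ : Subgroup G)
    (hsup : H ⊔ W₁ = L)
    (hfpf : ∀ w ∈ W₁, w ≠ 1 → ∀ h ∈ H, w * h = h * w → h = 1)
    (hTI : ∀ g : G, g ∉ Subgroup.normalizer (H : Set G) → ∀ x ∈ H, g * x * g⁻¹ ∈ H → x = 1)
    (hN : Subgroup.normalizer (H : Set G) = L) :
    ∀ k ∈ H, k ≠ 1 → Subgroup.centralizer ({k} : Set G) ≤ H := by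
  intro k hk hk1 g hg
  rw [Subgroup.mem_centralizer_singleton_iff] at hg
  have hgL : g ∈ L := by
    rw [← hN]
    by_contra hcon
    apply hk1
    apply hTI g hcon k hk
    have : g * k * g⁻¹ = k := by rw [hg]; group
    rw [this]; exact hk
  have hW₁L : W₁ ≤ Subgroup.normalizer (H : Set G) := by
    rw [hN, ← hsup]; exact le_sup_right
  have hcoe := Subgroup.coe_mul_of_right_le_normalizer_left H W₁ hW₁L
  rw [hsup] at hcoe
  have hgm : g ∈ (L : Set G) := hgL
  rw [hcoe] at hgm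
  obtain ⟨h, hh, w, hw, hgeq⟩ := hgm
  have hgeq' : h * w = g := hgeq
  have hh : h ∈ H := hh
  have hw : w ∈ W₁ := hw
  rw [← hgeq'] at hg ⊢
  by_cases hw1 : w = 1
  · rw [hw1, mul_one]; exact hh
  · exfalso
    have hfpf' : H ⊓ Subgroup.centralizer ({w} : Set G) = ⊥ := by
      rw [eq_bot_iff]
      intro x hx
      rw [Subgroup.mem_inf, Subgroup.mem_centralizer_singleton_iff] at hx
      rw [Subgroup.mem_bot]
      exact hfpf w hw hw1 x hx.1 hx.2.symm
    obtain ⟨a, ha, hae⟩ := frob_coset_conj H (hW₁L hw) hfpf' hh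
    rw [hae] at hg
    have h1 : a⁻¹ * k * a ∈ H := H.mul_mem (H.mul_mem (H.inv_mem ha) hk) ha
    have h2 : w * (a⁻¹ * k * a) = (a⁻¹ * k * a) * w := by
      calc w * (a⁻¹ * k * a) = a⁻¹ * ((a * w * a⁻¹) * k) * a := by group
        _ = a⁻¹ * (k * (a * w * a⁻¹)) * a := by rw [hg]
        _ = (a⁻¹ * k * a) * w := by group
    have h3 := hfpf w hw hw1 _ h1 h2
    apply hk1
    have : k = a * (a⁻¹ * k * a) * a⁻¹ := by group
    rw [this, h3]; group

end

end Cfsg.Agent.Lib.H8
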