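import Mathlib
import Cfsg.Agent.Lib.H8.FeitFrob
import Cfsg.Agent.Lib.H8.TIInd
import Cfsg.Agent.Lib.H8.Clifford
import Cfsg.Agent.Lib.H8.CohCentralB

/-!
# Frobenius kernels of order `e + 1`, and the induction isometry for a TI kernel
(helper8's library, for S1533 / S1534)
-/

set_option autoImplicit false

namespace Cfsg.Agent.Lib.H8

open Cfsg Cfsg.Agent.Lib.L0 Cfsg.Agent.Lib.H24
open scoped ComplexConjugate

section small
variable {N : Type*} [Group N] [Finite N] (K : Subgroup N) [K.Normal]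

/-- a nontrivial `N`-normal subgroup of a Frobenius kernel of order `e + 1` is the whole kernel -/
theorem eq_of_normal_of_card_eq_index_succ
    (hCK : ∀ k ∈ K, k ≠ 1 → Subgroup.centralizer ({k} : Set N) ≤ K)
    (hcard : Nat.card K = K.index + 1) (Y : Subgroup N) [Y.Normal] (hYK : Y ≤ K) (hY1 : Y ≠ ⊥) :
    Y = K := by
  have h1 := frob_relIndex_ge K hCK ⊥ Y bot_le hYK (fun h => hY1 (le_bot_iff.mp h))
  rw [Subgroup.relIndex_bot_left] at h1
  have h2 : Nat.card Y ≤ Nat.card K := Subgroup.card_le_of_le hYK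
  have h3 : Nat.card Y = Nat.card K := by omega
  exact Subgroup.eq_of_le_of_card_ge hYK h3.ge

/-- a nilpotent Frobenius kernel of order `e + 1` is abelian -/
theorem comm_of_card_eq_index_succ
    (hCK : ∀ k ∈ K, k ≠ 1 → Subgroup.centralizer ({k} : Set N) ≤ K)
    (hcard : Nat.card K = K.index + 1) (hK1 : K ≠ ⊥) (hnil : Group.IsNilpotent ↥K) :
    ∀ a ∈ K, ∀ b ∈ K, a * b = b * a := by
  have hY1 : K ⊓ Subgroup.centralizer (K : Set N) ≠ ⊥ := by
    haveI : Nontrivial ↥K := (Subgroup.nontrivial_iff_ne_bot K).mpr hK1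
    have hcen : Subgroup.center ↥K ≠ ⊥ := Group.IsNilpotent.center_ne_bot ↥K
    obtain ⟨z, hz, hz1⟩ : ∃ z ∈ Subgroup.center ↥K, z ≠ 1 := by
      by_contra hcon
      push Not at hcon
      exact hcen ((Subgroup.eq_bot_iff_forall _).mpr hcon)
    intro h
    apply hz1
    have : (z : N) ∈ K ⊓ Subgroup.centralizer (K : Set N) := by
      rw [Subgroup.mem_inf]
      refine ⟨z.2, ?_⟩
      rw [Subgroup.mem_centralizer_iff]
      intro y hy
      have := Subgroup.mem_center_iff.mp hz ⟨y, hy⟩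
      exact congrArg Subtype.val this
    rw [h, Subgroup.mem_bot] at this
    exact Subtype.ext this
  have heq := eq_of_normal_of_card_eq_index_succ K hCK hcard
    (K ⊓ Subgroup.centralizer (K : Set N)) inf_le_left hY1
  intro a ha b hb
  have h1 : a ∈ K ⊓ Subgroup.centralizer (K : Set N) := by rw [heq]; exact ha
  rw [Subgroup.mem_inf, Subgroup.mem_centralizer_iff] at h1
  exact (h1.2 b hb).symm

/-- a nilpotent Frobenius kernel of order `e + 1` has exponent `p` for every prime divisor `p`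
of its order -/
theorem pow_eq_one_of_card_eq_index_succ
    (hCK : ∀ k ∈ K, k ≠ 1 → Subgroup.centralizer ({k} : Set N) ≤ K)
    (hcard : Nat.card K = K.index + 1) (hK1 : K ≠ ⊥) (hnil : Group.IsNilpotent ↥K)
    (p : ℕ) (hp : p.Prime) (hpK : p ∣ Nat.card K) : ∀ a ∈ K, a ^ p = 1 := by
  have hcomm := comm_of_card_eq_index_succ K hCK hcard hK1 hnil
  obtain ⟨Y, hYdef⟩ : ∃ Y : Subgroup N, ∀ x, x ∈ Y ↔ x ∈ K ∧ x ^ p = 1 := by
    refine ⟨{ carrier := {x | x ∈ K ∧ x ^ p = 1}
              mul_mem' := ?_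
              one_mem' := ⟨K.one_mem, one_pow _⟩
              inv_mem' := ?_ }, fun x => Iff.rfl⟩
    · rintro a b ⟨ha, ha1⟩ ⟨hb, hb1⟩
      refine ⟨K.mul_mem ha hb, ?_⟩
      have hc : Commute a b := hcomm a ha b hb
      rw [hc.mul_pow, ha1, hb1, one_mul]
    · rintro a ⟨ha, ha1⟩
      refine ⟨K.inv_mem ha, ?_⟩
      rw [inv_pow, ha1, inv_one]
  haveI hYn : Y.Normal := by
    constructor
    intro y hy g
    rw [hYdef] at hy ⊢
    have hKn : K.Normal := inferInstance
    refine ⟨hKn.conj_mem y hy.1 g, ?_⟩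
    rw [conj_pow, hy.2]
    group
  have hYK : Y ≤ K := fun x hx => ((hYdef x).mp hx).1
  have hY1 : Y ≠ ⊥ := by
    haveI : Fact p.Prime := ⟨hp⟩
    obtain ⟨k, hk⟩ := exists_prime_orderOf_dvd_card' (G := ↥K) p hpK
    intro h
    have hkY : (k : N) ∈ Y := by
      rw [hYdef]
      refine ⟨k.2, ?_⟩
      have h1 : k ^ p = 1 := by rw [← hk]; exact pow_orderOf_eq_one k
      have h2 : ((k ^ p : ↥K) : N) = 1 := by rw [h1]; rfl
      rw [← h2]; rfl
    rw [h, Subgroup.mem_bot] at hkY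
    have hk1 : k = 1 := Subtype.ext hkY
    rw [hk1, orderOf_one] at hk
    exact hp.one_lt.ne hk
  have heq := eq_of_normal_of_card_eq_index_succ K hCK hcard Y hYK hY1
  intro a ha
  rw [← heq, hYdef] at ha
  exact ha.2

end small

section count
variable {N : Type*} [Group N] [Fintype N] (K : Subgroup N) [K.Normal]

/-- for a Frobenius kernel of order `e + 1` there is exactly one irreducible character not
containing the kernel in its kernel -/
theorem card_feitSet_of_card_eq_index_succ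
    (hCK : ∀ k ∈ K, k ≠ 1 → Subgroup.centralizer ({k} : Set N) ≤ K)
    (hcard : Nat.card K = K.index + 1) :
    Nat.card {χ : N → ℂ // IsIrrCharacter N χ ∧ ∃ h ∈ K, χ h ≠ χ 1} = 1 := by
  classical
  have hSeq : feitSet K = inducedIrrAbove K ⊥ :=
    Set.Subset.antisymm (feitSet_subset_inducedIrrAbove K hCK)
      (inducedIrrAbove_subset_feitSet K hCK ⊥)
  obtain ⟨U, hU⟩ := exists_finset_inducedIrrAbove K ⊥
  rw [← hSeq] at hU
  have hUset : (↑U : Set (N → ℂ)) = {χ | IsIrrCharacter N χ ∧ ∃ z ∈ K, χ z ≠ χ 1} := hU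
  have hsum := sum_degree_sq_not_ker' K U hUset
  have he0 : 0 < K.index := Nat.pos_of_ne_zero Subgroup.index_ne_zero_of_finite
  have hN : Nat.card K * K.index = Nat.card N := Subgroup.card_mul_index K
  have hsum' : ∑ φ ∈ U, charDegree φ ^ 2 = K.index ^ 2 := by
    have hK0 : 0 < Nat.card K := Nat.card_pos
    apply Nat.eq_of_mul_eq_mul_right hK0
    rw [← hN] at hsum
    rw [hcard] at hsum ⊢
    nlinarith
  have hge : ∀ φ ∈ U, K.index ^ 2 ≤ charDegree φ ^ 2 := by
    intro φ hφ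
    have hφS : φ ∈ feitSet K := by rw [← hU]; exact hφ
    obtain ⟨t, ht⟩ := index_dvd_charDegree K hCK hφS
    have ht0 : 0 < charDegree φ := charDegree_pos (⟨φ, hφS.1⟩ : IrrCharacter N)
    have ht1 : 1 ≤ t := by
      rcases Nat.eq_zero_or_pos t with h | h
      · rw [h, mul_zero] at ht; omega
      · exact h
    rw [ht]
    apply Nat.pow_le_pow_left
    exact Nat.le_mul_of_pos_right _ ht1
  have hcardU : U.card = 1 := by
    have h1 : U.card * K.index ^ 2 ≤ ∑ φ ∈ U, charDegree φ ^ 2 := by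
      rw [← smul_eq_mul, ← Finset.sum_const]
      exact Finset.sum_le_sum hge
    rw [hsum'] at h1
    have h2 : 0 < K.index ^ 2 := by positivity
    have h3 : U.card ≤ 1 := by
      by_contra hcon
      push Not at hcon
      nlinarith
    have h4 : U.card ≠ 0 := by
      intro h0
      rw [Finset.card_eq_zero] at h0
      rw [h0, Finset.sum_empty] at hsum'
      omega
    omega
  have h5 : Nat.card (↑U : Set (N → ℂ)) = 1 := by
    rw [Nat.card_coe_set_eq, Set.ncard_coe_finset, hcardU]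
  rw [hUset] at h5
  exact h5

end count

section iso
variable {G : Type*} [Group G] [Fintype G]

/-- induction is a linear isometry on the characters of the normaliser of a TI subgroup that are
nontrivial on it -/
theorem tifn_isometry (P N : Subgroup G) [Fintype ↥N]
    (hnorm : ∀ x ∈ N, ∀ y ∈ P, x * y * x⁻¹ ∈ P)
    (hTI : ∀ g : G, ∀ a ∈ P, a ≠ 1 → g * a * g⁻¹ ∈ P → g ∈ N)
    (hC : ∀ k ∈ P, k ≠ 1 → Subgroup.centralizer ({k} : Set G) ≤ P) :
    IsLinearIsometryOn (zspanOn {χ : ↥N → ℂ | IsIrrCharacter ↥N χ ∧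
        ∃ h ∈ P.subgroupOf N, χ h ≠ χ 1} ({1}ᶜ : Set ↥N)) (fun α => indFun N α) ∧
      ∀ α ∈ zspanOn {χ : ↥N → ℂ | IsIrrCharacter ↥N χ ∧
        ∃ h ∈ P.subgroupOf N, χ h ≠ χ 1} ({1}ᶜ : Set ↥N), indFun N α 1 = 0 := by
  classical
  obtain ⟨K, hKdef⟩ : ∃ K : Subgroup ↥N, K = P.subgroupOf N := ⟨_, rfl⟩
  rw [← hKdef]
  have hKmem : ∀ x : ↥N, x ∈ K ↔ (x : G) ∈ P := fun x => by
    rw [hKdef]; exact Subgroup.mem_subgroupOf
  haveI hKn : K.Normal := by
    constructor
    intro k hk x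
    rw [hKmem] at hk ⊢
    exact hnorm x x.2 k hk
  have hCK : ∀ k ∈ K, k ≠ 1 → Subgroup.centralizer ({k} : Set ↥N) ≤ K := by
    intro k hk hk1 x hx
    rw [hKmem]
    apply hC (k : G) ((hKmem k).mp hk) (fun h => hk1 (Subtype.ext h))
    rw [Subgroup.mem_centralizer_singleton_iff] at hx ⊢
    exact congrArg Subtype.val hx
  obtain ⟨A, hA⟩ : ∃ A : Set G, A = {a | a ∈ P ∧ a ≠ 1} := ⟨_, rfl⟩
  have hTIA : ∀ g : G, ∀ a ∈ A, g * a * g⁻¹ ∈ A → g ∈ N := by
    intro g a ha hga
    rw [hA] at ha hga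
    exact hTI g a ha.1 ha.2 hga.1
  have hSA : ∀ χ ∈ feitSet K, ∀ x : ↥N, x ≠ 1 → (x : G) ∉ A → χ x = 0 := by
    intro χ hχ
    obtain ⟨θ, -, -, -, rfl⟩ := feitSet_subset_inducedIrrAbove K hCK hχ
    intro x hx hxA
    apply indFun_of_not_mem_normal
    intro hxK
    apply hxA
    rw [hA]
    exact ⟨(hKmem x).mp hxK, fun h => hx (Subtype.ext h)⟩
  exact isLinearIsometryOn_indFun_of_tiSet N A hTIA (feitSet K)
    (fun χ hχ => isCharacter_of_irr hχ.1) hSA

end iso

end Cfsg.Agent.Lib.H8
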