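import Mathlib
import Cfsg.Agent.Lib.H20.SigCDefs

/-!
# S1299 farm-out, piece RES (TWIN of Lib/H1/SigCRES, kept in its own namespace `Cfsg.Agent.Lib.H8.SigCR`
so that it can never clash): restriction to the subgroup `closure ⊔ A` (helper8)
-/

set_option autoImplicit false

namespace Cfsg.Agent.Lib.H8.SigCR

open Cfsg.Agent.Lib.H20.SigC

open Cfsg

universe u

section

variable {G : Type u} [Group G]

/-- The restricted functor on a subgroup `H₀`. -/
def resTheta (H₀ : Subgroup G) (θ : G → Subgroup G) : ↥H₀ → Subgroup ↥H₀ :=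
  fun x => (θ (x : G)).subgroupOf H₀

theorem res_isElementaryAbelian (p : ℕ) (A H₀ : Subgroup G)
    (hA : Cfsg.IsElementaryAbelian p A) : Cfsg.IsElementaryAbelian p (A.subgroupOf H₀) := by
  refine ⟨⟨⟨?_⟩⟩, ?_⟩
  · rintro ⟨x, hx⟩ ⟨y, hy⟩
    have := hA.1
    have h := mul_comm' (⟨(x : G), Subgroup.mem_subgroupOf.1 hx⟩ : A)
      ⟨(y : G), Subgroup.mem_subgroupOf.1 hy⟩
    apply Subtype.ext
    apply Subtype.ext
    show (x : G) * (y : G) = (y : G) * (x : G)
    exact congrArg Subtype.val h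
  · intro x hx
    apply Subtype.ext
    have := hA.2 (x : G) (Subgroup.mem_subgroupOf.1 hx)
    simpa using this

theorem res_isSolvableSignalizerFunctor (p : ℕ) (A H₀ : Subgroup G) (θ : G → Subgroup G)
    (hθ : Cfsg.IsSolvableSignalizerFunctor p A θ) :
    Cfsg.IsSolvableSignalizerFunctor p (A.subgroupOf H₀) (resTheta H₀ θ) := by
  obtain ⟨⟨h1, h2, h3, h4⟩, h5⟩ := hθ
  have hne : ∀ x : ↥H₀, x ≠ 1 → (x : G) ≠ 1 := fun x hx h => hx (Subtype.ext (by simpa using h))
  -- the injective hom `θ' x → θ x`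
  have hinj : ∀ x : ↥H₀, ∃ f : ↥(resTheta H₀ θ x) →* ↥(θ (x : G)), Function.Injective f := by
    intro x
    refine ⟨((H₀.subtype).comp (resTheta H₀ θ x).subtype).codRestrict (θ (x : G))
      (fun y => Subgroup.mem_subgroupOf.1 y.2), ?_⟩
    intro y z hyz
    apply Subtype.ext
    apply Subtype.ext
    have h' := congrArg Subtype.val hyz
    exact h'
  refine ⟨⟨?_, ?_, ?_, ?_⟩, ?_⟩
  · intro x hx hx1 y hy
    have hxA : (x : G) ∈ A := Subgroup.mem_subgroupOf.1 hx
    have := Subgroup.mem_centralizer_singleton_iff.1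
      (h1 (x : G) hxA (hne x hx1) (Subgroup.mem_subgroupOf.1 hy))
    refine Subgroup.mem_centralizer_singleton_iff.2 ?_
    apply Subtype.ext
    simpa using this
  · intro x hx hx1 hdvd
    have hxA : (x : G) ∈ A := Subgroup.mem_subgroupOf.1 hx
    obtain ⟨f, hf⟩ := hinj x
    exact h2 (x : G) hxA (hne x hx1) (hdvd.trans (Subgroup.card_dvd_of_injective f hf))
  · intro x hx hx1 b hb y hy
    have hxA : (x : G) ∈ A := Subgroup.mem_subgroupOf.1 hx
    have hbA : (b : G) ∈ A := Subgroup.mem_subgroupOf.1 hb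
    have := h3 (x : G) hxA (hne x hx1) (b : G) hbA (y : G) (Subgroup.mem_subgroupOf.1 hy)
    show b * y * b⁻¹ ∈ (θ (x : G)).subgroupOf H₀
    rw [Subgroup.mem_subgroupOf]
    simpa using this
  · intro x hx hx1 y hy hy1 z hz
    have hxA : (x : G) ∈ A := Subgroup.mem_subgroupOf.1 hx
    have hyA : (y : G) ∈ A := Subgroup.mem_subgroupOf.1 hy
    show z ∈ (θ (y : G)).subgroupOf H₀
    rw [Subgroup.mem_subgroupOf]
    apply h4 (x : G) hxA (hne x hx1) (y : G) hyA (hne y hy1)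
    refine ⟨Subgroup.mem_subgroupOf.1 hz.1, Subgroup.mem_centralizer_singleton_iff.2 ?_⟩
    have := Subgroup.mem_centralizer_singleton_iff.1 hz.2
    have h' := congrArg Subtype.val this
    simpa using h'
  · intro x hx hx1
    have hxA : (x : G) ∈ A := Subgroup.mem_subgroupOf.1 hx
    haveI := h5 (x : G) hxA (hne x hx1)
    obtain ⟨f, hf⟩ := hinj x
    exact Group.isSolvable_of_isSolvable_injective hf

/-- The closure of the restricted functor, when `H₀` contains `A` and the closure. -/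
theorem res_closure (A H₀ : Subgroup G) (θ : G → Subgroup G)
    (hAH : A ≤ H₀) (hKH : Cfsg.signalizerClosure A θ ≤ H₀) :
    Cfsg.signalizerClosure (A.subgroupOf H₀) (resTheta H₀ θ) =
      (Cfsg.signalizerClosure A θ).subgroupOf H₀ := by
  have hθH : ∀ a ∈ A, a ≠ 1 → θ a ≤ H₀ := fun a ha ha1 =>
    le_trans (le_iSup (fun a : {a : G // a ∈ A ∧ a ≠ 1} => θ (a : G)) ⟨a, ha, ha1⟩) hKH
  have hmap : (Cfsg.signalizerClosure (A.subgroupOf H₀) (resTheta H₀ θ)).map H₀.subtype =
      Cfsg.signalizerClosure A θ := by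
    unfold Cfsg.signalizerClosure
    rw [Subgroup.map_iSup]
    apply le_antisymm
    · apply iSup_le
      rintro ⟨x, hx, hx1⟩
      have hxA : (x : G) ∈ A := Subgroup.mem_subgroupOf.1 hx
      have hx1' : (x : G) ≠ 1 := fun h => hx1 (Subtype.ext (by simpa using h))
      show ((θ (x : G)).subgroupOf H₀).map H₀.subtype ≤ _
      rw [Subgroup.map_subgroupOf_eq_of_le (hθH _ hxA hx1')]
      exact le_iSup (fun a : {a : G // a ∈ A ∧ a ≠ 1} => θ (a : G)) ⟨(x : G), hxA, hx1'⟩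
    · apply iSup_le
      rintro ⟨a, ha, ha1⟩
      have h1 : (⟨a, hAH ha⟩ : ↥H₀) ∈ A.subgroupOf H₀ := Subgroup.mem_subgroupOf.2 ha
      have h2 : (⟨a, hAH ha⟩ : ↥H₀) ≠ 1 := fun h => ha1 (by simpa using congrArg Subtype.val h)
      refine le_trans ?_ (le_iSup (fun x : {x : ↥H₀ // x ∈ A.subgroupOf H₀ ∧ x ≠ 1} =>
        (resTheta H₀ θ (x : ↥H₀)).map H₀.subtype) ⟨⟨a, hAH ha⟩, h1, h2⟩)
      show θ a ≤ ((θ a).subgroupOf H₀).map H₀.subtype
      rw [Subgroup.map_subgroupOf_eq_of_le (hθH a ha ha1)]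
  rw [← hmap]
  unfold Subgroup.subgroupOf
  rw [Subgroup.comap_map_eq_self_of_injective (Subgroup.subtype_injective H₀)]

end

/-- If "closed ⟹ complete" (bound `n`) holds whenever `G = closure ⊔ A`, it holds always. -/
theorem closedCompleteUpTo_of_top (n : ℕ)
    (htop : ∀ (G : Type u) [Group G] [Finite G] (p : ℕ) [Fact p.Prime] (A : Subgroup G),
      Cfsg.IsElementaryAbelian p A → p ^ 3 ≤ Nat.card ↥A →
      ∀ θ : G → Subgroup G, Cfsg.IsSolvableSignalizerFunctor p A θ →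
        Cfsg.signalizerClosure A θ ⊔ A = ⊤ →
        Nat.card ↥(Cfsg.signalizerClosure A θ) ≤ n →
        Group.IsSolvable ↥(Cfsg.signalizerClosure A θ) →
        ¬ p ∣ Nat.card ↥(Cfsg.signalizerClosure A θ) →
        ∀ a ∈ A, a ≠ 1 → Cfsg.signalizerClosure A θ ⊓ Subgroup.centralizer {a} ≤ θ a) :
    ClosedCompleteUpTo.{u} n := by
  intro G _ _ p _ A hA hA3 θ hθ hcard hsol hp' a ha ha1
  set K := Cfsg.signalizerClosure A θ with hK
  set H₀ : Subgroup G := K ⊔ A with hH₀
  have hAH : A ≤ H₀ := le_sup_right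
  have hKH : K ≤ H₀ := le_sup_left
  have hcl := res_closure A H₀ θ hAH hKH
  have eK : ↥(K.subgroupOf H₀) ≃* ↥K := Subgroup.subgroupOfEquivOfLe hKH
  have eA : ↥(A.subgroupOf H₀) ≃* ↥A := Subgroup.subgroupOfEquivOfLe hAH
  have hcardK : Nat.card ↥(K.subgroupOf H₀) = Nat.card ↥K := Nat.card_congr eK.toEquiv
  have hcardA : Nat.card ↥(A.subgroupOf H₀) = Nat.card ↥A := Nat.card_congr eA.toEquiv
  have key := htop ↥H₀ p (A.subgroupOf H₀) (res_isElementaryAbelian p A H₀ hA)
    (by rw [hcardA]; exact hA3) (resTheta H₀ θ) (res_isSolvableSignalizerFunctor p A H₀ θ hθ)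
    (by
      rw [hcl, ← Subgroup.subgroupOf_sup hKH hAH]
      exact Subgroup.subgroupOf_self H₀)
    (by rw [hcl, hcardK]; exact hcard)
    (by
      rw [hcl]
      haveI := hsol
      exact Group.isSolvable_of_isSolvable_injective (f := eK.toMonoidHom) eK.injective)
    (by rw [hcl, hcardK]; exact hp')
    ⟨a, hAH ha⟩ (Subgroup.mem_subgroupOf.2 ha)
    (fun h => ha1 (by simpa using congrArg Subtype.val h))
  intro x hx
  have hxH : x ∈ H₀ := hKH hx.1
  have hx' : (⟨x, hxH⟩ : ↥H₀) ∈ Cfsg.signalizerClosure (A.subgroupOf H₀) (resTheta H₀ θ) ⊓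
      Subgroup.centralizer {(⟨a, hAH ha⟩ : ↥H₀)} := by
    refine ⟨?_, ?_⟩
    · rw [hcl]
      exact Subgroup.mem_subgroupOf.2 hx.1
    · have := Subgroup.mem_centralizer_singleton_iff.1 hx.2
      refine Subgroup.mem_centralizer_singleton_iff.2 ?_
      apply Subtype.ext
      simpa using this
  have := key hx'
  exact Subgroup.mem_subgroupOf.1 this

end Cfsg.Agent.Lib.H8.SigCR
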