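import Cfsg.Agent.Lib.H5.Sims.Defs
import Cfsg.Agent.Lib.H19.SimsODD

/-!
# S3685 / S3385, blueprint section 8 (8a)-(8d): piece (L2A), exact sig of `tools/blueprints/S3685_sigs2.lean`

Coprime-action-free route: `K := C_{Q_0}(s) ∩ C_{Q_0}(t s t⁻¹)`, `Q_0 = K W` by counting.
-/

set_option autoImplicit false
open scoped Pointwise
open Cfsg.Agent.Lib.H5.Sims

namespace Cfsg.Agent.Lib.H8.Sims

variable {G : Type*} [Group G]

theorem relIndex_mul_card' {H K : Subgroup G} (h : H ≤ K) : H.relIndex K * Nat.card H = Nat.card K := by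
  have h1 := (H.subgroupOf K).index_mul_card
  rw [Nat.card_congr (Subgroup.subgroupOfEquivOfLe h).toEquiv] at h1
  exact h1

/-- index two, via cardinalities -/
theorem inv_mul_mem_of_card_two [Finite G] {H K : Subgroup G} (hHK : H ≤ K) (hc : Nat.card K = 2 * Nat.card H)
    {a b : G} (ha : a ∈ K) (hb : b ∈ K) (ha' : a ∉ H) (hb' : b ∉ H) : a⁻¹ * b ∈ H := by
  have hidx : (H.subgroupOf K).index = 2 := by
    have h1 := relIndex_mul_card' hHK
    rw [hc] at h1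
    have hpos : 0 < Nat.card H := Nat.card_pos
    exact Nat.eq_of_mul_eq_mul_right hpos h1
  have := Subgroup.mul_mem_iff_of_index_two hidx (a := (⟨a, ha⟩ : ↥K)⁻¹) (b := ⟨b, hb⟩)
  simp only [Subgroup.mem_subgroupOf, Subgroup.coe_mul, Subgroup.coe_inv, inv_mem_iff] at this
  exact this.2 ⟨fun h => absurd h ha', fun h => absurd h hb'⟩

/-- elementwise commuting subgroups: elements of the join are products -/
theorem exists_mul_of_mem_sup {A B : Subgroup G} (hAB : Comm A B) {x : G} (hx : x ∈ A ⊔ B) :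
    ∃ a ∈ A, ∃ b ∈ B, x = a * b := by
  rw [Subgroup.sup_eq_closure] at hx
  induction hx using Subgroup.closure_induction with
  | mem x hx =>
    rcases hx with hx | hx
    · exact ⟨x, hx, 1, B.one_mem, by simp⟩
    · exact ⟨1, A.one_mem, x, hx, by simp⟩
  | one => exact ⟨1, A.one_mem, 1, B.one_mem, by simp⟩
  | mul x y _ _ hx hy =>
    obtain ⟨a, ha, b, hb, rfl⟩ := hx
    obtain ⟨a', ha', b', hb', rfl⟩ := hy
    refine ⟨a * a', A.mul_mem ha ha', b * b', B.mul_mem hb hb', ?_⟩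
    have := hAB a' ha' b hb
    calc a * b * (a' * b') = a * (b * a') * b' := by group
      _ = a * (a' * b) * b' := by rw [this]
      _ = a * a' * (b * b') := by group
  | inv x _ hx =>
    obtain ⟨a, ha, b, hb, rfl⟩ := hx
    refine ⟨a⁻¹, A.inv_mem ha, b⁻¹, B.inv_mem hb, ?_⟩
    have := hAB a ha b hb
    calc (a * b)⁻¹ = (b * a)⁻¹ := by rw [this]
      _ = a⁻¹ * b⁻¹ := by group

/-- a subgroup all of whose elements are `1` or `e` has at most two elements -/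
theorem card_le_two_of_forall {H : Subgroup G} (e : G) (h : ∀ x ∈ H, x = 1 ∨ x = e) : Nat.card H ≤ 2 := by
  classical
  have hsub : (H : Set G) ⊆ {1, e} := by
    intro x hx
    rcases h x hx with rfl | rfl <;> simp
  calc Nat.card H = (H : Set G).ncard := Nat.card_coe_set_eq _
    _ ≤ ({1, e} : Set G).ncard := Set.ncard_le_ncard hsub (Set.toFinite _)
    _ ≤ 2 := by
      calc ({1, e} : Set G).ncard ≤ ({e} : Set G).ncard + 1 := Set.ncard_insert_le _ _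
        _ = 2 := by rw [Set.ncard_singleton]

/-- splitting by counting: `K ⊓ W = ⊥`, `|Q| ≤ |K| |W|` gives `Q = K W` -/
theorem exists_mul_of_card_le [Finite G] {K W Q : Subgroup G} (hK : K ≤ Q) (hW : W ≤ Q) (hKW : K ⊓ W = ⊥)
    (hc : Nat.card Q ≤ Nat.card K * Nat.card W) :
    (∀ q ∈ Q, ∃ k ∈ K, ∃ w ∈ W, q = k * w) ∧ Nat.card Q = Nat.card K * Nat.card W := by
  let f : ↥K × ↥W → ↥Q := fun p => ⟨(p.1 : G) * (p.2 : G), Q.mul_mem (hK p.1.2) (hW p.2.2)⟩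
  have hinj : Function.Injective f := by
    rintro ⟨k, w⟩ ⟨k', w'⟩ h
    have h' : (k : G) * w = k' * w' := congrArg Subtype.val h
    have h1 : (k' : G)⁻¹ * k = w' * (w : G)⁻¹ := by
      calc (k' : G)⁻¹ * k = (k' : G)⁻¹ * (k * w) * (w : G)⁻¹ := by group
        _ = (k' : G)⁻¹ * (k' * w') * (w : G)⁻¹ := by rw [h']
        _ = w' * (w : G)⁻¹ := by group
    have h2 : (k' : G)⁻¹ * k ∈ K ⊓ W := ⟨K.mul_mem (K.inv_mem k'.2) k.2, h1 ▸ W.mul_mem w'.2 (W.inv_mem w.2)⟩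
    rw [hKW, Subgroup.mem_bot] at h2
    have hk : (k : G) = k' := by
      have := inv_mul_eq_one.1 h2
      exact this.symm
    have hw : (w : G) = w' := by
      rw [hk] at h'
      exact mul_left_cancel h'
    exact Prod.ext (Subtype.ext hk) (Subtype.ext hw)
  have hcard : Nat.card ↥Q ≤ Nat.card (↥K × ↥W) := by rw [Nat.card_prod]; exact hc
  have hbij := hinj.bijective_of_nat_card_le hcard
  refine ⟨fun q hq => ?_, ?_⟩
  · obtain ⟨⟨k, w⟩, hkw⟩ := hbij.2 ⟨q, hq⟩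
    exact ⟨k, k.2, w, w.2, (congrArg Subtype.val hkw).symm⟩
  · rw [← Nat.card_prod]
    exact (Nat.card_congr (Equiv.ofBijective f hbij)).symm


/-- two subgroups of index at most 2 meet in a subgroup of index at most 4 -/
theorem card_le_four_mul_inf [Finite G] {A B L : Subgroup G} (hA : A ≤ L) (hB : B ≤ L)
    (ha : Nat.card L ≤ 2 * Nat.card A) (hb : Nat.card L ≤ 2 * Nat.card B) :
    Nat.card L ≤ 4 * Nat.card ↥(A ⊓ B) := by
  have hrA : A.relIndex L ≤ 2 := by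
    have h1 := relIndex_mul_card' hA
    rw [← h1] at ha
    exact Nat.le_of_mul_le_mul_right ha Nat.card_pos
  have hrB : B.relIndex L ≤ 2 := by
    have h1 := relIndex_mul_card' hB
    rw [← h1] at hb
    exact Nat.le_of_mul_le_mul_right hb Nat.card_pos
  have hr : (A ⊓ B).relIndex L ≤ 4 :=
    (Subgroup.relIndex_inf_le).trans (by nlinarith [hrA, hrB])
  have h2 := relIndex_mul_card' (inf_le_left.trans hA : A ⊓ B ≤ L)
  rw [← h2]
  exact Nat.mul_le_mul_right _ hr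

/-- (L2A), sections (8a)-(8d) of the blueprint -/
theorem l2a [Finite G] (S : Setup G) (hb : S.Bent) (hL : S.Loc) (hC : S.Con) (hM : S.Mod)
    (hl : S.Ell 2) : S.L2 := by
  -- index bookkeeping
  have eQ0 : S.Qj 0 = S.Tj (-1) ⊓ S.Tj 0 := by simp [Setup.Qj]
  have eQ1 : S.Qj 1 = S.Tj 0 ⊓ S.Tj 1 := by simp [Setup.Qj]
  have sylT0 : S.IsSyl 0 (S.Tj 0) := S.isSyl_Tj 0
  have sylTm : S.IsSyl 0 (S.Tj (-1)) := by simpa using S.isSyl_Tj_pred 0
  have sylT0' : S.IsSyl 1 (S.Tj 0) := by simpa using S.isSyl_Tj_succ 0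
  have sylT1 : S.IsSyl 1 (S.Tj 1) := S.isSyl_Tj 1
  have hT0P0 : S.Tj 0 ≤ S.Pj 0 := S.Tj_le_left 0
  have hT0P1 : S.Tj 0 ≤ S.Pj 1 := by simpa using S.Tj_le_right 0
  have hQ0T0 : S.Qj 0 ≤ S.Tj 0 := S.Qj_le_right 0
  have hQ1T0 : S.Qj 1 ≤ S.Tj 0 := by simpa using S.Qj_le_left 1
  have hV0Q0 : S.Vj 0 ≤ S.Qj 0 := hC.V_le_Q 0
  have hV1Q1 : S.Vj 1 ≤ S.Qj 1 := hC.V_le_Q 1
  have cardQ0 : Nat.card (S.Tj 0) = 2 * Nat.card (S.Qj 0) := hL.cardQ 0
  have cardQ1 : Nat.card (S.Tj 0) = 2 * Nat.card (S.Qj 1) := hL.cardQ 1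
  have hTne : S.Tj 0 ≠ S.Tj (-1) := by
    have := hL.bent 0; simp only [zero_sub] at this; exact fun h => this h.symm
  -- Step A: the elements `s`, `s'`
  have hZmV0 : S.Zj (-1) ≤ S.Vj 0 := hC.Z_le_V 0 _ sylTm
  have hZ1V1 : S.Zj 1 ≤ S.Vj 1 := hC.Z_le_V 1 _ sylT1
  have hnc : ¬ Comm (S.Zj (-1)) (S.Zj 1) := by
    have := hl.nc (-1); norm_num at this; exact this
  have hs_ex : ∃ s ∈ S.Vj 1, s ∉ S.Qj 0 := by
    by_contra hcon
    push Not at hcon
    apply hnc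
    intro a ha b hb
    exact hC.V_comm_Q 0 a (hZmV0 ha) b (hcon b (hZ1V1 hb))
  have hs'_ex : ∃ s' ∈ S.Vj 0, s' ∉ S.Qj 1 := by
    by_contra hcon
    push Not at hcon
    apply hnc
    intro a ha b hb
    exact (hC.V_comm_Q 1 b (hZ1V1 hb) a (hcon a (hZmV0 ha))).symm
  obtain ⟨s, hsV1, hsQ0⟩ := hs_ex
  obtain ⟨s', hs'V0, hs'Q1⟩ := hs'_ex
  have hsT0 : s ∈ S.Tj 0 := hQ1T0 (hV1Q1 hsV1)
  have hs'T0 : s' ∈ S.Tj 0 := hQ0T0 (hV0Q0 hs'V0)
  have hs2 : s ^ 2 = 1 := hC.V_sq 1 s hsV1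
  have hs'2 : s' ^ 2 = 1 := hC.V_sq 0 s' hs'V0
  have hsinv : s⁻¹ = s := by
    rw [inv_eq_iff_mul_eq_one, ← pow_two]; exact hs2
  -- every element of `T_0` is in `Q_1` or in `s' Q_1`, in `Q_0` or in `s Q_0`
  have hsplit1 : ∀ y ∈ S.Tj 0, y ∉ S.Qj 1 → s'⁻¹ * y ∈ S.Qj 1 := fun y hy hy' =>
    inv_mul_mem_of_card_two hQ1T0 cardQ1 hs'T0 hy hs'Q1 hy'
  have hsplit0 : ∀ y ∈ S.Tj 0, y ∉ S.Qj 0 → s⁻¹ * y ∈ S.Qj 0 := fun y hy hy' =>
    inv_mul_mem_of_card_two hQ0T0 cardQ0 hsT0 hy hsQ0 hy'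
  -- `s` commutes with `Q_1`, `s'` commutes with `Q_0`
  have hsQ1c : ∀ q ∈ S.Qj 1, s * q = q * s := fun q hq => hC.V_comm_Q 1 s hsV1 q hq
  have hs'Q0c : ∀ q ∈ S.Qj 0, s' * q = q * s' := fun q hq => hC.V_comm_Q 0 s' hs'V0 q hq
  -- Step B: `[V_0, T_0]` has order 2
  set e := s' * s * s'⁻¹ * s⁻¹ with he
  have he_ne : e ≠ 1 := by
    intro h1
    have hcomm : s' * s = s * s' := by
      have : s' * s = e * (s * s') := by rw [he]; group
      rw [this, h1, one_mul]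
    -- then `s` is central in `T_0`
    have hsZ : s ∈ zOf (S.Tj 0) := by
      refine ⟨hsT0, hs2, fun y hy => ?_⟩
      by_cases hy1 : y ∈ S.Qj 1
      · exact (hsQ1c y hy1).symm
      · have hq := hsplit1 y hy hy1
        have hyq : y = s' * (s'⁻¹ * y) := by group
        rw [hyq]
        calc s' * (s'⁻¹ * y) * s = s' * ((s'⁻¹ * y) * s) := by group
          _ = s' * (s * (s'⁻¹ * y)) := by rw [hsQ1c _ hq]
          _ = (s' * s) * (s'⁻¹ * y) := by group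
          _ = (s * s') * (s'⁻¹ * y) := by rw [hcomm]
          _ = s * (s' * (s'⁻¹ * y)) := by group
    exact hsQ0 (hC.Z_le_Q 0 _ sylT0 hsZ)
  have he_mem : e ∈ ⁅S.Vj 0, S.Tj 0⁆ := Subgroup.commutator_mem_commutator hs'V0 hsT0
  have hcomm_form : ∀ v ∈ S.Vj 0, v * s * v⁻¹ * s⁻¹ = 1 ∨ v * s * v⁻¹ * s⁻¹ = e := by
    intro v hv
    by_cases hv1 : v ∈ S.Qj 1
    · left
      rw [← hsQ1c v hv1]; group
    · right
      have hq := hsplit1 v (hQ0T0 (hV0Q0 hv)) hv1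
      have hvq : v = s' * (s'⁻¹ * v) := by group
      have h1 : (s'⁻¹ * v) * s * (s'⁻¹ * v)⁻¹ = s := by
        rw [← hsQ1c _ hq]; group
      calc v * s * v⁻¹ * s⁻¹ = s' * ((s'⁻¹ * v) * s * (s'⁻¹ * v)⁻¹) * s'⁻¹ * s⁻¹ := by group
        _ = e := by rw [h1]
  have hRelem : ∀ x ∈ ⁅S.Vj 0, S.Tj 0⁆, x = 1 ∨ x = e := by
    intro x hx
    obtain ⟨z, hz, rfl⟩ := hM.comm_eq 0 _ _ sylT0 sylTm hTne s hsT0 hsQ0 x hx
    exact hcomm_form z (hZmV0 hz)
  have hcardR : Nat.card ↥⁅S.Vj 0, S.Tj 0⁆ = 2 := by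
    apply le_antisymm (card_le_two_of_forall e hRelem)
    have : (⁅S.Vj 0, S.Tj 0⁆ : Subgroup G) ≠ ⊥ := by
      intro h0
      rw [h0, Subgroup.mem_bot] at he_mem
      exact he_ne he_mem
    exact (Subgroup.one_lt_card_iff_ne_bot _).2 this
  -- Step C: `t`, `s₂`, `W`, `K`
  obtain ⟨t, htP0, ht3⟩ := hL.exists_three 0
  set s₂ := t * s * t⁻¹ with hs₂
  set W : Subgroup G := ⁅S.Vj 0, Subgroup.zpowers t⁆ with hW
  have hWcard : Nat.card W = 4 := by
    have := hM.W_card 0 t htP0 ht3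
    rw [hcardR] at this; exact this
  have hWsup : S.Yj 0 ⊔ W = S.Vj 0 := hM.W_sup 0 t htP0 ht3
  have hWdisj : S.Yj 0 ⊓ W = ⊥ := hM.W_disj 0 t htP0 ht3
  have hWV0 : W ≤ S.Vj 0 := hWsup ▸ le_sup_right
  have hY0V0 : S.Yj 0 ≤ S.Vj 0 := hWsup ▸ le_sup_left
  have hWQ0 : W ≤ S.Qj 0 := hWV0.trans hV0Q0
  -- conjugation by `t` preserves `Q_0`
  have htQ0 : ∀ q, q ∈ S.Qj 0 ↔ t * q * t⁻¹ ∈ S.Qj 0 := by
    intro q
    have := hL.Q_norm 0 htP0
    rw [Subgroup.mem_normalizer_iff] at this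
    exact this q
  have hs₂Q0 : s₂ ∉ S.Qj 0 := fun h => hsQ0 ((htQ0 s).2 h)
  -- `conj t • T_0` is another Sylow subgroup
  have sylT0t : S.IsSyl 0 (MulAut.conj t • S.Tj 0) := by
    refine ⟨?_, ?_⟩
    · intro x hx
      rw [mem_conj_smul] at hx
      have h1 := hT0P0 hx
      have : x = t * (t⁻¹ * x * t) * t⁻¹ := by group
      rw [this]
      exact (S.Pj 0).mul_mem ((S.Pj 0).mul_mem htP0 h1) ((S.Pj 0).inv_mem htP0)
    · rw [Setup.card_conj_smul]
  have hT0t_ne : S.Tj 0 ≠ MulAut.conj t • S.Tj 0 := by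
    intro h
    have htT0 : t ∈ S.Tj 0 := hL.syl_selfnorm 0 _ sylT0 t htP0 h.symm
    have h2 := hb.two ⟨t, htT0⟩
    obtain ⟨k, hk⟩ := h2
    have hk' : t ^ 2 ^ k = 1 := by
      have := congrArg Subtype.val hk
      simpa using this
    have hdvd : 3 ∣ 2 ^ k := by rw [← ht3]; exact orderOf_dvd_of_pow_eq_one hk'
    have : 3 ∣ 2 := (Nat.Prime.dvd_of_dvd_pow (by norm_num) hdvd)
    omega
  have hsupP0 : S.Tj 0 ⊔ MulAut.conj t • S.Tj 0 = S.Pj 0 := hL.syl_sup 0 _ _ sylT0 sylT0t hT0t_ne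
  -- a subgroup containing `Q_0`, `s`, `s₂` contains `P_0`
  have hP0_le : ∀ C : Subgroup G, S.Qj 0 ≤ C → s ∈ C → s₂ ∈ C → S.Pj 0 ≤ C := by
    intro C hQC hsC hs₂C
    rw [← hsupP0]
    apply sup_le
    · intro y hy
      by_cases hy0 : y ∈ S.Qj 0
      · exact hQC hy0
      · have := hsplit0 y hy hy0
        have hyq : y = s * (s⁻¹ * y) := by group
        rw [hyq]; exact C.mul_mem hsC (hQC this)
    · intro y hy
      rw [mem_conj_smul] at hy
      by_cases hy0 : t⁻¹ * y * t ∈ S.Qj 0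
      · have := (htQ0 _).1 hy0
        have e1 : t * (t⁻¹ * y * t) * t⁻¹ = y := by group
        rw [e1] at this; exact hQC this
      · have h1 := hsplit0 _ hy hy0
        have h2 := (htQ0 _).1 h1
        have e1 : y = s₂ * (t * (s⁻¹ * (t⁻¹ * y * t)) * t⁻¹) := by rw [hs₂]; group
        rw [e1]; exact C.mul_mem hs₂C (hQC h2)
  -- `K`
  set K : Subgroup G := S.Qj 0 ⊓ Subgroup.centralizer {s, s₂} with hK
  have hKQ0 : K ≤ S.Qj 0 := inf_le_left
  have hKs : ∀ k ∈ K, k * s = s * k := by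
    intro k hk
    have := (Subgroup.mem_inf.1 hk).2
    rw [Subgroup.mem_centralizer_iff] at this
    exact (this s (by simp)).symm
  have hKs₂ : ∀ k ∈ K, k * s₂ = s₂ * k := by
    intro k hk
    have := (Subgroup.mem_inf.1 hk).2
    rw [Subgroup.mem_centralizer_iff] at this
    exact (this s₂ (by simp)).symm
  have hWc : ∀ w ∈ W, ∀ q ∈ S.Qj 0, w * q = q * w := fun w hw q hq =>
    hC.V_comm_Q 0 w (hWV0 hw) q hq
  -- `K ⊓ W = ⊥`
  have hKW : K ⊓ W = ⊥ := by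
    rw [eq_bot_iff]
    intro x hx
    have hxK := (Subgroup.mem_inf.1 hx).1
    have hxW := (Subgroup.mem_inf.1 hx).2
    have hxP0 : S.Pj 0 ≤ Subgroup.centralizer {x} := by
      apply hP0_le
      · intro q hq
        rw [Subgroup.mem_centralizer_iff]
        intro y hy
        rw [Set.mem_singleton_iff] at hy; subst hy
        exact hWc y hxW q hq
      · rw [Subgroup.mem_centralizer_iff]
        intro y hy
        rw [Set.mem_singleton_iff] at hy; subst hy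
        exact hKs y hxK
      · rw [Subgroup.mem_centralizer_iff]
        intro y hy
        rw [Set.mem_singleton_iff] at hy; subst hy
        exact hKs₂ y hxK
    have hxY : x ∈ S.Yj 0 := by
      refine ⟨S.Qj_le 0 (hKQ0 hxK), hC.V_sq 0 x (hWV0 hxW), fun y hy => ?_⟩
      have := hxP0 hy
      rw [Subgroup.mem_centralizer_iff] at this
      exact (this x rfl).symm
    have : x ∈ S.Yj 0 ⊓ W := ⟨hxY, hxW⟩
    rw [hWdisj] at this
    exact this
  -- index of `K` in `Q_0`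
  have hcardK : Nat.card (S.Qj 0) ≤ Nat.card K * Nat.card W := by
    set D : Subgroup G := S.Qj 0 ⊓ S.Qj 1 with hD
    have h1 : Nat.card (S.Tj 0) ≤ 4 * Nat.card D :=
      card_le_four_mul_inf hQ0T0 hQ1T0 cardQ0.le cardQ1.le
    have hDQ0 : D ≤ S.Qj 0 := inf_le_left
    have hDtQ0 : MulAut.conj t • D ≤ S.Qj 0 := by
      intro x hx
      rw [mem_conj_smul] at hx
      have := (htQ0 _).1 (hDQ0 hx)
      have e1 : t * (t⁻¹ * x * t) * t⁻¹ = x := by group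
      rw [e1] at this; exact this
    have h2 : Nat.card (S.Qj 0) ≤ 2 * Nat.card D := by omega
    have h3 : Nat.card (S.Qj 0) ≤ 2 * Nat.card ↥(MulAut.conj t • D) := by
      rw [Setup.card_conj_smul]; exact h2
    have h4 := card_le_four_mul_inf hDQ0 hDtQ0 h2 h3
    have h5 : D ⊓ MulAut.conj t • D ≤ K := by
      intro x hx
      have hx1 := (Subgroup.mem_inf.1 hx).1
      have hx2 := (Subgroup.mem_inf.1 hx).2
      refine Subgroup.mem_inf.2 ⟨hDQ0 hx1, ?_⟩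
      rw [Subgroup.mem_centralizer_iff]
      intro y hy
      rcases hy with rfl | hy
      · exact hsQ1c x (Subgroup.mem_inf.1 hx1).2
      · rw [Set.mem_singleton_iff] at hy; subst hy
        rw [mem_conj_smul] at hx2
        have := hsQ1c _ (Subgroup.mem_inf.1 hx2).2
        calc t * s * t⁻¹ * x = t * (s * (t⁻¹ * x * t)) * t⁻¹ := by group
          _ = t * ((t⁻¹ * x * t) * s) * t⁻¹ := by rw [this]
          _ = x * (t * s * t⁻¹) := by group
    have h6 : Nat.card ↥(D ⊓ MulAut.conj t • D) ≤ Nat.card K := Subgroup.card_le_of_le h5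
    rw [hWcard]
    omega
  obtain ⟨hQ0split, hcardQ0K⟩ := exists_mul_of_card_le hKQ0 hWQ0 hKW hcardK
  -- Step D: `K` commutes with `V_1`, so `K ≤ Q_1`
  have hV1Q0Z : ∀ v ∈ S.Vj 1, v ∈ S.Qj 0 → v ∈ zOf (S.Tj 0) := by
    intro v hv hv0
    refine ⟨hQ0T0 hv0, hC.V_sq 1 v hv, fun y hy => ?_⟩
    by_cases hy1 : y ∈ S.Qj 1
    · exact (hC.V_comm_Q 1 v hv y hy1).symm
    · have hq := hsplit1 y hy hy1
      have hyq : y = s' * (s'⁻¹ * y) := by group
      have c1 : s' * v = v * s' := hs'Q0c v hv0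
      have c2 : (s'⁻¹ * y) * v = v * (s'⁻¹ * y) := (hC.V_comm_Q 1 v hv _ hq).symm
      rw [hyq]
      calc s' * (s'⁻¹ * y) * v = s' * ((s'⁻¹ * y) * v) := by group
        _ = s' * (v * (s'⁻¹ * y)) := by rw [c2]
        _ = (s' * v) * (s'⁻¹ * y) := by group
        _ = (v * s') * (s'⁻¹ * y) := by rw [c1]
        _ = v * (s' * (s'⁻¹ * y)) := by group
  have hKV1 : ∀ k ∈ K, ∀ v ∈ S.Vj 1, k * v = v * k := by
    intro k hk v hv
    have hkT0 : k ∈ S.Tj 0 := hQ0T0 (hKQ0 hk)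
    by_cases hv0 : v ∈ S.Qj 0
    · exact (hV1Q0Z v hv hv0).2.2 k hkT0
    · have hq := hsplit0 v (hQ1T0 (hV1Q1 hv)) hv0
      have hqV : s⁻¹ * v ∈ S.Vj 1 := (S.Vj 1).mul_mem ((S.Vj 1).inv_mem hsV1) hv
      have c1 := (hV1Q0Z _ hqV hq).2.2 k hkT0
      have c2 := hKs k hk
      have hvq : v = s * (s⁻¹ * v) := by group
      rw [hvq]
      calc k * (s * (s⁻¹ * v)) = (k * s) * (s⁻¹ * v) := by group
        _ = (s * k) * (s⁻¹ * v) := by rw [c2]
        _ = s * (k * (s⁻¹ * v)) := by group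
        _ = s * ((s⁻¹ * v) * k) := by rw [c1]
        _ = s * (s⁻¹ * v) * k := by group
  have hKQ1 : K ≤ S.Qj 1 := fun k hk =>
    hC.cV 1 k (hT0P1 (hQ0T0 (hKQ0 hk))) (hKV1 k hk)
  -- Step E: `Q_1 = K W'`
  obtain ⟨t', ht'P1, ht'3⟩ := hL.exists_three 1
  set W' : Subgroup G := ⁅S.Vj 1, Subgroup.zpowers t'⁆ with hW'
  have hW'card : Nat.card W' = 4 := by
    have := hM.W_card 1 t' ht'P1 ht'3
    rw [hcardR] at this; exact this
  have hW'sup : S.Yj 1 ⊔ W' = S.Vj 1 := hM.W_sup 1 t' ht'P1 ht'3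
  have hW'disj : S.Yj 1 ⊓ W' = ⊥ := hM.W_disj 1 t' ht'P1 ht'3
  have hW'V1 : W' ≤ S.Vj 1 := hW'sup ▸ le_sup_right
  have hY1V1 : S.Yj 1 ≤ S.Vj 1 := hW'sup ▸ le_sup_left
  have hW'Q1 : W' ≤ S.Qj 1 := hW'V1.trans hV1Q1
  -- `[V_1, T_0] = {1, e}`
  have hR'le : (⁅S.Vj 1, S.Tj 0⁆ : Subgroup G) ≤ W' := hM.comm_le_W 1 _ sylT0' t' ht'P1 ht'3
  have hR'card : Nat.card ↥⁅S.Vj 1, S.Tj 0⁆ = 2 := by
    rw [hM.card_comm 1 _ sylT0', hcardR]
  have he_inv : e⁻¹ = s * s' * s⁻¹ * s'⁻¹ := by rw [he]; group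
  have he_mem' : e⁻¹ ∈ ⁅S.Vj 1, S.Tj 0⁆ := by
    rw [he_inv]; exact Subgroup.commutator_mem_commutator hsV1 hs'T0
  have heW : e ∈ W := by
    have := hM.comm_le_W 0 _ sylT0 t htP0 ht3 he_mem
    exact this
  have hR'elem : ∀ x ∈ ⁅S.Vj 1, S.Tj 0⁆, x = 1 ∨ x = e⁻¹ := by
    classical
    intro x hx
    by_contra hcon
    push Not at hcon
    -- three distinct elements in a group of order 2
    haveI : Fintype ↥⁅S.Vj 1, S.Tj 0⁆ := Fintype.ofFinite _
    have hc : Fintype.card ↥⁅S.Vj 1, S.Tj 0⁆ = 2 := by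
      rw [← Nat.card_eq_fintype_card]; exact hR'card
    have he1 : e⁻¹ ≠ 1 := fun h => he_ne (inv_eq_one.1 h)
    let f : Fin 3 → ↥⁅S.Vj 1, S.Tj 0⁆ := ![⟨x, hx⟩, ⟨1, Subgroup.one_mem _⟩, ⟨e⁻¹, he_mem'⟩]
    obtain ⟨i, j, hij, hf⟩ := Fintype.exists_ne_map_eq_of_card_lt f (by rw [hc]; simp)
    have hf' := congrArg Subtype.val hf
    fin_cases i <;> fin_cases j <;> simp [f] at hij hf' <;>
      first
      | exact hcon.1 hf'
      | exact hcon.1 hf'.symm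
      | exact hcon.2 hf'
      | exact hcon.2 hf'.symm
      | exact he1 hf'
      | exact he_ne hf'
  have hKW' : K ⊓ W' = ⊥ := by
    rw [eq_bot_iff]
    intro x hx
    have hxK := (Subgroup.mem_inf.1 hx).1
    have hxW' := (Subgroup.mem_inf.1 hx).2
    have hxZ : x ∈ zOf (S.Tj 0) := hV1Q0Z x (hW'V1 hxW') (hKQ0 hxK)
    rw [hM.Z_eq 1 _ sylT0'] at hxZ
    have hcomm : Comm (S.Yj 1) ⁅S.Vj 1, S.Tj 0⁆ := by
      intro a ha b hb
      have hb1 : b ∈ S.Pj 1 := S.Qj_le 1 (hW'Q1 (hR'le hb))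
      exact (ha.2.2 b hb1).symm
    obtain ⟨a, ha, b, hb, rfl⟩ := exists_mul_of_mem_sup hcomm hxZ
    have hbW' : b ∈ W' := hR'le hb
    have haW' : a ∈ W' := by
      have : a = a * b * b⁻¹ := by group
      rw [this]; exact W'.mul_mem hxW' (W'.inv_mem hbW')
    have ha1 : a = 1 := by
      have : a ∈ S.Yj 1 ⊓ W' := ⟨ha, haW'⟩
      rw [hW'disj] at this; exact this
    rw [ha1, one_mul] at hxK ⊢
    rcases hR'elem b hb with h | h
    · rw [h]; exact Subgroup.one_mem _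
    · exfalso
      have heK : e ∈ K := by
        have : e = b⁻¹ := by rw [h, inv_inv]
        rw [this]; exact K.inv_mem hxK
      have : e ∈ K ⊓ W := ⟨heK, heW⟩
      rw [hKW] at this
      exact he_ne this
  have hcardQ1K : Nat.card (S.Qj 1) ≤ Nat.card K * Nat.card W' := by
    rw [hW'card, ← hWcard, ← hcardQ0K]
    omega
  obtain ⟨hQ1split, -⟩ := exists_mul_of_card_le hKQ1 hW'Q1 hKW' hcardQ1K
  -- Step F: squares
  have hsq0 : ∀ q ∈ S.Qj 0, ∃ k ∈ K, q ^ 2 = k ^ 2 := by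
    intro q hq
    obtain ⟨k, hk, w, hw, rfl⟩ := hQ0split q hq
    refine ⟨k, hk, ?_⟩
    have c1 : w * k = k * w := hWc w hw k (hKQ0 hk)
    have w2 : w ^ 2 = 1 := hC.V_sq 0 w (hWV0 hw)
    calc (k * w) ^ 2 = k * (w * k) * w := by rw [pow_two]; group
      _ = k * (k * w) * w := by rw [c1]
      _ = k ^ 2 * w ^ 2 := by rw [pow_two, pow_two]; group
      _ = k ^ 2 := by rw [w2, mul_one]
  have hsq1 : ∀ q ∈ S.Qj 1, ∃ k ∈ K, q ^ 2 = k ^ 2 := by
    intro q hq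
    obtain ⟨k, hk, w, hw, rfl⟩ := hQ1split q hq
    refine ⟨k, hk, ?_⟩
    have c1 : w * k = k * w := hC.V_comm_Q 1 w (hW'V1 hw) k (hKQ1 hk)
    have w2 : w ^ 2 = 1 := hC.V_sq 1 w (hW'V1 hw)
    calc (k * w) ^ 2 = k * (w * k) * w := by rw [pow_two]; group
      _ = k * (k * w) * w := by rw [c1]
      _ = k ^ 2 * w ^ 2 := by rw [pow_two, pow_two]; group
      _ = k ^ 2 := by rw [w2, mul_one]
  set Φ : Subgroup G := Subgroup.closure {x | ∃ k ∈ K, x = k ^ 2} with hΦ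
  have hΦ0 : Φ = Subgroup.closure {x | ∃ q ∈ S.Qj 0, x = q ^ 2} := by
    apply le_antisymm
    · apply Subgroup.closure_mono
      rintro x ⟨k, hk, rfl⟩
      exact ⟨k, hKQ0 hk, rfl⟩
    · rw [Subgroup.closure_le]
      rintro x ⟨q, hq, rfl⟩
      obtain ⟨k, hk, hqk⟩ := hsq0 q hq
      rw [hqk]
      exact Subgroup.subset_closure ⟨k, hk, rfl⟩
  have hΦ1 : Φ = Subgroup.closure {x | ∃ q ∈ S.Qj 1, x = q ^ 2} := by
    apply le_antisymm
    · apply Subgroup.closure_mono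
      rintro x ⟨k, hk, rfl⟩
      exact ⟨k, hKQ1 hk, rfl⟩
    · rw [Subgroup.closure_le]
      rintro x ⟨q, hq, rfl⟩
      obtain ⟨k, hk, hqk⟩ := hsq1 q hq
      rw [hqk]
      exact Subgroup.subset_closure ⟨k, hk, rfl⟩
  have hnormsq : ∀ j : ℤ, S.Pj j ≤ Subgroup.normalizer
      ((Subgroup.closure {x | ∃ q ∈ S.Qj j, x = q ^ 2} : Subgroup G) : Set G) := by
    intro j
    apply Cfsg.Agent.Lib.H19.Sims.le_normalizer_closure_of_conj_mem
    rintro n hn x ⟨q, hq, rfl⟩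
    refine ⟨n * q * n⁻¹, ?_, ?_⟩
    · have := hL.Q_norm j hn
      rw [Subgroup.mem_normalizer_iff] at this
      exact (this q).1 hq
    · rw [pow_two, pow_two]; group
  have hΦbot : Φ = ⊥ := by
    apply S.no_common_normal_Pj 0 1 Φ
    · rw [hΦ0, Subgroup.closure_le]
      rintro x ⟨q, hq, rfl⟩
      exact (S.Pj 0).pow_mem (S.Qj_le 0 hq) 2
    · rw [hΦ0]; exact hnormsq 0
    · rw [hΦ1]; exact hnormsq 1
    · have := hL.P_ne 0; simpa using this
  have hK2 : ∀ k ∈ K, k ^ 2 = 1 := by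
    intro k hk
    have : k ^ 2 ∈ Φ := Subgroup.subset_closure ⟨k, hk, rfl⟩
    rw [hΦbot, Subgroup.mem_bot] at this
    exact this
  have hKab : ∀ k ∈ K, ∀ k' ∈ K, k * k' = k' * k := by
    intro k hk k' hk'
    have h1 := hK2 k hk
    have h2 := hK2 k' hk'
    have h3 := hK2 (k * k') (K.mul_mem hk hk')
    have e1 : k⁻¹ = k := by rw [inv_eq_iff_mul_eq_one, ← pow_two]; exact h1
    have e2 : k'⁻¹ = k' := by rw [inv_eq_iff_mul_eq_one, ← pow_two]; exact h2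
    have e3 : (k * k')⁻¹ = k * k' := by rw [inv_eq_iff_mul_eq_one, ← pow_two]; exact h3
    calc k * k' = (k * k')⁻¹ := e3.symm
      _ = k'⁻¹ * k⁻¹ := by group
      _ = k' * k := by rw [e1, e2]
  have hKY0 : K ≤ S.Yj 0 := by
    intro k hk
    have hkP0 : S.Pj 0 ≤ Subgroup.centralizer {k} := by
      apply hP0_le
      · intro q hq
        rw [Subgroup.mem_centralizer_iff]
        intro y hy
        rw [Set.mem_singleton_iff] at hy; subst hy
        obtain ⟨k₁, hk₁, w, hw, rfl⟩ := hQ0split q hq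
        have c1 := hKab y hk k₁ hk₁
        have c2 : w * y = y * w := hWc w hw y (hKQ0 hk)
        calc y * (k₁ * w) = (y * k₁) * w := by group
          _ = (k₁ * y) * w := by rw [c1]
          _ = k₁ * (y * w) := by group
          _ = k₁ * (w * y) := by rw [c2]
          _ = k₁ * w * y := by group
      · rw [Subgroup.mem_centralizer_iff]
        intro y hy
        rw [Set.mem_singleton_iff] at hy; subst hy
        exact hKs y hk
      · rw [Subgroup.mem_centralizer_iff]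
        intro y hy
        rw [Set.mem_singleton_iff] at hy; subst hy
        exact hKs₂ y hk
    refine ⟨S.Qj_le 0 (hKQ0 hk), hK2 k hk, fun y hy => ?_⟩
    have := hkP0 hy
    rw [Subgroup.mem_centralizer_iff] at this
    exact (this k rfl).symm
  have hQ0V0 : S.Qj 0 ≤ S.Vj 0 := by
    intro q hq
    obtain ⟨k, hk, w, hw, rfl⟩ := hQ0split q hq
    exact (S.Vj 0).mul_mem (hY0V0 (hKY0 hk)) (hWV0 hw)
  -- Step G
  refine ⟨le_antisymm hQ0V0 hV0Q0, W, hWV0, hM.W_norm 0 t htP0 ht3, hWcard, hWsup, hWdisj, ?_,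
    s, hT0P0 hsT0, hs2, hsQ0⟩
  have := hM.card_Y_le
  rw [hcardR] at this
  exact this

end Cfsg.Agent.Lib.H8.Sims
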