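import Mathlib
import Cfsg.Agent.Lib.H7.Coprime
import Cfsg.Agent.Lib.H7.CoprimeGen

/-!
# S1874 farm-out (helper7 architect), piece Y1: `exists_central_mod`
-/

set_option autoImplicit false

namespace Cfsg.Agent.Lib.H8.SympBY1

universe u
variable {G : Type u} [Group G]

/-- `x ^ 2 = 1`, `x ^ p = 1`, `p` odd: `x = 1`. -/
theorem eq_one_of_sq_of_pow {p : ℕ} [Fact p.Prime] (hp2 : p ≠ 2) {x : G} (h2 : x ^ 2 = 1)
    (hp : x ^ p = 1) : x = 1 := by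
  have h1 : orderOf x ∣ 2 := orderOf_dvd_of_pow_eq_one h2
  have h3 : orderOf x ∣ p := orderOf_dvd_of_pow_eq_one hp
  have hcop : Nat.Coprime 2 p := by
    rw [Nat.coprime_primes Nat.prime_two (Fact.out)]
    exact fun h => hp2 h.symm
  have h4 : orderOf x ∣ Nat.gcd 2 p := Nat.dvd_gcd h1 h3
  rw [hcop.gcd_eq_one] at h4
  exact orderOf_eq_one_iff.mp (Nat.dvd_one.mp h4)

theorem inv_eq_self_of_sq {w : G} (hw2 : w ^ 2 = 1) : w⁻¹ = w := by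
  rw [inv_eq_iff_mul_eq_one, ← sq, hw2]

/-- class two power identity -/
theorem comm_pow_of_commute {g h : G} (hc : Commute (g * h * g⁻¹ * h⁻¹) g) (n : ℕ) :
    g ^ n * h * (g ^ n)⁻¹ * h⁻¹ = (g * h * g⁻¹ * h⁻¹) ^ n := by
  induction n with
  | zero => simp
  | succ n ih =>
    have h1 : g ^ (n + 1) * h * (g ^ (n + 1))⁻¹ * h⁻¹ =
        g * (g ^ n * h * (g ^ n)⁻¹ * h⁻¹) * g⁻¹ * (g * h * g⁻¹ * h⁻¹) := by
      rw [pow_succ']; group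
    rw [h1, ih, pow_succ]
    have h2 : Commute ((g * h * g⁻¹ * h⁻¹) ^ n) g := hc.pow_left n
    have h3 : g * (g * h * g⁻¹ * h⁻¹) ^ n * g⁻¹ = (g * h * g⁻¹ * h⁻¹) ^ n := by
      rw [← h2.eq, mul_inv_cancel_right]
    rw [h3]

/-- the preimage in `H` of the centre of `H / A`, for `A` central in `H` -/
def Uprime (A H : Subgroup G) (hAZ : ∀ a ∈ A, ∀ h ∈ H, a * h = h * a) : Subgroup G where
  carrier := {u | u ∈ H ∧ ∀ h ∈ H, u * h * u⁻¹ * h⁻¹ ∈ A}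
  one_mem' := ⟨H.one_mem, fun h _ => by simp [A.one_mem]⟩
  mul_mem' := by
    rintro u v ⟨hu, hu'⟩ ⟨hv, hv'⟩
    refine ⟨H.mul_mem hu hv, fun h hh => ?_⟩
    have h1 := hu' h hh
    have h2 := hv' h hh
    have h0 : u * v * h * (u * v)⁻¹ * h⁻¹ =
        u * (v * h * v⁻¹ * h⁻¹) * u⁻¹ * (u * h * u⁻¹ * h⁻¹) := by group
    rw [h0]
    have h3 : u * (v * h * v⁻¹ * h⁻¹) * u⁻¹ = v * h * v⁻¹ * h⁻¹ := by
      rw [← hAZ _ h2 u hu, mul_inv_cancel_right]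
    rw [h3]
    exact A.mul_mem h2 h1
  inv_mem' := by
    rintro u ⟨hu, hu'⟩
    refine ⟨H.inv_mem hu, fun h hh => ?_⟩
    have h1 := hu' h hh
    have h0 : u⁻¹ * h * u⁻¹⁻¹ * h⁻¹ = u⁻¹ * (u * h * u⁻¹ * h⁻¹)⁻¹ * u := by group
    rw [h0]
    have h3 : u⁻¹ * (u * h * u⁻¹ * h⁻¹)⁻¹ * u = (u * h * u⁻¹ * h⁻¹)⁻¹ := by
      have h4 := hAZ _ (A.inv_mem h1) u hu
      rw [mul_assoc, h4, inv_mul_cancel_left]
    rw [h3]
    exact A.inv_mem h1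

theorem mem_Uprime {A H : Subgroup G} {hAZ : ∀ a ∈ A, ∀ h ∈ H, a * h = h * a} {u : G} :
    u ∈ Uprime A H hAZ ↔ u ∈ H ∧ ∀ h ∈ H, u * h * u⁻¹ * h⁻¹ ∈ A := Iff.rfl

/-- an involution normalizing a `p`-group and inverting no element of order `p` centralizes it -/
theorem conj_fix_of_no_inverted {p : ℕ} [Fact p.Prime] (U : Subgroup G) (hU : IsPGroup p ↥U) (w : G)
    (hw2 : w ^ 2 = 1) (hwU : ∀ u ∈ U, w * u * w⁻¹ ∈ U)
    (hno : ∀ x ∈ U, x ^ p = 1 → w * x * w⁻¹ = x⁻¹ → x = 1) :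
    ∀ u ∈ U, w * u * w⁻¹ = u := by
  intro u hu
  have htU : u⁻¹ * (w * u * w⁻¹) ∈ U := U.mul_mem (U.inv_mem hu) (hwU u hu)
  have htinv : w * (u⁻¹ * (w * u * w⁻¹)) * w⁻¹ = (u⁻¹ * (w * u * w⁻¹))⁻¹ := by
    have h0 : w * (u⁻¹ * (w * u * w⁻¹)) * w⁻¹ = (w * u * w⁻¹)⁻¹ * (w ^ 2 * u * (w ^ 2)⁻¹) := by group
    rw [h0, hw2]; group
  by_contra hne
  have ht1 : u⁻¹ * (w * u * w⁻¹) ≠ 1 := by
    intro h1
    apply hne
    have h2 : u * (u⁻¹ * (w * u * w⁻¹)) = u := by rw [h1, mul_one]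
    rw [mul_inv_cancel_left] at h2
    exact h2
  obtain ⟨j, hj⟩ := (IsPGroup.iff_orderOf.mp hU) ⟨u⁻¹ * (w * u * w⁻¹), htU⟩
  rw [Subgroup.orderOf_mk] at hj
  have hj0 : j ≠ 0 := by
    rintro rfl
    rw [pow_zero, orderOf_eq_one_iff] at hj
    exact ht1 hj
  obtain ⟨i, rfl⟩ := Nat.exists_eq_succ_of_ne_zero hj0
  have hx := hno ((u⁻¹ * (w * u * w⁻¹)) ^ (p ^ i)) (U.pow_mem htU _)
    (by rw [← pow_mul, ← pow_succ, ← hj, pow_orderOf_eq_one])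
    (by rw [← conj_pow, htinv, inv_pow])
  have h5 : orderOf (u⁻¹ * (w * u * w⁻¹)) ∣ p ^ i := orderOf_dvd_of_pow_eq_one hx
  rw [hj] at h5
  have h6 := Nat.le_of_dvd (pow_pos (Fact.out : p.Prime).pos i) h5
  have h7 : p ^ i < p ^ i.succ :=
    Nat.pow_lt_pow_right (Fact.out : p.Prime).one_lt (Nat.lt_succ_self i)
  omega

/-- the abstract form of Y1, `H` any subgroup generated by `A`, `x₁`, `x₂` -/
theorem exists_central_mod_aux [Finite G] (p : ℕ) [Fact p.Prime] (A H : Subgroup G) (x₁ x₂ w₁ w₂ : G)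
    (hp2 : p ≠ 2)
    (hAH : A ≤ H) (hx₁H : x₁ ∈ H) (hx₂H : x₂ ∈ H)
    (hgen : ∀ K : Subgroup G, A ≤ K → x₁ ∈ K → x₂ ∈ K → H ≤ K)
    (hAc : ∀ a ∈ A, ∀ b ∈ A, a * b = b * a) (hAp : ∀ a ∈ A, a ^ p = 1)
    (hH : IsPGroup p ↥H)
    (hAx₁ : ∀ a ∈ A, a * x₁ = x₁ * a) (hAx₂ : ∀ a ∈ A, a * x₂ = x₂ * a)
    (hx₁ : x₁ ^ p = 1)
    (hw₁ : w₁ ^ 2 = 1) (hw₂ : w₂ ^ 2 = 1)
    (hw₁A : ∀ a ∈ A, w₁ * a = a * w₁) (hw₂A : ∀ a ∈ A, w₂ * a = a * w₂)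
    (h11 : w₁ * x₁ * w₁⁻¹ = x₁⁻¹) (h12 : w₁ * x₂ * w₁⁻¹ = x₂)
    (h21 : w₂ * x₁ * w₂⁻¹ = x₁) (h22 : w₂ * x₂ * w₂⁻¹ = x₂⁻¹)
    (hnc : x₁ * x₂ ≠ x₂ * x₁)
    (hR : ∀ x ∈ H, ∀ y ∈ H,
      x ^ p = 1 → y ^ p = 1 → x * y = y * x → x ∉ A → ∃ a ∈ A, ∃ k : ℕ, y = a * x ^ k) :
    ∃ y ∈ H, y ^ p = 1 ∧ y ∉ A ∧ ∀ h ∈ H, y * h * y⁻¹ * h⁻¹ ∈ A := by
  by_contra hcon
  have hΩ : ∀ y ∈ H, y ^ p = 1 → (∀ h ∈ H, y * h * y⁻¹ * h⁻¹ ∈ A) → y ∈ A := by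
    intro y hy hyp hyc
    by_contra hyA
    exact hcon ⟨y, hy, hyp, hyA, hyc⟩
  -- S0 : `A` is central in `H`
  have hAZ : ∀ a ∈ A, ∀ h ∈ H, a * h = h * a := by
    intro a ha h hh
    have hle : H ≤ Subgroup.centralizer ({a} : Set G) := by
      apply hgen
      · intro b hb
        rw [Subgroup.mem_centralizer_iff]
        intro c hc
        rw [Set.mem_singleton_iff] at hc
        subst hc
        exact hAc c ha b hb
      · rw [Subgroup.mem_centralizer_iff]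
        intro c hc
        rw [Set.mem_singleton_iff] at hc
        subst hc
        exact hAx₁ c ha
      · rw [Subgroup.mem_centralizer_iff]
        intro c hc
        rw [Set.mem_singleton_iff] at hc
        subst hc
        exact hAx₂ c ha
    have h1 := hle hh
    rw [Subgroup.mem_centralizer_iff] at h1
    exact h1 a rfl
  -- S1 : `w₁`, `w₂` normalize `H`
  have hwH : ∀ w : G, (∀ a ∈ A, w * a = a * w) → w * x₁ * w⁻¹ ∈ H → w * x₂ * w⁻¹ ∈ H →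
      ∀ h ∈ H, w * h * w⁻¹ ∈ H := by
    intro w hwA h1 h2 h hh
    have hle : H ≤ H.comap (MulAut.conj w).toMonoidHom := by
      apply hgen
      · intro a ha
        rw [Subgroup.mem_comap]
        show w * a * w⁻¹ ∈ H
        rw [hwA a ha, mul_inv_cancel_right]
        exact hAH ha
      · exact h1
      · exact h2
    exact hle hh
  have hw₁H : ∀ h ∈ H, w₁ * h * w₁⁻¹ ∈ H :=
    hwH w₁ hw₁A (by rw [h11]; exact H.inv_mem hx₁H) (by rw [h12]; exact hx₂H)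
  have hw₂H : ∀ h ∈ H, w₂ * h * w₂⁻¹ ∈ H :=
    hwH w₂ hw₂A (by rw [h21]; exact hx₁H) (by rw [h22]; exact H.inv_mem hx₂H)
  -- S3 : `U'` is invariant
  have hwU : ∀ w : G, w ^ 2 = 1 → (∀ a ∈ A, w * a = a * w) → (∀ h ∈ H, w * h * w⁻¹ ∈ H) →
      ∀ u ∈ Uprime A H hAZ, w * u * w⁻¹ ∈ Uprime A H hAZ := by
    intro w hw2 hwA hwH' u hu
    rw [mem_Uprime] at hu ⊢
    have hwinv : w⁻¹ = w := inv_eq_self_of_sq hw2
    refine ⟨hwH' u hu.1, fun h hh => ?_⟩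
    have hh' : w⁻¹ * h * w ∈ H := by
      have h1 := hwH' h hh
      have h2 : w⁻¹ * h * w = w * h * w⁻¹ := by rw [hwinv]
      rw [h2]; exact h1
    have hc := hu.2 (w⁻¹ * h * w) hh'
    have h0 : w * u * w⁻¹ * h * (w * u * w⁻¹)⁻¹ * h⁻¹ =
        w * (u * (w⁻¹ * h * w) * u⁻¹ * (w⁻¹ * h * w)⁻¹) * w⁻¹ := by group
    rw [h0, hwA _ hc, mul_inv_cancel_right]
    exact hc
  have hUH : Uprime A H hAZ ≤ H := fun u hu => hu.1
  have hUp : IsPGroup p ↥(Uprime A H hAZ) := hH.to_le hUH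
  -- S4 : `w₁`, `w₂` centralize `U'`
  have hfix : ∀ w : G, w ^ 2 = 1 → (∀ a ∈ A, w * a = a * w) → (∀ h ∈ H, w * h * w⁻¹ ∈ H) →
      ∀ u ∈ Uprime A H hAZ, w * u * w⁻¹ = u := by
    intro w hw2 hwA hwH'
    apply conj_fix_of_no_inverted (Uprime A H hAZ) hUp w hw2 (hwU w hw2 hwA hwH')
    intro x hx hxp hxinv
    have hxA : x ∈ A := hΩ x hx.1 hxp hx.2
    have h1 : w * x * w⁻¹ = x := by rw [hwA x hxA, mul_inv_cancel_right]
    have h2 : x = x⁻¹ := h1.symm.trans hxinv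
    have h3 : x ^ 2 = 1 := by
      rw [sq]
      nth_rewrite 1 [h2]
      exact inv_mul_cancel x
    exact eq_one_of_sq_of_pow hp2 h3 hxp
  -- S5 : `U'` centralizes an inverted element of `H`
  have hcent : ∀ w : G, (∀ a ∈ A, w * a = a * w) → ∀ x ∈ H, w * x * w⁻¹ = x⁻¹ →
      ∀ u ∈ Uprime A H hAZ, w * u * w⁻¹ = u → u * x = x * u := by
    intro w hwA x hxH hxinv u hu hfu
    have hcA : u * x * u⁻¹ * x⁻¹ ∈ A := hu.2 x hxH
    have h1 : w * (u * x * u⁻¹ * x⁻¹) * w⁻¹ = u * x * u⁻¹ * x⁻¹ := by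
      rw [hwA _ hcA, mul_inv_cancel_right]
    have h2 : w * (u * x * u⁻¹ * x⁻¹) * w⁻¹ =
        (w * u * w⁻¹) * (w * x * w⁻¹) * (w * u * w⁻¹)⁻¹ * (w * x * w⁻¹)⁻¹ := by group
    rw [hfu, hxinv, inv_inv] at h2
    -- `d = u x u⁻¹` commutes with `x`
    have hcx : (u * x * u⁻¹ * x⁻¹) * x = x * (u * x * u⁻¹ * x⁻¹) := hAZ _ hcA x hxH
    have hdx : (u * x * u⁻¹) * x = x * (u * x * u⁻¹) := by
      have h3 : x * (u * x * u⁻¹ * x⁻¹) * x = x * (u * x * u⁻¹) := by group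
      rw [← h3, ← hcx]; group
    have h4 : u * x⁻¹ * u⁻¹ * x = (u * x * u⁻¹ * x⁻¹)⁻¹ := by
      have h5 : u * x⁻¹ * u⁻¹ * x = (u * x * u⁻¹)⁻¹ * x := by group
      have h6 : (u * x * u⁻¹ * x⁻¹)⁻¹ = x * (u * x * u⁻¹)⁻¹ := by group
      rw [h5, h6]
      have h7 : Commute (u * x * u⁻¹) x := hdx
      exact (h7.inv_left).eq
    have h8 : u * x * u⁻¹ * x⁻¹ = (u * x * u⁻¹ * x⁻¹)⁻¹ := h1.symm.trans (h2.trans h4)
    have h9 : (u * x * u⁻¹ * x⁻¹) ^ 2 = 1 := by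
      rw [sq]
      nth_rewrite 1 [h8]
      exact inv_mul_cancel _
    have h10 : u * x * u⁻¹ * x⁻¹ = 1 := eq_one_of_sq_of_pow hp2 h9 (hAp _ hcA)
    have h11 : u * x = (u * x * u⁻¹ * x⁻¹) * x * u := by group
    rw [h11, h10, one_mul]
  -- S6 : `U' ≤ Z(H)`
  have hUZ : ∀ u ∈ Uprime A H hAZ, ∀ h ∈ H, u * h = h * u := by
    intro u hu h hh
    have hux₁ : u * x₁ = x₁ * u :=
      hcent w₁ hw₁A x₁ hx₁H h11 u hu (hfix w₁ hw₁ hw₁A hw₁H u hu)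
    have hux₂ : u * x₂ = x₂ * u :=
      hcent w₂ hw₂A x₂ hx₂H h22 u hu (hfix w₂ hw₂ hw₂A hw₂H u hu)
    have hle : H ≤ Subgroup.centralizer ({u} : Set G) := by
      apply hgen
      · intro b hb
        rw [Subgroup.mem_centralizer_iff]
        intro c hc
        rw [Set.mem_singleton_iff] at hc
        subst hc
        exact (hAZ b hb c hu.1).symm
      · rw [Subgroup.mem_centralizer_iff]
        intro c hc
        rw [Set.mem_singleton_iff] at hc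
        subst hc
        exact hux₁
      · rw [Subgroup.mem_centralizer_iff]
        intro c hc
        rw [Set.mem_singleton_iff] at hc
        subst hc
        exact hux₂
    have h1 := hle hh
    rw [Subgroup.mem_centralizer_iff] at h1
    exact h1 u rfl
  -- S7 : `Ω₁(Z(H)) ≤ A`
  have hΩZ : ∀ z ∈ H, (∀ h ∈ H, z * h = h * z) → z ^ p = 1 → z ∈ A := by
    intro z hz hzc hzp
    by_contra hzA
    obtain ⟨a, ha, k, hk⟩ := hR z hz x₁ hx₁H hzp hx₁ (hzc x₁ hx₁H) hzA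
    apply hnc
    have h1 : Commute (z ^ k) x₂ := (show Commute z x₂ from hzc x₂ hx₂H).pow_left k
    have h2 : Commute a x₂ := hAx₂ a ha
    rw [hk]
    exact (h2.mul_left h1).eq
  -- S8 : second centre
  haveI : Group.IsNilpotent ↥H := hH.isNilpotent
  have hnab : ¬ (∀ a b : ↥H, a * b = b * a) :=
    fun h => hnc (congrArg Subtype.val (h ⟨x₁, hx₁H⟩ ⟨x₂, hx₂H⟩))
  have hex : ∃ g : ↥H, g ∈ Subgroup.upperCentralSeries ↥H 2 ∧ g ∉ Subgroup.center ↥H := by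
    by_contra hno
    push Not at hno
    have hle : ∀ n, Subgroup.upperCentralSeries ↥H n ≤ Subgroup.center ↥H := by
      intro n
      induction n with
      | zero => rw [Subgroup.upperCentralSeries_zero]; exact bot_le
      | succ n ih =>
        intro g hg
        apply hno
        rw [Subgroup.mem_upperCentralSeries_succ_iff] at hg ⊢
        intro y
        rw [Subgroup.upperCentralSeries_one]
        exact ih (hg y)
    have h1 := hle (Group.nilpotencyClass ↥H)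
    rw [Subgroup.upperCentralSeries_nilpotencyClass] at h1
    apply hnab
    intro a b
    have ha := h1 (Subgroup.mem_top a)
    rw [Subgroup.mem_center_iff] at ha
    exact (ha b).symm
  obtain ⟨g, hg2, hgZ⟩ := hex
  have hexm : ∃ m, g ^ (p ^ m) ∈ Subgroup.center ↥H := by
    obtain ⟨k, hk⟩ := hH g
    exact ⟨k, by rw [hk]; exact Subgroup.one_mem _⟩
  classical
  have hm : g ^ (p ^ Nat.find hexm) ∈ Subgroup.center ↥H := Nat.find_spec hexm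
  have hm0 : Nat.find hexm ≠ 0 := by
    intro h0
    rw [h0, pow_zero, pow_one] at hm
    exact hgZ hm
  obtain ⟨m', hm'⟩ := Nat.exists_eq_succ_of_ne_zero hm0
  have hmin : g ^ (p ^ m') ∉ Subgroup.center ↥H := Nat.find_min hexm (by omega)
  have hg'2 : g ^ (p ^ m') ∈ Subgroup.upperCentralSeries ↥H 2 := Subgroup.pow_mem _ hg2 _
  have hg'p : (g ^ (p ^ m')) ^ p ∈ Subgroup.center ↥H := by
    rw [← pow_mul, ← pow_succ, ← Nat.succ_eq_add_one, ← hm']; exact hm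
  apply hmin
  -- `g' := g ^ (p ^ m')` lies in `U'`
  have hcomm : ∀ h : ↥H, (g ^ (p ^ m')) * h * (g ^ (p ^ m'))⁻¹ * h⁻¹ ∈ Subgroup.center ↥H := by
    intro h
    have h1 := hg'2
    rw [show (2 : ℕ) = 1 + 1 from rfl, Subgroup.mem_upperCentralSeries_succ_iff] at h1
    have h2 := h1 h
    rw [Subgroup.upperCentralSeries_one, commutatorElement_def] at h2
    exact h2
  have hgU : ((g ^ (p ^ m') : ↥H) : G) ∈ Uprime A H hAZ := by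
    rw [mem_Uprime]
    refine ⟨(g ^ (p ^ m')).2, fun h hh => ?_⟩
    have hc := hcomm ⟨h, hh⟩
    have hcp : ((g ^ (p ^ m')) * ⟨h, hh⟩ * (g ^ (p ^ m'))⁻¹ * (⟨h, hh⟩ : ↥H)⁻¹) ^ p = 1 := by
      rw [← comm_pow_of_commute]
      · rw [Subgroup.mem_center_iff] at hg'p
        rw [← hg'p ⟨h, hh⟩]
        group
      · rw [Subgroup.mem_center_iff] at hc
        exact (hc _).symm
    apply hΩZ
    · exact ((g ^ (p ^ m')) * ⟨h, hh⟩ * (g ^ (p ^ m'))⁻¹ * (⟨h, hh⟩ : ↥H)⁻¹).2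
    · intro k hk
      rw [Subgroup.mem_center_iff] at hc
      exact (congrArg Subtype.val (hc ⟨k, hk⟩)).symm
    · exact congrArg Subtype.val hcp
  rw [Subgroup.mem_center_iff]
  intro k
  apply Subtype.ext
  exact (hUZ _ hgU k.1 k.2).symm

/-- **Y1**. -/
theorem exists_central_mod [Finite G] (p : ℕ) [Fact p.Prime] (A : Subgroup G) (x₁ x₂ w₁ w₂ : G)
    (hp2 : p ≠ 2)
    (hAc : ∀ a ∈ A, ∀ b ∈ A, a * b = b * a) (hAp : ∀ a ∈ A, a ^ p = 1)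
    (hH : IsPGroup p ↥(A ⊔ Subgroup.closure {x₁, x₂}))
    (hAx₁ : ∀ a ∈ A, a * x₁ = x₁ * a) (hAx₂ : ∀ a ∈ A, a * x₂ = x₂ * a)
    (hx₁ : x₁ ^ p = 1) (hx₂ : x₂ ^ p = 1) (hx₁1 : x₁ ≠ 1) (hx₂1 : x₂ ≠ 1)
    (hw₁ : w₁ ^ 2 = 1) (hw₂ : w₂ ^ 2 = 1)
    (hw₁A : ∀ a ∈ A, w₁ * a = a * w₁) (hw₂A : ∀ a ∈ A, w₂ * a = a * w₂)
    (h11 : w₁ * x₁ * w₁⁻¹ = x₁⁻¹) (h12 : w₁ * x₂ * w₁⁻¹ = x₂)
    (h21 : w₂ * x₁ * w₂⁻¹ = x₁) (h22 : w₂ * x₂ * w₂⁻¹ = x₂⁻¹)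
    (hnc : x₁ * x₂ ≠ x₂ * x₁)
    (hR : ∀ x ∈ A ⊔ Subgroup.closure {x₁, x₂}, ∀ y ∈ A ⊔ Subgroup.closure {x₁, x₂},
      x ^ p = 1 → y ^ p = 1 → x * y = y * x → x ∉ A → ∃ a ∈ A, ∃ k : ℕ, y = a * x ^ k) :
    ∃ y ∈ A ⊔ Subgroup.closure {x₁, x₂}, y ^ p = 1 ∧ y ∉ A ∧
      ∀ h ∈ A ⊔ Subgroup.closure {x₁, x₂}, y * h * y⁻¹ * h⁻¹ ∈ A := by
  have hx₁H : x₁ ∈ A ⊔ Subgroup.closure {x₁, x₂} :=
    (le_sup_right : Subgroup.closure {x₁, x₂} ≤ _) (Subgroup.subset_closure (by simp))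
  have hx₂H : x₂ ∈ A ⊔ Subgroup.closure {x₁, x₂} :=
    (le_sup_right : Subgroup.closure {x₁, x₂} ≤ _) (Subgroup.subset_closure (by simp))
  have hgen : ∀ K : Subgroup G, A ≤ K → x₁ ∈ K → x₂ ∈ K → A ⊔ Subgroup.closure {x₁, x₂} ≤ K := by
    intro K hA h1 h2
    apply sup_le hA
    rw [Subgroup.closure_le]
    intro x hx
    rcases hx with rfl | rfl
    · exact h1
    · exact h2
  exact exists_central_mod_aux p A (A ⊔ Subgroup.closure {x₁, x₂}) x₁ x₂ w₁ w₂ hp2 le_sup_left hx₁H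
    hx₂H hgen hAc hAp hH hAx₁ hAx₂ hx₁ hw₁ hw₂ hw₁A hw₂A h11 h12 h21 h22 hnc hR

end Cfsg.Agent.Lib.H8.SympBY1
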