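import Mathlib
import Cfsg.Prelude.Def_Solvable
import Cfsg.Agent.S3995
import Cfsg.Agent.S0041
import Cfsg.Agent.Lib.H20.ThreeValGroup
import Cfsg.Agent.Lib.H20.ThreePrimes

set_option autoImplicit false

/-!
# S4004 (helper20 architect) piece FIX and ORB helpers: conjugation action of a subgroup on the set of
elements of a given order.
-/

namespace Cfsg.Agent.Lib.H8.TV3

open Cfsg.Agent.S3995 (f)

universe u

variable {G : Type u} [Group G] [Finite G]

/-- conjugation action of a subgroup `H` on the elements of order `m` -/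
@[reducible] def conjActOrd (H : Subgroup G) (m : ℕ) : MulAction H {y : G // orderOf y = m} where
  smul h y := ⟨(h : G) * y.1 * (h : G)⁻¹, (SemiconjBy.orderOf_eq (h : G) (x := y.1) (y := (h : G) * y.1 * (h : G)⁻¹) (by simp [SemiconjBy])).symm.trans y.2⟩
  one_smul y := by
    apply Subtype.ext
    show ((1 : H) : G) * y.1 * ((1 : H) : G)⁻¹ = y.1
    simp
  mul_smul a b y := by
    apply Subtype.ext
    show ((a * b : H) : G) * y.1 * ((a * b : H) : G)⁻¹ = (a : G) * ((b : G) * y.1 * (b : G)⁻¹) * (a : G)⁻¹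
    simp [mul_assoc]

omit [Finite G] in
theorem conjActOrd_smul_val (H : Subgroup G) (m : ℕ) (h : H) (y : {y : G // orderOf y = m}) :
    ((conjActOrd H m).toSMul.smul h y).1 = (h : G) * y.1 * (h : G)⁻¹ := rfl

/-- **FIX**. -/
theorem exists_centralized {p q : ℕ} [Fact p.Prime] (P : Sylow p G) (hnd : ¬ p ∣ f G q) :
    ∃ y : G, orderOf y = q ∧ ∀ x ∈ (P : Subgroup G), x * y = y * x := by
  letI := conjActOrd (P : Subgroup G) q
  have hP : IsPGroup p (P : Subgroup G) := P.isPGroup'
  obtain ⟨y, hy⟩ := hP.nonempty_fixed_point_of_prime_not_dvd_card {y : G // orderOf y = q} hnd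
  refine ⟨y.1, y.2, ?_⟩
  intro x hx
  have h1 := hy ⟨x, hx⟩
  have h2 : x * y.1 * x⁻¹ = y.1 := congrArg Subtype.val h1
  calc x * y.1 = x * y.1 * x⁻¹ * x := by group
    _ = y.1 * x := by rw [h2]

end Cfsg.Agent.Lib.H8.TV3
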