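import Mathlib
import Cfsg.Prelude.Def_Solvable
import Cfsg.Agent.S3995
import Cfsg.Agent.S0041
import Cfsg.Agent.Lib.H20.ThreeValGroup
import Cfsg.Agent.Lib.H20.ThreePrimes
import Cfsg.Agent.Lib.H8.TV3FIX

set_option autoImplicit false

/-!
# S4004 (helper20 architect) piece ORB
-/

namespace Cfsg.Agent.Lib.H8.TV3

open Cfsg.Agent.S3995 (f)

universe u

variable {G : Type u} [Group G] [Finite G]

/-- **ORB**. -/
theorem dvd_f_of_no_commuting {q : ℕ} (hq : q.Prime) (y : G) (hy : orderOf y = q) (m : ℕ)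
    (hm : ∀ x : G, orderOf x = m → x * y ≠ y * x) : q ∣ f G m := by
  haveI : Fact q.Prime := ⟨hq⟩
  letI := conjActOrd (Subgroup.zpowers y) m
  have hP : IsPGroup q (Subgroup.zpowers y) := by
    apply IsPGroup.of_card (n := 1)
    rw [Nat.card_zpowers, hy, pow_one]
  have h1 := hP.card_modEq_card_fixedPoints {x : G // orderOf x = m}
  have h2 : IsEmpty (MulAction.fixedPoints (Subgroup.zpowers y) {x : G // orderOf x = m}) := by
    constructor
    rintro ⟨x, hx⟩
    have h3 := hx ⟨y, Subgroup.mem_zpowers y⟩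
    have h4 : y * x.1 * y⁻¹ = x.1 := congrArg Subtype.val h3
    apply hm x.1 x.2
    calc x.1 * y = y * x.1 * y⁻¹ * y := by rw [h4]
      _ = y * x.1 := by group
  have h5 : Nat.card (MulAction.fixedPoints (Subgroup.zpowers y) {x : G // orderOf x = m}) = 0 :=
    Nat.card_of_isEmpty
  rw [h5] at h1
  exact (Nat.modEq_zero_iff_dvd.mp h1)

end Cfsg.Agent.Lib.H8.TV3
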