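/-
S2524 (Tiep-Zalesskii gap for `Sp_2n(q)`, `q` odd; architect helper19, top layer helper8).
Abstract counting glue: four irreducible characters of degrees `dp, dp, dm, dm` below the gap, and every irreducible
character of degree `≠ 1` below the gap is one of them  ==>  the three conjuncts of S2524.
-/
import Cfsg.Prelude.Def_Characters
import Mathlib

set_option autoImplicit false

namespace Cfsg.Agent.Lib.H8.TZ

/-- a subtype with exactly two elements -/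
theorem card_subtype_eq_two {α : Type*} (p : α → Prop) (a b : α) (hab : a ≠ b) (ha : p a) (hb : p b)
    (h : ∀ x, p x → x = a ∨ x = b) : Nat.card {x // p x} = 2 := by
  rw [Nat.card_eq_two_iff]
  refine ⟨⟨a, ha⟩, ⟨b, hb⟩, fun h0 => hab (congrArg Subtype.val h0), ?_⟩
  ext x
  simp only [Set.mem_insert_iff, Set.mem_singleton_iff, Set.mem_univ, iff_true]
  rcases h x.1 x.2 with h1 | h1
  · exact Or.inl (Subtype.ext h1)
  · exact Or.inr (Subtype.ext h1)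

/-- the abstract count -/
theorem glue {G : Type*} [Group G] (dp dm : ℕ) (gap : ℝ)
    (χ1 χ2 χ3 χ4 : G → ℂ) (h1 : Cfsg.IsIrrCharacter G χ1) (h2 : Cfsg.IsIrrCharacter G χ2)
    (h3 : Cfsg.IsIrrCharacter G χ3) (h4 : Cfsg.IsIrrCharacter G χ4)
    (hd1 : χ1 1 = dp) (hd2 : χ2 1 = dp) (hd3 : χ3 1 = dm) (hd4 : χ4 1 = dm)
    (h12 : χ1 ≠ χ2) (h34 : χ3 ≠ χ4) (hpm : dp ≠ dm) (hp1 : dp ≠ 1) (hm1 : dm ≠ 1)
    (hgp : (dp : ℝ) < gap) (hgm : (dm : ℝ) < gap)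
    (hall : ∀ χ : G → ℂ, Cfsg.IsIrrCharacter G χ → χ 1 ≠ 1 → ‖χ 1‖ < gap →
      χ = χ1 ∨ χ = χ2 ∨ χ = χ3 ∨ χ = χ4) :
    Nat.card {χ : Cfsg.IrrCharacter G // (χ : G → ℂ) 1 = (dp : ℂ)} = 2 ∧
    Nat.card {χ : Cfsg.IrrCharacter G // (χ : G → ℂ) 1 = (dm : ℂ)} = 2 ∧
    ∀ χ : Cfsg.IrrCharacter G, (χ : G → ℂ) 1 ≠ 1 → (χ : G → ℂ) 1 ≠ (dp : ℂ) → (χ : G → ℂ) 1 ≠ (dm : ℂ) →
      gap ≤ ‖(χ : G → ℂ) 1‖ := by
  have hpmC : (dp : ℂ) ≠ (dm : ℂ) := fun h => hpm (by exact_mod_cast h)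
  have hp1C : (dp : ℂ) ≠ 1 := fun h => hp1 (by exact_mod_cast h)
  have hm1C : (dm : ℂ) ≠ 1 := fun h => hm1 (by exact_mod_cast h)
  have hnp : ‖(dp : ℂ)‖ < gap := by
    rw [Complex.norm_natCast]; exact hgp
  have hnm : ‖(dm : ℂ)‖ < gap := by
    rw [Complex.norm_natCast]; exact hgm
  refine ⟨?_, ?_, ?_⟩
  · refine card_subtype_eq_two _ ⟨χ1, h1⟩ ⟨χ2, h2⟩ (fun h => h12 (congrArg Subtype.val h)) hd1 hd2 ?_
    intro χ hχ
    have hχ' : (χ : G → ℂ) 1 = (dp : ℂ) := hχ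
    rcases hall χ.1 χ.2 (by rw [hχ']; exact hp1C) (by rw [hχ']; exact hnp) with h | h | h | h
    · exact Or.inl (Subtype.ext h)
    · exact Or.inr (Subtype.ext h)
    · exfalso; rw [h, hd3] at hχ'; exact hpmC hχ'.symm
    · exfalso; rw [h, hd4] at hχ'; exact hpmC hχ'.symm
  · refine card_subtype_eq_two _ ⟨χ3, h3⟩ ⟨χ4, h4⟩ (fun h => h34 (congrArg Subtype.val h)) hd3 hd4 ?_
    intro χ hχ
    have hχ' : (χ : G → ℂ) 1 = (dm : ℂ) := hχ
    rcases hall χ.1 χ.2 (by rw [hχ']; exact hm1C) (by rw [hχ']; exact hnm) with h | h | h | h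
    · exfalso; rw [h, hd1] at hχ'; exact hpmC hχ'
    · exfalso; rw [h, hd2] at hχ'; exact hpmC hχ'
    · exact Or.inl (Subtype.ext h)
    · exact Or.inr (Subtype.ext h)
  · intro χ hχ1 hχp hχm
    by_contra hlt
    push Not at hlt
    rcases hall χ.1 χ.2 hχ1 hlt with h | h | h | h
    · exact hχp (by rw [h, hd1])
    · exact hχp (by rw [h, hd2])
    · exact hχm (by rw [h, hd3])
    · exact hχm (by rw [h, hd4])

end Cfsg.Agent.Lib.H8.TZ
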