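/-
S2524 top layer (helper8): interface file for **Theorem U** (architect helper19, route U).
`thmU` is helper18's `H18.UThm.thmU` (Steps 1 + 2 = helper18 U-STEP12, Steps 3-5 = helper20 `H20.ThmU.thmU_of_T`,
(r1)-(r4) helper25/helper23, (HSCAL) helper19, group facts helper11/helper2).
-/
import Cfsg.Agent.Lib.H8.TZClass
import Cfsg.Agent.Lib.H18.UThm

set_option autoImplicit false
set_option linter.unusedSectionVars false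

namespace Cfsg.Agent.Lib.H8.TZ

open Matrix Module Cfsg.Agent.Lib.H12.LS2 Cfsg.Agent.Lib.H5.LS2 Cfsg.Agent.Lib.H20.Weil Cfsg.Agent.Lib.H4

variable {F : Type*} [Field F] [Fintype F] {n : ℕ}

theorem thmU {m : ℕ} (hm : 1 ≤ m) (h2 : (2 : F) ≠ 0) [Fintype (Symm (m + 1) F)]
    (χ : AddChar F ℂ) (Φ : Symm (m + 1) F ≃ AddChar (Symm (m + 1) F) ℂ)
    (hΦ : ∀ Y X : Symm (m + 1) F, Φ Y X =
      χ (Matrix.trace ((X : Matrix (Fin (m + 1)) (Fin (m + 1)) F) * (Y : Matrix (Fin (m + 1)) (Fin (m + 1)) F))))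
    {W V : Type*} [AddCommGroup W] [Module ℂ W] [FiniteDimensional ℂ W]
    [AddCommGroup V] [Module ℂ V] [FiniteDimensional ℂ V]
    (ρW : Matrix.symplecticGroup (Fin (m + 1)) F →* Module.End ℂ W)
    (ρV : Matrix.symplecticGroup (Fin (m + 1)) F →* Module.End ℂ V)
    (hW1 : R1 Φ ρW) (hV1 : R1 Φ ρV)
    (hWirr : ∀ U : Submodule ℂ W, (∀ g, ∀ w ∈ U, ρW g w ∈ U) → U = ⊥ ∨ U = ⊤)
    (hw2 : ∀ Y : Symm (m + 1) F, finrank ℂ (LinearMap.range (PY Φ ρW Y)) ≤ 1)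
    (hw3 : ∀ Y Y' : Symm (m + 1) F, Y ≠ 0 → Y' ≠ 0 → PY Φ ρW Y ≠ 0 → PY Φ ρW Y' ≠ 0 → Y' ∈ orbS Y)
    (hv1 : ∀ v : V, (∀ g, ρV g v = v) → v = 0)
    (a : F) (ha : a ≠ 0) (w0 : W) (m0 : V) (hw0 : w0 ≠ 0) (hm0 : m0 ≠ 0)
    (hw0Y : ∀ X, ρW (tEl X) w0 = Φ (Y0 (Fin.last m) a) X • w0)
    (hm0Y : ∀ X, ρV (tEl X) m0 = Φ (Y0 (Fin.last m) a) X • m0)
    (η : ℂ) (hwη : ρW (lEl (m1g (Fin.last m))) w0 = η • w0) (hmη : ρV (lEl (m1g (Fin.last m))) m0 = η • m0) :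
    ∃ Θ : W →ₗ[ℂ] V, Θ ≠ 0 ∧ ∀ g, Θ ∘ₗ ρW g = ρV g ∘ₗ Θ :=
  Cfsg.Agent.Lib.H18.UThm.thmU hm h2 χ Φ hΦ ρW ρV hW1 hV1 hWirr hw2 hw3 hv1 a ha w0 m0 hw0 hm0 hw0Y hm0Y η hwη hmη

end Cfsg.Agent.Lib.H8.TZ
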