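/-
S2524 (Tiep-Zalesskii gap for `Sp_2n(q)`, `q` odd; architect helper19, top layer helper8).
CLASSIFICATION: every irreducible non-trivial module with the rank-one property has the character of one of the four modules
`W⁺, W⁺ ∘ τ, W⁻, W⁻ ∘ τ`.
-/
import Cfsg.Agent.Lib.H8.TZU

set_option autoImplicit false
set_option linter.unusedSectionVars false

namespace Cfsg.Agent.Lib.H8.TZ

open Matrix Module Cfsg.Agent.Lib.H12.LS2 Cfsg.Agent.Lib.H5.LS2 Cfsg.Agent.Lib.H20.Weil Cfsg.Agent.Lib.H4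

variable {F : Type*} [Field F] [Fintype F] {m : ℕ} [Fintype (Symm (m + 1) F)]
  (χ : AddChar F ℂ) (Φ : Symm (m + 1) F ≃ AddChar (Symm (m + 1) F) ℂ)
  (hΦ : ∀ Y X : Symm (m + 1) F, Φ Y X =
    χ (Matrix.trace ((X : Matrix (Fin (m + 1)) (Fin (m + 1)) F) * (Y : Matrix (Fin (m + 1)) (Fin (m + 1)) F))))

include hΦ in
/-- a non-trivial module with the rank-one property has some `a E_**`, `a ≠ 0`, in its support -/
theorem exists_Y0_support (h2 : (2 : F) ≠ 0) (hm : 1 ≤ m)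
    {V : Type*} [AddCommGroup V] [Module ℂ V] [FiniteDimensional ℂ V]
    (ρ : Matrix.symplecticGroup (Fin (m + 1)) F →* Module.End ℂ V)
    (hρ : ∃ g, ρ g ≠ 1) (hR1 : R1 Φ ρ) (star : Fin (m + 1)) :
    ∃ a : F, a ≠ 0 ∧ PY Φ ρ (Y0 star a) ≠ 0 := by
  obtain ⟨Y1, hY1, hPY1⟩ := exists_support χ Φ hΦ ρ h2 (by omega) hρ
  obtain ⟨c, v, hcv⟩ := hR1 Y1 hPY1
  have hc : c ≠ 0 := by
    rintro rfl
    apply hY1
    apply Subtype.ext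
    rw [hcv, zero_smul]
    rfl
  have hv : v ≠ 0 := by
    rintro rfl
    apply hY1
    apply Subtype.ext
    rw [hcv]
    simp
  exact ⟨c, hc, PY_ne_zero_of_mem_orbS χ Φ hΦ ρ (rank_one_mem_orbS star c v hv Y1 hcv) hPY1⟩

include hΦ in
/-- the eta-argument for one pair `(W⁺, W⁻)` -/
theorem step (h2 : (2 : F) ≠ 0) (hm : 1 ≤ m)
    {WP WM V : Type*} [AddCommGroup WP] [Module ℂ WP] [FiniteDimensional ℂ WP]
    [AddCommGroup WM] [Module ℂ WM] [FiniteDimensional ℂ WM]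
    [AddCommGroup V] [Module ℂ V] [FiniteDimensional ℂ V]
    (ρP : Matrix.symplecticGroup (Fin (m + 1)) F →* Module.End ℂ WP)
    (ρM : Matrix.symplecticGroup (Fin (m + 1)) F →* Module.End ℂ WM)
    (ρV : Matrix.symplecticGroup (Fin (m + 1)) F →* Module.End ℂ V)
    (hPirr : ∀ U : Submodule ℂ WP, (∀ g, ∀ w ∈ U, ρP g w ∈ U) → U = ⊥ ∨ U = ⊤)
    (hMirr : ∀ U : Submodule ℂ WM, (∀ g, ∀ w ∈ U, ρM g w ∈ U) → U = ⊥ ∨ U = ⊤)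
    (hVirr : ∀ U : Submodule ℂ V, (∀ g, ∀ w ∈ U, ρV g w ∈ U) → U = ⊥ ∨ U = ⊤)
    (hMnt : ∃ g, ρM g ≠ 1) (hVnt : ∃ g, ρV g ≠ 1)
    (hP1 : R1 Φ ρP) (hM1 : R1 Φ ρM) (hV1 : R1 Φ ρV)
    (hPw2 : ∀ Y : Symm (m + 1) F, finrank ℂ (LinearMap.range (PY Φ ρP Y)) ≤ 1)
    (hMw2 : ∀ Y : Symm (m + 1) F, finrank ℂ (LinearMap.range (PY Φ ρM Y)) ≤ 1)
    (hPw3 : ∀ Y Y' : Symm (m + 1) F, Y ≠ 0 → Y' ≠ 0 → PY Φ ρP Y ≠ 0 → PY Φ ρP Y' ≠ 0 → Y' ∈ orbS Y)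
    (hMw3 : ∀ Y Y' : Symm (m + 1) F, Y ≠ 0 → Y' ≠ 0 → PY Φ ρM Y ≠ 0 → PY Φ ρM Y' ≠ 0 → Y' ∈ orbS Y)
    (hdim : finrank ℂ WP ≠ finrank ℂ WM)
    (a : F) (ha : a ≠ 0)
    (hPa : PY Φ ρP (Y0 (Fin.last m) a) ≠ 0) (hMa : PY Φ ρM (Y0 (Fin.last m) a) ≠ 0)
    (hVa : PY Φ ρV (Y0 (Fin.last m) a) ≠ 0) :
    (∀ g, LinearMap.trace ℂ V (ρV g) = LinearMap.trace ℂ WP (ρP g)) ∨
      (∀ g, LinearMap.trace ℂ V (ρV g) = LinearMap.trace ℂ WM (ρM g)) := by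
  obtain ⟨wP, hwP0, hwPY, ηP, hηP, hwPη⟩ := exists_eigvec χ Φ hΦ ρP (Fin.last m) a hPa
  obtain ⟨wM, hwM0, hwMY, ηM, hηM, hwMη⟩ := exists_eigvec χ Φ hΦ ρM (Fin.last m) a hMa
  obtain ⟨m0, hm00, hm0Y, η, hη, hm0η⟩ := exists_eigvec χ Φ hΦ ρV (Fin.last m) a hVa
  have hMfix := no_fixed_of_irr ρM hMirr hMnt
  have hVfix := no_fixed_of_irr ρV hVirr hVnt
  have hne : ηP ≠ ηM := by
    intro h
    rw [← h] at hwMη
    obtain ⟨Θ, hΘ0, hΘ⟩ := thmU hm h2 χ Φ hΦ ρP ρM hP1 hM1 hPirr hPw2 hPw3 hMfix a ha wP wM hwP0 hwM0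
      hwPY hwMY ηP hwPη hwMη
    exact hdim (finrank_eq_of_bijective Θ (bijective_of_irr ρP ρM hPirr hMirr Θ hΘ0 hΘ))
  have hcase : η = ηP ∨ η = ηM := by
    rcases hηP with hP | hP
    · rcases hηM with hM | hM
      · exact absurd (hP.trans hM.symm) hne
      · rcases hη with h | h
        · exact Or.inl (h.trans hP.symm)
        · exact Or.inr (h.trans hM.symm)
    · rcases hηM with hM | hM
      · rcases hη with h | h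
        · exact Or.inr (h.trans hM.symm)
        · exact Or.inl (h.trans hP.symm)
      · exact absurd (hP.trans hM.symm) hne
  rcases hcase with h | h
  · left
    rw [h] at hm0η
    obtain ⟨Θ, hΘ0, hΘ⟩ := thmU hm h2 χ Φ hΦ ρP ρV hP1 hV1 hPirr hPw2 hPw3 hVfix a ha wP m0 hwP0 hm00
      hwPY hm0Y ηP hwPη hm0η
    exact trace_eq_of_bijective ρP ρV Θ (bijective_of_irr ρP ρV hPirr hVirr Θ hΘ0 hΘ) hΘ
  · right
    rw [h] at hm0η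
    obtain ⟨Θ, hΘ0, hΘ⟩ := thmU hm h2 χ Φ hΦ ρM ρV hM1 hV1 hMirr hMw2 hMw3 hVfix a ha wM m0 hwM0 hm00
      hwMY hm0Y ηM hwMη hm0η
    exact trace_eq_of_bijective ρM ρV Θ (bijective_of_irr ρM ρV hMirr hVirr Θ hΘ0 hΘ) hΘ

include hΦ in
/-- **CLASSIFICATION** -/
theorem classify (h2 : (2 : F) ≠ 0) (hm : 1 ≤ m) (δ : Fˣ) (hδ : ¬ IsSquare (δ : F))
    {WP WM V : Type*} [AddCommGroup WP] [Module ℂ WP] [FiniteDimensional ℂ WP]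
    [AddCommGroup WM] [Module ℂ WM] [FiniteDimensional ℂ WM]
    [AddCommGroup V] [Module ℂ V] [FiniteDimensional ℂ V]
    (ρP : Matrix.symplecticGroup (Fin (m + 1)) F →* Module.End ℂ WP)
    (ρM : Matrix.symplecticGroup (Fin (m + 1)) F →* Module.End ℂ WM)
    (ρV : Matrix.symplecticGroup (Fin (m + 1)) F →* Module.End ℂ V)
    (hPirr : ∀ U : Submodule ℂ WP, (∀ g, ∀ w ∈ U, ρP g w ∈ U) → U = ⊥ ∨ U = ⊤)
    (hMirr : ∀ U : Submodule ℂ WM, (∀ g, ∀ w ∈ U, ρM g w ∈ U) → U = ⊥ ∨ U = ⊤)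
    (hVirr : ∀ U : Submodule ℂ V, (∀ g, ∀ w ∈ U, ρV g w ∈ U) → U = ⊥ ∨ U = ⊤)
    (hPnt : ∃ g, ρP g ≠ 1) (hMnt : ∃ g, ρM g ≠ 1) (hVnt : ∃ g, ρV g ≠ 1)
    (hPdim : 2 * finrank ℂ WP = Fintype.card F ^ (m + 1) + 1)
    (hMdim : 2 * finrank ℂ WM + 1 = Fintype.card F ^ (m + 1))
    (hV1 : R1 Φ ρV) :
    (∀ g, LinearMap.trace ℂ V (ρV g) = LinearMap.trace ℂ WP (ρP g)) ∨
    (∀ g, LinearMap.trace ℂ V (ρV g) = LinearMap.trace ℂ WP (twist ρP δ g)) ∨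
    (∀ g, LinearMap.trace ℂ V (ρV g) = LinearMap.trace ℂ WM (ρM g)) ∨
    (∀ g, LinearMap.trace ℂ V (ρV g) = LinearMap.trace ℂ WM (twist ρM δ g)) := by
  have hn : 2 ≤ m + 1 := by omega
  have hMdim' : 2 * finrank ℂ WM ≤ Fintype.card F ^ (m + 1) + 1 := by omega
  obtain ⟨hP1, hPw2, hPw3, bP, hbP, hPb⟩ :=
    dim_package χ Φ hΦ ρP h2 hn hPnt hPdim.le (Fin.last m)
  obtain ⟨hP1', hPw2', hPw3', -⟩ :=
    dim_package χ Φ hΦ (twist ρP δ) h2 hn (twist_nontrivial ρP δ hPnt) hPdim.le (Fin.last m)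
  obtain ⟨hM1, hMw2, hMw3, bM, hbM, hMb⟩ :=
    dim_package χ Φ hΦ ρM h2 hn hMnt hMdim' (Fin.last m)
  obtain ⟨hM1', hMw2', hMw3', -⟩ :=
    dim_package χ Φ hΦ (twist ρM δ) h2 hn (twist_nontrivial ρM δ hMnt) hMdim' (Fin.last m)
  obtain ⟨a, ha, hVa⟩ := exists_Y0_support χ Φ hΦ h2 hm ρV hVnt hV1 (Fin.last m)
  have hdim : finrank ℂ WP ≠ finrank ℂ WM := by omega
  have hPirr' := twist_irr ρP δ hPirr
  have hMirr' := twist_irr ρM δ hMirr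
  have hMnt' := twist_nontrivial ρM δ hMnt
  rcases supp_dichotomy χ Φ hΦ ρP h2 (Fin.last m) δ hδ bP hbP hPb a ha with hPa | hPa
  · rcases supp_dichotomy χ Φ hΦ ρM h2 (Fin.last m) δ hδ bM hbM hMb a ha with hMa | hMa
    · rcases step χ Φ hΦ h2 hm ρP ρM ρV hPirr hMirr hVirr hMnt hVnt hP1 hM1 hV1 hPw2 hMw2 hPw3 hMw3 hdim
        a ha hPa hMa hVa with h | h
      · exact Or.inl h
      · exact Or.inr (Or.inr (Or.inl h))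
    · rcases step χ Φ hΦ h2 hm ρP (twist ρM δ) ρV hPirr hMirr' hVirr hMnt' hVnt hP1 hM1' hV1 hPw2 hMw2' hPw3
        hMw3' hdim a ha hPa hMa hVa with h | h
      · exact Or.inl h
      · exact Or.inr (Or.inr (Or.inr h))
  · rcases supp_dichotomy χ Φ hΦ ρM h2 (Fin.last m) δ hδ bM hbM hMb a ha with hMa | hMa
    · rcases step χ Φ hΦ h2 hm (twist ρP δ) ρM ρV hPirr' hMirr hVirr hMnt hVnt hP1' hM1 hV1 hPw2' hMw2 hPw3'
        hMw3 hdim a ha hPa hMa hVa with h | h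
      · exact Or.inr (Or.inl h)
      · exact Or.inr (Or.inr (Or.inl h))
    · rcases step χ Φ hΦ h2 hm (twist ρP δ) (twist ρM δ) ρV hPirr' hMirr' hVirr hMnt' hVnt hP1' hM1' hV1 hPw2'
        hMw2' hPw3' hMw3' hdim a ha hPa hMa hVa with h | h
      · exact Or.inr (Or.inl h)
      · exact Or.inr (Or.inr (Or.inr h))

end Cfsg.Agent.Lib.H8.TZ
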