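/-
S2524 (Tiep-Zalesskii gap for `Sp_2n(q)`, `q` odd; architect helper19, top layer helper8).  FINAL ASSEMBLY of the statement from
the classification (`TZMain.classify`, i.e. Theorem U), the Weil components (helper20 `weil_components`), the twist (helper20 `spTau`),
(DIM) and the abstract count (`TZGlue.glue`).
-/
import Cfsg.Agent.Lib.H8.TZMain
import Cfsg.Agent.Lib.H8.TZGlue
import Cfsg.Agent.Lib.H20.WeilComp
import Cfsg.Agent.Lib.L0.CharDecomp

set_option autoImplicit false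
set_option linter.unusedSectionVars false

namespace Cfsg.Agent.Lib.H8.TZ

open Matrix Module Cfsg.Agent.Lib.H12.LS2 Cfsg.Agent.Lib.H5.LS2 Cfsg.Agent.Lib.H20.Weil Cfsg.Agent.Lib.H4

/-- an irreducible representation of dimension `≥ 2` is non-trivial -/
theorem nontrivial_of_irr {G : Type*} [Group G] {V : Type*} [AddCommGroup V] [Module ℂ V] [FiniteDimensional ℂ V]
    (ρ : G →* Module.End ℂ V)
    (hirr : ∀ U : Submodule ℂ V, (∀ g, ∀ w ∈ U, ρ g w ∈ U) → U = ⊥ ∨ U = ⊤)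
    (hd : 2 ≤ finrank ℂ V) : ∃ g, ρ g ≠ 1 := by
  by_contra hcon
  push Not at hcon
  have hpos : 0 < finrank ℂ V := by omega
  obtain ⟨v, hv⟩ := (finrank_pos_iff_exists_ne_zero (R := ℂ)).1 hpos
  rcases hirr (Submodule.span ℂ {v}) (fun g w hw => by rw [hcon g]; exact hw) with h | h
  · apply hv
    have h1 : v ∈ Submodule.span ℂ {v} := Submodule.subset_span rfl
    rw [h] at h1
    exact (Submodule.mem_bot ℂ).1 h1
  · have h9 : finrank ℂ (Submodule.span ℂ {v}) = 1 := finrank_span_singleton hv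
    rw [h, finrank_top] at h9
    omega

/-- the degree of the character -/
theorem trace_one_eq {G : Type*} [Group G] {V : Type*} [AddCommGroup V] [Module ℂ V] [FiniteDimensional ℂ V]
    (ρ : G →* Module.End ℂ V) : LinearMap.trace ℂ V (ρ 1) = (finrank ℂ V : ℂ) := by
  rw [map_one, LinearMap.trace_one]

variable {F : Type*} [Field F] [Fintype F]

/-- real form of the gap inequality -/
theorem lt_gap_iff (q Q k : ℕ) :
    ((k : ℝ) < ((Q - 1 : ℕ) : ℝ) * ((Q - q : ℕ) : ℝ) / (2 * ((q : ℕ) + 1 : ℝ))) ↔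
      2 * (q + 1) * k < (Q - 1) * (Q - q) := by
  have hpos : (0 : ℝ) < 2 * ((q : ℕ) + 1 : ℝ) := by positivity
  rw [lt_div_iff₀ hpos]
  constructor
  · intro h
    have h1 : ((2 * (q + 1) * k : ℕ) : ℝ) < (((Q - 1) * (Q - q) : ℕ) : ℝ) := by
      push_cast
      linarith
    exact_mod_cast h1
  · intro h
    have h1 : ((2 * (q + 1) * k : ℕ) : ℝ) < (((Q - 1) * (Q - q) : ℕ) : ℝ) := by exact_mod_cast h
    push_cast at h1
    linarith

/-- **S2524** -/
theorem main (hodd : Odd (Fintype.card F)) (n : ℕ) (hn : 2 ≤ n) :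
    Nat.card {χ : Cfsg.IrrCharacter ↥(Matrix.symplecticGroup (Fin n) F) // (χ : ↥(Matrix.symplecticGroup (Fin n) F) → ℂ) 1 = (((Fintype.card F) ^ n + 1 : ℕ) : ℂ) / 2} = 2 ∧
    Nat.card {χ : Cfsg.IrrCharacter ↥(Matrix.symplecticGroup (Fin n) F) // (χ : ↥(Matrix.symplecticGroup (Fin n) F) → ℂ) 1 = (((Fintype.card F) ^ n - 1 : ℕ) : ℂ) / 2} = 2 ∧
    ∀ χ : Cfsg.IrrCharacter ↥(Matrix.symplecticGroup (Fin n) F),
      (χ : ↥(Matrix.symplecticGroup (Fin n) F) → ℂ) 1 ≠ 1 →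
      (χ : ↥(Matrix.symplecticGroup (Fin n) F) → ℂ) 1 ≠ (((Fintype.card F) ^ n + 1 : ℕ) : ℂ) / 2 →
      (χ : ↥(Matrix.symplecticGroup (Fin n) F) → ℂ) 1 ≠ (((Fintype.card F) ^ n - 1 : ℕ) : ℂ) / 2 →
      (((Fintype.card F) ^ n - 1 : ℕ) : ℝ) * (((Fintype.card F) ^ n - Fintype.card F : ℕ) : ℝ) / (2 * ((Fintype.card F : ℕ) + 1 : ℝ)) ≤ ‖(χ : ↥(Matrix.symplecticGroup (Fin n) F) → ℂ) 1‖ := by
  classical
  have h2 : (2 : F) ≠ 0 := by
    intro h
    have h3 : ringChar F = 2 := CharP.ringChar_of_prime_eq_zero Nat.prime_two (by exact_mod_cast h)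
    have h4 := FiniteField.even_card_of_char_two h3
    have h5 := Nat.odd_iff.1 hodd
    omega
  obtain ⟨m, rfl⟩ : ∃ m, n = m + 1 := ⟨n - 1, by omega⟩
  have hm : 1 ≤ m := by omega
  let _ : Fintype (Symm (m + 1) F) := Fintype.ofFinite _
  obtain ⟨χ, Φ, hΦ⟩ := Cfsg.Agent.Lib.H23.Weil.exists_symm_duality (F := F) h2 (m + 1)
  obtain ⟨ψ, hψ⟩ : ∃ ψ : AddChar F ℂ, ψ ≠ 1 := by
    obtain ⟨ψ, hψ⟩ := (AddChar.exists_apply_ne_zero (α := F) (a := 1)).2 one_ne_zero
    exact ⟨ψ, fun h => hψ (by rw [h]; rfl)⟩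
  obtain ⟨ρf, hρf⟩ := exists_weil_full (F := F) (n := m + 1) h2 ψ hψ
  obtain ⟨Wp, Wm, -, -, hPirr, hMirr, hPI, hMI, hfp, hfm⟩ :=
    weil_components (F := F) (n := m + 1) h2 (by omega) ψ hψ ρf hρf
  obtain ⟨δ0, hδ0⟩ := FiniteField.exists_nonsquare (F := F) (ringChar_ne_two h2)
  have hδ00 : δ0 ≠ 0 := by
    rintro rfl
    exact hδ0 ⟨0, by simp⟩
  set δ : Fˣ := Units.mk0 δ0 hδ00 with hδdef
  have hδ : ¬ IsSquare (δ : F) := hδ0
  set q := Fintype.card F with hq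
  set Q := q ^ (m + 1) with hQ
  have hq3 : 3 ≤ q := three_le_card h2
  have hQQ : q * q ≤ Q := pow_ge_sq (F := F) hn
  have hQ9 : 9 ≤ Q := by nlinarith
  have hqQ : q ≤ Q := by nlinarith
  -- the four representations
  let ρP : Matrix.symplecticGroup (Fin (m + 1)) F →* Module.End ℂ Wp.toSubmodule := Wp.toRepresentation
  let ρM : Matrix.symplecticGroup (Fin (m + 1)) F →* Module.End ℂ Wm.toSubmodule := Wm.toRepresentation
  set dm := finrank ℂ Wm.toSubmodule with hdm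
  set dp := finrank ℂ Wp.toSubmodule with hdp
  have hPdim : 2 * dp = Q + 1 := by omega
  have hMdim : 2 * dm + 1 = Q := hfm
  have hPnt : ∃ g, ρP g ≠ 1 := nontrivial_of_irr ρP hPirr (by omega)
  have hMnt : ∃ g, ρM g ≠ 1 := nontrivial_of_irr ρM hMirr (by omega)
  have hPirr' := twist_irr ρP δ hPirr
  have hMirr' := twist_irr ρM δ hMirr
  have hnP : Nontrivial Wp.toSubmodule := Module.nontrivial_of_finrank_pos (R := ℂ) (by omega)
  have hnM : Nontrivial Wm.toSubmodule := Module.nontrivial_of_finrank_pos (R := ℂ) (by omega)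
  have hPI' : Representation.IsIrreducible (twist ρP δ) := isIrreducible_of_forall _ hnP hPirr'
  have hMI' : Representation.IsIrreducible (twist ρM δ) := isIrreducible_of_forall _ hnM hMirr'
  have hPIa : Representation.IsIrreducible ρP := hPI
  have hMIa : Representation.IsIrreducible ρM := hMI
  have hc1 : Cfsg.IsIrrCharacter _ (fun g => LinearMap.trace ℂ _ (ρP g)) :=
    Cfsg.Agent.Lib.L0.isIrrCharacter_of_irr ρP
  have hc2 : Cfsg.IsIrrCharacter _ (fun g => LinearMap.trace ℂ _ (twist ρP δ g)) :=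
    Cfsg.Agent.Lib.L0.isIrrCharacter_of_irr (twist ρP δ)
  have hc3 : Cfsg.IsIrrCharacter _ (fun g => LinearMap.trace ℂ _ (ρM g)) :=
    Cfsg.Agent.Lib.L0.isIrrCharacter_of_irr ρM
  have hc4 : Cfsg.IsIrrCharacter _ (fun g => LinearMap.trace ℂ _ (twist ρM δ g)) :=
    Cfsg.Agent.Lib.L0.isIrrCharacter_of_irr (twist ρM δ)
  have hga := gap_arith q Q hq3 hQQ
  have e1 : (((Q + 1 : ℕ) : ℂ)) / 2 = (dp : ℂ) := by
    rw [← hPdim]; push_cast; ring
  have e2 : (((Q - 1 : ℕ) : ℂ)) / 2 = (dm : ℂ) := by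
    have : Q - 1 = 2 * dm := by omega
    rw [this]; push_cast; ring
  rw [e1, e2]
  have hdpm : dp = dm + 1 := hfp
  have hdm4 : 4 ≤ dm := by omega
  have hn1 : dp ≠ dm := by omega
  have hn2 : dp ≠ 1 := by omega
  have hn3 : dm ≠ 1 := by omega
  have hMle : 2 * dm ≤ Q + 1 := by omega
  have hMdim2 : 2 * dm + 1 = Q := hfm
  refine glue dp dm _ _ _ _ _ hc1 hc2 hc3 hc4 (trace_one_eq ρP) (trace_one_eq (twist ρP δ)) (trace_one_eq ρM)
    (trace_one_eq (twist ρM δ)) ?_ ?_ hn1 hn2 hn3 ?_ ?_ ?_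
  · intro h
    exact trace_twist_ne χ Φ hΦ ρP h2 hn (Fin.last m) δ hδ hPnt hPdim.le (fun g => congrFun h g)
  · intro h
    exact trace_twist_ne χ Φ hΦ ρM h2 hn (Fin.last m) δ hδ hMnt hMle (fun g => congrFun h g)
  · rw [lt_gap_iff]
    calc 2 * (q + 1) * dp = (q + 1) * (2 * dp) := by ring
      _ = (q + 1) * (Q + 1) := by rw [hPdim]
      _ < (Q - 1) * (Q - q) := hga
  · rw [lt_gap_iff]
    calc 2 * (q + 1) * dm ≤ 2 * (q + 1) * dp := Nat.mul_le_mul_left _ (by omega)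
      _ = (q + 1) * (2 * dp) := by ring
      _ = (q + 1) * (Q + 1) := by rw [hPdim]
      _ < (Q - 1) * (Q - q) := hga
  · intro χ' hχ' hχ1 hlt
    obtain ⟨k, ρ, hirr, rfl⟩ := hχ'
    have hk : ρ.character 1 = (k : ℂ) := by
      rw [Representation.char_one, Module.finrank_fin_fun]
    rw [hk] at hχ1 hlt
    rw [Complex.norm_natCast, lt_gap_iff] at hlt
    have hk1 : k ≠ 1 := fun h => hχ1 (by rw [h]; norm_num)
    have hk0 : k ≠ 0 := by
      rintro rfl
      obtain ⟨x, y, hxy⟩ := hirr.toNontrivial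
      apply hxy
      apply Subrepresentation.toSubmodule_injective
      exact Subsingleton.elim _ _
    let ρV : Matrix.symplecticGroup (Fin (m + 1)) F →* Module.End ℂ (Fin k → ℂ) := ρ
    have hVirr : ∀ U : Submodule ℂ (Fin k → ℂ), (∀ g, ∀ w ∈ U, ρV g w ∈ U) → U = ⊥ ∨ U = ⊤ :=
      forall_of_isIrreducible ρ hirr
    have hVnt : ∃ g, ρV g ≠ 1 := nontrivial_of_irr ρV hVirr (by rw [Module.finrank_fin_fun]; omega)
    have hV1 : R1 Φ ρV := by
      apply r1_of_lt χ Φ hΦ ρV h2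
      rw [Module.finrank_fin_fun]
      exact hlt
    have hcl := classify χ Φ hΦ h2 hm δ hδ ρP ρM ρV hPirr hMirr hVirr hPnt hMnt hVnt hPdim hMdim2 hV1
    rcases hcl with h | h | h | h
    · exact Or.inl (funext h)
    · exact Or.inr (Or.inl (funext h))
    · exact Or.inr (Or.inr (Or.inl (funext h)))
    · exact Or.inr (Or.inr (Or.inr (funext h)))

end Cfsg.Agent.Lib.H8.TZ
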