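import Mathlib
import Cfsg.Agent.Lib.H8.MinSimpleCN

/-!
# Three-step groups with respect to an arbitrary natural number (helper8 library)
-/

set_option autoImplicit false
open Cfsg
open scoped commutatorElement

universe u

namespace Cfsg.Agent.Lib.H8

/-- elements of `O_p(X)` have order dividing a power of `p`, for an arbitrary natural number `p` -/
theorem pCore_pow_general (p : ℕ) {X : Type*} [Group X] {x : X} (hx : x ∈ Cfsg.pCore p X) :
    ∃ k : ℕ, x ^ p ^ k = 1 := by
  have hx' : x ∈ sSup {N : Subgroup X | N.Normal ∧ IsPGroup p N} := hx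
  have hne : {N : Subgroup X | N.Normal ∧ IsPGroup p N}.Nonempty :=
    ⟨⊥, Subgroup.normal_bot, IsPGroup.of_bot⟩
  have hdir : DirectedOn (· ≤ ·) {N : Subgroup X | N.Normal ∧ IsPGroup p N} := by
    rintro N₁ ⟨hn1, hp1⟩ N₂ ⟨hn2, hp2⟩
    haveI := hn1
    haveI := hn2
    exact ⟨N₁ ⊔ N₂, ⟨inferInstance, hp1.to_sup_of_normal_right hp2⟩, le_sup_left, le_sup_right⟩
  rw [Subgroup.mem_sSup_of_directedOn hne hdir] at hx'
  obtain ⟨N, ⟨-, hp⟩, hxN⟩ := hx'
  obtain ⟨k, hk⟩ := hp ⟨x, hxN⟩
  exact ⟨k, by simpa using congrArg Subtype.val hk⟩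

/-- In a three-step group `O_p` contains its centralizer (arbitrary natural number `p`). -/
theorem threeStep_centralizer_le_general {X : Type*} [Group X] [Finite X] (p : ℕ)
    (h3 : Cfsg.IsThreeStepGroup p X) :
    Subgroup.centralizer (Cfsg.pCore p X : Set X) ≤ Cfsg.pCore p X := by
  obtain ⟨h1, A, hA1, hAcyc, hAodd, hAcop, hLn, hLtop, hidx, hfpf, hv⟩ := h3
  haveI hP₀n : (Cfsg.pCore p X).Normal := Cfsg.Agent.Lib.H1.pCore_normal p X
  obtain ⟨a₀, ha₀A, ha₀1⟩ : ∃ a ∈ A, a ≠ 1 := by
    rw [Ne, Subgroup.eq_bot_iff_forall] at hA1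
    push Not at hA1
    exact hA1
  -- elements of `L ∩ C(P₀)` lie in `P₀`
  have hclaim : ∀ d, d ∈ Cfsg.pCore p X ⊔ A → d ∈ Subgroup.centralizer (Cfsg.pCore p X : Set X) →
      d ∈ Cfsg.pCore p X := by
    intro d hdL hdC
    rw [← SetLike.mem_coe, Subgroup.normal_mul] at hdL
    obtain ⟨y, hy, a', ha', hya⟩ := Set.mem_mul.mp hdL
    obtain ⟨k, hk⟩ := pCore_pow_general p hy
    have hdy : Commute y⁻¹ d := by
      have := (Subgroup.mem_centralizer_iff.mp hdC) y⁻¹ (inv_mem hy)
      exact this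
    have ha'e : a' = y⁻¹ * d := by rw [← hya]; group
    have hpow : a' ^ p ^ k = d ^ p ^ k := by
      rw [ha'e, hdy.mul_pow, inv_pow, hk, inv_one, one_mul]
    have hpowC : a' ^ p ^ k ∈ Subgroup.centralizer (Cfsg.pCore p X : Set X) := by
      rw [hpow]; exact pow_mem hdC _
    have hpow1 : a' ^ p ^ k = 1 := by
      by_contra hne
      have h2 := hfpf _ (pow_mem ha' _) hne
      apply h1
      rw [eq_bot_iff, ← h2]
      intro x hx
      refine ⟨hx, ?_⟩
      show x ∈ Subgroup.centralizer {a' ^ p ^ k}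
      rw [mem_centralizer_singleton']
      exact ((Subgroup.mem_centralizer_iff.mp hpowC) x hx).symm
    have hord : orderOf a' ∣ p ^ k := orderOf_dvd_of_pow_eq_one hpow1
    have hord2 : orderOf a' ∣ Nat.card A := by
      have := orderOf_dvd_natCard (⟨a', ha'⟩ : A)
      rwa [Subgroup.orderOf_mk] at this
    have hcop : (Nat.card A).Coprime (p ^ k) := Nat.Coprime.pow_right k hAcop
    have ha'1 : a' = 1 := orderOf_eq_one_iff.mp (Nat.eq_one_of_dvd_coprimes hcop hord2 hord)
    rw [← hya, ha'1, mul_one]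
    exact hy
  intro c hc
  by_cases hcL : c ∈ Cfsg.pCore p X ⊔ A
  · exact hclaim c hcL hc
  · exfalso
    apply hv c hcL a₀ ha₀A ha₀1
    have hCn : (Subgroup.centralizer (Cfsg.pCore p X : Set X)).Normal := Subgroup.normal_centralizer
    apply hclaim
    · have h2 : c * a₀ * c⁻¹ ∈ Cfsg.pCore p X ⊔ A :=
        hLn.conj_mem a₀ ((le_sup_right : A ≤ _) ha₀A) c
      exact mul_mem h2 (inv_mem ((le_sup_right : A ≤ _) ha₀A))
    · have h2 : a₀ * c⁻¹ * a₀⁻¹ ∈ Subgroup.centralizer (Cfsg.pCore p X : Set X) :=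
        hCn.conj_mem _ (inv_mem hc) a₀
      have h3 : c * a₀ * c⁻¹ * a₀⁻¹ = c * (a₀ * c⁻¹ * a₀⁻¹) := by group
      rw [h3]
      exact mul_mem hc h2

/-- all prime divisors of `m` divide `p` implies `m ∣ p ^ m` -/
theorem dvd_pow_of_prime_dvd {m p : ℕ} (hm : m ≠ 0) (h : ∀ q : ℕ, q.Prime → q ∣ m → q ∣ p) :
    m ∣ p ^ m := by
  by_cases hp0 : p = 0
  · subst hp0
    rw [zero_pow hm]; exact dvd_zero _
  rw [← Nat.factorization_le_iff_dvd hm (pow_ne_zero _ hp0)]
  intro q
  rw [Nat.factorization_pow]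
  by_cases hq : q.Prime ∧ q ∣ m
  · have h1 : 1 ≤ p.factorization q := by
      have := (hq.1.dvd_iff_one_le_factorization hp0).mp (h q hq.1 hq.2)
      exact this
    have h2 : m.factorization q < m := Nat.factorization_lt q hm
    simp only [Finsupp.smul_apply, smul_eq_mul]
    nlinarith
  · have : m.factorization q = 0 := by
      by_cases hqp : q.Prime
      · exact Nat.factorization_eq_zero_of_not_dvd (fun hd => hq ⟨hqp, hd⟩)
      · exact Nat.factorization_eq_zero_of_not_prime m hqp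
    rw [this]; exact Nat.zero_le _

/-- A solvable CN-group of odd order that is a three-step group with respect to an arbitrary natural
number is a three-step group with respect to a prime. -/
theorem threeStep_general_to_prime {X : Type*} [Group X] [Finite X] [Group.IsSolvable X]
    (hCN : Cfsg.IsCNGroup X) (hodd : Odd (Nat.card X)) (p : ℕ) (h3 : Cfsg.IsThreeStepGroup p X) :
    ∃ (r : ℕ) (_ : Fact r.Prime), Cfsg.IsThreeStepGroup r X := by
  have hcent := threeStep_centralizer_le_general p h3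
  obtain ⟨h1, A, hA1, hAcyc, hAodd, hAcop, hLn, hLtop, ⟨m, hm⟩, hfpf, hv⟩ := h3
  haveI hQ₀n : (Cfsg.pCore p X).Normal := Cfsg.Agent.Lib.H1.pCore_normal p X
  obtain ⟨a₀, ha₀A, ha₀1⟩ : ∃ a ∈ A, a ≠ 1 := by
    rw [Ne, Subgroup.eq_bot_iff_forall] at hA1
    push Not at hA1
    exact hA1
  obtain ⟨s, hs⟩ : ∃ s, s ∉ Cfsg.pCore p X ⊔ A := by
    by_contra hcon
    push Not at hcon
    exact hLtop (eq_top_iff.mpr (fun x _ => hcon x))
  rcases cn_solvable_odd_trichotomy hCN hodd with hnil | ⟨hK1, hK2, E, hKE, hFrob, hEfpf, hEcyc⟩ |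
    ⟨r, hr, h3r⟩
  · exfalso
    haveI := hnil
    have h2 := Cfsg.Agent.Lib.H1.normal_inf_center_ne_bot (Cfsg.pCore p X) h1
    rw [Ne, Subgroup.eq_bot_iff_forall] at h2
    push Not at h2
    obtain ⟨z, ⟨hzQ, hzc⟩, hz1⟩ := h2
    have : z ∈ Cfsg.pCore p X ⊓ Subgroup.centralizer ({a₀} : Set X) :=
      ⟨hzQ, mem_centralizer_singleton'.mpr ((Subgroup.mem_center_iff.mp hzc) a₀)⟩
    rw [hfpf a₀ ha₀A ha₀1, Subgroup.mem_bot] at this
    exact hz1 this
  · exfalso
    have hEcomm : ∀ a ∈ E, ∀ b ∈ E, a * b = b * a := by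
      intro a ha b hb
      letI := IsCyclic.commGroup (α := E)
      have := mul_comm (⟨a, ha⟩ : E) ⟨b, hb⟩
      exact congrArg Subtype.val this
    have hsup : Cfsg.fittingHall X ⊔ E = ⊤ := hKE.sup_eq_top
    have hXK : ∀ u v : X, ⁅u, v⁆ ∈ Cfsg.fittingHall X := by
      intro u v
      apply commutator_mem_of_sup_comm (Cfsg.fittingHall X) E hEcomm
      · rw [hsup]; exact Subgroup.mem_top u
      · rw [hsup]; exact Subgroup.mem_top v
    have hKnil : Group.IsNilpotent (Cfsg.fittingHall X) := fittingHall_isNilpotent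
    have hKcop : (Nat.card (Cfsg.fittingHall X)).Coprime (Cfsg.fittingHall X).index :=
      Cfsg.Agent.Lib.H7.fittingHall_coprime
    -- every prime dividing `|K|` divides `p`
    have hprimes : ∀ q : ℕ, q.Prime → q ∣ Nat.card (Cfsg.fittingHall X) → q ∣ p := by
      intro q hq hqK
      by_contra hqp
      haveI : Fact q.Prime := ⟨hq⟩
      obtain ⟨P⟩ : Nonempty (Sylow q X) := inferInstance
      have hqidx : ¬ q ∣ (Cfsg.fittingHall X).index := by
        intro hd
        have := Nat.Coprime.eq_one_of_dvd (Nat.Coprime.coprime_dvd_left hqK hKcop) hd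
        exact hq.one_lt.ne' this
      have hPK : (P : Subgroup X) ≤ Cfsg.fittingHall X := by
        intro x hx
        obtain ⟨i, hi⟩ := P.isPGroup' ⟨x, hx⟩
        have hi' : x ^ q ^ i = 1 := by simpa using congrArg Subtype.val hi
        apply mem_of_pow_mem_of_pow_mem_coprime _ (a := q ^ i) (b := (Cfsg.fittingHall X).index)
        · exact Nat.Coprime.pow_left _ ((Nat.Prime.coprime_iff_not_dvd hq).mpr hqidx)
        · rw [hi']; exact one_mem _
        · exact Subgroup.pow_index_mem _ _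
      have hPn : (P : Subgroup X).Normal :=
        sylow_normal_of_le_normal_nilpotent _ hKnil q P hPK
      have hdisj : Disjoint (P : Subgroup X) (Cfsg.pCore p X) := by
        rw [Subgroup.disjoint_def]
        intro x hxP hxQ
        obtain ⟨i, hi⟩ := P.isPGroup' ⟨x, hxP⟩
        have hi' : x ^ q ^ i = 1 := by simpa using congrArg Subtype.val hi
        obtain ⟨j, hj⟩ := pCore_pow_general p hxQ
        have hcop : Nat.Coprime (q ^ i) (p ^ j) :=
          Nat.Coprime.pow _ _ ((Nat.Prime.coprime_iff_not_dvd hq).mpr hqp)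
        exact orderOf_eq_one_iff.mp (Nat.eq_one_of_dvd_coprimes hcop
          (orderOf_dvd_of_pow_eq_one hi') (orderOf_dvd_of_pow_eq_one hj))
      have hPC : (P : Subgroup X) ≤ Subgroup.centralizer (Cfsg.pCore p X : Set X) := by
        intro x hx
        rw [Subgroup.mem_centralizer_iff]
        intro y hy
        exact ((Subgroup.commute_of_normal_of_disjoint _ _ hPn hQ₀n hdisj x y hx hy).eq).symm
      have hPbot : (P : Subgroup X) = ⊥ := by
        rw [eq_bot_iff]
        intro x hx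
        exact (Subgroup.disjoint_def.mp hdisj) hx (hcent (hPC hx))
      have hdvd : q ∣ Nat.card X := hqK.trans (Subgroup.card_subgroup_dvd_card _)
      have := P.card_eq_multiplicity
      rw [hPbot, Subgroup.card_bot] at this
      have hpos : 0 < (Nat.card X).factorization q :=
        hq.factorization_pos_of_dvd Nat.card_pos.ne' hdvd
      have : q ^ (Nat.card X).factorization q ≠ 1 := by
        intro h
        have := (Nat.pow_eq_one.mp h)
        rcases this with h | h
        · exact hq.one_lt.ne' h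
        · omega
      exact this (by assumption |> Eq.symm)
    have hKle : Cfsg.fittingHall X ≤ Cfsg.pCore p X := by
      apply Cfsg.Agent.Lib.H1.le_pCore inferInstance
      intro k
      have h5 := dvd_pow_of_prime_dvd (Nat.card_pos (α := Cfsg.fittingHall X)).ne' hprimes
      refine ⟨Nat.card (Cfsg.fittingHall X), ?_⟩
      obtain ⟨c, hc⟩ := h5
      rw [hc, pow_mul, pow_card_eq_one', one_pow]
    apply hv s hs a₀ ha₀A ha₀1
    have := hKle (hXK s a₀)
    rwa [commutatorElement_def] at this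
  · exact ⟨r, hr, h3r⟩

end Cfsg.Agent.Lib.H8
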