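import Cfsg.Agent.S0719
import Cfsg.Agent.Lib.H8.GaloisClassFun
import Cfsg.Agent.Lib.L0.CharExceptional
import Cfsg.Agent.Lib.H21.W2P.Defs

/-!
# S0720 (helper21 architect), piece C1: `exists_chi_one`

The constituent `χ₁` of the permutation character of a transitive group of degree `2p` containing the
trivial character of `P = ⟨x⟩` is Galois-stable; hence rank 2, or a non-trivial linear constituent, or `χ₁`
has degree `p` and vanishes on `P ∖ 1`.
-/

set_option autoImplicit false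

namespace Cfsg.Agent.Lib.H8.W2P

open Cfsg Cfsg.Agent.Lib.H4.CentRing Cfsg.Agent.Lib.H21.W2P Cfsg.Agent.Lib.L0
open scoped ComplexConjugate

section perm

variable {L : Type*} [Group L] {Ω : Type*} [MulAction L Ω]

theorem c1_pow_smul_fixed {g : L} {a : Ω} (h : g • a = a) (k : ℕ) : g ^ k • a = a := by
  induction k with
  | zero => rw [pow_zero, one_smul]
  | succ k ih => rw [pow_succ, mul_smul, h, ih]

/-- fixed points of a power coprime to the order -/
theorem c1_fixedBy_pow_coprime (g : L) {m : ℕ} (hm : m.Coprime (orderOf g)) :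
    MulAction.fixedBy Ω (g ^ m) = MulAction.fixedBy Ω g := by
  ext a
  simp only [MulAction.mem_fixedBy]
  constructor
  · intro h
    obtain ⟨k, hk⟩ := exists_pow_eq_self_of_coprime hm
    rw [← hk]
    exact c1_pow_smul_fixed h k
  · intro h
    exact c1_pow_smul_fixed h m

theorem c1_permCh_pow_coprime (g : L) {m : ℕ} (hm : m.Coprime (orderOf g)) :
    permCh L Ω (g ^ m) = permCh L Ω g := by
  show ((Nat.card (MulAction.fixedBy Ω (g ^ m)) : ℕ) : ℂ) = ((Nat.card (MulAction.fixedBy Ω g) : ℕ) : ℂ)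
  rw [c1_fixedBy_pow_coprime g hm]

/-- the sum over the cyclic group generated by `x` -/
theorem c1_sum_zpowers (x : L) (hx : IsOfFinOrder x) [Fintype ↥(Subgroup.zpowers x)] (f : L → ℂ) :
    ∑ y : ↥(Subgroup.zpowers x), f y = ∑ j ∈ Finset.range (orderOf x), f (x ^ j) := by
  rw [Finset.sum_range]
  rw [← Equiv.sum_comp (finEquivZPowers hx) (fun y : ↥(Subgroup.zpowers x) => f y)]
  apply Finset.sum_congr rfl
  intro i _
  rw [finEquivZPowers_apply]

end perm

section main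

variable {L : Type*} [Group L] [Fintype L] {Ω : Type*} [Fintype Ω] [DecidableEq Ω]
  [MulAction L Ω]

/-- the average over `⟨x⟩` -/
noncomputable def c1avg (p : ℕ) (x : L) (f : L → ℂ) : ℂ :=
  (p : ℂ)⁻¹ * ∑ j ∈ Finset.range p, f (x ^ j)

/-- the average of a character over `⟨x⟩` is a natural number -/
theorem c1avg_nat {p : ℕ} (x : L) (hox : orderOf x = p) (hp0 : 0 < p) {χ : L → ℂ}
    (hχ : IsCharacter L χ) : ∃ n : ℕ, c1avg p x χ = n := by
  classical
  haveI : Fintype ↥(Subgroup.zpowers x) := Fintype.ofFinite _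
  have hfo : IsOfFinOrder x := by
    rw [← orderOf_pos_iff, hox]; exact hp0
  obtain ⟨n, hn⟩ := classInner_char_irr_nat (isCharacter_restrict (Subgroup.zpowers x) hχ)
    (isIrrCharacter_one (G := ↥(Subgroup.zpowers x)))
  refine ⟨n, ?_⟩
  rw [← hn]
  unfold c1avg classInner
  rw [Nat.card_zpowers, hox]
  congr 1
  rw [← hox, ← c1_sum_zpowers x hfo χ]
  apply Finset.sum_congr rfl
  intro y _
  simp

/-- **C1**. -/
theorem exists_chi_one [MulAction.IsPretransitive L Ω] {p : ℕ} (hp : p.Prime) (hp2 : p ≠ 2)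
    (hΩ : Fintype.card Ω = 2 * p) (x : L) (hox : orderOf x = p) (hfpf : ∀ a : Ω, x • a ≠ a)
    (a : Ω) :
    Nat.card (MulAction.orbitRel.Quotient (MulAction.stabilizer L a) Ω) = 2 ∨
    (∃ χ : L → ℂ, IsIrrCharacter L χ ∧ χ 1 = 1 ∧ (χ ≠ fun _ => 1) ∧
      classInner (permCh L Ω) χ ≠ 0) ∨
    (∃ χ₁ : L → ℂ, IsIrrCharacter L χ₁ ∧ classInner (permCh L Ω) χ₁ ≠ 0 ∧ χ₁ 1 = (p : ℂ) ∧
      ∀ k : ℕ, ¬ p ∣ k → χ₁ (x ^ k) = 0) := by
  classical
  haveI : Fintype (IrrCharacter L) := Fintype.ofFinite _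
  haveI : Nonempty Ω := ⟨a⟩
  have hp1 : 1 < p := hp.one_lt
  have hp0 : 0 < p := hp.pos
  have hpC : (p : ℂ) ≠ 0 := by exact_mod_cast hp0.ne'
  have hN : Nat.card L ≠ 0 := Nat.card_pos.ne'
  have hpN : p ∣ Nat.card L := by rw [← hox]; exact orderOf_dvd_natCard x
  set θ : L → ℂ := permCh L Ω with hθ
  -- values of θ on ⟨x⟩
  have hθ1 : θ 1 = ((2 * p : ℕ) : ℂ) := by
    show ((Nat.card (MulAction.fixedBy Ω (1 : L)) : ℕ) : ℂ) = _
    rw [MulAction.fixedBy_one_eq_univ, Nat.card_congr (Equiv.Set.univ Ω), Nat.card_eq_fintype_card, hΩ]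
  have hθx : ∀ j, ¬ p ∣ j → θ (x ^ j) = 0 := by
    intro j hj
    show ((Nat.card (MulAction.fixedBy Ω (x ^ j)) : ℕ) : ℂ) = 0
    have hempty : MulAction.fixedBy Ω (x ^ j) = ∅ := by
      ext b
      simp only [MulAction.mem_fixedBy, Set.mem_empty_iff_false, iff_false]
      intro h
      have hc : j.Coprime (orderOf x) := by
        rw [hox]
        exact ((Nat.Prime.coprime_iff_not_dvd hp).mpr hj).symm
      obtain ⟨k, hk⟩ := exists_pow_eq_self_of_coprime hc
      apply hfpf b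
      rw [← hk]
      exact c1_pow_smul_fixed h k
    rw [hempty]
    simp
  -- the sum over range p splits off j = 0
  have hsplit : ∀ f : L → ℂ, ∑ j ∈ Finset.range p, f (x ^ j) =
      f 1 + ∑ j ∈ Finset.range (p - 1), f (x ^ (j + 1)) := by
    intro f
    have : p = (p - 1) + 1 := by omega
    conv_lhs => rw [this]
    rw [Finset.sum_range_succ', pow_zero, add_comm]
  have hndvd : ∀ j ∈ Finset.range (p - 1), ¬ p ∣ j + 1 := by
    intro j hj
    have := Finset.mem_range.mp hj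
    intro h
    have := Nat.le_of_dvd (by omega) h
    omega
  have havgθ : c1avg p x θ = 2 := by
    unfold c1avg
    rw [hsplit θ, hθ1, Finset.sum_eq_zero (fun j hj => hθx (j + 1) (hndvd j hj)), add_zero]
    push_cast
    field_simp
  -- multiplicities
  have hE : ∀ ψ : IrrCharacter L, ∃ n : ℕ, classInner θ (ψ : L → ℂ) = n := fun ψ =>
    exists_nat_classInner_permCh (isCharacter_of_irr ψ.2)
  choose E hE using hE
  have hM : ∀ ψ : IrrCharacter L, ∃ n : ℕ, c1avg p x (ψ : L → ℂ) = n := fun ψ =>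
    c1avg_nat x hox hp0 (isCharacter_of_irr ψ.2)
  choose M hM using hM
  have hD : ∀ ψ : IrrCharacter L, ∃ n : ℕ, 0 < n ∧ (ψ : L → ℂ) 1 = n := fun ψ =>
    irr_apply_one_pos ψ.2
  choose D hD0 hD using hD
  -- expansion of θ
  have hexp := Cfsg.Agent.Lib.H24.classFunction_expansion θ permCh_isClassFunction
  have hθg : ∀ g : L, θ g = ∑ ψ : IrrCharacter L, (E ψ : ℂ) * (ψ : L → ℂ) g := by
    intro g
    have := congrFun hexp g
    rw [Finset.sum_apply] at this
    rw [this]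
    apply Finset.sum_congr rfl
    intro ψ _
    rw [Pi.smul_apply, smul_eq_mul, hE ψ]
  have hsumEM : ∑ ψ : IrrCharacter L, E ψ * M ψ = 2 := by
    have h1 : c1avg p x θ = ∑ ψ : IrrCharacter L, (E ψ : ℂ) * (M ψ : ℂ) := by
      unfold c1avg
      simp_rw [hθg]
      rw [Finset.sum_comm, Finset.mul_sum]
      apply Finset.sum_congr rfl
      intro ψ _
      rw [← hM ψ]
      unfold c1avg
      rw [← Finset.mul_sum]
      ring
    rw [havgθ] at h1
    have h2 : ((∑ ψ : IrrCharacter L, E ψ * M ψ : ℕ) : ℂ) = ((2 : ℕ) : ℂ) := by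
      push_cast
      exact h1.symm
    exact_mod_cast h2
  -- the trivial character
  set ψ₀ : IrrCharacter L := ⟨1, isIrrCharacter_one⟩ with hψ₀
  have hE0 : E ψ₀ = 1 := by
    have h1 : classInner θ (ψ₀ : L → ℂ) = 1 := classInner_permCh_one
    rw [hE ψ₀] at h1
    exact_mod_cast h1
  have hM0 : M ψ₀ = 1 := by
    have h1 : c1avg p x (ψ₀ : L → ℂ) = 1 := by
      unfold c1avg
      show (p : ℂ)⁻¹ * ∑ j ∈ Finset.range p, (1 : ℂ) = 1
      rw [Finset.sum_const, Finset.card_range, nsmul_eq_mul, mul_one, inv_mul_cancel₀ hpC]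
    rw [hM ψ₀] at h1
    exact_mod_cast h1
  have hD0' : D ψ₀ = 1 := by
    have h1 : (ψ₀ : L → ℂ) 1 = 1 := rfl
    rw [hD ψ₀] at h1
    exact_mod_cast h1
  have hsum1 : ∑ ψ ∈ (Finset.univ : Finset (IrrCharacter L)).erase ψ₀, E ψ * M ψ = 1 := by
    have := Finset.add_sum_erase (Finset.univ : Finset (IrrCharacter L)) (fun ψ => E ψ * M ψ)
      (Finset.mem_univ ψ₀)
    rw [hsumEM, hE0, hM0] at this
    omega
  obtain ⟨χ₁, hχ₁mem, hχ₁ne⟩ := Finset.exists_ne_zero_of_sum_ne_zero (by rw [hsum1]; norm_num :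
    ∑ ψ ∈ (Finset.univ : Finset (IrrCharacter L)).erase ψ₀, E ψ * M ψ ≠ 0)
  have hχ₁0 : χ₁ ≠ ψ₀ := (Finset.mem_erase.mp hχ₁mem).1
  have hrest : ∑ ψ ∈ ((Finset.univ : Finset (IrrCharacter L)).erase ψ₀).erase χ₁, E ψ * M ψ +
      E χ₁ * M χ₁ = 1 := by
    rw [Finset.sum_erase_add _ _ hχ₁mem, hsum1]
  have hEM1 : E χ₁ * M χ₁ = 1 := by
    have : 0 < E χ₁ * M χ₁ := Nat.pos_of_ne_zero hχ₁ne
    omega
  have hE1 : E χ₁ = 1 := Nat.dvd_one.mp ⟨M χ₁, hEM1.symm⟩
  have hM1 : M χ₁ = 1 := Nat.dvd_one.mp ⟨E χ₁, by rw [mul_comm]; exact hEM1.symm⟩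
  have huniq : ∀ ψ : IrrCharacter L, ψ ≠ ψ₀ → E ψ * M ψ ≠ 0 → ψ = χ₁ := by
    intro ψ h0 hne
    by_contra hne1
    have hmem : ψ ∈ ((Finset.univ : Finset (IrrCharacter L)).erase ψ₀).erase χ₁ :=
      Finset.mem_erase.mpr ⟨hne1, Finset.mem_erase.mpr ⟨h0, Finset.mem_univ _⟩⟩
    have hle := Finset.single_le_sum (f := fun ψ => E ψ * M ψ) (fun _ _ => Nat.zero_le _) hmem
    have : 0 < E ψ * M ψ := Nat.pos_of_ne_zero hne
    omega
  -- Galois stability
  have hGal : ∀ m : ℕ, m.Coprime (Nat.card L) → ∀ g : L, (χ₁ : L → ℂ) (g ^ m) = (χ₁ : L → ℂ) g := by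
    intro m hm
    set ψm : IrrCharacter L := ⟨fun g => (χ₁ : L → ℂ) (g ^ m),
      Cfsg.Agent.Lib.H8.isIrrCharacter_galoisConj χ₁.2 m hm⟩ with hψm
    have hne0 : ψm ≠ ψ₀ := by
      intro h
      apply hχ₁0
      apply Subtype.ext
      funext g
      have h1 := congrArg (fun ψ : IrrCharacter L => (ψ : L → ℂ) ((powCoprime hm.symm).symm g)) h
      simp only [hψm, hψ₀] at h1
      have h2 : ((powCoprime hm.symm).symm g) ^ m = g := (powCoprime hm.symm).apply_symm_apply g
      rw [h2] at h1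
      exact h1
    have hEm : E ψm = 1 := by
      have h1 : classInner θ (ψm : L → ℂ) = classInner θ (χ₁ : L → ℂ) := by
        have h2 := Cfsg.Agent.Lib.H8.classInner_comp_pow θ (χ₁ : L → ℂ) m hm
        have h3 : (fun g => θ (g ^ m)) = θ := by
          funext g
          exact c1_permCh_pow_coprime g (Cfsg.Agent.Lib.H8.coprime_orderOf_of_coprime_card hm g)
        rw [h3] at h2
        exact h2
      rw [hE ψm, hE χ₁, hE1] at h1
      exact_mod_cast h1
    have hMm : M ψm = 1 := by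
      have h1 : c1avg p x (ψm : L → ℂ) = c1avg p x (χ₁ : L → ℂ) := by
        haveI : Fintype ↥(Subgroup.zpowers x) := Fintype.ofFinite _
        have hfo : IsOfFinOrder x := by rw [← orderOf_pos_iff, hox]; exact hp0
        unfold c1avg
        congr 1
        have e1 := c1_sum_zpowers x hfo (fun g => (χ₁ : L → ℂ) (g ^ m))
        have e2 := c1_sum_zpowers x hfo (χ₁ : L → ℂ)
        rw [hox] at e1 e2
        show ∑ j ∈ Finset.range p, (χ₁ : L → ℂ) ((x ^ j) ^ m) = _
        rw [← e1, ← e2]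
        have hcop : (Nat.card ↥(Subgroup.zpowers x)).Coprime m := by
          rw [Nat.card_zpowers, hox]
          exact (Nat.Coprime.coprime_dvd_right hpN hm).symm
        rw [← Equiv.sum_comp (powCoprime hcop) (fun y : ↥(Subgroup.zpowers x) => (χ₁ : L → ℂ) y)]
        apply Finset.sum_congr rfl
        intro y _
        rw [powCoprime_apply, Subgroup.coe_pow]
      rw [hM ψm, hM χ₁, hM1] at h1
      exact_mod_cast h1
    have heq : ψm = χ₁ := huniq ψm hne0 (by rw [hEm, hMm]; norm_num)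
    intro g
    have := congrArg (fun ψ : IrrCharacter L => (ψ : L → ℂ) g) heq
    exact this
  -- the value on `⟨x⟩ ∖ 1` is a constant integer
  obtain ⟨n, hn⟩ := Cfsg.Agent.Lib.H8.exists_int_of_forall_pow_eq (Or.inl χ₁.2) x
    (fun m hm => hGal m hm x)
  have hconst : ∀ j, ¬ p ∣ j → (χ₁ : L → ℂ) (x ^ j) = n := by
    intro j hj
    have hc : j.Coprime p := ((Nat.Prime.coprime_iff_not_dvd hp).mpr hj).symm
    obtain ⟨m, hm, hmod⟩ := Cfsg.Agent.Lib.H8.exists_coprime_lift hN hpN hc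
    have hpow : x ^ m = x ^ j := by
      rw [pow_eq_pow_iff_modEq, hox]
      exact hmod
    rw [← hpow, hGal m hm x, hn]
  -- the degree
  have hdeg : (D χ₁ : ℤ) + ((p : ℤ) - 1) * n = p := by
    have h1 : c1avg p x (χ₁ : L → ℂ) = 1 := by rw [hM χ₁, hM1]; norm_num
    unfold c1avg at h1
    rw [hsplit, hD χ₁, Finset.sum_congr rfl (fun j hj => hconst (j + 1) (hndvd j hj)),
      Finset.sum_const, Finset.card_range, nsmul_eq_mul] at h1
    have h2 : ((D χ₁ : ℂ) + ((p - 1 : ℕ) : ℂ) * (n : ℂ)) = p := by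
      field_simp at h1
      linear_combination h1
    have h3 : (((D χ₁ : ℤ) + ((p : ℤ) - 1) * n : ℤ) : ℂ) = ((p : ℤ) : ℂ) := by
      push_cast
      rw [Nat.cast_sub hp0] at h2
      push_cast at h2
      exact h2
    exact_mod_cast h3
  -- the degree formula
  have hcard : ∑ ψ : IrrCharacter L, E ψ * D ψ = 2 * p := by
    have h1 := card_eq_sum_irr (G := L) (Ω := Ω)
    have h2 : ((∑ ψ : IrrCharacter L, E ψ * D ψ : ℕ) : ℂ) = ((2 * p : ℕ) : ℂ) := by
      rw [← hΩ, h1]
      push_cast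
      apply Finset.sum_congr rfl
      intro ψ _
      rw [← hE ψ, ← hD ψ]
    exact_mod_cast h2
  have hpair : ψ₀ ∉ ({χ₁} : Finset (IrrCharacter L)) := by
    rw [Finset.mem_singleton]; exact fun h => hχ₁0 h.symm
  have hsplit2 : ∑ ψ ∈ (Finset.univ \ {ψ₀, χ₁} : Finset (IrrCharacter L)), E ψ * D ψ +
      (1 + D χ₁) = 2 * p := by
    have h := Finset.sum_sdiff (Finset.subset_univ ({ψ₀, χ₁} : Finset (IrrCharacter L)))
      (f := fun ψ => E ψ * D ψ)
    rw [Finset.sum_insert hpair, Finset.sum_singleton, hE0, hD0', hE1, hcard] at h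
    simpa using h
  have hDle : D χ₁ + 1 ≤ 2 * p := by omega
  have hDpos : 0 < D χ₁ := hD0 χ₁
  have hχ₁ne1 : (χ₁ : L → ℂ) ≠ fun _ => 1 := by
    intro h
    apply hχ₁0
    apply Subtype.ext
    exact h
  have hinχ₁ : classInner (permCh L Ω) (χ₁ : L → ℂ) ≠ 0 := by
    rw [hE χ₁, hE1]; norm_num
  -- the three cases
  have hpZ : (2 : ℤ) ≤ p := by exact_mod_cast hp.two_le
  have hn1 : n ≤ 1 := by
    by_contra hcon
    push Not at hcon
    have : ((p : ℤ) - 1) * n ≥ ((p : ℤ) - 1) * 2 := by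
      apply mul_le_mul_of_nonneg_left (by omega) (by omega)
    have hDZ : (0 : ℤ) < D χ₁ := by exact_mod_cast hDpos
    omega
  have hn2 : -1 ≤ n := by
    by_contra hcon
    push Not at hcon
    have : ((p : ℤ) - 1) * n ≤ ((p : ℤ) - 1) * (-2) := by
      apply mul_le_mul_of_nonneg_left (by omega) (by omega)
    have hDZ : (D χ₁ : ℤ) + 1 ≤ 2 * p := by exact_mod_cast hDle
    omega
  have hcases : n = 1 ∨ n = 0 ∨ n = -1 := by omega
  rcases hcases with rfl | rfl | rfl
  · -- linear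
    right; left
    refine ⟨(χ₁ : L → ℂ), χ₁.2, ?_, hχ₁ne1, hinχ₁⟩
    have : (D χ₁ : ℤ) = 1 := by linarith
    rw [hD χ₁]
    exact_mod_cast this
  · -- degree p, vanishing
    right; right
    refine ⟨(χ₁ : L → ℂ), χ₁.2, hinχ₁, ?_, ?_⟩
    · have : (D χ₁ : ℤ) = p := by linarith
      rw [hD χ₁]
      exact_mod_cast this
    · intro k hk
      rw [hconst k hk]
      norm_num
  · -- rank 2
    left
    have hDval : D χ₁ = 2 * p - 1 := by
      have : (D χ₁ : ℤ) = 2 * p - 1 := by linarith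
      omega
    have hzero : ∑ ψ ∈ (Finset.univ \ {ψ₀, χ₁} : Finset (IrrCharacter L)), E ψ * D ψ = 0 := by
      omega
    have hEzero : ∀ ψ : IrrCharacter L, ψ ≠ ψ₀ → ψ ≠ χ₁ → E ψ = 0 := by
      intro ψ h0 h1
      have hmem : ψ ∈ (Finset.univ \ {ψ₀, χ₁} : Finset (IrrCharacter L)) := by
        simp only [Finset.mem_sdiff, Finset.mem_univ, Finset.mem_insert, Finset.mem_singleton,
          true_and]
        tauto
      have := (Finset.sum_eq_zero_iff.mp hzero) ψ hmem
      rcases Nat.mul_eq_zero.mp this with h | h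
      · exact h
      · have := hD0 ψ; omega
    have hnorm := classInner_permCh_self (G := L) (Ω := Ω) E hE
    have hsq : ∑ ψ : IrrCharacter L, E ψ ^ 2 = 2 := by
      have h := Finset.sum_sdiff (Finset.subset_univ ({ψ₀, χ₁} : Finset (IrrCharacter L)))
        (f := fun ψ => E ψ ^ 2)
      rw [Finset.sum_insert hpair, Finset.sum_singleton, hE0, hE1] at h
      have hz : ∑ ψ ∈ (Finset.univ \ {ψ₀, χ₁} : Finset (IrrCharacter L)), E ψ ^ 2 = 0 := by
        apply Finset.sum_eq_zero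
        intro ψ hψ
        simp only [Finset.mem_sdiff, Finset.mem_univ, Finset.mem_insert, Finset.mem_singleton,
          true_and, not_or] at hψ
        rw [hEzero ψ hψ.1 hψ.2]
        norm_num
      rw [← h, hz]
      norm_num
    rw [hsq, classInner_permCh_self_eq_rank a] at hnorm
    exact_mod_cast hnorm

end main

end Cfsg.Agent.Lib.H8.W2P
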