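import Mathlib

/-!
# S2244 piece COMM1: the commutator step (helper8, for architect helper29)
-/

set_option autoImplicit false

namespace Cfsg.Agent.Lib.H8.Wc

/-- first case: `d ∈ X ⊔ N`. -/
theorem comm_step_aux {G : Type*} [Group G] (U X N N' : Subgroup G) (hXU : X ≤ U) (hNU : N ≤ U)
    (hX : ∀ g ∈ U, ∀ x ∈ X, g * x * g⁻¹ ∈ X)
    (hN : ∀ g ∈ U, ∀ x ∈ N, g * x * g⁻¹ ∈ N)
    (hc : ∀ g ∈ U, ∀ n ∈ N, g * n * g⁻¹ * n⁻¹ ∈ N')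
    (a d : G) (ha : a ∈ U) (h : d ∈ X ⊔ N) : a⁻¹ * d⁻¹ * a * d ∈ X ⊔ N' := by
  have hle : X ≤ Subgroup.normalizer (N : Set G) := by
    intro x hx
    rw [Subgroup.mem_normalizer_iff]
    intro n
    constructor
    · intro hn; exact hN x (hXU hx) n hn
    · intro hn
      have := hN x⁻¹ (inv_mem (hXU hx)) _ hn
      rw [inv_inv] at this
      have e : x⁻¹ * (x * n * x⁻¹) * x = n := by group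
      rwa [e] at this
  have hd : d ∈ ((X ⊔ N : Subgroup G) : Set G) := h
  rw [Subgroup.coe_mul_of_left_le_normalizer_right X N hle] at hd
  obtain ⟨x, hx, n, hn, rfl⟩ := hd
  have hx' : x ∈ X := hx
  have hn' : n ∈ N := hn
  have hai : a⁻¹ ∈ U := inv_mem ha
  -- `y = a⁻¹ x⁻¹ a x ∈ X`
  have hy : a⁻¹ * x⁻¹ * a * x ∈ X := by
    have h1 := hX a⁻¹ hai x⁻¹ (inv_mem hx')
    rw [inv_inv] at h1
    exact mul_mem h1 hx'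
  have hyU : a⁻¹ * x⁻¹ * a * x ∈ U := hXU hy
  -- `n₁ = a⁻¹ n⁻¹ a ∈ N`
  have hn1 : a⁻¹ * n⁻¹ * a ∈ N := by
    have h1 := hN a⁻¹ hai n⁻¹ (inv_mem hn')
    rwa [inv_inv] at h1
  have h2 : (a⁻¹ * x⁻¹ * a * x)⁻¹ * (a⁻¹ * n⁻¹ * a) * (a⁻¹ * x⁻¹ * a * x)⁻¹⁻¹ * (a⁻¹ * n⁻¹ * a)⁻¹ ∈ N' :=
    hc _ (inv_mem hyU) _ hn1
  have h3 : a⁻¹ * n⁻¹ * a⁻¹⁻¹ * n⁻¹⁻¹ ∈ N' := hc a⁻¹ hai n⁻¹ (inv_mem hn')
  have e : a⁻¹ * (x * n)⁻¹ * a * (x * n) =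
      (a⁻¹ * x⁻¹ * a * x) *
        (((a⁻¹ * x⁻¹ * a * x)⁻¹ * (a⁻¹ * n⁻¹ * a) * (a⁻¹ * x⁻¹ * a * x)⁻¹⁻¹ * (a⁻¹ * n⁻¹ * a)⁻¹) *
          (a⁻¹ * n⁻¹ * a⁻¹⁻¹ * n⁻¹⁻¹)) := by group
  rw [e]
  exact mul_mem (Subgroup.mem_sup_left hy) (Subgroup.mem_sup_right (mul_mem h2 h3))

/-- **COMM1**. -/
theorem comm_step {G : Type*} [Group G] (U X N N' : Subgroup G) (hXU : X ≤ U) (hNU : N ≤ U) (hN'N : N' ≤ N)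
    (hX : ∀ g ∈ U, ∀ x ∈ X, g * x * g⁻¹ ∈ X)
    (hN : ∀ g ∈ U, ∀ x ∈ N, g * x * g⁻¹ ∈ N)
    (hN' : ∀ g ∈ U, ∀ x ∈ N', g * x * g⁻¹ ∈ N')
    (hc : ∀ g ∈ U, ∀ n ∈ N, g * n * g⁻¹ * n⁻¹ ∈ N')
    (a d c : G) (ha : a ∈ U) (hd : d ∈ U) (hrel : a * d = d * a * c)
    (h : a ∈ X ⊔ N ∨ d ∈ X ⊔ N) : c ∈ X ⊔ N' := by
  have hc' : c = a⁻¹ * d⁻¹ * a * d := by
    have : c = (d * a)⁻¹ * (a * d) := by rw [hrel]; group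
    rw [this]; group
  rcases h with h | h
  · have h1 := comm_step_aux U X N N' hXU hNU hX hN hc d a hd h
    have e : c = (d⁻¹ * a⁻¹ * d * a)⁻¹ := by rw [hc']; group
    rw [e]
    exact inv_mem h1
  · rw [hc']
    exact comm_step_aux U X N N' hXU hNU hX hN hc a d ha h

end Cfsg.Agent.Lib.H8.Wc
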