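import Mathlib

/-!
# S2244 piece COMMGEN: commutators of closures relative to a subgroup normalised by the generators
(helper8, for architect helper29)
-/

set_option autoImplicit false

namespace Cfsg.Agent.Lib.H8.Wc

/-- the elements normalising `N'` in both directions -/
def cgNorm {G : Type*} [Group G] (N' : Subgroup G) : Subgroup G where
  carrier := {g | ∀ x ∈ N', g * x * g⁻¹ ∈ N' ∧ g⁻¹ * x * g ∈ N'}
  one_mem' := by
    intro x hx
    simp [hx]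
  mul_mem' := by
    intro g h hg hh x hx
    refine ⟨?_, ?_⟩
    · have := (hg _ (hh x hx).1).1
      have e : g * h * x * (g * h)⁻¹ = g * (h * x * h⁻¹) * g⁻¹ := by group
      rw [e]; exact this
    · have := (hh _ (hg x hx).2).2
      have e : (g * h)⁻¹ * x * (g * h) = h⁻¹ * (g⁻¹ * x * g) * h := by group
      rw [e]; exact this
  inv_mem' := by
    intro g hg x hx
    refine ⟨?_, ?_⟩
    · have := (hg x hx).2
      rwa [inv_inv]
    · have := (hg x hx).1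
      rwa [inv_inv]

/-- left factor: the `g` normalising `N'` with `[g, t] ∈ N'` -/
def cgLeft {G : Type*} [Group G] (N' : Subgroup G) (t : G) : Subgroup G where
  carrier := {g | g ∈ cgNorm N' ∧ g * t * g⁻¹ * t⁻¹ ∈ N'}
  one_mem' := ⟨one_mem _, by simp⟩
  mul_mem' := by
    intro g h hg hh
    refine ⟨mul_mem hg.1 hh.1, ?_⟩
    have h1 := (hg.1 _ hh.2).1
    have e : g * h * t * (g * h)⁻¹ * t⁻¹ = (g * (h * t * h⁻¹ * t⁻¹) * g⁻¹) * (g * t * g⁻¹ * t⁻¹) := by group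
    rw [e]
    exact mul_mem h1 hg.2
  inv_mem' := by
    intro g hg
    refine ⟨inv_mem hg.1, ?_⟩
    have h1 := (hg.1 _ (inv_mem hg.2)).2
    have e : g⁻¹ * t * g⁻¹⁻¹ * t⁻¹ = g⁻¹ * (g * t * g⁻¹ * t⁻¹)⁻¹ * g := by group
    rw [e]
    exact h1

/-- right factor: the `n` normalising `N'` with `[g, n] ∈ N'` -/
def cgRight {G : Type*} [Group G] (N' : Subgroup G) (g : G) : Subgroup G where
  carrier := {n | n ∈ cgNorm N' ∧ g * n * g⁻¹ * n⁻¹ ∈ N'}
  one_mem' := ⟨one_mem _, by simp⟩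
  mul_mem' := by
    intro n n' hn hn'
    refine ⟨mul_mem hn.1 hn'.1, ?_⟩
    have h1 := (hn.1 _ hn'.2).1
    have e : g * (n * n') * g⁻¹ * (n * n')⁻¹ = (g * n * g⁻¹ * n⁻¹) * (n * (g * n' * g⁻¹ * n'⁻¹) * n⁻¹) := by
      group
    rw [e]
    exact mul_mem hn.2 h1
  inv_mem' := by
    intro n hn
    refine ⟨inv_mem hn.1, ?_⟩
    have h1 := (hn.1 _ (inv_mem hn.2)).2
    have e : g * n⁻¹ * g⁻¹ * n⁻¹⁻¹ = n⁻¹ * (g * n * g⁻¹ * n⁻¹)⁻¹ * n := by group
    rw [e]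
    exact h1

/-- **COMMGEN**. -/
theorem comm_closure {G : Type*} [Group G] (S T : Set G) (N' : Subgroup G)
    (hS : ∀ s ∈ S, ∀ x ∈ N', s * x * s⁻¹ ∈ N' ∧ s⁻¹ * x * s ∈ N')
    (hT : ∀ t ∈ T, ∀ x ∈ N', t * x * t⁻¹ ∈ N' ∧ t⁻¹ * x * t ∈ N')
    (hST : ∀ s ∈ S, ∀ t ∈ T, s * t * s⁻¹ * t⁻¹ ∈ N')
    (g : G) (hg : g ∈ Subgroup.closure S) (n : G) (hn : n ∈ Subgroup.closure T) :
    g * n * g⁻¹ * n⁻¹ ∈ N' := by
  have h1 : ∀ t ∈ T, Subgroup.closure S ≤ cgLeft N' t := by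
    intro t ht
    rw [Subgroup.closure_le]
    intro s hs
    exact ⟨hS s hs, hST s hs t ht⟩
  have h2 : Subgroup.closure T ≤ cgRight N' g := by
    rw [Subgroup.closure_le]
    intro t ht
    exact ⟨hT t ht, (h1 t ht hg).2⟩
  exact (h2 hn).2

end Cfsg.Agent.Lib.H8.Wc
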