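import Mathlib

/-!
# S2244 piece TSEP: torus separation by a trace idempotent (helper8, for architect helper29)
-/

set_option autoImplicit false

namespace Cfsg.Agent.Lib.H8.Wc

open Finset

/-- A unit of a finite field of order `p ^ e` is not fixed (after squaring) by a proper power of Frobenius. -/
theorem tsep_exists_unit {F : Type*} [Field F] [Fintype F] (p e k : ℕ) (hp : 2 ≤ p)
    (hcard : Fintype.card F = p ^ e) (hk0 : 0 < k) (hke : k < e) :
    ∃ y : Fˣ, (y ^ 2) ^ (p ^ k) ≠ y ^ 2 := by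
  by_contra hcon
  simp only [not_exists, not_not] at hcon
  have h1 : ∀ y : Fˣ, y ^ (2 * (p ^ k - 1)) = 1 := by
    intro y
    have h2 := hcon y
    have hpk : 1 ≤ p ^ k := Nat.one_le_pow _ _ (by omega)
    have e1 : (y ^ 2) ^ (p ^ k) = y ^ (2 * (p ^ k - 1)) * y ^ 2 := by
      rw [← pow_mul, ← pow_add]
      congr 1
      have : 2 * p ^ k = 2 * (p ^ k - 1) + 2 := by omega
      exact this
    rw [e1] at h2
    exact mul_eq_right.1 h2
  have h3 := (FiniteField.forall_pow_eq_one_iff F (2 * (p ^ k - 1))).1 h1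
  rw [hcard] at h3
  have hpk : p ^ (k + 1) ≤ p ^ e := Nat.pow_le_pow_right (by omega) (by omega)
  have hpk2 : 2 * p ^ k ≤ p ^ (k + 1) := by
    rw [pow_succ, mul_comm]
    exact Nat.mul_le_mul_left _ hp
  have hpk1 : 2 ≤ p ^ k := by
    calc 2 ≤ p := hp
      _ = p ^ 1 := (pow_one p).symm
      _ ≤ p ^ k := Nat.pow_le_pow_right (by omega) hk0
  have hpos : 0 < 2 * (p ^ k - 1) := by omega
  have := Nat.le_of_dvd hpos h3
  omega

/-- **TSEP**. -/
theorem tsep {F : Type*} [Field F] [Fintype F] {ι : Type*} [DecidableEq ι]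
    {Θ : Type*} [CommGroup Θ] [Fintype Θ] (hΘ : ((Fintype.card Θ : ℕ) : F) ≠ 0)
    (χ : ι → Θ →* Fˣ) (A : AddSubgroup (ι → F))
    (hA : ∀ (h : Θ) (v : ι → F), v ∈ A → (fun i => ((χ i h : Fˣ) : F) * v i) ∈ A)
    (β : ι)
    (hsep : ∀ ρ, ρ ≠ β → ∀ k : ℕ, ∃ h : Θ, χ ρ h ≠ χ β h ^ (ringChar F ^ k))
    (hsq : ∀ y : Fˣ, ∃ h : Θ, χ β h = y ^ 2)
    (v : ι → F) (hv : v ∈ A) (c : F) : Pi.single β (c * v β) ∈ A := by
  classical
  set p := ringChar F with hp
  haveI : CharP F p := ringChar.charP F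
  haveI hpp : Fact p.Prime := ⟨CharP.char_is_prime F p⟩
  letI : Algebra (ZMod p) F := ZMod.algebra F p
  set e := Module.finrank (ZMod p) F with he
  have hcardF : Fintype.card F = p ^ e := by
    rw [Module.card_eq_pow_finrank (K := ZMod p) (V := F), ZMod.card]
  have hp2 : 2 ≤ p := hpp.out.two_le
  -- the trace numbers
  have htn : ∀ x : F, ∃ n : ℕ, (n : F) = ∑ k ∈ range e, x ^ (p ^ k) := by
    intro x
    refine ⟨(Algebra.trace (ZMod p) F x).val, ?_⟩
    have h1 := FiniteField.algebraMap_trace_eq_sum_pow (ZMod p) F x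
    rw [Nat.card_eq_fintype_card, ZMod.card] at h1
    rw [← h1, ← map_natCast (algebraMap (ZMod p) F), ZMod.natCast_zmod_val]
  choose tn htn' using htn
  set c' : F := c / ((Fintype.card Θ : ℕ) : F) with hc'
  -- the element `w`
  set w : ι → F := ∑ h : Θ, tn (c' * (((χ β h)⁻¹ : Fˣ) : F)) • (fun i => ((χ i h : Fˣ) : F) * v i) with hw
  have hwA : w ∈ A := by
    rw [hw]
    apply AddSubgroup.sum_mem
    intro h _
    exact AddSubgroup.nsmul_mem _ (hA h v hv) _
  -- the character sums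
  have hS : ∀ ρ k, (∃ h : Θ, χ ρ h ≠ χ β h ^ (p ^ k)) →
      ∑ h : Θ, ((χ ρ h : Fˣ) : F) * (((χ β h)⁻¹ : Fˣ) : F) ^ (p ^ k) = 0 := by
    intro ρ k hex
    let ψ : Θ →* Fˣ := MonoidHom.mk' (fun h => χ ρ h * ((χ β h)⁻¹) ^ (p ^ k)) (by
      intro a b
      simp only [map_mul, mul_inv, mul_pow]
      exact mul_mul_mul_comm _ _ _ _)
    have hψ : ((Units.coeHom F).comp ψ) ≠ 1 := by
      intro h1
      obtain ⟨h, hh⟩ := hex
      apply hh
      have h2 := DFunLike.congr_fun h1 h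
      have h3 : ((ψ h : Fˣ) : F) = 1 := h2
      have h4 : ψ h = 1 := Units.ext h3
      have h5 : χ ρ h * ((χ β h)⁻¹) ^ (p ^ k) = 1 := h4
      rw [inv_pow, mul_inv_eq_one] at h5
      exact h5
    have := sum_hom_units_eq_zero ((Units.coeHom F).comp ψ) hψ
    rw [← this]
    apply Finset.sum_congr rfl
    intro h _
    show _ = ((χ ρ h * ((χ β h)⁻¹) ^ (p ^ k) : Fˣ) : F)
    push_cast
    rfl
  -- pointwise value of `w`
  have hwρ : ∀ ρ, w ρ = ∑ k ∈ range e, c' ^ (p ^ k) *
      (∑ h : Θ, ((χ ρ h : Fˣ) : F) * (((χ β h)⁻¹ : Fˣ) : F) ^ (p ^ k)) * v ρ := by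
    intro ρ
    rw [hw, Finset.sum_apply]
    simp only [Pi.smul_apply, nsmul_eq_mul, htn']
    simp only [Finset.sum_mul, Finset.mul_sum]
    rw [Finset.sum_comm]
    apply Finset.sum_congr rfl
    intro k _
    apply Finset.sum_congr rfl
    intro h _
    rw [mul_pow]
    ring
  have hfinal : w = Pi.single β (c * v β) := by
    funext ρ
    rw [hwρ]
    by_cases hρ : ρ = β
    · subst hρ
      rw [Pi.single_eq_same]
      have he0 : 0 < e := by
        rcases Nat.eq_zero_or_pos e with h0 | h0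
        · exfalso
          rw [h0, pow_zero] at hcardF
          have := Fintype.one_lt_card (α := F)
          omega
        · exact h0
      rw [Finset.sum_eq_single 0]
      · simp only [pow_zero, pow_one]
        have h1 : ∑ h : Θ, ((χ ρ h : Fˣ) : F) * (((χ ρ h)⁻¹ : Fˣ) : F) = ((Fintype.card Θ : ℕ) : F) := by
          have : ∀ h : Θ, ((χ ρ h : Fˣ) : F) * (((χ ρ h)⁻¹ : Fˣ) : F) = 1 := fun h => by
            rw [← Units.val_mul, mul_inv_cancel, Units.val_one]
          simp only [this, Finset.sum_const, Finset.card_univ, nsmul_eq_mul, mul_one]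
        rw [h1, hc']
        field_simp
      · intro k hk hk0
        rw [Finset.mem_range] at hk
        have hex : ∃ h : Θ, χ ρ h ≠ χ ρ h ^ (p ^ k) := by
          obtain ⟨y, hy⟩ := tsep_exists_unit (F := F) p e k hp2 hcardF (Nat.pos_of_ne_zero hk0) hk
          obtain ⟨h, hh⟩ := hsq y
          exact ⟨h, by rw [hh]; exact fun h' => hy h'.symm⟩
        rw [hS ρ k hex, mul_zero, zero_mul]
      · intro h0
        exact absurd (Finset.mem_range.2 he0) h0
    · rw [Pi.single_eq_of_ne hρ]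
      apply Finset.sum_eq_zero
      intro k _
      rw [hS ρ k (hsep ρ hρ k), mul_zero, zero_mul]
  rw [← hfinal]
  exact hwA

end Cfsg.Agent.Lib.H8.Wc
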