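import Mathlib
import Cfsg.Prelude.Def_PLocal
import Cfsg.Prelude.Def_Transfer
import Cfsg.Agent.Lib.H15.Conj
import Cfsg.Agent.Lib.H15.GlauRepl
import Cfsg.Agent.Lib.H4.ZJInst

/-!
helper8: tools for the full-centre version of Glauberman's Theorem A (`Z(J_e(P))`, no `Ω₁`).

* `commute_of_coprime_of_class_two`: `p` odd, `B` a `p`-group of class at most two, `x` an element
  of order prime to `p` normalizing `B` and centralizing every element of order dividing `p` of
  `B`; then `x` centralizes `B`.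
* `main_rel`: Glauberman's replacement theorem (H15.GR.main) for subgroups of a `p`-subgroup `P`
  of an arbitrary group.
-/

set_option autoImplicit false

namespace Cfsg.Agent.Lib.H8.ZJFull

open Cfsg.Agent.Lib.H15
open scoped commutatorElement

variable {G : Type*} [Group G]

/-- class-2 identity: `e^n b = c^n b e^n` for `c = e b e⁻¹ b⁻¹` commuting with `e` and `b`. -/
theorem pow_mul_of_central {b e : G}
    (h2 : Commute (e * b * e⁻¹ * b⁻¹) e) (n : ℕ) :
    e ^ n * b = (e * b * e⁻¹ * b⁻¹) ^ n * b * e ^ n := by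
  set c := e * b * e⁻¹ * b⁻¹ with hc
  have heb : e * b = c * b * e := by rw [hc]; group
  induction n with
  | zero => simp
  | succ n ih =>
    calc e ^ (n + 1) * b = e ^ n * (e * b) := by rw [pow_succ, mul_assoc]
      _ = e ^ n * (c * b * e) := by rw [heb]
      _ = (e ^ n * c) * b * e := by simp only [mul_assoc]
      _ = c * (e ^ n * b) * e := by
          rw [((h2.pow_right n).eq).symm]; simp only [mul_assoc]
      _ = c * (c ^ n * b * e ^ n) * e := by rw [ih]
      _ = c ^ (n + 1) * b * e ^ (n + 1) := by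
          rw [pow_succ' c, pow_succ e]; simp only [mul_assoc]

/-- `p` odd, `B` a `p`-group of class at most two, `x` of order prime to `p` normalizing `B` and
centralizing all elements `b ∈ B` with `b ^ p = 1`: then `x` centralizes `B`. -/
theorem commute_of_coprime_of_class_two {p : ℕ} [hp : Fact p.Prime] (hp2 : p ≠ 2)
    {B : Subgroup G} (hBp : IsPGroup p B) (hB2 : ⁅⁅B, B⁆, B⁆ = ⊥)
    {x : G} (hxB : ∀ b ∈ B, x * b * x⁻¹ ∈ B) (hxo : (orderOf x).Coprime p)
    (hx1 : ∀ b ∈ B, b ^ p = 1 → x * b = b * x) :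
    ∀ b ∈ B, x * b = b * x := by
  have hcen : ∀ d ∈ ⁅B, B⁆, ∀ b ∈ B, Commute d b := by
    intro d hd b hb
    have : ⁅d, b⁆ ∈ ⁅⁅B, B⁆, B⁆ := Subgroup.commutator_mem_commutator hd hb
    rw [hB2, Subgroup.mem_bot, commutatorElement_eq_one_iff_commute] at this
    exact this
  have hodd : Odd p := hp.out.eq_two_or_odd'.resolve_left hp2
  have key : ∀ k : ℕ, ∀ b ∈ B, b ^ (p ^ k) = 1 → x * b = b * x := by
    intro k
    induction k with
    | zero =>
      intro b _ hb1
      rw [pow_zero, pow_one] at hb1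
      rw [hb1, mul_one, one_mul]
    | succ k ih =>
      intro b hb hbk
      have hbp : x * b ^ p = b ^ p * x := by
        apply ih _ (B.pow_mem hb p)
        rw [← pow_mul, ← pow_succ']
        exact hbk
      obtain ⟨e, he⟩ : ∃ e, e = b⁻¹ * (x * b * x⁻¹) := ⟨_, rfl⟩
      have heB : e ∈ B := he ▸ B.mul_mem (B.inv_mem hb) (hxB b hb)
      have hxb : x * b * x⁻¹ = b * e := by rw [he]; group
      obtain ⟨c, hc⟩ : ∃ c, c = e * b * e⁻¹ * b⁻¹ := ⟨_, rfl⟩
      have hcD : c ∈ ⁅B, B⁆ := by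
        rw [hc]
        have := Subgroup.commutator_mem_commutator heB hb
        rwa [commutatorElement_def] at this
      have hcb : Commute c b := hcen c hcD b hb
      have hce : Commute c e := hcen c hcD e heB
      have hpow : (b * e) ^ p = b ^ p := by
        rw [← hxb, conj_pow]
        rw [hbp]; group
      have hmp := GR.mul_pow_of_commute (u := b) (v := e) (hc ▸ hcb) (hc ▸ hce) p
      rw [← hc, hpow] at hmp
      -- `e^p * c^(p(p-1)/2) = 1`
      have h1 : e ^ p * c ^ (p * (p - 1) / 2) = 1 := by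
        have : b ^ p * (e ^ p * c ^ (p * (p - 1) / 2)) = b ^ p * 1 := by
          rw [mul_one, ← mul_assoc]; exact hmp.symm
        exact mul_left_cancel this
      have hcp : e ^ p * b = c ^ p * b * e ^ p := by
        have := pow_mul_of_central (b := b) (e := e) (hc ▸ hce) p
        rwa [← hc] at this
      have hepD : e ^ p ∈ ⁅B, B⁆ := by
        have : e ^ p = (c ^ (p * (p - 1) / 2))⁻¹ := eq_inv_of_mul_eq_one_left h1
        rw [this]
        exact Subgroup.inv_mem _ (Subgroup.pow_mem _ hcD _)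
      have hepb : Commute (e ^ p) b := hcen _ hepD b hb
      have hcp1 : c ^ p = 1 := by
        have h2 : c ^ p * (b * e ^ p) = 1 * (b * e ^ p) := by
          rw [one_mul, ← mul_assoc, ← hcp, hepb.eq]
        exact mul_right_cancel h2
      have hdiv : p * (p - 1) / 2 = p * ((p - 1) / 2) := by
        obtain ⟨m, hm⟩ := hodd
        have : p - 1 = 2 * m := by omega
        rw [this, Nat.mul_div_cancel_left m (by norm_num : 0 < 2), ← mul_assoc,
          mul_comm p 2, mul_assoc, Nat.mul_div_cancel_left _ (by norm_num : 0 < 2)]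
      have hep1 : e ^ p = 1 := by
        rw [hdiv, pow_mul, hcp1, one_pow, mul_one] at h1
        exact h1
      have hxe : x * e = e * x := hx1 e heB hep1
      have hxn : ∀ n : ℕ, x ^ n * b * (x ^ n)⁻¹ = b * e ^ n := by
        intro n
        induction n with
        | zero => simp
        | succ n ihn =>
          have hxen : x * e ^ n = e ^ n * x := ((show Commute x e from hxe).pow_right n).eq
          calc x ^ (n + 1) * b * (x ^ (n + 1))⁻¹
              = x * (x ^ n * b * (x ^ n)⁻¹) * x⁻¹ := by rw [pow_succ']; group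
            _ = x * (b * e ^ n) * x⁻¹ := by rw [ihn]
            _ = (x * b * x⁻¹) * (x * e ^ n) * x⁻¹ := by group
            _ = (b * e) * (e ^ n * x) * x⁻¹ := by rw [hxb, hxen]
            _ = b * e ^ (n + 1) := by rw [pow_succ']; group
      have hen : e ^ orderOf x = 1 := by
        have := hxn (orderOf x)
        rw [pow_orderOf_eq_one, one_mul, inv_one, mul_one] at this
        exact (mul_eq_left.mp this.symm)
      have he1 : e = 1 := by
        have hd1 : orderOf e ∣ orderOf x := orderOf_dvd_of_pow_eq_one hen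
        have hd2 : orderOf e ∣ p := orderOf_dvd_of_pow_eq_one hep1
        have : orderOf e ∣ 1 := by
          have := Nat.dvd_gcd hd1 hd2
          rwa [Nat.Coprime.gcd_eq_one hxo] at this
        exact orderOf_eq_one_iff.mp (Nat.dvd_one.mp this)
      rw [he1, mul_one] at hxb
      calc x * b = (x * b * x⁻¹) * x := by group
        _ = b * x := by rw [hxb]
  intro b hb
  obtain ⟨k, hk⟩ := hBp ⟨b, hb⟩
  apply key k b hb
  have := congrArg Subtype.val hk
  simpa using this


/-- Glauberman's replacement theorem for subgroups of a `p`-subgroup `P` of any group. -/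
theorem main_rel [Finite G] {p : ℕ} [hp : Fact p.Prime] (hp2 : p ≠ 2) {P : Subgroup G}
    (hP : IsPGroup p P) {A B : Subgroup G} (hAP : A ≤ P) (hBP : B ≤ P)
    (hA : ∀ x ∈ A, ∀ y ∈ A, x * y = y * x) (hB2 : ⁅⁅B, B⁆, B⁆ = ⊥) (hBA : ⁅B, B⁆ ≤ A)
    (hAB : A ≤ Subgroup.normalizer (B : Set G)) (hBnA : ¬ B ≤ Subgroup.normalizer (A : Set G)) :
    ∃ Astar : Subgroup G, Astar ≤ P ∧ (∀ x ∈ Astar, ∀ y ∈ Astar, x * y = y * x) ∧
      Nat.card Astar = Nat.card A ∧ A ⊓ B < Astar ⊓ B ∧
      Astar ≤ Subgroup.normalizer (A : Set G) ∧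
      Nat.card (Cfsg.omegaOne p A) ≤ Nat.card (Cfsg.omegaOne p Astar) := by
  have hinj := P.subtype_injective
  obtain ⟨A₀, hA₀⟩ : ∃ A₀, A₀ = A.subgroupOf P := ⟨_, rfl⟩
  obtain ⟨B₀, hB₀⟩ : ∃ B₀, B₀ = B.subgroupOf P := ⟨_, rfl⟩
  have hA₀map : A₀.map P.subtype = A := hA₀ ▸ Subgroup.map_subgroupOf_eq_of_le hAP
  have hB₀map : B₀.map P.subtype = B := hB₀ ▸ Subgroup.map_subgroupOf_eq_of_le hBP
  have hmemA : ∀ y : ↥P, y ∈ A₀ ↔ (y : G) ∈ A := fun y => by rw [hA₀, Subgroup.mem_subgroupOf]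
  have hmemB : ∀ y : ↥P, y ∈ B₀ ↔ (y : G) ∈ B := fun y => by rw [hB₀, Subgroup.mem_subgroupOf]
  have hA₀c : IsMulCommutative A₀ := by
    rw [Cfsg.Agent.Lib.H4.ZJ.isMulCommutative_iff]
    intro x hx y hy
    apply Subtype.ext
    exact hA x ((hmemA x).mp hx) y ((hmemA y).mp hy)
  have h3' : ⁅⁅B₀, B₀⁆, B₀⁆ = ⊥ := by
    apply (Subgroup.map_eq_bot_iff_of_injective _ hinj).mp
    rw [Subgroup.map_commutator, Subgroup.map_commutator, hB₀map]
    exact hB2
  have hBA' : ⁅B₀, B₀⁆ ≤ A₀ := by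
    rw [← Subgroup.map_le_map_iff_of_injective hinj, Subgroup.map_commutator, hB₀map, hA₀map]
    exact hBA
  have hAB' : A₀ ≤ Subgroup.normalizer (B₀ : Set ↥P) := by
    intro a ha
    rw [Subgroup.mem_normalizer_iff]
    intro h
    rw [hmemB, hmemB]
    exact (Subgroup.mem_normalizer_iff.mp (hAB ((hmemA a).mp ha))) h
  have hBnA' : ¬ B₀ ≤ Subgroup.normalizer (A₀ : Set ↥P) := by
    intro hcon
    apply hBnA
    intro b hb
    apply mem_normalizer_of_cj_le
    rintro _ ⟨h, hh, rfl⟩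
    have hb₀ : (⟨b, hBP hb⟩ : ↥P) ∈ B₀ := (hmemB _).mpr hb
    have hh₀ : (⟨h, hAP hh⟩ : ↥P) ∈ A₀ := (hmemA _).mpr hh
    have := (Subgroup.mem_normalizer_iff.mp (hcon hb₀) ⟨h, hAP hh⟩).mp hh₀
    exact (hmemA _).mp this
  obtain ⟨S₀, hS1, hS2, hS3, hS4, _, _, hS7⟩ := GR.main hp2 hP A₀ B₀ hA₀c h3' hBA' hAB' hBnA'
  have homega : ∀ X₀ : Subgroup ↥P, (Cfsg.omegaOne p X₀).map P.subtype
      = Cfsg.omegaOne p (X₀.map P.subtype) := by
    intro X₀
    unfold Cfsg.omegaOne
    rw [MonoidHom.map_closure]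
    congr 1
    ext y
    constructor
    · rintro ⟨x, ⟨hx1, hx2⟩, rfl⟩
      refine ⟨⟨x, hx1, rfl⟩, ?_⟩
      rw [← map_pow, hx2, map_one]
    · rintro ⟨⟨x, hx1, rfl⟩, hx2⟩
      refine ⟨x, ⟨hx1, ?_⟩, rfl⟩
      apply hinj
      rw [map_pow, hx2, map_one]
  refine ⟨S₀.map P.subtype, Subgroup.map_subtype_le S₀, ?_, ?_, ?_, ?_, ?_⟩
  · rintro _ ⟨x, hx, rfl⟩ _ ⟨y, hy, rfl⟩
    rw [← map_mul, ← map_mul]
    congr 1
    exact congrArg Subtype.val (hS1.is_comm.comm ⟨x, hx⟩ ⟨y, hy⟩)
  · rw [Subgroup.card_map_of_injective hinj, hS2, ← hA₀map,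
      Subgroup.card_map_of_injective hinj]
  · rw [← hA₀map, ← hB₀map, ← Subgroup.map_inf _ _ _ hinj, ← Subgroup.map_inf _ _ _ hinj]
    exact (Subgroup.map_lt_map_iff_of_injective hinj).mpr hS3
  · rintro _ ⟨s, hs, rfl⟩
    apply mem_normalizer_of_cj_le
    rintro _ ⟨h, hh, rfl⟩
    have hh₀ : (⟨h, hAP hh⟩ : ↥P) ∈ A₀ := (hmemA _).mpr hh
    have := (Subgroup.mem_normalizer_iff.mp (hS4 hs) ⟨h, hAP hh⟩).mp hh₀
    exact (hmemA _).mp this
  · rw [← hA₀map, ← homega, ← homega, Subgroup.card_map_of_injective hinj,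
      Subgroup.card_map_of_injective hinj]
    exact hS7

end Cfsg.Agent.Lib.H8.ZJFull
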