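import Mathlib
import Cfsg.Prelude.Def_PLocal
import Cfsg.Prelude.Def_Transfer
import Cfsg.Agent.Lib.H4.ZJ
import Cfsg.Agent.Lib.H4.ZJInst
import Cfsg.Agent.Lib.H4.ZJMap
import Cfsg.Agent.Lib.H15.GlauRepl
import Cfsg.Agent.Lib.H8.ZJFullA

/-!
helper8: Glauberman's Theorem A and ZJ-theorem for the FULL centre `Z(J_e(P))` of the Thompson
subgroup generated by the elementary abelian subgroups of largest order
(`Cfsg.centerThompsonOf p P`, no `Ω₁`).

* `ZF_inf_normal`: `p` odd, `G` acting `p`-stably on its normal `p`-subgroups, `P` a Sylow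
  `p`-subgroup, `B` a normal `p`-subgroup: `Z(J_e(P)) ∩ B` is normal in `G`.
* `centerThompsonOf_normal`: if moreover `C_G(O_p(G)) ≤ O_p(G)` then `Z(J_e(P))` is normal.
-/

set_option autoImplicit false

namespace Cfsg.Agent.Lib.H8.ZJFull

open Cfsg.Agent.Lib.H4.ZJ Cfsg.Agent.Lib.H15 Cfsg.Agent.Lib.H5
open scoped commutatorElement

variable {G : Type*} [Group G]

/-- The full centre of the Thompson subgroup (elementary abelian version). -/
def ZF (p : ℕ) (Q : Subgroup G) : Subgroup G :=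
  J (eaClass p G) Q ⊓ Subgroup.centralizer (J (eaClass p G) Q : Set G)

theorem ZF_eq (p : ℕ) (Q : Subgroup G) : ZF p Q = Cfsg.centerThompsonOf p Q := by
  unfold ZF Cfsg.centerThompsonOf
  rw [J_eaClass]

theorem ZF_le (p : ℕ) (Q : Subgroup G) : ZF p Q ≤ Q := inf_le_left.trans (J_le Q)

theorem ZF_comm (p : ℕ) (Q : Subgroup G) : ∀ x ∈ ZF p Q, ∀ y ∈ ZF p Q, x * y = y * x := by
  intro x hx y hy
  exact ((Subgroup.mem_centralizer_iff.mp hx.2) y hy.1).symm

/-- The normalizer of `H` normalizes `H ∩ C(H)`. -/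
theorem normalizer_le_normalizer_inf_centralizer [Finite G] (H : Subgroup G) :
    Subgroup.normalizer (H : Set G) ≤
      Subgroup.normalizer ((H ⊓ Subgroup.centralizer (H : Set G) : Subgroup G) : Set G) := by
  intro g hg
  apply mem_normalizer_of_cj_le
  rintro _ ⟨x, hx, rfl⟩
  have hgH : ∀ h : G, h ∈ H ↔ g * h * g⁻¹ ∈ H := Subgroup.mem_normalizer_iff.mp hg
  refine Subgroup.mem_inf.mpr ⟨(hgH x).mp hx.1, ?_⟩
  rw [Subgroup.mem_centralizer_iff]
  intro h hh
  have h1 : g⁻¹ * h * g ∈ H := by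
    rw [hgH]
    have : g * (g⁻¹ * h * g) * g⁻¹ = h := by group
    rw [this]; exact hh
  have h2 := (Subgroup.mem_centralizer_iff.mp hx.2) _ h1
  simp only [MulEquiv.coe_toMonoidHom, MulAut.conj_apply]
  calc h * (g * x * g⁻¹) = g * ((g⁻¹ * h * g) * x) * g⁻¹ := by group
    _ = g * (x * (g⁻¹ * h * g)) * g⁻¹ := by rw [h2]
    _ = g * x * g⁻¹ * h := by group

theorem normalizer_le_normalizer_ZF [Finite G] (p : ℕ) (Q : Subgroup G) :
    Subgroup.normalizer (Q : Set G) ≤ Subgroup.normalizer (ZF p Q : Set G) :=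
  (normalizer_le_normalizer_J (𝒞 := eaClass p G) Q).trans
    (normalizer_le_normalizer_inf_centralizer _)

/-- An element of order dividing `p` of `P` centralizing a maximal elementary abelian subgroup
lies in it. -/
theorem mem_of_commute_of_mem_maxSet [Finite G] {p : ℕ} {P A : Subgroup G}
    (hA : A ∈ maxSet (eaClass p G) P) {x : G} (hxP : x ∈ P) (hxp : x ^ p = 1)
    (hxA : ∀ a ∈ A, x * a = a * x) : x ∈ A := by
  have hz : (eaClass p G).pred (Subgroup.zpowers x) := by
    refine ⟨comm_zpowers x, ?_⟩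
    intro a ha
    obtain ⟨m, rfl⟩ := Subgroup.mem_zpowers_iff.mp ha
    rw [← zpow_natCast, ← zpow_mul, mul_comm, zpow_mul, zpow_natCast, hxp, one_zpow]
  have hcomm : ∀ a ∈ A, ∀ y ∈ Subgroup.zpowers x, a * y = y * a := by
    intro a ha y hy
    obtain ⟨m, rfl⟩ := Subgroup.mem_zpowers_iff.mp hy
    exact ((show Commute x a from hxA a ha).zpow_left m).eq.symm
  have hpred := (eaClass p G).sup A (Subgroup.zpowers x) hA.2.1 hz hcomm
  have hle : A ⊔ Subgroup.zpowers x ≤ P :=
    sup_le hA.1 (by rw [Subgroup.zpowers_le]; exact hxP)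
  have hcard := hA.2.2 _ hle hpred
  have heq : A = A ⊔ Subgroup.zpowers x := eq_of_le_of_card_le' le_sup_left hcard
  rw [heq]
  exact (le_sup_right : Subgroup.zpowers x ≤ A ⊔ Subgroup.zpowers x) (Subgroup.mem_zpowers x)

/-- If the normal subgroup `V` (on which `G` acts `p`-stably) normalizes the abelian subgroup `X`
then every element of `X` maps into `O_p(G / C_G(V))`. -/
theorem mk_mem_pCore_of_normalizes {p : ℕ} (V : Subgroup G) [V.Normal]
    (hst : Cfsg.IsPStableOn p V) {X : Subgroup G} (hX : ∀ x ∈ X, ∀ y ∈ X, x * y = y * x)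
    (hVX : V ≤ Subgroup.normalizer (X : Set G)) {a : G} (ha : a ∈ X) :
    (QuotientGroup.mk a : G ⧸ Subgroup.centralizer (V : Set G)) ∈
      Cfsg.pCore p (G ⧸ Subgroup.centralizer (V : Set G)) := by
  apply hst a
  rw [eq_bot_iff]
  have hza : Subgroup.zpowers a ≤ X := by rw [Subgroup.zpowers_le]; exact ha
  have h4 : ⁅V, X⁆ ≤ X := by
    rw [Subgroup.commutator_comm]
    exact Subgroup.le_normalizer_iff_commutator_le_left.1 hVX
  have h5 : ⁅X, X⁆ = ⊥ := by
    rw [Subgroup.commutator_eq_bot_iff_le_centralizer]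
    intro x hx
    rw [Subgroup.mem_centralizer_iff]
    intro y hy
    exact hX y hy x hx
  calc ⁅⁅V, Subgroup.zpowers a⁆, Subgroup.zpowers a⁆ ≤ ⁅⁅V, X⁆, X⁆ :=
        Subgroup.commutator_mono (Subgroup.commutator_mono le_rfl hza) hza
    _ ≤ ⁅X, X⁆ := Subgroup.commutator_mono h4 le_rfl
    _ = ⊥ := h5

theorem card_lt_card_of_lt' [Finite G] {A B : Subgroup G} (h : A < B) :
    Nat.card A < Nat.card B :=
  Set.ncard_lt_ncard (SetLike.coe_ssubset_coe.mpr h) (Set.toFinite _)

/-- `Ω₁(B)` (generated by the elements of order dividing `p`) is normal when `B` is. -/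
theorem omegaOne_normal (p : ℕ) (B : Subgroup G) [hB : B.Normal] : (Cfsg.omegaOne p B).Normal := by
  constructor
  intro n hn g
  unfold Cfsg.omegaOne at hn ⊢
  refine Subgroup.closure_induction (p := fun y _ => g * y * g⁻¹ ∈
    Subgroup.closure {x : G | x ∈ B ∧ x ^ p = 1}) ?_ ?_ ?_ ?_ hn
  · rintro y ⟨hy1, hy2⟩
    apply Subgroup.subset_closure
    refine ⟨hB.conj_mem y hy1 g, ?_⟩
    rw [conj_pow, hy2]; group
  · simp
  · intro x y _ _ hx hy
    have : g * (x * y) * g⁻¹ = (g * x * g⁻¹) * (g * y * g⁻¹) := by group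
    rw [this]
    exact Subgroup.mul_mem _ hx hy
  · intro x _ hx
    have : g * x⁻¹ * g⁻¹ = (g * x * g⁻¹)⁻¹ := by group
    rw [this]
    exact Subgroup.inv_mem _ hx

theorem conj_mem_centralizer_of_mem_normalizer {H : Subgroup G} {g x : G}
    (hg : g ∈ Subgroup.normalizer (H : Set G)) (hx : x ∈ Subgroup.centralizer (H : Set G)) :
    g * x * g⁻¹ ∈ Subgroup.centralizer (H : Set G) := by
  have hgH : ∀ h : G, h ∈ H ↔ g * h * g⁻¹ ∈ H := Subgroup.mem_normalizer_iff.mp hg
  rw [Subgroup.mem_centralizer_iff]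
  intro h hh
  have h1 : g⁻¹ * h * g ∈ H := by
    rw [hgH]
    have : g * (g⁻¹ * h * g) * g⁻¹ = h := by group
    rw [this]; exact hh
  have h2 := (Subgroup.mem_centralizer_iff.mp hx) _ h1
  calc h * (g * x * g⁻¹) = g * ((g⁻¹ * h * g) * x) * g⁻¹ := by group
    _ = g * (x * (g⁻¹ * h * g)) * g⁻¹ := by rw [h2]
    _ = g * x * g⁻¹ * h := by group

/-! ### Theorem A for the full centre -/

section thmA


/-- Core of Theorem A for the full centre, by induction on the order of `B`. -/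
theorem ZF_inf_normal_aux [Finite G] {p : ℕ} [hp : Fact p.Prime] (hp2 : p ≠ 2) (P : Sylow p G)
    (hst : ∀ (V : Subgroup G) [V.Normal], IsPGroup p V → Cfsg.IsPStableOn p V) :
    ∀ (n : ℕ) (B : Subgroup G), Nat.card B ≤ n → B.Normal → IsPGroup p B →
      (ZF p (P : Subgroup G) ⊓ B).Normal := by
  intro n
  induction n with
  | zero =>
    intro B hB _ _
    exact absurd hB (by have : 0 < Nat.card B := Nat.card_pos; omega)
  | succ n ih =>
    intro B hBcard hBn hBp
    haveI := hBn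
    obtain ⟨Z, hZ⟩ : ∃ Z, Z = ZF p (P : Subgroup G) := ⟨_, rfl⟩
    rw [← hZ]
    have hBP : B ≤ (P : Subgroup G) := hBp.le_sylow_of_normal P
    have hZP : Z ≤ (P : Subgroup G) := hZ ▸ ZF_le _ _
    have hPZ : (P : Subgroup G) ≤ Subgroup.normalizer (Z : Set G) :=
      hZ ▸ Subgroup.le_normalizer.trans (normalizer_le_normalizer_ZF p _)
    by_cases hB1 : B = ⊥
    · rw [hB1, inf_bot_eq]; infer_instance
    -- reduce to `B` generated by the conjugates of `Z ⊓ B`
    obtain ⟨B₁', hB₁'⟩ : ∃ B₁', B₁' = Subgroup.normalClosure ((Z ⊓ B : Subgroup G) : Set G) :=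
      ⟨_, rfl⟩
    have hB₁'n : B₁'.Normal := hB₁' ▸ Subgroup.normalClosure_normal
    have hB₁'B : B₁' ≤ B := hB₁' ▸ Subgroup.normalClosure_le_normal
      (show ((Z ⊓ B : Subgroup G) : Set G) ⊆ B from inf_le_right)
    have hZB₁' : Z ⊓ B₁' = Z ⊓ B := by
      apply le_antisymm (inf_le_inf_left _ hB₁'B)
      apply le_inf inf_le_left
      rw [hB₁']
      exact Subgroup.le_normalClosure
    by_cases hBB : B₁' = B
    swap
    · have hlt : B₁' < B := lt_of_le_of_ne hB₁'B hBB
      have hc : Nat.card B₁' < Nat.card B := card_lt_card_of_lt' hlt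
      have := ih B₁' (by omega) hB₁'n (hBp.to_le hB₁'B)
      rw [← hZ, hZB₁'] at this
      exact this
    -- now `B` is the normal closure of `Z ⊓ B`
    have hgen : ∀ T : Subgroup G, T.Normal → Z ⊓ B ≤ T → B ≤ T := by
      intro T hT h
      haveI := hT
      rw [← hBB, hB₁']
      exact Subgroup.normalClosure_le_normal h
    obtain ⟨B', hB'⟩ : ∃ B', B' = ⁅B, B⁆ := ⟨_, rfl⟩
    have hB'n : B'.Normal := hB' ▸ Subgroup.commutator_normal B B
    have hB'lt : B' < B :=
      hB' ▸ Cfsg.Agent.S0663.commutator_lt_of_isPGroup hBp hBp Subgroup.le_normalizer hB1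
    have hB'p : IsPGroup p B' := hBp.to_le hB'lt.le
    have hcard' : Nat.card B' < Nat.card B := card_lt_card_of_lt' hB'lt
    have hYn : (Z ⊓ B').Normal := by
      have := ih B' (by omega) hB'n hB'p
      rwa [← hZ] at this
    -- `[Z ⊓ B, B] ≤ Z ⊓ B'`
    have h1 : ⁅Z ⊓ B, B⁆ ≤ Z ⊓ B' := by
      apply le_inf
      · have : ⁅Z, B⁆ ≤ Z := Subgroup.le_normalizer_iff_commutator_le_left.1 (hBP.trans hPZ)
        exact (Subgroup.commutator_mono inf_le_left le_rfl).trans this
      · rw [hB']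
        exact Subgroup.commutator_mono inf_le_right le_rfl
    -- hence `[B, B] ≤ Z ⊓ B'`
    have h2 : B' ≤ Z ⊓ B' := by
      haveI := hYn
      obtain ⟨T, hT⟩ : ∃ T, T = (Subgroup.centralizer
        ((B.map (QuotientGroup.mk' (Z ⊓ B')) : Subgroup (G ⧸ (Z ⊓ B'))) : Set (G ⧸ (Z ⊓ B')))).comap
          (QuotientGroup.mk' (Z ⊓ B')) := ⟨_, rfl⟩
      have hTn : T.Normal := by
        rw [hT]
        haveI : (B.map (QuotientGroup.mk' (Z ⊓ B'))).Normal :=
          Subgroup.Normal.map hBn _ (QuotientGroup.mk'_surjective _)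
        exact Subgroup.Normal.comap inferInstance _
      have hmem : ∀ x : G, x ∈ T ↔ ∀ b : G, b ∈ B → ⁅x, b⁆ ∈ Z ⊓ B' := by
        intro x
        rw [hT, Subgroup.mem_comap, Subgroup.mem_centralizer_iff]
        constructor
        · intro h b hb
          have := h _ ⟨b, hb, rfl⟩
          rw [← QuotientGroup.eq_one_iff, commutatorElement_def]
          simp only [QuotientGroup.mk'_apply] at this
          simp only [QuotientGroup.mk_mul, QuotientGroup.mk_inv]
          rw [← this]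
          group
        · rintro h _ ⟨b, hb, rfl⟩
          have := h b hb
          rw [← QuotientGroup.eq_one_iff, commutatorElement_def] at this
          simp only [QuotientGroup.mk_mul, QuotientGroup.mk_inv] at this
          simp only [QuotientGroup.mk'_apply]
          have h3 : (x : G ⧸ (Z ⊓ B')) * (b : G ⧸ (Z ⊓ B')) =
              ((x : G ⧸ (Z ⊓ B')) * b * (x : G ⧸ (Z ⊓ B'))⁻¹ * (b : G ⧸ (Z ⊓ B'))⁻¹) * (b * x) := by
            group
          rw [h3, this, one_mul]
      have hZT : Z ⊓ B ≤ T := by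
        intro z hz
        rw [hmem]
        intro b hb
        exact h1 (Subgroup.commutator_mem_commutator hz hb)
      have hBT := hgen T hTn hZT
      have h22 : ⁅B, B⁆ ≤ Z ⊓ B' := by
        rw [Subgroup.commutator_le]
        intro x hx b hb
        exact (hmem x).mp (hBT hx) b hb
      exact hB'.le.trans h22
    have hB'Z : B' ≤ Z := h2.trans inf_le_left
    have hZcomm : ∀ x ∈ Z, ∀ y ∈ Z, x * y = y * x := hZ ▸ ZF_comm p _
    -- `B'` is central in `B`
    have h3 : ⁅⁅B, B⁆, B⁆ = ⊥ := by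
      rw [← hB', Subgroup.commutator_comm, Subgroup.commutator_eq_bot_iff_le_centralizer]
      haveI := hB'n
      apply hgen _ inferInstance
      intro z hz
      rw [Subgroup.mem_centralizer_iff]
      intro y hy
      exact hZcomm y (hB'Z hy) z hz.1
    -- the abelian subgroups `A ⊔ B'`
    have hZJ : Z ≤ Subgroup.centralizer (J (eaClass p G) (P : Subgroup G) : Set G) := by
      rw [hZ]; exact inf_le_right
    have hB'comm : ∀ x ∈ B', ∀ y ∈ B', x * y = y * x :=
      fun x hx y hy => hZcomm x (hB'Z hx) y (hB'Z hy)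
    have hplus_comm : ∀ A ∈ maxSet (eaClass p G) (P : Subgroup G),
        ∀ x ∈ A ⊔ B', ∀ y ∈ A ⊔ B', x * y = y * x := by
      intro A hA
      apply comm_sup hA.2.1.1 hB'comm
      intro x hx y hy
      exact (Subgroup.mem_centralizer_iff.mp (hZJ (hB'Z hy))) x (le_J hA hx)
    have hB'P : B' ≤ (P : Subgroup G) := hB'lt.le.trans hBP
    have hplus_le : ∀ A ∈ maxSet (eaClass p G) (P : Subgroup G), A ⊔ B' ≤ (P : Subgroup G) :=
      fun A hA => sup_le hA.1 hB'P
    have hplus_omega : ∀ A ∈ maxSet (eaClass p G) (P : Subgroup G),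
        ∀ y ∈ A ⊔ B', y ^ p = 1 → y ∈ A := by
      intro A hA y hy hyp
      exact mem_of_commute_of_mem_maxSet hA (hplus_le A hA hy) hyp
        (fun a ha => hplus_comm A hA y hy a (Subgroup.mem_sup_left ha))
    -- replacement inside the family `A ⊔ B'`
    have hrep : ∀ A ∈ maxSet (eaClass p G) (P : Subgroup G),
        ¬ B ≤ Subgroup.normalizer ((A ⊔ B' : Subgroup G) : Set G) →
        ∃ A₂ ∈ maxSet (eaClass p G) (P : Subgroup G), (A ⊔ B') ⊓ B < (A₂ ⊔ B') ⊓ B ∧
          A₂ ⊔ B' ≤ Subgroup.normalizer ((A ⊔ B' : Subgroup G) : Set G) := by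
      intro A hA hBnA
      have hBA : ⁅B, B⁆ ≤ A ⊔ B' := hB' ▸ le_sup_right
      have hAB : A ⊔ B' ≤ Subgroup.normalizer (B : Set G) := by
        rw [Subgroup.normalizer_eq_top_iff.mpr hBn]; exact le_top
      obtain ⟨S, hS1, hS2, hS3, hS4, hS5, hS6⟩ := main_rel hp2 P.isPGroup' (hplus_le A hA) hBP
        (hplus_comm A hA) h3 hBA hAB hBnA
      have hSc : IsMulCommutative S := (isMulCommutative_iff S).mpr hS2
      have hAc : IsMulCommutative (A ⊔ B' : Subgroup G) :=
        (isMulCommutative_iff _).mpr (hplus_comm A hA)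
      have hom1 : Cfsg.omegaOne p (A ⊔ B') = A := by
        ext y
        rw [GR.Cfg.mem_omegaOne_iff hAc]
        constructor
        · rintro ⟨h1, h2⟩; exact hplus_omega A hA y h1 h2
        · intro hy; exact ⟨Subgroup.mem_sup_left hy, hA.2.1.2 y hy⟩
      obtain ⟨A₂, hA₂⟩ : ∃ A₂, A₂ = Cfsg.omegaOne p S := ⟨_, rfl⟩
      have hmem₂ : ∀ y, y ∈ A₂ ↔ y ∈ S ∧ y ^ p = 1 := fun y => by
        rw [hA₂]; exact GR.Cfg.mem_omegaOne_iff hSc
      rw [hom1, ← hA₂] at hS6
      have hA₂S : A₂ ≤ S := fun y hy => ((hmem₂ y).mp hy).1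
      have hA₂pred : (eaClass p G).pred A₂ :=
        ⟨fun x hx y hy => hS2 x (hA₂S hx) y (hA₂S hy), fun a ha => ((hmem₂ a).mp ha).2⟩
      have hA₂max : A₂ ∈ maxSet (eaClass p G) (P : Subgroup G) :=
        ⟨hA₂S.trans hS1, hA₂pred, fun X hX hXp => (hA.2.2 X hX hXp).trans hS6⟩
      have hcardA : Nat.card A₂ = Nat.card A :=
        le_antisymm (hA.2.2 A₂ (hA₂S.trans hS1) hA₂pred) hS6
      have hB'S : B' ≤ S := by
        have h1 : B' ≤ (A ⊔ B') ⊓ B := le_inf le_sup_right hB'lt.le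
        exact (h1.trans hS4.le).trans inf_le_left
      have hle : A₂ ⊔ B' ≤ S := sup_le hA₂S hB'S
      have hinf : A₂ ⊓ B' = A ⊓ B' := by
        ext y
        simp only [Subgroup.mem_inf]
        constructor
        · rintro ⟨h1, h2⟩
          exact ⟨hplus_omega A hA y (Subgroup.mem_sup_right h2) ((hmem₂ y).mp h1).2, h2⟩
        · rintro ⟨h1, h2⟩
          exact ⟨(hmem₂ y).mpr ⟨hB'S h2, hA.2.1.2 y h1⟩, h2⟩
      have hnB' : ∀ X : Subgroup G, X ≤ Subgroup.normalizer (B' : Set G) := by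
        intro X; rw [Subgroup.normalizer_eq_top_iff.mpr hB'n]; exact le_top
      have hc1 := GR.card_sup_mul_card_inf (hnB' A₂)
      have hc2 := GR.card_sup_mul_card_inf (hnB' A)
      rw [hinf, hcardA] at hc1
      have hpos : 0 < Nat.card (A ⊓ B' : Subgroup G) := Nat.card_pos
      have hceq : Nat.card (A₂ ⊔ B' : Subgroup G) = Nat.card (A ⊔ B' : Subgroup G) :=
        Nat.eq_of_mul_eq_mul_right hpos (hc1.trans hc2.symm)
      have hSeq : A₂ ⊔ B' = S := eq_of_le_of_card_le' hle (by rw [hceq, hS3])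
      refine ⟨A₂, hA₂max, ?_, ?_⟩
      · rw [hSeq]; exact hS4
      · rw [hSeq]; exact hS5
    -- a member with `B ≤ N(A ⊔ B')`
    obtain ⟨A, hA, hAmax⟩ := Set.exists_max_image (maxSet (eaClass p G) (P : Subgroup G))
      (fun A => Nat.card ((A ⊔ B') ⊓ B : Subgroup G)) (Set.toFinite _)
      (maxSet_nonempty (P : Subgroup G))
    have hBNA : B ≤ Subgroup.normalizer ((A ⊔ B' : Subgroup G) : Set G) := by
      by_contra hcon
      obtain ⟨A₂, hA₂, hlt, _⟩ := hrep A hA hcon
      have h5 := hAmax A₂ hA₂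
      have h6 := card_lt_card_of_lt' hlt
      omega
    obtain ⟨C, hC⟩ : ∃ C, C = Subgroup.centralizer (B : Set G) := ⟨_, rfl⟩
    haveI hCn : C.Normal := hC ▸ inferInstance
    obtain ⟨K, hK⟩ : ∃ K, K = (Cfsg.pCore p (G ⧸ C)).comap (QuotientGroup.mk' C) := ⟨_, rfl⟩
    haveI hKn : K.Normal := by
      rw [hK]
      haveI := Cfsg.Agent.Lib.H1.pCore_normal p (G ⧸ C)
      exact Subgroup.Normal.comap inferInstance _
    have hquad : ∀ A' ∈ maxSet (eaClass p G) (P : Subgroup G),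
        B ≤ Subgroup.normalizer ((A' ⊔ B' : Subgroup G) : Set G) → A' ≤ K := by
      intro A' hA' hN a ha
      have := mk_mem_pCore_of_normalizes B (hst B hBp) (hplus_comm A' hA') hN
        (Subgroup.mem_sup_left ha)
      rw [hK, Subgroup.mem_comap]
      subst hC
      exact this
    have hAK : A ≤ K := hquad A hA hBNA
    obtain ⟨D, hD⟩ : ∃ D, D = (P : Subgroup G) ⊓ K := ⟨_, rfl⟩
    have hAD : A ≤ D := hD ▸ le_inf hA.1 hAK
    have hDP : D ≤ (P : Subgroup G) := hD ▸ inf_le_left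
    have hCK : C ≤ K := by
      intro c hc
      rw [hK, Subgroup.mem_comap]
      have : QuotientGroup.mk' C c = 1 := by
        rw [QuotientGroup.mk'_apply, QuotientGroup.eq_one_iff]; exact hc
      rw [this]
      exact Subgroup.one_mem _
    have hKC : IsPGroup p (K.map (QuotientGroup.mk' C)) := by
      rw [hK, Subgroup.map_comap_eq_self_of_surjective (QuotientGroup.mk'_surjective _)]
      exact Cfsg.Agent.Lib.H1.pCore_isPGroup p _
    have hKle : K ≤ C ⊔ D := hD ▸ le_sup_inf_of_isPGroup_map P C K hCK hKC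
    have hfr : K ⊔ Subgroup.normalizer (D : Set G) = ⊤ := hD ▸ frattini_inf P K
    have htop : C ⊔ Subgroup.normalizer (D : Set G) = ⊤ := by
      rw [eq_top_iff, ← hfr]
      apply sup_le _ le_sup_right
      apply hKle.trans
      exact sup_le le_sup_left (Subgroup.le_normalizer.trans le_sup_right)
    have hCcent : ∀ Y : Subgroup G, Y ≤ B → C ≤ Subgroup.normalizer (Y : Set G) := by
      intro Y hY c hc
      apply mem_normalizer_of_cj_le
      rintro _ ⟨y, hy, rfl⟩
      have hcy : c * y = y * c := by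
        rw [hC] at hc
        exact ((Subgroup.mem_centralizer_iff.mp hc) y (hY hy)).symm
      have : (MulAut.conj c).toMonoidHom y = y := by
        simp only [MulEquiv.coe_toMonoidHom, MulAut.conj_apply]
        rw [hcy, mul_inv_cancel_right]
      rw [this]
      exact hy
    -- `B` centralizes `J(D)`
    obtain ⟨X, hX⟩ : ∃ X, X = B ⊓ Subgroup.centralizer (J (eaClass p G) D : Set G) := ⟨_, rfl⟩
    have hXn : X.Normal := by
      rw [← Subgroup.normalizer_eq_top_iff, eq_top_iff, ← htop]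
      apply sup_le (hCcent X (hX ▸ inf_le_left))
      intro g hg
      have hgJ := normalizer_le_normalizer_J (𝒞 := eaClass p G) D hg
      apply mem_normalizer_of_cj_le
      rintro _ ⟨y, hy, rfl⟩
      rw [hX] at hy ⊢
      refine Subgroup.mem_inf.mpr ⟨hBn.conj_mem y hy.1 g, ?_⟩
      exact conj_mem_centralizer_of_mem_normalizer hgJ hy.2
    have hBX : B ≤ X := by
      apply hgen X hXn
      intro z hz
      rw [hX]
      refine Subgroup.mem_inf.mpr ⟨hz.2, ?_⟩
      exact Subgroup.centralizer_le (J_le_J_of hA hAD hDP) (hZJ hz.1)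
    have hstar : ∀ A' ∈ maxSet (eaClass p G) (P : Subgroup G), A' ≤ K →
        ∀ b ∈ B, b ^ p = 1 → b ∈ A' := by
      intro A' hA' hA'K b hb hbp
      have hA'D : A' ≤ D := hD ▸ le_inf hA'.1 hA'K
      have hA'J : A' ≤ J (eaClass p G) D := le_J (mem_maxSet_of_le hA' hA'D hDP)
      have hbc : b ∈ Subgroup.centralizer (J (eaClass p G) D : Set G) := by
        have := hBX hb
        rw [hX] at this
        exact this.2
      apply mem_of_commute_of_mem_maxSet hA' (hBP hb) hbp
      intro a ha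
      exact ((Subgroup.mem_centralizer_iff.mp hbc) a (hA'J ha)).symm
    -- `B₁ = Ω₁(B)`
    obtain ⟨B₁, hB₁⟩ : ∃ B₁, B₁ = Cfsg.omegaOne p B := ⟨_, rfl⟩
    have hB₁le : ∀ A' ∈ maxSet (eaClass p G) (P : Subgroup G), A' ≤ K → B₁ ≤ A' := by
      intro A' hA' hA'K
      rw [hB₁]
      unfold Cfsg.omegaOne
      rw [Subgroup.closure_le]
      rintro b ⟨hb1, hb2⟩
      exact hstar A' hA' hA'K b hb1 hb2
    have hB₁B : B₁ ≤ B := by
      rw [hB₁]
      unfold Cfsg.omegaOne
      rw [Subgroup.closure_le]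
      rintro b ⟨hb1, _⟩
      exact hb1
    haveI hB₁n : B₁.Normal := hB₁ ▸ omegaOne_normal p B
    have hB₁p : IsPGroup p B₁ := hBp.to_le hB₁B
    obtain ⟨C₁, hC₁⟩ : ∃ C₁, C₁ = Subgroup.centralizer (B₁ : Set G) := ⟨_, rfl⟩
    haveI hC₁n : C₁.Normal := hC₁ ▸ inferInstance
    obtain ⟨K₁, hK₁⟩ : ∃ K₁, K₁ = (Cfsg.pCore p (G ⧸ C₁)).comap (QuotientGroup.mk' C₁) :=
      ⟨_, rfl⟩
    haveI hK₁n : K₁.Normal := by
      rw [hK₁]
      haveI := Cfsg.Agent.Lib.H1.pCore_normal p (G ⧸ C₁)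
      exact Subgroup.Normal.comap inferInstance _
    have hK₁K : K₁ ≤ K := by
      have hnorm : (K₁.map (QuotientGroup.mk' C)).Normal :=
        hK₁n.map _ (QuotientGroup.mk'_surjective _)
      have hpg : IsPGroup p (K₁.map (QuotientGroup.mk' C)) := by
        rintro ⟨_, y, hy, rfl⟩
        have hy1 : (QuotientGroup.mk' C₁ y) ∈ Cfsg.pCore p (G ⧸ C₁) := by
          rw [hK₁] at hy; exact hy
        obtain ⟨j, hj⟩ := (Cfsg.Agent.Lib.H1.pCore_isPGroup p (G ⧸ C₁)) ⟨_, hy1⟩
        obtain ⟨w, hw⟩ : ∃ w, w = y ^ (p ^ j) := ⟨_, rfl⟩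
        have hwC₁ : w ∈ C₁ := by
          have h5 := congrArg Subtype.val hj
          simp only [Subgroup.coe_pow, Subgroup.coe_one, QuotientGroup.mk'_apply] at h5
          rw [← QuotientGroup.mk_pow, QuotientGroup.eq_one_iff] at h5
          rw [hw]; exact h5
        obtain ⟨i, m, hm, hnm⟩ := Nat.exists_eq_pow_mul_and_not_dvd
          (orderOf_pos w).ne' p hp.out.ne_one
        have hwi : w ^ (p ^ i) ∈ C := by
          have ho : (orderOf (w ^ (p ^ i))).Coprime p := by
            have h6 : (w ^ (p ^ i)) ^ m = 1 := by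
              rw [← pow_mul, ← hnm, pow_orderOf_eq_one]
            have hd := orderOf_dvd_of_pow_eq_one h6
            exact Nat.Coprime.coprime_dvd_left hd
              ((Nat.Prime.coprime_iff_not_dvd hp.out).mpr hm).symm
          have hx1 : ∀ b ∈ B, b ^ p = 1 → w ^ (p ^ i) * b = b * w ^ (p ^ i) := by
            intro b hb hbp
            have hbB₁ : b ∈ B₁ := hB₁ ▸ Subgroup.subset_closure ⟨hb, hbp⟩
            have hxC₁ : w ^ (p ^ i) ∈ C₁ := C₁.pow_mem hwC₁ _
            rw [hC₁] at hxC₁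
            exact ((Subgroup.mem_centralizer_iff.mp hxC₁) b hbB₁).symm
          rw [hC, Subgroup.mem_centralizer_iff]
          intro b hb
          exact (commute_of_coprime_of_class_two hp2 hBp h3
            (fun b hb => hBn.conj_mem b hb _) ho hx1 b hb).symm
        refine ⟨j + i, Subtype.ext ?_⟩
        simp only [Subgroup.coe_pow, Subgroup.coe_one, QuotientGroup.mk'_apply]
        rw [← QuotientGroup.mk_pow, QuotientGroup.eq_one_iff, pow_add, pow_mul, ← hw]
        exact hwi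
      intro y hy
      rw [hK, Subgroup.mem_comap]
      exact Cfsg.Agent.Lib.H1.le_pCore hnorm hpg ⟨y, hy, rfl⟩
    -- every member of the class lies in `K`
    have hall : ∀ A' ∈ maxSet (eaClass p G) (P : Subgroup G), A' ≤ K := by
      by_contra hcon
      push Not at hcon
      obtain ⟨A₀', hA₀', hA₀'K⟩ := hcon
      obtain ⟨A', hA's, hA'max⟩ := Set.exists_max_image
        {A' | A' ∈ maxSet (eaClass p G) (P : Subgroup G) ∧ ¬ A' ≤ K}
        (fun A' => Nat.card ((A' ⊔ B') ⊓ B : Subgroup G)) (Set.toFinite _) ⟨A₀', hA₀', hA₀'K⟩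
      obtain ⟨hA', hA'K⟩ := hA's
      have hBnA' : ¬ B ≤ Subgroup.normalizer ((A' ⊔ B' : Subgroup G) : Set G) :=
        fun h => hA'K (hquad A' hA' h)
      obtain ⟨A₂, hA₂, hlt, hnorm₂⟩ := hrep A' hA' hBnA'
      have hA₂K : A₂ ≤ K := by
        by_contra h
        have h5 := hA'max A₂ ⟨hA₂, h⟩
        have h6 := card_lt_card_of_lt' hlt
        omega
      have hB₁N : B₁ ≤ Subgroup.normalizer ((A' ⊔ B' : Subgroup G) : Set G) :=
        ((hB₁le A₂ hA₂ hA₂K).trans le_sup_left).trans hnorm₂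
      apply hA'K
      intro a ha
      have := mk_mem_pCore_of_normalizes B₁ (hst B₁ hB₁p) (hplus_comm A' hA') hB₁N
        (Subgroup.mem_sup_left ha)
      apply hK₁K
      rw [hK₁, Subgroup.mem_comap]
      subst hC₁
      exact this
    -- hence `J(D) = J(P)` and `N(D)` normalizes `Z ⊓ B`
    have hJeq : J (eaClass p G) D = J (eaClass p G) (P : Subgroup G) := by
      apply le_antisymm (J_le_J_of hA hAD hDP)
      apply sSup_le
      intro A' hA'
      have hA'D : A' ≤ D := hD ▸ le_inf hA'.1 (hall A' hA')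
      exact le_J (mem_maxSet_of_le hA' hA'D hDP)
    have hZD : ZF p D = Z := by
      rw [hZ]; unfold ZF; rw [hJeq]
    have hND : Subgroup.normalizer (D : Set G) ≤
        Subgroup.normalizer ((Z ⊓ B : Subgroup G) : Set G) := by
      intro g hg
      have hg1 := normalizer_le_normalizer_ZF p D hg
      rw [hZD] at hg1
      rw [mem_normalizer_iff_cj_eq] at hg1 ⊢
      apply cj_eq_of_cj_le
      rintro _ ⟨y, hy, rfl⟩
      refine Subgroup.mem_inf.mpr ⟨?_, ?_⟩
      · rw [← hg1]; exact ⟨y, hy.1, rfl⟩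
      · exact hBn.conj_mem y hy.2 g
    rw [← Subgroup.normalizer_eq_top_iff, eq_top_iff, ← htop]
    exact sup_le (hCcent _ inf_le_right) hND

/-- **Theorem A for the full centre** `Z(J_e(P))`. -/
theorem ZF_inf_normal [Finite G] {p : ℕ} [hp : Fact p.Prime] (hp2 : p ≠ 2) (P : Sylow p G)
    (hst : ∀ (V : Subgroup G) [V.Normal], IsPGroup p V → Cfsg.IsPStableOn p V)
    (B : Subgroup G) (hBn : B.Normal) (hBp : IsPGroup p B) :
    (Cfsg.centerThompsonOf p (P : Subgroup G) ⊓ B).Normal := by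
  rw [← ZF_eq]
  exact ZF_inf_normal_aux hp2 P hst (Nat.card B) B le_rfl hBn hBp

end thmA

/-- With `C_G(O_p(G)) ≤ O_p(G)` and `p`-stability (`p` odd), the full centre `Z(J_e(P))` of the
Thompson subgroup of a Sylow `p`-subgroup is normal in `G`. -/
theorem centerThompsonOf_normal [Finite G] {p : ℕ} [hp : Fact p.Prime] (hp2 : p ≠ 2)
    (P : Sylow p G)
    (hc : Subgroup.centralizer (Cfsg.pCore p G : Set G) ≤ Cfsg.pCore p G)
    (hst : ∀ (V : Subgroup G) [V.Normal], IsPGroup p V → Cfsg.IsPStableOn p V) :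
    (Cfsg.centerThompsonOf p (P : Subgroup G)).Normal := by
  obtain ⟨O, hO⟩ : ∃ O, O = Cfsg.pCore p G := ⟨_, rfl⟩
  have hOn : O.Normal := hO ▸ Cfsg.Agent.Lib.H1.pCore_normal p G
  have hOp : IsPGroup p O := hO ▸ Cfsg.Agent.Lib.H1.pCore_isPGroup p G
  have hOP : O ≤ (P : Subgroup G) := hO ▸ Cfsg.Agent.Lib.H1.pCore_le_sylow P
  obtain ⟨Z, hZ⟩ : ∃ Z, Z = ZF p (P : Subgroup G) := ⟨_, rfl⟩
  have hPZ : (P : Subgroup G) ≤ Subgroup.normalizer (Z : Set G) :=
    hZ ▸ Subgroup.le_normalizer.trans (normalizer_le_normalizer_ZF p _)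
  have hZcomm : ∀ x ∈ Z, ∀ y ∈ Z, x * y = y * x := hZ ▸ ZF_comm p _
  have hZO : Z ≤ O := by
    intro z hz
    haveI := hOn
    have h1 := mk_mem_pCore_of_normalizes O (hst O hOp) hZcomm (hOP.trans hPZ) hz
    obtain ⟨L, hL⟩ : ∃ L, L = (Cfsg.pCore p (G ⧸ Subgroup.centralizer (O : Set G))).comap
        (QuotientGroup.mk' (Subgroup.centralizer (O : Set G))) := ⟨_, rfl⟩
    have hLn : L.Normal := by
      rw [hL]
      haveI := Cfsg.Agent.Lib.H1.pCore_normal p (G ⧸ Subgroup.centralizer (O : Set G))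
      exact Subgroup.Normal.comap inferInstance _
    have hLp : IsPGroup p ↥L := by
      rw [hL]
      apply (Cfsg.Agent.Lib.H1.pCore_isPGroup p _).comap_of_ker_isPGroup
      rw [QuotientGroup.ker_mk']
      apply hOp.to_le
      rw [hO]
      exact hc
    have hzL : z ∈ L := by rw [hL]; exact h1
    rw [hO]
    exact Cfsg.Agent.Lib.H1.le_pCore hLn hLp hzL
  have := ZF_inf_normal hp2 P hst O hOn hOp
  rw [← ZF_eq, ← hZ, inf_eq_left.mpr hZO] at this
  rw [← ZF_eq, ← hZ]
  exact this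

/-- `Z(J_e(Q))` commutes with homomorphisms injective on `Q`. -/
theorem centerThompsonOf_map {H : Type*} [Group H] (p : ℕ) (f : G →* H) (Q : Subgroup G)
    (hf : Set.InjOn f (Q : Set G)) :
    Cfsg.centerThompsonOf p (Q.map f) = (Cfsg.centerThompsonOf p Q).map f := by
  rw [← ZF_eq, ← ZF_eq]
  have hJ := J_map_of_injOn (eaClass p G) (eaClass p H) f Q hf (eaClass_compat p f Q hf)
  unfold ZF
  rw [hJ]
  ext y
  rw [Subgroup.mem_inf, Subgroup.mem_map]
  constructor
  · rintro ⟨⟨x, hx, rfl⟩, h2⟩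
    have hxQ : x ∈ Q := J_le Q hx
    refine ⟨x, Subgroup.mem_inf.mpr ⟨hx, ?_⟩, rfl⟩
    rw [Subgroup.mem_centralizer_iff]
    intro j hj
    apply hf (Q.mul_mem (J_le Q hj) hxQ) (Q.mul_mem hxQ (J_le Q hj))
    rw [map_mul, map_mul]
    exact (Subgroup.mem_centralizer_iff.mp h2) _ ⟨j, hj, rfl⟩
  · rintro ⟨x, hx12, rfl⟩
    obtain ⟨hx, h2⟩ := Subgroup.mem_inf.mp hx12
    refine ⟨⟨x, hx, rfl⟩, ?_⟩
    rw [Subgroup.mem_centralizer_iff]
    rintro _ ⟨j, hj, rfl⟩
    rw [← map_mul, ← map_mul, (Subgroup.mem_centralizer_iff.mp h2) j hj]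

end Cfsg.Agent.Lib.H8.ZJFull
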