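import Cfsg.Agent.Lib.L0.GlaubermanNPC
import Cfsg.Agent.Lib.H8.ZJFull

/-!
helper8: the Glauberman–Thompson normal `p`-complement theorem for the FULL centre
`Z(J_e(P))` (`Cfsg.centerThompsonOf p P`), on top of lead's `L0/NPCReduction` framework.
-/

set_option autoImplicit false

universe u

namespace Cfsg.Agent.Lib.H8.ZJFull

open Cfsg.Agent.Lib Cfsg.Agent.Lib.L0 Cfsg.Agent.Lib.H4.ZJ

/-- `N_X(Z(J_e(T)))` has a normal `p`-complement. -/
def ZJFHyp (p : ℕ) : ∀ (X : Type u) [Group X], Subgroup X → Prop := fun X _ T =>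
  Cfsg.HasNormalPComplement p (Subgroup.normalizer (Cfsg.centerThompsonOf p T : Set X))

section

variable {p : ℕ} [hp : Fact p.Prime]

omit hp in
theorem centerThompsonOf_le {X : Type*} [Group X] (T : Subgroup X) :
    Cfsg.centerThompsonOf p T ≤ T := by
  rw [← ZF_eq]; exact ZF_le p T

/-- `Z(J_e(T)) ≠ 1` for a nontrivial finite `p`-group `T`. -/
theorem centerThompsonOf_ne_bot {X : Type*} [Group X] [Finite X] (T : Subgroup X)
    (hT : IsPGroup p T) (hne : T ≠ ⊥) : Cfsg.centerThompsonOf p T ≠ ⊥ := by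
  have hz := zOf_ne_bot T hT hne
  have hzp : IsPGroup p (zOf T) := hT.to_le (zOf_le T)
  obtain ⟨k, hk⟩ := IsPGroup.iff_card.mp hzp
  have hk0 : k ≠ 0 := by
    rintro rfl
    rw [pow_zero, Subgroup.card_eq_one] at hk
    exact hz hk
  have hdvd : p ∣ Nat.card (zOf T) := by rw [hk]; exact dvd_pow_self p hk0
  obtain ⟨⟨z, hzT⟩, hzo⟩ := exists_prime_orderOf_dvd_card' p hdvd
  have hzo' : orderOf z = p := by
    rw [← hzo]; exact (Subgroup.orderOf_mk z hzT).symm
  have hzpow : z ^ p = 1 := by rw [← hzo']; exact pow_orderOf_eq_one z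
  have hz1 : z ≠ 1 := by
    intro h
    rw [h, orderOf_one] at hzo'
    exact hp.out.one_lt.ne hzo'
  obtain ⟨hzT1, hzc⟩ := mem_zOf.mp hzT
  obtain ⟨A₀, hA₀⟩ := maxSet_nonempty (𝒞 := eaClass p X) T
  have hzA : ∀ A ∈ maxSet (eaClass p X) T, z ∈ A := by
    intro A hA
    exact mem_of_commute_of_mem_maxSet hA hzT1 hzpow (fun a ha => (hzc a (hA.1 ha)).symm)
  have hzZ : z ∈ ZF p T := by
    refine Subgroup.mem_inf.mpr ⟨le_J hA₀ (hzA A₀ hA₀), ?_⟩
    rw [Subgroup.mem_centralizer_iff]
    intro j hj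
    exact hzc j (J_le T hj)
  intro hbot
  rw [← ZF_eq, Subgroup.eq_bot_iff_forall] at hbot
  exact hz1 (hbot z hzZ)

theorem zjfHyp_localHyp : LocalHyp.{u} p (ZJFHyp p) where
  of_injective := by
    intro X Y _ _ _ f hf T hT
    have hinj : Set.InjOn f (T : Set X) := fun a _ b _ hab => hf hab
    unfold ZJFHyp at hT ⊢
    rw [centerThompsonOf_map p f T hinj] at hT
    have h3 := HasNormalPComplement.of_le (Subgroup.le_normalizer_map f) hT
    exact HasNormalPComplement.of_mulEquiv (Subgroup.equivMapOfInjective _ f hf).symm h3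
  quotient := by
    intro X _ _ N _ hN T hT hHyp
    have hinj := injOn_mk_of_coprime N hN T hT
    have hZp : IsPGroup p (Cfsg.centerThompsonOf p T) := hT.to_le (centerThompsonOf_le T)
    show Cfsg.HasNormalPComplement p (Subgroup.normalizer
      ((Cfsg.centerThompsonOf p (T.map (QuotientGroup.mk' N)) : Subgroup (X ⧸ N)) : Set (X ⧸ N)))
    rw [centerThompsonOf_map p _ T hinj, ← H7.map_normalizer_of_coprime p hN hZp]
    exact HasNormalPComplement.of_surjective ((QuotientGroup.mk' N).subgroupMap _)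
      ((QuotientGroup.mk' N).subgroupMap_surjective _) hHyp
  of_normalizers := by
    intro X _ _ T hT hTne hU
    apply hU _ (centerThompsonOf_le T) (centerThompsonOf_ne_bot T hT hTne)
    rw [← ZF_eq]
    exact normalizer_le_normalizer_ZF p T

theorem zjf_final (hp2 : p ≠ 2) (X : Type u) [Group X] [Finite X]
    (hF : FinalConfig p (ZJFHyp p) X) : False := by
  obtain ⟨H, K, hS⟩ := hF.exists_struct
  obtain ⟨P⟩ : Nonempty (Sylow p X) := inferInstance
  have hcore := pCore_eq_of_struct hS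
  have hc : Subgroup.centralizer (Cfsg.pCore p X : Set X) ≤ Cfsg.pCore p X := by
    rw [hcore]; exact hS.hcent
  have hn : (Cfsg.centerThompsonOf p (P : Subgroup X)).Normal :=
    centerThompsonOf_normal hp2 P hc (fun B _ hB => isPStableOn_of_struct hp2 hS B hB)
  have hJ := hF.hyp P
  unfold ZJFHyp at hJ
  rw [Subgroup.normalizer_eq_top_iff.mpr hn, hasNormalPComplement_top_iff] at hJ
  exact hF.not_npc hJ

/-- **Glauberman–Thompson normal `p`-complement theorem** for the full centre `Z(J_e(P))`. -/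
theorem glauberman_npc_full (hp2 : p ≠ 2) (G : Type u) [Group G] [Finite G] (P : Sylow p G)
    (hN : Cfsg.HasNormalPComplement p
      (Subgroup.normalizer (Cfsg.centerThompsonOf p (P : Subgroup G) : Set G))) :
    Cfsg.HasNormalPComplement p G :=
  npc_of_localHyp zjfHyp_localHyp (zjf_final hp2) G P hN

end

end Cfsg.Agent.Lib.H8.ZJFull
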