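import Cfsg.Agent.Lib.H15.SCSections
import Cfsg.Agent.Lib.H8.ZJFullSC
import Cfsg.Agent.Lib.H8.ZJFullNPC
import Cfsg.Agent.Lib.H4.SL2Sec.PForm

/-!
helper8: `N_G(Z(J_e(D)))` (FULL centre, `Cfsg.centerThompsonOf p D`) controls strong fusion, for `D`
strongly closed in a Sylow `p`-subgroup of a group all of whose sections are `p`-stable
(helper15's Theorem R with the full-centre functor); `SL₂(p)`-free groups (helper4's `SL2Sec`).
-/

set_option autoImplicit false

universe u

namespace Cfsg.Agent.Lib.H8.ZJFull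

open Cfsg.Agent.Lib Cfsg.Agent.Lib.H4.ZJ Cfsg.Agent.Lib.H15.ZJS Cfsg.Agent.Lib.H15.NPCS
open Cfsg.Agent.Lib.H15 Cfsg.Agent.Lib.H15.SCF
open scoped commutatorElement

/-- the full-centre functor -/
def WFull (p : ℕ) : ∀ (X : Type u) [Group X], Subgroup X → Subgroup X :=
  fun _ _ Q => Cfsg.centerThompsonOf p Q

section

variable {p : ℕ} [hp : Fact p.Prime]

omit hp in
theorem mapFun_WFull : MapFun.{u} (WFull p) where
  le := fun Q => centerThompsonOf_le Q
  map := fun f Q hf => centerThompsonOf_map p f Q hf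

theorem normalHyp_WFull (hp2 : p ≠ 2) : NormalHyp.{u} p (WFull p) :=
  fun _ _ _ P E hE hst hc =>
    centerThompsonOf_normal_sc hp2 P E hE hc
      (fun V _ hV => isPStableOn_of_normalizerPStable hst V hV)

theorem zFun_WFull {G : Type u} [Group G] [Finite G] : ZFun p (WFull.{u} p G) where
  le := fun Q => mapFun_WFull.le Q
  cj := fun g Q => mapFun_WFull.map (MulAut.conj g).toMonoidHom Q (MulAut.conj g).injective.injOn
  ne_bot := fun Q hQ hQ1 => centerThompsonOf_ne_bot Q hQ hQ1

/-- `N_G(Z(J_e(D)))` controls strong fusion in `P` when all sections of `G` are `p`-stable. -/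
theorem control_full_of_sections {G : Type u} [Group G] [Finite G]
    (hp2 : p ≠ 2) (P : Sylow p G) (D : Subgroup G)
    (hD : Cfsg.IsStronglyClosed D (P : Subgroup G))
    (h : ∀ (K R : Subgroup G) [(R.subgroupOf K).Normal],
      Cfsg.IsNormalizerPStable p (↥K ⧸ R.subgroupOf K)) :
    Ctl (P : Subgroup G) (Cfsg.centerThompsonOf p D) := by
  have hHer := hered_of_subquotients h
  exact ctlAll_of_sections mapFun_WFull (normalHyp_WFull hp2) (fun X _ _ => zFun_WFull) G hHer _ G
    rfl H10.isSec_self P D hD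

/-- A group not involving `SL₂(p)` (`p` odd) is `p`-stable in the normalizer form. -/
theorem isNormalizerPStable_of_not_inv {Y : Type u} [Group Y] [Finite Y] (hp2 : p ≠ 2)
    (hY : ¬ H4.SL2Sec.Inv (Matrix.SpecialLinearGroup (Fin 2) (ZMod p)) Y) :
    Cfsg.IsNormalizerPStable p Y := by
  intro P hP g hg hq
  have hPN : P ≤ Subgroup.normalizer (P : Set Y) := Subgroup.le_normalizer
  have hX : ¬ H4.SL2Sec.Inv (Matrix.SpecialLinearGroup (Fin 2) (ZMod p))
      ↥(Subgroup.normalizer (P : Set Y)) := fun h => hY (H4.SL2Sec.Inv.of_subgroup _ h)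
  have hP' : IsPGroup p (P.subgroupOf (Subgroup.normalizer (P : Set Y))) := hP.comap_subtype
  haveI : (P.subgroupOf (Subgroup.normalizer (P : Set Y))).Normal :=
    Subgroup.normal_in_normalizer
  have hCeq : (Subgroup.centralizer (P : Set Y)).subgroupOf (Subgroup.normalizer (P : Set Y)) =
      Subgroup.centralizer ((P.subgroupOf (Subgroup.normalizer (P : Set Y)) :
        Subgroup ↥(Subgroup.normalizer (P : Set Y))) :
          Set ↥(Subgroup.normalizer (P : Set Y))) := by
    ext x
    rw [Subgroup.mem_subgroupOf, Subgroup.mem_centralizer_iff, Subgroup.mem_centralizer_iff]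
    constructor
    · intro h y hy
      apply Subtype.ext
      exact h (y : Y) (Subgroup.mem_subgroupOf.1 hy)
    · intro h y hy
      have := h ⟨y, hPN hy⟩ (Subgroup.mem_subgroupOf.2 hy)
      exact congrArg Subtype.val this
  have hqa : ⁅⁅P.subgroupOf (Subgroup.normalizer (P : Set Y)),
      Subgroup.zpowers (⟨g, hg⟩ : ↥(Subgroup.normalizer (P : Set Y)))⁆,
      Subgroup.zpowers (⟨g, hg⟩ : ↥(Subgroup.normalizer (P : Set Y)))⁆ = ⊥ := by
    apply (Subgroup.map_eq_bot_iff_of_injective _
      (Subgroup.normalizer (P : Set Y)).subtype_injective).1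
    rw [Subgroup.map_commutator, Subgroup.map_commutator, Subgroup.subgroupOf_map_subtype,
      MonoidHom.map_zpowers, inf_eq_left.2 hPN]
    exact hq
  have key := H4.SL2Sec.pform hp2 hX (P.subgroupOf (Subgroup.normalizer (P : Set Y))) hP'
    ⟨g, hg⟩ hqa
  have hgen : ∀ (C₁ C : Subgroup ↥(Subgroup.normalizer (P : Set Y))) [C₁.Normal] [C.Normal]
      (_ : C = C₁) (x : ↥(Subgroup.normalizer (P : Set Y))),
      (QuotientGroup.mk x : _ ⧸ C₁) ∈ Cfsg.pCore p (_ ⧸ C₁) →
      (QuotientGroup.mk x : _ ⧸ C) ∈ Cfsg.pCore p (_ ⧸ C) := by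
    intro C₁ C _ _ h x hx
    subst h
    exact hx
  exact hgen _ _ hCeq _ key

end

end Cfsg.Agent.Lib.H8.ZJFull
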