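import Cfsg.Agent.Lib.L0.FrobTICoh
import Cfsg.Agent.Lib.H4.Feit.CountIrr

/-!
# Coherent T.I. subgroup with Frobenius normalizer, not necessarily abelian (helper8), part A

`K ≤ G` with `FrobTI K`, `K < N = N_G(K)`, the set `S` of the irreducible characters of `N` not
containing `K` in their kernel coherent (`FrobTI.Coh K S star`), and `ζ₁ ∈ S` of degree `|N : K|`.
The generalized character `Ψ = Ind (π - ζ₁) + ζ₁^τ` and its inner products.
-/

set_option autoImplicit false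
set_option linter.unusedSectionVars false

namespace Cfsg.Agent.Lib.H8.ZasCoh

open Cfsg Cfsg.Agent.Lib.L0 Cfsg.Agent.Lib.L0.FrobTI Cfsg.Agent.Lib.H8 Cfsg.Agent.Lib.H4.Feit
open scoped ComplexConjugate Classical

variable {G : Type*} [Group G] [Fintype G] {K : Subgroup G} [Fintype (nz K)]

/-- the degree of a relevant character is a multiple of the index -/
theorem exists_mdeg (h : FrobTI K) (ζ : RelT K) : ∃ m : ℕ, 0 < m ∧
    (ζ.1 : nz K → ℂ) 1 = ((K.subgroupOf (nz K)).index : ℂ) * (m : ℂ) := by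
  obtain ⟨φ, hφ, hζφ⟩ := h.exists_ind ζ.1.2 ζ.2
  obtain ⟨n, hn, hn'⟩ := Cfsg.Agent.Lib.H24.irr_one_eq ⟨φ, hφ⟩
  simp only at hn'
  refine ⟨n, hn, ?_⟩
  rw [hζφ, Cfsg.Agent.Lib.L0.indFun_apply_one, hn']

/-- the degree of a relevant character divided by the index -/
noncomputable def mdeg (h : FrobTI K) (ζ : RelT K) : ℕ := (exists_mdeg h ζ).choose

theorem mdeg_pos (h : FrobTI K) (ζ : RelT K) : 0 < mdeg h ζ := (exists_mdeg h ζ).choose_spec.1

theorem mdeg_spec (h : FrobTI K) (ζ : RelT K) :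
    (ζ.1 : nz K → ℂ) 1 = ((K.subgroupOf (nz K)).index : ℂ) * (mdeg h ζ : ℂ) :=
  (exists_mdeg h ζ).choose_spec.2

theorem index_ne_zero' : ((K.subgroupOf (nz K)).index : ℂ) ≠ 0 := by
  have : (K.subgroupOf (nz K)).index ≠ 0 := Subgroup.index_ne_zero_of_finite
  exact_mod_cast this

theorem mdeg_eq_one (h : FrobTI K) (ζ : RelT K)
    (hζ : (ζ.1 : nz K → ℂ) 1 = ((K.subgroupOf (nz K)).index : ℂ)) : mdeg h ζ = 1 := by
  have h1 := mdeg_spec h ζ
  rw [hζ] at h1
  have h2 : ((K.subgroupOf (nz K)).index : ℂ) * ((mdeg h ζ : ℂ) - 1) = 0 := by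
    linear_combination -h1
  rcases mul_eq_zero.1 h2 with h3 | h3
  · exact absurd h3 index_ne_zero'
  · have : (mdeg h ζ : ℂ) = 1 := by linear_combination h3
    exact_mod_cast this

/-- the sum of the squares of the degrees of the relevant characters -/
theorem sum_deg_mul (h : FrobTI K) [Fintype (RelT K)] :
    ∑ ζ : RelT K, (ζ.1 : nz K → ℂ) 1 * (mdeg h ζ : ℂ) = (Nat.card K : ℂ) - 1 := by
  have : Fintype (IrrCharacter (nz K)) := Fintype.ofFinite _
  have hsq := sum_rel_sq (K := K)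
  rw [sum_rel_eq (fun η : IrrCharacter (nz K) => (η : nz K → ℂ) 1 ^ 2)] at hsq
  have hN : (Nat.card (nz K) : ℂ) = ((K.subgroupOf (nz K)).index : ℂ) * (Nat.card K : ℂ) := by
    have := card_nz_eq K
    exact_mod_cast this
  have he := index_ne_zero' (K := K)
  have h1 : ((K.subgroupOf (nz K)).index : ℂ) *
      ∑ ζ : RelT K, (ζ.1 : nz K → ℂ) 1 * (mdeg h ζ : ℂ) =
      ((K.subgroupOf (nz K)).index : ℂ) * ((Nat.card K : ℂ) - 1) := by
    rw [Finset.mul_sum, mul_sub, ← hN, mul_one, ← hsq]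
    refine Finset.sum_congr rfl fun ζ _ => ?_
    have := mdeg_spec h ζ
    rw [pow_two]
    nth_rewrite 3 [this]
    ring
  exact mul_left_cancel₀ he h1

variable {S : Set (nz K → ℂ)} {star : (nz K → ℂ) → (G → ℂ)}

theorem rel_mem (c : Coh K S star) (ζ : RelT K) : (ζ.1 : nz K → ℂ) ∈ S :=
  (c.mem_iff _).mpr ⟨ζ.1.2, ζ.2⟩

theorem star_genChar (c : Coh K S star) (ζ : RelT K) :
    IsGeneralizedCharacter G (star (ζ.1 : nz K → ℂ)) :=
  lio_genChar c.hstar (subset_zspan S (rel_mem c ζ))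

theorem star_inner (c : Coh K S star) (ζ ξ : RelT K) :
    classInner (star (ζ.1 : nz K → ℂ)) (star (ξ.1 : nz K → ℂ)) = if ζ = ξ then 1 else 0 := by
  rw [lio_inner c.hstar (subset_zspan S (rel_mem c ζ)) (subset_zspan S (rel_mem c ξ))]
  split_ifs with hζ
  · subst hζ
    exact irr_classInner_self ζ.1.2
  · exact irr_classInner_ne ζ.1.2 ξ.1.2 (relT_ne hζ)

/-- `ζ^τ` is an irreducible character up to sign -/
theorem exists_irr (c : Coh K S star) (ζ : RelT K) :
    ∃ (f : IrrCharacter G) (σ : ℂ), (σ = 1 ∨ σ = -1) ∧ star (ζ.1 : nz K → ℂ) = σ • (f : G → ℂ) := by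
  have hn := star_inner c ζ ζ
  rw [if_pos rfl] at hn
  rcases genChar_norm_one (star_genChar c ζ) hn with hi | hi
  · exact ⟨⟨_, hi⟩, 1, Or.inl rfl, by simp⟩
  · refine ⟨⟨_, hi⟩, -1, Or.inr rfl, ?_⟩
    simp

/-- the values at `1` as natural numbers -/
theorem rel_one_nat (h : FrobTI K) (ζ : RelT K) :
    (ζ.1 : nz K → ℂ) 1 = (((K.subgroupOf (nz K)).index * mdeg h ζ : ℕ) : ℂ) := by
  rw [mdeg_spec h ζ]
  push_cast
  ring

/-- `⟨base, 1⟩ = 0` -/
theorem base_inner_one (ζ ξ : RelT K) (a b : ℕ) :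
    classInner (base (ζ.1 : nz K → ℂ) (ξ.1 : nz K → ℂ) a b) (1 : nz K → ℂ) = 0 := by
  unfold base
  rw [classInner_sub_left, classInner_zsmul_left, classInner_zsmul_left,
    irr_classInner_ne ζ.1.2 Cfsg.Agent.Lib.L0.isIrrCharacter_one (rel_ne_one ζ.2),
    irr_classInner_ne ξ.1.2 Cfsg.Agent.Lib.L0.isIrrCharacter_one (rel_ne_one ξ.2)]
  ring

/-- `ζ^τ` is orthogonal to the trivial character when there are two relevant characters -/
theorem star_inner_one (h : FrobTI K) (c : Coh K S star) (ht : 2 ≤ Nat.card (RelT K))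
    (ζ : RelT K) : classInner (star (ζ.1 : nz K → ℂ)) (1 : G → ℂ) = 0 := by
  have hirr1 : IsIrrCharacter G (1 : G → ℂ) := Cfsg.Agent.Lib.L0.isIrrCharacter_one
  have h1cf : IsClassFunction G (1 : G → ℂ) := fun _ _ => rfl
  obtain ⟨ξ, hξ⟩ : ∃ ξ : RelT K, ξ ≠ ζ := by
    by_contra hcon
    push Not at hcon
    have : Nat.card (RelT K) ≤ 1 := by
      haveI : Subsingleton (RelT K) := ⟨fun a b => (hcon a).trans (hcon b).symm⟩
      exact Finite.card_le_one_iff_subsingleton.2 inferInstance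
    omega
  set a := (K.subgroupOf (nz K)).index * mdeg h ζ with ha
  set b := (K.subgroupOf (nz K)).index * mdeg h ξ with hb
  have hmem := base_mem_zspanOn (rel_mem c ζ) (rel_mem c ξ) (rel_one_nat h ζ) (rel_one_nat h ξ)
  have h1 := c.hext _ hmem
  rw [c.star_base (rel_mem c ζ) (rel_mem c ξ) a b] at h1
  have h2 : classInner (indFun (nz K) (base (ζ.1 : nz K → ℂ) (ξ.1 : nz K → ℂ) a b)) (1 : G → ℂ)
      = 0 := by
    rw [Cfsg.Agent.Lib.L0.frobenius_reciprocity _ _ _ h1cf]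
    exact base_inner_one ζ ξ a b
  rw [← h1, classInner_sub_left, classInner_zsmul_left, classInner_zsmul_left] at h2
  -- if `⟨ζ^τ, 1⟩ ≠ 0` then `ζ^τ = ± 1` and `ξ^τ ⟂ 1`
  obtain ⟨f, σ, hσ, hf⟩ := exists_irr c ζ
  by_contra hne
  have hf1 : (f : G → ℂ) = 1 := by
    by_contra hf1
    apply hne
    rw [hf, classInner_smul_left, irr_classInner_ne f.2 hirr1 hf1, mul_zero]
  have hσ0 : σ ≠ 0 := by rcases hσ with h | h <;> rw [h] <;> norm_num
  have hξ1 : classInner (star (ξ.1 : nz K → ℂ)) (1 : G → ℂ) = 0 := by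
    have := star_inner c ξ ζ
    rw [if_neg hξ, hf, hf1, classInner_smul_right] at this
    have hσc : conj σ ≠ 0 := by
      intro h0
      apply hσ0
      have := congrArg (starRingEnd ℂ) h0
      simpa using this
    exact (mul_eq_zero.1 this).resolve_left hσc
  rw [hξ1, mul_zero, sub_zero] at h2
  have hb0 : ((b : ℤ) : ℂ) ≠ 0 := by
    have h3 : 0 < b := Nat.mul_pos (Nat.pos_of_ne_zero Subgroup.index_ne_zero_of_finite)
      (mdeg_pos h ξ)
    exact_mod_cast h3.ne'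
  exact hne ((mul_eq_zero.1 h2).resolve_left hb0)

/-! ### the class function `Ψ` -/

/-- `Ψ = Ind (π - ζ₁) + ζ₁^τ` -/
noncomputable def PsiC (star : (nz K → ℂ) → (G → ℂ)) (ζ₁ : RelT K) : G → ℂ :=
  indFun (nz K) (alphaFun ζ₁) + star (ζ₁.1 : nz K → ℂ)

theorem alphaFun_one' (ζ₁ : RelT K)
    (hζ₁ : (ζ₁.1 : nz K → ℂ) 1 = ((K.subgroupOf (nz K)).index : ℂ)) : alphaFun ζ₁ 1 = 0 := by
  unfold alphaFun
  rw [Pi.sub_apply, piFun_apply, if_pos (by simp), hζ₁, sub_self]

theorem Phi_genChar' (ζ₁ : RelT K) :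
    IsGeneralizedCharacter G (indFun (nz K) (alphaFun ζ₁)) := by
  unfold alphaFun
  rw [indFun_sub]
  exact ⟨_, _, isCharacter_indFun _ (piFun_isCharacter K),
    isCharacter_indFun _ (isCharacter_of_irr ζ₁.1.2), rfl⟩

theorem PsiC_genChar (c : Coh K S star) (ζ₁ : RelT K) :
    IsGeneralizedCharacter G (PsiC star ζ₁) :=
  isGeneralizedCharacter_add (Phi_genChar' ζ₁) (star_genChar c ζ₁)

theorem Phi_inner' (ζ₁ : RelT K) (ψ : G → ℂ) (hψ : IsClassFunction G ψ) :
    classInner (indFun (nz K) (alphaFun ζ₁)) ψ = classInner (piFun K) (fun x : nz K => ψ x) -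
      classInner (ζ₁.1 : nz K → ℂ) (fun x : nz K => ψ x) := by
  rw [Cfsg.Agent.Lib.L0.frobenius_reciprocity _ _ _ hψ]
  unfold alphaFun
  rw [classInner_sub_left]

theorem PsiC_one (h : FrobTI K) (c : Coh K S star) (ht : 2 ≤ Nat.card (RelT K)) (ζ₁ : RelT K) :
    classInner (PsiC star ζ₁) (1 : G → ℂ) = 1 := by
  have h1cf : IsClassFunction G (1 : G → ℂ) := fun _ _ => rfl
  unfold PsiC
  rw [classInner_add_left, star_inner_one h c ht ζ₁, Cfsg.Agent.Lib.L0.frobenius_reciprocity _ _ _ h1cf,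
    add_zero]
  exact alphaFun_inner_one ζ₁

/-- the inner products of `Ψ` with the irreducible characters -/
theorem PsiC_inner_irr (ζ₁ : RelT K) (ψ : IrrCharacter G) :
    classInner (PsiC star ζ₁) (ψ : G → ℂ) =
      classInner (piFun K) (fun x : nz K => (ψ : G → ℂ) x) -
        classInner (ζ₁.1 : nz K → ℂ) (fun x : nz K => (ψ : G → ℂ) x) +
          classInner (star (ζ₁.1 : nz K → ℂ)) (ψ : G → ℂ) := by
  unfold PsiC
  rw [classInner_add_left,
    Phi_inner' ζ₁ _ (isClassFunction_of_isCharacter (isCharacter_of_irr ψ.2))]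


/-- `Ψ` is orthogonal to the induced base combinations -/
theorem PsiC_base (h : FrobTI K) (c : Coh K S star) (ζ₁ : RelT K)
    (hζ₁ : (ζ₁.1 : nz K → ℂ) 1 = ((K.subgroupOf (nz K)).index : ℂ)) (ζ ξ : RelT K) {a b : ℕ}
    (ha : (ζ.1 : nz K → ℂ) 1 = a) (hb : (ξ.1 : nz K → ℂ) 1 = b) :
    classInner (PsiC star ζ₁) (star (base (ζ.1 : nz K → ℂ) (ξ.1 : nz K → ℂ) a b)) = 0 := by
  have hmem := base_mem_zspanOn (rel_mem c ζ) (rel_mem c ξ) ha hb
  have hz := base_mem_zspan (S := S) (rel_mem c ζ) (rel_mem c ξ) a b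
  unfold PsiC
  rw [classInner_add_left]
  have h1 : classInner (indFun (nz K) (alphaFun ζ₁))
      (star (base (ζ.1 : nz K → ℂ) (ξ.1 : nz K → ℂ) a b)) =
      classInner (alphaFun ζ₁) (base (ζ.1 : nz K → ℂ) (ξ.1 : nz K → ℂ) a b) := by
    rw [c.hext _ hmem]
    exact classInner_indFun_TI (K : Set G) h.hTI _ _ (base_isClassFunction ζ.1.2 ξ.1.2 a b)
      (alphaFun_vanish h ζ₁) (c.base_vanish h (rel_mem c ζ) (rel_mem c ξ) a b)
      (alphaFun_one' ζ₁ hζ₁)
  rw [h1, lio_inner c.hstar (subset_zspan S (rel_mem c ζ₁)) hz, ← classInner_add_left]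
  have h2 : alphaFun ζ₁ + (ζ₁.1 : nz K → ℂ) = piFun K := by
    unfold alphaFun
    ring
  rw [h2, classInner_base, piFun_inner_rel h ζ.1.2 ζ.2, piFun_inner_rel h ξ.1.2 ξ.2]
  ring

/-- the inner products of `Ψ` with the `ζ^τ` are proportional to the degrees -/
theorem PsiC_star (h : FrobTI K) (c : Coh K S star) (ζ₁ : RelT K)
    (hζ₁ : (ζ₁.1 : nz K → ℂ) 1 = ((K.subgroupOf (nz K)).index : ℂ)) (ζ : RelT K) :
    classInner (PsiC star ζ₁) (star (ζ.1 : nz K → ℂ)) =
      (mdeg h ζ : ℂ) * classInner (PsiC star ζ₁) (star (ζ₁.1 : nz K → ℂ)) := by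
  have ha := rel_one_nat h ζ
  have hb := rel_one_nat h ζ₁
  rw [mdeg_eq_one h ζ₁ hζ₁, mul_one] at hb
  have h1 := PsiC_base h c ζ₁ hζ₁ ζ ζ₁ ha hb
  rw [c.star_base (rel_mem c ζ) (rel_mem c ζ₁), classInner_sub_right, classInner_zsmul_right,
    classInner_zsmul_right] at h1
  push_cast at h1
  have he := index_ne_zero' (K := K)
  have h2 : ((K.subgroupOf (nz K)).index : ℂ) *
      (classInner (PsiC star ζ₁) (star (ζ.1 : nz K → ℂ)) -
        (mdeg h ζ : ℂ) * classInner (PsiC star ζ₁) (star (ζ₁.1 : nz K → ℂ))) = 0 := by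
    linear_combination h1
  rcases mul_eq_zero.1 h2 with h3 | h3
  · exact absurd h3 he
  · linear_combination h3

/-- the norm of `Ψ` -/
theorem PsiC_norm (h : FrobTI K) (c : Coh K S star) (ζ₁ : RelT K)
    (hζ₁ : (ζ₁.1 : nz K → ℂ) 1 = ((K.subgroupOf (nz K)).index : ℂ)) (cc : ℤ)
    (hc : classInner (PsiC star ζ₁) (star (ζ₁.1 : nz K → ℂ)) = cc) :
    classInner (PsiC star ζ₁) (PsiC star ζ₁) =
      ((K.subgroupOf (nz K)).index : ℂ) + 2 * cc := by
  have hss := star_inner c ζ₁ ζ₁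
  rw [if_pos rfl] at hss
  have h1 : classInner (indFun (nz K) (alphaFun ζ₁)) (star (ζ₁.1 : nz K → ℂ)) = (cc : ℂ) - 1 := by
    have := hc
    unfold PsiC at this
    rw [classInner_add_left, hss] at this
    linear_combination this
  have h2 : classInner (star (ζ₁.1 : nz K → ℂ)) (indFun (nz K) (alphaFun ζ₁)) = (cc : ℂ) - 1 := by
    rw [← classInner_conj_symm, h1, map_sub, map_intCast, map_one]
  have h3 : classInner (indFun (nz K) (alphaFun ζ₁)) (indFun (nz K) (alphaFun ζ₁)) =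
      ((K.subgroupOf (nz K)).index : ℂ) + 1 := by
    rw [classInner_indFun_TI (K : Set G) h.hTI _ _ (alphaFun_isClassFunction ζ₁)
      (alphaFun_vanish h ζ₁) (alphaFun_vanish h ζ₁) (alphaFun_one' ζ₁ hζ₁)]
    exact alphaFun_inner_self h ζ₁
  conv_lhs => unfold PsiC
  rw [classInner_add_left, classInner_add_right, classInner_add_right, h1, h2, h3, hss]
  ring

/-- the multiplicities of the relevant characters in the restriction of a class function -/
theorem restrict_rel (h : FrobTI K) (c : Coh K S star) (ζ₁ : RelT K)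
    (hζ₁ : (ζ₁.1 : nz K → ℂ) 1 = ((K.subgroupOf (nz K)).index : ℂ)) (θ : G → ℂ)
    (hθ : IsClassFunction G θ) (ζ : RelT K) :
    classInner (fun x : nz K => θ x) (ζ.1 : nz K → ℂ) =
      (mdeg h ζ : ℂ) * classInner (fun x : nz K => θ x) (ζ₁.1 : nz K → ℂ) +
        classInner θ (star (ζ.1 : nz K → ℂ)) -
          (mdeg h ζ : ℂ) * classInner θ (star (ζ₁.1 : nz K → ℂ)) := by
  have ha := rel_one_nat h ζ
  have hb := rel_one_nat h ζ₁
  rw [mdeg_eq_one h ζ₁ hζ₁, mul_one] at hb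
  have h1 := c.inner_restrict_base θ hθ (rel_mem c ζ) (rel_mem c ζ₁) ha hb
  rw [classInner_base] at h1
  push_cast at h1
  have he := index_ne_zero' (K := K)
  have h2 : ((K.subgroupOf (nz K)).index : ℂ) *
      (classInner (fun x : nz K => θ x) (ζ.1 : nz K → ℂ) -
        ((mdeg h ζ : ℂ) * classInner (fun x : nz K => θ x) (ζ₁.1 : nz K → ℂ) +
        classInner θ (star (ζ.1 : nz K → ℂ)) -
          (mdeg h ζ : ℂ) * classInner θ (star (ζ₁.1 : nz K → ℂ)))) = 0 := by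
    linear_combination h1
  rcases mul_eq_zero.1 h2 with h3 | h3
  · exact absurd h3 he
  · linear_combination h3

end Cfsg.Agent.Lib.H8.ZasCoh
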