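import Cfsg.Agent.Lib.H8.ZasCohA

/-!
# Coherent T.I. subgroup with Frobenius normalizer, not necessarily abelian (helper8), part B

Counting the irreducible characters of `G` with the help of `Ψ`.
-/

set_option autoImplicit false
set_option linter.unusedSectionVars false

namespace Cfsg.Agent.Lib.H8.ZasCoh

open Cfsg Cfsg.Agent.Lib.L0 Cfsg.Agent.Lib.L0.FrobTI Cfsg.Agent.Lib.H8 Cfsg.Agent.Lib.H4.Feit
open scoped ComplexConjugate Classical

variable {G : Type*} [Group G] [Fintype G] {K : Subgroup G} [Fintype (nz K)]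

/-- the degree of a character of the normalizer -/
theorem char_expand_gen (h : FrobTI K) [Fintype (IrrCharacter (nz K))] [Fintype (RelT K)]
    (F : nz K → ℂ) (hF : IsCharacter (nz K) F) :
    F 1 = classInner (piFun K) F +
      ∑ ζ : RelT K, (ζ.1 : nz K → ℂ) 1 * classInner (ζ.1 : nz K → ℂ) F := by
  have hcf := isClassFunction_of_isCharacter hF
  have hexp := Cfsg.Agent.Lib.H24.classFunction_expansion F hcf
  choose c hc using fun η : IrrCharacter (nz K) => classInner_char_irr_nat hF η.2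
  have hc' : ∀ η : IrrCharacter (nz K), classInner (η : nz K → ℂ) F = c η := by
    intro η
    rw [← classInner_conj_symm, hc, Complex.conj_natCast]
  have h1 : F 1 = ∑ η : IrrCharacter (nz K), (c η : ℂ) * (η : nz K → ℂ) 1 := by
    have := congrFun hexp 1
    rw [Finset.sum_apply] at this
    rw [this]
    refine Finset.sum_congr rfl fun η _ => ?_
    rw [Pi.smul_apply, smul_eq_mul, hc]
  have h2 : classInner (piFun K) F =
      ∑ η : IrrCharacter (nz K), (c η : ℂ) * classInner (piFun K) (η : nz K → ℂ) := by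
    conv_lhs => rw [hexp]
    rw [classInner_sum_right]
    refine Finset.sum_congr rfl fun η _ => ?_
    rw [classInner_smul_right, hc, Complex.conj_natCast]
  rw [h1, h2, ← Finset.sum_filter_add_sum_filter_not Finset.univ
    (fun η : IrrCharacter (nz K) => Rel K (η : nz K → ℂ)),
    ← Finset.sum_filter_add_sum_filter_not Finset.univ
    (fun η : IrrCharacter (nz K) => Rel K (η : nz K → ℂ))
    (f := fun η : IrrCharacter (nz K) => (c η : ℂ) * classInner (piFun K) (η : nz K → ℂ))]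
  have h3 : ∑ η ∈ Finset.univ.filter (fun η : IrrCharacter (nz K) => Rel K (η : nz K → ℂ)),
      (c η : ℂ) * classInner (piFun K) (η : nz K → ℂ) = 0 := by
    apply Finset.sum_eq_zero
    intro η hη
    rw [piFun_inner_rel h η.2 (Finset.mem_filter.mp hη).2, mul_zero]
  have h4 : ∑ η ∈ Finset.univ.filter (fun η : IrrCharacter (nz K) => ¬ Rel K (η : nz K → ℂ)),
      (c η : ℂ) * classInner (piFun K) (η : nz K → ℂ) =
      ∑ η ∈ Finset.univ.filter (fun η : IrrCharacter (nz K) => ¬ Rel K (η : nz K → ℂ)),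
      (c η : ℂ) * (η : nz K → ℂ) 1 := by
    refine Finset.sum_congr rfl fun η hη => ?_
    rw [pi_inner_nonrel η.2 (Finset.mem_filter.mp hη).2]
  have h5 : ∑ η ∈ Finset.univ.filter (fun η : IrrCharacter (nz K) => Rel K (η : nz K → ℂ)),
      (c η : ℂ) * (η : nz K → ℂ) 1 =
      ∑ ζ : RelT K, (ζ.1 : nz K → ℂ) 1 * classInner (ζ.1 : nz K → ℂ) F := by
    rw [sum_rel_eq (fun η => (c η : ℂ) * (η : nz K → ℂ) 1)]
    refine Finset.sum_congr rfl fun ζ _ => ?_
    rw [hc']
    ring
  rw [h3, h4, h5]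
  ring

/-- the sum of the squares of the normalized degrees -/
noncomputable def Tsum (h : FrobTI K) : ℕ := by
  haveI : Fintype (RelT K) := Fintype.ofFinite _
  exact ∑ ζ : RelT K, mdeg h ζ ^ 2

theorem Tsum_eq (h : FrobTI K) [Fintype (RelT K)] : Tsum h = ∑ ζ : RelT K, mdeg h ζ ^ 2 := by
  unfold Tsum
  congr!

theorem index_mul_Tsum (h : FrobTI K) :
    (K.subgroupOf (nz K)).index * Tsum h + 1 = Nat.card K := by
  haveI : Fintype (RelT K) := Fintype.ofFinite _
  have h1 := sum_deg_mul h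
  have h2 : ∑ ζ : RelT K, (ζ.1 : nz K → ℂ) 1 * (mdeg h ζ : ℂ) =
      (((K.subgroupOf (nz K)).index * Tsum h : ℕ) : ℂ) := by
    rw [Tsum_eq h]
    push_cast
    rw [Finset.mul_sum]
    refine Finset.sum_congr rfl fun ζ _ => ?_
    rw [mdeg_spec h ζ]
    ring
  rw [h2] at h1
  have h3 : (((K.subgroupOf (nz K)).index * Tsum h + 1 : ℕ) : ℂ) = (Nat.card K : ℂ) := by
    push_cast
    push_cast at h1
    linear_combination h1
  exact_mod_cast h3

theorem mdeg_sq_le (h : FrobTI K) (ζ : RelT K) : mdeg h ζ ^ 2 ≤ Tsum h := by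
  haveI : Fintype (RelT K) := Fintype.ofFinite _
  rw [Tsum_eq h]
  exact Finset.single_le_sum (f := fun ζ : RelT K => mdeg h ζ ^ 2) (fun _ _ => Nat.zero_le _)
    (Finset.mem_univ ζ)

variable {S : Set (nz K → ℂ)} {star : (nz K → ℂ) → (G → ℂ)}

section count

variable (h : FrobTI K) (c : Coh K S star) {χ₀ : G → ℂ} (hI : IndHyp K χ₀)
  (ht : 2 ≤ Nat.card (RelT K)) (ζ₁ : RelT K)
  (hζ₁ : (ζ₁.1 : nz K → ℂ) 1 = ((K.subgroupOf (nz K)).index : ℂ))

include h c hζ₁ in
/-- the restriction to the normalizer of an irreducible character orthogonal to the `ζ^τ` -/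
theorem restrict_of_orth (ψ : IrrCharacter G)
    (hψ : ∀ ξ : RelT K, classInner (star (ξ.1 : nz K → ℂ)) (ψ : G → ℂ) = 0) (b : ℤ)
    (hb : classInner (PsiC star ζ₁) (ψ : G → ℂ) = b) (p : ℕ)
    (hp : classInner (piFun K) (fun x : nz K => (ψ : G → ℂ) x) = p) (ζ : RelT K) :
    classInner (ζ.1 : nz K → ℂ) (fun x : nz K => (ψ : G → ℂ) x) =
      (mdeg h ζ : ℂ) * ((p : ℂ) - b) := by
  have hcf := isClassFunction_of_isCharacter (isCharacter_of_irr ψ.2)
  have h1 := PsiC_inner_irr (star := star) ζ₁ ψ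
  rw [hb, hp, hψ ζ₁, add_zero] at h1
  have h2 := restrict_rel h c ζ₁ hζ₁ (ψ : G → ℂ) hcf ζ
  have h3 : ∀ ξ : RelT K, classInner (ψ : G → ℂ) (star (ξ.1 : nz K → ℂ)) = 0 := by
    intro ξ
    rw [← classInner_conj_symm, hψ ξ, map_zero]
  rw [h3 ζ, h3 ζ₁] at h2
  have h4 : classInner (fun x : nz K => (ψ : G → ℂ) x) (ζ₁.1 : nz K → ℂ) = (p : ℂ) - b := by
    rw [← classInner_conj_symm]
    have : classInner (ζ₁.1 : nz K → ℂ) (fun x : nz K => (ψ : G → ℂ) x) = (p : ℂ) - b := by
      linear_combination h1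
    rw [this, map_sub, map_natCast, map_intCast]
  rw [h4] at h2
  rw [← classInner_conj_symm, h2]
  simp

include h c hI ht hζ₁ in
/-- a non-exceptional irreducible character orthogonal to `Ψ` is `χ₀` -/
theorem eq_chi0_gen (ψ : IrrCharacter G)
    (hψ : ∀ ξ : RelT K, classInner (star (ξ.1 : nz K → ℂ)) (ψ : G → ℂ) = 0)
    (h0 : classInner (PsiC star ζ₁) (ψ : G → ℂ) = 0) : (ψ : G → ℂ) = χ₀ := by
  have : Fintype (IrrCharacter (nz K)) := Fintype.ofFinite _
  have : Fintype (RelT K) := Fintype.ofFinite _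
  have hFchar : IsCharacter (nz K) (fun x : nz K => (ψ : G → ℂ) x) :=
    isCharacter_restrict _ (isCharacter_of_irr ψ.2)
  obtain ⟨p, hp⟩ := classInner_char_char_nat (piFun_isCharacter K) hFchar
  have hm := restrict_of_orth h c ζ₁ hζ₁ ψ hψ 0 (by rw [h0]; simp) p hp
  have hdeg := char_expand_gen h _ hFchar
  rw [hp, Finset.sum_congr rfl fun ζ _ => by rw [hm ζ]] at hdeg
  have hsum : ∑ ζ : RelT K, (ζ.1 : nz K → ℂ) 1 * ((mdeg h ζ : ℂ) * ((p : ℂ) - ((0 : ℤ) : ℂ))) =
      ((Nat.card K : ℂ) - 1) * p := by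
    rw [← sum_deg_mul h, Finset.sum_mul]
    refine Finset.sum_congr rfl fun ζ _ => ?_
    push_cast
    ring
  rw [hsum] at hdeg
  have hdeg' : (ψ : G → ℂ) 1 = ((p * Nat.card K : ℕ) : ℂ) := by
    change (ψ : G → ℂ) 1 = _ at hdeg
    rw [hdeg]
    push_cast
    ring
  have hp0 : p ≠ 0 := by
    rintro rfl
    have := Cfsg.Agent.Lib.H24.irr_one_ne_zero ψ
    rw [hdeg'] at this
    simp at this
  have hp' : classInner (piFun K) (fun x : nz K => (ψ : G → ℂ) x) ≠ 0 := by
    rw [hp]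
    exact_mod_cast hp0
  obtain ⟨η, hη, hne⟩ := exists_nonrel h _ hFchar hp'
  rcases hI.cases η hη ψ hne with h1 | h1 | h1
  · exfalso
    have := PsiC_one h c ht ζ₁
    rw [← h1, h0] at this
    exact zero_ne_one this
  · exact h1
  · exfalso
    rw [hdeg'] at h1
    have h2 : p * Nat.card K = Nat.card K + 1 := by exact_mod_cast h1
    have h3 : 2 ≤ Nat.card K := by
      have h4 := index_mul_Tsum h
      have h5 : 1 ≤ (K.subgroupOf (nz K)).index * Tsum h := by
        apply Nat.mul_pos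
        · exact Nat.pos_of_ne_zero Subgroup.index_ne_zero_of_finite
        · have h6 := mdeg_sq_le h ζ₁
          have h7 : 1 ≤ mdeg h ζ₁ ^ 2 := Nat.one_le_pow _ _ (mdeg_pos h ζ₁)
          omega
      omega
    have h4 : Nat.card K ∣ 1 := by
      have : Nat.card K ∣ Nat.card K + 1 := ⟨p, by rw [← h2]; ring⟩
      exact (Nat.dvd_add_right (dvd_refl _)).1 this
    have := Nat.le_of_dvd one_pos h4
    omega

include h c hI ht hζ₁ in
/-- the number of irreducible characters -/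
theorem card_irr_le_gen (cc : ℤ)
    (hc : classInner (PsiC star ζ₁) (star (ζ₁.1 : nz K → ℂ)) = cc) :
    (Nat.card (IrrCharacter G) : ℤ) + (Tsum h : ℤ) * cc ^ 2 ≤
      Nat.card (RelT K) + 1 + (K.subgroupOf (nz K)).index + 2 * cc := by
  have : Fintype (IrrCharacter G) := Fintype.ofFinite _
  have : Fintype (RelT K) := Fintype.ofFinite _
  have hgen := PsiC_genChar c ζ₁
  choose b hb using fun ψ : IrrCharacter G => genChar_classInner_irr_int hgen ψ.2
  have hnorm := PsiC_norm h c ζ₁ hζ₁ cc hc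
  rw [classInner_self_eq_sum _ (isClassFunction_of_isGeneralizedCharacter hgen)] at hnorm
  have hnormZ : ∑ ψ : IrrCharacter G, b ψ ^ 2 =
      ((K.subgroupOf (nz K)).index : ℤ) + 2 * cc := by
    have : ((∑ ψ : IrrCharacter G, b ψ ^ 2 : ℤ) : ℂ) =
        ((((K.subgroupOf (nz K)).index : ℤ) + 2 * cc : ℤ) : ℂ) := by
      push_cast
      rw [← hnorm]
      refine Finset.sum_congr rfl fun ψ _ => ?_
      rw [hb, map_intCast]
      ring
    exact_mod_cast this
  -- the exceptional characters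
  choose f σ hσ hf using fun ζ : RelT K => exists_irr c ζ
  have hσsq : ∀ ζ, σ ζ * σ ζ = 1 := by
    intro ζ
    rcases hσ ζ with h1 | h1 <;> rw [h1] <;> norm_num
  have hσconj : ∀ ζ, conj (σ ζ) = σ ζ := by
    intro ζ
    rcases hσ ζ with h1 | h1 <;> rw [h1] <;> simp
  have hσ0 : ∀ ζ, σ ζ ≠ 0 := by
    intro ζ
    rcases hσ ζ with h1 | h1 <;> rw [h1] <;> norm_num
  have hfinj : Function.Injective f := by
    intro ζ ξ hζξ
    by_contra hne
    have h1 := star_inner c ζ ξ
    rw [if_neg hne, hf ζ, hf ξ, hζξ, classInner_smul_left, classInner_smul_right,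
      irr_classInner_self (f ξ).2, hσconj, mul_one] at h1
    rcases mul_eq_zero.1 h1 with h2 | h2
    · exact hσ0 ζ h2
    · exact hσ0 ξ h2
  have hfstar : ∀ ζ : RelT K, ((f ζ : IrrCharacter G) : G → ℂ) = σ ζ • star (ζ.1 : nz K → ℂ) := by
    intro ζ
    rw [hf ζ, smul_smul, hσsq, one_smul]
  set E : Finset (IrrCharacter G) := Finset.univ.image f with hE
  have hEcard : E.card = Fintype.card (RelT K) := by
    rw [hE, Finset.card_image_of_injective _ hfinj, Finset.card_univ]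
  have hbE : ∀ ζ : RelT K, b (f ζ) ^ 2 = (mdeg h ζ : ℤ) ^ 2 * cc ^ 2 := by
    intro ζ
    have h1 := hb (f ζ)
    rw [hfstar ζ, classInner_smul_right, hσconj, PsiC_star h c ζ₁ hζ₁ ζ, hc] at h1
    have h2 : ((b (f ζ) ^ 2 : ℤ) : ℂ) = (((mdeg h ζ : ℤ) ^ 2 * cc ^ 2 : ℤ) : ℂ) := by
      push_cast
      rw [← h1]
      have := hσsq ζ
      linear_combination ((mdeg h ζ : ℂ) * cc) ^ 2 * this
    exact_mod_cast h2
  have hsplit := Finset.sum_add_sum_compl E (fun ψ => b ψ ^ 2)
  have hsumE : ∑ ψ ∈ E, b ψ ^ 2 = (Tsum h : ℤ) * cc ^ 2 := by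
    rw [hE, Finset.sum_image (fun x _ y _ hxy => hfinj hxy),
      Finset.sum_congr rfl fun ζ _ => hbE ζ, ← Finset.sum_mul, Tsum_eq h]
    push_cast
    rfl
  have horth : ∀ ψ : IrrCharacter G, ψ ∉ E → ∀ ξ : RelT K,
      classInner (star (ξ.1 : nz K → ℂ)) (ψ : G → ℂ) = 0 := by
    intro ψ hψ ξ
    rw [hf ξ, classInner_smul_left, irr_classInner_ne (f ξ).2 ψ.2, mul_zero]
    intro heq
    apply hψ
    rw [hE, Finset.mem_image]
    exact ⟨ξ, Finset.mem_univ _, Subtype.ext heq⟩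
  -- the others
  have hcompl : ((Eᶜ).card : ℤ) ≤ ∑ ψ ∈ Eᶜ, b ψ ^ 2 + 1 := by
    by_cases hex : ∃ ψ₀ ∈ Eᶜ, (ψ₀ : G → ℂ) = χ₀
    · obtain ⟨ψ₀, hψ₀, hψ₀eq⟩ := hex
      have h1 : ∀ ψ ∈ (Eᶜ).erase ψ₀, (1 : ℤ) ≤ b ψ ^ 2 := by
        intro ψ hψ
        rw [Finset.mem_erase, Finset.mem_compl] at hψ
        have hne : b ψ ≠ 0 := by
          intro hzero
          have h0 : classInner (PsiC star ζ₁) (ψ : G → ℂ) = 0 := by rw [hb, hzero]; simp
          have := eq_chi0_gen h c hI ht ζ₁ hζ₁ ψ (horth ψ hψ.2) h0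
          exact hψ.1 (Subtype.ext (this.trans hψ₀eq.symm))
        have : 0 < b ψ ^ 2 := by positivity
        omega
      have h2 := Finset.sum_le_sum h1
      rw [Finset.sum_const, nsmul_eq_mul, mul_one, Finset.card_erase_of_mem hψ₀] at h2
      have h3 : ∑ ψ ∈ (Eᶜ).erase ψ₀, b ψ ^ 2 ≤ ∑ ψ ∈ Eᶜ, b ψ ^ 2 :=
        Finset.sum_le_sum_of_subset_of_nonneg (Finset.erase_subset _ _)
          (fun ψ _ _ => by positivity)
      have h4 : 1 ≤ (Eᶜ).card := Finset.card_pos.2 ⟨ψ₀, hψ₀⟩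
      push_cast [Nat.cast_sub h4] at h2
      linarith
    · push Not at hex
      have h1 : ∀ ψ ∈ Eᶜ, (1 : ℤ) ≤ b ψ ^ 2 := by
        intro ψ hψ
        have hψ' := hψ
        rw [Finset.mem_compl] at hψ
        have hne : b ψ ≠ 0 := by
          intro hzero
          have h0 : classInner (PsiC star ζ₁) (ψ : G → ℂ) = 0 := by rw [hb, hzero]; simp
          exact hex ψ hψ' (eq_chi0_gen h c hI ht ζ₁ hζ₁ ψ (horth ψ hψ) h0)
        have : 0 < b ψ ^ 2 := by positivity
        omega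
      have h2 := Finset.sum_le_sum h1
      rw [Finset.sum_const, nsmul_eq_mul, mul_one] at h2
      linarith
  have hcardc : (Eᶜ).card = Fintype.card (IrrCharacter G) - Fintype.card (RelT K) := by
    rw [Finset.card_compl, hEcard]
  have hle : Fintype.card (RelT K) ≤ Fintype.card (IrrCharacter G) := by
    rw [← hEcard]
    exact Finset.card_le_univ _
  rw [Nat.card_eq_fintype_card, Nat.card_eq_fintype_card]
  rw [hcardc] at hcompl
  push_cast [Nat.cast_sub hle] at hcompl
  linarith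

include h c hI ht hζ₁ in
/-- if `Ψ` is orthogonal to the `ζ^τ`, these are irreducible characters restricting irreducibly to
the normalizer -/
theorem restrict_eq_gen (hc0 : classInner (PsiC star ζ₁) (star (ζ₁.1 : nz K → ℂ)) = 0)
    (he : 2 ≤ (K.subgroupOf (nz K)).index)
    (hbig : 2 * (K.subgroupOf (nz K)).index + 1 < Nat.card K) (ζ : RelT K) :
    IsIrrCharacter G (star (ζ.1 : nz K → ℂ)) ∧
      (fun x : nz K => star (ζ.1 : nz K → ℂ) x) = (ζ.1 : nz K → ℂ) := by
  have : Fintype (IrrCharacter (nz K)) := Fintype.ofFinite _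
  have : Fintype (RelT K) := Fintype.ofFinite _
  obtain ⟨f, σ, hσ, hf⟩ := exists_irr c ζ
  have hσsq : σ * σ = 1 := by rcases hσ with h1 | h1 <;> rw [h1] <;> norm_num
  have hσconj : conj σ = σ := by rcases hσ with h1 | h1 <;> rw [h1] <;> simp
  have hfstar : (f : G → ℂ) = σ • star (ζ.1 : nz K → ℂ) := by
    rw [hf, smul_smul, hσsq, one_smul]
  have hX0 : classInner (PsiC star ζ₁) (f : G → ℂ) = 0 := by
    rw [hfstar, classInner_smul_right, PsiC_star h c ζ₁ hζ₁ ζ, hc0]
    ring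
  have hcf := isClassFunction_of_isCharacter (isCharacter_of_irr f.2)
  have hFchar : IsCharacter (nz K) (fun x : nz K => (f : G → ℂ) x) :=
    isCharacter_restrict _ (isCharacter_of_irr f.2)
  obtain ⟨p, hp⟩ := classInner_char_char_nat (piFun_isCharacter K) hFchar
  -- the inner products with the `ξ^τ`
  have hs : ∀ ξ : RelT K, classInner (star (ξ.1 : nz K → ℂ)) (f : G → ℂ) =
      σ * (if ξ = ζ then 1 else 0) := by
    intro ξ
    rw [hfstar, classInner_smul_right, hσconj, star_inner c ξ ζ]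
  have hs' : ∀ ξ : RelT K, classInner (f : G → ℂ) (star (ξ.1 : nz K → ℂ)) =
      σ * (if ξ = ζ then 1 else 0) := by
    intro ξ
    rw [← classInner_conj_symm, hs ξ, map_mul, hσconj]
    split_ifs <;> simp
  have h1 := PsiC_inner_irr (star := star) ζ₁ f
  rw [hX0, hp, hs ζ₁] at h1
  have hA1 : classInner (fun x : nz K => (f : G → ℂ) x) (ζ₁.1 : nz K → ℂ) =
      (p : ℂ) + σ * (if ζ₁ = ζ then 1 else 0) := by
    rw [← classInner_conj_symm]
    have : classInner (ζ₁.1 : nz K → ℂ) (fun x : nz K => (f : G → ℂ) x) =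
        (p : ℂ) + σ * (if ζ₁ = ζ then 1 else 0) := by
      linear_combination h1
    rw [this, map_add, map_mul, hσconj, map_natCast]
    split_ifs <;> simp
  have hm : ∀ ξ : RelT K, classInner (ξ.1 : nz K → ℂ) (fun x : nz K => (f : G → ℂ) x) =
      (mdeg h ξ : ℂ) * p + σ * (if ξ = ζ then 1 else 0) := by
    intro ξ
    have h2 := restrict_rel h c ζ₁ hζ₁ (f : G → ℂ) hcf ξ
    rw [hA1, hs' ξ, hs' ζ₁] at h2
    rw [← classInner_conj_symm, h2]
    simp only [map_add, map_sub, map_mul, map_natCast, hσconj]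
    split_ifs <;> simp <;> ring
  have hdeg := char_expand_gen h _ hFchar
  change (f : G → ℂ) 1 = _ at hdeg
  rw [hp, Finset.sum_congr rfl fun ξ _ => by rw [hm ξ]] at hdeg
  have hsum : ∑ ξ : RelT K, (ξ.1 : nz K → ℂ) 1 *
      ((mdeg h ξ : ℂ) * p + σ * (if ξ = ζ then 1 else 0)) =
      ((Nat.card K : ℂ) - 1) * p + σ * (ζ.1 : nz K → ℂ) 1 := by
    rw [← sum_deg_mul h, Finset.sum_mul]
    have : ∀ ξ : RelT K, (ξ.1 : nz K → ℂ) 1 *
        ((mdeg h ξ : ℂ) * p + σ * (if ξ = ζ then 1 else 0)) =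
        (ξ.1 : nz K → ℂ) 1 * (mdeg h ξ : ℂ) * p +
          (if ξ = ζ then σ * (ξ.1 : nz K → ℂ) 1 else 0) := by
      intro ξ
      split_ifs <;> ring
    rw [Finset.sum_congr rfl fun ξ _ => this ξ, Finset.sum_add_distrib,
      Finset.sum_ite_eq' Finset.univ ζ, if_pos (Finset.mem_univ _)]
  rw [hsum, mdeg_spec h ζ] at hdeg
  -- integers
  obtain ⟨d, hdpos, hd⟩ := Cfsg.Agent.Lib.H24.irr_one_eq f
  obtain ⟨σz, hσz, hσzc⟩ : ∃ σz : ℤ, (σz = 1 ∨ σz = -1) ∧ (σz : ℂ) = σ := by
    rcases hσ with h1 | h1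
    · exact ⟨1, Or.inl rfl, by simp [h1]⟩
    · exact ⟨-1, Or.inr rfl, by simp [h1]⟩
  have hkT := index_mul_Tsum h
  have hmT := mdeg_sq_le h ζ
  have hmpos := mdeg_pos h ζ
  set e := (K.subgroupOf (nz K)).index with he'
  set m := mdeg h ζ with hm'
  obtain ⟨k, hk⟩ : ∃ k : ℕ, k = Nat.card K := ⟨_, rfl⟩
  obtain ⟨T, hT⟩ : ∃ T : ℕ, T = Tsum h := ⟨_, rfl⟩
  rw [← hk, ← hT] at hkT
  rw [← hT] at hmT
  rw [← hk] at hbig hdeg
  have hdegZ : (d : ℤ) = (p : ℤ) * k + σz * (e * m) := by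
    have : ((d : ℤ) : ℂ) = (((p : ℤ) * k + σz * (e * m) : ℤ) : ℂ) := by
      push_cast
      rw [hσzc, ← hd, hdeg]
      ring
    exact_mod_cast this
  have hem_le : e * m + 1 ≤ k := by
    have h3 : m ≤ m ^ 2 := by nlinarith
    have h4 : e * m ≤ e * T := Nat.mul_le_mul_left _ (h3.trans hmT)
    omega
  have hem_le' : ((e : ℤ) * m) + 1 ≤ k := by exact_mod_cast hem_le
  have hem_pos : (2 : ℤ) ≤ (e : ℤ) * m := by
    have : 2 * 1 ≤ e * m := Nat.mul_le_mul he hmpos
    exact_mod_cast this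
  have hdpos' : (0 : ℤ) < d := by exact_mod_cast hdpos
  by_cases hp0 : p = 0
  · -- the good case
    rw [hp0] at hdegZ hm
    have hσ1 : σz = 1 := by
      rcases hσz with h2 | h2
      · exact h2
      · rw [h2] at hdegZ
        push_cast at hdegZ
        linarith
    have hσ1' : σ = 1 := by rw [← hσzc, hσ1]; simp
    have hstar_eq : star (ζ.1 : nz K → ℂ) = (f : G → ℂ) := by rw [hf, hσ1', one_smul]
    rw [hstar_eq]
    refine ⟨f.2, ?_⟩
    apply eq_of_degree_eq hFchar ζ.1.2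
    · rw [← classInner_conj_symm, hm ζ, if_pos rfl, hσ1']
      simp
    · change (f : G → ℂ) 1 = _
      rw [hdeg, hp0, hσ1', mdeg_spec h ζ]
      simp [he', hm']
  · exfalso
    have hp' : classInner (piFun K) (fun x : nz K => (f : G → ℂ) x) ≠ 0 := by
      rw [hp]
      exact_mod_cast hp0
    obtain ⟨η, hη, hne⟩ := exists_nonrel h _ hFchar hp'
    have hp1 : (1 : ℤ) ≤ p := by
      have := Nat.pos_of_ne_zero hp0
      exact_mod_cast this
    have hk0 : (0 : ℤ) ≤ k := by positivity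
    rcases hI.cases η hη f hne with h2 | h2 | h2
    · have := PsiC_one h c ht ζ₁
      rw [← h2, hX0] at this
      exact zero_ne_one this
    · rw [h2, hI.deg, ← hk] at hd
      have h3 : (k : ℤ) = d := by exact_mod_cast hd
      rcases hσz with h4 | h4
      · rw [h4] at hdegZ
        nlinarith
      · rw [h4] at hdegZ
        rcases eq_or_lt_of_le hp1 with h5 | h5
        · rw [← h5] at hdegZ
          linarith
        · have : (2 : ℤ) * k ≤ p * k := by nlinarith
          linarith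
    · rw [h2, ← hk] at hd
      have h3 : (k : ℤ) + 1 = d := by exact_mod_cast hd
      rcases hσz with h4 | h4
      · rw [h4] at hdegZ
        nlinarith
      · rw [h4] at hdegZ
        rcases eq_or_lt_of_le hp1 with h5 | h5
        · rw [← h5] at hdegZ
          linarith
        · -- p ≥ 2: e m ≥ k - 1, so e m = k - 1 = e T, m = T = 1, k = e + 1
          have h6 : (2 : ℤ) * k ≤ p * k := by nlinarith
          have h7 : (e : ℤ) * m + 1 = k := by linarith
          have h8 : e * m + 1 = k := by exact_mod_cast h7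
          have h9 : e * m = e * T := by omega
          have hepos : 0 < e := by omega
          have h10 : m = T := Nat.eq_of_mul_eq_mul_left hepos h9
          have h11 : m = 1 := by
            rw [← h10] at hmT
            nlinarith
          rw [h11] at h8
          omega

end count

end Cfsg.Agent.Lib.H8.ZasCoh
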