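import Cfsg.Agent.Lib.H8.ZasCohB
import Cfsg.Agent.Lib.H4.Feit.ClassSum

/-!
# T.I. subgroup with Frobenius normalizer (helper8), part C: the number of conjugacy classes
meeting the subgroup is one more than the number of relevant characters of the normalizer
-/

set_option autoImplicit false
set_option linter.unusedSectionVars false

namespace Cfsg.Agent.Lib.H8.ZasCoh

open Cfsg Cfsg.Agent.Lib.L0 Cfsg.Agent.Lib.L0.FrobTI Cfsg.Agent.Lib.H8 Cfsg.Agent.Lib.H4.Feit
open scoped ComplexConjugate Classical

variable {G : Type*} [Group G] [Fintype G] {K : Subgroup G} [Fintype (nz K)]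

/-- the sum of the squares of the degrees of the irreducible characters of `N` trivial on `K` -/
theorem sum_nonrel_sq [Fintype (IrrCharacter (nz K))] :
    ∑ η ∈ Finset.univ.filter (fun η : IrrCharacter (nz K) => ¬ Rel K (η : nz K → ℂ)),
      (η : nz K → ℂ) 1 ^ 2 = ((K.subgroupOf (nz K)).index : ℂ) := by
  have hsq := sum_rel_sq (K := K)
  have hall := Cfsg.Agent.Lib.H24.sum_irr_one_sq (G := nz K)
  rw [← Finset.sum_filter_add_sum_filter_not Finset.univ
    (fun η : IrrCharacter (nz K) => Rel K (η : nz K → ℂ)), hsq] at hall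
  linear_combination hall

/-- the number of classes of `N` consisting of non-identity elements of `K` -/
theorem card_classes_nz (h : FrobTI K) :
    Nat.card {C : ConjClasses (nz K) // ∀ g : nz K, ConjClasses.mk g = C → ((g : G) ∈ K ∧ g ≠ 1)} =
      Nat.card (RelT K) := by
  have : Fintype (IrrCharacter (nz K)) := Fintype.ofFinite _
  have : Fintype (RelT K) := Fintype.ofFinite _
  have hp : ∀ g x : nz K, ((x : G) ∈ K ∧ x ≠ 1) → (((g * x * g⁻¹ : nz K) : G) ∈ K ∧
      g * x * g⁻¹ ≠ 1) := by
    rintro g x ⟨hx, hx1⟩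
    refine ⟨?_, ?_⟩
    · have := (Subgroup.mem_normalizer_iff.1 g.2 (x : G)).1 hx
      simpa using this
    · intro h1
      apply hx1
      have : x = g⁻¹ * (g * x * g⁻¹) * g := by group
      rw [this, h1]
      group
  have h1 := sum_card_centralizer_filter (G := nz K)
    (fun x : nz K => (x : G) ∈ K ∧ x ≠ 1) hp
  set t := Nat.card {C : ConjClasses (nz K) //
    ∀ g : nz K, ConjClasses.mk g = C → ((g : G) ∈ K ∧ g ≠ 1)} with ht
  -- second orthogonality
  have h2 : ∀ x : nz K, (Nat.card (Subgroup.centralizer ({x} : Set (nz K))) : ℂ) =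
      ∑ χ : IrrCharacter (nz K), (χ : nz K → ℂ) x * conj ((χ : nz K → ℂ) x) := by
    intro x
    rw [Cfsg.Agent.Lib.H24.second_orthogonality x x, if_pos (IsConj.refl x)]
  have h3 : ((t * Nat.card (nz K) : ℕ) : ℂ) =
      ∑ x ∈ Finset.univ.filter (fun x : nz K => (x : G) ∈ K ∧ x ≠ 1),
        ∑ χ : IrrCharacter (nz K), (χ : nz K → ℂ) x * conj ((χ : nz K → ℂ) x) := by
    rw [← h1, Nat.cast_sum]
    refine Finset.sum_congr ?_ fun x _ => h2 x
    ext x
    simp
  rw [Finset.sum_comm] at h3
  -- the cardinality of the filter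
  have hcardF : ((Finset.univ.filter (fun x : nz K => (x : G) ∈ K ∧ x ≠ 1)).card : ℂ) =
      (Nat.card K : ℂ) - 1 := by
    have h4 : (Finset.univ.filter (fun x : nz K => (x : G) ∈ K ∧ x ≠ 1)) =
        (Finset.univ.filter (fun x : nz K => (x : G) ∈ K)).erase 1 := by
      ext x
      simp only [Finset.mem_filter, Finset.mem_univ, true_and, Finset.mem_erase]
      tauto
    have h5 : (Finset.univ.filter (fun x : nz K => (x : G) ∈ K)).card = Nat.card K := by
      have : Nat.card K = Nat.card (K.subgroupOf (nz K)) :=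
        (Nat.card_congr (Subgroup.subgroupOfEquivOfLe Subgroup.le_normalizer).toEquiv).symm
      rw [this, Nat.card_eq_fintype_card, Fintype.card_subtype]
      congr 1
    rw [h4, Finset.card_erase_of_mem (by simp [K.one_mem]), h5]
    have : 1 ≤ Nat.card K := Nat.card_pos
    push_cast [Nat.cast_sub this]
    ring
  -- the contribution of each character
  have hterm : ∀ χ : IrrCharacter (nz K),
      ∑ x ∈ Finset.univ.filter (fun x : nz K => (x : G) ∈ K ∧ x ≠ 1),
        (χ : nz K → ℂ) x * conj ((χ : nz K → ℂ) x) =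
      if Rel K (χ : nz K → ℂ) then (Nat.card (nz K) : ℂ) - (χ : nz K → ℂ) 1 ^ 2
      else ((Nat.card K : ℂ) - 1) * (χ : nz K → ℂ) 1 ^ 2 := by
    intro χ
    obtain ⟨n, -, hn⟩ := Cfsg.Agent.Lib.H24.irr_one_eq χ
    split_ifs with hrel
    · have h4 := irr_classInner_self χ.2
      unfold classInner at h4
      have hN : (Nat.card (nz K) : ℂ) ≠ 0 := by exact_mod_cast (Nat.card_pos (α := nz K)).ne'
      have h5 : ∑ x : nz K, (χ : nz K → ℂ) x * conj ((χ : nz K → ℂ) x) = (Nat.card (nz K) : ℂ) := by
        field_simp at h4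
        linear_combination h4
      rw [← h5, ← Finset.sum_filter_add_sum_filter_not Finset.univ
        (fun x : nz K => (x : G) ∈ K ∧ x ≠ 1)]
      have h6 : ∑ x ∈ Finset.univ.filter (fun x : nz K => ¬ ((x : G) ∈ K ∧ x ≠ 1)),
          (χ : nz K → ℂ) x * conj ((χ : nz K → ℂ) x) = (χ : nz K → ℂ) 1 ^ 2 := by
        rw [Finset.sum_eq_single (1 : nz K)]
        · rw [hn, Complex.conj_natCast]
          ring
        · intro x hx hx1
          simp only [Finset.mem_filter, Finset.mem_univ, true_and, not_and, not_not] at hx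
          have hxK : (x : G) ∉ K := fun hxK => hx1 (hx hxK)
          rw [h.vanish χ.2 hrel x hxK, zero_mul]
        · intro h7
          exfalso
          apply h7
          simp
      rw [h6]
      ring
    · rw [Finset.sum_congr rfl (g := fun _ => (χ : nz K → ℂ) 1 ^ 2), Finset.sum_const,
        nsmul_eq_mul, hcardF]
      intro x hx
      simp only [Finset.mem_filter, Finset.mem_univ, true_and] at hx
      rw [not_rel_apply hrel x hx.1, hn, Complex.conj_natCast]
      ring
  rw [Finset.sum_congr rfl fun χ _ => hterm χ, Finset.sum_ite, Finset.sum_sub_distrib,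
    Finset.sum_const, nsmul_eq_mul, ← Finset.mul_sum, sum_rel_sq, sum_nonrel_sq] at h3
  have hcard : (Finset.univ.filter (fun ζ : IrrCharacter (nz K) => Rel K (ζ : nz K → ℂ))).card
      = Fintype.card (RelT K) := by
    symm
    apply Fintype.card_of_subtype
    intro ζ
    simp only [Finset.mem_filter, Finset.mem_univ, true_and]
    rfl
  rw [hcard] at h3
  have hNc : (Nat.card (nz K) : ℂ) = ((K.subgroupOf (nz K)).index : ℂ) * (Nat.card K : ℂ) := by
    have := card_nz_eq K
    exact_mod_cast this
  have hN0 : (Nat.card (nz K) : ℂ) ≠ 0 := by exact_mod_cast (Nat.card_pos (α := nz K)).ne'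
  have h8 : ((t : ℕ) : ℂ) * (Nat.card (nz K) : ℂ) =
      (Fintype.card (RelT K) : ℂ) * (Nat.card (nz K) : ℂ) := by
    push_cast at h3
    rw [h3]
    linear_combination (-1 : ℂ) * hNc
  have h9 := mul_right_cancel₀ hN0 h8
  rw [Nat.card_eq_fintype_card (α := RelT K)]
  exact_mod_cast h9

/-- the number of classes of `G` meeting `K` -/
theorem card_classes_meeting_gen (h : FrobTI K) :
    Nat.card (RelT K) + 1 ≤ Nat.card {C : ConjClasses G // ∃ g ∈ K, ConjClasses.mk g = C} := by
  rw [← card_classes_nz h]
  set P := {C : ConjClasses (nz K) // ∀ g : nz K, ConjClasses.mk g = C → ((g : G) ∈ K ∧ g ≠ 1)}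
  set Q := {C : ConjClasses G // ∃ g ∈ K, ConjClasses.mk g = C}
  have hrep : ∀ C : P, ∃ x : nz K, ConjClasses.mk x = C.1 := fun C => ConjClasses.exists_rep C.1
  choose r hr using hrep
  have hrK : ∀ C : P, ((r C : nz K) : G) ∈ K ∧ r C ≠ 1 := fun C => C.2 (r C) (hr C)
  let j : Option P → Q := fun o =>
    match o with
    | none => ⟨ConjClasses.mk 1, 1, K.one_mem, rfl⟩
    | some C => ⟨ConjClasses.mk ((r C : nz K) : G), _, (hrK C).1, rfl⟩
  have hj : Function.Injective j := by
    intro o o' hoo'
    match o, o' with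
    | none, none => rfl
    | none, some C =>
      exfalso
      have h1 : ConjClasses.mk (1 : G) = ConjClasses.mk ((r C : nz K) : G) :=
        congrArg Subtype.val hoo'
      rw [ConjClasses.mk_eq_mk_iff_isConj, isConj_one_right] at h1
      exact (hrK C).2 (Subtype.ext h1)
    | some C, none =>
      exfalso
      have h1 : ConjClasses.mk ((r C : nz K) : G) = ConjClasses.mk (1 : G) :=
        congrArg Subtype.val hoo'
      rw [ConjClasses.mk_eq_mk_iff_isConj, isConj_one_left] at h1
      exact (hrK C).2 (Subtype.ext h1)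
    | some C, some C' =>
      have h1 : ConjClasses.mk ((r C : nz K) : G) = ConjClasses.mk ((r C' : nz K) : G) :=
        congrArg Subtype.val hoo'
      rw [ConjClasses.mk_eq_mk_iff_isConj, isConj_iff] at h1
      obtain ⟨g, hg⟩ := h1
      have hgN : g ∈ nz K := by
        by_contra hgN
        have := h.hTI g hgN _ (hrK C).1 (by rw [hg]; exact (hrK C').1)
        exact (hrK C).2 (Subtype.ext this)
      have h2 : ConjClasses.mk (r C) = ConjClasses.mk (r C') := by
        rw [ConjClasses.mk_eq_mk_iff_isConj, isConj_iff]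
        exact ⟨⟨g, hgN⟩, Subtype.ext hg⟩
      rw [hr C, hr C'] at h2
      exact congrArg some (Subtype.ext h2)
  have := Nat.card_le_card_of_injective j hj
  rwa [Nat.card_eq_fintype_card (α := Option P), Fintype.card_option,
    ← Nat.card_eq_fintype_card] at this

end Cfsg.Agent.Lib.H8.ZasCoh
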