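import Cfsg.Agent.Lib.H8.ZasCohC
import Cfsg.Agent.Lib.H4.Feit.AbelianSimple
import Cfsg.Agent.Lib.H23.CentralChar

/-!
# Simple Zassenhaus groups with two point stabilizers of odd order and coherent kernel (helper8)

The kernel `H` of a point stabilizer, not necessarily abelian, with `S = Irr(N | H)` coherent:
`n - 2 ≤ 2 e`.
-/

set_option autoImplicit false
set_option linter.unusedSectionVars false

namespace Cfsg.Agent.Lib.H8.ZasCoh

open MulAction Cfsg Cfsg.Agent.Lib.H2.Zass Cfsg.Agent.Lib.H4.Zas Cfsg.Agent.Lib.L0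
  Cfsg.Agent.Lib.L0.FrobTI Cfsg.Agent.Lib.H8 Cfsg.Agent.Lib.H4.Feit
open scoped Classical ComplexConjugate

section general

variable {G : Type*} [Group G] [Fintype G]

theorem finsum_mul_classInner_comb (χ₁ χ₂ : IrrCharacter G) (a b : ℤ) (F : IrrCharacter G → ℂ) :
    ∑ᶠ χ : IrrCharacter G, F χ * classInner (b • (χ₁ : G → ℂ) - a • (χ₂ : G → ℂ)) (χ : G → ℂ)
      = (b : ℂ) * F χ₁ - (a : ℂ) * F χ₂ := by
  have := Fintype.ofFinite (IrrCharacter G)
  rw [finsum_eq_sum_of_fintype]
  have hinner : ∀ χ : IrrCharacter G,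
      classInner (b • (χ₁ : G → ℂ) - a • (χ₂ : G → ℂ)) (χ : G → ℂ)
      = (b : ℂ) * (if χ₁ = χ then 1 else 0) - (a : ℂ) * (if χ₂ = χ then 1 else 0) := by
    intro χ
    rw [classInner_sub_left, classInner_zsmul_left, classInner_zsmul_left,
      irr_classInner_eq χ₁.2 χ.2, irr_classInner_eq χ₂.2 χ.2]
    congr 2
    · by_cases hc : (χ₁ : G → ℂ) = χ
      · rw [if_pos hc, if_pos (Subtype.ext hc)]
      · rw [if_neg hc, if_neg (fun h => hc (congrArg Subtype.val h))]
    · by_cases hc : (χ₂ : G → ℂ) = χ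
      · rw [if_pos hc, if_pos (Subtype.ext hc)]
      · rw [if_neg hc, if_neg (fun h => hc (congrArg Subtype.val h))]
  simp only [hinner, mul_sub, Finset.sum_sub_distrib, mul_ite, mul_one, mul_zero,
    Finset.sum_ite_eq, Finset.mem_univ, if_true]
  ring

variable {K : Subgroup G} [Fintype (nz K)]

/-- two relevant characters take non-proportional values at a given non-identity element of `K` -/
theorem exists_rel_ne_gen (h : FrobTI K) (ζ₁ : RelT K)
    (hζ₁ : (ζ₁.1 : nz K → ℂ) 1 = ((K.subgroupOf (nz K)).index : ℂ))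
    (hbig : (K.subgroupOf (nz K)).index + 1 < Nat.card K)
    (u : nz K) (hu : (u : G) ∈ K) (hu1 : u ≠ 1) :
    ∃ ζ : RelT K, (ζ.1 : nz K → ℂ) u * (ζ₁.1 : nz K → ℂ) 1 ≠
      (ζ₁.1 : nz K → ℂ) u * (ζ.1 : nz K → ℂ) 1 := by
  have : Fintype (IrrCharacter (nz K)) := Fintype.ofFinite _
  have : Fintype (RelT K) := Fintype.ofFinite _
  by_contra hcon
  push Not at hcon
  set e := (K.subgroupOf (nz K)).index with he
  have he0 : (e : ℂ) ≠ 0 := index_ne_zero'
  set v := (ζ₁.1 : nz K → ℂ) u with hv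
  have hall : ∀ ζ : RelT K, (ζ.1 : nz K → ℂ) u = (mdeg h ζ : ℂ) * v := by
    intro ζ
    have h1 := hcon ζ
    rw [hζ₁, mdeg_spec h ζ] at h1
    have h2 : (e : ℂ) * ((ζ.1 : nz K → ℂ) u - (mdeg h ζ : ℂ) * v) = 0 := by
      linear_combination h1
    rcases mul_eq_zero.1 h2 with h3 | h3
    · exact absurd h3 he0
    · linear_combination h3
  have h1 := Cfsg.Agent.Lib.H24.sum_irr_one_mul (G := nz K) u
  rw [if_neg hu1, ← Finset.sum_filter_add_sum_filter_not Finset.univ
    (fun η : IrrCharacter (nz K) => Rel K (η : nz K → ℂ))] at h1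
  have h2 : ∑ η ∈ Finset.univ.filter (fun η : IrrCharacter (nz K) => Rel K (η : nz K → ℂ)),
      (η : nz K → ℂ) 1 * (η : nz K → ℂ) u = ((Nat.card K : ℂ) - 1) * v := by
    rw [sum_rel_eq (K := K) (fun η : IrrCharacter (nz K) => (η : nz K → ℂ) 1 * (η : nz K → ℂ) u),
      ← sum_deg_mul h, Finset.sum_mul]
    refine Finset.sum_congr rfl fun ζ _ => ?_
    rw [hall ζ]
    ring
  have h3 : ∑ η ∈ Finset.univ.filter (fun η : IrrCharacter (nz K) => ¬ Rel K (η : nz K → ℂ)),
      (η : nz K → ℂ) 1 * (η : nz K → ℂ) u = (e : ℂ) := by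
    rw [← sum_nonrel_sq (K := K)]
    refine Finset.sum_congr rfl fun η hη => ?_
    rw [not_rel_apply (Finset.mem_filter.mp hη).2 u hu, pow_two]
  rw [h2, h3] at h1
  obtain ⟨k, hk⟩ : ∃ k : ℕ, k = Nat.card K := ⟨_, rfl⟩
  rw [← hk] at h1 hbig
  have hk1 : ((k : ℂ) - 1) ≠ 0 := by
    have : ((k - 1 : ℕ) : ℂ) ≠ 0 := by
      have : k - 1 ≠ 0 := by omega
      exact_mod_cast this
    have h4 : 1 ≤ k := by omega
    push_cast [Nat.cast_sub h4] at this
    exact this
  have hvq : v = ((-(e : ℚ) / ((k : ℚ) - 1) : ℚ) : ℂ) := by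
    push_cast
    rw [eq_div_iff hk1]
    linear_combination h1
  have hint : IsIntegral ℤ v := isCharacter_isIntegral (isCharacter_of_irr ζ₁.1.2) u
  obtain ⟨z, hz⟩ := int_of_isIntegral_of_rat hint _ hvq
  rw [hz] at h1
  have h5 : ((k : ℤ) - 1) * z + e = 0 := by exact_mod_cast h1
  have hepos : (0 : ℤ) < e := by
    have : 0 < e := Nat.pos_of_ne_zero Subgroup.index_ne_zero_of_finite
    exact_mod_cast this
  have hbig' : (e : ℤ) + 1 < k := by exact_mod_cast hbig
  rcases lt_trichotomy z 0 with hz0 | hz0 | hz0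
  · have : ((k : ℤ) - 1) * z ≤ ((k : ℤ) - 1) * (-1) :=
      mul_le_mul_of_nonneg_left (by omega) (by omega)
    omega
  · rw [hz0] at h5
    omega
  · have : 0 < ((k : ℤ) - 1) * z := mul_pos (by omega) hz0
    omega

end general

variable {G Ω : Type*} [Group G] [MulAction G Ω] [Fintype G] [Fintype Ω]

section odd

variable (hS : OddSimple G Ω) {H : Subgroup G} {a : Ω} (hH : IsKer H a)

include hS hH in
/-- the ways of writing an involution of the kernel as a product of two involutions -/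
theorem rInv_of_invol' (hn : Fintype.card Ω % 2 = 1) {b : Ω} (hab : a ≠ b)
    {y : G} (hy : y ∈ H) (hy2 : orderOf y = 2) :
    rInv y + 1 = Nat.card ↥(stabilizer G a ⊓ stabilizer G b) := by
  rw [← hS.card_invol_mem hH hn hab]
  have hy1 : y ≠ 1 := by
    rintro rfl
    rw [orderOf_one] at hy2
    omega
  have hyy : y * y = 1 := by rw [← pow_two, ← hy2]; exact pow_orderOf_eq_one y
  have hset : (Finset.univ.filter fun x : G => orderOf x = 2 ∧ orderOf (x⁻¹ * y) = 2) =
      (Finset.univ.filter fun x : G => orderOf x = 2 ∧ x ∈ H).erase y := by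
    ext x
    simp only [Finset.mem_filter, Finset.mem_univ, true_and, Finset.mem_erase]
    constructor
    · rintro ⟨h1, h2⟩
      have hprod : x * (x⁻¹ * y) = y := by group
      have := hS.mem_of_mul_mem hH h1 h2 (by rw [hprod]; exact hy) (by rw [hprod]; exact hy1)
      refine ⟨?_, h1, this.1⟩
      rintro rfl
      rw [inv_mul_cancel, orderOf_one] at h2
      omega
    · rintro ⟨h1, h2, h3⟩
      refine ⟨h2, ?_⟩
      have hxx : x * x = 1 := by rw [← pow_two, ← h2]; exact pow_orderOf_eq_one x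
      have hxinv := inv_eq_self_of_orderOf_two h2
      apply orderOf_eq_prime
      · rw [pow_two, hxinv]
        calc x * y * (x * y) = x * (y * x) * y := by group
          _ = x * (x * y) * y := by rw [hS.invol_comm hH hab hy2 hy h3]
          _ = (x * x) * (y * y) := by group
          _ = 1 := by rw [hxx, hyy, one_mul]
      · intro h
        apply h1
        rw [hxinv] at h
        have := eq_inv_of_mul_eq_one_left h
        rw [this, inv_eq_self_of_orderOf_two hy2]
  unfold rInv
  rw [hset, Finset.card_erase_of_mem (by simp [hy, hy2])]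
  have : 0 < (Finset.univ.filter fun x : G => orderOf x = 2 ∧ x ∈ H).card :=
    Finset.card_pos.2 ⟨y, by simp [hy, hy2]⟩
  omega

include hS hH in
/-- a non-identity element of the kernel which is not an involution is not a product of two
involutions -/
theorem rInv_of_not_invol' {b : Ω} (hab : a ≠ b) {y : G} (hy : y ∈ H)
    (hy1 : y ≠ 1) (hy2 : orderOf y ≠ 2) : rInv y = 0 := by
  unfold rInv
  rw [Finset.card_eq_zero, Finset.filter_eq_empty_iff]
  rintro x - ⟨h1, h2⟩
  apply hy2
  have hprod : x * (x⁻¹ * y) = y := by group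
  obtain ⟨hx, hxy⟩ := hS.mem_of_mul_mem hH h1 h2 (by rw [hprod]; exact hy)
    (by rw [hprod]; exact hy1)
  have hxx : x * x = 1 := by rw [← pow_two, ← h1]; exact pow_orderOf_eq_one x
  have hzz : (x⁻¹ * y) * (x⁻¹ * y) = 1 := by rw [← pow_two, ← h2]; exact pow_orderOf_eq_one _
  apply orderOf_eq_prime
  · rw [pow_two]
    calc y * y = x * (x⁻¹ * y) * (x * (x⁻¹ * y)) := by rw [hprod]
      _ = x * ((x⁻¹ * y) * x) * (x⁻¹ * y) := by group
      _ = x * (x * (x⁻¹ * y)) * (x⁻¹ * y) := by rw [← hS.invol_comm hH hab h1 hx hxy]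
      _ = (x * x) * ((x⁻¹ * y) * (x⁻¹ * y)) := by group
      _ = 1 := by rw [hxx, hzz, one_mul]
  · exact hy1

include hS hH in
/-- the index in the point stabilizer of the centralizer of an involution of the kernel -/
theorem index_centralizer_invol {b : Ω} (hab : a ≠ b) {t : nz H} (ht : orderOf (t : G) = 2)
    (htH : (t : G) ∈ H) :
    (Subgroup.centralizer ({t} : Set (nz H))).index =
      Nat.card ↥(stabilizer G a ⊓ stabilizer G b) := by
  rw [← hS.index_eq hH hab]
  congr 1
  ext x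
  have hcen := hS.centralizer_invol_eq hH hab ht htH
  have hmem : ∀ g : G, g ∈ H ↔ g ∈ Subgroup.centralizer ({(t : G)} : Set G) := fun g => by
    rw [hcen]
  have hiff : (x : G) ∈ H ↔ (x : G) * (t : G) = (t : G) * (x : G) := by
    rw [hmem, Subgroup.mem_centralizer_singleton_iff]
  rw [Subgroup.mem_centralizer_singleton_iff, Subgroup.mem_subgroupOf, hiff]
  constructor
  · intro hx
    have := congrArg Subtype.val hx
    simpa using this
  · intro hx
    apply Subtype.ext
    simpa using hx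

end odd

end Cfsg.Agent.Lib.H8.ZasCoh
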