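import Cfsg.Agent.Lib.H8.ZasCohD

/-!
# Simple Zassenhaus groups with two point stabilizers of odd order and coherent kernel (helper8),
part E: the inequality `n - 2 ≤ 2 e`
-/

set_option autoImplicit false
set_option linter.unusedSectionVars false

namespace Cfsg.Agent.Lib.H8.ZasCoh

open MulAction Cfsg Cfsg.Agent.Lib.H2.Zass Cfsg.Agent.Lib.H4.Zas Cfsg.Agent.Lib.L0
  Cfsg.Agent.Lib.L0.FrobTI Cfsg.Agent.Lib.H8 Cfsg.Agent.Lib.H4.Feit
open scoped Classical ComplexConjugate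

variable {G Ω : Type*} [Group G] [MulAction G Ω] [Fintype G] [Fintype Ω]

variable (hS : OddSimple G Ω) {H : Subgroup G} {a : Ω} (hH : IsKer H a)
variable {S : Set (nz H → ℂ)} {star : (nz H → ℂ) → (G → ℂ)}

include hS hH in
theorem main_count_gen (c : Coh H S star) (ζ₁ : RelT H)
    (hζ₁ : (ζ₁.1 : nz H → ℂ) 1 = ((H.subgroupOf (nz H)).index : ℂ)) {b : Ω} (hab : a ≠ b)
    (hlt : 2 * Nat.card ↥(stabilizer G a ⊓ stabilizer G b) + 2 < Fintype.card Ω) :
    2 ≤ Nat.card (RelT H) ∧ 3 ≤ Tsum (hS.frobTI hH) ∧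
      classInner (PsiC star ζ₁) (star (ζ₁.1 : nz H → ℂ)) = 0 ∧
      Nat.card {C : ConjClasses G // ∀ g : G, ConjClasses.mk g = C → g ∉ H} ≤
        Nat.card ↥(stabilizer G a ⊓ stabilizer G b) := by
  have hP := hS.pre
  have hF := hS.frobTI hH
  have hidx := hS.index_eq hH hab
  have hkT := index_mul_Tsum hF
  have hHc := hH.card
  set e := Nat.card ↥(stabilizer G a ⊓ stabilizer G b) with he
  rw [hidx] at hkT
  set T := Tsum hF with hT
  have hepos : 0 < e := Nat.card_pos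
  have hT3 : 3 ≤ T := by
    by_contra hcon
    push Not at hcon
    have : e * T ≤ e * 2 := Nat.mul_le_mul_left _ (by omega)
    omega
  have ht : 2 ≤ Nat.card (RelT H) := by
    by_contra hcon
    push Not at hcon
    haveI : Fintype (RelT H) := Fintype.ofFinite _
    have hsub : Subsingleton (RelT H) := by
      rw [← Finite.card_le_one_iff_subsingleton]
      omega
    have h1 : T = mdeg hF ζ₁ ^ 2 := by
      rw [hT, Tsum_eq hF]
      apply Finset.sum_eq_single ζ₁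
      · intro ξ _ hξ
        exact absurd (Subsingleton.elim ξ ζ₁) hξ
      · intro h2
        exact absurd (Finset.mem_univ _) h2
    rw [mdeg_eq_one hF ζ₁ hζ₁] at h1
    omega
  obtain ⟨cc, hcc⟩ := genChar_classInner_int (PsiC_genChar c ζ₁) (star_genChar c ζ₁)
  have hle := card_irr_le_gen hF c (hS.indHyp hH) ht ζ₁ hζ₁ cc hcc
  rw [hidx, Cfsg.Agent.Lib.H24.card_irr_eq_card_conjClasses, card_conjClasses_eq (K := H)] at hle
  have hmeet := card_classes_meeting_gen hF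
  have hmiss := hS.classes_ge hH hab hlt
  rw [← hT] at hle
  set t := Nat.card (RelT H)
  set m₁ := Nat.card {C : ConjClasses G // ∃ g ∈ H, ConjClasses.mk g = C}
  set m₂ := Nat.card {C : ConjClasses G // ∀ g : G, ConjClasses.mk g = C → g ∉ H}
  push_cast at hle
  have hm₁ : (t : ℤ) + 1 ≤ m₁ := by exact_mod_cast hmeet
  have hm₂ : (e : ℤ) ≤ m₂ := by exact_mod_cast hmiss
  have hT3' : (3 : ℤ) ≤ T := by exact_mod_cast hT3
  have hc0 : cc = 0 := by
    by_contra hc0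
    have h1 : (T : ℤ) * cc ^ 2 ≤ 2 * cc := by linarith
    have h2 : 2 * cc ≤ 2 * |cc| := by
      have := le_abs_self cc
      linarith
    have h3 : |cc| ≤ cc ^ 2 := by
      have h4 : 1 ≤ |cc| := Int.one_le_abs hc0
      have h5 : cc ^ 2 = |cc| * |cc| := by rw [abs_mul_abs_self cc]; ring
      rw [h5]
      nlinarith
    have h6 : 0 < cc ^ 2 := by positivity
    nlinarith
  refine ⟨ht, hT3, by rw [hcc, hc0]; simp, ?_⟩
  rw [hc0] at hle
  have : (m₂ : ℤ) ≤ e := by linarith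
  exact_mod_cast this

include hS hH in
/-- odd degree, coherent kernel: `n - 2 ≤ 2 e` -/
theorem false_of_odd_gen (hn : Fintype.card Ω % 2 = 1) {b : Ω} (hab : a ≠ b)
    (c : Coh H S star) (ζ₁ : RelT H)
    (hζ₁ : (ζ₁.1 : nz H → ℂ) 1 = ((H.subgroupOf (nz H)).index : ℂ))
    (hlt : 2 * Nat.card ↥(stabilizer G a ⊓ stabilizer G b) + 2 < Fintype.card Ω) : False := by
  have hP := hS.pre
  have hF := hS.frobTI hH
  obtain ⟨ht, -, hc0, -⟩ := main_count_gen hS hH c ζ₁ hζ₁ hab hlt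
  have hidx := hS.index_eq hH hab
  have he2 := hS.two_le_card_inf hab
  have hn3 := three_le_card hP
  have hHc := hH.card
  obtain ⟨e, he⟩ : ∃ e : ℕ, e = Nat.card ↥(stabilizer G a ⊓ stabilizer G b) := ⟨_, rfl⟩
  rw [← he] at hidx he2 hlt
  have hres := restrict_eq_gen hF c (hS.indHyp hH) ht ζ₁ hζ₁ hc0 (by rw [hidx]; exact he2)
    (by rw [hidx]; omega)
  obtain ⟨t, htH, ht2⟩ := hS.exists_invol_mem hH hn hab
  have htN : t ∈ nz H := Subgroup.le_normalizer htH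
  obtain ⟨t', ht'⟩ : ∃ t' : nz H, t' = ⟨t, htN⟩ := ⟨_, rfl⟩
  have ht'c : (t' : G) = t := by rw [ht']
  have ht'1 : t' ≠ 1 := by
    intro h
    have : t = 1 := by rw [← ht'c, h]; rfl
    rw [this, orderOf_one] at ht2
    omega
  obtain ⟨ζ, hne⟩ := exists_rel_ne_gen hF ζ₁ hζ₁ (by rw [hidx]; omega) t'
    (by rw [ht'c]; exact htH) ht'1
  obtain ⟨m, hm⟩ : ∃ m : ℕ, m = mdeg hF ζ := ⟨_, rfl⟩
  have hmpos : 0 < m := by rw [hm]; exact mdeg_pos hF ζ
  have ha' : (ζ.1 : nz H → ℂ) 1 = ((e * m : ℕ) : ℂ) := by rw [rel_one_nat hF ζ, hidx, hm]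
  have hb' : (ζ₁.1 : nz H → ℂ) 1 = ((e : ℕ) : ℂ) := by rw [hζ₁, hidx]
  obtain ⟨f, hf⟩ : ∃ f : nz H → ℂ, f = base (ζ.1 : nz H → ℂ) (ζ₁.1 : nz H → ℂ) (e * m) e :=
    ⟨_, rfl⟩
  have d1 : IsClassFunction (nz H) f := by
    rw [hf]; exact base_isClassFunction ζ.1.2 ζ₁.1.2 _ _
  have d2 : ∀ x : nz H, (x : G) ∉ H → f x = 0 := by
    rw [hf]; exact c.base_vanish hF (rel_mem c ζ) (rel_mem c ζ₁) _ _
  have d3 : f 1 = 0 := by
    rw [hf, base_apply, ha', hb']
    push_cast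
    ring
  have key := sum_mul_card_pairs (nz H) f t
  -- the left hand side
  have hL : ∀ y : nz H, f y *
      (Nat.card {p : G × G // IsConj t p.1 ∧ IsConj t p.2 ∧ p.1 * p.2 = (y : G)} : ℂ) =
      if orderOf (y : G) = 2 ∧ (y : G) ∈ H then f t' * ((e : ℂ) - 1) else 0 := by
    intro y
    rw [hS.card_pairs_eq ht2]
    by_cases hyH : (y : G) ∈ H
    · by_cases hy2 : orderOf (y : G) = 2
      · rw [if_pos ⟨hy2, hyH⟩, hS.classFun_invol_eq hH d1 (t := t') (by rw [ht'c]; exact ht2)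
          (by rw [ht'c]; exact htH) hy2 hyH]
        have := rInv_of_invol' hS hH hn hab hyH hy2
        rw [← he] at this
        have h2 : (rInv (y : G) : ℂ) = (e : ℂ) - 1 := by
          rw [← this]
          push_cast
          ring
        rw [h2]
      · rw [if_neg (fun h => hy2 h.1)]
        by_cases hy1 : y = 1
        · rw [hy1, d3, zero_mul]
        · rw [rInv_of_not_invol' hS hH hab hyH (fun h => hy1 (Subtype.ext h)) hy2]
          simp
    · rw [if_neg (fun h => hyH h.2), d2 y hyH, zero_mul]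
  rw [Finset.sum_congr rfl fun y _ => hL y, ← Finset.sum_filter, Finset.sum_const,
    nsmul_eq_mul] at key
  have hcardT : (Finset.univ.filter fun y : nz H => orderOf (y : G) = 2 ∧ (y : G) ∈ H).card = e := by
    rw [he, ← hS.card_invol_mem hH hn hab]
    refine Finset.card_bij (fun y _ => (y : G)) ?_ ?_ ?_
    · intro y hy
      simp only [Finset.mem_filter, Finset.mem_univ, true_and] at hy ⊢
      exact hy
    · intro y _ z _ hyz
      exact Subtype.ext hyz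
    · intro y hy
      simp only [Finset.mem_filter, Finset.mem_univ, true_and] at hy
      exact ⟨⟨y, Subgroup.le_normalizer hy.2⟩, Finset.mem_filter.2 ⟨Finset.mem_univ _, hy⟩, rfl⟩
  rw [hcardT] at key
  -- the right hand side
  obtain ⟨Λ, hΛ⟩ : ∃ Λ : IrrCharacter G, (Λ : G → ℂ) = star (ζ.1 : nz H → ℂ) :=
    ⟨⟨_, (hres ζ).1⟩, rfl⟩
  obtain ⟨Λ₁, hΛ₁⟩ : ∃ Λ₁ : IrrCharacter G, (Λ₁ : G → ℂ) = star (ζ₁.1 : nz H → ℂ) :=
    ⟨⟨_, (hres ζ₁).1⟩, rfl⟩
  have hind : indFun (nz H) f =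
      ((e : ℕ) : ℤ) • (Λ : G → ℂ) - ((e * m : ℕ) : ℤ) • (Λ₁ : G → ℂ) := by
    rw [hf, ← c.hext _ (base_mem_zspanOn (rel_mem c ζ) (rel_mem c ζ₁) ha' hb'),
      c.star_base (rel_mem c ζ) (rel_mem c ζ₁), hΛ, hΛ₁]
  have hfs := finsum_mul_classInner_comb Λ Λ₁ ((e * m : ℕ) : ℤ) ((e : ℕ) : ℤ)
    (fun χ : IrrCharacter G => (χ : G → ℂ) t * (χ : G → ℂ) t / (χ : G → ℂ) 1)
  rw [hind, hfs] at key
  have hval : ∀ ξ : RelT H, star (ξ.1 : nz H → ℂ) t = (ξ.1 : nz H → ℂ) t' ∧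
      star (ξ.1 : nz H → ℂ) 1 = (ξ.1 : nz H → ℂ) 1 := by
    intro ξ
    have h1 := (hres ξ).2
    constructor
    · have := congrFun h1 t'
      simp only [ht'c] at this
      exact this
    · have := congrFun h1 1
      simp only [Subgroup.coe_one] at this
      exact this
  simp only [hΛ, hΛ₁] at key
  rw [(hval ζ).1, (hval ζ).2, (hval ζ₁).1, (hval ζ₁).2, ha', hb', hS.card_conj_invol hn hab ht2,
    hS.card_nz hH hab, card_eq hP a b hab, Nat.card_eq_fintype_card (α := Ω), ← he] at key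
  obtain ⟨A0, hA0⟩ : ∃ A0 : ℂ, A0 = (ζ.1 : nz H → ℂ) t' := ⟨_, rfl⟩
  obtain ⟨B0, hB0⟩ : ∃ B0 : ℂ, B0 = (ζ₁.1 : nz H → ℂ) t' := ⟨_, rfl⟩
  have hft : f t' = (e : ℂ) * A0 - ((e : ℂ) * m) * B0 := by
    rw [hf, base_apply, hA0, hB0]
    push_cast
    ring
  rw [hft, ← hA0, ← hB0] at key
  rw [← hA0, ← hB0, ha', hb'] at hne
  have hE : (e : ℂ) ≠ 0 := by
    have : e ≠ 0 := by omega
    exact_mod_cast this
  have hM : (m : ℂ) ≠ 0 := by exact_mod_cast hmpos.ne'
  have hN : (Fintype.card Ω : ℂ) ≠ 0 := by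
    have : Fintype.card Ω ≠ 0 := by omega
    exact_mod_cast this
  have hN1 : ((Fintype.card Ω - 1 : ℕ) : ℂ) ≠ 0 := by
    have : Fintype.card Ω - 1 ≠ 0 := by omega
    exact_mod_cast this
  have hAB : A0 - (m : ℂ) * B0 ≠ 0 := by
    intro h0
    apply hne
    push_cast
    linear_combination (e : ℂ) * h0
  have hmain : (e : ℂ) - 1 = (Fintype.card Ω : ℂ) * (A0 / m + B0) := by
    push_cast at key
    have h1 : (e : ℂ) * (e : ℂ) * (A0 - (m : ℂ) * B0) * ((e : ℂ) - 1) =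
        (e : ℂ) * (e : ℂ) * (A0 - (m : ℂ) * B0) * ((Fintype.card Ω : ℂ) * (A0 / m + B0)) := by
      have h2 : (e : ℂ) * (e : ℂ) * (A0 - (m : ℂ) * B0) * ((e : ℂ) - 1) =
          (e : ℂ) * (((e : ℂ) * A0 - (e : ℂ) * m * B0) * ((e : ℂ) - 1)) := by ring
      rw [h2, key]
      field_simp
      ring
    exact mul_left_cancel₀ (mul_ne_zero (mul_ne_zero hE hE) hAB) h1
  -- integrality
  have hcc1 := index_centralizer_invol hS hH hab (t := t') (by rw [ht'c]; exact ht2)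
    (by rw [ht'c]; exact htH)
  have hintA : IsIntegral ℤ (A0 / m) := by
    have h1 := Cfsg.Agent.Lib.H23.isIntegral_centralChar (ζ.1 : nz H → ℂ) ζ.1.2 t'
    have h2 : centralChar (ζ.1 : nz H → ℂ) t' = A0 / m := by
      unfold centralChar
      rw [hcc1, ← he, ha', ← hA0]
      push_cast
      field_simp
    rwa [h2] at h1
  have hintB : IsIntegral ℤ B0 := by
    rw [hB0]
    exact isCharacter_isIntegral (isCharacter_of_irr ζ₁.1.2) t'
  have hint : IsIntegral ℤ (A0 / m + B0) := IsIntegral.add hintA hintB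
  have hq : A0 / m + B0 = ((((e : ℚ) - 1) / (Fintype.card Ω : ℚ) : ℚ) : ℂ) := by
    push_cast
    rw [eq_div_iff hN, hmain]
    ring
  obtain ⟨z, hz⟩ := int_of_isIntegral_of_rat hint _ hq
  rw [hz] at hmain
  have h3 : (e : ℤ) - 1 = (Fintype.card Ω : ℤ) * z := by exact_mod_cast hmain
  have he2' : (2 : ℤ) ≤ e := by exact_mod_cast he2
  have hlt' : (2 : ℤ) * e + 2 < Fintype.card Ω := by exact_mod_cast hlt
  rcases le_or_gt z 0 with hz0 | hz0
  · have : (Fintype.card Ω : ℤ) * z ≤ 0 :=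
      mul_nonpos_of_nonneg_of_nonpos (by positivity) hz0
    omega
  · have : (Fintype.card Ω : ℤ) * 1 ≤ (Fintype.card Ω : ℤ) * z :=
      mul_le_mul_of_nonneg_left (by omega) (by positivity)
    omega

include hS hH in
/-- Feit's inequality for a coherent kernel, simple case -/
theorem coherent_bound {b : Ω} (hab : a ≠ b) (c : Coh H S star) (ζ₁ : RelT H)
    (hζ₁ : (ζ₁.1 : nz H → ℂ) 1 = ((H.subgroupOf (nz H)).index : ℂ)) :
    Fintype.card Ω ≤ 2 * Nat.card ↥(stabilizer G a ⊓ stabilizer G b) + 2 := by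
  by_contra hlt
  push Not at hlt
  rcases Nat.mod_two_eq_zero_or_one (Fintype.card Ω) with hn | hn
  · obtain ⟨-, hT3, -, hcls⟩ := main_count_gen hS hH c ζ₁ hζ₁ hab hlt
    have hkT := index_mul_Tsum (hS.frobTI hH)
    rw [hS.index_eq hH hab] at hkT
    have hHc := hH.card
    obtain ⟨k, hk⟩ := hS.odd a b hab
    apply hS.false_of_even hH hn hab hcls
    obtain ⟨e, he⟩ : ∃ e : ℕ, e = Nat.card ↥(stabilizer G a ⊓ stabilizer G b) := ⟨_, rfl⟩
    rw [← he] at hkT hlt hk ⊢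
    obtain ⟨T, hT⟩ : ∃ T : ℕ, T = Tsum (hS.frobTI hH) := ⟨_, rfl⟩
    rw [← hT] at hkT hT3
    have hteven : T % 2 = 0 := by
      have h1 : (e * T) % 2 = 0 := by omega
      rw [Nat.mul_mod, hk] at h1
      have : (2 * k + 1) % 2 = 1 := by omega
      rw [this] at h1
      rcases Nat.mod_two_eq_zero_or_one T with h | h
      · exact h
      · rw [h] at h1
        simp at h1
    have ht4 : 4 ≤ T := by omega
    have : e * 4 ≤ e * T := Nat.mul_le_mul_left _ ht4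
    omega
  · exact false_of_odd_gen hS hH hn hab c ζ₁ hζ₁ hlt

end Cfsg.Agent.Lib.H8.ZasCoh
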