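import Cfsg.Agent.Lib.H8.ZasCohE
import Cfsg.Agent.Lib.H8.FrobKernelNil
import Cfsg.Agent.Lib.H8.FeitFrob
import Cfsg.Agent.Lib.H8.CohExtend
import Cfsg.Agent.S1534

/-!
# Feit's theorem on Zassenhaus groups with two point stabilizers of odd order (helper8), part F:
the simple case
-/

set_option autoImplicit false
set_option linter.unusedSectionVars false

namespace Cfsg.Agent.Lib.H8.ZasCoh

open MulAction Cfsg Cfsg.Agent.Lib.H2.Zass Cfsg.Agent.Lib.H4.Zas Cfsg.Agent.Lib.L0
  Cfsg.Agent.Lib.L0.FrobTI Cfsg.Agent.Lib.H8 Cfsg.Agent.Lib.H4.Feit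
open scoped Classical ComplexConjugate

variable {G Ω : Type*} [Group G] [MulAction G Ω] [Fintype G] [Fintype Ω]

theorem subgroupOf_commutator_eq {G : Type*} [Group G] (H : Subgroup G) :
    (⁅H, H⁆).subgroupOf H = commutator H := by
  rw [← Subgroup.map_subtype_commutator H]
  exact Subgroup.comap_map_eq_self_of_injective (Subgroup.subtype_injective H) _

variable (hS : OddSimple G Ω) {H : Subgroup G} {a : Ω} (hH : IsKer H a)

include hS hH in
/-- Feit's theorem, simple case -/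
theorem simple_dichotomy {b : Ω} (hab : a ≠ b) :
    Fintype.card Ω ≤ 2 * Nat.card ↥(stabilizer G a ⊓ stabilizer G b) + 2 ∨
      (IsPGroup 2 H ∧ (∃ u v : H, u * v ≠ v * u) ∧
        (commutator H).index ≤ 4 * Nat.card ↥(stabilizer G a ⊓ stabilizer G b) ^ 2 + 1) := by
  by_cases habel : ∀ x ∈ H, ∀ y ∈ H, x * y = y * x
  · exact Or.inl (hS.abelian_bound hH hab habel)
  have hF := hS.frobTI hH
  have hlt := hS.lt_nz hH
  have hidx := hS.index_eq hH hab
  have hHc := hH.card
  have hnil : Group.IsNilpotent H := by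
    apply nilpotent_of_frobenius_kernel H (nz H) hlt
    · intro x hx y hy
      exact (Subgroup.mem_normalizer_iff.1 hx y).1 hy
    · intro y hy hy1 x hx
      exact hF.hC y hy hy1 hx.2
  have hna : ∃ u v : H, u * v ≠ v * u := by
    push Not at habel
    obtain ⟨x, hx, y, hy, hxy⟩ := habel
    exact ⟨⟨x, hx⟩, ⟨y, hy⟩, fun h => hxy (congrArg Subtype.val h)⟩
  have hK1 : H ≠ ⊥ := by
    rintro rfl
    obtain ⟨u, v, huv⟩ := hna
    apply huv
    have hu : u = 1 := Subsingleton.elim _ _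
    have hv : v = 1 := Subsingleton.elim _ _
    rw [hu, hv]
  rcases Cfsg.Agent.S1534.result H hK1 hnil hF.hTI hlt hF.hC with
    ⟨-, hcard, -⟩ | ⟨hcard2, hci⟩ | hcoh
  · left
    rw [hidx] at hcard
    omega
  · right
    refine ⟨IsPGroup.of_card hcard2, hna, ?_⟩
    rw [subgroupOf_commutator_eq, hidx] at hci
    omega
  · left
    obtain ⟨-, τ₁, hτ₁, hext⟩ := hcoh
    have c : Coh H {χ : nz H → ℂ | IsIrrCharacter (nz H) χ ∧ Rel H χ} τ₁ := ⟨rfl, hτ₁, hext⟩
    -- a relevant character of degree `e`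
    have hne : H.subgroupOf (nz H) ≠ ⊤ := by
      intro h
      rw [Subgroup.subgroupOf_eq_top] at h
      exact hlt.not_ge h
    have hnil₀ : Group.IsNilpotent ↥(H.subgroupOf (nz H)) :=
      nilpotent_of_kernel_type (H.subgroupOf (nz H)) hne hF.centralizer_le
    have hsolv : Group.IsSolvable ↥(H.subgroupOf (nz H)) := inferInstance
    have hbot : ¬ H.subgroupOf (nz H) ≤ ⊥ := by
      intro h
      apply hK1
      rw [eq_bot_iff]
      intro x hx
      have : (⟨x, Subgroup.le_normalizer hx⟩ : nz H) ∈ H.subgroupOf (nz H) :=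
        Subgroup.mem_subgroupOf.2 hx
      have := h this
      rw [Subgroup.mem_bot] at this ⊢
      exact congrArg Subtype.val this
    obtain ⟨χ₁, hχ₁, hdeg⟩ := exists_linear_induced (H.subgroupOf (nz H)) ⊥ hsolv hbot
    obtain ⟨hirr, k, hk, hkne⟩ := inducedIrrAbove_subset_feitSet (H.subgroupOf (nz H))
      hF.centralizer_le ⊥ hχ₁
    exact coherent_bound hS hH hab c ⟨⟨χ₁, hirr⟩, k, Subgroup.mem_subgroupOf.1 hk, hkne⟩ hdeg

end Cfsg.Agent.Lib.H8.ZasCoh
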